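import Cfsg.Agent.Helper17.ONTC.Fin18

set_option autoImplicit false
set_option linter.all false
set_option maxRecDepth 100000

noncomputable section

namespace Cfsg.Agent.Helper17.ONTC

theorem Q57242 : ∀ i, i < 57242 → P i := stepQ 57241 Q57241 (allL N57241 (tt N35667 (iv1 F165881)) (tt N35666 F165880) (tt N35669 F165877) (tt N86959 (iv3 F377856)) (tt N30393 (iv4 D107515)) (tt N93957 D196992) (tt N35691 F165878) (tt N35580 F165879))
theorem Q57243 : ∀ i, i < 57243 → P i := stepQ 57242 Q57242 (allL N57242 (tt N93856 F402176) (tt N75834 (iv0 F363157)) (tt N93958 D196993) (tt N30396 (iv3 D107516)) (tt N62289 (iv4 F180576)) (tt N93959 D196994) (tt N56800 F165882) (tt N41506 F165883))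
theorem Q57244 : ∀ i, i < 57244 → P i := stepQ 57243 Q57243 (allL N57243 (tt N93955 (iv1 F402580)) (tt N93854 (iv0 F402158)) (tt N41510 F165884) (tt N93959 (iv3 F402602)) (tt N93960 D196995) (tt N30396 (iv5 D107517)) (tt N93961 D196996) (tt N41507 F165885))
theorem Q57245 : ∀ i, i < 57245 → P i := stepQ 57244 Q57244 (allL N57244 (tt N65623 (iv1 F202146)) (tt N31257 F170729) (tt N71704 (iv2 F220393)) (tt N30397 (iv3 D107519)) (tt N59694 (iv4 F173549)) (tt N93962 D196997) (tt N66025 (iv6 F203109)) (tt N41513 (iv7 F166488)))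
theorem Q57246 : ∀ i, i < 57246 → P i := stepQ 57245 Q57245 (allL N57245 (tt N56980 F165887) (tt N32050 F166487) (tt N41511 F166486) (tt N93963 D196998) (tt N30397 (iv4 D107520)) (tt N93964 D196999) (tt N66027 (iv6 F203114)) (tt N41514 (iv7 F166489)))
theorem Q57247 : ∀ i, i < 57247 → P i := stepQ 57246 Q57246 (allL N57246 (tt N35893 F165889) (tt N41454 (iv0 F165890)) (tt N41512 F166400) (tt N93962 (iv3 F402614)) (tt N93965 D197000) (tt N30397 (iv5 D107521)) (tt N30496 F165888) (tt N41515 (iv7 F166395)))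
theorem Q57248 : ∀ i, i < 57248 → P i := stepQ 57247 Q57247 (allL N57247 (tt N31328 F171733) (tt N40329 F171734) (tt N40328 F173021) (tt N30398 (iv3 D107523)) (tt N59749 (iv4 F173776)) (tt N59015 F171735) (tt N60073 F175467) (tt N40327 (iv7 F173020)))
theorem Q57249 : ∀ i, i < 57249 → P i := stepQ 57248 Q57248 (allL N57248 (tt N32050 F165892) (tt N56980 F165893) (tt N41514 F166490) (tt N93966 D197001) (tt N30398 (iv4 D107524)) (tt N93967 D197002) (tt N65565 (iv6 F202043)) (tt N41511 F166485))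
theorem Q57250 : ∀ i, i < 57250 → P i := stepQ 57249 Q57249 (allL N57249 (tt N36755 F348399) (tt N92070 (iv0 F395617)) (tt N47750 F348396) (tt N30399 (iv3 D107525)) (tt N65559 (iv4 F202021)) (tt N65564 F348397) (tt N30401 F165894) (tt N93968 D197003))
theorem Q57251 : ∀ i, i < 57251 → P i := stepQ 57250 Q57250 (allL N57250 (tt N93614 (iv1 F401281)) (tt N35703 F165896) (tt N41519 F165895) (tt N65564 (iv3 F348398)) (tt N93969 D197004) (tt N30399 (iv5 D107526)) (tt N93970 D197005) (tt N93971 D197006))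
theorem Q57252 : ∀ i, i < 57252 → P i := stepQ 57251 Q57251 (allL N57251 (tt N41517 (iv1 F165899)) (tt N41516 F165900) (tt N41520 F165897) (tt N93968 (iv3 F402641)) (tt N30400 F165898) (tt N93971 (iv5 F402663)) (tt N60118 (iv6 F175697)) (tt N30399 (iv7 D107527)))
theorem Q57253 : ∀ i, i < 57253 → P i := stepQ 57252 Q57252 (allL N57252 (tt N60445 (iv1 F176440)) (tt N30401 (iv0 D107528)) (tt N60444 (iv2 F395227)) (tt N93972 D197007) (tt N93973 D197008) (tt N56163 F361380) (tt N93974 D197009) (tt N60443 F395226))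
theorem Q57254 : ∀ i, i < 57254 → P i := stepQ 57253 Q57253 (allL N57253 (tt N30401 (iv1 D107529)) (tt N60445 F176442) (tt N60443 F395222) (tt N93975 D197010) (tt N67487 F395223) (tt N56164 F395220) (tt N67485 (iv6 F395221)) (tt N60444 (iv7 F395225)))
theorem Q57255 : ∀ i, i < 57255 → P i := stepQ 57254 Q57254 (allL N57254 (tt N60444 (iv1 F176441)) (tt N60443 F176437) (tt N30401 (iv2 D107530)) (tt N41523 F165901) (tt N65557 (iv4 F202018)) (tt N93976 D197011) (tt N47750 F325289) (tt N60445 (iv7 F176439)))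
theorem Q57256 : ∀ i, i < 57256 → P i := stepQ 57255 Q57255 (allL N57255 (tt N56222 F383737) (tt N56227 (iv0 F348400)) (tt N93976 (iv2 F402675)) (tt N30402 F165902) (tt N45052 (iv4 F165903)) (tt N30401 (iv5 D107531)) (tt N92110 F395788) (tt N60446 (iv7 F176444)))
theorem Q57257 : ∀ i, i < 57257 → P i := stepQ 57256 Q57256 (allL N57256 (tt N93977 D197012) (tt N93978 D197013) (tt N41525 F165904) (tt N92110 F395787) (tt N32415 F165905) (tt N93970 (iv5 F402658)) (tt N30402 (iv6 D107532)) (tt N93979 D197014))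
theorem Q57258 : ∀ i, i < 57258 → P i := stepQ 57257 Q57257 (allL N57257 (tt N56238 (iv1 F165916)) (tt N56284 (iv0 F165915)) (tt N42355 F165911) (tt N32411 F165912) (tt N30406 (iv4 D107537)) (tt N32523 (iv5 F165917)) (tt N50092 F165913) (tt N41301 F165914))
theorem Q57259 : ∀ i, i < 57259 → P i := stepQ 57258 Q57258 (allL N57258 (tt N92714 (iv1 F397947)) (tt N92722 (iv0 F397976)) (tt N93172 (iv2 F399793)) (tt N93980 D197015) (tt N30407 (iv4 D107538)) (tt N93981 D197016) (tt N93982 D197017) (tt N60802 (iv7 F176934)))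
theorem Q57260 : ∀ i, i < 57260 → P i := stepQ 57259 Q57259 (allL N57259 (tt N93983 D197018) (tt N93984 D197019) (tt N93171 (iv2 F399786)) (tt N30409 F165918) (tt N93982 (iv4 F402702)) (tt N60188 (iv5 F175887)) (tt N30407 (iv6 D107539)) (tt N93985 D197020))
theorem Q57261 : ∀ i, i < 57261 → P i := stepQ 57260 Q57260 (allL N57260 (tt N59150 (iv1 F349567)) (tt N58682 (iv0 F170865)) (tt N65983 F203026) (tt N30408 (iv3 D107540)) (tt N93980 (iv4 F402700)) (tt N31306 F165919) (tt N93986 D197021) (tt N41524 F165920))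
theorem Q57262 : ∀ i, i < 57262 → P i := stepQ 57261 Q57261 (allL N57261 (tt N74380 (iv1 F376521)) (tt N74383 F376520) (tt N60448 (iv2 F176446)) (tt N93986 (iv3 F402713)) (tt N30409 F165921) (tt N86955 (iv5 F383828)) (tt N30408 (iv6 D107541)) (tt N93987 D197022))
theorem Q57263 : ∀ i, i < 57263 → P i := stepQ 57262 Q57262 (allL N57262 (tt N30409 (iv1 D107542)) (tt N60808 F176949) (tt N60807 F176944) (tt N75076 F398516) (tt N93988 D197023) (tt N93905 (iv5 F402362)) (tt N92665 (iv6 F397806)) (tt N56341 F165922))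
theorem Q57264 : ∀ i, i < 57264 → P i := stepQ 57263 Q57263 (allL N57263 (tt N60807 (iv1 F176942)) (tt N56341 F176945) (tt N60808 (iv2 F176946)) (tt N93985 (iv3 F402710)) (tt N93987 (iv4 F402717)) (tt N60191 (iv5 F175888)) (tt N60806 (iv6 F176938)) (tt N30409 (iv7 D107543)))
theorem Q57265 : ∀ i, i < 57265 → P i := stepQ 57264 Q57264 (allL N57264 (tt N76328 (iv1 F238343)) (tt N76325 (iv0 F238331)) (tt N76407 (iv2 F238530)) (tt N93989 D197024) (tt N30413 (iv4 D107544)) (tt N93990 D197025) (tt N93991 D197026) (tt N68130 (iv7 F209172)))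
theorem Q57266 : ∀ i, i < 57266 → P i := stepQ 57265 Q57265 (allL N57265 (tt N93992 D197027) (tt N92961 (iv0 F398933)) (tt N76408 (iv2 F238534)) (tt N37460 F165923) (tt N93991 (iv4 F402735)) (tt N75751 (iv5 F233636)) (tt N30413 (iv6 D107545)) (tt N93993 D197028))
theorem Q57267 : ∀ i, i < 57267 → P i := stepQ 57266 Q57266 (allL N57266 (tt N76325 (iv1 F238332)) (tt N76328 (iv0 F238342)) (tt N68130 (iv2 F209171)) (tt N51417 F376837) (tt N30414 (iv4 D107546)) (tt N93994 D197029) (tt N93995 D197030) (tt N76407 (iv7 F238531)))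
theorem Q57268 : ∀ i, i < 57268 → P i := stepQ 57267 Q57267 (allL N57267 (tt N76391 F238511) (tt N93996 D197031) (tt N68131 (iv2 F209175)) (tt N86041 (iv3 F374983)) (tt N93995 (iv4 F402750)) (tt N76348 (iv5 F238405)) (tt N30414 (iv6 D107547)) (tt N93997 D197032))
theorem Q57269 : ∀ i, i < 57269 → P i := stepQ 57268 Q57268 (allL N57268 (tt N76261 (iv1 F238040)) (tt N76452 (iv0 F238926)) (tt N30417 F165924) (tt N85094 (iv3 F371608)) (tt N30415 (iv4 D107548)) (tt N85084 (iv5 F371588)) (tt N38315 F322880) (tt N43068 F165925))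
theorem Q57270 : ∀ i, i < 57270 → P i := stepQ 57269 Q57269 (allL N57269 (tt N78285 F316749) (tt N78284 F316750) (tt N30418 F165926) (tt N58914 (iv3 F171444)) (tt N38315 F316751) (tt N42451 F165927) (tt N30415 (iv6 D107549)) (tt N68432 F316752))
theorem Q57271 : ∀ i, i < 57271 → P i := stepQ 57270 Q57270 (allL N57270 (tt N43071 F165931) (tt N43070 F165932) (tt N43074 F165928) (tt N93998 D197033) (tt N30416 (iv4 D107550)) (tt N43139 F165930) (tt N93999 D197034) (tt N43007 F165929))
theorem Q57272 : ∀ i, i < 57272 → P i := stepQ 57271 Q57271 (allL N57271 (tt N92951 (iv1 F398892)) (tt N86843 F398891) (tt N43075 F165933) (tt N51310 F165934) (tt N93999 (iv4 F402765)) (tt N94000 D197035) (tt N30416 (iv6 D107551)) (tt N94001 D197036))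
theorem Q57273 : ∀ i, i < 57273 → P i := stepQ 57272 Q57272 (allL N57272 (tt N43068 (iv1 F165944)) (tt N30417 (iv0 D107552)) (tt N76261 (iv2 F238037)) (tt N74480 F341589) (tt N56088 F165935) (tt N94002 D197037) (tt N74478 (iv6 F341588)) (tt N76452 (iv7 F238925)))
theorem Q57274 : ∀ i, i < 57274 → P i := stepQ 57273 Q57273 (allL N57273 (tt N30417 (iv1 D107553)) (tt N43068 F165936) (tt N76452 (iv2 F238924)) (tt N68382 F341585) (tt N68444 (iv4 F210502)) (tt N94003 D197038) (tt N86844 (iv6 F398889)) (tt N76261 (iv7 F238038)))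
theorem Q57275 : ∀ i, i < 57275 → P i := stepQ 57274 Q57274 (allL N57274 (tt N94004 D197039) (tt N94005 D197040) (tt N85084 (iv2 F371585)) (tt N56434 F322882) (tt N43131 F165939) (tt N30417 (iv5 D107555)) (tt N44953 F322883) (tt N94006 D197041))
theorem Q57276 : ∀ i, i < 57276 → P i := stepQ 57275 Q57275 (allL N57275 (tt N76452 (iv1 F238927)) (tt N76261 (iv0 F238039)) (tt N43068 F165941) (tt N56435 (iv3 F324329)) (tt N30419 F165943) (tt N94006 (iv5 F402797)) (tt N78289 (iv6 F349261)) (tt N30417 (iv7 D107557)))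
theorem Q57277 : ∀ i, i < 57277 → P i := stepQ 57276 Q57276 (allL N57276 (tt N68432 (iv1 F340674)) (tt N30418 (iv0 D107558)) (tt N78285 (iv2 F340671)) (tt N38213 F350609) (tt N57700 F340670) (tt N82577 (iv5 F340673)) (tt N86840 F377391) (tt N78284 (iv7 F340672)))
theorem Q57278 : ∀ i, i < 57278 → P i := stepQ 57277 Q57277 (allL N57277 (tt N30418 (iv1 D107559)) (tt N68432 F319144) (tt N78284 F319145) (tt N94007 D197042) (tt N43111 F319146) (tt N92216 (iv5 F396306)) (tt N94008 D197043) (tt N78285 F319147))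
theorem Q57279 : ∀ i, i < 57279 → P i := stepQ 57278 Q57278 (allL N57278 (tt N68159 F372535) (tt N94009 D197044) (tt N43069 F165947) (tt N30425 F165948) (tt N78289 F349257) (tt N41759 F165949) (tt N30419 (iv6 D107561)) (tt N78286 (iv7 F349256)))
theorem Q57280 : ∀ i, i < 57280 → P i := stepQ 57279 Q57279 (allL N57279 (tt N56721 (iv1 F165950)) (tt N30420 (iv0 D107562)) (tt N56723 F358292) (tt N94010 D197045) (tt N56448 (iv4 F364645)) (tt N69471 F343683) (tt N94011 D197046) (tt N56722 (iv7 F358294)))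
theorem Q57281 : ∀ i, i < 57281 → P i := stepQ 57280 Q57280 (allL N57280 (tt N30420 (iv1 D107563)) (tt N56721 F165954) (tt N56722 (iv2 F358296)) (tt N94012 D197047) (tt N56449 (iv4 F364642)) (tt N69472 (iv5 F358297)) (tt N94013 D197048) (tt N56723 F358295))
theorem Q57282 : ∀ i, i < 57282 → P i := stepQ 57281 Q57281 (allL N57281 (tt N86837 (iv1 F396411)) (tt N61282 (iv0 F396410)) (tt N94014 D197049) (tt N30422 (iv3 D107570)) (tt N94015 D197050) (tt N92237 (iv5 F396406)) (tt N94016 D197051) (tt N58935 (iv7 F171487)))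
theorem Q57283 : ∀ i, i < 57283 → P i := stepQ 57282 Q57282 (allL N57282 (tt N92957 F398917) (tt N94017 D197052) (tt N58934 (iv2 F171480)) (tt N94016 (iv3 F402829)) (tt N52673 F373521) (tt N38290 F165960) (tt N30422 (iv6 D107572)) (tt N94018 D197053))
theorem Q57284 : ∀ i, i < 57284 → P i := stepQ 57283 Q57283 (allL N57283 (tt N43037 F259151) (tt N78962 F259152) (tt N78960 F258987) (tt N30423 (iv3 D107573)) (tt N94019 D197054) (tt N32925 F165961) (tt N94020 D197055) (tt N58933 (iv7 F171477)))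
theorem Q57285 : ∀ i, i < 57285 → P i := stepQ 57284 Q57284 (allL N57284 (tt N86834 F377371) (tt N65609 (iv0 F332833)) (tt N58936 (iv2 F171490)) (tt N94020 (iv3 F402842)) (tt N60570 (iv4 F347538)) (tt N32932 F165962) (tt N30423 (iv6 D107575)) (tt N94021 D197056))
theorem Q57286 : ∀ i, i < 57286 → P i := stepQ 57285 Q57285 (allL N57285 (tt N58939 (iv1 F171501)) (tt N58938 F171498) (tt N58937 (iv2 F171492)) (tt N78286 F343664) (tt N56727 F165963) (tt N78949 (iv5 F251518)) (tt N30424 (iv6 D107576)) (tt N30425 F165964))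
theorem Q57287 : ∀ i, i < 57287 → P i := stepQ 57286 Q57286 (allL N57286 (tt N30425 (iv1 D107577)) (tt N58937 F171495) (tt N58939 F171503) (tt N86777 (iv3 F377146)) (tt N56570 (iv4 F358288)) (tt N94022 D197057) (tt N94023 D197058) (tt N58938 F171500))
theorem Q57288 : ∀ i, i < 57288 → P i := stepQ 57287 Q57287 (allL N57287 (tt N94024 D197059) (tt N94025 D197060) (tt N94026 D197061) (tt N30426 (iv3 D107578)) (tt N30790 F165965) (tt N36101 F330504) (tt N94027 D197062) (tt N30935 F165966))
theorem Q57289 : ∀ i, i < 57289 → P i := stepQ 57288 Q57288 (allL N57288 (tt N31267 F165970) (tt N31259 F165971) (tt N32238 F165967) (tt N36101 F330508) (tt N33051 F165969) (tt N30426 (iv5 D107579)) (tt N63514 (iv6 F336278)) (tt N30936 F165968))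
theorem Q57290 : ∀ i, i < 57290 → P i := stepQ 57289 Q57289 (allL N57289 (tt N63562 (iv1 F326677)) (tt N63566 (iv0 F326685)) (tt N32239 F165972) (tt N94027 (iv3 F402876)) (tt N30789 F165973) (tt N76520 F351706) (tt N30426 (iv6 D107580)) (tt N66033 (iv7 F203143)))
theorem Q57291 : ∀ i, i < 57291 → P i := stepQ 57290 Q57290 (allL N57290 (tt N58673 F170143) (tt N94028 D197063) (tt N80057 (iv2 F341934)) (tt N30427 (iv3 D107581)) (tt N32260 F165974) (tt N94029 D197064) (tt N64265 F341933) (tt N32237 F165975))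
theorem Q57292 : ∀ i, i < 57292 → P i := stepQ 57291 Q57291 (allL N57291 (tt N31259 F165979) (tt N31267 F165980) (tt N30936 F165976) (tt N94029 (iv3 F402883)) (tt N33048 F165977) (tt N30427 (iv5 D107582)) (tt N36094 F330506) (tt N32238 F165978))
theorem Q57293 : ∀ i, i < 57293 → P i := stepQ 57292 Q57292 (allL N57292 (tt N35780 F179350) (tt N35783 F172748) (tt N30937 F165981) (tt N64265 (iv3 F341935)) (tt N30934 F165982) (tt N94030 D197065) (tt N30427 (iv6 D107583)) (tt N80058 F363220))
theorem Q57294 : ∀ i, i < 57294 → P i := stepQ 57293 Q57293 (allL N57293 (tt N58752 (iv1 F170596)) (tt N30428 (iv0 D107584)) (tt N58751 (iv2 F170591)) (tt N75413 F351990) (tt N87455 (iv4 F379381)) (tt N73328 (iv5 F224406)) (tt N81004 F353245) (tt N58750 F170592))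
theorem Q57295 : ∀ i, i < 57295 → P i := stepQ 57294 Q57294 (allL N57294 (tt N30428 (iv1 D107585)) (tt N58752 F170597) (tt N58750 F170590) (tt N94031 D197066) (tt N36332 (iv4 F165983)) (tt N92495 (iv5 F397157)) (tt N94032 D197067) (tt N58751 (iv7 F170589)))
theorem Q57296 : ∀ i, i < 57296 → P i := stepQ 57295 Q57295 (allL N57295 (tt N58751 (iv1 F170593)) (tt N58750 F170587) (tt N30428 (iv2 D107586)) (tt N57302 (iv3 F165995)) (tt N59849 (iv4 F174301)) (tt N92547 (iv5 F397331)) (tt N57492 (iv6 F166911)) (tt N58752 (iv7 F170595)))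
theorem Q57297 : ∀ i, i < 57297 → P i := stepQ 57296 Q57296 (allL N57296 (tt N74279 F228556) (tt N94033 D197068) (tt N92547 (iv2 F397330)) (tt N30429 F165984) (tt N73319 (iv4 F224370)) (tt N30428 (iv5 D107587)) (tt N94034 D197069) (tt N58753 (iv7 F170599)))
theorem Q57298 : ∀ i, i < 57298 → P i := stepQ 57297 Q57297 (allL N57297 (tt N32059 (iv1 F165987)) (tt N30429 (iv0 D107588)) (tt N32232 (iv2 F165988)) (tt N67733 F359830) (tt N33059 F165986) (tt N30774 F165985) (tt N94035 D197070) (tt N30876 (iv7 F165989)))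
theorem Q57299 : ∀ i, i < 57299 → P i := stepQ 57298 Q57298 (allL N57298 (tt N30429 (iv1 D107589)) (tt N32059 F165990) (tt N30876 (iv2 F165994)) (tt N94036 D197071) (tt N33058 F165993) (tt N30869 F165992) (tt N94037 D197072) (tt N32232 F165991))
theorem Q57300 : ∀ i, i < 57300 → P i := stepQ 57299 Q57299 (allL N57299 (tt N57305 (iv1 F351355)) (tt N57339 (iv0 F345603)) (tt N57304 (iv2 F165997)) (tt N94034 (iv3 F402902)) (tt N61881 (iv4 F179636)) (tt N57495 (iv5 F166933)) (tt N30429 (iv6 D107590)) (tt N57338 (iv7 F360182)))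
theorem Q57301 : ∀ i, i < 57301 → P i := stepQ 57300 Q57300 (allL N57300 (tt N60057 (iv1 F175411)) (tt N30430 (iv0 D107591)) (tt N59624 (iv2 F173301)) (tt N60625 F176660) (tt N59623 F173302) (tt N47550 F334615) (tt N47129 F334616) (tt N60056 (iv7 F175406)))
theorem Q57302 : ∀ i, i < 57302 → P i := stepQ 57301 Q57301 (allL N57301 (tt N30430 (iv1 D107592)) (tt N60057 F175412) (tt N60056 F175404) (tt N46154 F324592) (tt N58719 (iv4 F170501)) (tt N66555 (iv5 F346482)) (tt N46153 F324593) (tt N59624 (iv7 F173300)))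
theorem Q57303 : ∀ i, i < 57303 → P i := stepQ 57302 Q57302 (allL N57302 (tt N59624 (iv1 F175407)) (tt N60056 F175405) (tt N30430 (iv2 D107593)) (tt N57295 F165995) (tt N69686 (iv4 F215894)) (tt N81826 (iv5 F346469)) (tt N57497 (iv6 F166935)) (tt N60057 (iv7 F175410)))
theorem Q57304 : ∀ i, i < 57304 → P i := stepQ 57303 Q57303 (allL N57303 (tt N81820 F346483) (tt N81827 F362010) (tt N81826 F346470) (tt N30431 F165996) (tt N90699 (iv4 F390556)) (tt N30430 (iv5 D107594)) (tt N81488 F346480) (tt N60058 (iv7 F175414)))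
theorem Q57305 : ∀ i, i < 57305 → P i := stepQ 57304 Q57304 (allL N57304 (tt N82169 F362011) (tt N30453 F360181) (tt N57299 F165997) (tt N81488 (iv3 F346481)) (tt N93508 (iv4 F400976)) (tt N57499 (iv5 F166939)) (tt N30431 (iv6 D107595)) (tt N94038 D197073))
theorem Q57306 : ∀ i, i < 57306 → P i := stepQ 57305 Q57305 (allL N57305 (tt N94038 (iv1 F402924)) (tt N57299 F351355) (tt N82169 F362012) (tt N30433 (iv3 D107598)) (tt N57551 (iv4 F167099)) (tt N88201 (iv5 F382153)) (tt N94039 D197074) (tt N30453 F166004))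
theorem Q57307 : ∀ i, i < 57307 → P i := stepQ 57306 Q57306 (allL N57306 (tt N30735 F166008) (tt N60356 F176270) (tt N30462 F166005) (tt N88201 (iv3 F382150)) (tt N33010 F166006) (tt N30433 (iv5 D107599)) (tt N46994 F328859) (tt N30454 F166007))
theorem Q57308 : ∀ i, i < 57308 → P i := stepQ 57307 Q57307 (allL N57307 (tt N71359 (iv1 F219953)) (tt N36046 (iv0 F166011)) (tt N30463 F166009) (tt N94039 (iv3 F402925)) (tt N30434 F166010) (tt N94040 D197075) (tt N30433 (iv6 D107600)) (tt N71358 (iv7 F219944)))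
theorem Q57309 : ∀ i, i < 57309 → P i := stepQ 57308 Q57308 (allL N57308 (tt N48106 F350805) (tt N35445 F350806) (tt N48105 F321606) (tt N30435 (iv3 D107601)) (tt N31548 F166013) (tt N82158 F336290) (tt N75432 F334601) (tt N30475 F166014))
theorem Q57310 : ∀ i, i < 57310 → P i := stepQ 57309 Q57309 (allL N57309 (tt N57337 (iv1 F166248)) (tt N57334 (iv0 F166243)) (tt N30469 F166015) (tt N82158 (iv3 F336292)) (tt N33003 F166016) (tt N30435 (iv5 D107602)) (tt N74353 (iv6 F331687)) (tt N30476 F166017))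
theorem Q57311 : ∀ i, i < 57311 → P i := stepQ 57310 Q57310 (allL N57310 (tt N75403 (iv1 F344158)) (tt N75407 (iv0 F344148)) (tt N30470 F166018) (tt N75432 (iv3 F334598)) (tt N30436 F166019) (tt N74354 F331694) (tt N30435 (iv6 D107603)) (tt N94041 D197076))
theorem Q57312 : ∀ i, i < 57312 → P i := stepQ 57311 Q57311 (allL N57311 (tt N30436 (iv1 D107605)) (tt N30473 F166022) (tt N30472 (iv2 F166145)) (tt N57507 F166961) (tt N71154 (iv4 F219555)) (tt N58761 (iv5 F170616)) (tt N59985 (iv6 F175121)) (tt N30471 F166144))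
theorem Q57313 : ∀ i, i < 57313 → P i := stepQ 57312 Q57312 (allL N57312 (tt N30472 (iv1 F166027)) (tt N30471 (iv0 F166028)) (tt N30473 F166023) (tt N40337 F166024) (tt N94041 (iv4 F402935)) (tt N31270 F166025) (tt N30480 F166026) (tt N30436 (iv7 D107606)))
theorem Q57314 : ∀ i, i < 57314 → P i := stepQ 57313 Q57313 (allL N57313 (tt N57328 (iv1 F166226)) (tt N41300 F166034) (tt N30485 F166031) (tt N75225 (iv3 F339418)) (tt N32994 F166032) (tt N30437 (iv5 D107608)) (tt N61013 (iv6 F353775)) (tt N30482 F166033))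
theorem Q57315 : ∀ i, i < 57315 → P i := stepQ 57314 Q57314 (allL N57314 (tt N75996 F322418) (tt N78728 F350992) (tt N64031 F350991) (tt N30439 F166040) (tt N41927 F322419) (tt N30438 (iv5 D107613)) (tt N94042 D197077) (tt N61759 (iv7 F179436)))
theorem Q57316 : ∀ i, i < 57316 → P i := stepQ 57315 Q57315 (allL N57315 (tt N77643 (iv1 F346131)) (tt N94043 D197078) (tt N30490 F166042) (tt N94042 (iv3 F402941)) (tt N61764 (iv4 F179446)) (tt N36020 F166043) (tt N30439 (iv6 D107615)) (tt N70495 (iv7 F338698)))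
theorem Q57317 : ∀ i, i < 57317 → P i := stepQ 57316 Q57316 (allL N57316 (tt N36167 (iv1 F166047)) (tt N36166 (iv0 F166048)) (tt N30492 F166044) (tt N79583 F353994) (tt N30441 F166045) (tt N48372 (iv5 F338767)) (tt N30440 (iv6 D107616)) (tt N36021 F166046))
theorem Q57318 : ∀ i, i < 57318 → P i := stepQ 57317 Q57317 (allL N57317 (tt N30872 F166053) (tt N58989 F171695) (tt N33539 F166049) (tt N30886 F166050) (tt N44195 F166051) (tt N56211 F166052) (tt N30442 (iv6 D107617)) (tt N58988 (iv7 F171688)))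
theorem Q57319 : ∀ i, i < 57319 → P i := stepQ 57318 Q57318 (allL N57318 (tt N60400 (iv1 F347951)) (tt N62149 (iv0 F347950)) (tt N62150 (iv2 F355509)) (tt N30443 (iv3 D107618)) (tt N30453 F166055) (tt N77851 (iv5 F245130)) (tt N63621 (iv6 F345601)) (tt N57551 (iv7 F167101)))
theorem Q57320 : ∀ i, i < 57320 → P i := stepQ 57319 Q57319 (allL N57319 (tt N39691 F166057) (tt N39692 F166058) (tt N57522 (iv2 F167010)) (tt N63621 F345602) (tt N30444 F166056) (tt N88406 (iv5 F382909)) (tt N30443 (iv6 D107619)) (tt N77886 (iv7 F245229)))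
theorem Q57321 : ∀ i, i < 57321 → P i := stepQ 57320 Q57320 (allL N57320 (tt N57525 (iv1 F167036)) (tt N30444 (iv0 D107620)) (tt N57523 (iv2 F167026)) (tt N32099 (iv3 F166210)) (tt N44199 (iv4 F166212)) (tt N44455 F166211) (tt N36025 F166209) (tt N57524 (iv7 F167019)))
theorem Q57322 : ∀ i, i < 57322 → P i := stepQ 57321 Q57321 (allL N57321 (tt N30444 (iv1 D107621)) (tt N57525 F167035) (tt N57524 F167031) (tt N59018 F171762) (tt N44200 (iv4 F167032)) (tt N65450 (iv5 F201737)) (tt N94044 D197079) (tt N57523 F167030))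
theorem Q57323 : ∀ i, i < 57323 → P i := stepQ 57322 Q57322 (allL N57322 (tt N57524 (iv1 F167016)) (tt N57523 F167033) (tt N57525 (iv2 F167034)) (tt N30457 F166217) (tt N77886 (iv4 F245226)) (tt N39746 F166218) (tt N41119 F166219) (tt N30444 (iv7 D107622)))
theorem Q57324 : ∀ i, i < 57324 → P i := stepQ 57323 Q57323 (allL N57323 (tt N69550 F214811) (tt N74411 F328836) (tt N74412 F328837) (tt N30446 (iv3 D107623)) (tt N57709 (iv4 F167590)) (tt N45091 (iv5 F329170)) (tt N94045 D197080) (tt N45090 F328838))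
theorem Q57325 : ∀ i, i < 57325 → P i := stepQ 57324 Q57324 (allL N57324 (tt N37327 F171521) (tt N37328 (iv0 F169228)) (tt N65700 (iv2 F202268)) (tt N94045 (iv3 F402959)) (tt N30447 F166220) (tt N94046 D197081) (tt N30446 (iv6 D107624)) (tt N71816 (iv7 F220678)))
theorem Q57326 : ∀ i, i < 57326 → P i := stepQ 57325 Q57325 (allL N57325 (tt N30447 (iv1 D107626)) (tt N65701 F202276) (tt N58818 (iv2 F170818)) (tt N37659 (iv3 F171519)) (tt N61681 (iv4 F179246)) (tt N55687 (iv5 F166222)) (tt N94047 D197082) (tt N65699 (iv7 F202266)))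
theorem Q57327 : ∀ i, i < 57327 → P i := stepQ 57326 Q57326 (allL N57326 (tt N58818 (iv1 F170822)) (tt N65699 F202267) (tt N65701 (iv2 F202272)) (tt N57712 (iv3 F167599)) (tt N71816 (iv4 F220677)) (tt N65693 (iv5 F202250)) (tt N66064 (iv6 F203280)) (tt N30447 (iv7 D107627)))
theorem Q57328 : ∀ i, i < 57328 → P i := stepQ 57327 Q57327 (allL N57327 (tt N48234 F318486) (tt N48233 F318487) (tt N35485 F318488) (tt N30449 (iv3 D107628)) (tt N57526 (iv4 F167037)) (tt N82240 F318489) (tt N73809 (iv6 F353523)) (tt N48235 (iv7 F320511)))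
theorem Q57329 : ∀ i, i < 57329 → P i := stepQ 57328 Q57328 (allL N57328 (tt N38855 F166225) (tt N57313 F166226) (tt N37009 F166223) (tt N82240 F318490) (tt N37308 F166224) (tt N30449 (iv5 D107629)) (tt N94048 D197083) (tt N57390 (iv7 F166353)))
theorem Q57330 : ∀ i, i < 57330 → P i := stepQ 57329 Q57329 (allL N57329 (tt N79828 F336492) (tt N94049 D197084) (tt N37008 F166227) (tt N73809 (iv3 F353522)) (tt N30450 F166228) (tt N58199 (iv5 F325252)) (tt N30449 (iv6 D107630)) (tt N94050 D197085))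
theorem Q57331 : ∀ i, i < 57331 → P i := stepQ 57330 Q57330 (allL N57330 (tt N33558 F166231) (tt N30450 (iv0 D107631)) (tt N37006 (iv2 F171857)) (tt N74218 F227023) (tt N94051 D197086) (tt N37056 F166229) (tt N57411 (iv6 F166391)) (tt N37007 (iv7 F171860)))
theorem Q57332 : ∀ i, i < 57332 → P i := stepQ 57331 Q57331 (allL N57331 (tt N30450 (iv1 D107632)) (tt N33558 F166232) (tt N37007 F171861) (tt N62124 (iv3 F330587)) (tt N58065 F344735) (tt N37110 (iv5 F166233)) (tt N36039 F166234) (tt N37006 F171859))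
theorem Q57333 : ∀ i, i < 57333 → P i := stepQ 57332 Q57332 (allL N57332 (tt N37007 (iv1 F166239)) (tt N37006 (iv0 F166240)) (tt N33558 F166235) (tt N41569 F166236) (tt N94050 (iv4 F402985)) (tt N36889 F166237) (tt N33556 F166238) (tt N30450 (iv7 D107633)))
theorem Q57334 : ∀ i, i < 57334 → P i := stepQ 57333 Q57333 (allL N57333 (tt N94052 D197087) (tt N82151 (iv0 F379786)) (tt N94053 D197088) (tt N30451 (iv3 D107634)) (tt N38484 F166241) (tt N94054 D197089) (tt N94055 D197090) (tt N68056 (iv7 F209087)))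
theorem Q57335 : ∀ i, i < 57335 → P i := stepQ 57334 Q57334 (allL N57334 (tt N57309 F166243) (tt N55910 F166244) (tt N57367 F166310) (tt N94054 (iv3 F403002)) (tt N38225 F166242) (tt N30451 (iv5 D107635)) (tt N94056 D197091) (tt N57366 F166305))
theorem Q57336 : ∀ i, i < 57336 → P i := stepQ 57335 Q57335 (allL N57335 (tt N94051 (iv1 F402995)) (tt N58065 (iv0 F344734)) (tt N68053 (iv2 F209075)) (tt N94055 (iv3 F403005)) (tt N38163 F166245) (tt N58186 (iv5 F330500)) (tt N30451 (iv6 D107636)) (tt N71614 (iv7 F220293)))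
theorem Q57337 : ∀ i, i < 57337 → P i := stepQ 57336 Q57336 (allL N57336 (tt N48150 F331955) (tt N47528 F331956) (tt N82145 F345585) (tt N30452 (iv3 D107637)) (tt N57643 (iv4 F167295)) (tt N81398 F331957) (tt N47313 F331958) (tt N68052 (iv7 F209074)))
theorem Q57338 : ∀ i, i < 57338 → P i := stepQ 57337 Q57337 (allL N57337 (tt N55910 F166247) (tt N57309 F166248) (tt N57366 F166304) (tt N81398 F339215) (tt N38228 F166246) (tt N30452 (iv5 D107638)) (tt N76550 (iv6 F339216)) (tt N57367 (iv7 F166307)))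
theorem Q57339 : ∀ i, i < 57339 → P i := stepQ 57338 Q57338 (allL N57338 (tt N30453 (iv1 D107640)) (tt N82169 F362014) (tt N94038 (iv2 F402921)) (tt N94057 D197092) (tt N60214 (iv4 F175917)) (tt N94058 D197093) (tt N94059 D197094) (tt N57299 F360182))
theorem Q57340 : ∀ i, i < 57340 → P i := stepQ 57339 Q57339 (allL N57339 (tt N57299 F345603) (tt N94038 F402923) (tt N30453 (iv2 D107641)) (tt N65301 F345606) (tt N62150 (iv4 F355511)) (tt N88080 (iv5 F381722)) (tt N63513 (iv6 F345600)) (tt N82169 (iv7 F362013)))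
theorem Q57341 : ∀ i, i < 57341 → P i := stepQ 57340 Q57340 (allL N57340 (tt N94060 D197095) (tt N94061 D197096) (tt N88080 (iv2 F381719)) (tt N30454 F166249) (tt N51896 F328856) (tt N30453 (iv5 D107642)) (tt N43254 F328857) (tt N88201 (iv7 F382152)))
theorem Q57342 : ∀ i, i < 57342 → P i := stepQ 57341 Q57341 (allL N57341 (tt N30462 (iv1 F166253)) (tt N30454 (iv0 D107644)) (tt N60356 (iv2 F176267)) (tt N94062 D197097) (tt N38234 F166252) (tt N30467 F166251) (tt N94063 D197098) (tt N30735 F166254))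
theorem Q57343 : ∀ i, i < 57343 → P i := stepQ 57342 Q57342 (allL N57342 (tt N78254 F247409) (tt N30455 (iv0 D107646)) (tt N68063 (iv2 F209093)) (tt N94064 D197099) (tt N39256 F166255) (tt N66431 (iv5 F204153)) (tt N36054 (iv6 F166256)) (tt N68064 (iv7 F209099)))
theorem Q57344 : ∀ i, i < 57344 → P i := stepQ 57343 Q57343 (allL N57343 (tt N30455 (iv1 D107647)) (tt N78254 (iv0 F247408)) (tt N68064 (iv2 F209098)) (tt N81474 F345591) (tt N39257 (iv4 F166257)) (tt N66430 (iv5 F204152)) (tt N94065 D197100) (tt N68063 (iv7 F209095)))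
theorem Q57345 : ∀ i, i < 57345 → P i := stepQ 57344 Q57344 (allL N57344 (tt N68064 (iv1 F209101)) (tt N68063 (iv0 F209097)) (tt N78254 (iv2 F247405)) (tt N63510 F345605) (tt N30457 F166258) (tt N63509 F331892) (tt N71358 F219947) (tt N30455 (iv7 D107649)))
theorem Q57346 : ∀ i, i < 57346 → P i := stepQ 57345 Q57345 (allL N57345 (tt N47600 F328143) (tt N37245 F166261) (tt N41288 F166259) (tt N94066 D197101) (tt N30456 (iv4 D107650)) (tt N66472 (iv5 F204226)) (tt N36058 F166260) (tt N71099 (iv7 F219433)))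
theorem Q57347 : ∀ i, i < 57347 → P i := stepQ 57346 Q57346 (allL N57346 (tt N64686 (iv1 F336383)) (tt N77325 F336379) (tt N77323 F336348) (tt N30459 (iv3 D107651)) (tt N30461 F166262) (tt N59314 (iv5 F172561)) (tt N94067 D197102) (tt N38436 F166263))
theorem Q57348 : ∀ i, i < 57348 → P i := stepQ 57347 Q57347 (allL N57347 (tt N40096 (iv1 F166267)) (tt N33260 (iv0 F166266)) (tt N38465 F166264) (tt N94067 (iv3 F403048)) (tt N30460 F166265) (tt N94068 D197103) (tt N30459 (iv6 D107652)) (tt N40094 (iv7 F166268)))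
theorem Q57349 : ∀ i, i < 57349 → P i := stepQ 57348 Q57348 (allL N57348 (tt N38468 (iv1 F166272)) (tt N30460 (iv0 D107653)) (tt N38466 (iv2 F166270)) (tt N70214 (iv3 F216985)) (tt N44338 F166269) (tt N58945 (iv5 F171531)) (tt N58984 (iv6 F171674)) (tt N36065 F166271))
theorem Q57350 : ∀ i, i < 57350 → P i := stepQ 57349 Q57349 (allL N57349 (tt N36065 (iv1 F166277)) (tt N38466 F166278) (tt N38468 F166273) (tt N30465 F166274) (tt N40094 F166275) (tt N67225 (iv5 F206954)) (tt N38440 F166276) (tt N30460 (iv7 D107654)))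
theorem Q57351 : ∀ i, i < 57351 → P i := stepQ 57350 Q57350 (allL N57350 (tt N77260 F330644) (tt N44880 F342709) (tt N82170 (iv2 F345979)) (tt N30462 F166279) (tt N43758 F329468) (tt N30461 (iv5 D107658)) (tt N94069 D197104) (tt N36533 F329469))
theorem Q57352 : ∀ i, i < 57352 → P i := stepQ 57351 Q57351 (allL N57351 (tt N75445 F342712) (tt N94070 D197105) (tt N82171 F366249) (tt N30463 F166280) (tt N94067 (iv4 F403049)) (tt N94071 D197106) (tt N30461 (iv6 D107659)) (tt N94072 D197107))
theorem Q57353 : ∀ i, i < 57353 → P i := stepQ 57352 Q57352 (allL N57352 (tt N46995 F329470) (tt N46979 F329471) (tt N46994 F329472) (tt N94069 (iv3 F403055)) (tt N61758 (iv4 F179430)) (tt N83231 F332315) (tt N30462 (iv6 D107660)) (tt N43255 F329473))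
theorem Q57354 : ∀ i, i < 57354 → P i := stepQ 57353 Q57353 (allL N57353 (tt N71358 (iv1 F219943)) (tt N30463 (iv0 D107661)) (tt N71359 (iv2 F219949)) (tt N46689 F330941) (tt N38168 F166281) (tt N46687 F330942) (tt N71353 (iv6 F219924)) (tt N36046 (iv7 F166282)))
theorem Q57355 : ∀ i, i < 57355 → P i := stepQ 57354 Q57354 (allL N57354 (tt N46868 F340660) (tt N94073 D197108) (tt N94040 (iv2 F402927)) (tt N94071 (iv3 F403066)) (tt N89042 (iv4 F384933)) (tt N30463 (iv5 D107662)) (tt N83231 F340655) (tt N94074 D197109))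
theorem Q57356 : ∀ i, i < 57356 → P i := stepQ 57355 Q57355 (allL N57355 (tt N36046 (iv1 F166284)) (tt N71359 F219952) (tt N71358 F219946) (tt N94072 (iv3 F403071)) (tt N30465 F166283) (tt N94074 (iv5 F403084)) (tt N78254 (iv6 F247406)) (tt N30463 (iv7 D107663)))
theorem Q57357 : ∀ i, i < 57357 → P i := stepQ 57356 Q57356 (allL N57356 (tt N60208 (iv1 F175904)) (tt N30466 (iv0 D107664)) (tt N60207 F175896) (tt N32104 (iv3 F166289)) (tt N44224 (iv4 F166290)) (tt N91290 (iv5 F392577)) (tt N36202 F166288) (tt N57665 (iv7 F167344)))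
theorem Q57358 : ∀ i, i < 57358 → P i := stepQ 57357 Q57357 (allL N57357 (tt N30466 (iv1 D107665)) (tt N60208 F175903) (tt N57665 (iv2 F175898)) (tt N70148 (iv3 F216794)) (tt N44225 (iv4 F175905)) (tt N91292 (iv5 F392583)) (tt N94075 D197110) (tt N60207 F175897))
theorem Q57359 : ∀ i, i < 57359 → P i := stepQ 57358 Q57358 (allL N57358 (tt N57665 (iv1 F175783)) (tt N60207 F175899) (tt N60208 (iv2 F175900)) (tt N30473 F166292) (tt N77830 (iv4 F245094)) (tt N31350 F166293) (tt N60210 (iv6 F175913)) (tt N30466 (iv7 D107666)))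
theorem Q57360 : ∀ i, i < 57360 → P i := stepQ 57359 Q57359 (allL N57359 (tt N94076 D197111) (tt N94077 D197112) (tt N94078 D197113) (tt N30467 (iv3 D107667)) (tt N30767 F166294) (tt N94062 (iv5 F403026)) (tt N94079 D197114) (tt N30734 F166295))
theorem Q57361 : ∀ i, i < 57361 → P i := stepQ 57360 Q57360 (allL N57360 (tt N36173 (iv1 F166986)) (tt N36169 (iv0 F166298)) (tt N60357 (iv2 F176272)) (tt N94079 (iv3 F403110)) (tt N30736 F166296) (tt N75399 F346277) (tt N30467 (iv6 D107668)) (tt N36091 F166297))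
theorem Q57362 : ∀ i, i < 57362 → P i := stepQ 57361 Q57361 (allL N57361 (tt N77976 (iv1 F245456)) (tt N30468 (iv0 D107669)) (tt N77979 (iv2 F245467)) (tt N81807 F344863) (tt N48025 F344864) (tt N94060 F403023) (tt N81801 (iv6 F344872)) (tt N77978 F245468))
theorem Q57363 : ∀ i, i < 57363 → P i := stepQ 57362 Q57362 (allL N57362 (tt N30468 (iv1 D107670)) (tt N77976 (iv0 F245455)) (tt N77978 F245466) (tt N94080 D197115) (tt N48024 F320575) (tt N94061 (iv5 F403024)) (tt N36093 F351557) (tt N77979 (iv7 F245462)))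
theorem Q57364 : ∀ i, i < 57364 → P i := stepQ 57363 Q57363 (allL N57363 (tt N77979 (iv1 F245460)) (tt N77978 F245459) (tt N30468 (iv2 D107671)) (tt N48105 F324667) (tt N77826 (iv4 F245079)) (tt N94081 D197116) (tt N94082 D197117) (tt N77976 (iv7 F245454)))
theorem Q57365 : ∀ i, i < 57365 → P i := stepQ 57364 Q57364 (allL N57364 (tt N94083 D197118) (tt N57495 (iv0 F355513)) (tt N94081 (iv2 F403118)) (tt N30469 F166299) (tt N94084 D197119) (tt N30468 (iv5 D107672)) (tt N94085 D197120) (tt N77980 (iv7 F245470)))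
theorem Q57366 : ∀ i, i < 57366 → P i := stepQ 57365 Q57365 (allL N57365 (tt N63626 F355514) (tt N94086 D197121) (tt N94082 (iv2 F403123)) (tt N30470 F166300) (tt N77828 (iv4 F245090)) (tt N94087 D197122) (tt N30468 (iv6 D107673)) (tt N94088 D197123))
theorem Q57367 : ∀ i, i < 57367 → P i := stepQ 57366 Q57366 (allL N57366 (tt N30476 (iv1 F166303)) (tt N30469 (iv0 D107674)) (tt N57337 (iv2 F166304)) (tt N94089 D197124) (tt N37311 F166302) (tt N37243 F166301) (tt N76549 F339217) (tt N57334 (iv7 F166305)))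
theorem Q57368 : ∀ i, i < 57368 → P i := stepQ 57367 Q57367 (allL N57367 (tt N30469 (iv1 D107675)) (tt N30476 F166306) (tt N57334 (iv2 F166310)) (tt N76131 (iv3 F345573)) (tt N37314 F166309) (tt N37241 F166308) (tt N94090 D197125) (tt N57337 F166307))
theorem Q57369 : ∀ i, i < 57369 → P i := stepQ 57368 Q57368 (allL N57368 (tt N94091 D197126) (tt N75390 F362023) (tt N74353 F331688) (tt N94085 (iv3 F403138)) (tt N61741 (iv4 F179400)) (tt N40804 F331689) (tt N30469 (iv6 D107676)) (tt N74339 F331690))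
theorem Q57370 : ∀ i, i < 57370 → P i := stepQ 57369 Q57369 (allL N57369 (tt N94041 (iv1 F402939)) (tt N30470 (iv0 D107677)) (tt N75403 (iv2 F344154)) (tt N94092 D197127) (tt N39288 F166311) (tt N75392 F344153) (tt N36121 (iv6 F166478)) (tt N75407 (iv7 F344152)))
theorem Q57371 : ∀ i, i < 57371 → P i := stepQ 57370 Q57370 (allL N57370 (tt N30470 (iv1 D107678)) (tt N94041 F402938) (tt N75407 (iv2 F344150)) (tt N81241 F361996) (tt N39289 F175457) (tt N75393 F349876) (tt N81240 (iv6 F343944)) (tt N75403 F344157))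
theorem Q57372 : ∀ i, i < 57372 → P i := stepQ 57371 Q57371 (allL N57371 (tt N66296 (iv1 F203934)) (tt N80533 F346276) (tt N74354 F331695) (tt N94087 (iv3 F403142)) (tt N40805 F331696) (tt N30470 (iv5 D107679)) (tt N40804 F331697) (tt N94093 D197128))
theorem Q57373 : ∀ i, i < 57373 → P i := stepQ 57372 Q57372 (allL N57372 (tt N75407 (iv1 F344149)) (tt N75403 F362722) (tt N94041 (iv2 F402933)) (tt N94088 (iv3 F403146)) (tt N30473 F166313) (tt N94093 (iv5 F403174)) (tt N92380 (iv6 F396884)) (tt N30470 (iv7 D107680)))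
theorem Q57374 : ∀ i, i < 57374 → P i := stepQ 57373 Q57373 (allL N57373 (tt N71156 (iv1 F219563)) (tt N30483 F167353) (tt N57668 (iv2 F167349)) (tt N94094 D197129) (tt N30471 (iv4 D107681)) (tt N75602 (iv5 F334103)) (tt N36126 F166314) (tt N71154 (iv7 F219554)))
theorem Q57375 : ∀ i, i < 57375 → P i := stepQ 57374 Q57374 (allL N57374 (tt N41220 F166322) (tt N41216 (iv0 F166315)) (tt N57669 (iv2 F167354)) (tt N57579 (iv3 F167176)) (tt N45913 F358729) (tt N30471 (iv5 D107682)) (tt N57579 (iv6 F167177)) (tt N58761 F170618))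
theorem Q57376 : ∀ i, i < 57376 → P i := stepQ 57375 Q57375 (allL N57375 (tt N30483 F166316) (tt N71156 F219562) (tt N71154 F219556) (tt N44123 F321594) (tt N30472 (iv4 D107683)) (tt N73972 F321595) (tt N43971 F324267) (tt N57668 (iv7 F167351)))
theorem Q57377 : ∀ i, i < 57377 → P i := stepQ 57376 Q57376 (allL N57376 (tt N35887 F166320) (tt N35890 (iv0 F175060)) (tt N59985 (iv2 F175119)) (tt N30500 F166317) (tt N43971 F317710) (tt N31305 F166318) (tt N30472 (iv6 D107684)) (tt N36125 F166319))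
theorem Q57378 : ∀ i, i < 57378 → P i := stepQ 57377 Q57377 (allL N57377 (tt N58972 (iv1 F171633)) (tt N41189 (iv0 F167839)) (tt N58973 (iv2 F171642)) (tt N30480 F166323) (tt N51205 (iv4 F335381)) (tt N30830 F166324) (tt N40337 F166325) (tt N30474 (iv7 D107687)))
theorem Q57379 : ∀ i, i < 57379 → P i := stepQ 57378 Q57378 (allL N57378 (tt N48105 F321601) (tt N30475 (iv0 D107688)) (tt N35445 F321602) (tt N48095 F321603) (tt N91421 (iv4 F393059)) (tt N77260 F342707) (tt N36114 F336324) (tt N48106 F321604))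
theorem Q57380 : ∀ i, i < 57380 → P i := stepQ 57379 Q57379 (allL N57379 (tt N35445 F336300) (tt N48106 F336301) (tt N30475 (iv2 D107690)) (tt N77976 (iv3 F245453)) (tt N51204 (iv4 F335396)) (tt N82159 (iv5 F336296)) (tt N44078 F336297) (tt N48105 F321605))
theorem Q57381 : ∀ i, i < 57381 → P i := stepQ 57380 Q57380 (allL N57380 (tt N82160 F336345) (tt N44887 F336346) (tt N82159 F336294) (tt N30476 F166326) (tt N64722 F345976) (tt N30475 (iv5 D107691)) (tt N64720 (iv6 F354958)) (tt N82158 (iv7 F336293)))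
theorem Q57382 : ∀ i, i < 57382 → P i := stepQ 57381 Q57381 (allL N57381 (tt N32599 F335483) (tt N85804 F374023) (tt N85801 (iv2 F374015)) (tt N64720 F354954) (tt N61738 (iv4 F179382)) (tt N94095 D197130) (tt N30476 (iv6 D107693)) (tt N78979 F335484))
theorem Q57383 : ∀ i, i < 57383 → P i := stepQ 57382 Q57382 (allL N57382 (tt N92380 (iv1 F396886)) (tt N30477 (iv0 D107694)) (tt N92378 F396871) (tt N66766 F346510) (tt N58402 (iv4 F175797)) (tt N94096 D197131) (tt N80834 F332382) (tt N67109 (iv7 F346511)))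
theorem Q57384 : ∀ i, i < 57384 → P i := stepQ 57383 Q57383 (allL N57383 (tt N30477 (iv1 D107695)) (tt N92380 F396885) (tt N67109 (iv2 F346513)) (tt N91375 (iv3 F392898)) (tt N39610 F167749) (tt N94097 D197132) (tt N36099 (iv6 F167750)) (tt N92378 (iv7 F396872)))
theorem Q57385 : ∀ i, i < 57385 → P i := stepQ 57384 Q57384 (allL N57384 (tt N66327 (iv1 F203976)) (tt N66325 (iv0 F203974)) (tt N92379 (iv2 F396874)) (tt N54923 (iv3 F336624)) (tt N94098 D197133) (tt N30477 (iv5 D107696)) (tt N94095 (iv6 F403180)) (tt N55006 F354579))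
theorem Q57386 : ∀ i, i < 57386 → P i := stepQ 57385 Q57385 (allL N57385 (tt N67109 F346516) (tt N92378 F396873) (tt N92380 (iv2 F396881)) (tt N44077 F321640) (tt N30480 F166328) (tt N55006 (iv5 F354577)) (tt N94041 (iv6 F402937)) (tt N30477 (iv7 D107697)))
theorem Q57387 : ∀ i, i < 57387 → P i := stepQ 57386 Q57386 (allL N57386 (tt N36171 F166339) (tt N66102 (iv0 F203387)) (tt N67688 (iv2 F207615)) (tt N30501 F166331) (tt N63789 F314551) (tt N37810 (iv5 F166336)) (tt N30478 (iv6 D107699)) (tt N36106 F166333))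
theorem Q57388 : ∀ i, i < 57388 → P i := stepQ 57387 Q57387 (allL N57387 (tt N30481 (iv1 D107702)) (tt N75257 F350217) (tt N82197 (iv2 F355474)) (tt N82200 F355494) (tt N85272 (iv4 F372112)) (tt N94099 D197134) (tt N36131 F355420) (tt N82210 F355496))
theorem Q57389 : ∀ i, i < 57389 → P i := stepQ 57388 Q57388 (allL N57388 (tt N82210 (iv1 F354253)) (tt N82197 (iv0 F354249)) (tt N30481 (iv2 D107703)) (tt N71152 (iv3 F219545)) (tt N60224 (iv4 F175931)) (tt N75224 (iv5 F350211)) (tt N91436 (iv6 F393123)) (tt N75257 F350214))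
theorem Q57390 : ∀ i, i < 57390 → P i := stepQ 57389 Q57389 (allL N57389 (tt N91384 (iv1 F392945)) (tt N91381 (iv0 F392941)) (tt N91436 (iv2 F393120)) (tt N30483 F166347) (tt N60225 (iv4 F175937)) (tt N36578 F354086) (tt N30481 (iv6 D107705)) (tt N91281 (iv7 F392530)))
theorem Q57391 : ∀ i, i < 57391 → P i := stepQ 57390 Q57390 (allL N57390 (tt N30485 (iv1 F166352)) (tt N30482 (iv0 D107706)) (tt N41300 (iv2 F166351)) (tt N75155 (iv3 F335848)) (tt N38220 F166349) (tt N38164 F166348) (tt N76622 F348641) (tt N57328 F166353))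
theorem Q57392 : ∀ i, i < 57392 → P i := stepQ 57391 Q57391 (allL N57391 (tt N66287 (iv1 F203916)) (tt N45292 F326212) (tt N71155 (iv2 F219557)) (tt N36578 F354083) (tt N77668 (iv4 F354085)) (tt N30483 (iv5 D107709)) (tt N40808 F334094) (tt N74247 F227087))
theorem Q57393 : ∀ i, i < 57393 → P i := stepQ 57392 Q57392 (allL N57392 (tt N71154 (iv1 F219553)) (tt N57668 (iv0 F167738)) (tt N71156 (iv2 F219559)) (tt N91281 (iv3 F392528)) (tt N57786 (iv4 F167734)) (tt N74247 (iv5 F227086)) (tt N63787 F338745) (tt N30483 (iv7 D107710)))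
theorem Q57394 : ∀ i, i < 57394 → P i := stepQ 57393 Q57393 (allL N57393 (tt N71152 (iv1 F219548)) (tt N30484 (iv0 D107711)) (tt N65337 (iv2 F352325)) (tt N94100 D197135) (tt N71283 (iv4 F219764)) (tt N79278 (iv5 F344860)) (tt N36140 F346582) (tt N71151 F346584))
theorem Q57395 : ∀ i, i < 57395 → P i := stepQ 57394 Q57394 (allL N57394 (tt N30484 (iv1 D107712)) (tt N71152 F219550) (tt N71151 F344842) (tt N65341 F352329) (tt N71224 (iv4 F219642)) (tt N79277 (iv5 F344841)) (tt N79597 (iv6 F352330)) (tt N65337 (iv7 F352328)))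
theorem Q57396 : ∀ i, i < 57396 → P i := stepQ 57395 Q57395 (allL N57395 (tt N65337 (iv1 F352324)) (tt N71151 F219544) (tt N30484 (iv2 D107713)) (tt N75257 (iv3 F344829)) (tt N61912 (iv4 F179694)) (tt N75256 F344828) (tt N77733 (iv6 F365597)) (tt N71152 (iv7 F219547)))
theorem Q57397 : ∀ i, i < 57397 → P i := stepQ 57396 Q57396 (allL N57396 (tt N55049 F352786) (tt N75682 (iv0 F353024)) (tt N77733 (iv2 F365596)) (tt N30486 F166355) (tt N61905 (iv4 F179672)) (tt N81124 (iv5 F353015)) (tt N30484 (iv6 D107715)) (tt N77732 (iv7 F353021)))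
theorem Q57398 : ∀ i, i < 57398 → P i := stepQ 57397 Q57397 (allL N57397 (tt N76618 F364168) (tt N94101 D197136) (tt N61013 (iv2 F353772)) (tt N45651 F344840) (tt N38575 F166356) (tt N94102 D197137) (tt N30485 (iv6 D107716)) (tt N61010 F354966))
theorem Q57399 : ∀ i, i < 57399 → P i := stepQ 57398 Q57398 (allL N57398 (tt N34383 F325005) (tt N44103 F325006) (tt N44101 F325771) (tt N81124 F353016) (tt N94103 D197138) (tt N30486 (iv5 D107717)) (tt N94102 (iv6 F403213)) (tt N44102 F325772))
theorem Q57400 : ∀ i, i < 57400 → P i := stepQ 57399 Q57399 (allL N57399 (tt N82212 F355476) (tt N94099 (iv0 F403200)) (tt N79276 F327106) (tt N30487 (iv3 D107737)) (tt N94104 D197139) (tt N37244 F166373) (tt N42091 F327107) (tt N69425 (iv7 F214338)))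
theorem Q57401 : ∀ i, i < 57401 → P i := stepQ 57400 Q57400 (allL N57400 (tt N76634 F325424) (tt N76633 F325425) (tt N69426 (iv2 F214341)) (tt N47047 F325426) (tt N37321 F166374) (tt N80606 (iv5 F332323)) (tt N30488 (iv6 D107740)) (tt N46001 F325427))
theorem Q57402 : ∀ i, i < 57402 → P i := stepQ 57401 Q57401 (allL N57401 (tt N61417 F363826) (tt N61419 (iv0 F363906)) (tt N61764 (iv2 F179445)) (tt N75691 (iv3 F338536)) (tt N30490 F166377) (tt N66757 (iv5 F338537)) (tt N30489 (iv6 D107742)) (tt N94105 D197140))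
theorem Q57403 : ∀ i, i < 57403 → P i := stepQ 57402 Q57402 (allL N57402 (tt N70495 (iv1 F338702)) (tt N30490 (iv0 D107743)) (tt N77643 (iv2 F347679)) (tt N65091 (iv3 F356285)) (tt N94106 D197141) (tt N67606 (iv5 F338703)) (tt N63744 F338704) (tt N94043 (iv7 F402948)))
theorem Q57404 : ∀ i, i < 57404 → P i := stepQ 57403 Q57403 (allL N57403 (tt N30490 (iv1 D107744)) (tt N70495 (iv0 F338697)) (tt N94043 (iv2 F402952)) (tt N94107 D197142) (tt N61105 F338696) (tt N67607 F352074) (tt N61103 (iv6 F352072)) (tt N77643 F347678))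
theorem Q57405 : ∀ i, i < 57405 → P i := stepQ 57404 Q57404 (allL N57404 (tt N94043 (iv1 F402947)) (tt N77643 (iv0 F346127)) (tt N70495 F338699) (tt N37951 F321543) (tt N94105 (iv4 F403227)) (tt N36164 F166378) (tt N46278 F320876) (tt N30490 (iv7 D107745)))
theorem Q57406 : ∀ i, i < 57406 → P i := stepQ 57405 Q57405 (allL N57405 (tt N76662 F336476) (tt N94108 D197143) (tt N61760 (iv2 F179437)) (tt N34750 F335976) (tt N33011 F166379) (tt N35322 F335977) (tt N30491 (iv6 D107746)) (tt N46278 F335978))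
theorem Q57407 : ∀ i, i < 57407 → P i := stepQ 57406 Q57406 (allL N57406 (tt N36021 (iv1 F166381)) (tt N30492 (iv0 D107747)) (tt N36167 (iv2 F166380)) (tt N94109 D197144) (tt N39388 (iv4 F166383)) (tt N47782 F338793) (tt N43969 F360154) (tt N36166 F166382))
theorem Q57408 : ∀ i, i < 57408 → P i := stepQ 57407 Q57407 (allL N57407 (tt N32057 (iv1 F168108)) (tt N57519 (iv0 F168107)) (tt N58749 F171839) (tt N30493 (iv3 D107750)) (tt N33204 F166386) (tt N74202 F226979) (tt N92674 (iv6 F397842)) (tt N36168 (iv7 F171841)))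
theorem Q57409 : ∀ i, i < 57409 → P i := stepQ 57408 Q57408 (allL N57408 (tt N36091 F166387) (tt N60357 F176275) (tt N36173 (iv2 F171932)) (tt N94110 D197145) (tt N30493 (iv4 D107751)) (tt N94111 D197146) (tt N94112 D197147) (tt N36169 F171931))
theorem Q57410 : ∀ i, i < 57410 → P i := stepQ 57409 Q57409 (allL N57409 (tt N59985 F175123) (tt N36125 (iv0 F166389)) (tt N35890 F171921) (tt N92674 (iv3 F397841)) (tt N94112 (iv4 F403263)) (tt N35879 F166388) (tt N30493 (iv6 D107752)) (tt N35887 (iv7 F171874)))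
theorem Q57411 : ∀ i, i < 57411 → P i := stepQ 57410 Q57410 (allL N57410 (tt N60357 (iv1 F176276)) (tt N36091 (iv0 F171830)) (tt N36169 F171930) (tt N79524 (iv3 F345790)) (tt N30494 (iv4 D107755)) (tt N79522 F349866) (tt N67810 (iv6 F207868)) (tt N36173 F171853))
theorem Q57412 : ∀ i, i < 57412 → P i := stepQ 57411 Q57411 (allL N57411 (tt N44466 F166392) (tt N62592 (iv0 F182647)) (tt N36170 F171856) (tt N59052 (iv3 F171833)) (tt N94113 D197148) (tt N30494 (iv5 D107756)) (tt N57330 F166391) (tt N36174 F171854))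
theorem Q57413 : ∀ i, i < 57413 → P i := stepQ 57412 Q57412 (allL N57412 (tt N40337 F172409) (tt N40339 (iv0 F166497)) (tt N58970 F171631) (tt N30495 (iv3 D107758)) (tt N59230 (iv4 F172374)) (tt N94114 D197149) (tt N36112 F166492) (tt N58971 (iv7 F171630)))
theorem Q57414 : ∀ i, i < 57414 → P i := stepQ 57413 Q57413 (allL N57413 (tt N56834 F166496) (tt N35556 F166511) (tt N56831 (iv2 F166501)) (tt N94115 D197150) (tt N30495 (iv4 D107759)) (tt N94116 D197151) (tt N56384 F166494) (tt N56832 F166495))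
theorem Q57415 : ∀ i, i < 57415 → P i := stepQ 57414 Q57414 (allL N57414 (tt N41473 F166505) (tt N35673 (iv0 F166506)) (tt N59076 (iv2 F171992)) (tt N94114 (iv3 F403275)) (tt N94117 D197152) (tt N30495 (iv5 D107760)) (tt N57664 (iv6 F167341)) (tt N35741 F166504))
theorem Q57416 : ∀ i, i < 57416 → P i := stepQ 57415 Q57415 (allL N57415 (tt N35544 F166512) (tt N57563 F167121) (tt N57562 F176834) (tt N30496 (iv3 D107761)) (tt N70847 (iv4 F218574)) (tt N66026 (iv5 F203111)) (tt N93962 (iv6 F402615)) (tt N57561 (iv7 F167117)))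
theorem Q57417 : ∀ i, i < 57417 → P i := stepQ 57416 Q57416 (allL N57416 (tt N35556 F166509) (tt N56834 F166510) (tt N56832 F166507) (tt N94118 D197153) (tt N30496 (iv4 D107762)) (tt N94119 D197154) (tt N93965 (iv6 F402627)) (tt N56831 F166508))
theorem Q57418 : ∀ i, i < 57418 → P i := stepQ 57417 Q57417 (allL N57417 (tt N57602 F168828) (tt N44217 (iv0 F166514)) (tt N57578 (iv2 F167173)) (tt N72283 (iv3 F221862)) (tt N30498 (iv4 D107763)) (tt N94120 D197155) (tt N36204 F166513) (tt N57580 (iv7 F167178)))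
theorem Q57419 : ∀ i, i < 57419 → P i := stepQ 57418 Q57418 (allL N57418 (tt N35781 F166517) (tt N35765 (iv0 F166518)) (tt N57579 (iv2 F167175)) (tt N30499 F166515) (tt N64235 F326028) (tt N30498 (iv5 D107764)) (tt N57669 (iv6 F167356)) (tt N35805 F166516))
theorem Q57420 : ∀ i, i < 57420 → P i := stepQ 57419 Q57419 (allL N57419 (tt N72235 (iv1 F339627)) (tt N76141 F312648) (tt N94121 D197156) (tt N30502 (iv3 D107848)) (tt N77229 F312649) (tt N42652 F312650) (tt N76144 F312651) (tt N57696 F200165))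
theorem Q57421 : ∀ i, i < 57421 → P i := stepQ 57420 Q57420 (allL N57420 (tt N37234 F313484) (tt N37231 F313485) (tt N57699 (iv2 F167446)) (tt N63736 F313486) (tt N30504 (iv4 D107852)) (tt N40594 F166603) (tt N46312 F166601) (tt N36236 F166602))
theorem Q57422 : ∀ i, i < 57422 → P i := stepQ 57421 Q57421 (allL N57421 (tt N68360 F209950) (tt N34254 (iv0 F188595)) (tt N44042 F166625) (tt N63569 (iv3 F302788)) (tt N46515 F299958) (tt N30506 (iv5 D107859)) (tt N63020 (iv6 F184445)) (tt N44537 F166626))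
theorem Q57423 : ∀ i, i < 57423 → P i := stepQ 57422 Q57422 (allL N57422 (tt N41773 (iv1 F311143)) (tt N38322 F166652) (tt N41774 (iv2 F311695)) (tt N43088 (iv3 F312190)) (tt N92219 (iv4 F396321)) (tt N30510 (iv5 D107863)) (tt N41782 F309950) (tt N33646 F309951))
theorem Q57424 : ∀ i, i < 57424 → P i := stepQ 57423 Q57423 (allL N57423 (tt N94122 D197157) (tt N33965 F208018) (tt N62551 (iv2 F345696)) (tt N30512 (iv3 D107869)) (tt N94123 D197158) (tt N44434 F316175) (tt N72707 F348134) (tt N44543 (iv7 F189568)))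
theorem Q57425 : ∀ i, i < 57425 → P i := stepQ 57424 Q57424 (allL N57424 (tt N43426 (iv1 F209850)) (tt N44522 (iv0 F209848)) (tt N38364 (iv2 F209845)) (tt N30513 (iv3 D107873)) (tt N38362 (iv4 F209846)) (tt N48108 F166664) (tt N38361 F209820) (tt N44521 (iv7 F209891)))
theorem Q57426 : ∀ i, i < 57426 → P i := stepQ 57425 Q57425 (allL N57425 (tt N37377 (iv1 F166668)) (tt N30514 (iv0 D107876)) (tt N37555 (iv2 F166669)) (tt N46987 F313364) (tt N36426 F166667) (tt N63455 (iv5 F187532)) (tt N53112 F354647) (tt N44503 (iv7 F166670)))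
theorem Q57427 : ∀ i, i < 57427 → P i := stepQ 57426 Q57426 (allL N57426 (tt N30514 (iv1 D107877)) (tt N37377 F166671) (tt N44503 (iv2 F166674)) (tt N53119 (iv3 F337634)) (tt N36424 F166673) (tt N53758 (iv5 F357930)) (tt N94124 D197159) (tt N37555 F166672))
theorem Q57428 : ∀ i, i < 57428 → P i := stepQ 57427 Q57427 (allL N57427 (tt N89715 (iv1 F387280)) (tt N68522 (iv0 F210753)) (tt N68393 (iv2 F210052)) (tt N43647 (iv3 F315788)) (tt N94125 D197160) (tt N30514 (iv5 D107878)) (tt N94126 D197161) (tt N44504 F166675))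
theorem Q57429 : ∀ i, i < 57429 → P i := stepQ 57428 Q57428 (allL N57428 (tt N44512 (iv1 F190805)) (tt N44518 (iv0 F190804)) (tt N44516 (iv2 F240172)) (tt N30518 (iv3 D107889)) (tt N56128 F309651) (tt N40210 (iv5 F311273)) (tt N43839 (iv6 F190630)) (tt N44510 F166701))
theorem Q57430 : ∀ i, i < 57430 → P i := stepQ 57429 Q57429 (allL N57429 (tt N80436 F334138) (tt N68568 (iv0 F247736)) (tt N30554 F166705) (tt N46497 F310592) (tt N43132 F166706) (tt N66658 (iv5 F204903)) (tt N30519 (iv6 D107891)) (tt N80442 (iv7 F332462)))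
theorem Q57431 : ∀ i, i < 57431 → P i := stepQ 57430 Q57430 (allL N57430 (tt N36426 F166710) (tt N36424 F166711) (tt N37492 F166707) (tt N30521 F166708) (tt N35039 F312999) (tt N30520 (iv5 D107892)) (tt N35037 F313000) (tt N30531 F166709))
theorem Q57432 : ∀ i, i < 57432 → P i := stepQ 57431 Q57431 (allL N57431 (tt N68444 (iv1 F210501)) (tt N56088 F166719) (tt N63420 (iv2 F187365)) (tt N32176 F166717) (tt N76321 (iv4 F238197)) (tt N30522 (iv5 D107894)) (tt N86914 (iv6 F377687)) (tt N45227 F166718))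
theorem Q57433 : ∀ i, i < 57433 → P i := stepQ 57432 Q57432 (allL N57432 (tt N56088 F166722) (tt N68444 (iv0 F210500)) (tt N45227 F166720) (tt N32589 F166721) (tt N76322 (iv4 F238203)) (tt N30523 (iv5 D107895)) (tt N68434 (iv6 F334829)) (tt N63420 (iv7 F187367)))
theorem Q57434 : ∀ i, i < 57434 → P i := stepQ 57433 Q57433 (allL N57433 (tt N43111 F166726) (tt N57700 (iv0 F167453)) (tt N45237 F166723) (tt N30525 F166724) (tt N69631 (iv4 F215213)) (tt N30524 (iv5 D107896)) (tt N94127 D197162) (tt N45238 F166725))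
theorem Q57435 : ∀ i, i < 57435 → P i := stepQ 57434 Q57434 (allL N57434 (tt N51527 (iv1 F360281)) (tt N69647 (iv0 F215391)) (tt N76409 F238539) (tt N94128 D197163) (tt N30525 (iv4 D107897)) (tt N94004 (iv5 F402785)) (tt N86842 F403346) (tt N76410 (iv7 F238542)))
theorem Q57436 : ∀ i, i < 57436 → P i := stepQ 57435 Q57435 (allL N57435 (tt N87583 F403348) (tt N94129 D197164) (tt N93137 (iv2 F399639)) (tt N94127 (iv3 F403339)) (tt N86842 (iv4 F403347)) (tt N94130 D197165) (tt N30525 (iv6 D107898)) (tt N94131 D197166))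
theorem Q57437 : ∀ i, i < 57437 → P i := stepQ 57436 Q57436 (allL N57436 (tt N43008 (iv1 F166730)) (tt N43011 F166731) (tt N30533 F166727) (tt N45238 F166728) (tt N76410 (iv4 F238543)) (tt N30527 F166729) (tt N94132 D197167) (tt N30525 (iv7 D107899)))
theorem Q57438 : ∀ i, i < 57438 → P i := stepQ 57437 Q57437 (allL N57437 (tt N41730 F166735) (tt N41805 F166736) (tt N41338 F166732) (tt N41719 F166733) (tt N92138 (iv4 F395917)) (tt N30526 (iv5 D107900)) (tt N94130 (iv6 F403351)) (tt N41336 F166734))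
theorem Q57439 : ∀ i, i < 57439 → P i := stepQ 57438 Q57438 (allL N57438 (tt N38297 F208188) (tt N48482 F308285) (tt N64823 (iv2 F314262)) (tt N30528 (iv3 D107903)) (tt N68480 (iv4 F210625)) (tt N94133 D197168) (tt N47448 F305766) (tt N64822 (iv7 F342007)))
theorem Q57440 : ∀ i, i < 57440 → P i := stepQ 57439 Q57439 (allL N57439 (tt N76332 (iv1 F238359)) (tt N54293 (iv0 F320823)) (tt N53329 (iv2 F311993)) (tt N94133 (iv3 F403367)) (tt N94005 (iv4 F402791)) (tt N30528 (iv5 D107904)) (tt N49378 F309781) (tt N76485 F239022))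
theorem Q57441 : ∀ i, i < 57441 → P i := stepQ 57440 Q57440 (allL N57440 (tt N43009 (iv1 F166744)) (tt N43012 F166745) (tt N30535 F166742) (tt N64822 F342008) (tt N30529 F166743) (tt N76485 (iv5 F239019)) (tt N53327 F309782) (tt N30528 (iv7 D107906)))
theorem Q57442 : ∀ i, i < 57442 → P i := stepQ 57441 Q57441 (allL N57441 (tt N37492 (iv1 F166752)) (tt N30531 (iv0 D107911)) (tt N36424 (iv2 F166751)) (tt N37533 F166754) (tt N44503 F166750) (tt N32800 F166749) (tt N94134 D197169) (tt N36426 F166753))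
theorem Q57443 : ∀ i, i < 57443 → P i := stepQ 57442 Q57442 (allL N57442 (tt N81686 F348282) (tt N94135 D197170) (tt N69644 (iv2 F215319)) (tt N30536 F166755) (tt N69612 (iv4 F215095)) (tt N94136 D197171) (tt N30531 (iv6 D107912)) (tt N81663 (iv7 F361518)))
theorem Q57444 : ∀ i, i < 57444 → P i := stepQ 57443 Q57443 (allL N57443 (tt N41356 (iv1 F166759)) (tt N30532 (iv0 D107913)) (tt N41383 (iv2 F166758)) (tt N41422 F166761) (tt N43284 F166756) (tt N43374 F166757) (tt N41422 F166762) (tt N41416 F166760))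
theorem Q57445 : ∀ i, i < 57445 → P i := stepQ 57444 Q57444 (allL N57444 (tt N76576 (iv1 F239366)) (tt N33865 F166766) (tt N36623 F166763) (tt N30537 F166764) (tt N34267 F166767) (tt N30532 (iv5 D107914)) (tt N94136 (iv6 F403385)) (tt N42914 F166765))
theorem Q57446 : ∀ i, i < 57446 → P i := stepQ 57445 Q57445 (allL N57445 (tt N69647 (iv1 F215392)) (tt N51527 (iv0 F360280)) (tt N76410 F238544) (tt N94137 D197172) (tt N30533 (iv4 D107915)) (tt N94005 (iv5 F402790)) (tt N94138 D197173) (tt N76409 F238540))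
theorem Q57447 : ∀ i, i < 57447 → P i := stepQ 57446 Q57446 (allL N57446 (tt N94139 D197174) (tt N94140 D197175) (tt N94132 (iv2 F403362)) (tt N93146 (iv3 F399670)) (tt N94138 (iv4 F403389)) (tt N94141 D197176) (tt N30533 (iv6 D107916)) (tt N94142 D197177))
theorem Q57448 : ∀ i, i < 57448 → P i := stepQ 57447 Q57447 (allL N57447 (tt N41337 (iv1 F166772)) (tt N30534 (iv0 D107917)) (tt N45264 (iv2 F166771)) (tt N32425 F166770) (tt N36663 F166769) (tt N56100 F166768) (tt N45258 (iv6 F166774)) (tt N45252 F166773))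
theorem Q57449 : ∀ i, i < 57449 → P i := stepQ 57448 Q57448 (allL N57448 (tt N41722 F166777) (tt N33980 F166778) (tt N42973 F166775) (tt N66790 F205581) (tt N76350 (iv4 F238409)) (tt N30534 (iv5 D107918)) (tt N94141 (iv6 F403403)) (tt N42974 F166776))
theorem Q57450 : ∀ i, i < 57450 → P i := stepQ 57449 Q57449 (allL N57449 (tt N70512 F217607) (tt N54274 (iv0 F354641)) (tt N94143 D197178) (tt N30535 (iv3 D107919)) (tt N69611 (iv4 F215092)) (tt N94144 D197179) (tt N94145 D197180) (tt N53328 F354645))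
theorem Q57451 : ∀ i, i < 57451 → P i := stepQ 57450 Q57450 (allL N57450 (tt N54293 (iv1 F320824)) (tt N76332 (iv0 F238358)) (tt N76485 F239021) (tt N94144 (iv3 F403412)) (tt N94004 (iv4 F402786)) (tt N30535 (iv5 D107920)) (tt N94146 D197181) (tt N53329 (iv7 F311994)))
theorem Q57452 : ∀ i, i < 57452 → P i := stepQ 57451 Q57451 (allL N57451 (tt N49591 (iv1 F348289)) (tt N53325 F314380) (tt N53327 F314381) (tt N94145 (iv3 F403416)) (tt N30536 F166779) (tt N94147 D197182) (tt N30535 (iv6 D107921)) (tt N47449 F314382))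
theorem Q57453 : ∀ i, i < 57453 → P i := stepQ 57452 Q57452 (allL N57452 (tt N41063 F316863) (tt N81692 F366298) (tt N42913 F166780) (tt N94136 (iv3 F403384)) (tt N94148 D197183) (tt N30536 (iv5 D107924)) (tt N30537 F166781) (tt N40629 F342383))
theorem Q57454 : ∀ i, i < 57454 → P i := stepQ 57453 Q57453 (allL N57453 (tt N41729 F166784) (tt N33985 F166785) (tt N42912 F166782) (tt N54087 F349183) (tt N30537 (iv4 D107926)) (tt N54086 F335920) (tt N94148 (iv6 F403432)) (tt N42915 F166783))
theorem Q57455 : ∀ i, i < 57455 → P i := stepQ 57454 Q57454 (allL N57454 (tt N46454 F313841) (tt N57705 (iv0 F215533)) (tt N30545 F166788) (tt N38331 F166789) (tt N76482 (iv4 F239011)) (tt N44983 F166790) (tt N30539 (iv6 D107928)) (tt N64362 (iv7 F305314)))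
theorem Q57456 : ∀ i, i < 57456 → P i := stepQ 57455 Q57455 (allL N57455 (tt N76459 (iv1 F238943)) (tt N68404 (iv0 F210122)) (tt N30548 F166793) (tt N63906 F366660) (tt N94006 (iv4 F402796)) (tt N30540 (iv5 D107930)) (tt N94149 D197184) (tt N43131 F166794))
theorem Q57457 : ∀ i, i < 57457 → P i := stepQ 57456 Q57456 (allL N57456 (tt N30553 (iv1 F166799)) (tt N30541 (iv0 D107932)) (tt N30551 F166802) (tt N68524 (iv3 F215544)) (tt N76494 (iv4 F239040)) (tt N48461 F303928) (tt N48462 (iv6 F306000)) (tt N30552 F166801))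
theorem Q57458 : ∀ i, i < 57458 → P i := stepQ 57457 Q57457 (allL N57457 (tt N63964 F355257) (tt N63901 F355258) (tt N63919 F311450) (tt N30542 (iv3 D107934)) (tt N66818 (iv4 F205673)) (tt N75573 (iv5 F357327)) (tt N34842 F311451) (tt N63963 (iv7 F366738)))
theorem Q57459 : ∀ i, i < 57459 → P i := stepQ 57458 Q57458 (allL N57458 (tt N76326 (iv1 F238337)) (tt N76330 (iv0 F238350)) (tt N76461 F238965) (tt N75573 F357326) (tt N94003 (iv4 F402782)) (tt N30542 (iv5 D107935)) (tt N75572 (iv6 F357325)) (tt N76460 F238961))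
theorem Q57460 : ∀ i, i < 57460 → P i := stepQ 57459 Q57459 (allL N57459 (tt N89445 F386538) (tt N68560 F248073) (tt N66828 (iv2 F205740)) (tt N30545 F166807) (tt N68275 (iv4 F209463)) (tt N76041 (iv5 F236015)) (tt N30543 (iv6 D107940)) (tt N82951 (iv7 F335234)))
theorem Q57461 : ∀ i, i < 57461 → P i := stepQ 57460 Q57460 (allL N57460 (tt N76530 F239246) (tt N89648 (iv0 F387088)) (tt N89666 F387161) (tt N30544 (iv3 D107941)) (tt N68274 (iv4 F209461)) (tt N89675 F402780) (tt N94150 D197185) (tt N76483 (iv7 F239013)))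
theorem Q57462 : ∀ i, i < 57462 → P i := stepQ 57461 Q57461 (allL N57461 (tt N76330 (iv1 F238351)) (tt N76326 (iv0 F238336)) (tt N76460 F238960) (tt N89675 (iv3 F402779)) (tt N94002 (iv4 F402776)) (tt N30544 (iv5 D107942)) (tt N86323 F375826) (tt N76461 (iv7 F238963)))
theorem Q57463 : ∀ i, i < 57463 → P i := stepQ 57462 Q57462 (allL N57462 (tt N76516 F339001) (tt N76518 (iv0 F339065)) (tt N76482 (iv2 F239010)) (tt N94150 (iv3 F403442)) (tt N30545 F166808) (tt N89149 (iv5 F385346)) (tt N30544 (iv6 D107943)) (tt N78330 (iv7 F339119)))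
theorem Q57464 : ∀ i, i < 57464 → P i := stepQ 57463 Q57463 (allL N57463 (tt N30545 (iv1 D107945)) (tt N64362 (iv0 F305310)) (tt N57705 F210945) (tt N45353 F309200) (tt N45355 F309201) (tt N72060 (iv5 F339047)) (tt N40031 (iv6 F210944)) (tt N46454 (iv7 F311409)))
theorem Q57465 : ∀ i, i < 57465 → P i := stepQ 57464 Q57464 (allL N57464 (tt N47812 F309226) (tt N47676 (iv0 F311369)) (tt N44983 F166809) (tt N76041 (iv3 F236014)) (tt N53344 (iv4 F346610)) (tt N30545 (iv5 D107946)) (tt N42636 F166810) (tt N53343 (iv7 F339132)))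
theorem Q57466 : ∀ i, i < 57466 → P i := stepQ 57465 Q57465 (allL N57465 (tt N76945 (iv1 F361336)) (tt N64001 F361347) (tt N70519 (iv2 F217613)) (tt N30546 (iv3 D107948)) (tt N81434 F344948) (tt N94151 D197186) (tt N76942 (iv6 F351924)) (tt N43017 F166811))
theorem Q57467 : ∀ i, i < 57467 → P i := stepQ 57466 Q57466 (allL N57466 (tt N43138 F166815) (tt N43137 F166816) (tt N43141 F166812) (tt N94151 (iv3 F403446)) (tt N43073 F166813) (tt N30546 (iv5 D107949)) (tt N94152 D197187) (tt N43018 F166814))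
theorem Q57468 : ∀ i, i < 57468 → P i := stepQ 57467 Q57467 (allL N57467 (tt N39806 F339035) (tt N45355 (iv0 F337498)) (tt N43142 F166817) (tt N76942 F309877) (tt N43019 F166818) (tt N77779 (iv5 F348210)) (tt N30546 (iv6 D107950)) (tt N43044 F309878))
theorem Q57469 : ∀ i, i < 57469 → P i := stepQ 57468 Q57468 (allL N57468 (tt N30547 (iv1 D107952)) (tt N57685 F167409) (tt N57689 F209833) (tt N94153 D197188) (tt N40027 (iv4 F166819)) (tt N48177 F312682) (tt N39843 F322839) (tt N57690 F209831))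
theorem Q57470 : ∀ i, i < 57470 → P i := stepQ 57469 Q57469 (allL N57469 (tt N48703 F312696) (tt N65356 F312697) (tt N63991 F312698) (tt N30548 F166821) (tt N94154 D197189) (tt N30547 (iv5 D107954)) (tt N94155 D197190) (tt N57691 (iv7 F167420)))
theorem Q57471 : ∀ i, i < 57471 → P i := stepQ 57470 Q57470 (allL N57470 (tt N43131 (iv1 F166825)) (tt N30548 (iv0 D107956)) (tt N76459 (iv2 F238940)) (tt N88513 (iv3 F383347)) (tt N93994 (iv4 F402745)) (tt N37372 F166824) (tt N85920 (iv6 F374474)) (tt N68404 (iv7 F210121)))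
theorem Q57472 : ∀ i, i < 57472 → P i := stepQ 57471 Q57471 (allL N57471 (tt N30548 (iv1 D107957)) (tt N43131 F166826) (tt N68404 (iv2 F210120)) (tt N94156 D197191) (tt N93990 (iv4 F402731)) (tt N64903 (iv5 F313755)) (tt N70178 (iv6 F386974)) (tt N76459 (iv7 F238941)))
theorem Q57473 : ∀ i, i < 57473 → P i := stepQ 57472 Q57472 (allL N57472 (tt N94005 (iv1 F402789)) (tt N94004 F402788) (tt N94006 (iv2 F402794)) (tt N85095 (iv3 F371612)) (tt N30548 (iv4 D107958)) (tt N43068 F166827) (tt N94157 D197192) (tt N85084 F371589))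
theorem Q57474 : ∀ i, i < 57474 → P i := stepQ 57473 Q57473 (allL N57473 (tt N94158 D197193) (tt N94159 D197194) (tt N94149 (iv2 F403438)) (tt N94155 (iv3 F403463)) (tt N94157 (iv4 F403471)) (tt N54769 F366725) (tt N30548 (iv6 D107959)) (tt N94160 D197195))
theorem Q57475 : ∀ i, i < 57475 → P i := stepQ 57474 Q57474 (allL N57474 (tt N68404 (iv1 F210123)) (tt N76459 (iv0 F238942)) (tt N43131 F166828) (tt N57691 (iv3 F167419)) (tt N85084 (iv4 F371587)) (tt N30550 F166829) (tt N85083 F371584) (tt N30548 (iv7 D107960)))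
theorem Q57476 : ∀ i, i < 57476 → P i := stepQ 57475 Q57475 (allL N57475 (tt N53518 F351961) (tt N30549 (iv0 D107961)) (tt N80591 F364467) (tt N53555 F351959) (tt N37443 F166830) (tt N94161 D197196) (tt N78730 F359395) (tt N64295 (iv7 F314402)))
theorem Q57477 : ∀ i, i < 57477 → P i := stepQ 57476 Q57476 (allL N57476 (tt N64551 F348234) (tt N64548 (iv0 F361506)) (tt N80599 F366722) (tt N76072 (iv3 F366723)) (tt N94162 D197197) (tt N30549 (iv5 D107963)) (tt N54769 (iv6 F366724)) (tt N94163 D197198))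
theorem Q57478 : ∀ i, i < 57478 → P i := stepQ 57477 Q57477 (allL N57477 (tt N64295 (iv1 F314400)) (tt N80591 (iv0 F335238)) (tt N53518 F313557) (tt N42511 F313558) (tt N30553 F166831) (tt N94163 (iv5 F403492)) (tt N94164 D197199) (tt N30549 (iv7 D107964)))
theorem Q57479 : ∀ i, i < 57479 → P i := stepQ 57478 Q57478 (allL N57478 (tt N64397 (iv1 F332473)) (tt N94165 D197200) (tt N43132 F166832) (tt N57692 (iv3 F167421)) (tt N30554 F166833) (tt N94166 D197201) (tt N30550 (iv6 D107965)) (tt N94164 (iv7 F403496)))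
theorem Q57480 : ∀ i, i < 57480 → P i := stepQ 57479 Q57479 (allL N57479 (tt N66827 (iv1 F215548)) (tt N68526 F215549) (tt N68525 (iv2 F215522)) (tt N30552 (iv3 D107969)) (tt N64368 (iv4 F351916)) (tt N79549 (iv5 F257302)) (tt N52320 F351927) (tt N68524 (iv7 F215545)))
theorem Q57481 : ∀ i, i < 57481 → P i := stepQ 57480 Q57480 (allL N57480 (tt N68568 F247734) (tt N80436 (iv0 F334135)) (tt N80442 F332461) (tt N30559 F166836) (tt N94164 (iv4 F403495)) (tt N74829 (iv5 F229408)) (tt N30553 (iv6 D107972)) (tt N30554 F166837))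
theorem Q57482 : ∀ i, i < 57482 → P i := stepQ 57481 Q57481 (allL N57481 (tt N80442 F332460) (tt N30554 (iv0 D107973)) (tt N80436 (iv2 F340984)) (tt N66854 F338077) (tt N76487 (iv4 F338076)) (tt N80471 (iv5 F338078)) (tt N64364 F332459) (tt N68568 F340985))
theorem Q57483 : ∀ i, i < 57483 → P i := stepQ 57482 Q57482 (allL N57482 (tt N30554 (iv1 D107974)) (tt N80442 F332464) (tt N68568 F340983) (tt N94167 D197202) (tt N76488 F337888) (tt N94168 D197203) (tt N72801 (iv6 F332416)) (tt N80436 (iv7 F340982)))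
theorem Q57484 : ∀ i, i < 57484 → P i := stepQ 57483 Q57483 (allL N57483 (tt N76061 F312659) (tt N72234 (iv0 F348375)) (tt N94169 D197204) (tt N30555 (iv3 D107981)) (tt N79375 F312660) (tt N48216 (iv5 F314452)) (tt N76105 F312661) (tt N57688 (iv7 F212684)))
theorem Q57485 : ∀ i, i < 57485 → P i := stepQ 57484 Q57484 (allL N57484 (tt N76066 F312662) (tt N76107 (iv0 F315122)) (tt N57687 (iv2 F212686)) (tt N49651 (iv3 F315126)) (tt N30555 (iv4 D107982)) (tt N90433 (iv5 F389637)) (tt N72143 (iv6 F324308)) (tt N49646 F312664))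
theorem Q57486 : ∀ i, i < 57486 → P i := stepQ 57485 Q57485 (allL N57485 (tt N68561 (iv1 F333667)) (tt N80454 F309211) (tt N68486 (iv2 F210634)) (tt N30558 F166862) (tt N63592 F309212) (tt N38338 F166863) (tt N30557 (iv6 D107998)) (tt N42739 (iv7 F309313)))
theorem Q57487 : ∀ i, i < 57487 → P i := stepQ 57486 Q57486 (allL N57486 (tt N33821 F308903) (tt N78377 (iv0 F248533)) (tt N57706 F200039) (tt N68517 (iv3 F339766)) (tt N77760 (iv4 F244871)) (tt N30560 (iv5 D108003)) (tt N72745 (iv6 F313167)) (tt N57708 F200035))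
theorem Q57488 : ∀ i, i < 57488 → P i := stepQ 57487 Q57487 (allL N57487 (tt N78377 F248534) (tt N33821 F308902) (tt N57708 (iv2 F200036)) (tt N36379 F237430) (tt N64232 (iv4 F323516)) (tt N30561 (iv5 D108006)) (tt N36377 F237431) (tt N57706 (iv7 F200038)))
theorem Q57489 : ∀ i, i < 57489 → P i := stepQ 57488 Q57488 (allL N57488 (tt N94170 D197205) (tt N94171 D197206) (tt N94172 D197207) (tt N30562 (iv3 D108008)) (tt N31606 F166882) (tt N43260 F347796) (tt N94173 D197208) (tt N31712 F166883))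
theorem Q57490 : ∀ i, i < 57490 → P i := stepQ 57489 Q57489 (allL N57489 (tt N32002 F166887) (tt N31997 F166888) (tt N55637 F166884) (tt N43260 F347789) (tt N35827 F166885) (tt N30562 (iv5 D108009)) (tt N94174 D197209) (tt N31713 F166886))
theorem Q57491 : ∀ i, i < 57491 → P i := stepQ 57490 Q57490 (allL N57490 (tt N65834 F202618) (tt N65836 (iv0 F202627)) (tt N55638 F166904) (tt N94173 (iv3 F403540)) (tt N31604 F166905) (tt N94175 D197210) (tt N30562 (iv6 D108010)) (tt N65853 (iv7 F202662)))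
theorem Q57492 : ∀ i, i < 57492 → P i := stepQ 57491 Q57491 (allL N57491 (tt N30563 (iv1 D108011)) (tt N42122 F166910) (tt N33445 (iv2 F166907)) (tt N94176 D197211) (tt N78668 (iv4 F340643)) (tt N33437 (iv5 F166908)) (tt N78666 F340642) (tt N42120 F166906))
theorem Q57493 : ∀ i, i < 57493 → P i := stepQ 57492 Q57492 (allL N57492 (tt N42120 (iv1 F166914)) (tt N33445 F166913) (tt N30563 (iv2 D108012)) (tt N57497 (iv3 F166934)) (tt N58572 (iv4 F169701)) (tt N72680 (iv5 F222862)) (tt N57295 F166911) (tt N42122 F166912))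
theorem Q57494 : ∀ i, i < 57494 → P i := stepQ 57493 Q57493 (allL N57493 (tt N40824 F166917) (tt N72677 (iv0 F222852)) (tt N72680 F222864) (tt N30564 F166915) (tt N56013 (iv4 F166916)) (tt N30563 (iv5 D108013)) (tt N94177 D197212) (tt N59966 (iv7 F174999)))
theorem Q57495 : ∀ i, i < 57495 → P i := stepQ 57494 Q57494 (allL N57494 (tt N31318 (iv1 F166924)) (tt N30564 (iv0 D108014)) (tt N55618 (iv2 F166923)) (tt N79913 (iv3 F354603)) (tt N32437 F166919) (tt N31324 F166918) (tt N79912 F354602) (tt N31669 F166925))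
theorem Q57496 : ∀ i, i < 57496 → P i := stepQ 57495 Q57495 (allL N57495 (tt N57364 F355513) (tt N94178 D197213) (tt N57499 (iv2 F166938)) (tt N94177 (iv3 F403558)) (tt N58510 (iv4 F169517)) (tt N57299 F166933) (tt N30564 (iv6 D108015)) (tt N94058 (iv7 F403015)))
theorem Q57497 : ∀ i, i < 57497 → P i := stepQ 57496 Q57496 (allL N57496 (tt N48343 (iv1 F321444)) (tt N30565 (iv0 D108016)) (tt N48345 F319457) (tt N81796 F319458) (tt N58294 F169984) (tt N75388 (iv5 F231419)) (tt N65070 F319459) (tt N48342 (iv7 F321443)))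
theorem Q57498 : ∀ i, i < 57498 → P i := stepQ 57497 Q57497 (allL N57497 (tt N48345 F319456) (tt N48342 (iv0 F321440)) (tt N30565 (iv2 D108018)) (tt N57492 F166934) (tt N70201 (iv4 F216945)) (tt N94179 D197214) (tt N57302 F166935) (tt N48343 F323080))
theorem Q57499 : ∀ i, i < 57499 → P i := stepQ 57498 Q57498 (allL N57498 (tt N94180 D197215) (tt N94181 D197216) (tt N94179 (iv2 F403570)) (tt N30566 F166936) (tt N42445 (iv4 F166937)) (tt N30565 (iv5 D108019)) (tt N82586 F346418) (tt N58849 (iv7 F171152)))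
theorem Q57500 : ∀ i, i < 57500 → P i := stepQ 57499 Q57499 (allL N57499 (tt N94081 (iv1 F403122)) (tt N77980 (iv0 F354570)) (tt N57495 F166938) (tt N82586 (iv3 F354571)) (tt N59721 (iv4 F173667)) (tt N57304 F166939) (tt N30566 (iv6 D108020)) (tt N94083 (iv7 F403130)))
theorem Q57501 : ∀ i, i < 57501 → P i := stepQ 57500 Q57500 (allL N57500 (tt N94182 D197217) (tt N94183 D197218) (tt N94184 D197219) (tt N30568 (iv3 D108021)) (tt N38692 F166940) (tt N48219 F317336) (tt N66440 (iv6 F204173)) (tt N30599 F166941))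
theorem Q57502 : ∀ i, i < 57502 → P i := stepQ 57501 Q57501 (allL N57501 (tt N60321 (iv1 F176197)) (tt N31567 F166945) (tt N30589 F166942) (tt N48219 F317335) (tt N44180 F166944) (tt N30568 (iv5 D108022)) (tt N94185 D197220) (tt N30600 F166943))
theorem Q57503 : ∀ i, i < 57503 → P i := stepQ 57502 Q57502 (allL N57502 (tt N94186 D197221) (tt N94187 D197222) (tt N94188 D197223) (tt N30569 (iv3 D108023)) (tt N65452 (iv4 F201750)) (tt N92424 (iv5 F396971)) (tt N74298 (iv6 F227243)) (tt N30588 F166946))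
theorem Q57504 : ∀ i, i < 57504 → P i := stepQ 57503 Q57503 (allL N57503 (tt N31567 F166950) (tt N60321 F176196) (tt N30600 F166947) (tt N92424 F396969) (tt N44179 F166948) (tt N30569 (iv5 D108024)) (tt N94189 D197224) (tt N30589 F166949))
theorem Q57505 : ∀ i, i < 57505 → P i := stepQ 57504 Q57504 (allL N57504 (tt N94190 D197225) (tt N94191 D197226) (tt N94192 D197227) (tt N30570 (iv3 D108025)) (tt N30712 F166951) (tt N30658 F167058) (tt N94193 D197228) (tt N30611 F166952))
theorem Q57506 : ∀ i, i < 57506 → P i := stepQ 57505 Q57505 (allL N57505 (tt N57534 (iv1 F167063)) (tt N57531 (iv0 F167050)) (tt N30605 F166953) (tt N30658 (iv3 F167053)) (tt N44172 F166954) (tt N30570 (iv5 D108026)) (tt N94194 D197229) (tt N30612 F166955))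
theorem Q57507 : ∀ i, i < 57507 → P i := stepQ 57506 Q57506 (allL N57506 (tt N94195 D197230) (tt N72271 (iv0 F221810)) (tt N30606 F166956) (tt N94193 (iv3 F403649)) (tt N30571 F166957) (tt N94196 D197231) (tt N30570 (iv6 D108027)) (tt N94197 D197232))
theorem Q57508 : ∀ i, i < 57508 → P i := stepQ 57507 Q57507 (allL N57507 (tt N30571 (iv1 D108028)) (tt N30609 F166958) (tt N30608 (iv2 F166960)) (tt N57311 (iv3 F166961)) (tt N77913 (iv4 F245282)) (tt N59971 (iv5 F175025)) (tt N58781 (iv6 F170734)) (tt N30607 F166959))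
theorem Q57509 : ∀ i, i < 57509 → P i := stepQ 57508 Q57508 (allL N57508 (tt N30608 (iv1 F166966)) (tt N30607 F166967) (tt N30609 F166962) (tt N38705 F166963) (tt N94197 (iv4 F403661)) (tt N32005 F166964) (tt N30615 F166965) (tt N30571 (iv7 D108029)))
theorem Q57510 : ∀ i, i < 57510 → P i := stepQ 57509 Q57509 (allL N57509 (tt N48112 F354250) (tt N30572 (iv0 D108030)) (tt N94198 D197233) (tt N94199 D197234) (tt N82181 F354251) (tt N59304 F356564) (tt N94200 D197235) (tt N94201 D197236))
theorem Q57511 : ∀ i, i < 57511 → P i := stepQ 57510 Q57510 (allL N57510 (tt N30572 (iv1 D108031)) (tt N48112 F366666) (tt N94201 (iv2 F403674)) (tt N94202 D197237) (tt N94203 D197238) (tt N59308 F366667) (tt N94204 D197239) (tt N94198 F403666))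
theorem Q57512 : ∀ i, i < 57512 → P i := stepQ 57511 Q57511 (allL N57511 (tt N94198 F403668) (tt N94201 F403677) (tt N30572 (iv2 D108032)) (tt N30623 F166968) (tt N35455 (iv4 F316893)) (tt N94205 D197240) (tt N55871 F166970) (tt N48112 F315144))
theorem Q57513 : ∀ i, i < 57513 → P i := stepQ 57512 Q57512 (allL N57512 (tt N94206 D197241) (tt N75149 (iv0 F356552)) (tt N94205 (iv2 F403694)) (tt N30573 F166971) (tt N94207 D197242) (tt N30572 (iv5 D108033)) (tt N94208 D197243) (tt N44285 (iv7 F166972)))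
theorem Q57514 : ∀ i, i < 57514 → P i := stepQ 57513 Q57513 (allL N57513 (tt N94201 (iv1 F403678)) (tt N94198 F403669) (tt N48112 F320633) (tt N30574 F166973) (tt N48111 F320634) (tt N44285 F166975) (tt N94209 D197244) (tt N30572 (iv7 D108034)))
theorem Q57515 : ∀ i, i < 57515 → P i := stepQ 57514 Q57514 (allL N57514 (tt N94210 D197245) (tt N94211 D197246) (tt N30629 F166976) (tt N94208 (iv3 F403707)) (tt N44290 F166977) (tt N55874 F166978) (tt N30573 (iv6 D108035)) (tt N94212 D197247))
theorem Q57516 : ∀ i, i < 57516 → P i := stepQ 57515 Q57515 (allL N57515 (tt N55994 (iv1 F166982)) (tt N55993 F166983) (tt N30631 F166979) (tt N94209 (iv3 F403710)) (tt N30575 F166980) (tt N94213 D197248) (tt N30574 (iv6 D108036)) (tt N55875 F166981))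
theorem Q57517 : ∀ i, i < 57517 → P i := stepQ 57516 Q57516 (allL N57516 (tt N94214 D197249) (tt N94215 D197250) (tt N89364 (iv2 F386251)) (tt N30577 (iv3 D108037)) (tt N30588 F166988) (tt N70880 (iv5 F218646)) (tt N89263 (iv6 F385838)) (tt N65452 (iv7 F201752)))
theorem Q57518 : ∀ i, i < 57518 → P i := stepQ 57517 Q57517 (allL N57517 (tt N44322 F166990) (tt N48854 F326314) (tt N65449 (iv2 F201733)) (tt N89263 F385835) (tt N30578 F166989) (tt N71866 (iv5 F220777)) (tt N30577 (iv6 D108038)) (tt N71137 (iv7 F219522)))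
theorem Q57519 : ∀ i, i < 57519 → P i := stepQ 57518 Q57518 (allL N57518 (tt N44455 (iv1 F166997)) (tt N65450 F201744) (tt N65451 (iv2 F201745)) (tt N30593 F166995) (tt N71137 (iv4 F219520)) (tt N62065 (iv5 F179928)) (tt N57183 F166996) (tt N30578 (iv7 D108041)))
theorem Q57520 : ∀ i, i < 57520 → P i := stepQ 57519 Q57519 (allL N57519 (tt N57407 F168107) (tt N60055 F175401) (tt N32151 F166998) (tt N38665 F166999) (tt N39506 F167000) (tt N57519 F167001) (tt N30579 (iv6 D108042)) (tt N31246 F167002))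
theorem Q57521 : ∀ i, i < 57521 → P i := stepQ 57520 Q57520 (allL N57520 (tt N67732 F207641) (tt N94216 D197251) (tt N37691 F167003) (tt N38691 F167004) (tt N77808 (iv4 F245028)) (tt N35962 F167005) (tt N30580 (iv6 D108043)) (tt N94217 D197252))
theorem Q57522 : ∀ i, i < 57522 → P i := stepQ 57521 Q57521 (allL N57521 (tt N44279 F167008) (tt N44274 F245484) (tt N44275 F167009) (tt N30581 (iv3 D108044)) (tt N69723 (iv4 F215953)) (tt N44281 F167006) (tt N94218 D197253) (tt N44276 F167007))
theorem Q57523 : ∀ i, i < 57523 → P i := stepQ 57522 Q57522 (allL N57522 (tt N44203 (iv1 F167013)) (tt N44204 (iv0 F167012)) (tt N57319 F167010) (tt N94218 (iv3 F403744)) (tt N30582 F167011) (tt N73617 (iv5 F225256)) (tt N30581 (iv6 D108045)) (tt N71872 (iv7 F220784)))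
theorem Q57524 : ∀ i, i < 57524 → P i := stepQ 57523 Q57523 (allL N57523 (tt N57322 (iv1 F167033)) (tt N30582 (iv0 D108046)) (tt N57320 F167026) (tt N38694 (iv3 F167028)) (tt N39694 F167014) (tt N53977 (iv5 F328168)) (tt N57972 (iv6 F168665)) (tt N57321 (iv7 F167030)))
theorem Q57525 : ∀ i, i < 57525 → P i := stepQ 57524 Q57524 (allL N57524 (tt N30582 (iv1 D108047)) (tt N57322 F167016) (tt N57321 (iv2 F167031)) (tt N30637 F167018) (tt N39695 F167020) (tt N54494 (iv5 F328177)) (tt N74203 (iv6 F226982)) (tt N57320 F167019))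
theorem Q57526 : ∀ i, i < 57526 → P i := stepQ 57525 Q57525 (allL N57525 (tt N57321 (iv1 F167035)) (tt N57320 F167036) (tt N57322 F167034) (tt N69726 (iv3 F215969)) (tt N71872 (iv4 F220782)) (tt N55368 (iv5 F328544)) (tt N66262 F203860) (tt N30582 (iv7 D108048)))
theorem Q57527 : ∀ i, i < 57527 → P i := stepQ 57526 Q57526 (allL N57526 (tt N82314 (iv1 F355445)) (tt N82313 F353528) (tt N65379 F353527) (tt N30583 (iv3 D108049)) (tt N57327 F167037) (tt N94219 D197254) (tt N40901 F353524) (tt N77858 (iv7 F245157)))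
theorem Q57528 : ∀ i, i < 57528 → P i := stepQ 57527 Q57527 (allL N57527 (tt N39512 F167040) (tt N39416 F167041) (tt N37896 F167038) (tt N94219 (iv3 F403745)) (tt N39503 F167039) (tt N30583 (iv5 D108050)) (tt N61950 F360860) (tt N57599 (iv7 F167209)))
theorem Q57529 : ∀ i, i < 57529 → P i := stepQ 57528 Q57528 (allL N57528 (tt N74729 (iv1 F228681)) (tt N74728 F228678) (tt N37894 F167042) (tt N40901 F347239) (tt N30584 F167043) (tt N40900 F347240) (tt N30583 (iv6 D108051)) (tt N74720 (iv7 F228660)))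
theorem Q57530 : ∀ i, i < 57530 → P i := stepQ 57529 Q57529 (allL N57529 (tt N39416 F167046) (tt N39512 F167047) (tt N57599 F167207) (tt N78081 (iv3 F245702)) (tt N39038 F167044) (tt N30585 (iv5 D108052)) (tt N94220 D197255) (tt N37896 F167045))
theorem Q57531 : ∀ i, i < 57531 → P i := stepQ 57530 Q57530 (allL N57530 (tt N94221 D197256) (tt N94222 D197257) (tt N94223 D197258) (tt N30586 (iv3 D108053)) (tt N38762 F167048) (tt N94224 D197259) (tt N94225 D197260) (tt N71376 (iv7 F219998)))
theorem Q57532 : ∀ i, i < 57532 → P i := stepQ 57531 Q57531 (allL N57531 (tt N57505 F167050) (tt N36063 F167051) (tt N57572 F167168) (tt N94224 (iv3 F403753)) (tt N39507 F167049) (tt N30586 (iv5 D108054)) (tt N92541 F397311) (tt N57571 F167163))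
theorem Q57533 : ∀ i, i < 57533 → P i := stepQ 57532 Q57532 (allL N57532 (tt N71942 (iv1 F344614)) (tt N71941 (iv0 F347232)) (tt N55931 (iv2 F342913)) (tt N94225 (iv3 F403757)) (tt N38746 F167059) (tt N55930 F344618) (tt N30586 (iv6 D108055)) (tt N71937 (iv7 F360508)))
theorem Q57534 : ∀ i, i < 57534 → P i := stepQ 57533 Q57533 (allL N57533 (tt N82309 F366549) (tt N57539 (iv0 F167076)) (tt N94226 D197261) (tt N30587 (iv3 D108056)) (tt N37256 F167060) (tt N57566 (iv5 F167126)) (tt N94227 D197262) (tt N55934 (iv7 F344607)))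
theorem Q57535 : ∀ i, i < 57535 → P i := stepQ 57534 Q57534 (allL N57534 (tt N36063 F167062) (tt N57505 F167063) (tt N57571 F167162) (tt N57566 (iv3 F167127)) (tt N39508 F167061) (tt N30587 (iv5 D108057)) (tt N94228 D197263) (tt N57572 (iv7 F167165)))
theorem Q57536 : ∀ i, i < 57536 → P i := stepQ 57535 Q57535 (allL N57535 (tt N55859 F167067) (tt N55923 F167068) (tt N55921 F167065) (tt N94227 (iv3 F403777)) (tt N37255 F167066) (tt N94229 D197264) (tt N30587 (iv6 D108058)) (tt N55920 (iv7 F167072)))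
theorem Q57537 : ∀ i, i < 57537 → P i := stepQ 57536 Q57536 (allL N57536 (tt N94188 (iv1 F403625)) (tt N30588 (iv0 D108059)) (tt N94187 F403617) (tt N32205 F167074) (tt N94230 D197265) (tt N32204 F167073) (tt N94231 D197266) (tt N94186 F403612))
theorem Q57538 : ∀ i, i < 57538 → P i := stepQ 57537 Q57537 (allL N57537 (tt N30588 (iv1 D108060)) (tt N94188 F403626) (tt N94186 (iv2 F403620)) (tt N94232 D197267) (tt N90700 (iv4 F390558)) (tt N94233 D197268) (tt N94234 D197269) (tt N94187 F403619))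
theorem Q57539 : ∀ i, i < 57539 → P i := stepQ 57538 Q57538 (allL N57538 (tt N94187 F403618) (tt N94186 F403611) (tt N30588 (iv2 D108061)) (tt N94184 (iv3 F403599)) (tt N89364 (iv4 F386253)) (tt N92423 (iv5 F396963)) (tt N89363 F386250) (tt N94188 (iv7 F403624)))
theorem Q57540 : ∀ i, i < 57540 → P i := stepQ 57539 Q57539 (allL N57539 (tt N57533 F167076) (tt N92302 (iv0 F396636)) (tt N92423 F396966) (tt N30589 F167075) (tt N94235 D197270) (tt N30588 (iv5 D108062)) (tt N94236 D197271) (tt N92424 (iv7 F396968)))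
theorem Q57541 : ∀ i, i < 57541 → P i := stepQ 57540 Q57540 (allL N57540 (tt N94237 D197272) (tt N89902 (iv0 F387920)) (tt N89363 (iv2 F386249)) (tt N30590 F167077) (tt N89263 (iv4 F385837)) (tt N94238 D197273) (tt N30588 (iv6 D108063)) (tt N89365 (iv7 F386255)))
theorem Q57542 : ∀ i, i < 57542 → P i := stepQ 57541 Q57541 (allL N57541 (tt N30600 (iv1 F167080)) (tt N30589 (iv0 D108064)) (tt N60321 (iv2 F176193)) (tt N94239 D197274) (tt N32150 F167079) (tt N30603 F167078) (tt N94240 D197275) (tt N31567 F167081))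
theorem Q57543 : ∀ i, i < 57543 → P i := stepQ 57542 Q57542 (allL N57542 (tt N94241 D197276) (tt N94242 D197277) (tt N94185 (iv2 F403606)) (tt N94236 (iv3 F403801)) (tt N44284 F167083) (tt N94243 D197278) (tt N30589 (iv6 D108065)) (tt N94244 D197279))
theorem Q57544 : ∀ i, i < 57544 → P i := stepQ 57543 Q57543 (allL N57543 (tt N66442 (iv1 F204179)) (tt N30590 (iv0 D108066)) (tt N66438 F204165) (tt N94245 D197280) (tt N44186 F167084) (tt N92450 (iv5 F397037)) (tt N55902 (iv6 F167085)) (tt N66439 (iv7 F204170)))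
theorem Q57545 : ∀ i, i < 57545 → P i := stepQ 57544 Q57544 (allL N57544 (tt N30590 (iv1 D108067)) (tt N66442 F204178) (tt N66439 F204172) (tt N94246 D197281) (tt N37275 F167086) (tt N92449 (iv5 F397031)) (tt N94247 D197282) (tt N66438 F204167))
theorem Q57546 : ∀ i, i < 57546 → P i := stepQ 57545 Q57545 (allL N57545 (tt N74264 F396645) (tt N94248 D197283) (tt N66441 (iv2 F204174)) (tt N94238 (iv3 F403802)) (tt N94249 D197284) (tt N30590 (iv5 D108068)) (tt N94243 (iv6 F403817)) (tt N94250 D197285))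
theorem Q57547 : ∀ i, i < 57547 → P i := stepQ 57546 Q57546 (allL N57546 (tt N66439 (iv1 F204169)) (tt N66438 F204168) (tt N66442 (iv2 F204175)) (tt N89365 (iv3 F386254)) (tt N30593 F167087) (tt N94250 (iv5 F403831)) (tt N72495 F222615) (tt N30590 (iv7 D108069)))
theorem Q57548 : ∀ i, i < 57548 → P i := stepQ 57547 Q57547 (allL N57547 (tt N74293 (iv1 F227241)) (tt N44189 F167092) (tt N44462 F167088) (tt N94251 D197286) (tt N30591 (iv4 D108070)) (tt N92489 (iv5 F397140)) (tt N55906 F167089) (tt N66436 (iv7 F204157)))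
theorem Q57549 : ∀ i, i < 57549 → P i := stepQ 57548 Q57548 (allL N57548 (tt N44189 F167091) (tt N74293 F227240) (tt N66436 (iv2 F204156)) (tt N63156 F319577) (tt N30592 (iv4 D108071)) (tt N92488 (iv5 F397134)) (tt N74368 (iv6 F227567)) (tt N44462 F167090))
theorem Q57550 : ∀ i, i < 57550 → P i := stepQ 57549 Q57549 (allL N57549 (tt N94252 D197287) (tt N57616 (iv0 F167225)) (tt N94253 D197288) (tt N30595 (iv3 D108072)) (tt N30599 F167093) (tt N57852 (iv5 F167919)) (tt N72936 (iv6 F223630)) (tt N38692 F167094))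
theorem Q57551 : ∀ i, i < 57551 → P i := stepQ 57550 Q57550 (allL N57550 (tt N38702 (iv1 F167096)) (tt N30596 (iv0 D108073)) (tt N38700 (iv2 F167095)) (tt N66263 (iv3 F203862)) (tt N39906 (iv4 F167805)) (tt N57719 (iv5 F167625)) (tt N57965 (iv6 F168655)) (tt N38701 F167097))
theorem Q57552 : ∀ i, i < 57552 → P i := stepQ 57551 Q57551 (allL N57551 (tt N94254 D197289) (tt N33202 F355489) (tt N94255 D197290) (tt N30597 (iv3 D108074)) (tt N57305 F167099) (tt N44283 F167100) (tt N94256 D197291) (tt N57318 F167101))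
theorem Q57553 : ∀ i, i < 57553 → P i := stepQ 57552 Q57552 (allL N57552 (tt N44215 F167104) (tt N44216 (iv0 F167103)) (tt N61845 F179612) (tt N94256 (iv3 F403861)) (tt N30598 F167102) (tt N53497 (iv5 F359542)) (tt N30597 (iv6 D108075)) (tt N61846 (iv7 F179613)))
theorem Q57554 : ∀ i, i < 57554 → P i := stepQ 57553 Q57553 (allL N57553 (tt N94184 (iv1 F403603)) (tt N30599 (iv0 D108076)) (tt N94183 F403597) (tt N94257 D197292) (tt N94258 D197293) (tt N57676 F167382) (tt N94259 D197294) (tt N94182 F403591))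
theorem Q57555 : ∀ i, i < 57555 → P i := stepQ 57554 Q57554 (allL N57554 (tt N30599 (iv1 D108077)) (tt N94184 F403604) (tt N94182 F403590) (tt N82308 (iv3 F334055)) (tt N78064 (iv4 F245642)) (tt N57677 F167384) (tt N94260 D197295) (tt N94183 (iv7 F403592)))
theorem Q57556 : ∀ i, i < 57556 → P i := stepQ 57555 Q57555 (allL N57555 (tt N94183 F403598) (tt N94182 F403589) (tt N30599 (iv2 D108078)) (tt N94188 (iv3 F403622)) (tt N94253 (iv4 F403843)) (tt N48217 F317328) (tt N94261 D197296) (tt N94184 (iv7 F403602)))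
theorem Q57557 : ∀ i, i < 57557 → P i := stepQ 57556 Q57556 (allL N57556 (tt N94262 D197297) (tt N65245 F312674) (tt N48217 (iv2 F315128)) (tt N30600 F167105) (tt N35479 F312675) (tt N30599 (iv5 D108079)) (tt N77006 F312676) (tt N48219 (iv7 F315132)))
theorem Q57558 : ∀ i, i < 57558 → P i := stepQ 57557 Q57557 (allL N57557 (tt N94263 D197298) (tt N90972 (iv0 F391428)) (tt N94261 (iv2 F403875)) (tt N30601 F167108) (tt N72936 (iv4 F223629)) (tt N94264 D197299) (tt N30599 (iv6 D108080)) (tt N74300 (iv7 F227245)))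
theorem Q57559 : ∀ i, i < 57559 → P i := stepQ 57558 Q57558 (allL N57558 (tt N94265 D197300) (tt N94266 D197301) (tt N94189 (iv2 F403627)) (tt N77006 (iv3 F366511)) (tt N44282 F167109) (tt N94267 D197302) (tt N30600 (iv6 D108081)) (tt N94268 D197303))
theorem Q57560 : ∀ i, i < 57560 → P i := stepQ 57559 Q57559 (allL N57559 (tt N72495 (iv1 F222611)) (tt N30601 (iv0 D108082)) (tt N72497 (iv2 F222616)) (tt N94269 D197304) (tt N56815 F167110) (tt N94270 D197305) (tt N94271 D197306) (tt N55894 (iv7 F167111)))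
theorem Q57561 : ∀ i, i < 57561 → P i := stepQ 57560 Q57560 (allL N57560 (tt N94272 D197307) (tt N94273 D197308) (tt N74299 (iv2 F227244)) (tt N94264 (iv3 F403894)) (tt N94274 D197309) (tt N30601 (iv5 D108083)) (tt N94267 (iv6 F403904)) (tt N74301 (iv7 F227246)))
theorem Q57562 : ∀ i, i < 57562 → P i := stepQ 57561 Q57561 (allL N57561 (tt N60758 (iv1 F176833)) (tt N30602 (iv0 D108084)) (tt N65454 F201760) (tt N31460 (iv3 F167113)) (tt N39302 (iv4 F167115)) (tt N94275 D197310) (tt N31511 F167112) (tt N57415 F167117))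
theorem Q57563 : ∀ i, i < 57563 → P i := stepQ 57562 Q57562 (allL N57562 (tt N30602 (iv1 D108085)) (tt N60758 (iv0 F176830)) (tt N57415 (iv2 F176834)) (tt N72919 F223582) (tt N39303 F167118) (tt N94276 D197311) (tt N94277 D197312) (tt N65454 (iv7 F201762)))
theorem Q57564 : ∀ i, i < 57564 → P i := stepQ 57563 Q57563 (allL N57563 (tt N57415 (iv1 F167121)) (tt N65454 F201761) (tt N60758 (iv2 F176828)) (tt N30609 F167119) (tt N70858 (iv4 F218607)) (tt N32084 F167120) (tt N65456 (iv6 F201777)) (tt N30602 (iv7 D108086)))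
theorem Q57565 : ∀ i, i < 57565 → P i := stepQ 57564 Q57564 (allL N57564 (tt N94278 D197313) (tt N94279 D197314) (tt N94280 D197315) (tt N30603 (iv3 D108087)) (tt N31587 F167122) (tt N94239 (iv5 F403805)) (tt N94281 D197316) (tt N31566 F167123))
theorem Q57566 : ∀ i, i < 57566 → P i := stepQ 57565 Q57565 (allL N57565 (tt N55999 (iv1 F169258)) (tt N55997 (iv0 F168376)) (tt N60322 (iv2 F176198)) (tt N94281 (iv3 F403942)) (tt N31568 F167124) (tt N94282 D197317) (tt N30603 (iv6 D108088)) (tt N55927 F167125))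
theorem Q57567 : ∀ i, i < 57567 → P i := stepQ 57566 Q57566 (allL N57566 (tt N66342 (iv1 F204012)) (tt N30604 (iv0 D108089)) (tt N66341 F204014) (tt N57534 F167127) (tt N94283 D197318) (tt N57533 F167126) (tt N94284 D197319) (tt N66340 F204007))
theorem Q57568 : ∀ i, i < 57568 → P i := stepQ 57567 Q57567 (allL N57567 (tt N30604 (iv1 D108090)) (tt N66342 F204017) (tt N66340 (iv2 F204016)) (tt N94285 D197320) (tt N94286 D197321) (tt N92302 (iv5 F396635)) (tt N55929 (iv6 F336214)) (tt N66341 F204015))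
theorem Q57569 : ∀ i, i < 57569 → P i := stepQ 57568 Q57568 (allL N57568 (tt N66341 (iv1 F204013)) (tt N66340 F204006) (tt N30604 (iv2 D108091)) (tt N94192 (iv3 F403643)) (tt N70853 (iv4 F218594)) (tt N60316 (iv5 F176179)) (tt N94287 D197322) (tt N66342 (iv7 F204011)))
theorem Q57570 : ∀ i, i < 57570 → P i := stepQ 57569 Q57569 (allL N57569 (tt N60319 (iv1 F176191)) (tt N60318 F176187) (tt N60316 F176177) (tt N30605 F167128) (tt N60230 (iv4 F175954)) (tt N30604 (iv5 D108092)) (tt N94288 D197323) (tt N60317 (iv7 F176180)))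
theorem Q57571 : ∀ i, i < 57571 → P i := stepQ 57570 Q57570 (allL N57570 (tt N94289 D197324) (tt N94290 D197325) (tt N94287 (iv2 F403969)) (tt N30606 F167129) (tt N70855 (iv4 F218602)) (tt N94291 D197326) (tt N30604 (iv6 D108093)) (tt N94292 D197327))
theorem Q57572 : ∀ i, i < 57572 → P i := stepQ 57571 Q57571 (allL N57571 (tt N30612 (iv1 F167132)) (tt N30605 (iv0 D108094)) (tt N57534 (iv2 F167162)) (tt N94293 D197328) (tt N39510 F167131) (tt N39414 F167130) (tt N94294 D197329) (tt N57531 (iv7 F167163)))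
theorem Q57573 : ∀ i, i < 57573 → P i := stepQ 57572 Q57572 (allL N57572 (tt N30605 (iv1 D108095)) (tt N30612 F167164) (tt N57531 (iv2 F167168)) (tt N66340 (iv3 F204005)) (tt N39511 F167167) (tt N38172 F167166) (tt N61970 (iv6 F336210)) (tt N57534 F167165))
theorem Q57574 : ∀ i, i < 57574 → P i := stepQ 57573 Q57573 (allL N57573 (tt N94295 D197330) (tt N94296 D197331) (tt N94194 (iv2 F403651)) (tt N94288 (iv3 F403970)) (tt N44262 F167169) (tt N94297 D197332) (tt N30605 (iv6 D108096)) (tt N94298 D197333))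
theorem Q57575 : ∀ i, i < 57575 → P i := stepQ 57574 Q57574 (allL N57574 (tt N94197 (iv1 F403664)) (tt N30606 (iv0 D108097)) (tt N94195 F403655) (tt N94299 D197334) (tt N44218 F167170) (tt N94300 D197335) (tt N55950 (iv6 F167171)) (tt N72271 (iv7 F221809)))
theorem Q57576 : ∀ i, i < 57576 → P i := stepQ 57575 Q57575 (allL N57575 (tt N30606 (iv1 D108098)) (tt N94197 F403663) (tt N72271 (iv2 F221808)) (tt N94301 D197336) (tt N44219 F171181) (tt N94302 D197337) (tt N94303 D197338) (tt N94195 (iv7 F403657)))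
theorem Q57577 : ∀ i, i < 57577 → P i := stepQ 57576 Q57576 (allL N57576 (tt N92349 (iv1 F396794)) (tt N94304 D197339) (tt N94196 (iv2 F403659)) (tt N94291 (iv3 F403971)) (tt N94305 D197340) (tt N30606 (iv5 D108099)) (tt N94297 (iv6 F403980)) (tt N94306 D197341))
theorem Q57578 : ∀ i, i < 57578 → P i := stepQ 57577 Q57577 (allL N57577 (tt N72271 F221811) (tt N94195 F403658) (tt N94197 (iv2 F403660)) (tt N94292 (iv3 F403972)) (tt N30609 F167172) (tt N94306 (iv5 F403989)) (tt N66339 (iv6 F204002)) (tt N30606 (iv7 D108100)))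
theorem Q57579 : ∀ i, i < 57579 → P i := stepQ 57578 Q57578 (allL N57578 (tt N77915 (iv1 F245290)) (tt N30618 F167180) (tt N57417 F167173) (tt N94307 D197342) (tt N30607 (iv4 D108101)) (tt N94308 D197343) (tt N55955 F167174) (tt N77913 (iv7 F245281)))
theorem Q57580 : ∀ i, i < 57580 → P i := stepQ 57579 Q57579 (allL N57579 (tt N60111 F175588) (tt N60109 (iv0 F175581)) (tt N57418 F167175) (tt N57374 F167176) (tt N79602 (iv4 F332168)) (tt N30607 (iv5 D108102)) (tt N57374 F167177) (tt N59971 (iv7 F175026)))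
theorem Q57581 : ∀ i, i < 57581 → P i := stepQ 57580 Q57580 (allL N57580 (tt N30618 F167179) (tt N77915 F245289) (tt N77913 F245283) (tt N78160 (iv3 F246390)) (tt N30608 (iv4 D108103)) (tt N94309 D197344) (tt N74740 (iv6 F228797)) (tt N57417 F167178))
theorem Q57582 : ∀ i, i < 57582 → P i := stepQ 57581 Q57581 (allL N57581 (tt N38709 (iv1 F167186)) (tt N30610 (iv0 D108104)) (tt N38707 (iv2 F171587)) (tt N66277 (iv3 F203892)) (tt N39967 (iv4 F167848)) (tt N53530 (iv5 F329707)) (tt N94310 D197345) (tt N38708 (iv7 F171590)))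
theorem Q57583 : ∀ i, i < 57583 → P i := stepQ 57582 Q57582 (allL N57582 (tt N30610 (iv1 D108105)) (tt N38709 F167181) (tt N38708 F171588) (tt N31480 (iv3 F171583)) (tt N39968 F171582) (tt N53524 (iv5 F329697)) (tt N56005 F171584) (tt N38707 F171585))
theorem Q57584 : ∀ i, i < 57584 → P i := stepQ 57583 Q57583 (allL N57583 (tt N38708 (iv1 F167187)) (tt N38707 F167188) (tt N38709 F167182) (tt N30615 F167183) (tt N57836 (iv4 F167896)) (tt N31412 F167184) (tt N38705 F167185) (tt N30610 (iv7 D108106)))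
theorem Q57585 : ∀ i, i < 57585 → P i := stepQ 57584 Q57584 (allL N57584 (tt N94192 (iv1 F403647)) (tt N30611 (iv0 D108107)) (tt N94191 (iv2 F403639)) (tt N94311 D197346) (tt N89767 (iv4 F387486)) (tt N94262 (iv5 F403876)) (tt N55943 F387487) (tt N94190 (iv7 F403641)))
theorem Q57586 : ∀ i, i < 57586 → P i := stepQ 57585 Q57585 (allL N57585 (tt N30611 (iv1 D108108)) (tt N94192 F403648) (tt N94190 F403632) (tt N65265 (iv3 F340260)) (tt N65268 (iv4 F316982)) (tt N65245 F343143) (tt N94312 D197347) (tt N94191 (iv7 F403635)))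
theorem Q57587 : ∀ i, i < 57587 → P i := stepQ 57586 Q57586 (allL N57586 (tt N94191 F403642) (tt N94190 F403631) (tt N30611 (iv2 D108109)) (tt N66342 (iv3 F204008)) (tt N57832 (iv4 F167884)) (tt N30662 (iv5 F167193)) (tt N94313 D197348) (tt N94192 (iv7 F403646)))
theorem Q57588 : ∀ i, i < 57588 → P i := stepQ 57587 Q57587 (allL N57587 (tt N78182 (iv1 F246691)) (tt N65265 F315139) (tt N30662 F167192) (tt N30612 F167189) (tt N30660 (iv4 F167191)) (tt N30611 (iv5 D108110)) (tt N33866 F315140) (tt N30658 F167190))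
theorem Q57589 : ∀ i, i < 57589 → P i := stepQ 57588 Q57588 (allL N57588 (tt N94314 D197349) (tt N77496 (iv0 F366397)) (tt N94313 (iv2 F404010)) (tt N30613 F167194) (tt N57834 (iv4 F167892)) (tt N94315 D197350) (tt N30611 (iv6 D108111)) (tt N94316 D197351))
theorem Q57590 : ∀ i, i < 57590 → P i := stepQ 57589 Q57589 (allL N57589 (tt N94317 D197352) (tt N94318 D197353) (tt N66343 (iv2 F204018)) (tt N33866 F366545) (tt N44253 F167195) (tt N94319 D197354) (tt N30612 (iv6 D108112)) (tt N94320 D197355))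
theorem Q57591 : ∀ i, i < 57591 → P i := stepQ 57590 Q57590 (allL N57590 (tt N66339 (iv1 F204004)) (tt N30613 (iv0 D108113)) (tt N66335 F203990) (tt N91346 (iv3 F392823)) (tt N39410 F175796) (tt N94321 D197356) (tt N94322 D197357) (tt N66336 (iv7 F203994)))
theorem Q57592 : ∀ i, i < 57592 → P i := stepQ 57591 Q57591 (allL N57591 (tt N30613 (iv1 D108114)) (tt N66339 F204003) (tt N66336 F203996) (tt N94323 D197358) (tt N39411 F167196) (tt N94324 D197359) (tt N55935 (iv6 F167197)) (tt N66335 F203991))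
theorem Q57593 : ∀ i, i < 57593 → P i := stepQ 57592 Q57592 (allL N57592 (tt N92370 (iv1 F396841)) (tt N92369 (iv0 F396839)) (tt N66338 (iv2 F203999)) (tt N94315 (iv3 F404014)) (tt N94325 D197360) (tt N30613 (iv5 D108115)) (tt N94319 (iv6 F404019)) (tt N94326 D197361))
theorem Q57594 : ∀ i, i < 57594 → P i := stepQ 57593 Q57593 (allL N57593 (tt N66336 (iv1 F203993)) (tt N66335 F203992) (tt N66339 (iv2 F204000)) (tt N94316 (iv3 F404016)) (tt N30615 F167198) (tt N94326 (iv5 F404046)) (tt N94197 (iv6 F403662)) (tt N30613 (iv7 D108116)))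
theorem Q57595 : ∀ i, i < 57595 → P i := stepQ 57594 Q57594 (allL N57594 (tt N30620 F167201) (tt N71375 F219995) (tt N41428 F323288) (tt N94327 D197362) (tt N30614 (iv4 D108117)) (tt N94328 D197363) (tt N55938 F167200) (tt N66333 (iv7 F203982)))
theorem Q57596 : ∀ i, i < 57596 → P i := stepQ 57595 Q57595 (allL N57595 (tt N71379 (iv1 F220003)) (tt N30616 (iv0 D108118)) (tt N71378 F397087) (tt N71249 F219664) (tt N94329 D197364) (tt N77862 F358807) (tt N94330 D197365) (tt N71377 (iv7 F397085)))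
theorem Q57597 : ∀ i, i < 57597 → P i := stepQ 57596 Q57596 (allL N57596 (tt N30616 (iv1 D108119)) (tt N71379 F220006) (tt N71377 (iv2 F397088)) (tt N94331 D197366) (tt N93439 (iv4 F400745)) (tt N77861 (iv5 F344467)) (tt N55958 F397090) (tt N71378 F397091))
theorem Q57598 : ∀ i, i < 57598 → P i := stepQ 57597 Q57597 (allL N57597 (tt N71378 (iv1 F220004)) (tt N71377 F219999) (tt N30616 (iv2 D108120)) (tt N30617 F167202) (tt N58729 (iv4 F330470)) (tt N30616 (iv5 F167203)) (tt N94332 D197367) (tt N71379 (iv7 F220002)))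
theorem Q57599 : ∀ i, i < 57599 → P i := stepQ 57598 Q57598 (allL N57598 (tt N94333 D197368) (tt N94334 D197369) (tt N94332 (iv2 F404069)) (tt N30618 F167204) (tt N65473 (iv4 F201823)) (tt N94335 D197370) (tt N30616 (iv6 D108121)) (tt N94336 D197371))
theorem Q57600 : ∀ i, i < 57600 → P i := stepQ 57599 Q57599 (allL N57599 (tt N30619 (iv1 F167208)) (tt N30617 (iv0 D108122)) (tt N57529 (iv2 F167207)) (tt N94337 D197372) (tt N37420 F167206) (tt N44183 F167205) (tt N94338 D197373) (tt N57527 F167209))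
theorem Q57601 : ∀ i, i < 57601 → P i := stepQ 57600 Q57600 (allL N57600 (tt N94339 D197374) (tt N94340 D197375) (tt N71571 (iv2 F220233)) (tt N94332 (iv3 F404070)) (tt N44240 F167211) (tt N94341 D197376) (tt N30617 (iv6 D108123)) (tt N94342 D197377))
theorem Q57602 : ∀ i, i < 57602 → P i := stepQ 57601 Q57601 (allL N57601 (tt N92339 (iv1 F396754)) (tt N94343 D197378) (tt N77914 (iv2 F245284)) (tt N94335 (iv3 F404071)) (tt N94344 D197379) (tt N30618 (iv5 D108124)) (tt N94341 (iv6 F404081)) (tt N94345 D197380))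
theorem Q57603 : ∀ i, i < 57603 → P i := stepQ 57602 Q57602 (allL N57602 (tt N77913 (iv1 F245280)) (tt N57417 (iv0 F168828)) (tt N77915 (iv2 F245286)) (tt N94336 (iv3 F404072)) (tt N58071 F168824) (tt N94345 (iv5 F404087)) (tt N71375 (iv6 F219994)) (tt N30618 (iv7 D108125)))
theorem Q57604 : ∀ i, i < 57604 → P i := stepQ 57603 Q57603 (allL N57603 (tt N94346 D197381) (tt N94347 D197382) (tt N71380 (iv2 F220007)) (tt N30620 F167212) (tt N39500 F167213) (tt N94348 D197383) (tt N30619 (iv6 D108126)) (tt N94349 D197384))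
theorem Q57605 : ∀ i, i < 57605 → P i := stepQ 57604 Q57604 (allL N57604 (tt N41293 F167214) (tt N92377 (iv0 F396866)) (tt N71374 (iv2 F219990)) (tt N94348 (iv3 F404089)) (tt N94350 D197385) (tt N30620 (iv5 D108127)) (tt N94348 (iv6 F404090)) (tt N94351 D197386))
theorem Q57606 : ∀ i, i < 57606 → P i := stepQ 57605 Q57605 (allL N57605 (tt N41428 F323287) (tt N66333 (iv0 F203983)) (tt N71375 (iv2 F219992)) (tt N94349 (iv3 F404091)) (tt N39385 F167215) (tt N94351 (iv5 F404096)) (tt N77915 (iv6 F245288)) (tt N30620 (iv7 D108128)))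
theorem Q57607 : ∀ i, i < 57607 → P i := stepQ 57606 Q57606 (allL N57606 (tt N30622 (iv1 F167220)) (tt N30621 (iv0 D108129)) (tt N30625 (iv2 F167217)) (tt N48112 F315119) (tt N30655 F167218) (tt N94352 D197387) (tt N94353 D197388) (tt N30623 F167219))
theorem Q57608 : ∀ i, i < 57608 → P i := stepQ 57607 Q57607 (allL N57607 (tt N94337 F404077) (tt N94354 D197389) (tt N59304 F210278) (tt N30621 (iv3 D108131)) (tt N59302 (iv4 F210277)) (tt N94198 (iv5 F403665)) (tt N94355 D197390) (tt N59308 (iv7 F210274)))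
theorem Q57609 : ∀ i, i < 57609 → P i := stepQ 57608 Q57608 (allL N57608 (tt N48223 F343127) (tt N69040 F222269) (tt N72351 (iv2 F222267)) (tt N94198 F403667) (tt N94356 D197391) (tt N30621 (iv5 D108133)) (tt N94357 D197392) (tt N94202 (iv7 F403681)))
theorem Q57610 : ∀ i, i < 57610 → P i := stepQ 57609 Q57609 (allL N57609 (tt N94358 D197393) (tt N78160 (iv0 F361408)) (tt N72352 (iv2 F222270)) (tt N94355 (iv3 F404118)) (tt N72349 (iv4 F222264)) (tt N94359 D197394) (tt N30621 (iv6 D108134)) (tt N94360 D197395))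
theorem Q57611 : ∀ i, i < 57611 → P i := stepQ 57610 Q57610 (allL N57610 (tt N30623 F210271) (tt N30625 F210272) (tt N30622 F167222) (tt N59308 F210273) (tt N42959 F315142) (tt N94202 (iv5 F403680)) (tt N41426 F315143) (tt N30621 (iv7 D108135)))
theorem Q57612 : ∀ i, i < 57612 → P i := stepQ 57611 Q57611 (allL N57611 (tt N71246 F394185) (tt N71249 (iv0 F366313)) (tt N94361 D197396) (tt N30622 (iv3 D108136)) (tt N72364 (iv4 F222289)) (tt N94362 D197397) (tt N76045 F366664) (tt N72350 (iv7 F222266)))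
theorem Q57613 : ∀ i, i < 57613 → P i := stepQ 57612 Q57612 (allL N57612 (tt N69040 (iv1 F212505)) (tt N48223 F315168) (tt N94202 F403682) (tt N94362 (iv3 F404130)) (tt N70232 F343128) (tt N30622 (iv5 D108137)) (tt N94363 D197398) (tt N72351 (iv7 F222268)))
theorem Q57614 : ∀ i, i < 57614 → P i := stepQ 57613 Q57613 (allL N57613 (tt N82311 F315145) (tt N82312 F315146) (tt N30624 F167224) (tt N94205 (iv3 F403695)) (tt N70207 (iv4 F216975)) (tt N30623 (iv5 D108140)) (tt N94364 D197399) (tt N94352 (iv7 F404102)))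
theorem Q57615 : ∀ i, i < 57615 → P i := stepQ 57614 Q57614 (allL N57614 (tt N94352 (iv1 F404104)) (tt N30624 (iv0 D108141)) (tt N82311 (iv2 F366618)) (tt N94365 D197400) (tt N94366 D197401) (tt N65378 (iv5 F316477)) (tt N94367 D197402) (tt N82312 (iv7 F366619)))
theorem Q57616 : ∀ i, i < 57616 → P i := stepQ 57615 Q57615 (allL N57615 (tt N30624 (iv1 D108142)) (tt N94352 (iv0 F404103)) (tt N82312 F366616) (tt N94368 D197403) (tt N94369 D197404) (tt N65377 (iv5 F316480)) (tt N94370 D197405) (tt N82311 F366617))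
theorem Q57617 : ∀ i, i < 57617 → P i := stepQ 57616 Q57616 (allL N57616 (tt N57549 F167225) (tt N70209 F403605) (tt N70207 F216974) (tt N94371 D197406) (tt N30624 (iv4 D108143)) (tt N90443 F389661) (tt N94372 D197407) (tt N70208 (iv7 F216973)))
theorem Q57618 : ∀ i, i < 57618 → P i := stepQ 57617 Q57617 (allL N57617 (tt N94373 D197408) (tt N92335 F404144) (tt N94364 (iv2 F404140)) (tt N30629 F167226) (tt N94372 (iv4 F404169)) (tt N55869 (iv5 F361839)) (tt N30624 (iv6 D108144)) (tt N94374 D197409))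
theorem Q57619 : ∀ i, i < 57619 → P i := stepQ 57618 Q57618 (allL N57618 (tt N82312 F364525) (tt N82311 (iv0 F366580)) (tt N94352 (iv2 F404099)) (tt N30630 F167228) (tt N70208 F216972) (tt N30625 F167229) (tt N94375 D197410) (tt N30624 (iv7 D108145)))
theorem Q57620 : ∀ i, i < 57620 → P i := stepQ 57619 Q57619 (allL N57619 (tt N94376 D197411) (tt N73943 (iv0 F226249)) (tt N94353 (iv2 F404105)) (tt N30631 F167230) (tt N30668 F167231) (tt N94377 D197412) (tt N30625 (iv6 D108146)) (tt N40588 F167232))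
theorem Q57621 : ∀ i, i < 57621 → P i := stepQ 57620 Q57620 (allL N57620 (tt N77862 (iv1 F245166)) (tt N77861 F245162) (tt N56813 F167233) (tt N30626 (iv3 D108147)) (tt N56819 (iv4 F167235)) (tt N44188 F167234) (tt N94378 D197413) (tt N77863 (iv7 F245165)))
theorem Q57622 : ∀ i, i < 57622 → P i := stepQ 57621 Q57621 (allL N57621 (tt N94379 D197414) (tt N94380 D197415) (tt N77859 (iv2 F245158)) (tt N94378 (iv3 F404186)) (tt N44211 F167236) (tt N94381 D197416) (tt N30626 (iv6 D108148)) (tt N94382 D197417))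
theorem Q57623 : ∀ i, i < 57623 → P i := stepQ 57622 Q57622 (allL N57622 (tt N94383 D197418) (tt N94384 D197419) (tt N93392 (iv2 F400629)) (tt N44185 F167237) (tt N44198 F167238) (tt N94385 D197420) (tt N30627 (iv6 D108149)) (tt N94386 D197421))
theorem Q57624 : ∀ i, i < 57624 → P i := stepQ 57623 Q57623 (allL N57623 (tt N94387 D197422) (tt N94388 D197423) (tt N94389 D197424) (tt N30628 (iv3 D108150)) (tt N94371 (iv4 F404167)) (tt N44178 F167239) (tt N93645 F401419) (tt N44177 F167240))
theorem Q57625 : ∀ i, i < 57625 → P i := stepQ 57624 Q57624 (allL N57624 (tt N94390 D197425) (tt N94391 D197426) (tt N44290 F167241) (tt N93645 (iv3 F401418)) (tt N30629 F167242) (tt N93644 F401414) (tt N30628 (iv6 D108151)) (tt N94392 D197427))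
theorem Q57626 : ∀ i, i < 57626 → P i := stepQ 57625 Q57625 (allL N57625 (tt N94212 (iv1 F403721)) (tt N30629 (iv0 D108152)) (tt N94210 (iv2 F404245)) (tt N93684 F404246) (tt N94393 D197428) (tt N94394 D197429) (tt N94395 D197430) (tt N94211 F404247))
theorem Q57627 : ∀ i, i < 57627 → P i := stepQ 57626 Q57626 (allL N57626 (tt N30629 (iv1 D108153)) (tt N94212 F403720) (tt N94211 F404244) (tt N69037 (iv3 F404224)) (tt N94396 D197431) (tt N94397 D197432) (tt N94398 D197433) (tt N94210 (iv7 F404243)))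
theorem Q57628 : ∀ i, i < 57628 → P i := stepQ 57627 Q57627 (allL N57627 (tt N94211 (iv1 F403714)) (tt N94210 F403719) (tt N94212 (iv2 F403715)) (tt N94374 (iv3 F404174)) (tt N94392 (iv4 F404235)) (tt N55991 F167243) (tt N94399 D197434) (tt N30629 (iv7 D108154)))
theorem Q57629 : ∀ i, i < 57629 → P i := stepQ 57628 Q57628 (allL N57628 (tt N94400 D197435) (tt N94401 D197436) (tt N44286 F167244) (tt N94375 (iv3 F404178)) (tt N44181 F167245) (tt N94402 D197437) (tt N30630 (iv6 D108155)) (tt N94399 (iv7 F404270)))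
theorem Q57630 : ∀ i, i < 57630 → P i := stepQ 57629 Q57629 (allL N57629 (tt N30631 (iv1 D108156)) (tt N55875 F167246) (tt N55993 F167249) (tt N94403 D197438) (tt N33206 (iv4 F167248)) (tt N94404 D197439) (tt N94405 D197440) (tt N55994 F167247))
theorem Q57631 : ∀ i, i < 57631 → P i := stepQ 57630 Q57630 (allL N57630 (tt N94406 D197441) (tt N94407 D197442) (tt N94213 (iv2 F403722)) (tt N94377 (iv3 F404183)) (tt N74734 F396705) (tt N30631 (iv5 D108157)) (tt N94402 (iv6 F404312)) (tt N55995 F167251))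
theorem Q57632 : ∀ i, i < 57632 → P i := stepQ 57631 Q57631 (allL N57631 (tt N55927 F168321) (tt N60322 F176201) (tt N55999 F202567) (tt N72125 (iv3 F221390)) (tt N30632 (iv4 D108159)) (tt N48224 F351838) (tt N94408 D197443) (tt N55997 (iv7 F202556)))
theorem Q57633 : ∀ i, i < 57633 → P i := stepQ 57632 Q57632 (allL N57632 (tt N41291 (iv1 F167255)) (tt N41297 (iv0 F167254)) (tt N41296 F202564) (tt N72127 (iv3 F221393)) (tt N94409 D197444) (tt N30632 (iv5 D108160)) (tt N32086 F167253) (tt N41295 (iv7 F202557)))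
theorem Q57634 : ∀ i, i < 57634 → P i := stepQ 57633 Q57633 (allL N57633 (tt N58781 F170735) (tt N55954 (iv0 F167257)) (tt N35764 F202559) (tt N72128 (iv3 F221398)) (tt N94408 (iv4 F404336)) (tt N35749 F167256) (tt N30632 (iv6 D108161)) (tt N35760 (iv7 F202558)))
theorem Q57635 : ∀ i, i < 57635 → P i := stepQ 57634 Q57634 (allL N57634 (tt N60322 F176202) (tt N55927 (iv0 F168295)) (tt N55997 (iv2 F202568)) (tt N41572 F351841) (tt N30633 (iv4 D108164)) (tt N41571 F351842) (tt N69114 (iv6 F212803)) (tt N55999 F202569))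
theorem Q57636 : ∀ i, i < 57636 → P i := stepQ 57635 Q57635 (allL N57635 (tt N41297 F167261) (tt N41291 (iv0 F167262)) (tt N41295 (iv2 F202561)) (tt N74015 (iv3 F226605)) (tt N94410 D197445) (tt N30633 (iv5 D108165)) (tt N41575 F167260) (tt N41296 (iv7 F202563)))
theorem Q57637 : ∀ i, i < 57637 → P i := stepQ 57636 Q57636 (allL N57636 (tt N44469 (iv1 F167263)) (tt N30634 (iv0 D108166)) (tt N44468 (iv2 F245771)) (tt N54518 (iv3 F329275)) (tt N75859 (iv4 F312128)) (tt N78195 (iv5 F246891)) (tt N94411 D197446) (tt N44467 (iv7 F245774)))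
theorem Q57638 : ∀ i, i < 57638 → P i := stepQ 57637 Q57637 (allL N57637 (tt N30634 (iv1 D108167)) (tt N44469 (iv0 F167265)) (tt N44467 F245772) (tt N94412 D197447) (tt N39910 (iv4 F167264)) (tt N78196 F246899) (tt N62658 (iv6 F352801)) (tt N44468 F245768))
theorem Q57639 : ∀ i, i < 57639 → P i := stepQ 57638 Q57638 (allL N57638 (tt N72317 F222126) (tt N72320 F222428) (tt N82121 F340429) (tt N30635 F167270) (tt N93154 (iv4 F399692)) (tt N30634 (iv5 D108169)) (tt N88203 (iv6 F382160)) (tt N44470 F167271))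
theorem Q57640 : ∀ i, i < 57640 → P i := stepQ 57639 Q57639 (allL N57639 (tt N69501 F350608) (tt N69505 F259096) (tt N56453 F167274) (tt N88203 (iv3 F382159)) (tt N32182 F167275) (tt N79965 (iv5 F340438)) (tt N30635 (iv6 D108171)) (tt N88219 (iv7 F382225)))
theorem Q57641 : ∀ i, i < 57641 → P i := stepQ 57640 Q57640 (allL N57640 (tt N30636 (iv1 D108172)) (tt N60126 F175718) (tt N37276 (iv2 F167278)) (tt N54420 F357174) (tt N32121 F167277) (tt N54572 F357175) (tt N54416 (iv6 F357166)) (tt N37274 F167276))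
theorem Q57642 : ∀ i, i < 57642 → P i := stepQ 57641 Q57641 (allL N57641 (tt N66532 (iv1 F204365)) (tt N66535 (iv0 F204368)) (tt N60125 (iv2 F175714)) (tt N76886 (iv3 F346942)) (tt N79936 F350590) (tt N30636 (iv5 D108173)) (tt N79965 F350611) (tt N94413 D197448))
theorem Q57643 : ∀ i, i < 57643 → P i := stepQ 57642 Q57642 (allL N57642 (tt N37276 (iv1 F167281)) (tt N37274 F167282) (tt N60126 (iv2 F175715)) (tt N53424 F346758) (tt N30638 F167279) (tt N94413 (iv5 F404375)) (tt N44475 F167280) (tt N30636 (iv7 D108174)))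
theorem Q57644 : ∀ i, i < 57644 → P i := stepQ 57643 Q57643 (allL N57643 (tt N94414 D197449) (tt N94415 D197450) (tt N94416 D197451) (tt N30639 (iv3 D108191)) (tt N57336 F167295) (tt N93431 (iv5 F400724)) (tt N56973 F167296) (tt N44440 F167297))
theorem Q57645 : ∀ i, i < 57645 → P i := stepQ 57644 Q57644 (allL N57644 (tt N94417 D197452) (tt N94418 D197453) (tt N94419 D197454) (tt N30640 (iv3 D108192)) (tt N40150 F167298) (tt N93433 (iv5 F400729)) (tt N94420 D197455) (tt N44442 F167299))
theorem Q57646 : ∀ i, i < 57646 → P i := stepQ 57645 Q57645 (allL N57645 (tt N67307 F207051) (tt N67308 (iv0 F207053)) (tt N44441 F167300) (tt N94420 (iv3 F404413)) (tt N36769 F167301) (tt N59145 (iv5 F172193)) (tt N30640 (iv6 D108193)) (tt N56971 F167302))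
theorem Q57647 : ∀ i, i < 57647 → P i := stepQ 57646 Q57646 (allL N57646 (tt N44445 (iv1 F167303)) (tt N30641 (iv0 D108194)) (tt N44444 (iv2 F212175)) (tt N59670 (iv3 F332224)) (tt N65365 (iv4 F312964)) (tt N59669 (iv5 F343587)) (tt N74605 (iv6 F348817)) (tt N44443 (iv7 F212177)))
theorem Q57648 : ∀ i, i < 57648 → P i := stepQ 57647 Q57647 (allL N57647 (tt N30641 (iv1 D108195)) (tt N44445 (iv0 F167305)) (tt N44443 F212176) (tt N94421 D197456) (tt N39882 (iv4 F167304)) (tt N78185 (iv5 F246736)) (tt N94422 D197457) (tt N44444 F212174))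
theorem Q57649 : ∀ i, i < 57649 → P i := stepQ 57648 Q57648 (allL N57648 (tt N44444 (iv1 F167309)) (tt N44443 F167308) (tt N30641 (iv2 D108196)) (tt N65465 (iv3 F201787)) (tt N30646 F167306) (tt N36857 (iv5 F167310)) (tt N74595 (iv6 F366102)) (tt N44445 F167307))
theorem Q57650 : ∀ i, i < 57650 → P i := stepQ 57649 Q57649 (allL N57649 (tt N72340 (iv1 F222199)) (tt N72342 (iv0 F222205)) (tt N36857 F167311) (tt N30642 F167312) (tt N36854 F167314) (tt N30641 (iv5 D108197)) (tt N58013 (iv6 F354394)) (tt N44446 F167313))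
theorem Q57651 : ∀ i, i < 57651 → P i := stepQ 57650 Q57650 (allL N57650 (tt N74597 (iv1 F357277)) (tt N57195 (iv0 F364876)) (tt N74595 (iv2 F366100)) (tt N30643 F167316) (tt N30647 F167317) (tt N87296 F379004) (tt N30641 (iv6 D108198)) (tt N72706 (iv7 F222970)))
theorem Q57652 : ∀ i, i < 57652 → P i := stepQ 57651 Q57651 (allL N57651 (tt N94423 D197458) (tt N94424 D197459) (tt N56879 F167318) (tt N58013 F354395) (tt N59060 (iv4 F171941)) (tt N94425 D197460) (tt N30642 (iv6 D108199)) (tt N94426 D197461))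
theorem Q57653 : ∀ i, i < 57653 → P i := stepQ 57652 Q57652 (allL N57652 (tt N94427 D197462) (tt N94428 D197463) (tt N65467 (iv2 F201795)) (tt N87296 (iv3 F379005)) (tt N94429 D197464) (tt N30643 (iv5 D108200)) (tt N94425 (iv6 F404432)) (tt N74319 (iv7 F227333)))
theorem Q57654 : ∀ i, i < 57654 → P i := stepQ 57653 Q57653 (allL N57653 (tt N48149 F311284) (tt N94430 D197465) (tt N44461 F212159) (tt N94431 D197466) (tt N30644 (iv4 D108203)) (tt N94432 D197467) (tt N73183 (iv6 F322617)) (tt N44458 (iv7 F212196)))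
theorem Q57655 : ∀ i, i < 57655 → P i := stepQ 57654 Q57654 (allL N57654 (tt N65244 F311287) (tt N65243 F311288) (tt N65209 F311289) (tt N30645 (iv3 D108207)) (tt N94262 (iv4 F403877)) (tt N42747 (iv5 F312969)) (tt N94433 D197468) (tt N44460 F212156))
theorem Q57656 : ∀ i, i < 57656 → P i := stepQ 57655 Q57655 (allL N57655 (tt N94430 (iv1 F404444)) (tt N48149 F311290) (tt N44458 F212158) (tt N92867 (iv3 F398578)) (tt N30645 (iv4 D108208)) (tt N94434 D197469) (tt N94435 D197470) (tt N44461 F212157))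
theorem Q57657 : ∀ i, i < 57657 → P i := stepQ 57656 Q57656 (allL N57656 (tt N42081 F311291) (tt N42078 F311292) (tt N44459 (iv2 F212202)) (tt N94433 (iv3 F404462)) (tt N94435 (iv4 F404472)) (tt N74399 F311293) (tt N30645 (iv6 D108210)) (tt N74701 (iv7 F318459)))
theorem Q57658 : ∀ i, i < 57658 → P i := stepQ 57657 Q57657 (allL N57657 (tt N69601 F376743) (tt N69605 (iv0 F376680)) (tt N57209 F167330) (tt N72324 (iv3 F222131)) (tt N32173 F167331) (tt N94436 D197471) (tt N30648 (iv6 D108217)) (tt N94437 D197472))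
theorem Q57659 : ∀ i, i < 57659 → P i := stepQ 57658 Q57658 (allL N57658 (tt N55241 (iv1 F295865)) (tt N30649 (iv0 D108218)) (tt N60130 (iv2 F175747)) (tt N94438 D197473) (tt N32190 F175748) (tt N94439 D197474) (tt N57070 F175749) (tt N60131 (iv7 F175751)))
theorem Q57660 : ∀ i, i < 57660 → P i := stepQ 57659 Q57659 (allL N57659 (tt N30649 (iv1 D108219)) (tt N55241 (iv0 F295864)) (tt N60131 F175753) (tt N94440 D197475) (tt N32191 (iv4 F167332)) (tt N94441 D197476) (tt N94442 D197477) (tt N60130 F175745))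
theorem Q57661 : ∀ i, i < 57661 → P i := stepQ 57660 Q57660 (allL N57660 (tt N41138 F167333) (tt N94443 D197478) (tt N60132 (iv2 F175754)) (tt N72327 (iv3 F222132)) (tt N84615 (iv4 F369869)) (tt N30649 (iv5 D108220)) (tt N94436 (iv6 F404475)) (tt N94444 D197479))
theorem Q57662 : ∀ i, i < 57662 → P i := stepQ 57661 Q57661 (allL N57661 (tt N60131 (iv1 F175750)) (tt N60130 F175746) (tt N55241 (iv2 F295866)) (tt N42953 F319664) (tt N30652 F167334) (tt N94444 (iv5 F404501)) (tt N42951 (iv6 F321405)) (tt N30649 (iv7 D108221)))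
theorem Q57663 : ∀ i, i < 57663 → P i := stepQ 57662 Q57662 (allL N57662 (tt N38705 F171777) (tt N38662 (iv0 F167338)) (tt N38703 F171747) (tt N30650 (iv3 D108222)) (tt N40712 (iv4 F167337)) (tt N94445 D197480) (tt N40710 F167336) (tt N38704 (iv7 F171748)))
theorem Q57664 : ∀ i, i < 57664 → P i := stepQ 57663 Q57663 (allL N57663 (tt N60141 (iv1 F175781)) (tt N32156 (iv0 F171778)) (tt N60133 (iv2 F175760)) (tt N94446 D197481) (tt N30650 (iv4 D108223)) (tt N94447 D197482) (tt N39664 F167340) (tt N60135 (iv7 F175769)))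
theorem Q57665 : ∀ i, i < 57665 → P i := stepQ 57664 Q57664 (allL N57664 (tt N62635 F182899) (tt N35824 (iv0 F167343)) (tt N60134 (iv2 F175763)) (tt N94445 (iv3 F404506)) (tt N94448 D197483) (tt N30650 (iv5 D108224)) (tt N57414 F167341) (tt N35874 F167342))
theorem Q57666 : ∀ i, i < 57666 → P i := stepQ 57665 Q57665 (allL N57665 (tt N32147 F175782) (tt N57358 F175783) (tt N57357 F175898) (tt N30651 (iv3 D108225)) (tt N77820 (iv4 F245065)) (tt N65828 (iv5 F202442)) (tt N94449 D197484) (tt N57356 F167344))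
theorem Q57667 : ∀ i, i < 57667 → P i := stepQ 57666 Q57666 (allL N57666 (tt N32156 F167345) (tt N60141 F175780) (tt N60135 (iv2 F175768)) (tt N94450 D197485) (tt N30651 (iv4 D108226)) (tt N94451 D197486) (tt N94452 D197487) (tt N60133 (iv7 F175762)))
theorem Q57668 : ∀ i, i < 57668 → P i := stepQ 57667 Q57667 (allL N57667 (tt N35766 (iv1 F168064)) (tt N56215 (iv0 F167347)) (tt N58839 (iv2 F170877)) (tt N94449 (iv3 F404519)) (tt N94452 (iv4 F404523)) (tt N35606 F167346) (tt N30651 (iv6 D108227)) (tt N58842 (iv7 F170886)))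
theorem Q57669 : ∀ i, i < 57669 → P i := stepQ 57668 Q57668 (allL N57668 (tt N57392 F167738) (tt N39287 (iv0 F167352)) (tt N57373 F167349) (tt N42341 F319646) (tt N30653 (iv4 D108228)) (tt N42267 F337679) (tt N56012 F167350) (tt N57375 F167351))
theorem Q57670 : ∀ i, i < 57670 → P i := stepQ 57669 Q57669 (allL N57669 (tt N35899 F167358) (tt N35891 (iv0 F167359)) (tt N57374 F167354) (tt N30654 F167355) (tt N35516 F326045) (tt N30653 (iv5 D108229)) (tt N57418 F167356) (tt N35915 F167357))
theorem Q57671 : ∀ i, i < 57671 → P i := stepQ 57670 Q57670 (allL N57670 (tt N40590 (iv1 F167368)) (tt N40589 F167369) (tt N30668 F167365) (tt N36647 F315120) (tt N94353 (iv4 F404107)) (tt N42702 F315121) (tt N30655 (iv6 D108231)) (tt N40585 F167367))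
theorem Q57672 : ∀ i, i < 57672 → P i := stepQ 57671 Q57671 (allL N57671 (tt N48507 F314599) (tt N39974 F245521) (tt N77997 (iv2 F245508)) (tt N30656 (iv3 D108232)) (tt N65329 (iv4 F316037)) (tt N35477 F314600) (tt N94453 D197488) (tt N30661 F167370))
theorem Q57673 : ∀ i, i < 57673 → P i := stepQ 57672 Q57672 (allL N57672 (tt N65265 F315136) (tt N78182 (iv0 F246692)) (tt N30658 F167371) (tt N60316 (iv3 F176176)) (tt N30656 (iv4 D108233)) (tt N94192 (iv5 F403645)) (tt N94454 D197489) (tt N30662 F167372))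
theorem Q57674 : ∀ i, i < 57674 → P i := stepQ 57673 Q57673 (allL N57673 (tt N39950 F317345) (tt N74736 (iv0 F317358)) (tt N30659 F167376) (tt N94453 (iv3 F404528)) (tt N94454 (iv4 F404533)) (tt N41392 (iv5 F317347)) (tt N30656 (iv6 D108235)) (tt N33893 F315138))
theorem Q57675 : ∀ i, i < 57675 → P i := stepQ 57674 Q57674 (allL N57674 (tt N30657 (iv1 D108237)) (tt N76678 (iv0 F315451)) (tt N39942 F212028) (tt N36618 F313030) (tt N44419 (iv4 F219730)) (tt N69673 (iv5 F215584)) (tt N40603 F321206) (tt N48021 F313031))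
theorem Q57676 : ∀ i, i < 57676 → P i := stepQ 57675 Q57675 (allL N57675 (tt N94455 D197490) (tt N91540 (iv0 F393561)) (tt N77998 (iv2 F245523)) (tt N30659 F167379) (tt N77994 (iv4 F245492)) (tt N94456 D197491) (tt N30657 (iv6 D108239)) (tt N76687 F315148))
theorem Q57677 : ∀ i, i < 57677 → P i := stepQ 57676 Q57676 (allL N57676 (tt N30662 (iv1 F167381)) (tt N30658 (iv0 D108240)) (tt N65265 F313651) (tt N94457 D197492) (tt N39992 F167380) (tt N57553 (iv5 F167382)) (tt N94458 D197493) (tt N78182 (iv7 F246690)))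
theorem Q57678 : ∀ i, i < 57678 → P i := stepQ 57677 Q57677 (allL N57677 (tt N30658 (iv1 D108241)) (tt N30662 F167383) (tt N78182 (iv2 F246689)) (tt N94191 F403637) (tt N40003 F245503) (tt N57554 (iv5 F167384)) (tt N40896 F325038) (tt N65265 F315149))
theorem Q57679 : ∀ i, i < 57679 → P i := stepQ 57678 Q57678 (allL N57678 (tt N94459 D197494) (tt N94460 D197495) (tt N94454 (iv2 F404532)) (tt N94194 (iv3 F403652)) (tt N30659 F167385) (tt N94461 D197496) (tt N30658 (iv6 D108242)) (tt N94462 D197497))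
theorem Q57680 : ∀ i, i < 57680 → P i := stepQ 57679 Q57679 (allL N57679 (tt N33893 F315150) (tt N30659 (iv0 D108247)) (tt N39950 F317356) (tt N36384 F315151) (tt N94358 (iv4 F404122)) (tt N61445 F315152) (tt N40759 (iv6 F317372)) (tt N74736 (iv7 F317360)))
theorem Q57681 : ∀ i, i < 57681 → P i := stepQ 57680 Q57680 (allL N57680 (tt N36380 (iv1 F317362)) (tt N41391 (iv0 F317363)) (tt N41392 (iv2 F317346)) (tt N94456 (iv3 F404543)) (tt N94463 D197498) (tt N30659 (iv5 D108249)) (tt N36372 F315155) (tt N33569 F315156))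
theorem Q57682 : ∀ i, i < 57682 → P i := stepQ 57681 Q57681 (allL N57681 (tt N74736 F317366) (tt N39950 F317367) (tt N33893 F315157) (tt N76687 F315158) (tt N94462 (iv4 F404561)) (tt N33569 F315159) (tt N33582 F315160) (tt N30659 (iv7 D108250)))
theorem Q57683 : ∀ i, i < 57683 → P i := stepQ 57682 Q57682 (allL N57682 (tt N77997 F245512) (tt N30661 (iv0 D108252)) (tt N39974 F221941) (tt N48138 F312146) (tt N44413 F167401) (tt N94464 D197499) (tt N40726 F322930) (tt N48507 (iv7 F312263)))
theorem Q57684 : ∀ i, i < 57684 → P i := stepQ 57683 Q57683 (allL N57683 (tt N39974 F245516) (tt N48507 F314596) (tt N30661 (iv2 D108254)) (tt N76678 (iv3 F315454)) (tt N60234 F245518) (tt N42532 F314597) (tt N42742 F314598) (tt N77997 F245519))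
theorem Q57685 : ∀ i, i < 57685 → P i := stepQ 57684 Q57684 (allL N57684 (tt N60318 F176186) (tt N60319 F176190) (tt N60317 (iv2 F176182)) (tt N30662 (iv3 D108258)) (tt N82173 F315165) (tt N66342 (iv5 F204010)) (tt N42752 F315166) (tt N60316 F176178))
theorem Q57686 : ∀ i, i < 57686 → P i := stepQ 57685 Q57685 (allL N57685 (tt N57468 (iv1 F167409)) (tt N34879 (iv0 F312684)) (tt N30666 F167407) (tt N34479 (iv3 F312687)) (tt N30663 (iv4 D108266)) (tt N82853 F310493) (tt N80384 F310494) (tt N34536 (iv7 F312656)))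
theorem Q57687 : ∀ i, i < 57687 → P i := stepQ 57686 Q57686 (allL N57686 (tt N75819 (iv1 F311106)) (tt N69673 (iv0 F215586)) (tt N78214 (iv2 F247161)) (tt N30664 (iv3 D108269)) (tt N63835 F189777) (tt N65376 (iv5 F312529)) (tt N63101 F310479) (tt N42807 (iv7 F311946)))
theorem Q57688 : ∀ i, i < 57688 → P i := stepQ 57687 Q57687 (allL N57687 (tt N70525 (iv1 F217633)) (tt N84144 F368315) (tt N57484 F212686) (tt N94465 D197500) (tt N30664 (iv4 D108270)) (tt N94466 D197501) (tt N63103 F310480) (tt N42809 (iv7 F312672)))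
theorem Q57689 : ∀ i, i < 57689 → P i := stepQ 57688 Q57688 (allL N57688 (tt N94464 (iv1 F404576)) (tt N78088 F362438) (tt N80289 F310487) (tt N30665 (iv3 D108273)) (tt N63220 F310488) (tt N65373 (iv5 F312679)) (tt N42758 F310489) (tt N57483 F212684))
theorem Q57690 : ∀ i, i < 57690 → P i := stepQ 57689 Q57689 (allL N57689 (tt N34536 F315114) (tt N30666 (iv0 D108277)) (tt N57468 (iv2 F209833)) (tt N43470 F315115) (tt N72391 (iv4 F222366)) (tt N65359 F315116) (tt N71022 (iv6 F319002)) (tt N34879 F315118))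
theorem Q57691 : ∀ i, i < 57691 → P i := stepQ 57690 Q57690 (allL N57690 (tt N30666 (iv1 D108278)) (tt N34536 (iv0 F312654)) (tt N34879 (iv2 F312686)) (tt N89420 (iv3 F386431)) (tt N44544 (iv4 F167418)) (tt N65358 F311688) (tt N34486 F311689) (tt N57468 (iv7 F209831)))
theorem Q57692 : ∀ i, i < 57692 → P i := stepQ 57691 Q57691 (allL N57691 (tt N48174 F315172) (tt N42539 F315173) (tt N82853 F315174) (tt N57474 F167419) (tt N90442 (iv4 F389655)) (tt N30666 (iv5 D108279)) (tt N94467 D197502) (tt N57469 F167420))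
theorem Q57693 : ∀ i, i < 57693 → P i := stepQ 57692 Q57692 (allL N57692 (tt N75881 F364031) (tt N75878 F364032) (tt N80384 (iv2 F364034)) (tt N57478 F167421) (tt N30667 F167422) (tt N94468 D197503) (tt N30666 (iv6 D108280)) (tt N75837 F364033))
theorem Q57694 : ∀ i, i < 57694 → P i := stepQ 57693 Q57693 (allL N57693 (tt N40585 (iv1 F167426)) (tt N30668 (iv0 D108284)) (tt N40590 F359889) (tt N94469 D197504) (tt N94402 (iv4 F404314)) (tt N37615 F333705) (tt N74734 F333706) (tt N40589 F359890))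
theorem Q57695 : ∀ i, i < 57695 → P i := stepQ 57694 Q57694 (allL N57694 (tt N30668 (iv1 D108285)) (tt N40585 F167427) (tt N40589 F359886) (tt N94470 D197505) (tt N94471 D197506) (tt N37616 F333698) (tt N77781 F333699) (tt N40590 F359887))
theorem Q57696 : ∀ i, i < 57696 → P i := stepQ 57695 Q57695 (allL N57695 (tt N77774 F314103) (tt N77771 F314104) (tt N42702 F314105) (tt N30672 F167428) (tt N63506 F338961) (tt N30668 (iv5 D108286)) (tt N42770 (iv6 F311674)) (tt N40591 F167430))
theorem Q57697 : ∀ i, i < 57697 → P i := stepQ 57696 Q57696 (allL N57696 (tt N94472 D197507) (tt N78089 (iv0 F339620)) (tt N77060 F310504) (tt N30669 (iv3 D108288)) (tt N76965 F310505) (tt N63084 F310506) (tt N36477 F310507) (tt N57419 (iv7 F200165)))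
theorem Q57698 : ∀ i, i < 57698 → P i := stepQ 57697 Q57697 (allL N57697 (tt N76442 (iv1 F308653)) (tt N76007 F310509) (tt N75629 F309730) (tt N30670 (iv3 D108293)) (tt N44005 F309731) (tt N63083 F310510) (tt N94473 D197508) (tt N42865 (iv7 F312647)))
theorem Q57699 : ∀ i, i < 57699 → P i := stepQ 57698 Q57698 (allL N57698 (tt N42856 F310512) (tt N36370 F310513) (tt N42872 F310514) (tt N94473 (iv3 F404620)) (tt N39922 F313672) (tt N37151 F313673) (tt N30670 (iv6 D108296)) (tt N40213 (iv7 F314004)))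
theorem Q57700 : ∀ i, i < 57700 → P i := stepQ 57699 Q57699 (allL N57699 (tt N38102 F314132) (tt N38099 (iv0 F314871)) (tt N57420 F167446) (tt N66963 (iv3 F334224)) (tt N30672 (iv4 D108297)) (tt N36236 F167449) (tt N45484 F167447) (tt N40594 F167448))
theorem Q57701 : ∀ i, i < 57701 → P i := stepQ 57700 Q57700 (allL N57700 (tt N57433 F167453) (tt N56628 F167454) (tt N56090 F167450) (tt N37535 F167451) (tt N57276 (iv4 F340670)) (tt N30673 (iv5 D108298)) (tt N83946 (iv6 F367578)) (tt N56091 F167452))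
theorem Q57702 : ∀ i, i < 57702 → P i := stepQ 57701 Q57701 (allL N57701 (tt N38286 F167460) (tt N43061 F167461) (tt N31364 F167457) (tt N37292 F167458) (tt N87126 (iv4 F378449)) (tt N30675 (iv5 D108300)) (tt N60887 (iv6 F177145)) (tt N31366 F167459))
theorem Q57703 : ∀ i, i < 57703 → P i := stepQ 57702 Q57702 (allL N57702 (tt N94474 D197509) (tt N79996 (iv0 F339019)) (tt N37610 F167534) (tt N63564 (iv3 F309186)) (tt N30682 F167535) (tt N94475 D197510) (tt N30681 (iv6 D108359)) (tt N77617 (iv7 F333430)))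
theorem Q57704 : ∀ i, i < 57704 → P i := stepQ 57703 Q57703 (allL N57703 (tt N37614 (iv1 F167541)) (tt N30682 (iv0 D108360)) (tt N37615 F359883) (tt N53570 (iv3 F339022)) (tt N53573 F339023) (tt N40590 F357022) (tt N74314 (iv6 F357078)) (tt N37616 F359884))
theorem Q57705 : ∀ i, i < 57705 → P i := stepQ 57704 Q57704 (allL N57704 (tt N30682 (iv1 D108361)) (tt N37614 F167536) (tt N37616 F359875) (tt N80344 (iv3 F351475)) (tt N62140 F343405) (tt N40589 F343406) (tt N76040 (iv6 F343404)) (tt N37615 F359876))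
theorem Q57706 : ∀ i, i < 57706 → P i := stepQ 57705 Q57705 (allL N57705 (tt N57454 F215533) (tt N48766 F307731) (tt N57463 (iv2 F210945)) (tt N30684 (iv3 D108369)) (tt N71306 (iv4 F339033)) (tt N66567 (iv5 F333278)) (tt N66857 (iv6 F210482)) (tt N44485 F208072))
theorem Q57707 : ∀ i, i < 57707 → P i := stepQ 57706 Q57706 (allL N57706 (tt N62713 F183300) (tt N62605 (iv0 F182698)) (tt N57486 (iv2 F200039)) (tt N37621 F237437) (tt N75606 (iv4 F354267)) (tt N30689 (iv5 D108401)) (tt N73402 (iv6 F313215)) (tt N57487 F200038))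
theorem Q57708 : ∀ i, i < 57708 → P i := stepQ 57707 Q57707 (allL N57707 (tt N37564 (iv1 F278612)) (tt N37583 (iv0 F278613)) (tt N37582 F323849) (tt N30690 (iv3 D108404)) (tt N94476 D197511) (tt N74470 F278611) (tt N74317 (iv6 F333708)) (tt N37581 (iv7 F325094)))
theorem Q57709 : ∀ i, i < 57709 → P i := stepQ 57708 Q57708 (allL N57708 (tt N62605 (iv1 F200040)) (tt N62713 (iv0 F183299)) (tt N57487 F200036) (tt N74470 F278610) (tt N75679 (iv4 F233423)) (tt N30690 (iv5 D108405)) (tt N40235 F317404) (tt N57486 (iv7 F200035)))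
theorem Q57710 : ∀ i, i < 57710 → P i := stepQ 57709 Q57709 (allL N57709 (tt N94477 D197512) (tt N94478 D197513) (tt N94479 D197514) (tt N30691 (iv3 D108407)) (tt N57323 F167590) (tt N38818 F167591) (tt N88893 F384457) (tt N57794 (iv7 F167753)))
theorem Q57711 : ∀ i, i < 57711 → P i := stepQ 57710 Q57710 (allL N57710 (tt N38741 F171520) (tt N38151 F171522) (tt N36727 F167592) (tt N88893 (iv3 F384453)) (tt N30692 F167593) (tt N40551 F329463) (tt N30691 (iv6 D108408)) (tt N40550 F329464))
theorem Q57712 : ∀ i, i < 57712 → P i := stepQ 57711 Q57711 (allL N57711 (tt N36730 (iv1 F167600)) (tt N30692 (iv0 D108409)) (tt N36728 F170684) (tt N56484 F169227) (tt N59561 (iv4 F173139)) (tt N32401 F167594) (tt N58942 (iv6 F171511)) (tt N36729 (iv7 F170686)))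
theorem Q57713 : ∀ i, i < 57713 → P i := stepQ 57712 Q57712 (allL N57712 (tt N36729 (iv1 F167601)) (tt N36728 F167602) (tt N36730 F167598) (tt N57326 F167599) (tt N40550 (iv4 F329153)) (tt N69706 (iv5 F215924)) (tt N40558 F328811) (tt N30692 (iv7 D108411)))
theorem Q57714 : ∀ i, i < 57714 → P i := stepQ 57713 Q57713 (allL N57713 (tt N85429 (iv1 F372602)) (tt N85426 (iv0 F372596)) (tt N94480 D197515) (tt N30693 (iv3 D108412)) (tt N36698 F167603) (tt N38820 F167604) (tt N88655 F383751) (tt N36725 F167605))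
theorem Q57715 : ∀ i, i < 57715 → P i := stepQ 57714 Q57714 (allL N57714 (tt N38257 (iv1 F167609)) (tt N38758 (iv0 F167608)) (tt N40559 F328803) (tt N88655 (iv3 F383752)) (tt N30694 F167607) (tt N40520 F328804) (tt N30693 (iv6 D108413)) (tt N40519 (iv7 F329151)))
theorem Q57716 : ∀ i, i < 57716 → P i := stepQ 57715 Q57715 (allL N57715 (tt N40558 F328807) (tt N30694 (iv0 D108414)) (tt N57795 (iv2 F167760)) (tt N36890 F167761) (tt N70163 (iv4 F216839)) (tt N31427 (iv5 F167763)) (tt N68596 (iv6 F211158)) (tt N31426 F167762))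
theorem Q57717 : ∀ i, i < 57717 → P i := stepQ 57716 Q57716 (allL N57716 (tt N31426 (iv1 F167615)) (tt N57795 F167756) (tt N40558 F328808) (tt N31503 F167611) (tt N40519 (iv4 F329150)) (tt N41505 F167613) (tt N36730 F167614) (tt N30694 (iv7 D108415)))
theorem Q57718 : ∀ i, i < 57718 → P i := stepQ 57717 Q57717 (allL N57717 (tt N37049 F174544) (tt N68693 F211409) (tt N35922 F167616) (tt N30696 F167617) (tt N33024 F167618) (tt N36022 F167619) (tt N30695 (iv6 D108416)) (tt N94481 D197516))
theorem Q57719 : ∀ i, i < 57719 → P i := stepQ 57718 Q57718 (allL N57718 (tt N36788 (iv1 F167626)) (tt N30696 (iv0 D108417)) (tt N36786 (iv2 F202515)) (tt N56505 F167621) (tt N64278 (iv4 F327854)) (tt N94482 D197517) (tt N56521 F173231) (tt N36787 (iv7 F202517)))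
theorem Q57720 : ∀ i, i < 57720 → P i := stepQ 57719 Q57719 (allL N57719 (tt N36787 (iv1 F167627)) (tt N36786 F167629) (tt N36788 F167623) (tt N94481 (iv3 F404661)) (tt N35014 F327345) (tt N57550 F167625) (tt N52912 F327346) (tt N30696 (iv7 D108419)))
theorem Q57721 : ∀ i, i < 57721 → P i := stepQ 57720 Q57720 (allL N57720 (tt N52912 (iv1 F326759)) (tt N30697 (iv0 D108420)) (tt N52924 (iv2 F327628)) (tt N37092 (iv3 F171898)) (tt N59455 (iv4 F172925)) (tt N45638 F326948) (tt N94483 D197518) (tt N37111 F171897))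
theorem Q57722 : ∀ i, i < 57722 → P i := stepQ 57721 Q57721 (allL N57721 (tt N30697 (iv1 D108421)) (tt N52912 (iv0 F326758)) (tt N37111 F171894) (tt N66147 F203488) (tt N59456 (iv4 F172931)) (tt N56216 F167630) (tt N58944 (iv6 F171528)) (tt N52924 (iv7 F327632)))
theorem Q57723 : ∀ i, i < 57723 → P i := stepQ 57722 Q57722 (allL N57722 (tt N70327 (iv1 F217204)) (tt N30698 (iv0 D108423)) (tt N70326 (iv2 F404687)) (tt N94484 D197520) (tt N94485 D197521) (tt N94486 D197522) (tt N94487 D197523) (tt N70325 F404683))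
theorem Q57724 : ∀ i, i < 57724 → P i := stepQ 57723 Q57723 (allL N57723 (tt N30698 (iv1 D108424)) (tt N70327 F217206) (tt N70325 (iv2 F404686)) (tt N94488 D197524) (tt N94489 D197525) (tt N94490 D197526) (tt N87509 F404689) (tt N70326 (iv7 F404688)))
theorem Q57725 : ∀ i, i < 57725 → P i := stepQ 57724 Q57724 (allL N57724 (tt N70326 (iv1 F217205)) (tt N70325 F217201) (tt N30698 (iv2 D108425)) (tt N57798 (iv3 F167772)) (tt N55850 F167637) (tt N75138 (iv5 F336975)) (tt N58948 (iv6 F171538)) (tt N70327 (iv7 F217203)))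
theorem Q57726 : ∀ i, i < 57726 → P i := stepQ 57725 Q57725 (allL N57725 (tt N94491 D197527) (tt N94492 D197528) (tt N75138 F341454) (tt N30699 F167638) (tt N94493 D197529) (tt N30698 (iv5 D108426)) (tt N42242 F341455) (tt N57854 (iv7 F167923)))
theorem Q57727 : ∀ i, i < 57727 → P i := stepQ 57726 Q57726 (allL N57726 (tt N94494 D197530) (tt N34516 F341496) (tt N57801 (iv2 F167780)) (tt N42242 F341452) (tt N57859 (iv4 F167932)) (tt N58950 (iv5 F171540)) (tt N30699 (iv6 D108427)) (tt N75130 F341453))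
theorem Q57728 : ∀ i, i < 57728 → P i := stepQ 57727 Q57727 (allL N57727 (tt N31393 (iv1 F167640)) (tt N30700 (iv0 D108428)) (tt N36874 (iv2 F167639)) (tt N66152 F203519) (tt N38828 F167641) (tt N94495 D197531) (tt N71001 (iv6 F350324)) (tt N57803 (iv7 F167787)))
theorem Q57729 : ∀ i, i < 57729 → P i := stepQ 57728 Q57728 (allL N57728 (tt N57806 (iv1 F167793)) (tt N30701 (iv0 D108429)) (tt N57805 (iv2 F385068)) (tt N90332 (iv3 F407605)) (tt N89975 (iv4 F388160)) (tt N94496 D197533) (tt N94497 D197534) (tt N57804 F385069))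
theorem Q57730 : ∀ i, i < 57730 → P i := stepQ 57729 Q57729 (allL N57729 (tt N30701 (iv1 D108430)) (tt N57806 F167795) (tt N57804 F385067) (tt N94498 D197535) (tt N89077 F385064) (tt N94499 D197536) (tt N72874 (iv6 F385065)) (tt N57805 (iv7 F385066)))
theorem Q57731 : ∀ i, i < 57731 → P i := stepQ 57730 Q57730 (allL N57730 (tt N57805 (iv1 F167794)) (tt N57804 F167790) (tt N30701 (iv2 D108431)) (tt N44304 F167642) (tt N59214 (iv4 F172340)) (tt N85228 F371965) (tt N86262 F375618) (tt N57806 (iv7 F167792)))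
theorem Q57732 : ∀ i, i < 57732 → P i := stepQ 57731 Q57731 (allL N57731 (tt N85242 F372022) (tt N84834 (iv0 F374449)) (tt N85228 F371964) (tt N30702 F167643) (tt N84828 (iv4 F370771)) (tt N30701 (iv5 D108432)) (tt N94500 D197537) (tt N57807 (iv7 F167797)))
theorem Q57733 : ∀ i, i < 57733 → P i := stepQ 57732 Q57732 (allL N57732 (tt N85915 F374447) (tt N86264 F375627) (tt N86262 (iv2 F375619)) (tt N30703 F167644) (tt N59216 (iv4 F172343)) (tt N94501 D197538) (tt N30701 (iv6 D108433)) (tt N86261 F384867))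
theorem Q57734 : ∀ i, i < 57734 → P i := stepQ 57733 Q57733 (allL N57733 (tt N94502 D197539) (tt N94503 D197540) (tt N44306 F167645) (tt N94500 (iv3 F404720)) (tt N70162 (iv4 F216838)) (tt N94504 D197541) (tt N30702 (iv6 D108434)) (tt N58313 (iv7 F343830)))
theorem Q57735 : ∀ i, i < 57735 → P i := stepQ 57734 Q57734 (allL N57734 (tt N44310 F167650) (tt N30703 (iv0 D108435)) (tt N44307 F167651) (tt N90763 F390768) (tt N41179 F167648) (tt N40714 F167646) (tt N41178 (iv6 F167647)) (tt N44308 (iv7 F167649)))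
theorem Q57736 : ∀ i, i < 57736 → P i := stepQ 57735 Q57735 (allL N57735 (tt N30703 (iv1 D108436)) (tt N44310 F167654) (tt N44308 (iv2 F167656)) (tt N90348 (iv3 F389399)) (tt N59018 F171763) (tt N40713 (iv5 F171765)) (tt N94505 D197542) (tt N44307 F167655))
theorem Q57737 : ∀ i, i < 57737 → P i := stepQ 57736 Q57736 (allL N57736 (tt N73447 (iv1 F224865)) (tt N73449 (iv0 F224869)) (tt N44309 F167657) (tt N94501 (iv3 F404722)) (tt N94506 D197543) (tt N30703 (iv5 D108437)) (tt N94504 (iv6 F404743)) (tt N63889 (iv7 F341379)))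
theorem Q57738 : ∀ i, i < 57738 → P i := stepQ 57737 Q57737 (allL N57737 (tt N44308 (iv1 F167660)) (tt N44307 F167661) (tt N44310 F167658) (tt N86261 (iv3 F384865)) (tt N30706 F167659) (tt N63889 (iv5 F341378)) (tt N35029 F341373) (tt N30703 (iv7 D108438)))
theorem Q57739 : ∀ i, i < 57739 → P i := stepQ 57738 Q57738 (allL N57738 (tt N72938 (iv1 F223638)) (tt N38693 F167668) (tt N44311 F167662) (tt N94507 D197544) (tt N30704 (iv4 D108439)) (tt N93313 (iv5 F400356)) (tt N40149 F167663) (tt N44312 F167664))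
theorem Q57740 : ∀ i, i < 57740 → P i := stepQ 57739 Q57739 (allL N57739 (tt N38693 F167667) (tt N72938 F223637) (tt N44312 F167665) (tt N94508 D197545) (tt N30705 (iv4 D108440)) (tt N93312 (iv5 F400349)) (tt N94509 D197546) (tt N44311 F167666))
theorem Q57741 : ∀ i, i < 57741 → P i := stepQ 57740 Q57740 (allL N57740 (tt N40301 F167673) (tt N33466 (iv0 F167674)) (tt N41070 F167669) (tt N56812 F167670) (tt N94509 (iv4 F404764)) (tt N40143 F167671) (tt N30705 (iv6 D108441)) (tt N40143 F167672))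
theorem Q57742 : ∀ i, i < 57742 → P i := stepQ 57741 Q57741 (allL N57741 (tt N57813 (iv1 F167824)) (tt N30707 (iv0 D108442)) (tt N57812 F364391) (tt N94510 D197547) (tt N84244 F368662) (tt N85242 (iv5 F372020)) (tt N94511 D197548) (tt N57811 F364389))
theorem Q57743 : ∀ i, i < 57743 → P i := stepQ 57742 Q57742 (allL N57742 (tt N30707 (iv1 D108443)) (tt N57813 F167826) (tt N57811 (iv2 F364388)) (tt N94512 D197549) (tt N84243 (iv4 F368660)) (tt N84834 (iv5 F370795)) (tt N56742 F364387) (tt N57812 (iv7 F364390)))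
theorem Q57744 : ∀ i, i < 57744 → P i := stepQ 57743 Q57743 (allL N57743 (tt N57812 (iv1 F167825)) (tt N57811 F167821) (tt N30707 (iv2 D108444)) (tt N44352 F167675) (tt N59226 (iv4 F172368)) (tt N94513 D197550) (tt N94514 D197551) (tt N57813 (iv7 F167823)))
theorem Q57745 : ∀ i, i < 57745 → P i := stepQ 57744 Q57744 (allL N57744 (tt N94515 D197552) (tt N94516 D197553) (tt N94513 (iv2 F404781)) (tt N30708 F167676) (tt N86825 (iv4 F377318)) (tt N30707 (iv5 D108445)) (tt N94517 D197554) (tt N57814 (iv7 F167828)))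
theorem Q57746 : ∀ i, i < 57746 → P i := stepQ 57745 Q57745 (allL N57745 (tt N94518 D197555) (tt N89973 F388157) (tt N94514 (iv2 F404786)) (tt N30709 F167677) (tt N59228 (iv4 F172371)) (tt N91929 (iv5 F394993)) (tt N30707 (iv6 D108446)) (tt N89499 (iv7 F386658)))
theorem Q57747 : ∀ i, i < 57747 → P i := stepQ 57746 Q57746 (allL N57746 (tt N58225 F351112) (tt N58221 F336670) (tt N44355 F167678) (tt N94517 (iv3 F404800)) (tt N50577 (iv4 F336666)) (tt N58483 F336669) (tt N30708 (iv6 D108447)) (tt N52767 F336668))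
theorem Q57748 : ∀ i, i < 57748 → P i := stepQ 57747 Q57747 (allL N57747 (tt N30709 (iv1 D108448)) (tt N44359 F167679) (tt N44357 (iv2 F171753)) (tt N47897 F360030) (tt N70148 (iv4 F216792)) (tt N58182 F339609) (tt N73046 (iv6 F223745)) (tt N44356 F171754))
theorem Q57749 : ∀ i, i < 57749 → P i := stepQ 57748 Q57748 (allL N57748 (tt N31690 (iv1 F336690)) (tt N31688 F336683) (tt N44358 F167680) (tt N91929 F394992) (tt N60694 F336684) (tt N30709 (iv5 D108449)) (tt N58483 F336685) (tt N40425 F336686))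
theorem Q57750 : ∀ i, i < 57750 → P i := stepQ 57749 Q57749 (allL N57749 (tt N44357 (iv1 F167684)) (tt N44356 F167685) (tt N44359 F167682) (tt N89499 (iv3 F386655)) (tt N30711 F167683) (tt N40425 F337421) (tt N57818 (iv6 F167845)) (tt N30709 (iv7 D108450)))
theorem Q57751 : ∀ i, i < 57751 → P i := stepQ 57750 Q57750 (allL N57750 (tt N30714 F167688) (tt N57829 F167880) (tt N44364 F167686) (tt N94519 D197556) (tt N30710 (iv4 D108451)) (tt N94520 D197557) (tt N73075 (iv6 F223771)) (tt N44361 F167687))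
theorem Q57752 : ∀ i, i < 57752 → P i := stepQ 57751 Q57751 (allL N57751 (tt N57832 (iv1 F167886)) (tt N30712 (iv0 D108452)) (tt N57831 (iv2 F245712)) (tt N94521 D197558) (tt N48223 F343125) (tt N94522 D197559) (tt N94523 D197560) (tt N57830 (iv7 F245714)))
theorem Q57753 : ∀ i, i < 57753 → P i := stepQ 57752 Q57752 (allL N57752 (tt N30712 (iv1 D108453)) (tt N57832 F167888) (tt N57830 F245713) (tt N94524 D197561) (tt N69040 F212506) (tt N48179 F343119) (tt N56756 (iv6 F397101)) (tt N57831 F245711))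
theorem Q57754 : ∀ i, i < 57754 → P i := stepQ 57753 Q57753 (allL N57753 (tt N57831 (iv1 F167887)) (tt N57830 F167882) (tt N30712 (iv2 D108454)) (tt N57824 (iv3 F167866)) (tt N94192 (iv4 F403644)) (tt N90432 (iv5 F389634)) (tt N94525 D197562) (tt N57832 (iv7 F167885)))
theorem Q57755 : ∀ i, i < 57755 → P i := stepQ 57754 Q57754 (allL N57754 (tt N94526 D197563) (tt N94527 D197564) (tt N94525 (iv2 F404846)) (tt N30714 F167691) (tt N94193 (iv4 F403650)) (tt N59483 F343147) (tt N30712 (iv6 D108456)) (tt N59482 (iv7 F343148)))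
theorem Q57756 : ∀ i, i < 57756 → P i := stepQ 57755 Q57755 (allL N57755 (tt N57824 (iv1 F167869)) (tt N30715 (iv0 D108460)) (tt N57823 F221964) (tt N44369 F167697) (tt N82580 (iv4 F366311)) (tt N94528 D197565) (tt N56763 F351889) (tt N57822 (iv7 F221963)))
theorem Q57757 : ∀ i, i < 57757 → P i := stepQ 57756 Q57756 (allL N57756 (tt N30715 (iv1 D108461)) (tt N57824 F167871) (tt N57822 (iv2 F221965)) (tt N94529 D197566) (tt N78345 F359932) (tt N94530 D197567) (tt N78344 F351886) (tt N57823 F221966))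
theorem Q57758 : ∀ i, i < 57758 → P i := stepQ 57757 Q57757 (allL N57757 (tt N57823 (iv1 F167870)) (tt N57822 F167865) (tt N30715 (iv2 D108462)) (tt N57832 (iv3 F167883)) (tt N70861 (iv4 F218613)) (tt N94531 D197568) (tt N77515 (iv6 F366524)) (tt N57824 (iv7 F167868)))
theorem Q57759 : ∀ i, i < 57759 → P i := stepQ 57758 Q57758 (allL N57758 (tt N94532 D197569) (tt N85644 (iv0 F386082)) (tt N94531 (iv2 F404862)) (tt N30716 F167698) (tt N83103 (iv4 F338900)) (tt N30715 (iv5 D108463)) (tt N64741 F338869) (tt N57825 (iv7 F167873)))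
theorem Q57760 : ∀ i, i < 57760 → P i := stepQ 57759 Q57759 (allL N57759 (tt N75521 F366398) (tt N77517 (iv0 F389307)) (tt N77515 F366523) (tt N30717 F167699) (tt N70863 (iv4 F218621)) (tt N89038 (iv5 F384915)) (tt N30715 (iv6 D108464)) (tt N77516 (iv7 F366522)))
theorem Q57761 : ∀ i, i < 57761 → P i := stepQ 57760 Q57760 (allL N57760 (tt N63975 F327318) (tt N63967 F327319) (tt N48173 F327320) (tt N64741 (iv3 F338867)) (tt N35465 F327321) (tt N46753 F327322) (tt N30716 (iv6 D108465)) (tt N47840 F327323))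
theorem Q57762 : ∀ i, i < 57762 → P i := stepQ 57761 Q57761 (allL N57761 (tt N57821 (iv1 F167861)) (tt N57819 F167863) (tt N57836 (iv2 F167895)) (tt N77516 F366521) (tt N38709 F167701) (tt N59335 F345068) (tt N57829 (iv6 F167879)) (tt N30717 (iv7 D108468)))
theorem Q57763 : ∀ i, i < 57763 → P i := stepQ 57762 Q57762 (allL N57762 (tt N30719 (iv1 F167705)) (tt N30718 (iv0 D108469)) (tt N30722 (iv2 F167702)) (tt N57837 (iv3 F167901)) (tt N56862 F167703) (tt N54052 (iv5 F337621)) (tt N94533 D197570) (tt N30720 F167704))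
theorem Q57764 : ∀ i, i < 57764 → P i := stepQ 57763 Q57763 (allL N57763 (tt N30722 F357642) (tt N30720 F357643) (tt N30718 (iv2 D108470)) (tt N94534 D197571) (tt N59079 F357644) (tt N89044 (iv5 F384943)) (tt N94535 D197572) (tt N30719 (iv7 F167706)))
theorem Q57765 : ∀ i, i < 57765 → P i := stepQ 57764 Q57764 (allL N57764 (tt N94529 (iv1 F404858)) (tt N65274 (iv0 F314695)) (tt N60145 F357662) (tt N30718 (iv3 D108471)) (tt N60143 (iv4 F357661)) (tt N89730 (iv5 F387341)) (tt N94536 D197573) (tt N60149 (iv7 F357649)))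
theorem Q57766 : ∀ i, i < 57766 → P i := stepQ 57765 Q57765 (allL N57765 (tt N78181 F246679) (tt N89770 (iv0 F387499)) (tt N59079 (iv2 F357645)) (tt N91646 (iv3 F393878)) (tt N30718 (iv4 D108472)) (tt N89746 (iv5 F387399)) (tt N94537 D197574) (tt N91645 F393876))
theorem Q57767 : ∀ i, i < 57767 → P i := stepQ 57766 Q57766 (allL N57766 (tt N94538 D197575) (tt N94519 (iv0 F404884)) (tt N94535 (iv2 F404875)) (tt N94536 (iv3 F404877)) (tt N94537 (iv4 F404878)) (tt N94539 D197577) (tt N30718 (iv6 D108474)) (tt N94540 D197578))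
theorem Q57768 : ∀ i, i < 57768 → P i := stepQ 57767 Q57767 (allL N57767 (tt N30720 F357646) (tt N30722 F357647) (tt N30719 F167707) (tt N60149 F357648) (tt N91645 (iv4 F393874)) (tt N89046 (iv5 F384950)) (tt N86056 (iv6 F375028)) (tt N30718 (iv7 D108475)))
theorem Q57769 : ∀ i, i < 57769 → P i := stepQ 57768 Q57768 (allL N57768 (tt N85226 F377633) (tt N94521 (iv0 F404816)) (tt N86139 (iv2 F375210)) (tt N30719 (iv3 D108476)) (tt N49712 (iv4 F364764)) (tt N89748 (iv5 F387412)) (tt N49714 F364765) (tt N94534 (iv7 F404874)))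
theorem Q57770 : ∀ i, i < 57770 → P i := stepQ 57769 Q57769 (allL N57769 (tt N89770 (iv1 F387500)) (tt N78181 (iv0 F246678)) (tt N91645 (iv2 F393872)) (tt N59083 (iv3 F357640)) (tt N30719 (iv4 D108477)) (tt N89723 (iv5 F387313)) (tt N85117 F371684) (tt N59079 F357641))
theorem Q57771 : ∀ i, i < 57771 → P i := stepQ 57770 Q57770 (allL N57770 (tt N72304 F364767) (tt N77525 (iv0 F392909)) (tt N86056 (iv2 F375025)) (tt N49714 (iv3 F364766)) (tt N85117 (iv4 F371682)) (tt N85079 F371566) (tt N30719 (iv6 D108479)) (tt N86050 (iv7 F375013)))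
theorem Q57772 : ∀ i, i < 57772 → P i := stepQ 57771 Q57771 (allL N57771 (tt N54050 (iv1 F333008)) (tt N54049 F333007) (tt N54052 F332981) (tt N30727 F167713) (tt N53275 (iv4 F332980)) (tt N30722 F167714) (tt N94541 D197579) (tt N30721 (iv7 D108487)))
theorem Q57773 : ∀ i, i < 57773 → P i := stepQ 57772 Q57772 (allL N57772 (tt N94542 D197580) (tt N94543 D197581) (tt N94533 (iv2 F404868)) (tt N30728 F167715) (tt N56877 F167716) (tt N94544 D197582) (tt N30722 (iv6 D108488)) (tt N56782 F167717))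
theorem Q57774 : ∀ i, i < 57774 → P i := stepQ 57773 Q57773 (allL N57773 (tt N94522 (iv1 F404822)) (tt N48179 F351245) (tt N94545 D197583) (tt N30723 (iv3 D108489)) (tt N90433 F389638) (tt N38692 F167718) (tt N94546 D197584) (tt N57852 (iv7 F167920)))
theorem Q57775 : ∀ i, i < 57775 → P i := stepQ 57774 Q57774 (allL N57774 (tt N94547 D197585) (tt N94548 D197586) (tt N57851 (iv2 F167918)) (tt N94546 (iv3 F404918)) (tt N38821 F167719) (tt N78076 F343178) (tt N30723 (iv6 D108490)) (tt N94549 D197587))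
theorem Q57776 : ∀ i, i < 57776 → P i := stepQ 57775 Q57775 (allL N57775 (tt N94528 (iv1 F404856)) (tt N94530 (iv0 F404861)) (tt N94550 D197588) (tt N30724 (iv3 D108491)) (tt N94551 D197589) (tt N38698 F167720) (tt N94552 D197590) (tt N57850 (iv7 F167917)))
theorem Q57777 : ∀ i, i < 57777 → P i := stepQ 57776 Q57776 (allL N57776 (tt N94553 D197591) (tt N94554 D197592) (tt N57853 (iv2 F167921)) (tt N94552 (iv3 F404938)) (tt N38819 F167721) (tt N31969 F343159) (tt N30724 (iv6 D108492)) (tt N94555 D197593))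
theorem Q57778 : ∀ i, i < 57778 → P i := stepQ 57777 Q57777 (allL N57777 (tt N94556 D197594) (tt N94557 D197595) (tt N94558 D197596) (tt N30725 (iv3 D108493)) (tt N53258 F333442) (tt N57800 (iv5 F167777)) (tt N53268 (iv6 F333443)) (tt N57799 F167774))
theorem Q57779 : ∀ i, i < 57779 → P i := stepQ 57778 Q57778 (allL N57778 (tt N84794 F370644) (tt N94559 D197597) (tt N57855 (iv2 F167924)) (tt N53268 F333444) (tt N30726 F167722) (tt N94560 D197598) (tt N30725 (iv6 D108494)) (tt N94561 D197599))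
theorem Q57780 : ∀ i, i < 57780 → P i := stepQ 57779 Q57779 (allL N57779 (tt N57858 (iv1 F167930)) (tt N30726 (iv0 D108495)) (tt N57856 F351302) (tt N85205 F371882) (tt N84758 (iv4 F370521)) (tt N58213 (iv5 F351303)) (tt N94562 D197600) (tt N57857 F351300))
theorem Q57781 : ∀ i, i < 57781 → P i := stepQ 57780 Q57780 (allL N57780 (tt N30726 (iv1 D108496)) (tt N57858 F167929) (tt N57857 (iv2 F351282)) (tt N66810 (iv3 F370502)) (tt N84755 (iv4 F370499)) (tt N57909 F343108) (tt N57912 (iv6 F343106)) (tt N57856 (iv7 F351301)))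
theorem Q57782 : ∀ i, i < 57782 → P i := stepQ 57781 Q57781 (allL N57781 (tt N57857 (iv1 F167926)) (tt N57856 F167928) (tt N57858 (iv2 F167927)) (tt N50377 F351189) (tt N94561 (iv4 F404970)) (tt N50376 (iv5 F351187)) (tt N94563 D197601) (tt N30726 (iv7 D108497)))
theorem Q57783 : ∀ i, i < 57783 → P i := stepQ 57782 Q57782 (allL N57782 (tt N94564 D197602) (tt N94565 D197603) (tt N57859 (iv2 F167931)) (tt N94541 (iv3 F404892)) (tt N57801 (iv4 F167781)) (tt N94566 D197604) (tt N30727 (iv6 D108498)) (tt N94563 (iv7 F404978)))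
theorem Q57784 : ∀ i, i < 57784 → P i := stepQ 57783 Q57783 (allL N57783 (tt N72848 (iv1 F223450)) (tt N72847 F223449) (tt N57860 (iv2 F167933)) (tt N94544 (iv3 F404908)) (tt N94567 D197605) (tt N30728 (iv5 D108499)) (tt N94566 (iv6 F404993)) (tt N56794 F167724))
theorem Q57785 : ∀ i, i < 57785 → P i := stepQ 57784 Q57784 (allL N57784 (tt N81544 (iv1 F354225)) (tt N81543 F354219) (tt N81545 (iv2 F354145)) (tt N30729 (iv3 D108500)) (tt N39090 F167725) (tt N47521 F324293) (tt N81541 F354218) (tt N39254 F167727))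
theorem Q57786 : ∀ i, i < 57786 → P i := stepQ 57785 Q57785 (allL N57785 (tt N44484 F167731) (tt N39372 (iv0 F167730)) (tt N38167 F167728) (tt N81541 F357919) (tt N30730 F167729) (tt N94568 D197606) (tt N30729 (iv6 D108501)) (tt N62574 (iv7 F182449)))
theorem Q57787 : ∀ i, i < 57787 → P i := stepQ 57786 Q57786 (allL N57786 (tt N39289 (iv1 F167736)) (tt N39288 F167737) (tt N39290 F167732) (tt N32213 F167733) (tt N57392 F167734) (tt N31671 F167735) (tt N58403 (iv6 F169302)) (tt N30732 (iv7 D108502)))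
theorem Q57788 : ∀ i, i < 57788 → P i := stepQ 57787 Q57787 (allL N57787 (tt N58403 (iv1 F169304)) (tt N30733 (iv0 D108503)) (tt N58402 F169296) (tt N30754 (iv3 F167742)) (tt N92378 (iv4 F396869)) (tt N39383 F167741) (tt N94569 D197607) (tt N39610 (iv7 F167743)))
theorem Q57789 : ∀ i, i < 57789 → P i := stepQ 57788 Q57788 (allL N57788 (tt N39610 (iv1 F167748)) (tt N58402 F169298) (tt N58403 (iv2 F169299)) (tt N33099 F167744) (tt N44109 (iv4 F321636)) (tt N33066 F167746) (tt N39290 F167747) (tt N30733 (iv7 D108504)))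
theorem Q57790 : ∀ i, i < 57790 → P i := stepQ 57789 Q57789 (allL N57789 (tt N94078 (iv1 F403105)) (tt N30734 (iv0 D108505)) (tt N94077 (iv2 F403099)) (tt N94570 D197608) (tt N94571 D197609) (tt N94572 D197610) (tt N94573 D197611) (tt N94076 F403100))
theorem Q57791 : ∀ i, i < 57791 → P i := stepQ 57790 Q57790 (allL N57790 (tt N30734 (iv1 D108506)) (tt N94078 F403106) (tt N94076 F403098) (tt N48094 F360547) (tt N94574 D197612) (tt N75260 F360548) (tt N85271 (iv6 F372108)) (tt N94077 (iv7 F403097)))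
theorem Q57792 : ∀ i, i < 57792 → P i := stepQ 57791 Q57791 (allL N57791 (tt N94077 F403096) (tt N94076 F403092) (tt N30734 (iv2 D108507)) (tt N60353 (iv3 F176257)) (tt N30765 F167751) (tt N94575 D197613) (tt N70119 (iv6 F216732)) (tt N94078 (iv7 F403104)))
theorem Q57793 : ∀ i, i < 57793 → P i := stepQ 57792 Q57792 (allL N57792 (tt N94576 D197614) (tt N47418 F382183) (tt N94575 (iv2 F405022)) (tt N30735 F167752) (tt N94577 D197615) (tt N30734 (iv5 D108508)) (tt N94578 D197616) (tt N94062 (iv7 F403027)))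
theorem Q57794 : ∀ i, i < 57794 → P i := stepQ 57793 Q57793 (allL N57793 (tt N94579 D197617) (tt N94580 D197618) (tt N60355 (iv2 F176265)) (tt N94578 (iv3 F405035)) (tt N68199 (iv4 F209263)) (tt N69243 (iv5 F338565)) (tt N30735 (iv6 D108509)) (tt N94581 D197619))
theorem Q57795 : ∀ i, i < 57795 → P i := stepQ 57794 Q57794 (allL N57794 (tt N94582 D197620) (tt N94583 D197621) (tt N74410 F328833) (tt N30737 (iv3 D108510)) (tt N45090 F328834) (tt N70192 (iv5 F216923)) (tt N45094 F328835) (tt N57709 F167753))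
theorem Q57796 : ∀ i, i < 57796 → P i := stepQ 57795 Q57795 (allL N57795 (tt N57716 (iv1 F167756)) (tt N30738 (iv0 D108511)) (tt N57715 F167760) (tt N37690 (iv3 F167759)) (tt N38754 (iv4 F203483)) (tt N58963 (iv5 F171612)) (tt N64682 (iv6 F329070)) (tt N37654 F167758))
theorem Q57797 : ∀ i, i < 57797 → P i := stepQ 57796 Q57796 (allL N57796 (tt N94584 D197622) (tt N30742 (iv0 D108516)) (tt N70797 (iv2 F218437)) (tt N38866 (iv3 F207211)) (tt N70796 (iv4 F218434)) (tt N94585 D197623) (tt N90395 (iv6 F389503)) (tt N38890 F207232))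
theorem Q57798 : ∀ i, i < 57798 → P i := stepQ 57797 Q57797 (allL N57797 (tt N30742 (iv1 D108517)) (tt N94584 F405060) (tt N38890 F218441) (tt N51152 F347390) (tt N70799 (iv4 F218448)) (tt N51146 F347391) (tt N51149 (iv6 F347388)) (tt N70797 F218442))
theorem Q57799 : ∀ i, i < 57799 → P i := stepQ 57798 Q57798 (allL N57798 (tt N70797 (iv1 F218439)) (tt N38890 F167779) (tt N30742 (iv2 D108518)) (tt N57724 F167772) (tt N66079 (iv4 F203339)) (tt N94586 D197624) (tt N58958 (iv6 F171572)) (tt N94584 (iv7 F405061)))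
theorem Q57800 : ∀ i, i < 57800 → P i := stepQ 57799 Q57799 (allL N57799 (tt N94587 D197625) (tt N94588 D197626) (tt N94586 (iv2 F405070)) (tt N30743 F167773) (tt N89088 (iv4 F385111)) (tt N30742 (iv5 D108519)) (tt N94589 D197627) (tt N57777 (iv7 F167774)))
theorem Q57801 : ∀ i, i < 57801 → P i := stepQ 57800 Q57800 (allL N57800 (tt N38890 F167778) (tt N70797 (iv0 F218438)) (tt N94584 F405059) (tt N30744 F167775) (tt N38837 F167776) (tt N57777 F167777) (tt N71481 (iv6 F353314)) (tt N30742 (iv7 D108520)))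
theorem Q57802 : ∀ i, i < 57802 → P i := stepQ 57801 Q57801 (allL N57801 (tt N63962 (iv1 F341495)) (tt N63896 F341478) (tt N57726 F167780) (tt N94589 (iv3 F405090)) (tt N57782 F167781) (tt N58960 (iv5 F171576)) (tt N30743 (iv6 D108521)) (tt N63960 F341493))
theorem Q57803 : ∀ i, i < 57803 → P i := stepQ 57802 Q57802 (allL N57802 (tt N38831 F167784) (tt N38835 F167785) (tt N38764 F167782) (tt N71481 (iv3 F353313)) (tt N30745 F167783) (tt N94590 D197628) (tt N30744 (iv6 D108522)) (tt N58049 (iv7 F168761)))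
theorem Q57804 : ∀ i, i < 57804 → P i := stepQ 57803 Q57803 (allL N57803 (tt N30745 (iv1 D108523)) (tt N31386 F167786) (tt N37787 (iv2 F167788)) (tt N60876 (iv3 F327841)) (tt N38564 (iv4 F167789)) (tt N94591 D197629) (tt N60875 F350322) (tt N57727 F167787))
theorem Q57805 : ∀ i, i < 57805 → P i := stepQ 57804 Q57804 (allL N57804 (tt N57730 (iv1 F167790)) (tt N30746 (iv0 D108524)) (tt N57729 (iv2 F385067)) (tt N94592 D197630) (tt N53952 F385070) (tt N94515 (iv5 F404791)) (tt N53587 F385071) (tt N57728 (iv7 F385069)))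
theorem Q57806 : ∀ i, i < 57806 → P i := stepQ 57805 Q57805 (allL N57805 (tt N30746 (iv1 D108525)) (tt N57730 F167794) (tt N57728 F385068) (tt N94593 D197631) (tt N84242 (iv4 F368659)) (tt N94516 (iv5 F404798)) (tt N94594 D197632) (tt N57729 F385066))
theorem Q57807 : ∀ i, i < 57807 → P i := stepQ 57806 Q57806 (allL N57806 (tt N57729 (iv1 F167795)) (tt N57728 F167793) (tt N30746 (iv2 D108526)) (tt N39903 F167791) (tt N59284 (iv4 F172466)) (tt N94595 D197633) (tt N82556 F366739) (tt N57730 F167792))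
theorem Q57808 : ∀ i, i < 57808 → P i := stepQ 57807 Q57807 (allL N57807 (tt N50386 F371972) (tt N94596 D197634) (tt N94595 (iv2 F405111)) (tt N30747 F167796) (tt N50380 (iv4 F371968)) (tt N30746 (iv5 D108527)) (tt N94597 D197635) (tt N57731 F167797))
theorem Q57809 : ∀ i, i < 57809 → P i := stepQ 57808 Q57808 (allL N57808 (tt N94598 D197636) (tt N93259 F400165) (tt N82556 (iv2 F366740)) (tt N30748 F167798) (tt N59286 (iv4 F172474)) (tt N64621 F363313) (tt N30746 (iv6 D108528)) (tt N64620 (iv7 F363314)))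
theorem Q57810 : ∀ i, i < 57810 → P i := stepQ 57809 Q57809 (allL N57809 (tt N30985 F341390) (tt N30990 F341391) (tt N30987 F341392) (tt N94597 (iv3 F405123)) (tt N38736 F167800) (tt N59746 F341393) (tt N30747 (iv6 D108529)) (tt N30986 F341394))
theorem Q57811 : ∀ i, i < 57811 → P i := stepQ 57810 Q57810 (allL N57810 (tt N39908 (iv1 F167809)) (tt N30748 (iv0 D108530)) (tt N39906 (iv2 F167804)) (tt N94599 D197637) (tt N38700 F167801) (tt N65406 (iv5 F360008)) (tt N40372 (iv6 F167808)) (tt N33223 F167803))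
theorem Q57812 : ∀ i, i < 57812 → P i := stepQ 57811 Q57811 (allL N57811 (tt N57743 (iv1 F167821)) (tt N30751 (iv0 D108534)) (tt N57742 F364388) (tt N71228 (iv3 F219644)) (tt N86239 (iv4 F375522)) (tt N50386 (iv5 F350373)) (tt N40665 F338935) (tt N57741 (iv7 F364389)))
theorem Q57813 : ∀ i, i < 57813 → P i := stepQ 57812 Q57812 (allL N57812 (tt N30751 (iv1 D108535)) (tt N57743 F167825) (tt N57741 (iv2 F364391)) (tt N65343 (iv3 F366474)) (tt N86240 F375530) (tt N94596 (iv5 F405119)) (tt N94600 D197638) (tt N57742 F364390))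
theorem Q57814 : ∀ i, i < 57814 → P i := stepQ 57813 Q57813 (allL N57813 (tt N57742 (iv1 F167826)) (tt N57741 F167824) (tt N30751 (iv2 D108536)) (tt N39962 F167822) (tt N49819 (iv4 F329727)) (tt N94601 D197639) (tt N49822 F364386) (tt N57743 F167823))
theorem Q57815 : ∀ i, i < 57815 → P i := stepQ 57814 Q57814 (allL N57814 (tt N94496 (iv1 F404716)) (tt N94499 (iv0 F404717)) (tt N94601 (iv2 F405137)) (tt N30752 F167827) (tt N85092 F371604) (tt N30751 (iv5 D108537)) (tt N85164 (iv6 F371773)) (tt N57744 F167828))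
theorem Q57816 : ∀ i, i < 57816 → P i := stepQ 57815 Q57815 (allL N57815 (tt N94602 D197640) (tt N94603 D197641) (tt N39966 F167830) (tt N85164 (iv3 F371772)) (tt N35463 F329073) (tt N46749 F329074) (tt N30752 (iv6 D108539)) (tt N46683 F329075))
theorem Q57817 : ∀ i, i < 57817 → P i := stepQ 57816 Q57816 (allL N57816 (tt N39970 F167833) (tt N30753 (iv0 D108540)) (tt N39967 F171592) (tt N91367 F392888) (tt N38707 (iv4 F167835)) (tt N89033 (iv5 F384891)) (tt N64615 F344450) (tt N39968 F171586))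
theorem Q57818 : ∀ i, i < 57818 → P i := stepQ 57817 Q57817 (allL N57817 (tt N30753 (iv1 D108541)) (tt N39970 F167841) (tt N39968 F171589) (tt N94604 D197642) (tt N38708 (iv4 F168677)) (tt N89036 (iv5 F384905)) (tt N33302 (iv6 F172153)) (tt N39967 (iv7 F171591)))
theorem Q57819 : ∀ i, i < 57819 → P i := stepQ 57818 Q57818 (allL N57818 (tt N39968 (iv1 F167846)) (tt N39967 F167847) (tt N39970 F167843) (tt N53599 (iv3 F335718)) (tt N30756 F167844) (tt N59394 (iv5 F337422)) (tt N57749 F167845) (tt N30753 (iv7 D108543)))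
theorem Q57820 : ∀ i, i < 57820 → P i := stepQ 57819 Q57819 (allL N57819 (tt N57761 (iv1 F167863)) (tt N30762 F167862) (tt N39971 F167849) (tt N43892 F322268) (tt N30754 (iv4 D108544)) (tt N94605 D197643) (tt N64609 (iv6 F344436)) (tt N39973 F167850))
theorem Q57821 : ∀ i, i < 57821 → P i := stepQ 57820 Q57820 (allL N57820 (tt N33467 F167855) (tt N38775 (iv0 F167856)) (tt N39972 F167852) (tt N94569 (iv3 F405002)) (tt N64609 F344439) (tt N38136 F167853) (tt N30754 (iv6 D108545)) (tt N33311 F167854))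
theorem Q57822 : ∀ i, i < 57822 → P i := stepQ 57821 Q57821 (allL N57821 (tt N30762 F167860) (tt N57761 F167861) (tt N39973 F167857) (tt N94606 D197644) (tt N30755 (iv4 D108546)) (tt N94607 D197645) (tt N33306 F167858) (tt N39971 F167859))
theorem Q57823 : ∀ i, i < 57823 → P i := stepQ 57822 Q57822 (allL N57822 (tt N57757 (iv1 F167865)) (tt N30757 (iv0 D108547)) (tt N57756 F221965) (tt N35409 F314709) (tt N72356 (iv4 F222281)) (tt N73572 F351888) (tt N73575 (iv6 F351885)) (tt N57755 F221963))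
theorem Q57824 : ∀ i, i < 57824 → P i := stepQ 57823 Q57823 (allL N57823 (tt N30757 (iv1 D108548)) (tt N57757 F167870) (tt N57755 (iv2 F221964)) (tt N94608 D197646) (tt N71200 (iv4 F219621)) (tt N94609 D197647) (tt N39710 F327347) (tt N57756 (iv7 F221966)))
theorem Q57825 : ∀ i, i < 57825 → P i := stepQ 57824 Q57824 (allL N57824 (tt N57756 (iv1 F167871)) (tt N57755 F167869) (tt N30757 (iv2 D108549)) (tt N57753 F167866) (tt N39325 F167867) (tt N94610 D197648) (tt N94611 D197649) (tt N57757 F167868))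
theorem Q57826 : ∀ i, i < 57826 → P i := stepQ 57825 Q57825 (allL N57825 (tt N85611 F402501) (tt N94612 D197650) (tt N94610 (iv2 F405188)) (tt N30758 F167872) (tt N71229 (iv4 F219645)) (tt N30757 (iv5 D108550)) (tt N94613 D197651) (tt N57758 F167873))
theorem Q57827 : ∀ i, i < 57827 → P i := stepQ 57826 Q57826 (allL N57826 (tt N90293 F389255) (tt N94614 D197652) (tt N94611 (iv2 F405202)) (tt N30759 F167874) (tt N39327 F167875) (tt N94615 D197653) (tt N30757 (iv6 D108551)) (tt N94616 D197654))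
theorem Q57828 : ∀ i, i < 57828 → P i := stepQ 57827 Q57827 (allL N57827 (tt N58218 F343096) (tt N58216 F343097) (tt N51130 (iv2 F325750)) (tt N94613 (iv3 F405212)) (tt N51127 (iv4 F325748)) (tt N31657 F343098) (tt N30758 (iv6 D108552)) (tt N31656 F343099))
theorem Q57829 : ∀ i, i < 57829 → P i := stepQ 57828 Q57828 (allL N57828 (tt N31685 F336716) (tt N31684 F336717) (tt N31687 F336718) (tt N94615 (iv3 F405218)) (tt N31603 F336719) (tt N30759 (iv5 D108553)) (tt N31657 F336720) (tt N31601 F336721))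
theorem Q57830 : ∀ i, i < 57830 → P i := stepQ 57829 Q57829 (allL N57829 (tt N57750 (iv1 F167880)) (tt N40723 F167881) (tt N31686 (iv2 F336725)) (tt N94616 (iv3 F405222)) (tt N70149 (iv4 F216797)) (tt N31601 F336715) (tt N57761 F167879) (tt N30759 (iv7 D108554)))
theorem Q57831 : ∀ i, i < 57831 → P i := stepQ 57830 Q57830 (allL N57830 (tt N57753 (iv1 F167882)) (tt N30760 (iv0 D108555)) (tt N57752 (iv2 F245713)) (tt N94617 D197655) (tt N65380 (iv4 F343126)) (tt N82253 (iv5 F343120)) (tt N70124 F388740) (tt N57751 F245714))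
theorem Q57832 : ∀ i, i < 57832 → P i := stepQ 57831 Q57831 (allL N57831 (tt N30760 (iv1 D108556)) (tt N57753 F167887) (tt N57751 F245712) (tt N58340 F332967) (tt N78081 F245710) (tt N58339 F343118) (tt N72841 (iv6 F343149)) (tt N57752 (iv7 F245711)))
theorem Q57833 : ∀ i, i < 57833 → P i := stepQ 57832 Q57832 (allL N57832 (tt N57752 (iv1 F167888)) (tt N57751 F167886) (tt N30760 (iv2 D108557)) (tt N57757 F167883) (tt N57586 F167884) (tt N82305 (iv5 F343146)) (tt N94618 D197656) (tt N57753 F167885))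
theorem Q57834 : ∀ i, i < 57834 → P i := stepQ 57833 Q57833 (allL N57833 (tt N94154 (iv1 F403462)) (tt N94619 D197657) (tt N82305 F343145) (tt N30761 F167889) (tt N54283 F343144) (tt N30760 (iv5 D108558)) (tt N70489 (iv6 F347399)) (tt N54282 (iv7 F343124)))
theorem Q57835 : ∀ i, i < 57835 → P i := stepQ 57834 Q57834 (allL N57834 (tt N53617 F364385) (tt N94620 D197658) (tt N94618 (iv2 F405239)) (tt N30762 F167891) (tt N57588 F167892) (tt N89632 (iv5 F387018)) (tt N30760 (iv6 D108559)) (tt N94621 D197659))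
theorem Q57836 : ∀ i, i < 57836 → P i := stepQ 57835 Q57835 (allL N57835 (tt N62212 (iv1 F180171)) (tt N62210 (iv0 F180170)) (tt N53205 F345063) (tt N89632 F387017) (tt N40132 F345064) (tt N30762 (iv5 D108561)) (tt N64312 F345065) (tt N31683 F345066))
theorem Q57837 : ∀ i, i < 57837 → P i := stepQ 57836 Q57836 (allL N57836 (tt N39973 (iv1 F167898)) (tt N39971 F167899) (tt N57761 F167895) (tt N94621 (iv3 F405256)) (tt N57583 F167896) (tt N31683 F336730) (tt N31686 F336731) (tt N30762 (iv7 D108562)))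
theorem Q57838 : ∀ i, i < 57838 → P i := stepQ 57837 Q57837 (allL N57837 (tt N30764 (iv1 F167903)) (tt N30763 (iv0 D108563)) (tt N30767 (iv2 F167900)) (tt N57762 F167901) (tt N94078 (iv4 F403102)) (tt N90131 (iv5 F388640)) (tt N94622 D197660) (tt N30765 F167902))
theorem Q57839 : ∀ i, i < 57839 → P i := stepQ 57838 Q57838 (allL N57838 (tt N30767 F246648) (tt N30765 F246649) (tt N30763 (iv2 D108564)) (tt N35411 F314706) (tt N35460 (iv4 F317013)) (tt N94623 D197661) (tt N94624 D197662) (tt N30764 (iv7 F167904)))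
theorem Q57840 : ∀ i, i < 57840 → P i := stepQ 57839 Q57839 (allL N57839 (tt N58340 F332969) (tt N94625 D197663) (tt N94626 D197664) (tt N30763 (iv3 D108565)) (tt N71560 F220220) (tt N80587 (iv5 F363356)) (tt N64951 F363359) (tt N94627 D197665))
theorem Q57841 : ∀ i, i < 57841 → P i := stepQ 57840 Q57840 (allL N57840 (tt N35457 F319273) (tt N35456 F319274) (tt N35460 F319275) (tt N48113 F319276) (tt N30763 (iv4 D108566)) (tt N44900 F319277) (tt N94628 D197666) (tt N35458 F319278))
theorem Q57842 : ∀ i, i < 57842 → P i := stepQ 57841 Q57841 (allL N57841 (tt N94629 D197667) (tt N69847 (iv0 F359037)) (tt N94623 (iv2 F405270)) (tt N80587 F363358) (tt N94630 D197668) (tt N30763 (iv5 D108567)) (tt N80586 (iv6 F363363)) (tt N94631 D197669))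
theorem Q57843 : ∀ i, i < 57843 → P i := stepQ 57842 Q57842 (allL N57842 (tt N94632 D197670) (tt N78148 F405278) (tt N94624 (iv2 F405274)) (tt N64951 (iv3 F363360)) (tt N94628 (iv4 F405300)) (tt N81958 F363362) (tt N30763 (iv6 D108568)) (tt N94633 D197671))
theorem Q57844 : ∀ i, i < 57844 → P i := stepQ 57843 Q57843 (allL N57843 (tt N30765 F246658) (tt N30767 F246659) (tt N30764 F167905) (tt N94627 (iv3 F405293)) (tt N35458 F319266) (tt N94631 (iv5 F405312)) (tt N43894 F319267) (tt N30763 (iv7 D108569)))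
theorem Q57845 : ∀ i, i < 57845 → P i := stepQ 57844 Q57844 (allL N57844 (tt N69847 F403107) (tt N94629 (iv0 F405309)) (tt N94631 (iv2 F405311)) (tt N35410 F319268) (tt N94634 D197672) (tt N30764 (iv5 D108572)) (tt N94635 D197673) (tt N94623 (iv7 F405272)))
theorem Q57846 : ∀ i, i < 57846 → P i := stepQ 57845 Q57845 (allL N57845 (tt N90131 (iv1 F388642)) (tt N30766 (iv0 D108577)) (tt N90130 (iv2 F388633)) (tt N58107 F388636) (tt N94636 D197674) (tt N72634 F388637) (tt N94637 D197675) (tt N58100 (iv7 F388634)))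
theorem Q57847 : ∀ i, i < 57847 → P i := stepQ 57846 Q57846 (allL N57846 (tt N30766 (iv1 D108578)) (tt N90131 F388641) (tt N58100 F372900) (tt N82137 F372902) (tt N94638 D197676) (tt N72635 (iv5 F372901)) (tt N58095 (iv6 F372898)) (tt N90130 F388632))
theorem Q57848 : ∀ i, i < 57848 → P i := stepQ 57847 Q57847 (allL N57847 (tt N94639 D197677) (tt N94640 D197678) (tt N90066 F388471) (tt N94641 D197679) (tt N30766 (iv4 D108579)) (tt N94642 D197680) (tt N90107 (iv6 F388576)) (tt N94643 D197681))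
theorem Q57849 : ∀ i, i < 57849 → P i := stepQ 57848 Q57848 (allL N57848 (tt N58100 (iv1 F361297)) (tt N90130 F388635) (tt N90131 (iv2 F388638)) (tt N30772 F167913) (tt N94643 (iv4 F405333)) (tt N30767 F167914) (tt N94644 D197682) (tt N30766 (iv7 D108581)))
theorem Q57850 : ∀ i, i < 57850 → P i := stepQ 57849 Q57849 (allL N57849 (tt N94645 D197683) (tt N94646 D197684) (tt N94622 (iv2 F405263)) (tt N30773 F167915) (tt N94079 (iv4 F403111)) (tt N94647 D197685) (tt N30767 (iv6 D108582)) (tt N40296 F167916))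
theorem Q57851 : ∀ i, i < 57851 → P i := stepQ 57850 Q57850 (allL N57850 (tt N73572 F362333) (tt N94609 (iv0 F405186)) (tt N94648 D197686) (tt N30768 (iv3 D108583)) (tt N71233 (iv4 F404865)) (tt N54222 (iv5 F352692)) (tt N94649 D197687) (tt N57775 F167917))
theorem Q57852 : ∀ i, i < 57852 → P i := stepQ 57851 Q57851 (allL N57851 (tt N94650 D197688) (tt N94651 D197689) (tt N57774 F167918) (tt N94649 (iv3 F405364)) (tt N62420 (iv4 F343167)) (tt N94506 (iv5 F404757)) (tt N30768 (iv6 D108584)) (tt N62419 (iv7 F343195)))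
theorem Q57853 : ∀ i, i < 57853 → P i := stepQ 57852 Q57852 (allL N57852 (tt N82253 (iv1 F343117)) (tt N58339 (iv0 F332976)) (tt N82259 F366581) (tt N30769 (iv3 D108585)) (tt N84145 (iv4 F368319)) (tt N57549 F167919) (tt N94652 D197690) (tt N57773 F167920))
theorem Q57854 : ∀ i, i < 57854 → P i := stepQ 57853 Q57853 (allL N57853 (tt N58686 F360045) (tt N58684 (iv0 F362603)) (tt N57776 F167921) (tt N94652 (iv3 F405378)) (tt N58317 (iv4 F362605)) (tt N58472 (iv5 F343160)) (tt N30769 (iv6 D108586)) (tt N59960 (iv7 F363037)))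
theorem Q57855 : ∀ i, i < 57855 → P i := stepQ 57854 Q57854 (allL N57854 (tt N94653 D197691) (tt N94654 D197692) (tt N94655 D197693) (tt N30770 (iv3 D108587)) (tt N94641 (iv4 F405327)) (tt N38763 F167922) (tt N94656 D197694) (tt N57725 F167923))
theorem Q57856 : ∀ i, i < 57856 → P i := stepQ 57855 Q57855 (allL N57855 (tt N94657 D197695) (tt N83371 F362822) (tt N57778 F167924) (tt N94656 (iv3 F405393)) (tt N30771 F167925) (tt N94658 D197696) (tt N30770 (iv6 D108588)) (tt N94659 D197697))
theorem Q57857 : ∀ i, i < 57857 → P i := stepQ 57856 Q57856 (allL N57856 (tt N57781 (iv1 F167928)) (tt N30771 (iv0 D108589)) (tt N57779 (iv2 F351302)) (tt N83266 F370509) (tt N70424 (iv4 F370505)) (tt N94660 D197698) (tt N82282 (iv6 F370508)) (tt N57780 F351301))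
theorem Q57858 : ∀ i, i < 57858 → P i := stepQ 57857 Q57857 (allL N57857 (tt N30771 (iv1 D108590)) (tt N57781 F167926) (tt N57780 F351282) (tt N85511 (iv3 F372894)) (tt N50064 (iv4 F351281)) (tt N30947 F351283) (tt N30950 F351284) (tt N57779 (iv7 F351300)))
theorem Q57859 : ∀ i, i < 57859 → P i := stepQ 57858 Q57858 (allL N57858 (tt N57780 (iv1 F167929)) (tt N57779 F167930) (tt N57781 F167927) (tt N90153 (iv3 F388714)) (tt N94659 (iv4 F405404)) (tt N70147 (iv5 F216785)) (tt N94661 D197699) (tt N30771 (iv7 D108591)))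
theorem Q57860 : ∀ i, i < 57860 → P i := stepQ 57859 Q57859 (allL N57859 (tt N70419 (iv1 F360242)) (tt N70422 (iv0 F360244)) (tt N57782 F167931) (tt N94644 (iv3 F405335)) (tt N57726 F167932) (tt N94662 D197700) (tt N30772 (iv6 D108592)) (tt N94661 (iv7 F405418)))
theorem Q57861 : ∀ i, i < 57861 → P i := stepQ 57860 Q57860 (allL N57860 (tt N93366 (iv1 F400540)) (tt N93365 F400539) (tt N57783 F167933) (tt N94647 (iv3 F405352)) (tt N94663 D197701) (tt N30773 (iv5 D108593)) (tt N94662 (iv6 F405425)) (tt N40299 F167934))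
theorem Q57862 : ∀ i, i < 57862 → P i := stepQ 57861 Q57861 (allL N57861 (tt N66398 (iv1 F359828)) (tt N66399 F352235) (tt N79713 (iv2 F341851)) (tt N30774 (iv3 D108594)) (tt N30779 F167935) (tt N67733 (iv5 F359829)) (tt N79712 F359831) (tt N30875 F167936))
theorem Q57863 : ∀ i, i < 57863 → P i := stepQ 57862 Q57862 (allL N57862 (tt N48318 F326779) (tt N58766 (iv0 F170638)) (tt N32233 F167937) (tt N79712 F326780) (tt N30775 F167938) (tt N78409 F326781) (tt N30774 (iv6 D108595)) (tt N58819 F170827))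
theorem Q57864 : ∀ i, i < 57864 → P i := stepQ 57863 Q57863 (allL N57863 (tt N30775 (iv1 D108597)) (tt N32236 F167940) (tt N32234 F167945) (tt N31019 F167946) (tt N31285 F167953) (tt N38131 (iv5 F167944)) (tt N94664 D197702) (tt N31058 F167947))
theorem Q57865 : ∀ i, i < 57865 → P i := stepQ 57864 Q57864 (allL N57864 (tt N32234 (iv1 F167959)) (tt N31058 F167960) (tt N32236 F167955) (tt N30783 F167956) (tt N58819 (iv4 F170824)) (tt N38510 F167957) (tt N30880 F167958) (tt N30775 (iv7 D108598)))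
theorem Q57866 : ∀ i, i < 57866 → P i := stepQ 57865 Q57865 (allL N57865 (tt N40448 F167963) (tt N71619 (iv0 F220316)) (tt N94665 D197703) (tt N30776 (iv3 D108599)) (tt N36030 F167961) (tt N70141 (iv5 F216774)) (tt N66898 F352722) (tt N30883 F167962))
theorem Q57867 : ∀ i, i < 57867 → P i := stepQ 57866 Q57866 (allL N57866 (tt N33235 F167968) (tt N33236 (iv0 F167966)) (tt N30827 F167964) (tt N66898 (iv3 F352723)) (tt N30777 F167965) (tt N94666 D197704) (tt N30776 (iv6 D108600)) (tt N72607 (iv7 F222731)))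
theorem Q57868 : ∀ i, i < 57868 → P i := stepQ 57867 Q57867 (allL N57867 (tt N30777 (iv1 D108601)) (tt N30830 F167969) (tt N30829 F167973) (tt N36026 (iv3 F167971)) (tt N56739 F167974) (tt N31410 (iv5 F167972)) (tt N94667 D197705) (tt N30828 F167970))
theorem Q57869 : ∀ i, i < 57869 → P i := stepQ 57868 Q57868 (allL N57868 (tt N30829 (iv1 F167978)) (tt N30828 F167979) (tt N30830 F167975) (tt N36034 F167976) (tt N72607 (iv4 F222732)) (tt N58973 (iv5 F171643)) (tt N30888 F167977) (tt N30777 (iv7 D108602)))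
theorem Q57870 : ∀ i, i < 57870 → P i := stepQ 57869 Q57869 (allL N57869 (tt N94668 D197706) (tt N94669 D197707) (tt N81973 (iv2 F345338)) (tt N30778 (iv3 D108603)) (tt N59320 (iv4 F172590)) (tt N58254 (iv5 F169064)) (tt N59490 (iv6 F173025)) (tt N30831 F167980))
theorem Q57871 : ∀ i, i < 57871 → P i := stepQ 57870 Q57870 (allL N57870 (tt N30892 (iv1 F167981)) (tt N30779 (iv0 D108604)) (tt N30891 F175551) (tt N94670 D197708) (tt N66401 F359826) (tt N58205 (iv5 F359825)) (tt N94671 D197709) (tt N30890 F175552))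
theorem Q57872 : ∀ i, i < 57872 → P i := stepQ 57871 Q57871 (allL N57871 (tt N30779 (iv1 D108605)) (tt N30892 F167985) (tt N30890 F175548) (tt N47880 F325296) (tt N45929 F325297) (tt N58206 F352236) (tt N47878 F325298) (tt N30891 F175549))
theorem Q57873 : ∀ i, i < 57873 → P i := stepQ 57872 Q57872 (allL N57872 (tt N30891 (iv1 F167986)) (tt N30890 F167984) (tt N30779 (iv2 D108606)) (tt N30848 F167982) (tt N79713 F341849) (tt N94672 D197710) (tt N45943 F341850) (tt N30892 F167983))
theorem Q57874 : ∀ i, i < 57874 → P i := stepQ 57873 Q57873 (allL N57873 (tt N67728 F373172) (tt N94673 D197711) (tt N94672 (iv2 F405469)) (tt N30780 F167987) (tt N94674 D197712) (tt N30779 (iv5 D108607)) (tt N94675 D197713) (tt N30893 F167988))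
theorem Q57875 : ∀ i, i < 57875 → P i := stepQ 57874 Q57874 (allL N57874 (tt N45944 F341843) (tt N34673 F341844) (tt N45943 F341845) (tt N30781 F167989) (tt N79712 F341846) (tt N79209 F341847) (tt N30779 (iv6 D108608)) (tt N45942 F341848))
theorem Q57876 : ∀ i, i < 57876 → P i := stepQ 57875 Q57875 (allL N57875 (tt N73029 (iv1 F360126)) (tt N73033 (iv0 F360117)) (tt N30853 F167990) (tt N94675 (iv3 F405480)) (tt N70144 (iv4 F216781)) (tt N94676 D197714) (tt N30780 (iv6 D108609)) (tt N94677 D197715))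
theorem Q57877 : ∀ i, i < 57877 → P i := stepQ 57876 Q57876 (allL N57876 (tt N30857 (iv1 F168445)) (tt N30781 (iv0 D108610)) (tt N30854 F170695) (tt N94678 D197716) (tt N56733 F170696) (tt N94679 D197717) (tt N59327 (iv6 F172607)) (tt N30855 F170697))
theorem Q57878 : ∀ i, i < 57878 → P i := stepQ 57877 Q57877 (allL N57877 (tt N30781 (iv1 D108611)) (tt N30857 F167991) (tt N30855 F170682) (tt N93465 (iv3 F400806)) (tt N32021 (iv4 F167996)) (tt N94680 D197718) (tt N93464 (iv6 F400805)) (tt N30854 F170683))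
theorem Q57879 : ∀ i, i < 57879 → P i := stepQ 57878 Q57878 (allL N57878 (tt N59551 (iv1 F173123)) (tt N59554 (iv0 F173128)) (tt N30856 F168441) (tt N79209 (iv3 F363244)) (tt N94681 D197719) (tt N30781 (iv5 D108612)) (tt N94676 (iv6 F405483)) (tt N94682 D197720))
theorem Q57880 : ∀ i, i < 57880 → P i := stepQ 57879 Q57879 (allL N57879 (tt N30855 (iv1 F168446)) (tt N30854 F168447) (tt N30857 F168442) (tt N45942 F326832) (tt N30783 F168443) (tt N94682 (iv5 F405506)) (tt N30899 F168444) (tt N30781 (iv7 D108613)))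
theorem Q57881 : ∀ i, i < 57881 → P i := stepQ 57880 Q57880 (allL N57880 (tt N32399 F168475) (tt N59763 F173934) (tt N30860 F168473) (tt N65495 F364141) (tt N30782 (iv4 D108614)) (tt N94683 D197721) (tt N65494 (iv6 F337400)) (tt N30858 F168474))
theorem Q57882 : ∀ i, i < 57882 → P i := stepQ 57881 Q57881 (allL N57881 (tt N31782 F168477) (tt N31778 F168478) (tt N30861 F168476) (tt N58359 (iv3 F169184)) (tt N65494 F337397) (tt N58359 (iv5 F169179)) (tt N30782 (iv6 D108615)) (tt N58359 (iv7 F169183)))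
theorem Q57883 : ∀ i, i < 57883 → P i := stepQ 57882 Q57882 (allL N57882 (tt N30848 (iv1 F168479)) (tt N30784 (iv0 D108616)) (tt N30847 F203757) (tt N60706 F176748) (tt N94684 D197722) (tt N58155 F219105) (tt N94685 D197723) (tt N30846 F203758))
theorem Q57884 : ∀ i, i < 57884 → P i := stepQ 57883 Q57883 (allL N57883 (tt N30784 (iv1 D108617)) (tt N30848 F168483) (tt N30846 F203759) (tt N94686 D197724) (tt N65580 (iv4 F202065)) (tt N58156 F219108) (tt N94687 D197725) (tt N30847 F203760))
theorem Q57885 : ∀ i, i < 57885 → P i := stepQ 57884 Q57884 (allL N57884 (tt N30847 (iv1 F168484)) (tt N30846 F168482) (tt N30784 (iv2 D108618)) (tt N30892 F168480) (tt N65626 (iv4 F202149)) (tt N94688 D197726) (tt N94689 D197727) (tt N30848 F168481))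
theorem Q57886 : ∀ i, i < 57886 → P i := stepQ 57885 Q57885 (allL N57885 (tt N94690 D197728) (tt N76217 F355983) (tt N94688 (iv2 F405528)) (tt N30785 F168485) (tt N94691 D197729) (tt N30784 (iv5 D108619)) (tt N94692 D197730) (tt N30849 F168486))
theorem Q57887 : ∀ i, i < 57887 → P i := stepQ 57886 Q57886 (allL N57886 (tt N80091 F354278) (tt N59433 F354279) (tt N94689 (iv2 F405534)) (tt N30786 F168487) (tt N65627 (iv4 F202155)) (tt N48446 F354280) (tt N30784 (iv6 D108620)) (tt N94693 D197731))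
theorem Q57888 : ∀ i, i < 57888 → P i := stepQ 57887 Q57887 (allL N57887 (tt N85222 F371954) (tt N30997 F364226) (tt N30895 F168488) (tt N94692 (iv3 F405549)) (tt N70142 (iv4 F216777)) (tt N94694 D197732) (tt N30785 (iv6 D108621)) (tt N93359 (iv7 F400517)))
theorem Q57889 : ∀ i, i < 57889 → P i := stepQ 57888 Q57888 (allL N57888 (tt N81969 F405565) (tt N94695 D197733) (tt N30898 F168489) (tt N48446 F354375) (tt N94696 D197734) (tt N30786 (iv5 D108622)) (tt N94694 (iv6 F405562)) (tt N94697 D197735))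
theorem Q57890 : ∀ i, i < 57890 → P i := stepQ 57889 Q57889 (allL N57889 (tt N30897 (iv1 F168493)) (tt N30896 F168494) (tt N30899 F168490) (tt N94693 (iv3 F405554)) (tt N30788 F168491) (tt N94697 (iv5 F405578)) (tt N30857 F168492) (tt N30786 (iv7 D108623)))
theorem Q57891 : ∀ i, i < 57891 → P i := stepQ 57890 Q57890 (allL N57890 (tt N40335 F168497) (tt N40304 (iv0 F168498)) (tt N30900 F168495) (tt N94698 D197736) (tt N30787 (iv4 D108624)) (tt N94699 D197737) (tt N59405 (iv6 F172828)) (tt N30901 F168496))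
theorem Q57892 : ∀ i, i < 57892 → P i := stepQ 57891 Q57891 (allL N57891 (tt N30789 (iv1 D108625)) (tt N32241 F168499) (tt N32240 (iv2 F168501)) (tt N31121 (iv3 F168502)) (tt N35882 F168503) (tt N71024 (iv5 F219291)) (tt N71354 (iv6 F219929)) (tt N31138 F168500))
theorem Q57893 : ∀ i, i < 57893 → P i := stepQ 57892 Q57892 (allL N57892 (tt N30944 (iv1 F168504)) (tt N30790 (iv0 D108626)) (tt N30943 F170037) (tt N94700 D197738) (tt N71749 F330497) (tt N67728 F330527) (tt N94701 D197739) (tt N30942 F170038))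
theorem Q57894 : ∀ i, i < 57894 → P i := stepQ 57893 Q57893 (allL N57893 (tt N30790 (iv1 D108627)) (tt N30944 F168508) (tt N30942 F170033) (tt N31202 F170034) (tt N59944 (iv4 F174889)) (tt N94673 (iv5 F405476)) (tt N59344 F359288) (tt N30943 F170035))
theorem Q57895 : ∀ i, i < 57895 → P i := stepQ 57894 Q57894 (allL N57894 (tt N30943 (iv1 F168509)) (tt N30942 F168507) (tt N30790 (iv2 D108628)) (tt N30918 F168505) (tt N94026 (iv4 F402868)) (tt N94702 D197740) (tt N79178 (iv6 F365978)) (tt N30944 F168506))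
theorem Q57896 : ∀ i, i < 57896 → P i := stepQ 57895 Q57895 (allL N57895 (tt N58089 (iv1 F362469)) (tt N58093 F362468) (tt N94702 (iv2 F405595)) (tt N30791 F168510) (tt N67527 (iv4 F330983)) (tt N30790 (iv5 D108629)) (tt N94703 D197741) (tt N30945 F168511))
theorem Q57897 : ∀ i, i < 57897 → P i := stepQ 57896 Q57896 (allL N57896 (tt N79179 F362470) (tt N65045 F362471) (tt N79178 F365976) (tt N30792 F168512) (tt N94027 (iv4 F402877)) (tt N94704 D197742) (tt N30790 (iv6 D108630)) (tt N79177 F365975))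
theorem Q57898 : ∀ i, i < 57898 → P i := stepQ 57897 Q57897 (allL N57897 (tt N73511 (iv1 F406933)) (tt N73515 (iv0 F405619)) (tt N30923 F168513) (tt N94703 (iv3 F405601)) (tt N70129 (iv4 F216761)) (tt N94705 D197745) (tt N30791 (iv6 D108631)) (tt N94706 D197746))
theorem Q57899 : ∀ i, i < 57899 → P i := stepQ 57898 Q57898 (allL N57898 (tt N30927 (iv1 F168520)) (tt N30792 (iv0 D108632)) (tt N30924 F202506) (tt N94707 D197747) (tt N58252 (iv4 F169057)) (tt N94708 D197748) (tt N59359 F172732) (tt N30925 F202507))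
theorem Q57900 : ∀ i, i < 57900 → P i := stepQ 57899 Q57899 (allL N57899 (tt N30792 (iv1 D108633)) (tt N30927 F168514) (tt N30925 F202520) (tt N65072 (iv3 F362198)) (tt N35762 F168515) (tt N93812 (iv5 F402014)) (tt N94520 (iv6 F404815)) (tt N30924 F202521))
theorem Q57901 : ∀ i, i < 57901 → P i := stepQ 57900 Q57900 (allL N57900 (tt N94709 D197749) (tt N94710 D197750) (tt N30926 F168516) (tt N94704 (iv3 F405602)) (tt N94711 D197751) (tt N30792 (iv5 D108634)) (tt N94705 (iv6 F405606)) (tt N94712 D197752))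
theorem Q57902 : ∀ i, i < 57902 → P i := stepQ 57901 Q57901 (allL N57901 (tt N30925 (iv1 F168521)) (tt N30924 (iv0 F168522)) (tt N30927 F168517) (tt N79177 (iv3 F365973)) (tt N30794 F168518) (tt N94712 (iv5 F405632)) (tt N30951 F168519) (tt N30792 (iv7 D108635)))
theorem Q57903 : ∀ i, i < 57903 → P i := stepQ 57902 Q57902 (allL N57902 (tt N30802 F168525) (tt N30969 F168526) (tt N30931 F168523) (tt N57171 F351081) (tt N30793 (iv4 D108636)) (tt N57170 (iv5 F342480)) (tt N78143 (iv6 F337420)) (tt N30929 F168524))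
theorem Q57904 : ∀ i, i < 57904 → P i := stepQ 57903 Q57903 (allL N57903 (tt N40724 F168532) (tt N31007 (iv0 F168533)) (tt N30932 F168528) (tt N40080 F168529) (tt N78143 (iv4 F337419)) (tt N33215 F168530) (tt N30793 (iv6 D108637)) (tt N40359 F168531))
theorem Q57905 : ∀ i, i < 57905 → P i := stepQ 57904 Q57904 (allL N57904 (tt N30918 (iv1 F168534)) (tt N30795 (iv0 D108638)) (tt N30917 F204632) (tt N60584 (iv3 F176612)) (tt N65890 F202740) (tt N94690 (iv5 F405541)) (tt N59352 F348805) (tt N30916 F204633))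
theorem Q57906 : ∀ i, i < 57906 → P i := stepQ 57905 Q57905 (allL N57905 (tt N30795 (iv1 D108639)) (tt N30918 F168539) (tt N30916 F204635) (tt N41207 F348800) (tt N65659 (iv4 F202203)) (tt N76217 F354401) (tt N39998 F348801) (tt N30917 F204636))
theorem Q57907 : ∀ i, i < 57907 → P i := stepQ 57906 Q57906 (allL N57906 (tt N30917 (iv1 F168540)) (tt N30916 F168538) (tt N30795 (iv2 D108640)) (tt N30944 F168535) (tt N35707 F168536) (tt N94713 D197753) (tt N94714 D197754) (tt N30918 F168537))
theorem Q57908 : ∀ i, i < 57908 → P i := stepQ 57907 Q57907 (allL N57907 (tt N58000 (iv1 F386119)) (tt N58004 F386118) (tt N94713 (iv2 F405635)) (tt N30796 F168541) (tt N94715 D197755) (tt N30795 (iv5 D108641)) (tt N94716 D197756) (tt N30919 F168542))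
theorem Q57909 : ∀ i, i < 57909 → P i := stepQ 57908 Q57908 (allL N57908 (tt N94717 D197757) (tt N94718 D197758) (tt N94714 (iv2 F405640)) (tt N30797 F168543) (tt N35709 F168544) (tt N94719 D197759) (tt N30795 (iv6 D108642)) (tt N94720 D197760))
theorem Q57910 : ∀ i, i < 57910 → P i := stepQ 57909 Q57909 (allL N57909 (tt N50355 F360600) (tt N94721 D197761) (tt N30947 F168545) (tt N94716 (iv3 F405647)) (tt N70121 (iv4 F216743)) (tt N57780 (iv5 F343108)) (tt N30796 (iv6 D108643)) (tt N94660 (iv7 F405409)))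
theorem Q57911 : ∀ i, i < 57911 → P i := stepQ 57910 Q57910 (allL N57910 (tt N30951 (iv1 F168551)) (tt N30797 (iv0 D108644)) (tt N30948 F171887) (tt N48339 F327422) (tt N45638 F327423) (tt N59450 (iv5 F172901)) (tt N94722 D197762) (tt N30949 F171888))
theorem Q57912 : ∀ i, i < 57912 → P i := stepQ 57911 Q57911 (allL N57911 (tt N30797 (iv1 D108645)) (tt N30951 F168546) (tt N30949 F171918) (tt N94723 D197763) (tt N56216 F171919) (tt N59451 (iv5 F172905)) (tt N59348 (iv6 F172701)) (tt N30948 F171920))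
theorem Q57913 : ∀ i, i < 57913 → P i := stepQ 57912 Q57912 (allL N57912 (tt N86398 (iv1 F376099)) (tt N86397 F376096) (tt N30950 F168547) (tt N94719 (iv3 F405653)) (tt N50061 F336762) (tt N30797 (iv5 D108646)) (tt N57780 F343106) (tt N86396 (iv7 F376091)))
theorem Q57914 : ∀ i, i < 57914 → P i := stepQ 57913 Q57913 (allL N57913 (tt N30949 (iv1 F168552)) (tt N30948 F168555) (tt N30951 F168548) (tt N94720 (iv3 F405659)) (tt N30799 F168549) (tt N86396 (iv5 F376089)) (tt N30927 F168550) (tt N30797 (iv7 D108647)))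
theorem Q57915 : ∀ i, i < 57915 → P i := stepQ 57914 Q57914 (allL N57914 (tt N30977 F168558) (tt N30805 F168560) (tt N30952 F168556) (tt N82439 F326222) (tt N30798 (iv4 D108648)) (tt N78140 (iv5 F360786)) (tt N94724 D197764) (tt N30954 F168557))
theorem Q57916 : ∀ i, i < 57916 → P i := stepQ 57915 Q57915 (allL N57915 (tt N31011 F168565) (tt N39936 (iv0 F168566)) (tt N30953 F168561) (tt N40359 F168562) (tt N94724 (iv4 F405679)) (tt N30903 F168563) (tt N30798 (iv6 D108649)) (tt N40080 F168564))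
theorem Q57917 : ∀ i, i < 57917 → P i := stepQ 57916 Q57916 (allL N57916 (tt N30972 (iv1 F168567)) (tt N30800 (iv0 D108650)) (tt N30971 F352256) (tt N94725 D197765) (tt N94726 D197766) (tt N83143 F345102) (tt N94727 D197767) (tt N30970 F352257))
theorem Q57918 : ∀ i, i < 57918 → P i := stepQ 57917 Q57917 (allL N57917 (tt N30800 (iv1 D108651)) (tt N30972 F168572) (tt N30970 F352259) (tt N82443 (iv3 F366133)) (tt N60553 (iv4 F176585)) (tt N94728 D197768) (tt N59364 (iv6 F412132)) (tt N30971 F352260))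
theorem Q57919 : ∀ i, i < 57919 → P i := stepQ 57918 Q57918 (allL N57918 (tt N30971 (iv1 F168573)) (tt N30970 F168571) (tt N30800 (iv2 D108652)) (tt N30960 F168568) (tt N32349 F168569) (tt N94729 D197769) (tt N81724 (iv6 F331158)) (tt N30972 F168570))
theorem Q57920 : ∀ i, i < 57920 → P i := stepQ 57919 Q57919 (allL N57919 (tt N72903 (iv1 F358904)) (tt N72907 (iv0 F223565)) (tt N94729 (iv2 F405702)) (tt N30801 F168574) (tt N94730 D197770) (tt N30800 (iv5 D108653)) (tt N77098 F331134) (tt N30973 F168575))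
theorem Q57921 : ∀ i, i < 57921 → P i := stepQ 57920 Q57920 (allL N57920 (tt N94731 D197771) (tt N94732 D197772) (tt N81724 F331136) (tt N30802 F168576) (tt N32351 F168577) (tt N77099 (iv5 F331135)) (tt N30800 (iv6 D108654)) (tt N77133 F331137))
theorem Q57922 : ∀ i, i < 57922 → P i := stepQ 57921 Q57921 (allL N57921 (tt N94733 D197773) (tt N57051 (iv0 F331114)) (tt N30967 F168578) (tt N77098 F331092) (tt N40670 F168579) (tt N77093 F331093) (tt N30801 (iv6 D108655)) (tt N77092 (iv7 F331090)))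
theorem Q57923 : ∀ i, i < 57923 → P i := stepQ 57922 Q57922 (allL N57922 (tt N40422 F168581) (tt N94734 D197774) (tt N30968 F168580) (tt N77099 F331112) (tt N94735 D197775) (tt N30802 (iv5 D108656)) (tt N77093 (iv6 F331110)) (tt N77123 F331113))
theorem Q57924 : ∀ i, i < 57924 → P i := stepQ 57923 Q57923 (allL N57923 (tt N30931 (iv1 F168585)) (tt N30929 F168586) (tt N30969 F168582) (tt N77133 (iv3 F331122)) (tt N35819 F168583) (tt N77123 F331121) (tt N30977 F168584) (tt N30802 (iv7 D108657)))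
theorem Q57925 : ∀ i, i < 57925 → P i := stepQ 57924 Q57924 (allL N57924 (tt N30960 (iv1 F168587)) (tt N30803 (iv0 D108658)) (tt N30959 (iv2 F405752)) (tt N94736 D197777) (tt N94737 D197778) (tt N94738 D197779) (tt N59368 F405750) (tt N30958 F405751))
theorem Q57926 : ∀ i, i < 57926 → P i := stepQ 57925 Q57925 (allL N57925 (tt N30803 (iv1 D108659)) (tt N30960 F168591) (tt N30958 F405753) (tt N94739 D197780) (tt N94740 D197781) (tt N94741 D197782) (tt N94742 D197783) (tt N30959 F405754))
theorem Q57927 : ∀ i, i < 57927 → P i := stepQ 57926 Q57926 (allL N57926 (tt N30959 (iv1 F168592)) (tt N30958 F168590) (tt N30803 (iv2 D108660)) (tt N30972 F168588) (tt N77792 (iv4 F244978)) (tt N84857 F370870) (tt N85257 (iv6 F372052)) (tt N30960 F168589))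
theorem Q57928 : ∀ i, i < 57928 → P i := stepQ 57927 Q57927 (allL N57927 (tt N94743 D197784) (tt N94744 D197785) (tt N85257 (iv2 F372050)) (tt N30805 F168595) (tt N77794 (iv4 F244991)) (tt N84835 (iv5 F370799)) (tt N30803 (iv6 D108662)) (tt N94745 D197786))
theorem Q57929 : ∀ i, i < 57929 → P i := stepQ 57928 Q57928 (allL N57928 (tt N83911 (iv1 F367469)) (tt N58484 (iv0 F169457)) (tt N30976 F168598) (tt N84835 (iv3 F370797)) (tt N49090 F362810) (tt N30805 (iv5 D108664)) (tt N70240 F351312) (tt N85533 (iv7 F372967)))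
theorem Q57930 : ∀ i, i < 57930 → P i := stepQ 57929 Q57929 (allL N57929 (tt N30954 (iv1 F168601)) (tt N30952 F168602) (tt N30977 F168599) (tt N94745 (iv3 F405788)) (tt N70204 (iv4 F216958)) (tt N85533 (iv5 F372966)) (tt N30969 F168600) (tt N30805 (iv7 D108665)))
theorem Q57931 : ∀ i, i < 57931 → P i := stepQ 57930 Q57930 (allL N57930 (tt N30810 F356737) (tt N30808 F356738) (tt N30806 (iv2 D108667)) (tt N94746 D197787) (tt N93436 F400739) (tt N94747 D197788) (tt N94748 D197789) (tt N30807 (iv7 F168607)))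
theorem Q57932 : ∀ i, i < 57932 → P i := stepQ 57931 Q57931 (allL N57931 (tt N94739 F405772) (tt N94749 D197790) (tt N94750 D197791) (tt N30806 (iv3 D108668)) (tt N58567 F169699) (tt N94751 D197792) (tt N94752 D197793) (tt N94753 D197794))
theorem Q57933 : ∀ i, i < 57933 → P i := stepQ 57932 Q57932 (allL N57932 (tt N59071 (iv1 F348799)) (tt N59501 (iv0 F173422)) (tt N93436 (iv2 F400740)) (tt N94754 D197795) (tt N30806 (iv4 D108669)) (tt N94755 D197796) (tt N94756 D197797) (tt N93435 F400737))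
theorem Q57934 : ∀ i, i < 57934 → P i := stepQ 57933 Q57933 (allL N57933 (tt N94757 D197798) (tt N57978 (iv0 F400870)) (tt N94747 (iv2 F405794)) (tt N94751 (iv3 F405813)) (tt N61204 F356735) (tt N30806 (iv5 D108670)) (tt N57058 F356736) (tt N61201 (iv7 F356734)))
theorem Q57935 : ∀ i, i < 57935 → P i := stepQ 57934 Q57934 (allL N57934 (tt N57162 (iv1 F400617)) (tt N57171 (iv0 F400616)) (tt N94748 (iv2 F405800)) (tt N94752 (iv3 F405815)) (tt N94756 (iv4 F405820)) (tt N93388 (iv5 F400613)) (tt N30806 (iv6 D108671)) (tt N93558 (iv7 F401131)))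
theorem Q57936 : ∀ i, i < 57936 → P i := stepQ 57935 Q57935 (allL N57935 (tt N30808 F356731) (tt N30810 F356732) (tt N30807 F168608) (tt N94753 (iv3 F405816)) (tt N93435 (iv4 F400735)) (tt N61201 F356733) (tt N82438 (iv6 F363332)) (tt N30806 (iv7 D108672)))
theorem Q57937 : ∀ i, i < 57937 → P i := stepQ 57936 Q57936 (allL N57936 (tt N94758 D197799) (tt N94725 F405686) (tt N66464 F330494) (tt N30807 (iv3 D108673)) (tt N39607 F330495) (tt N94759 D197800) (tt N94760 D197801) (tt N94746 (iv7 F405791)))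
theorem Q57938 : ∀ i, i < 57938 → P i := stepQ 57937 Q57937 (allL N57937 (tt N59501 (iv1 F400742)) (tt N59071 (iv0 F361202)) (tt N93435 F400736) (tt N59491 (iv3 F173027)) (tt N30807 (iv4 D108674)) (tt N94761 D197802) (tt N94762 D197803) (tt N93436 (iv7 F400738)))
theorem Q57939 : ∀ i, i < 57939 → P i := stepQ 57938 Q57938 (allL N57938 (tt N57978 F356724) (tt N94757 F405825) (tt N61201 F356725) (tt N94759 (iv3 F405833)) (tt N36402 F356726) (tt N30807 (iv5 D108675)) (tt N36401 F356727) (tt N94747 (iv7 F405795)))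
theorem Q57940 : ∀ i, i < 57940 → P i := stepQ 57939 Q57939 (allL N57939 (tt N82439 F356728) (tt N48395 F356729) (tt N82438 (iv2 F363331)) (tt N94760 (iv3 F405836)) (tt N94762 (iv4 F405840)) (tt N61322 F356730) (tt N30807 (iv6 D108676)) (tt N82437 (iv7 F363334)))
theorem Q57941 : ∀ i, i < 57941 → P i := stepQ 57940 Q57940 (allL N57940 (tt N93354 (iv1 F400508)) (tt N93353 F400500) (tt N30809 F168611) (tt N30985 F168612) (tt N94763 D197804) (tt N30808 (iv5 D108679)) (tt N94764 D197805) (tt N93355 (iv7 F400506)))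
theorem Q57942 : ∀ i, i < 57942 → P i := stepQ 57941 Q57941 (allL N57941 (tt N93355 (iv1 F400507)) (tt N30809 (iv0 D108680)) (tt N93354 (iv2 F405860)) (tt N94765 D197807) (tt N94766 D197808) (tt N94668 (iv5 F405453)) (tt N94767 D197809) (tt N93353 (iv7 F405858)))
theorem Q57943 : ∀ i, i < 57943 → P i := stepQ 57942 Q57942 (allL N57942 (tt N30809 (iv1 D108681)) (tt N93355 F400509) (tt N93353 (iv2 F405857)) (tt N94768 D197811) (tt N94769 D197812) (tt N94669 F405456) (tt N94770 D197813) (tt N93354 (iv7 F405861)))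
theorem Q57944 : ∀ i, i < 57944 → P i := stepQ 57943 Q57943 (allL N57943 (tt N94771 D197814) (tt N94772 D197815) (tt N94763 (iv2 F405841)) (tt N84822 (iv3 F370739)) (tt N30809 (iv4 D108682)) (tt N94773 D197816) (tt N85221 (iv6 F371948)) (tt N84819 F370736))
theorem Q57945 : ∀ i, i < 57945 → P i := stepQ 57944 Q57944 (allL N57944 (tt N94774 D197817) (tt N93718 (iv0 F401659)) (tt N94764 (iv2 F405843)) (tt N30813 F168613) (tt N85221 (iv4 F371947)) (tt N59390 (iv5 F172793)) (tt N30809 (iv6 D108683)) (tt N85218 (iv7 F371939)))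
theorem Q57946 : ∀ i, i < 57946 → P i := stepQ 57945 Q57945 (allL N57945 (tt N83143 (iv1 F345107)) (tt N94728 (iv0 F405697)) (tt N94775 D197818) (tt N30811 (iv3 D108685)) (tt N83271 (iv4 F345614)) (tt N32398 F168615) (tt N94776 D197819) (tt N30994 F168616))
theorem Q57947 : ∀ i, i < 57947 → P i := stepQ 57946 Q57946 (allL N57946 (tt N73031 (iv1 F363348)) (tt N82412 (iv0 F363336)) (tt N30993 F168617) (tt N94776 (iv3 F405886)) (tt N40312 F168618) (tt N94777 D197820) (tt N30811 (iv6 D108686)) (tt N94778 D197821))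
theorem Q57948 : ∀ i, i < 57948 → P i := stepQ 57947 Q57947 (allL N57947 (tt N94738 (iv1 F405764)) (tt N94741 (iv0 F405781)) (tt N89765 (iv2 F387464)) (tt N30812 (iv3 D108687)) (tt N85586 F373149) (tt N40303 F168619) (tt N89050 F384966) (tt N30992 F168620))
theorem Q57949 : ∀ i, i < 57949 → P i := stepQ 57948 Q57948 (allL N57948 (tt N73027 F351241) (tt N38822 F351242) (tt N30995 F168621) (tt N89050 (iv3 F384967)) (tt N33230 F168622) (tt N78057 (iv5 F350387)) (tt N30812 (iv6 D108688)) (tt N58344 (iv7 F351209)))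
theorem Q57950 : ∀ i, i < 57950 → P i := stepQ 57949 Q57949 (allL N57949 (tt N30813 (iv1 D108690)) (tt N31000 F168623) (tt N30999 F351218) (tt N94779 D197822) (tt N58335 (iv4 F337452)) (tt N94780 D197823) (tt N72879 (iv6 F337453)) (tt N30998 (iv7 F351222)))
theorem Q57951 : ∀ i, i < 57951 → P i := stepQ 57950 Q57950 (allL N57950 (tt N30999 (iv1 F168626)) (tt N30998 F168627) (tt N31000 F168624) (tt N85218 (iv3 F371937)) (tt N85222 (iv4 F371952)) (tt N59397 (iv5 F172805)) (tt N82515 (iv6 F345417)) (tt N30813 (iv7 D108691)))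
theorem Q57952 : ∀ i, i < 57952 → P i := stepQ 57951 Q57951 (allL N57951 (tt N94781 D197824) (tt N94782 D197825) (tt N94783 D197826) (tt N30815 (iv3 D108693)) (tt N32275 F168629) (tt N65731 (iv5 F202322)) (tt N60773 (iv6 F176857)) (tt N35603 F168630))
theorem Q57953 : ∀ i, i < 57953 → P i := stepQ 57952 Q57952 (allL N57952 (tt N65626 (iv1 F202151)) (tt N30816 (iv0 D108694)) (tt N65625 (iv2 F406723)) (tt N65678 F360476) (tt N94784 D197828) (tt N65669 (iv5 F360431)) (tt N65671 (iv6 F360477)) (tt N65624 (iv7 F406721)))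
theorem Q57954 : ∀ i, i < 57954 → P i := stepQ 57953 Q57953 (allL N57953 (tt N30816 (iv1 D108695)) (tt N65626 F202153) (tt N65624 (iv2 F406720)) (tt N94785 D197830) (tt N94786 D197831) (tt N65743 F386117) (tt N92059 F405937) (tt N65625 (iv7 F406724)))
theorem Q57955 : ∀ i, i < 57955 → P i := stepQ 57954 Q57954 (allL N57954 (tt N65625 (iv1 F202152)) (tt N65624 F202147) (tt N30816 (iv2 D108696)) (tt N65553 (iv3 F202006)) (tt N30848 F168631) (tt N94787 D197832) (tt N79715 (iv6 F341842)) (tt N65626 (iv7 F202150)))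
theorem Q57956 : ∀ i, i < 57956 → P i := stepQ 57955 Q57955 (allL N57955 (tt N94788 D197833) (tt N94789 D197834) (tt N94787 (iv2 F405938)) (tt N30817 F168632) (tt N94790 D197835) (tt N30816 (iv5 D108697)) (tt N94791 D197836) (tt N35729 F168633))
theorem Q57957 : ∀ i, i < 57957 → P i := stepQ 57956 Q57956 (allL N57956 (tt N94792 D197837) (tt N94793 D197838) (tt N79715 (iv2 F341841)) (tt N30818 F168634) (tt N30850 F168635) (tt N88306 (iv5 F382529)) (tt N30816 (iv6 D108698)) (tt N88305 F382525))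
theorem Q57958 : ∀ i, i < 57958 → P i := stepQ 57957 Q57957 (allL N57957 (tt N94794 D197839) (tt N94795 D197840) (tt N35728 F168636) (tt N94791 (iv3 F405962)) (tt N65511 (iv4 F201914)) (tt N93084 F399410) (tt N30817 (iv6 D108699)) (tt N94796 D197841))
theorem Q57959 : ∀ i, i < 57959 → P i := stepQ 57958 Q57958 (allL N57958 (tt N30818 (iv1 D108700)) (tt N58847 F171116) (tt N32032 (iv2 F168638)) (tt N56707 (iv3 F343615)) (tt N32031 (iv4 F168639)) (tt N56724 (iv5 F343620)) (tt N56704 F343614) (tt N35626 F168637))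
theorem Q57960 : ∀ i, i < 57960 → P i := stepQ 57959 Q57959 (allL N57959 (tt N65941 (iv1 F202930)) (tt N65943 (iv0 F202941)) (tt N65554 (iv2 F202014)) (tt N88306 (iv3 F382527)) (tt N66623 (iv4 F332822)) (tt N30818 (iv5 D108701)) (tt N93084 (iv6 F399408)) (tt N88302 (iv7 F382515)))
theorem Q57961 : ∀ i, i < 57961 → P i := stepQ 57960 Q57960 (allL N57960 (tt N32032 (iv1 F168642)) (tt N35626 F168643) (tt N58847 F171115) (tt N88305 (iv3 F382523)) (tt N30821 F168641) (tt N88302 (iv5 F382512)) (tt N58844 F170995) (tt N30818 (iv7 D108702)))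
theorem Q57962 : ∀ i, i < 57962 → P i := stepQ 57961 Q57961 (allL N57961 (tt N55683 F168646) (tt N55681 F168647) (tt N59742 (iv2 F173735)) (tt N92046 (iv3 F395523)) (tt N65606 (iv4 F202081)) (tt N32291 F168644) (tt N30820 (iv6 D108704)) (tt N32291 F168645))
theorem Q57963 : ∀ i, i < 57963 → P i := stepQ 57962 Q57962 (allL N57962 (tt N41214 F179581) (tt N72920 (iv0 F223587)) (tt N33515 F168648) (tt N30824 F168649) (tt N56888 F168650) (tt N35632 F168651) (tt N30823 (iv6 D108705)) (tt N94797 D197842))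
theorem Q57964 : ∀ i, i < 57964 → P i := stepQ 57963 Q57963 (allL N57963 (tt N41102 (iv1 F168656)) (tt N30824 (iv0 D108706)) (tt N41100 (iv2 F202601)) (tt N41463 (iv3 F169649)) (tt N40355 (iv4 F180078)) (tt N65928 F202894) (tt N74016 (iv6 F226609)) (tt N41101 (iv7 F202604)))
theorem Q57965 : ∀ i, i < 57965 → P i := stepQ 57964 Q57964 (allL N57964 (tt N30824 (iv1 D108707)) (tt N41102 F168652) (tt N41101 F202602) (tt N32087 F180074) (tt N40356 (iv4 F168653)) (tt N94798 D197843) (tt N69034 (iv6 F212498)) (tt N41100 F202599))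
theorem Q57966 : ∀ i, i < 57966 → P i := stepQ 57965 Q57965 (allL N57965 (tt N41101 (iv1 F168657)) (tt N41100 F168658) (tt N41102 F168654) (tt N94797 (iv3 F405980)) (tt N59488 (iv4 F336697)) (tt N60694 F176723) (tt N57550 F168655) (tt N30824 (iv7 D108708)))
theorem Q57967 : ∀ i, i < 57967 → P i := stepQ 57966 Q57966 (allL N57966 (tt N92383 (iv1 F396893)) (tt N30826 (iv0 D108709)) (tt N92382 (iv2 F405997)) (tt N90017 F388310) (tt N94799 D197845) (tt N94800 D197846) (tt N94801 D197847) (tt N92381 F406000))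
theorem Q57968 : ∀ i, i < 57968 → P i := stepQ 57967 Q57967 (allL N57967 (tt N30826 (iv1 D108710)) (tt N92383 F396895) (tt N92381 F405999) (tt N94802 D197848) (tt N94803 D197849) (tt N94804 D197850) (tt N94805 D197851) (tt N92382 (iv7 F405998)))
theorem Q57969 : ∀ i, i < 57969 → P i := stepQ 57968 Q57968 (allL N57968 (tt N92382 (iv1 F396894)) (tt N92381 F396889) (tt N30826 (iv2 D108711)) (tt N94665 (iv3 F405437)) (tt N92289 (iv4 F396592)) (tt N93342 (iv5 F400468)) (tt N90001 (iv6 F388262)) (tt N92383 (iv7 F396892)))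
theorem Q57970 : ∀ i, i < 57970 → P i := stepQ 57969 Q57969 (allL N57969 (tt N53635 F365338) (tt N90003 F388267) (tt N90001 F388258) (tt N30827 F168659) (tt N92291 (iv4 F396599)) (tt N94806 D197852) (tt N30826 (iv6 D108712)) (tt N90002 (iv7 F388257)))
theorem Q57971 : ∀ i, i < 57971 → P i := stepQ 57970 Q57970 (allL N57970 (tt N94605 (iv1 F405163)) (tt N94607 (iv0 F405173)) (tt N94666 (iv2 F405443)) (tt N94806 (iv3 F406027)) (tt N89382 F386305) (tt N30827 (iv5 D108713)) (tt N93346 (iv6 F400480)) (tt N94807 D197853))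
theorem Q57972 : ∀ i, i < 57972 → P i := stepQ 57971 Q57971 (allL N57971 (tt N33236 (iv1 F168662)) (tt N33235 F168663) (tt N72607 F222733) (tt N90002 F388254) (tt N30830 F168660) (tt N94807 (iv5 F406031)) (tt N40408 F168661) (tt N30827 (iv7 D108714)))
theorem Q57973 : ∀ i, i < 57973 → P i := stepQ 57972 Q57972 (allL N57972 (tt N36027 F168667) (tt N32230 (iv0 F168669)) (tt N36025 F168664) (tt N30828 (iv3 D108715)) (tt N56896 F168668) (tt N39481 F168670) (tt N57523 F168665) (tt N36026 F168666))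
theorem Q57974 : ∀ i, i < 57974 → P i := stepQ 57973 Q57973 (allL N57973 (tt N31394 F168675) (tt N31412 F168676) (tt N31411 F168671) (tt N39481 F168672) (tt N40063 F168674) (tt N30828 (iv5 D108716)) (tt N94808 D197854) (tt N31410 F168673))
theorem Q57975 : ∀ i, i < 57975 → P i := stepQ 57974 Q57974 (allL N57974 (tt N74015 F226607) (tt N74016 (iv0 F226611)) (tt N94667 (iv2 F405448)) (tt N41099 F168678) (tt N62205 (iv4 F180165)) (tt N70213 (iv5 F216983)) (tt N30829 (iv6 D108717)) (tt N70213 (iv7 F216984)))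
theorem Q57976 : ∀ i, i < 57976 → P i := stepQ 57975 Q57975 (allL N57975 (tt N81973 (iv1 F345340)) (tt N30831 (iv0 D108718)) (tt N94669 (iv2 F405864)) (tt N94809 D197855) (tt N94810 D197856) (tt N93353 F400501) (tt N94811 D197857) (tt N94668 (iv7 F405859)))
theorem Q57977 : ∀ i, i < 57977 → P i := stepQ 57976 Q57976 (allL N57976 (tt N30831 (iv1 D108719)) (tt N81973 F345341) (tt N94668 F405863) (tt N79827 F345342) (tt N94812 D197858) (tt N93354 F400502) (tt N79825 (iv6 F345343)) (tt N94669 (iv7 F405862)))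
theorem Q57978 : ∀ i, i < 57978 → P i := stepQ 57977 Q57977 (allL N57977 (tt N94669 (iv1 F405455)) (tt N94668 F405454) (tt N30831 (iv2 D108720)) (tt N59747 (iv3 F173760)) (tt N59400 (iv4 F172814)) (tt N76241 F363678) (tt N93478 F400856) (tt N81973 F345339))
theorem Q57979 : ∀ i, i < 57979 → P i := stepQ 57978 Q57978 (allL N57978 (tt N57933 F400870) (tt N57938 (iv0 F356724)) (tt N76241 (iv2 F363670)) (tt N30832 F168679) (tt N61237 F363669) (tt N30831 (iv5 D108721)) (tt N78463 (iv6 F351075)) (tt N58254 (iv7 F169065)))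
theorem Q57980 : ∀ i, i < 57980 → P i := stepQ 57979 Q57979 (allL N57979 (tt N57160 F356739) (tt N93480 F400869) (tt N93478 (iv2 F400857)) (tt N30833 F168680) (tt N59208 (iv4 F351067)) (tt N64581 F351074) (tt N30831 (iv6 D108722)) (tt N93477 F400852))
theorem Q57981 : ∀ i, i < 57981 → P i := stepQ 57980 Q57980 (allL N57980 (tt N59489 F173016) (tt N30833 (iv0 D108724)) (tt N59748 F173772) (tt N94813 D197859) (tt N40327 (iv4 F173019)) (tt N46736 F343737) (tt N93382 (iv6 F400595)) (tt N59749 (iv7 F173775)))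
theorem Q57982 : ∀ i, i < 57982 → P i := stepQ 57981 Q57981 (allL N57981 (tt N30833 (iv1 D108725)) (tt N59489 F173014) (tt N59749 F173777) (tt N80821 F351065) (tt N40328 F171191) (tt N44936 F343738) (tt N59404 F175106) (tt N59748 F173773))
theorem Q57983 : ∀ i, i < 57983 → P i := stepQ 57982 Q57982 (allL N57982 (tt N59749 (iv1 F173774)) (tt N59748 F173767) (tt N59489 (iv2 F173011)) (tt N93477 F400851) (tt N30836 F168684) (tt N64435 F351105) (tt N59337 (iv6 F172653)) (tt N30833 (iv7 D108727)))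
theorem Q57984 : ∀ i, i < 57984 → P i := stepQ 57983 Q57983 (allL N57983 (tt N56958 F169190) (tt N30874 F169191) (tt N56956 F173804) (tt N30834 (iv3 D108728)) (tt N58776 (iv4 F170727)) (tt N72272 (iv5 F221813)) (tt N58362 F169192) (tt N56957 (iv7 F173803)))
theorem Q57985 : ∀ i, i < 57985 → P i := stepQ 57984 Q57984 (allL N57984 (tt N47786 F341295) (tt N30842 F171736) (tt N59751 (iv2 F173787)) (tt N94814 D197860) (tt N30834 (iv4 D108729)) (tt N64575 F341296) (tt N58367 (iv6 F169198)) (tt N59752 (iv7 F173797)))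
theorem Q57986 : ∀ i, i < 57986 → P i := stepQ 57985 Q57985 (allL N57985 (tt N30842 F168685) (tt N47786 F341293) (tt N59752 (iv2 F173795)) (tt N94815 D197861) (tt N30835 (iv4 D108730)) (tt N64576 F341294) (tt N59407 (iv6 F172836)) (tt N59751 (iv7 F173789)))
theorem Q57987 : ∀ i, i < 57987 → P i := stepQ 57986 Q57986 (allL N57986 (tt N30837 (iv1 D108732)) (tt N59747 F173764) (tt N59746 F173749) (tt N94816 D197862) (tt N35903 F170951) (tt N30987 F170952) (tt N39907 F341389) (tt N45366 F325543))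
theorem Q57988 : ∀ i, i < 57988 → P i := stepQ 57987 Q57987 (allL N57987 (tt N48337 F325593) (tt N58291 (iv0 F170959)) (tt N58297 (iv2 F169606)) (tt N30838 F168687) (tt N94817 D197863) (tt N30837 (iv5 D108734)) (tt N40698 F336700) (tt N58255 (iv7 F169068)))
theorem Q57989 : ∀ i, i < 57989 → P i := stepQ 57988 Q57988 (allL N57988 (tt N72894 (iv1 F223529)) (tt N30840 (iv0 D108739)) (tt N72893 (iv2 F231238)) (tt N94818 D197864) (tt N80991 (iv4 F355094)) (tt N94819 D197865) (tt N94820 D197866) (tt N72892 (iv7 F231240)))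
theorem Q57990 : ∀ i, i < 57990 → P i := stepQ 57989 Q57989 (allL N57989 (tt N30840 (iv1 D108740)) (tt N72894 F223531) (tt N72892 F231239) (tt N94821 D197867) (tt N75334 (iv4 F231236)) (tt N94822 D197868) (tt N94823 D197869) (tt N72893 F231237))
theorem Q57991 : ∀ i, i < 57991 → P i := stepQ 57990 Q57990 (allL N57990 (tt N72893 (iv1 F223530)) (tt N72892 F223525) (tt N30840 (iv2 D108741)) (tt N72898 (iv3 F223540)) (tt N58869 (iv4 F171193)) (tt N94824 D197870) (tt N80780 (iv6 F365527)) (tt N72894 (iv7 F223528)))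
theorem Q57992 : ∀ i, i < 57992 → P i := stepQ 57991 Q57991 (allL N57991 (tt N94825 D197871) (tt N85151 F371755) (tt N94824 (iv2 F406065)) (tt N30841 F168692) (tt N85147 (iv4 F371744)) (tt N30840 (iv5 D108742)) (tt N78427 F353303) (tt N58163 (iv7 F168947)))
theorem Q57993 : ∀ i, i < 57993 → P i := stepQ 57992 Q57992 (allL N57992 (tt N59752 (iv1 F173799)) (tt N59751 (iv0 F173790)) (tt N47786 F341297) (tt N80779 (iv3 F351062)) (tt N58866 (iv4 F171186)) (tt N34990 F341298) (tt N59336 F172644) (tt N30842 (iv7 D108747)))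
theorem Q57994 : ∀ i, i < 57994 → P i := stepQ 57993 Q57993 (allL N57993 (tt N72898 (iv1 F223543)) (tt N30843 (iv0 D108748)) (tt N72897 F223545) (tt N31977 F170931) (tt N79304 F326452) (tt N94826 D197872) (tt N45941 F326453) (tt N72896 F223539))
theorem Q57995 : ∀ i, i < 57995 → P i := stepQ 57994 Q57994 (allL N57994 (tt N30843 (iv1 D108749)) (tt N72898 F223548) (tt N72896 (iv2 F223547)) (tt N94827 D197873) (tt N91507 (iv4 F393417)) (tt N94828 D197874) (tt N91506 F393414) (tt N72897 F223546))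
theorem Q57996 : ∀ i, i < 57996 → P i := stepQ 57995 Q57995 (allL N57995 (tt N72897 (iv1 F223544)) (tt N72896 F223538) (tt N30843 (iv2 D108750)) (tt N72894 (iv3 F223526)) (tt N59800 (iv4 F174062)) (tt N94829 D197875) (tt N94830 D197876) (tt N72898 (iv7 F223542)))
theorem Q57997 : ∀ i, i < 57997 → P i := stepQ 57996 Q57996 (allL N57996 (tt N58705 F375636) (tt N94831 D197877) (tt N94829 (iv2 F406078)) (tt N30844 F168697) (tt N94832 D197878) (tt N30843 (iv5 D108751)) (tt N40353 F336712) (tt N58164 (iv7 F168951)))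
theorem Q57998 : ∀ i, i < 57998 → P i := stepQ 57997 Q57997 (allL N57997 (tt N94833 D197879) (tt N94834 D197880) (tt N94830 (iv2 F406080)) (tt N30845 F168698) (tt N59801 (iv4 F174068)) (tt N40354 F336713) (tt N30843 (iv6 D108752)) (tt N59486 (iv7 F172986)))
theorem Q57999 : ∀ i, i < 57999 → P i := stepQ 57998 Q57998 (allL N57998 (tt N94827 (iv1 F406108)) (tt N94835 D197882) (tt N60702 (iv2 F203774)) (tt N30846 (iv3 D108757)) (tt N36258 F168701) (tt N94836 D197883) (tt N94837 D197884) (tt N60706 (iv7 F203756)))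
theorem Q58000 : ∀ i, i < 58000 → P i := stepQ 57999 Q57999 (allL N57999 (tt N66058 (iv1 F405517)) (tt N94838 D197885) (tt N65580 F203773) (tt N94839 D197886) (tt N30846 (iv4 D108758)) (tt N94840 D197887) (tt N94841 D197888) (tt N94684 (iv7 F405515)))
theorem Q58001 : ∀ i, i < 58001 → P i := stepQ 58000 Q58000 (allL N58000 (tt N58153 (iv1 F386120)) (tt N57907 F386119) (tt N58156 (iv2 F219109)) (tt N94836 (iv3 F406109)) (tt N31749 F168702) (tt N30846 (iv5 D108759)) (tt N94842 D197889) (tt N58155 F219104))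
theorem Q58002 : ∀ i, i < 58002 → P i := stepQ 58001 Q58001 (allL N58001 (tt N94843 D197890) (tt N94815 (iv0 F412411)) (tt N94687 (iv2 F405526)) (tt N94837 (iv3 F406112)) (tt N94841 (iv4 F406122)) (tt N94844 D197892) (tt N30846 (iv6 D108760)) (tt N94845 D197893))
theorem Q58003 : ∀ i, i < 58003 → P i := stepQ 58002 Q58002 (allL N58002 (tt N94846 D197894) (tt N94818 (iv0 F412293)) (tt N94847 D197896) (tt N30847 (iv3 D108762)) (tt N94848 D197897) (tt N76238 (iv5 F406850)) (tt N94849 D197899) (tt N94686 (iv7 F405524)))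
theorem Q58004 : ∀ i, i < 58004 → P i := stepQ 58003 Q58003 (allL N58003 (tt N94838 (iv1 F406114)) (tt N66058 (iv0 F203223)) (tt N94684 (iv2 F405514)) (tt N65506 (iv3 F201902)) (tt N30847 (iv4 D108763)) (tt N94850 D197900) (tt N94851 D197901) (tt N65580 F203761))
theorem Q58005 : ∀ i, i < 58005 → P i := stepQ 58004 Q58004 (allL N58004 (tt N57907 (iv1 F386118)) (tt N58153 F386121) (tt N58155 (iv2 F219106)) (tt N76238 (iv3 F406848)) (tt N94852 D197902) (tt N30847 (iv5 D108764)) (tt N71906 (iv6 F394332)) (tt N58156 (iv7 F219107)))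
theorem Q58006 : ∀ i, i < 58006 → P i := stepQ 58005 Q58005 (allL N58005 (tt N59334 F406146) (tt N94853 D197903) (tt N94685 (iv2 F405519)) (tt N94849 (iv3 F406134)) (tt N94851 (iv4 F406140)) (tt N94854 D197904) (tt N30847 (iv6 D108765)) (tt N94855 D197905))
theorem Q58007 : ∀ i, i < 58007 → P i := stepQ 58006 Q58006 (allL N58006 (tt N76217 F354405) (tt N94690 F405543) (tt N30849 F168704) (tt N94672 (iv3 F405470)) (tt N94856 D197906) (tt N30848 (iv5 D108766)) (tt N94857 D197907) (tt N94688 (iv7 F405530)))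
theorem Q58008 : ∀ i, i < 58008 → P i := stepQ 58007 Q58007 (allL N58007 (tt N94858 D197908) (tt N67457 F341838) (tt N30850 F168705) (tt N45943 F341839) (tt N79715 F341840) (tt N94859 D197909) (tt N30848 (iv6 D108767)) (tt N94860 D197910))
theorem Q58009 : ∀ i, i < 58009 → P i := stepQ 58008 Q58008 (allL N58008 (tt N94688 F405531) (tt N30849 (iv0 D108768)) (tt N76217 (iv2 F354399)) (tt N85639 (iv3 F373314)) (tt N31766 F354396) (tt N30916 F354397) (tt N76194 F354398) (tt N94690 (iv7 F405544)))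
theorem Q58010 : ∀ i, i < 58010 → P i := stepQ 58009 Q58009 (allL N58009 (tt N30849 (iv1 D108769)) (tt N94688 F405533) (tt N94690 F405542) (tt N94861 D197911) (tt N94862 D197912) (tt N30917 F354403) (tt N94863 D197913) (tt N76217 F354402))
theorem Q58011 : ∀ i, i < 58011 → P i := stepQ 58010 Q58010 (allL N58010 (tt N75526 (iv1 F406699)) (tt N94864 D197915) (tt N94856 (iv2 F406167)) (tt N59436 (iv3 F354460)) (tt N30849 (iv4 D108770)) (tt N59498 (iv5 F173037)) (tt N94865 D197916) (tt N94691 (iv7 F405546)))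
theorem Q58012 : ∀ i, i < 58012 → P i := stepQ 58011 Q58011 (allL N58011 (tt N94866 D197917) (tt N94867 D197918) (tt N94857 (iv2 F406169)) (tt N30853 F168706) (tt N94865 (iv4 F406193)) (tt N94868 D197919) (tt N30849 (iv6 D108771)) (tt N94869 D197920))
theorem Q58013 : ∀ i, i < 58013 → P i := stepQ 58012 Q58012 (allL N58012 (tt N94860 (iv1 F406183)) (tt N30850 (iv0 D108772)) (tt N94858 F406171) (tt N94870 D197921) (tt N67460 F354465) (tt N94871 D197922) (tt N59440 F365873) (tt N67457 (iv7 F354470)))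
theorem Q58014 : ∀ i, i < 58014 → P i := stepQ 58013 Q58013 (allL N58013 (tt N30850 (iv1 D108773)) (tt N94860 F406182) (tt N67457 F354393) (tt N57651 (iv3 F354395)) (tt N67447 (iv4 F354392)) (tt N94872 D197923) (tt N57649 F354394) (tt N94858 (iv7 F406172)))
theorem Q58015 : ∀ i, i < 58015 → P i := stepQ 58014 Q58014 (allL N58014 (tt N84530 F381514) (tt N94873 D197924) (tt N94859 (iv2 F406175)) (tt N30856 F168707) (tt N87307 F379025) (tt N30850 (iv5 D108774)) (tt N94868 (iv6 F406195)) (tt N94874 D197925))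
theorem Q58016 : ∀ i, i < 58016 → P i := stepQ 58015 Q58015 (allL N58015 (tt N67457 F341831) (tt N94858 F406174) (tt N94860 (iv2 F406178)) (tt N30857 F168708) (tt N88305 (iv4 F382526)) (tt N94874 (iv5 F406210)) (tt N94693 (iv6 F405557)) (tt N30850 (iv7 D108775)))
theorem Q58017 : ∀ i, i < 58017 → P i := stepQ 58016 Q58016 (allL N58016 (tt N94819 F406062) (tt N94822 (iv0 F409812)) (tt N85106 (iv2 F371651)) (tt N30851 (iv3 D108776)) (tt N32760 F361650) (tt N30913 F168709) (tt N32766 F361651) (tt N70202 (iv7 F216952)))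
theorem Q58018 : ∀ i, i < 58018 → P i := stepQ 58017 Q58017 (allL N58017 (tt N80569 F360790) (tt N93357 (iv0 F400512)) (tt N72890 (iv2 F223522)) (tt N32766 F331534) (tt N32782 F331535) (tt N93460 (iv5 F400792)) (tt N30851 (iv6 D108777)) (tt N85110 (iv7 F371668)))
theorem Q58019 : ∀ i, i < 58019 → P i := stepQ 58018 Q58018 (allL N58018 (tt N94826 F406073) (tt N94828 (iv0 F406076)) (tt N94875 D197927) (tt N30852 (iv3 D108778)) (tt N38815 F356118) (tt N30915 F168710) (tt N38814 F356119) (tt N72888 (iv7 F223519)))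
theorem Q58020 : ∀ i, i < 58020 → P i := stepQ 58019 Q58019 (allL N58019 (tt N70142 F364227) (tt N93347 F400487) (tt N70203 (iv2 F216953)) (tt N38814 F345284) (tt N38822 F345285) (tt N59447 (iv5 F172897)) (tt N30852 (iv6 D108779)) (tt N93345 F400479))
theorem Q58021 : ∀ i, i < 58021 → P i := stepQ 58020 Q58020 (allL N58020 (tt N94677 (iv1 F405488)) (tt N30853 (iv0 D108780)) (tt N73029 (iv2 F360123)) (tt N94876 D197928) (tt N72876 F360124) (tt N94877 D197929) (tt N93350 (iv6 F406219)) (tt N73033 F360125))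
theorem Q58022 : ∀ i, i < 58022 → P i := stepQ 58021 Q58021 (allL N58021 (tt N30853 (iv1 D108781)) (tt N94677 F405487) (tt N73033 (iv2 F360100)) (tt N94878 D197930) (tt N72877 (iv4 F359227)) (tt N45948 F343787) (tt N45949 F343788) (tt N73029 (iv7 F360119)))
theorem Q58023 : ∀ i, i < 58023 → P i := stepQ 58022 Q58022 (allL N58022 (tt N94879 D197931) (tt N94880 D197932) (tt N94676 (iv2 F405482)) (tt N94868 (iv3 F406194)) (tt N94881 D197933) (tt N30853 (iv5 D108782)) (tt N30856 F168711) (tt N94882 D197934))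
theorem Q58024 : ∀ i, i < 58024 → P i := stepQ 58023 Q58023 (allL N58023 (tt N73033 (iv1 F360118)) (tt N73029 F360122) (tt N94677 (iv2 F405484)) (tt N94869 (iv3 F406196)) (tt N93352 (iv4 F400497)) (tt N94882 (iv5 F406235)) (tt N93359 F400519) (tt N30853 (iv7 D108783)))
theorem Q58025 : ∀ i, i < 58025 → P i := stepQ 58024 Q58024 (allL N58024 (tt N94883 D197935) (tt N94823 (iv0 F444321)) (tt N78477 F327947) (tt N30854 (iv3 D108785)) (tt N48320 F327948) (tt N94884 D197937) (tt N48319 F327949) (tt N93465 (iv7 F400808)))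
theorem Q58026 : ∀ i, i < 58026 → P i := stepQ 58025 Q58025 (allL N58025 (tt N31726 F168713) (tt N64977 F362790) (tt N94679 (iv2 F405495)) (tt N94884 (iv3 F406239)) (tt N94885 D197938) (tt N30854 (iv5 D108786)) (tt N73541 F405370) (tt N94680 (iv7 F405500)))
theorem Q58027 : ∀ i, i < 58027 → P i := stepQ 58026 Q58026 (allL N58026 (tt N45941 F365874) (tt N94886 D197939) (tt N94887 D197940) (tt N30855 (iv3 D108788)) (tt N94888 D197941) (tt N94889 D197942) (tt N94890 D197943) (tt N94678 (iv7 F405492)))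
theorem Q58028 : ∀ i, i < 58028 → P i := stepQ 58027 Q58027 (allL N58027 (tt N64977 F362797) (tt N31726 F172741) (tt N94680 (iv2 F405499)) (tt N94889 (iv3 F406254)) (tt N94891 D197944) (tt N30855 (iv5 D108790)) (tt N94892 D197945) (tt N94679 (iv7 F405496)))
theorem Q58029 : ∀ i, i < 58029 → P i := stepQ 58028 Q58028 (allL N58028 (tt N58360 (iv1 F222463)) (tt N58367 F222465) (tt N93464 F400804) (tt N94890 (iv3 F406255)) (tt N60700 (iv4 F176738)) (tt N94893 D197946) (tt N30855 (iv6 D108791)) (tt N59449 (iv7 F172900)))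
theorem Q58030 : ∀ i, i < 58030 → P i := stepQ 58029 Q58029 (allL N58029 (tt N94682 (iv1 F405508)) (tt N30856 (iv0 D108792)) (tt N59551 (iv2 F202537)) (tt N94894 D197947) (tt N94895 D197948) (tt N59358 F173229) (tt N73457 F343792) (tt N59554 F202538))
theorem Q58031 : ∀ i, i < 58031 → P i := stepQ 58030 Q58030 (allL N58030 (tt N30856 (iv1 D108793)) (tt N94682 F405507) (tt N59554 F202536) (tt N94896 D197949) (tt N94897 D197950) (tt N59359 F172731) (tt N94898 D197951) (tt N59551 (iv7 F202535)))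
theorem Q58032 : ∀ i, i < 58032 → P i := stepQ 58031 Q58031 (allL N58031 (tt N94899 D197952) (tt N94900 D197953) (tt N94681 (iv2 F405503)) (tt N94901 D197954) (tt N30856 (iv4 D108794)) (tt N94902 D197955) (tt N94881 (iv6 F406234)) (tt N94903 D197956))
theorem Q58033 : ∀ i, i < 58033 → P i := stepQ 58032 Q58032 (allL N58032 (tt N59554 (iv1 F173129)) (tt N59551 (iv0 F173122)) (tt N94682 (iv2 F405504)) (tt N94874 (iv3 F406208)) (tt N94903 (iv4 F406273)) (tt N30857 F168715) (tt N94904 D197957) (tt N30856 (iv7 D108795)))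
theorem Q58034 : ∀ i, i < 58034 → P i := stepQ 58033 Q58033 (allL N58033 (tt N30860 (iv1 F168717)) (tt N30858 (iv0 D108796)) (tt N59763 F173933) (tt N94905 D197958) (tt N32402 F168716) (tt N94906 D197959) (tt N40335 (iv6 F168719)) (tt N32399 F168718))
theorem Q58035 : ∀ i, i < 58035 → P i := stepQ 58034 Q58034 (allL N58034 (tt N93400 (iv1 F400641)) (tt N79825 F364145) (tt N64954 F364144) (tt N30858 (iv3 D108797)) (tt N59453 (iv4 F172915)) (tt N94907 D197960) (tt N59453 (iv6 F172916)) (tt N65495 (iv7 F364142)))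
theorem Q58036 : ∀ i, i < 58036 → P i := stepQ 58035 Q58035 (allL N58035 (tt N31753 F168720) (tt N79137 (iv0 F343777)) (tt N59764 (iv2 F173941)) (tt N94907 (iv3 F406289)) (tt N73539 (iv4 F362795)) (tt N30858 (iv5 D108798)) (tt N73538 F362796) (tt N94683 (iv7 F405511)))
theorem Q58037 : ∀ i, i < 58037 → P i := stepQ 58036 Q58036 (allL N58036 (tt N36727 F168723) (tt N40550 F329461) (tt N38151 F168721) (tt N88598 (iv3 F383554)) (tt N30859 (iv4 D108799)) (tt N94908 D197961) (tt N88604 (iv6 F383572)) (tt N38741 F168722))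
theorem Q58038 : ∀ i, i < 58038 → P i := stepQ 58037 Q58037 (allL N58037 (tt N38572 F168725) (tt N38568 (iv0 F168726)) (tt N38152 F168724) (tt N58226 (iv3 F169025)) (tt N88604 (iv4 F383571)) (tt N58226 (iv5 F169026)) (tt N30859 (iv6 D108800)) (tt N58226 (iv7 F169027)))
theorem Q58039 : ∀ i, i < 58039 → P i := stepQ 58038 Q58038 (allL N58038 (tt N79137 (iv1 F343778)) (tt N31753 F168728) (tt N94683 (iv2 F405510)) (tt N45628 F326833) (tt N94909 D197962) (tt N30860 (iv5 D108802)) (tt N94910 D197963) (tt N59764 (iv7 F173942)))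
theorem Q58040 : ∀ i, i < 58040 → P i := stepQ 58039 Q58039 (allL N58039 (tt N73080 F223779) (tt N93382 F400596) (tt N65494 (iv2 F337398)) (tt N45629 F326653) (tt N30861 F168729) (tt N77887 (iv5 F337401)) (tt N30860 (iv6 D108803)) (tt N59454 (iv7 F172920)))
theorem Q58041 : ∀ i, i < 58041 → P i := stepQ 58040 Q58040 (allL N58040 (tt N38540 F168732) (tt N38420 F168733) (tt N38521 F168730) (tt N39788 F326048) (tt N30862 (iv4 D108804)) (tt N73224 (iv5 F350341)) (tt N39197 F326049) (tt N38523 F168731))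
theorem Q58042 : ∀ i, i < 58042 → P i := stepQ 58041 Q58041 (allL N58041 (tt N33310 F168737) (tt N33307 (iv0 F168738)) (tt N38522 F168734) (tt N40566 F168735) (tt N39197 F323860) (tt N38481 F168736) (tt N30862 (iv6 D108805)) (tt N70168 (iv7 F216878)))
theorem Q58043 : ∀ i, i < 58043 → P i := stepQ 58042 Q58042 (allL N58042 (tt N38520 (iv1 F168746)) (tt N30863 (iv0 D108806)) (tt N38517 F202513) (tt N94911 D197964) (tt N56520 F168748) (tt N64851 (iv5 F328925)) (tt N94912 D197965) (tt N38518 (iv7 F202512)))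
theorem Q58044 : ∀ i, i < 58044 → P i := stepQ 58043 Q58043 (allL N58043 (tt N30863 (iv1 D108807)) (tt N38520 F168739) (tt N38518 (iv2 F202514)) (tt N94913 D197966) (tt N56521 F171568) (tt N64505 (iv5 F328921)) (tt N64278 (iv6 F327855)) (tt N38517 F202509))
theorem Q58045 : ∀ i, i < 58045 → P i := stepQ 58044 Q58044 (allL N58044 (tt N94914 D197967) (tt N83299 (iv0 F336399)) (tt N91686 F394033) (tt N30863 (iv3 D108808)) (tt N36839 F168740) (tt N89326 (iv5 F386126)) (tt N30866 F168741) (tt N91690 (iv7 F394052)))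
theorem Q58046 : ∀ i, i < 58046 → P i := stepQ 58045 Q58045 (allL N58045 (tt N94915 D197968) (tt N89316 (iv0 F386060)) (tt N38519 F168742) (tt N89326 F386127) (tt N94916 D197969) (tt N30863 (iv5 D108809)) (tt N69722 F362799) (tt N91688 (iv7 F394043)))
theorem Q58047 : ∀ i, i < 58047 → P i := stepQ 58046 Q58046 (allL N58046 (tt N38518 (iv1 F168747)) (tt N38517 F168750) (tt N38520 F168743) (tt N91690 (iv3 F394051)) (tt N30864 F168744) (tt N91688 F394045) (tt N38500 F168745) (tt N30863 (iv7 D108810)))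
theorem Q58048 : ∀ i, i < 58048 → P i := stepQ 58047 Q58047 (allL N58047 (tt N38621 F168753) (tt N84323 (iv0 F368896)) (tt N91792 F394448) (tt N30865 (iv3 D108811)) (tt N38573 F168751) (tt N84252 F368697) (tt N94917 D197970) (tt N31391 F168752))
theorem Q58049 : ∀ i, i < 58049 → P i := stepQ 58048 Q58048 (allL N58048 (tt N38411 F168757) (tt N38409 F168758) (tt N38452 F168754) (tt N84252 F368693) (tt N44335 F168755) (tt N30865 (iv5 D108812)) (tt N35146 F341479) (tt N31392 F168756))
theorem Q58050 : ∀ i, i < 58050 → P i := stepQ 58049 Q58049 (allL N58049 (tt N38567 (iv1 F168762)) (tt N38571 F168763) (tt N38489 F168759) (tt N94917 (iv3 F406323)) (tt N31393 F168760) (tt N94918 D197971) (tt N30865 (iv6 D108813)) (tt N57802 F168761))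
theorem Q58051 : ∀ i, i < 58051 → P i := stepQ 58050 Q58050 (allL N58050 (tt N38492 (iv1 F168764)) (tt N30866 (iv0 D108814)) (tt N38491 F355026) (tt N68700 F211417) (tt N67981 F208750) (tt N84129 (iv5 F368224)) (tt N59457 (iv6 F354704)) (tt N38490 F355027))
theorem Q58052 : ∀ i, i < 58052 → P i := stepQ 58051 Q58051 (allL N58051 (tt N30866 (iv1 D108815)) (tt N38492 F168769) (tt N38490 F354988) (tt N94919 D197972) (tt N67326 (iv4 F207095)) (tt N43780 F329957) (tt N94920 D197973) (tt N38491 F354989))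
theorem Q58053 : ∀ i, i < 58053 → P i := stepQ 58052 Q58052 (allL N58052 (tt N38491 (iv1 F168770)) (tt N38490 F168768) (tt N30866 (iv2 D108816)) (tt N38513 F168765) (tt N36837 F168766) (tt N64693 F349804) (tt N91686 (iv6 F394031)) (tt N38492 F168767))
theorem Q58054 : ∀ i, i < 58054 → P i := stepQ 58053 Q58053 (allL N58053 (tt N64797 F363289) (tt N64801 F363290) (tt N38516 F168773) (tt N77297 F365361) (tt N59296 (iv4 F172518)) (tt N69722 (iv5 F362801)) (tt N30867 (iv6 D108818)) (tt N94921 D197974))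
theorem Q58055 : ∀ i, i < 58055 → P i := stepQ 58054 Q58054 (allL N58054 (tt N48327 F321498) (tt N79558 F321499) (tt N79561 (iv2 F341857)) (tt N30869 (iv3 D108819)) (tt N32254 F168774) (tt N94036 (iv5 F402911)) (tt N47916 F341862) (tt N32231 F168775))
theorem Q58056 : ∀ i, i < 58056 → P i := stepQ 58055 Q58055 (allL N58055 (tt N32085 F168779) (tt N32003 (iv0 F168778)) (tt N30877 F168776) (tt N47916 F356023) (tt N30870 F168777) (tt N94922 D197975) (tt N30869 (iv6 D108820)) (tt N58863 (iv7 F171178)))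
theorem Q58057 : ∀ i, i < 58057 → P i := stepQ 58056 Q58056 (allL N58056 (tt N30879 (iv1 F168783)) (tt N30878 F168784) (tt N30880 F168780) (tt N32259 F168781) (tt N58863 F171179) (tt N58394 (iv5 F169272)) (tt N32236 F168782) (tt N30870 (iv7 D108821)))
theorem Q58058 : ∀ i, i < 58058 → P i := stepQ 58057 Q58057 (allL N58057 (tt N93549 F401105) (tt N94923 D197976) (tt N62148 (iv2 F357038)) (tt N30871 (iv3 D108822)) (tt N35999 F168785) (tt N33195 F168786) (tt N61818 (iv6 F357068)) (tt N36023 F168787))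
theorem Q58059 : ∀ i, i < 58059 → P i := stepQ 58058 Q58058 (allL N58058 (tt N33113 F168791) (tt N33115 (iv0 F168790)) (tt N40157 F168788) (tt N61818 (iv3 F357066)) (tt N30872 F168789) (tt N94924 D197977) (tt N30871 (iv6 D108823)) (tt N40498 (iv7 F168792)))
theorem Q58060 : ∀ i, i < 58060 → P i := stepQ 58059 Q58059 (allL N58059 (tt N33539 (iv1 F168796)) (tt N58988 F171690) (tt N58989 (iv2 F171693)) (tt N33555 F168793) (tt N40498 F168794) (tt N59979 (iv5 F175065)) (tt N36027 F168795) (tt N30872 (iv7 D108825)))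
theorem Q58061 : ∀ i, i < 58061 → P i := stepQ 58060 Q58060 (allL N58060 (tt N30874 (iv1 D108827)) (tt N56958 F168797) (tt N56957 (iv2 F173800)) (tt N56977 F168799) (tt N58777 (iv4 F170728)) (tt N57044 (iv5 F168798)) (tt N39540 (iv6 F170915)) (tt N56956 F173805))
theorem Q58062 : ∀ i, i < 58062 → P i := stepQ 58061 Q58061 (allL N58061 (tt N56957 (iv1 F168806)) (tt N56956 F168807) (tt N56958 F168801) (tt N31034 F168802) (tt N60094 (iv4 F175542)) (tt N56945 F168803) (tt N31096 F168804) (tt N30874 (iv7 D108828)))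
theorem Q58063 : ∀ i, i < 58063 → P i := stepQ 58062 Q58062 (allL N58062 (tt N79713 F344743) (tt N30875 (iv0 D108829)) (tt N66399 F344739) (tt N80185 (iv3 F344744)) (tt N94925 D197978) (tt N62363 (iv5 F344738)) (tt N80184 F344740) (tt N66398 F344741))
theorem Q58064 : ∀ i, i < 58064 → P i := stepQ 58063 Q58063 (allL N58063 (tt N30875 (iv1 D108830)) (tt N79713 F341854) (tt N66398 (iv2 F344745)) (tt N80751 (iv3 F344748)) (tt N94926 D197979) (tt N57017 F344746) (tt N94927 D197980) (tt N66399 F344747))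
theorem Q58065 : ∀ i, i < 58065 → P i := stepQ 58064 Q58064 (allL N58064 (tt N66399 (iv1 F352234)) (tt N66398 (iv0 F352233)) (tt N30875 (iv2 D108831)) (tt N79561 (iv3 F341858)) (tt N30892 F168808) (tt N67735 F352223) (tt N80158 (iv6 F341863)) (tt N79713 (iv7 F341852)))
theorem Q58066 : ∀ i, i < 58066 → P i := stepQ 58065 Q58065 (allL N58065 (tt N57335 F344734) (tt N66369 F344737) (tt N67735 (iv2 F352231)) (tt N30876 F168809) (tt N57331 (iv4 F344735)) (tt N30875 (iv5 D108832)) (tt N66289 (iv6 F344736)) (tt N67733 F359832))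
theorem Q58067 : ∀ i, i < 58067 → P i := stepQ 58066 Q58066 (allL N58066 (tt N94928 D197981) (tt N94929 D197982) (tt N80158 (iv2 F352222)) (tt N30877 F168810) (tt N30894 F168811) (tt N77572 (iv5 F346272)) (tt N30875 (iv6 D108833)) (tt N94930 D197983))
theorem Q58068 : ∀ i, i < 58068 → P i := stepQ 58067 Q58067 (allL N58067 (tt N66303 F365198) (tt N94931 D197984) (tt N94037 (iv2 F402916)) (tt N66289 F362473) (tt N33194 F168812) (tt N94932 D197985) (tt N30876 (iv6 D108834)) (tt N74249 (iv7 F362474)))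
theorem Q58069 : ∀ i, i < 58069 → P i := stepQ 58068 Q58068 (allL N58068 (tt N58863 (iv1 F171177)) (tt N30877 (iv0 D108835)) (tt N32085 (iv2 F168813)) (tt N47926 (iv3 F328218)) (tt N32005 F168814) (tt N81328 (iv5 F353495)) (tt N58871 (iv6 F171199)) (tt N32003 F168815))
theorem Q58070 : ∀ i, i < 58070 → P i := stepQ 58069 Q58069 (allL N58069 (tt N94933 D197986) (tt N94934 D197987) (tt N94922 (iv2 F406350)) (tt N77572 F362042) (tt N94935 D197988) (tt N30877 (iv5 D108836)) (tt N94932 (iv6 F406393)) (tt N94936 D197989))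
theorem Q58071 : ∀ i, i < 58071 → P i := stepQ 58070 Q58070 (allL N58070 (tt N32003 (iv1 F168817)) (tt N32085 F168818) (tt N58863 (iv2 F171180)) (tt N94930 (iv3 F406381)) (tt N30880 F168816) (tt N94936 (iv5 F406410)) (tt N58819 F170826) (tt N30877 (iv7 D108837)))
theorem Q58072 : ∀ i, i < 58072 → P i := stepQ 58071 Q58071 (allL N58071 (tt N44219 (iv1 F168825)) (tt N44218 (iv0 F168823)) (tt N44220 F168819) (tt N32307 F168820) (tt N57602 (iv4 F168824)) (tt N30878 (iv5 D108838)) (tt N39413 F168822) (tt N31565 F168821))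
theorem Q58073 : ∀ i, i < 58073 → P i := stepQ 58072 Q58072 (allL N58072 (tt N39540 (iv1 F168833)) (tt N39539 F168834) (tt N39541 F168829) (tt N32308 F168830) (tt N47956 F317706) (tt N39135 F168831) (tt N30878 (iv6 D108839)) (tt N32292 F168832))
theorem Q58074 : ∀ i, i < 58074 → P i := stepQ 58073 Q58073 (allL N58073 (tt N71910 F220872) (tt N71912 F220881) (tt N94937 D197990) (tt N30881 (iv3 D108840)) (tt N30883 F168835) (tt N39203 F168836) (tt N94938 D197991) (tt N36030 F168837))
theorem Q58075 : ∀ i, i < 58075 → P i := stepQ 58074 Q58074 (allL N58074 (tt N39146 (iv1 F168841)) (tt N31144 (iv0 F168840)) (tt N36072 F168838) (tt N94938 (iv3 F406419)) (tt N30882 F168839) (tt N94939 D197992) (tt N30881 (iv6 D108841)) (tt N39573 (iv7 F168842)))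
theorem Q58076 : ∀ i, i < 58076 → P i := stepQ 58075 Q58075 (allL N58075 (tt N94665 (iv1 F405441)) (tt N30883 (iv0 D108842)) (tt N71619 (iv2 F220314)) (tt N33247 F168843) (tt N71618 F220313) (tt N71905 F220864) (tt N94940 D197993) (tt N40448 (iv7 F180269)))
theorem Q58077 : ∀ i, i < 58077 → P i := stepQ 58076 Q58076 (allL N58076 (tt N30883 (iv1 D108843)) (tt N94665 F405442) (tt N40448 F220317) (tt N94941 D197994) (tt N70904 (iv4 F218715)) (tt N71906 F394331) (tt N94854 (iv6 F406160)) (tt N71619 (iv7 F220315)))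
theorem Q58078 : ∀ i, i < 58078 → P i := stepQ 58077 Q58077 (allL N58077 (tt N71619 (iv1 F220318)) (tt N40448 F168844) (tt N30883 (iv2 D108844)) (tt N92383 (iv3 F396890)) (tt N94937 (iv4 F406413)) (tt N93348 (iv5 F400488)) (tt N93941 F402499) (tt N94665 (iv7 F405440)))
theorem Q58079 : ∀ i, i < 58079 → P i := stepQ 58078 Q58078 (allL N58078 (tt N93932 F402466) (tt N93942 F402508) (tt N93941 (iv2 F402500)) (tt N30884 F168845) (tt N94938 (iv4 F406420)) (tt N93746 (iv5 F401749)) (tt N30883 (iv6 D108845)) (tt N93940 (iv7 F402496)))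
theorem Q58080 : ∀ i, i < 58080 → P i := stepQ 58079 Q58079 (allL N58079 (tt N94942 D197995) (tt N94943 D197996) (tt N92385 (iv2 F396900)) (tt N93746 (iv3 F401748)) (tt N94944 D197997) (tt N30884 (iv5 D108846)) (tt N93351 (iv6 F400496)) (tt N94945 D197998))
theorem Q58081 : ∀ i, i < 58081 → P i := stepQ 58080 Q58080 (allL N58080 (tt N30933 (iv1 F168848)) (tt N40316 F168849) (tt N40408 F168846) (tt N93940 F402494) (tt N30888 F168847) (tt N94945 (iv5 F406451)) (tt N72607 F222734) (tt N30884 (iv7 D108847)))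
theorem Q58082 : ∀ i, i < 58082 → P i := stepQ 58081 Q58081 (allL N58081 (tt N69034 F214384) (tt N70205 (iv0 F216965)) (tt N70206 (iv2 F216968)) (tt N33538 F168850) (tt N57006 (iv4 F331793)) (tt N44327 F168851) (tt N30885 (iv6 D108848)) (tt N44326 F168852))
theorem Q58083 : ∀ i, i < 58083 → P i := stepQ 58082 Q58082 (allL N58082 (tt N40338 (iv1 F168860)) (tt N30887 (iv0 D108849)) (tt N60072 F175470) (tt N31297 F172822) (tt N59403 F172823) (tt N70221 (iv5 F217016)) (tt N66022 (iv6 F203095)) (tt N60073 F175468))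
theorem Q58084 : ∀ i, i < 58084 → P i := stepQ 58083 Q58083 (allL N58083 (tt N30887 (iv1 D108850)) (tt N40338 F168853) (tt N60073 F175466) (tt N59978 F175061) (tt N59404 (iv4 F172825)) (tt N73526 (iv5 F225000)) (tt N40328 F175105) (tt N60072 (iv7 F175472)))
theorem Q58085 : ∀ i, i < 58085 → P i := stepQ 58084 Q58084 (allL N58084 (tt N40414 (iv1 F172834)) (tt N40417 F168856) (tt N31642 F168854) (tt N94946 D197999) (tt N30887 (iv4 D108851)) (tt N94709 (iv5 F405618)) (tt N30889 F168855) (tt N58110 (iv7 F168873)))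
theorem Q58086 : ∀ i, i < 58086 → P i := stepQ 58085 Q58085 (allL N58085 (tt N60073 (iv1 F175462)) (tt N60072 F175461) (tt N40338 F168857) (tt N65623 (iv3 F202141)) (tt N58110 (iv4 F168872)) (tt N30888 F168858) (tt N40305 F168859) (tt N30887 (iv7 D108852)))
theorem Q58087 : ∀ i, i < 58087 → P i := stepQ 58086 Q58086 (allL N58086 (tt N94947 D198000) (tt N94948 D198001) (tt N94949 D198002) (tt N30889 (iv3 D108853)) (tt N31807 F168861) (tt N59515 (iv5 F173050)) (tt N94946 (iv6 F406454)) (tt N31643 F168862))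
theorem Q58088 : ∀ i, i < 58088 → P i := stepQ 58087 Q58087 (allL N58087 (tt N94821 F406064) (tt N94950 D198003) (tt N94951 D198004) (tt N30890 (iv3 D108855)) (tt N94952 D198005) (tt N85405 (iv5 F372507)) (tt N94953 D198006) (tt N94670 (iv7 F405459)))
theorem Q58089 : ∀ i, i < 58089 → P i := stepQ 58088 Q58088 (allL N58088 (tt N45955 F345344) (tt N82490 F345345) (tt N45929 F325293) (tt N85731 F373705) (tt N30890 (iv4 D108856)) (tt N39606 F325294) (tt N94954 D198007) (tt N66401 F325295))
theorem Q58090 : ∀ i, i < 58090 → P i := stepQ 58089 Q58089 (allL N58089 (tt N58203 F344742) (tt N57895 F362469) (tt N58206 (iv2 F359819)) (tt N85405 F372506) (tt N94955 D198008) (tt N30890 (iv5 D108857)) (tt N94800 F405994) (tt N58205 F359824))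
theorem Q58091 : ∀ i, i < 58091 → P i := stepQ 58090 Q58090 (allL N58090 (tt N59476 F363992) (tt N59483 F363993) (tt N47878 F363994) (tt N94953 (iv3 F406482)) (tt N94954 (iv4 F406490)) (tt N94801 (iv5 F406014)) (tt N30890 (iv6 D108858)) (tt N59481 F363995))
theorem Q58092 : ∀ i, i < 58092 → P i := stepQ 58091 Q58091 (allL N58091 (tt N31969 (iv1 F170973)) (tt N31977 (iv0 F170971)) (tt N58539 (iv2 F170782)) (tt N30891 (iv3 D108860)) (tt N34988 F324540) (tt N58693 F170972) (tt N34987 F324541) (tt N47880 F324542))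
theorem Q58093 : ∀ i, i < 58093 → P i := stepQ 58092 Q58092 (allL N58092 (tt N82490 F336489) (tt N45955 F336490) (tt N66401 F323135) (tt N31277 (iv3 F168865)) (tt N30891 (iv4 D108861)) (tt N39605 F323136) (tt N35277 F323137) (tt N45929 (iv7 F324015)))
theorem Q58094 : ∀ i, i < 58094 → P i := stepQ 58093 Q58093 (allL N58093 (tt N57895 (iv1 F362468)) (tt N58203 F330498) (tt N58205 F359823) (tt N58693 (iv3 F170974)) (tt N94956 D198009) (tt N30891 (iv5 D108862)) (tt N94957 D198010) (tt N58206 (iv7 F359821)))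
theorem Q58095 : ∀ i, i < 58095 → P i := stepQ 58094 Q58094 (allL N58094 (tt N94814 F406048) (tt N94958 D198011) (tt N94671 (iv2 F405461)) (tt N34987 F366059) (tt N35277 F366060) (tt N94959 D198012) (tt N30891 (iv6 D108863)) (tt N47776 F366061))
theorem Q58096 : ∀ i, i < 58096 → P i := stepQ 58095 Q58095 (allL N58095 (tt N94673 (iv1 F405474)) (tt N67728 F373173) (tt N30893 F168866) (tt N94688 (iv3 F405529)) (tt N94960 D198013) (tt N30892 (iv5 D108864)) (tt N57846 F372898) (tt N94672 (iv7 F405471)))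
theorem Q58097 : ∀ i, i < 58097 → P i := stepQ 58096 Q58096 (allL N58096 (tt N46261 F353070) (tt N59471 F353071) (tt N30894 F168867) (tt N94689 (iv3 F405535)) (tt N80158 F353072) (tt N94961 D198014) (tt N30892 (iv6 D108865)) (tt N94962 D198015))
theorem Q58098 : ∀ i, i < 58098 → P i := stepQ 58097 Q58097 (allL N58097 (tt N94672 (iv1 F405473)) (tt N30893 (iv0 D108866)) (tt N94673 F405478) (tt N94963 D198016) (tt N67729 F362479) (tt N30942 F362480) (tt N94964 D198017) (tt N67728 F362481))
theorem Q58099 : ∀ i, i < 58099 → P i := stepQ 58098 Q58098 (allL N58098 (tt N30893 (iv1 D108867)) (tt N94672 (iv0 F405472)) (tt N67728 F402873) (tt N94554 F404954) (tt N67669 F402874) (tt N30943 F402875) (tt N94965 D198018) (tt N94673 (iv7 F405475)))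
theorem Q58100 : ∀ i, i < 58100 → P i := stepQ 58099 Q58099 (allL N58099 (tt N94966 D198019) (tt N69810 (iv0 F362478)) (tt N94960 (iv2 F406511)) (tt N93343 (iv3 F400475)) (tt N30893 (iv4 D108868)) (tt N67809 F362477) (tt N94967 D198020) (tt N94674 (iv7 F405479)))
theorem Q58101 : ∀ i, i < 58101 → P i := stepQ 58100 Q58100 (allL N58100 (tt N54051 F361295) (tt N57848 F361297) (tt N57846 (iv2 F372900)) (tt N30895 F168868) (tt N94967 (iv4 F406531)) (tt N69844 (iv5 F361294)) (tt N30893 (iv6 D108869)) (tt N57845 F388634))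
theorem Q58102 : ∀ i, i < 58102 → P i := stepQ 58101 Q58101 (allL N58101 (tt N94962 (iv1 F406523)) (tt N30894 (iv0 D108870)) (tt N46261 F352215) (tt N94968 D198021) (tt N46260 F352216) (tt N94969 D198022) (tt N94970 D198023) (tt N59471 (iv7 F352217)))
theorem Q58103 : ∀ i, i < 58103 → P i := stepQ 58102 Q58102 (allL N58102 (tt N30894 (iv1 D108871)) (tt N94962 F406522) (tt N59471 F353060) (tt N35022 F353061) (tt N34742 F353062) (tt N77524 (iv5 F359304)) (tt N59322 (iv6 F353073)) (tt N46261 F353063))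
theorem Q58104 : ∀ i, i < 58104 → P i := stepQ 58103 Q58103 (allL N58103 (tt N77570 (iv1 F353058)) (tt N62182 F353059) (tt N94961 (iv2 F406513)) (tt N30898 F168869) (tt N78218 F352230) (tt N30894 (iv5 D108872)) (tt N69844 F361290) (tt N94971 D198024))
theorem Q58105 : ∀ i, i < 58105 → P i := stepQ 58104 Q58104 (allL N58104 (tt N59471 F353067) (tt N46261 F353068) (tt N94962 (iv2 F406518)) (tt N30899 F168870) (tt N94930 (iv4 F406382)) (tt N94971 (iv5 F406547)) (tt N45942 F353069) (tt N30894 (iv7 D108873)))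
theorem Q58106 : ∀ i, i < 58106 → P i := stepQ 58105 Q58105 (allL N58105 (tt N93359 (iv1 F400516)) (tt N30895 (iv0 D108874)) (tt N85222 (iv2 F371950)) (tt N48179 F343110) (tt N31000 F343111) (tt N94524 (iv5 F404843)) (tt N70147 F343112) (tt N30997 F343113))
theorem Q58107 : ∀ i, i < 58107 → P i := stepQ 58106 Q58106 (allL N58106 (tt N77848 (iv1 F350392)) (tt N94972 D198025) (tt N94694 (iv2 F405560)) (tt N69844 (iv3 F361293)) (tt N77872 F361298) (tt N30895 (iv5 D108876)) (tt N30898 F168871) (tt N94973 D198026))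
theorem Q58108 : ∀ i, i < 58108 → P i := stepQ 58107 Q58107 (allL N58107 (tt N30997 F364228) (tt N85222 F371955) (tt N93359 F400518) (tt N57845 (iv3 F388636)) (tt N93347 (iv4 F400486)) (tt N94973 (iv5 F406551)) (tt N94677 (iv6 F405486)) (tt N30895 (iv7 D108877)))
theorem Q58109 : ∀ i, i < 58109 → P i := stepQ 58108 Q58108 (allL N58108 (tt N91508 F393423) (tt N91506 (iv0 F393413)) (tt N94974 D198027) (tt N30896 (iv3 D108878)) (tt N59821 (iv4 F174131)) (tt N94975 D198028) (tt N94976 D198029) (tt N59423 F172878))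
theorem Q58110 : ∀ i, i < 58110 → P i := stepQ 58109 Q58109 (allL N58109 (tt N94977 D198030) (tt N94978 D198031) (tt N72918 (iv2 F223574)) (tt N94975 (iv3 F406557)) (tt N94979 D198032) (tt N30896 (iv5 D108879)) (tt N94980 D198033) (tt N59425 (iv7 F172881)))
theorem Q58111 : ∀ i, i < 58111 → P i := stepQ 58110 Q58110 (allL N58110 (tt N59407 (iv1 F172839)) (tt N59406 (iv0 F172833)) (tt N59419 (iv2 F172869)) (tt N94976 (iv3 F406558)) (tt N58085 F168872) (tt N58175 F168960) (tt N30896 (iv6 D108880)) (tt N58084 F168873))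
theorem Q58112 : ∀ i, i < 58112 → P i := stepQ 58111 Q58111 (allL N58111 (tt N94820 (iv1 F450230)) (tt N94981 D198035) (tt N88497 (iv2 F383280)) (tt N30897 (iv3 D108881)) (tt N48255 F345515) (tt N85340 (iv5 F372300)) (tt N58784 (iv6 F170746)) (tt N72917 (iv7 F223573)))
theorem Q58113 : ∀ i, i < 58113 → P i := stepQ 58112 Q58112 (allL N58112 (tt N94978 (iv1 F406565)) (tt N94977 F406561) (tt N59425 (iv2 F172880)) (tt N85340 (iv3 F372298)) (tt N94982 D198036) (tt N30897 (iv5 D108882)) (tt N76890 (iv6 F370339)) (tt N72918 (iv7 F223575)))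
theorem Q58114 : ∀ i, i < 58114 → P i := stepQ 58113 Q58113 (allL N58113 (tt N94697 (iv1 F405580)) (tt N30898 (iv0 D108883)) (tt N81969 (iv2 F363319)) (tt N94983 D198037) (tt N94984 D198038) (tt N59522 F173056) (tt N81774 F363318) (tt N94695 (iv7 F405568)))
theorem Q58115 : ∀ i, i < 58115 → P i := stepQ 58114 Q58114 (allL N58114 (tt N30898 (iv1 D108884)) (tt N94697 F405579) (tt N94695 F405570) (tt N94985 D198039) (tt N94986 D198040) (tt N94722 (iv5 F405671)) (tt N94987 D198041) (tt N81969 F363320))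
theorem Q58116 : ∀ i, i < 58116 → P i := stepQ 58115 Q58115 (allL N58115 (tt N77902 F359347) (tt N94988 D198042) (tt N94696 (iv2 F405572)) (tt N94989 D198043) (tt N30898 (iv4 D108885)) (tt N94990 D198044) (tt N77872 (iv6 F361299)) (tt N94991 D198045))
theorem Q58117 : ∀ i, i < 58117 → P i := stepQ 58116 Q58116 (allL N58116 (tt N94695 (iv1 F405567)) (tt N81969 F405571) (tt N94697 (iv2 F405576)) (tt N94971 (iv3 F406546)) (tt N94991 (iv4 F406577)) (tt N30899 F168874) (tt N94992 D198046) (tt N30898 (iv7 D108886)))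
theorem Q58118 : ∀ i, i < 58118 → P i := stepQ 58117 Q58117 (allL N58117 (tt N30901 (iv1 F168876)) (tt N30900 (iv0 D108887)) (tt N40335 (iv2 F168875)) (tt N94993 D198047) (tt N40306 (iv4 F168878)) (tt N94994 D198048) (tt N59763 F173937) (tt N40304 F168877))
theorem Q58119 : ∀ i, i < 58119 → P i := stepQ 58118 Q58118 (allL N58118 (tt N94995 D198049) (tt N94996 D198050) (tt N94699 (iv2 F405583)) (tt N64616 F345431) (tt N94997 D198051) (tt N30900 (iv5 D108889)) (tt N93274 (iv6 F400250)) (tt N59412 (iv7 F172865)))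
theorem Q58120 : ∀ i, i < 58120 → P i := stepQ 58119 Q58119 (allL N58119 (tt N94811 F406041) (tt N94998 D198052) (tt N64614 (iv2 F345337)) (tt N30901 (iv3 D108890)) (tt N59490 (iv4 F173024)) (tt N94999 D198053) (tt N59320 (iv6 F172591)) (tt N94698 (iv7 F405582)))
theorem Q58121 : ∀ i, i < 58121 → P i := stepQ 58120 Q58120 (allL N58120 (tt N94996 (iv1 F406594)) (tt N94995 F406593) (tt N59412 (iv2 F172864)) (tt N94999 (iv3 F406599)) (tt N95000 D198054) (tt N30901 (iv5 D108891)) (tt N95001 D198055) (tt N94699 (iv7 F405584)))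
theorem Q58122 : ∀ i, i < 58122 → P i := stepQ 58121 Q58121 (allL N58121 (tt N40105 (iv1 F168888)) (tt N33264 (iv0 F168882)) (tt N40079 F168880) (tt N74256 (iv3 F227158)) (tt N30902 (iv4 D108892)) (tt N95002 D198056) (tt N62572 (iv6 F182432)) (tt N40082 F168881))
theorem Q58123 : ∀ i, i < 58123 → P i := stepQ 58122 Q58122 (allL N58122 (tt N33264 F168886) (tt N40105 F168887) (tt N40082 F168884) (tt N95003 D198057) (tt N30903 (iv4 D108893)) (tt N95004 D198058) (tt N70319 (iv6 F217182)) (tt N40079 F168885))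
theorem Q58124 : ∀ i, i < 58124 → P i := stepQ 58123 Q58123 (allL N58123 (tt N40078 (iv1 F168896)) (tt N30904 (iv0 D108894)) (tt N40075 (iv2 F171929)) (tt N95005 D198059) (tt N58983 (iv4 F171670)) (tt N95006 D198060) (tt N95007 D198061) (tt N40076 F171928))
theorem Q58125 : ∀ i, i < 58125 → P i := stepQ 58124 Q58124 (allL N58124 (tt N30904 (iv1 D108895)) (tt N40078 F168889) (tt N40076 (iv2 F171926)) (tt N75450 F349414) (tt N41218 F168890) (tt N77163 (iv5 F349416)) (tt N70321 F217187) (tt N40075 (iv7 F171923)))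
theorem Q58126 : ∀ i, i < 58126 → P i := stepQ 58125 Q58125 (allL N58125 (tt N95008 D198062) (tt N95009 D198063) (tt N95010 D198064) (tt N30904 (iv3 D108896)) (tt N92347 (iv4 F396791)) (tt N95011 D198065) (tt N30906 F168891) (tt N95012 D198066))
theorem Q58127 : ∀ i, i < 58127 → P i := stepQ 58126 Q58126 (allL N58126 (tt N95013 D198067) (tt N59243 (iv0 F172405)) (tt N40077 F168892) (tt N95011 (iv3 F406636)) (tt N95014 D198068) (tt N30904 (iv5 D108897)) (tt N95015 D198069) (tt N95016 D198070))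
theorem Q58128 : ∀ i, i < 58128 → P i := stepQ 58127 Q58127 (allL N58127 (tt N40076 (iv1 F168897)) (tt N40075 F168898) (tt N40078 F168893) (tt N95012 (iv3 F406637)) (tt N30905 F168894) (tt N95016 (iv5 F406649)) (tt N40096 F168895) (tt N30904 (iv7 D108898)))
theorem Q58129 : ∀ i, i < 58129 → P i := stepQ 58128 Q58128 (allL N58128 (tt N40090 (iv1 F168901)) (tt N30906 (iv0 D108899)) (tt N40089 (iv2 F205140)) (tt N71440 F220060) (tt N95017 D198071) (tt N95018 D198072) (tt N64653 (iv6 F366484)) (tt N40088 (iv7 F205142)))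
theorem Q58130 : ∀ i, i < 58130 → P i := stepQ 58129 Q58129 (allL N58129 (tt N30906 (iv1 D108900)) (tt N40090 F168905) (tt N40088 F205141) (tt N40255 (iv3 F182577)) (tt N74274 (iv4 F227216)) (tt N95019 D198073) (tt N77675 (iv6 F349995)) (tt N40089 F205139))
theorem Q58131 : ∀ i, i < 58131 → P i := stepQ 58130 Q58130 (allL N58130 (tt N40089 (iv1 F168906)) (tt N40088 F168904) (tt N30906 (iv2 D108901)) (tt N40071 F168902) (tt N92345 (iv4 F396779)) (tt N95020 D198074) (tt N95010 (iv6 F406635)) (tt N40090 F168903))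
theorem Q58132 : ∀ i, i < 58132 → P i := stepQ 58131 Q58131 (allL N58131 (tt N69710 F355996) (tt N69713 F372577) (tt N95020 (iv2 F406673)) (tt N30907 F168907) (tt N63462 (iv4 F354594)) (tt N30906 (iv5 D108902)) (tt N85354 (iv6 F372330)) (tt N40091 F168908))
theorem Q58133 : ∀ i, i < 58133 → P i := stepQ 58132 Q58132 (allL N58132 (tt N95021 D198075) (tt N35177 F364223) (tt N40074 F168909) (tt N85354 (iv3 F372329)) (tt N59514 (iv4 F173049)) (tt N95015 (iv5 F406647)) (tt N30907 (iv6 D108903)) (tt N95022 D198076))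
theorem Q58134 : ∀ i, i < 58134 → P i := stepQ 58133 Q58133 (allL N58133 (tt N35707 (iv1 F168910)) (tt N30908 (iv0 D108904)) (tt N35706 F397276) (tt N92532 (iv3 F397275)) (tt N95023 D198077) (tt N94788 (iv5 F405950)) (tt N95024 D198078) (tt N35705 F397277))
theorem Q58135 : ∀ i, i < 58135 → P i := stepQ 58134 Q58134 (allL N58134 (tt N30908 (iv1 D108905)) (tt N35707 F168915) (tt N35705 F397278) (tt N95025 D198079) (tt N94736 (iv4 F405744)) (tt N94789 (iv5 F405955)) (tt N32311 F397279) (tt N35706 F397280))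
theorem Q58136 : ∀ i, i < 58136 → P i := stepQ 58135 Q58135 (allL N58135 (tt N35706 (iv1 F168916)) (tt N35705 F168914) (tt N30908 (iv2 D108906)) (tt N35698 F168911) (tt N30918 F168912) (tt N95026 D198080) (tt N79544 (iv6 F365213)) (tt N35707 F168913))
theorem Q58137 : ∀ i, i < 58137 → P i := stepQ 58136 Q58136 (allL N58136 (tt N95027 D198081) (tt N95028 D198082) (tt N95026 (iv2 F406709)) (tt N30909 F168917) (tt N65666 (iv4 F360418)) (tt N30908 (iv5 D108907)) (tt N95029 D198083) (tt N35708 F168918))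
theorem Q58138 : ∀ i, i < 58138 → P i := stepQ 58137 Q58137 (allL N58137 (tt N95030 D198084) (tt N95031 D198085) (tt N79544 F365214) (tt N30910 F168919) (tt N30920 F168920) (tt N79543 (iv5 F365216)) (tt N30908 (iv6 D108908)) (tt N93613 (iv7 F401276)))
theorem Q58139 : ∀ i, i < 58139 → P i := stepQ 58138 Q58138 (allL N58138 (tt N93110 (iv1 F399522)) (tt N35685 F349550) (tt N35702 F168921) (tt N95029 (iv3 F406730)) (tt N65522 (iv4 F201946)) (tt N65498 F349546) (tt N30909 (iv6 D108909)) (tt N65631 (iv7 F349544)))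
theorem Q58140 : ∀ i, i < 58140 → P i := stepQ 58139 Q58139 (allL N58139 (tt N30910 (iv1 D108910)) (tt N35704 F168922) (tt N35672 (iv2 F168925)) (tt N55652 F332904) (tt N35581 F168924) (tt N55651 (iv5 F332903)) (tt N93868 (iv6 F402213)) (tt N35670 F168923))
theorem Q58141 : ∀ i, i < 58141 → P i := stepQ 58140 Q58140 (allL N58140 (tt N41519 F168927) (tt N93971 F402664) (tt N35703 F168926) (tt N79543 F365217) (tt N95032 D198086) (tt N30910 (iv5 D108911)) (tt N65498 (iv6 F349549)) (tt N93614 (iv7 F401279)))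
theorem Q58142 : ∀ i, i < 58142 → P i := stepQ 58141 Q58141 (allL N58141 (tt N56387 F168931) (tt N56839 (iv0 F168932)) (tt N57066 F168928) (tt N59840 (iv3 F174281)) (tt N95033 D198087) (tt N30911 (iv5 D108912)) (tt N56709 F168929) (tt N56398 F168930))
theorem Q58143 : ∀ i, i < 58143 → P i := stepQ 58142 Q58142 (allL N58142 (tt N70201 (iv1 F216948)) (tt N30913 (iv0 D108913)) (tt N70200 (iv2 F358638)) (tt N59383 F172787) (tt N65443 (iv4 F349852)) (tt N85300 (iv5 F372215)) (tt N65442 F349856) (tt N70199 (iv7 F358826)))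
theorem Q58144 : ∀ i, i < 58144 → P i := stepQ 58143 Q58143 (allL N58143 (tt N30913 (iv1 D108914)) (tt N70201 F216950) (tt N70199 F358827) (tt N95034 D198088) (tt N79282 F359844) (tt N95035 D198089) (tt N95036 D198090) (tt N70200 F358825))
theorem Q58145 : ∀ i, i < 58145 → P i := stepQ 58144 Q58144 (allL N58144 (tt N70200 (iv1 F216949)) (tt N70199 F216943) (tt N30913 (iv2 D108915)) (tt N72887 (iv3 F223513)) (tt N48343 F323078) (tt N85106 (iv5 F371653)) (tt N81217 F334613) (tt N70201 (iv7 F216947)))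
theorem Q58146 : ∀ i, i < 58146 → P i := stepQ 58145 Q58145 (allL N58145 (tt N72887 (iv1 F223516)) (tt N30915 (iv0 D108918)) (tt N72886 F223509) (tt N31194 (iv3 F170129)) (tt N95037 D198091) (tt N95038 D198092) (tt N79175 F365847) (tt N31215 F170132))
theorem Q58147 : ∀ i, i < 58147 → P i := stepQ 58146 Q58146 (allL N58146 (tt N30915 (iv1 D108919)) (tt N72887 F223517) (tt N31215 F223511) (tt N95039 D198093) (tt N95040 D198094) (tt N95041 D198095) (tt N95042 D198096) (tt N72886 F223512))
theorem Q58148 : ∀ i, i < 58148 → P i := stepQ 58147 Q58147 (allL N58147 (tt N72886 F223508) (tt N31215 F168935) (tt N30915 (iv2 D108920)) (tt N70201 (iv3 F216944)) (tt N59902 (iv4 F174559)) (tt N94875 (iv5 F406213)) (tt N59497 (iv6 F173032)) (tt N72887 (iv7 F223515)))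
theorem Q58149 : ∀ i, i < 58149 → P i := stepQ 58148 Q58148 (allL N58148 (tt N95039 F406765) (tt N31203 (iv0 F168938)) (tt N60580 (iv2 F204664)) (tt N30916 (iv3 D108922)) (tt N55655 F168937) (tt N85639 F373316) (tt N91588 (iv6 F393710)) (tt N60584 (iv7 F204631)))
theorem Q58150 : ∀ i, i < 58150 → P i := stepQ 58149 Q58149 (allL N58149 (tt N58304 F169124) (tt N65891 F202745) (tt N65659 (iv2 F204640)) (tt N67257 F343538) (tt N30916 (iv4 D108923)) (tt N95043 D198097) (tt N67255 F348809) (tt N65890 F204634))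
theorem Q58151 : ∀ i, i < 58151 → P i := stepQ 58150 Q58150 (allL N58150 (tt N78185 F348810) (tt N59669 F348811) (tt N39998 F348812) (tt N91588 (iv3 F393709)) (tt N67255 F348813) (tt N39995 F348814) (tt N30916 (iv6 D108925)) (tt N59500 F348815))
theorem Q58152 : ∀ i, i < 58152 → P i := stepQ 58151 Q58151 (allL N58151 (tt N59378 F172785) (tt N59383 F361215) (tt N93447 (iv2 F400764)) (tt N30917 (iv3 D108927)) (tt N95044 D198098) (tt N94861 (iv5 F406184)) (tt N59501 F348802) (tt N41207 F348803))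
theorem Q58153 : ∀ i, i < 58153 → P i := stepQ 58152 Q58152 (allL N58152 (tt N65891 (iv1 F202743)) (tt N58304 (iv0 F169125)) (tt N65890 F204641) (tt N59604 (iv3 F173215)) (tt N30917 (iv4 D108928)) (tt N95045 D198099) (tt N59502 F348806) (tt N65659 F204637))
theorem Q58154 : ∀ i, i < 58154 → P i := stepQ 58153 Q58153 (allL N58153 (tt N58004 (iv1 F386121)) (tt N58000 F386120) (tt N30919 F168941) (tt N94702 (iv3 F405596)) (tt N95046 D198100) (tt N30918 (iv5 D108931)) (tt N95047 D198101) (tt N94713 (iv7 F405637)))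
theorem Q58155 : ∀ i, i < 58155 → P i := stepQ 58154 Q58154 (allL N58154 (tt N93822 (iv1 F406814)) (tt N95048 D198103) (tt N30920 F168942) (tt N79178 (iv3 F365977)) (tt N79544 F365215) (tt N95049 D198104) (tt N30918 (iv6 D108932)) (tt N95050 D198105))
theorem Q58156 : ∀ i, i < 58156 → P i := stepQ 58155 Q58155 (allL N58155 (tt N94713 (iv1 F405639)) (tt N30919 (iv0 D108933)) (tt N58004 F219106) (tt N73132 F345625) (tt N59366 F219103) (tt N57882 (iv5 F219105)) (tt N73130 F355984) (tt N58000 (iv7 F219104)))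
theorem Q58157 : ∀ i, i < 58157 → P i := stepQ 58156 Q58156 (allL N58156 (tt N30919 (iv1 D108934)) (tt N94713 F405638) (tt N58000 F219109) (tt N95051 D198106) (tt N59602 F219110) (tt N57883 (iv5 F219108)) (tt N95052 D198107) (tt N58004 F219107))
theorem Q58158 : ∀ i, i < 58158 → P i := stepQ 58157 Q58157 (allL N58157 (tt N95053 D198108) (tt N95054 D198109) (tt N95046 (iv2 F406797)) (tt N59428 F172884) (tt N30919 (iv4 D108935)) (tt N59426 (iv5 F172885)) (tt N95055 D198110) (tt N94715 (iv7 F405644)))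
theorem Q58159 : ∀ i, i < 58159 → P i := stepQ 58158 Q58158 (allL N58158 (tt N95056 D198111) (tt N57091 F402321) (tt N95047 (iv2 F406800)) (tt N30923 F168943) (tt N95055 (iv4 F406860)) (tt N95057 D198112) (tt N30919 (iv6 D108936)) (tt N95058 D198113))
theorem Q58160 : ∀ i, i < 58160 → P i := stepQ 58159 Q58159 (allL N58159 (tt N95050 (iv1 F406842)) (tt N30920 (iv0 D108937)) (tt N93822 (iv2 F402074)) (tt N95059 D198114) (tt N81670 F365972) (tt N93821 F402075) (tt N95060 D198115) (tt N95048 (iv7 F406809)))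
theorem Q58161 : ∀ i, i < 58161 → P i := stepQ 58160 Q58160 (allL N58160 (tt N30920 (iv1 D108938)) (tt N95050 F406841) (tt N95048 (iv2 F406808)) (tt N57156 F402071) (tt N81669 (iv4 F365958)) (tt N57155 (iv5 F402072)) (tt N95061 D198116) (tt N93822 (iv7 F402073)))
theorem Q58162 : ∀ i, i < 58162 → P i := stepQ 58161 Q58161 (allL N58161 (tt N95062 D198117) (tt N95063 D198118) (tt N95049 (iv2 F406815)) (tt N30926 F168944) (tt N91629 (iv4 F393827)) (tt N30920 (iv5 D108939)) (tt N95057 (iv6 F406870)) (tt N91626 F393821))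
theorem Q58163 : ∀ i, i < 58163 → P i := stepQ 58162 Q58162 (allL N58162 (tt N95048 (iv1 F406806)) (tt N93822 (iv0 F402044)) (tt N95050 (iv2 F406839)) (tt N30927 F168945) (tt N93613 (iv4 F401274)) (tt N91626 (iv5 F393820)) (tt N94720 (iv6 F405662)) (tt N30920 (iv7 D108940)))
theorem Q58164 : ∀ i, i < 58164 → P i := stepQ 58163 Q58163 (allL N58163 (tt N85300 F372216) (tt N95035 (iv0 F406747)) (tt N95064 D198119) (tt N30921 (iv3 D108941)) (tt N89854 (iv4 F387736)) (tt N40321 F168946) (tt N62172 (iv6 F353304)) (tt N57991 F168947))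
theorem Q58165 : ∀ i, i < 58165 → P i := stepQ 58164 Q58164 (allL N58164 (tt N95038 F406759) (tt N95041 (iv0 F406775)) (tt N95065 D198120) (tt N30922 (iv3 D108943)) (tt N82861 (iv4 F341406)) (tt N40325 F168950) (tt N78435 F341405) (tt N57996 F168951))
theorem Q58166 : ∀ i, i < 58166 → P i := stepQ 58165 Q58165 (allL N58165 (tt N94706 (iv1 F405611)) (tt N30923 (iv0 D108945)) (tt N73511 (iv2 F406930)) (tt N95066 D198122) (tt N73442 (iv4 F406942)) (tt N95067 D198124) (tt N95068 D198125) (tt N73515 (iv7 F406928)))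
theorem Q58167 : ∀ i, i < 58167 → P i := stepQ 58166 Q58166 (allL N58166 (tt N30923 (iv1 D108946)) (tt N94706 F405610) (tt N73515 (iv2 F406927)) (tt N95069 D198127) (tt N73443 (iv4 F406945)) (tt N95070 D198129) (tt N93297 (iv6 F406926)) (tt N73511 (iv7 F406931)))
theorem Q58168 : ∀ i, i < 58168 → P i := stepQ 58167 Q58167 (allL N58167 (tt N95071 D198130) (tt N95072 D198131) (tt N94705 (iv2 F405605)) (tt N95057 (iv3 F406869)) (tt N95073 D198132) (tt N30923 (iv5 D108947)) (tt N30926 F168954) (tt N95074 D198133))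
theorem Q58169 : ∀ i, i < 58169 → P i := stepQ 58168 Q58168 (allL N58168 (tt N73515 (iv1 F405620)) (tt N73511 (iv0 F406932)) (tt N94706 (iv2 F405607)) (tt N95058 (iv3 F406885)) (tt N93311 (iv4 F400348)) (tt N95074 (iv5 F406955)) (tt N94660 F405411) (tt N30923 (iv7 D108948)))
theorem Q58170 : ∀ i, i < 58170 → P i := stepQ 58169 Q58169 (allL N58169 (tt N95075 D198134) (tt N95036 (iv0 F406749)) (tt N65077 F362196) (tt N30924 (iv3 D108950)) (tt N65075 (iv4 F345547)) (tt N93793 F401908) (tt N59553 (iv6 F173127)) (tt N65072 F362197))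
theorem Q58171 : ∀ i, i < 58171 → P i := stepQ 58170 Q58170 (allL N58170 (tt N73077 (iv1 F223773)) (tt N73074 (iv0 F223769)) (tt N94708 (iv2 F405616)) (tt N93793 (iv3 F401910)) (tt N95076 D198135) (tt N30924 (iv5 D108951)) (tt N95077 D198136) (tt N93812 (iv7 F402015)))
theorem Q58172 : ∀ i, i < 58172 → P i := stepQ 58171 Q58171 (allL N58171 (tt N79175 F365846) (tt N95078 D198137) (tt N95079 D198138) (tt N30925 (iv3 D108954)) (tt N58592 F365850) (tt N95080 D198139) (tt N95081 D198140) (tt N94707 (iv7 F405614)))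
theorem Q58173 : ∀ i, i < 58173 → P i := stepQ 58172 Q58172 (allL N58172 (tt N73074 (iv1 F223770)) (tt N73077 F225003) (tt N93812 (iv2 F402016)) (tt N95080 (iv3 F406967)) (tt N95082 D198141) (tt N30925 (iv5 D108956)) (tt N95083 D198142) (tt N94708 (iv7 F405617)))
theorem Q58174 : ∀ i, i < 58174 → P i := stepQ 58173 Q58173 (allL N58173 (tt N72950 (iv1 F336733)) (tt N59677 F202895) (tt N94520 (iv2 F404810)) (tt N95081 (iv3 F406971)) (tt N65928 (iv4 F202893)) (tt N44364 F336732) (tt N30925 (iv6 D108957)) (tt N59552 (iv7 F173126)))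
theorem Q58175 : ∀ i, i < 58175 → P i := stepQ 58174 Q58174 (allL N58174 (tt N94712 (iv1 F405634)) (tt N30926 (iv0 D108958)) (tt N94709 F405621) (tt N95084 D198143) (tt N95085 D198144) (tt N31642 F168958) (tt N95086 D198145) (tt N94710 (iv7 F405625)))
theorem Q58176 : ∀ i, i < 58176 → P i := stepQ 58175 Q58175 (allL N58175 (tt N30926 (iv1 D108959)) (tt N94712 F405633) (tt N94710 F405627) (tt N95087 D198146) (tt N95088 D198147) (tt N58110 (iv5 F168960)) (tt N95089 D198148) (tt N94709 F405622))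
theorem Q58177 : ∀ i, i < 58177 → P i := stepQ 58176 Q58176 (allL N58176 (tt N95090 D198149) (tt N95091 D198150) (tt N94711 (iv2 F405628)) (tt N74285 (iv3 F408007)) (tt N30926 (iv4 D108960)) (tt N95092 D198152) (tt N95073 (iv6 F406952)) (tt N95093 D198153))
theorem Q58178 : ∀ i, i < 58178 → P i := stepQ 58177 Q58177 (allL N58177 (tt N94710 (iv1 F405624)) (tt N94709 F405623) (tt N94712 (iv2 F405631)) (tt N91626 (iv3 F393817)) (tt N95093 (iv4 F407004)) (tt N30927 F168961) (tt N91625 F393815) (tt N30926 (iv7 D108961)))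
theorem Q58179 : ∀ i, i < 58179 → P i := stepQ 58178 Q58178 (allL N58178 (tt N93558 (iv1 F401133)) (tt N94748 (iv0 F405804)) (tt N57162 F351076) (tt N30929 (iv3 D108962)) (tt N59523 (iv4 F173059)) (tt N31528 F351077) (tt N59559 (iv6 F173137)) (tt N57171 F351078))
theorem Q58180 : ∀ i, i < 58180 → P i := stepQ 58179 Q58179 (allL N58179 (tt N73082 F223781) (tt N57048 (iv0 F331099)) (tt N59886 (iv2 F174474)) (tt N31528 F351098) (tt N92515 (iv4 F397205)) (tt N30929 (iv5 D108963)) (tt N95094 D198154) (tt N57170 F351099))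
theorem Q58181 : ∀ i, i < 58181 → P i := stepQ 58180 Q58180 (allL N58180 (tt N73049 (iv1 F223754)) (tt N73046 F223751) (tt N59887 (iv2 F174476)) (tt N89438 (iv3 F386517)) (tt N30930 (iv4 D108964)) (tt N56965 F363739) (tt N65408 (iv6 F341363)) (tt N72852 F223454))
theorem Q58182 : ∀ i, i < 58182 → P i := stepQ 58181 Q58181 (allL N58181 (tt N57048 (iv1 F331100)) (tt N73082 (iv0 F223780)) (tt N57170 F351093) (tt N79428 F351094) (tt N95095 D198155) (tt N30931 (iv5 D108966)) (tt N40404 F351095) (tt N59886 (iv7 F174475)))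
theorem Q58183 : ∀ i, i < 58183 → P i := stepQ 58182 Q58182 (allL N58182 (tt N95096 D198156) (tt N59666 (iv0 F203101)) (tt N78143 (iv2 F337418)) (tt N64936 (iv3 F360089)) (tt N30932 F168963) (tt N57747 (iv5 F339609)) (tt N30931 (iv6 D108967)) (tt N59558 (iv7 F173135)))
theorem Q58184 : ∀ i, i < 58184 → P i := stepQ 58183 Q58183 (allL N58183 (tt N93943 F402511) (tt N89080 (iv0 F385083)) (tt N95097 D198157) (tt N30933 (iv3 D108968)) (tt N41498 F168964) (tt N90543 (iv5 F390029)) (tt N39895 F168965) (tt N40409 F168966))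
theorem Q58185 : ∀ i, i < 58185 → P i := stepQ 58184 Q58184 (allL N58184 (tt N95098 D198158) (tt N93933 F402475) (tt N40413 F168967) (tt N90543 F390032) (tt N95099 D198159) (tt N30933 (iv5 D108969)) (tt N95100 D198160) (tt N40410 F168968))
theorem Q58186 : ∀ i, i < 58186 → P i := stepQ 58185 Q58185 (allL N58185 (tt N30939 (iv1 F168973)) (tt N30938 F168974) (tt N30941 F168969) (tt N32264 F168970) (tt N80058 (iv4 F363222)) (tt N39244 F168971) (tt N32241 F168972) (tt N30934 (iv7 D108970)))
theorem Q58187 : ∀ i, i < 58187 → P i := stepQ 58186 Q58186 (allL N58186 (tt N94026 (iv1 F402871)) (tt N30935 (iv0 D108971)) (tt N94025 F402866) (tt N82457 F366193) (tt N94758 (iv4 F405830)) (tt N57335 F330500) (tt N59527 (iv6 F402996)) (tt N94024 F402859))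
theorem Q58188 : ∀ i, i < 58188 → P i := stepQ 58187 Q58187 (allL N58187 (tt N30935 (iv1 D108972)) (tt N94026 F402872) (tt N94024 (iv2 F402858)) (tt N95101 D198161) (tt N94725 (iv4 F405684)) (tt N66369 F330501) (tt N76722 (iv6 F362662)) (tt N94025 (iv7 F402860)))
theorem Q58189 : ∀ i, i < 58189 → P i := stepQ 58188 Q58188 (allL N58188 (tt N94025 F402865) (tt N94024 F402856) (tt N30935 (iv2 D108973)) (tt N80057 (iv3 F360216)) (tt N30944 F168975) (tt N36004 F330499) (tt N80055 F360220) (tt N94026 (iv7 F402870)))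
theorem Q58190 : ∀ i, i < 58190 → P i := stepQ 58189 Q58189 (allL N58189 (tt N79768 F365733) (tt N81814 F378143) (tt N80055 (iv2 F360221)) (tt N30937 F168977) (tt N30946 F168978) (tt N36098 F330503) (tt N30935 (iv6 D108975)) (tt N95102 D198162))
theorem Q58191 : ∀ i, i < 58191 → P i := stepQ 58190 Q58190 (allL N58190 (tt N80058 (iv1 F363225)) (tt N30937 (iv0 D108977)) (tt N35780 (iv2 F202596)) (tt N80053 F325138) (tt N35771 F202597) (tt N69279 F351677) (tt N95103 D198163) (tt N35783 F202598))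
theorem Q58192 : ∀ i, i < 58192 → P i := stepQ 58191 Q58191 (allL N58191 (tt N30937 (iv1 D108978)) (tt N80058 F363224) (tt N35783 F202595) (tt N95104 D198164) (tt N35761 (iv4 F168980)) (tt N69278 (iv5 F351650)) (tt N35759 F168981) (tt N35780 (iv7 F202594)))
theorem Q58193 : ∀ i, i < 58193 → P i := stepQ 58192 Q58192 (allL N58192 (tt N60016 (iv1 F175219)) (tt N60011 (iv0 F175207)) (tt N94030 (iv2 F402888)) (tt N36098 F351668) (tt N95105 D198165) (tt N30937 (iv5 D108979)) (tt N36095 F351669) (tt N78601 (iv7 F351667)))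
theorem Q58194 : ∀ i, i < 58194 → P i := stepQ 58193 Q58193 (allL N58193 (tt N35783 F172746) (tt N35780 (iv0 F168983)) (tt N80058 (iv2 F363221)) (tt N95102 (iv3 F407047)) (tt N30941 F168982) (tt N78601 F351661) (tt N66033 F203144) (tt N30937 (iv7 D108980)))
theorem Q58195 : ∀ i, i < 58195 → P i := stepQ 58194 Q58194 (allL N58194 (tt N77917 F245300) (tt N77916 (iv0 F245294)) (tt N59926 (iv2 F174617)) (tt N32344 F168985) (tt N65876 (iv4 F202703)) (tt N58393 F169264) (tt N30938 (iv6 D108981)) (tt N79599 (iv7 F332164)))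
theorem Q58196 : ∀ i, i < 58196 → P i := stepQ 58195 Q58195 (allL N58195 (tt N30940 (iv1 D108982)) (tt N39244 F168986) (tt N39243 (iv2 F168990)) (tt N31823 F168989) (tt N37830 F168991) (tt N31821 (iv5 F168988)) (tt N95106 D198166) (tt N37326 F168987))
theorem Q58197 : ∀ i, i < 58197 → P i := stepQ 58196 Q58196 (allL N58196 (tt N60018 (iv1 F175225)) (tt N60012 (iv0 F175210)) (tt N39242 F168993) (tt N95107 D198167) (tt N30940 (iv4 D108983)) (tt N95108 D198168) (tt N32982 F168994) (tt N68925 (iv7 F211900)))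
theorem Q58198 : ∀ i, i < 58198 → P i := stepQ 58197 Q58197 (allL N58197 (tt N39243 (iv1 F168999)) (tt N37326 F169000) (tt N39244 F168995) (tt N30957 F168996) (tt N68925 (iv4 F211898)) (tt N30941 F168997) (tt N38462 F168998) (tt N30940 (iv7 D108984)))
theorem Q58199 : ∀ i, i < 58199 → P i := stepQ 58198 Q58198 (allL N58198 (tt N95034 (iv1 F406743)) (tt N89782 (iv0 F387537)) (tt N95109 D198169) (tt N30942 (iv3 D108986)) (tt N58242 F169049) (tt N94963 (iv5 F406526)) (tt N59536 F359286) (tt N94700 (iv7 F405587)))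
theorem Q58200 : ∀ i, i < 58200 → P i := stepQ 58199 Q58199 (allL N58199 (tt N71750 F325250) (tt N36138 F325251) (tt N59944 F174891) (tt N95110 D198170) (tt N30942 (iv4 D108987)) (tt N57329 F325252) (tt N59537 (iv6 F336501)) (tt N71749 F325253))
theorem Q58201 : ∀ i, i < 58201 → P i := stepQ 58200 Q58200 (allL N58200 (tt N31206 (iv1 F170133)) (tt N31194 (iv0 F170128)) (tt N31201 F170029) (tt N30943 (iv3 D108991)) (tt N46707 F323098) (tt N94554 (iv5 F404952)) (tt N95111 D198171) (tt N31202 (iv7 F170030)))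
theorem Q58202 : ∀ i, i < 58202 → P i := stepQ 58201 Q58201 (allL N58201 (tt N36138 F325254) (tt N71750 F325255) (tt N71749 F325256) (tt N31189 (iv3 F169003)) (tt N30943 (iv4 D108992)) (tt N62697 F325257) (tt N64014 (iv6 F341240)) (tt N59944 (iv7 F174890)))
theorem Q58203 : ∀ i, i < 58203 → P i := stepQ 58202 Q58202 (allL N58202 (tt N59675 (iv1 F359291)) (tt N95112 D198172) (tt N94701 (iv2 F405591)) (tt N95111 (iv3 F407091)) (tt N64014 F359290) (tt N95113 D198173) (tt N30943 (iv6 D108994)) (tt N59538 (iv7 F359289)))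
theorem Q58204 : ∀ i, i < 58204 → P i := stepQ 58203 Q58203 (allL N58203 (tt N58093 (iv1 F330498)) (tt N58089 (iv0 F344742)) (tt N30945 F169004) (tt N94713 (iv3 F405636)) (tt N67731 (iv4 F330984)) (tt N30944 (iv5 D108995)) (tt N95114 D198174) (tt N94702 (iv7 F405598)))
theorem Q58205 : ∀ i, i < 58205 → P i := stepQ 58204 Q58204 (allL N58204 (tt N34776 F327610) (tt N78434 F327611) (tt N30946 F169005) (tt N94714 (iv3 F405641)) (tt N80055 F327612) (tt N85500 (iv5 F372857)) (tt N30944 (iv6 D108996)) (tt N78433 F327613))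
theorem Q58206 : ∀ i, i < 58206 → P i := stepQ 58205 Q58205 (allL N58205 (tt N94702 (iv1 F405600)) (tt N30945 (iv0 D108997)) (tt N58093 (iv2 F359823)) (tt N89780 (iv3 F387527)) (tt N95115 D198175) (tt N57870 F359825) (tt N95116 D198176) (tt N58089 (iv7 F359824)))
theorem Q58207 : ∀ i, i < 58207 → P i := stepQ 58206 Q58206 (allL N58206 (tt N30945 (iv1 D108998)) (tt N94702 (iv0 F405599)) (tt N58089 F359819) (tt N81964 F359820) (tt N95117 D198177) (tt N57871 (iv5 F352236)) (tt N93290 F400292) (tt N58093 F359821))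
theorem Q58208 : ∀ i, i < 58208 → P i := stepQ 58207 Q58207 (allL N58207 (tt N95118 D198178) (tt N95119 D198179) (tt N67731 F330981) (tt N93291 (iv3 F400293)) (tt N30945 (iv4 D108999)) (tt N67528 (iv5 F330980)) (tt N95120 D198180) (tt N67527 F330982))
theorem Q58209 : ∀ i, i < 58209 → P i := stepQ 58208 Q58208 (allL N58208 (tt N89777 F400301) (tt N95121 D198181) (tt N95114 (iv2 F407104)) (tt N30947 F169006) (tt N95120 (iv4 F407123)) (tt N85511 (iv5 F372896)) (tt N30945 (iv6 D109000)) (tt N95122 D198182))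
theorem Q58210 : ∀ i, i < 58210 → P i := stepQ 58209 Q58209 (allL N58209 (tt N78433 F327604) (tt N30946 (iv0 D109001)) (tt N34776 F327605) (tt N46715 F327606) (tt N64078 F327607) (tt N82863 F333848) (tt N95123 D198183) (tt N78434 F327608))
theorem Q58211 : ∀ i, i < 58211 → P i := stepQ 58210 Q58210 (allL N58210 (tt N78434 F327462) (tt N34776 F327463) (tt N78433 F327464) (tt N30951 F169008) (tt N95102 (iv4 F407048)) (tt N84865 (iv5 F370905)) (tt N79177 F365974) (tt N30946 (iv7 D109004)))
theorem Q58212 : ∀ i, i < 58212 → P i := stepQ 58211 Q58211 (allL N58211 (tt N94660 (iv1 F405413)) (tt N30947 (iv0 D109005)) (tt N50355 (iv2 F351298)) (tt N95124 D198184) (tt N62348 F351299) (tt N95125 D198185) (tt N93309 F400347) (tt N94721 (iv7 F405664)))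
theorem Q58213 : ∀ i, i < 58213 → P i := stepQ 58212 Q58212 (allL N58212 (tt N30947 (iv1 D109006)) (tt N94660 (iv0 F405410)) (tt N94721 F405666) (tt N50112 (iv3 F351291)) (tt N62349 F351285) (tt N89779 (iv5 F387519)) (tt N95126 D198186) (tt N50355 (iv7 F351295)))
theorem Q58214 : ∀ i, i < 58214 → P i := stepQ 58213 Q58213 (allL N58213 (tt N94721 (iv1 F405663)) (tt N50355 F405412) (tt N94660 (iv2 F405408)) (tt N95122 (iv3 F407124)) (tt N93300 (iv4 F400307)) (tt N57779 F351303) (tt N94706 (iv6 F405608)) (tt N30947 (iv7 D109008)))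
theorem Q58215 : ∀ i, i < 58215 → P i := stepQ 58214 Q58214 (allL N58214 (tt N46708 F327461) (tt N95042 F406784) (tt N82520 (iv2 F365753)) (tt N30948 (iv3 D109010)) (tt N59919 (iv4 F174602)) (tt N95127 D198187) (tt N95128 D198188) (tt N94723 (iv7 F405675)))
theorem Q58216 : ∀ i, i < 58216 → P i := stepQ 58215 Q58215 (allL N58215 (tt N56217 (iv1 F169934)) (tt N38690 (iv0 F169931)) (tt N45638 F327421) (tt N35678 (iv3 F174551)) (tt N30948 (iv4 D109011)) (tt N52924 (iv5 F327631)) (tt N72921 (iv6 F223595)) (tt N56216 (iv7 F171890)))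
theorem Q58217 : ∀ i, i < 58217 → P i := stepQ 58216 Q58216 (allL N58216 (tt N57827 (iv1 F343097)) (tt N49455 (iv0 F327458)) (tt N59450 F172902) (tt N95127 (iv3 F407143)) (tt N52765 (iv4 F343094)) (tt N30948 (iv5 D109012)) (tt N95129 D198189) (tt N59451 (iv7 F172904)))
theorem Q58218 : ∀ i, i < 58218 → P i := stepQ 58217 Q58217 (allL N58217 (tt N59671 (iv1 F406562)) (tt N95130 D198190) (tt N94722 (iv2 F405668)) (tt N95128 (iv3 F407147)) (tt N72921 F223596) (tt N94695 F405569) (tt N30948 (iv6 D109013)) (tt N59522 (iv7 F173055)))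
theorem Q58219 : ∀ i, i < 58219 → P i := stepQ 58218 Q58218 (allL N58218 (tt N49455 (iv1 F327459)) (tt N57827 (iv0 F343096)) (tt N59451 F172906) (tt N82518 F365751) (tt N52766 F336755) (tt N30949 (iv5 D109016)) (tt N95131 D198191) (tt N59450 F172903))
theorem Q58220 : ∀ i, i < 58220 → P i := stepQ 58219 Q58219 (allL N58219 (tt N86396 (iv1 F376093)) (tt N30950 (iv0 D109017)) (tt N86398 F376103) (tt N95132 D198192) (tt N83374 (iv4 F362812)) (tt N31655 (iv5 F172612)) (tt N95133 D198193) (tt N86397 F376098))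
theorem Q58221 : ∀ i, i < 58221 → P i := stepQ 58220 Q58220 (allL N58220 (tt N30950 (iv1 D109018)) (tt N86396 (iv0 F376092)) (tt N86397 F376097) (tt N82428 (iv3 F362335)) (tt N83375 (iv4 F343087)) (tt N31654 F169012) (tt N94650 (iv6 F405367)) (tt N86398 (iv7 F376100)))
theorem Q58222 : ∀ i, i < 58222 → P i := stepQ 58221 Q58221 (allL N58221 (tt N57746 (iv1 F336670)) (tt N65548 (iv0 F201994)) (tt N78140 (iv2 F360783)) (tt N40365 F341326) (tt N49453 F326225) (tt N30952 (iv5 D109022)) (tt N40363 F341327) (tt N59935 (iv7 F174720)))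
theorem Q58223 : ∀ i, i < 58223 → P i := stepQ 58222 Q58222 (allL N58222 (tt N59664 (iv1 F223583)) (tt N95134 D198194) (tt N94724 (iv2 F405678)) (tt N40366 F341356) (tt N30953 F169015) (tt N40364 F341357) (tt N30952 (iv6 D109023)) (tt N59526 (iv7 F173072)))
theorem Q58224 : ∀ i, i < 58224 → P i := stepQ 58223 Q58223 (allL N58223 (tt N30953 (iv1 D109024)) (tt N40080 F169016) (tt N39936 F169020) (tt N77916 (iv3 F245291)) (tt N95130 (iv4 F407159)) (tt N31545 (iv5 F169018)) (tt N40724 (iv6 F169019)) (tt N31011 F169017))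
theorem Q58225 : ∀ i, i < 58225 → P i := stepQ 58224 Q58224 (allL N58224 (tt N82438 F327467) (tt N82437 F327468) (tt N48395 F327469) (tt N30954 (iv3 D109025)) (tt N59559 (iv4 F173136)) (tt N95135 D198195) (tt N59523 (iv6 F173060)) (tt N82439 F327470))
theorem Q58226 : ∀ i, i < 58226 → P i := stepQ 58225 Q58225 (allL N58225 (tt N65548 F201995) (tt N57746 (iv0 F351112)) (tt N59935 (iv2 F174719)) (tt N95135 (iv3 F407184)) (tt N49454 F351113) (tt N30954 (iv5 D109026)) (tt N82447 F351108) (tt N78140 (iv7 F360784)))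
theorem Q58227 : ∀ i, i < 58227 → P i := stepQ 58226 Q58226 (allL N58226 (tt N38836 F169028) (tt N38832 (iv0 F169029)) (tt N37362 F169024) (tt N58037 F169025) (tt N52920 (iv4 F341434)) (tt N58037 F169026) (tt N30955 (iv6 D109028)) (tt N58037 F169027))
theorem Q58228 : ∀ i, i < 58228 → P i := stepQ 58227 Q58227 (allL N58227 (tt N38455 (iv1 F169039)) (tt N30956 (iv0 D109029)) (tt N38453 (iv2 F170717)) (tt N80681 F327600) (tt N58942 (iv4 F171510)) (tt N46698 F327601) (tt N59561 F173141) (tt N38454 F170718))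
theorem Q58229 : ∀ i, i < 58229 → P i := stepQ 58228 Q58228 (allL N58228 (tt N30956 (iv1 D109030)) (tt N38455 F169030) (tt N38454 F170716) (tt N95136 D198196) (tt N36909 F169031) (tt N46699 F343089) (tt N95137 D198197) (tt N38453 (iv7 F170715)))
theorem Q58230 : ∀ i, i < 58230 → P i := stepQ 58229 Q58229 (allL N58229 (tt N82769 (iv1 F362416)) (tt N82768 (iv0 F344362)) (tt N51597 (iv2 F344364)) (tt N30956 (iv3 D109031)) (tt N95107 (iv4 F407073)) (tt N55600 F344363) (tt N38408 F169034) (tt N82767 F344366))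
theorem Q58231 : ∀ i, i < 58231 → P i := stepQ 58230 Q58230 (allL N58230 (tt N38454 (iv1 F169040)) (tt N38453 (iv0 F169041)) (tt N38455 F169036) (tt N82767 F336761) (tt N30957 F169037) (tt N50006 (iv5 F336760)) (tt N38479 F169038) (tt N30956 (iv7 D109033)))
theorem Q58232 : ∀ i, i < 58232 → P i := stepQ 58231 Q58231 (allL N58231 (tt N30983 F405755) (tt N95138 D198198) (tt N95023 (iv2 F406693)) (tt N30958 (iv3 D109035)) (tt N35706 F169043) (tt N67090 (iv5 F355977)) (tt N67065 F355975) (tt N94736 F405747))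
theorem Q58233 : ∀ i, i < 58233 → P i := stepQ 58232 Q58232 (allL N58232 (tt N87793 (iv1 F380525)) (tt N95139 D198199) (tt N94740 (iv2 F405767)) (tt N95140 D198200) (tt N30958 (iv4 D109036)) (tt N95141 D198201) (tt N95142 D198202) (tt N94737 (iv7 F405758)))
theorem Q58234 : ∀ i, i < 58234 → P i := stepQ 58233 Q58233 (allL N58233 (tt N89765 (iv1 F387478)) (tt N30992 F373142) (tt N94741 (iv2 F405777)) (tt N67090 F355978) (tt N88980 (iv4 F384635)) (tt N30958 (iv5 D109037)) (tt N67089 (iv6 F355979)) (tt N94738 (iv7 F405763)))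
theorem Q58235 : ∀ i, i < 58235 → P i := stepQ 58234 Q58234 (allL N58234 (tt N95143 D198203) (tt N59663 (iv0 F355981)) (tt N94742 (iv2 F405782)) (tt N67065 (iv3 F355976)) (tt N95142 (iv4 F407214)) (tt N67064 F355980) (tt N30958 (iv6 D109038)) (tt N59569 F378717))
theorem Q58236 : ∀ i, i < 58236 → P i := stepQ 58235 Q58235 (allL N58235 (tt N94750 F405812) (tt N94753 F405818) (tt N94749 (iv2 F405808)) (tt N30959 (iv3 D109040)) (tt N95144 D198204) (tt N95145 D198205) (tt N59570 (iv6 F378716)) (tt N94739 (iv7 F405766)))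
theorem Q58237 : ∀ i, i < 58237 → P i := stepQ 58236 Q58236 (allL N58236 (tt N95139 (iv1 F407201)) (tt N87793 (iv0 F380526)) (tt N94737 (iv2 F405757)) (tt N58624 (iv3 F169851)) (tt N30959 (iv4 D109041)) (tt N95146 D198206) (tt N59571 (iv6 F378713)) (tt N94740 (iv7 F405768)))
theorem Q58238 : ∀ i, i < 58238 → P i := stepQ 58237 Q58237 (allL N58237 (tt N30992 F387469) (tt N89765 F387468) (tt N94738 (iv2 F405762)) (tt N95145 (iv3 F407224)) (tt N88978 F384651) (tt N30959 (iv5 D109042)) (tt N95147 D198207) (tt N94741 (iv7 F405778)))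
theorem Q58239 : ∀ i, i < 58239 → P i := stepQ 58238 Q58238 (allL N58238 (tt N77791 (iv1 F244981)) (tt N59884 F174395) (tt N30961 F169045) (tt N77787 (iv3 F244965)) (tt N30960 (iv4 D109044)) (tt N85575 (iv5 F373095)) (tt N90664 (iv6 F390451)) (tt N77792 (iv7 F244979)))
theorem Q58240 : ∀ i, i < 58240 → P i := stepQ 58239 Q58239 (allL N58239 (tt N85399 (iv1 F372495)) (tt N85398 F372492) (tt N30962 F169046) (tt N94729 (iv3 F405703)) (tt N84860 (iv4 F370879)) (tt N30960 (iv5 D109045)) (tt N85254 (iv6 F372048)) (tt N84857 (iv7 F370871)))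
theorem Q58241 : ∀ i, i < 58241 → P i := stepQ 58240 Q58240 (allL N58240 (tt N95148 D198208) (tt N95149 D198209) (tt N30963 F169047) (tt N81724 F365117) (tt N90664 F390452) (tt N81723 (iv5 F365120)) (tt N30960 (iv6 D109046)) (tt N95150 D198210))
theorem Q58242 : ∀ i, i < 58242 → P i := stepQ 58241 Q58241 (allL N58241 (tt N77792 (iv1 F244980)) (tt N30961 (iv0 D109047)) (tt N77791 F244982) (tt N31180 F169048) (tt N58683 (iv4 F170306)) (tt N95151 D198211) (tt N95152 D198212) (tt N59884 (iv7 F174393)))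
theorem Q58243 : ∀ i, i < 58243 → P i := stepQ 58242 Q58242 (allL N58242 (tt N30961 (iv1 D109048)) (tt N77792 F244986) (tt N59884 (iv2 F244984)) (tt N66695 F244985) (tt N58198 (iv4 F169049)) (tt N90782 (iv5 F390826)) (tt N59577 (iv6 F359284)) (tt N77791 F244983))
theorem Q58244 : ∀ i, i < 58244 → P i := stepQ 58243 Q58243 (allL N58243 (tt N53854 F353328) (tt N66691 (iv0 F225649)) (tt N85575 (iv2 F373094)) (tt N39596 F169050) (tt N49685 F353331) (tt N30961 (iv5 D109049)) (tt N49684 (iv6 F353329)) (tt N77793 (iv7 F244989)))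
theorem Q58245 : ∀ i, i < 58245 → P i := stepQ 58244 Q58244 (allL N58244 (tt N78484 F365964) (tt N95153 D198213) (tt N90664 (iv2 F390450)) (tt N44149 F169051) (tt N30963 F169052) (tt N89237 (iv5 F385723)) (tt N30961 (iv6 D109050)) (tt N95154 D198214))
theorem Q58246 : ∀ i, i < 58246 → P i := stepQ 58245 Q58245 (allL N58245 (tt N84857 (iv1 F370874)) (tt N30962 (iv0 D109051)) (tt N85399 F372497) (tt N95155 D198215) (tt N88982 (iv4 F384649)) (tt N72854 (iv5 F378262)) (tt N73434 (iv6 F370875)) (tt N85398 F372494))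
theorem Q58247 : ∀ i, i < 58247 → P i := stepQ 58246 Q58246 (allL N58246 (tt N30962 (iv1 D109052)) (tt N84857 F370872) (tt N85398 F372493) (tt N95156 D198216) (tt N88981 (iv4 F384638)) (tt N72855 (iv5 F378260)) (tt N82419 F370873) (tt N85399 (iv7 F372496)))
theorem Q58248 : ∀ i, i < 58248 → P i := stepQ 58247 Q58247 (allL N58247 (tt N85253 (iv1 F372045)) (tt N85252 F372049) (tt N85254 (iv2 F372046)) (tt N30967 F169054) (tt N55331 (iv4 F331083)) (tt N95157 D198217) (tt N30962 (iv6 D109054)) (tt N55328 F331082))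
theorem Q58249 : ∀ i, i < 58249 → P i := stepQ 58248 Q58248 (allL N58248 (tt N95150 (iv1 F407237)) (tt N30963 (iv0 D109055)) (tt N95148 (iv2 F411335)) (tt N95158 D198219) (tt N71593 (iv4 F407246)) (tt N95159 D198220) (tt N95160 D198221) (tt N95149 (iv7 F411340)))
theorem Q58250 : ∀ i, i < 58250 → P i := stepQ 58249 Q58249 (allL N58249 (tt N30963 (iv1 D109056)) (tt N95150 F407236) (tt N95149 (iv2 F411339)) (tt N95161 D198223) (tt N95162 D198224) (tt N95163 D198225) (tt N95164 D198226) (tt N95148 (iv7 F411338)))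
theorem Q58251 : ∀ i, i < 58251 → P i := stepQ 58250 Q58250 (allL N58250 (tt N95165 D198227) (tt N71688 (iv0 F455552)) (tt N81723 F365121) (tt N30968 F169055) (tt N95166 D198229) (tt N30963 (iv5 D109057)) (tt N95157 (iv6 F407261)) (tt N95167 D198230))
theorem Q58252 : ∀ i, i < 58252 → P i := stepQ 58251 Q58251 (allL N58251 (tt N95149 (iv1 F407233)) (tt N95148 F407235) (tt N95150 (iv2 F407234)) (tt N30969 F169056) (tt N95154 (iv4 F407252)) (tt N95167 (iv5 F407282)) (tt N94745 (iv6 F405789)) (tt N30963 (iv7 D109058)))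
theorem Q58253 : ∀ i, i < 58253 → P i := stepQ 58252 Q58252 (allL N58252 (tt N35819 (iv1 F169061)) (tt N30964 (iv0 D109059)) (tt N35816 (iv2 F202524)) (tt N58591 (iv3 F169723)) (tt N57898 F169057) (tt N95168 D198231) (tt N59616 F173233) (tt N35817 (iv7 F202519)))
theorem Q58254 : ∀ i, i < 58254 → P i := stepQ 58253 Q58253 (allL N58253 (tt N35817 (iv1 F169062)) (tt N35816 (iv0 F169063)) (tt N35819 F169058) (tt N92672 (iv3 F397832)) (tt N30969 F169059) (tt N40399 F169060) (tt N70204 (iv6 F216960)) (tt N30964 (iv7 D109060)))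
theorem Q58255 : ∀ i, i < 58255 → P i := stepQ 58254 Q58254 (allL N58254 (tt N61201 F339986) (tt N94747 (iv0 F405796)) (tt N94757 F405824) (tt N30965 (iv3 D109061)) (tt N42946 F363672) (tt N57869 F169064) (tt N40370 F336702) (tt N57978 F169065))
theorem Q58256 : ∀ i, i < 58256 → P i := stepQ 58255 Q58255 (allL N58255 (tt N30981 F169607) (tt N30984 F169608) (tt N82447 F351107) (tt N30966 (iv3 D109063)) (tt N86272 (iv4 F375633)) (tt N31828 F169067) (tt N59935 F360006) (tt N57987 F169068))
theorem Q58257 : ∀ i, i < 58257 → P i := stepQ 58256 Q58256 (allL N58256 (tt N77092 (iv1 F331091)) (tt N30967 (iv0 D109065)) (tt N94733 F405719) (tt N57060 (iv3 F351238)) (tt N93308 (iv4 F402322)) (tt N57052 F351237) (tt N95169 D198232) (tt N57051 (iv7 F351239)))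
theorem Q58258 : ∀ i, i < 58258 → P i := stepQ 58257 Q58257 (allL N58257 (tt N30967 (iv1 D109066)) (tt N77092 F331095) (tt N57051 (iv2 F331097)) (tt N95170 D198233) (tt N93309 (iv4 F400344)) (tt N57049 F331096) (tt N62348 (iv6 F342495)) (tt N94733 (iv7 F405721)))
theorem Q58259 : ∀ i, i < 58259 → P i := stepQ 58258 Q58258 (allL N58258 (tt N73034 (iv1 F360103)) (tt N73030 (iv0 F363349)) (tt N77093 F331108) (tt N95157 (iv3 F407260)) (tt N95171 D198234) (tt N30967 (iv5 D109067)) (tt N30968 F169070) (tt N77091 (iv7 F331107)))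
theorem Q58260 : ∀ i, i < 58260 → P i := stepQ 58259 Q58259 (allL N58259 (tt N57051 (iv1 F331116)) (tt N94733 F405720) (tt N77092 F331081) (tt N55328 (iv3 F331080)) (tt N40704 F169071) (tt N77091 (iv5 F331089)) (tt N55327 F331079) (tt N30967 (iv7 D109068)))
theorem Q58261 : ∀ i, i < 58261 → P i := stepQ 58260 Q58260 (allL N58260 (tt N77123 (iv1 F331125)) (tt N30968 (iv0 D109069)) (tt N40422 (iv2 F169073)) (tt N57173 F360134) (tt N95090 (iv4 F406984)) (tt N31633 F169072) (tt N74559 (iv6 F360133)) (tt N94734 (iv7 F405724)))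
theorem Q58262 : ∀ i, i < 58262 → P i := stepQ 58261 Q58261 (allL N58261 (tt N30968 (iv1 D109070)) (tt N77123 (iv0 F331124)) (tt N94734 (iv2 F405727)) (tt N79422 (iv3 F365959)) (tt N95091 (iv4 F406993)) (tt N40423 (iv5 F169075)) (tt N95172 D198235) (tt N40422 F169074))
theorem Q58263 : ∀ i, i < 58263 → P i := stepQ 58262 Q58262 (allL N58262 (tt N95173 D198236) (tt N95174 D198237) (tt N94735 (iv2 F405741)) (tt N56954 F364959) (tt N30968 (iv4 D109071)) (tt N56952 (iv5 F364958)) (tt N95171 (iv6 F407298)) (tt N95175 D198238))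
theorem Q58264 : ∀ i, i < 58264 → P i := stepQ 58263 Q58263 (allL N58263 (tt N94734 (iv1 F405723)) (tt N40422 F175464) (tt N77123 (iv2 F331106)) (tt N95167 (iv3 F407281)) (tt N95175 (iv4 F407312)) (tt N30969 F169076) (tt N65918 F331105) (tt N30968 (iv7 D109072)))
theorem Q58265 : ∀ i, i < 58265 → P i := stepQ 58264 Q58264 (allL N58264 (tt N94746 F405792) (tt N66464 (iv0 F402864)) (tt N94758 F405831) (tt N30970 (iv3 D109074)) (tt N94025 F402862) (tt N95176 D198239) (tt N59594 F363308) (tt N94725 (iv7 F405683)))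
theorem Q58266 : ∀ i, i < 58266 → P i := stepQ 58265 Q58265 (allL N58265 (tt N81749 (iv1 F358845)) (tt N35855 (iv0 F176632)) (tt N60553 (iv2 F358836)) (tt N92679 F397861) (tt N30970 (iv4 D109075)) (tt N95177 D198240) (tt N59595 F363309) (tt N94726 (iv7 F405688)))
theorem Q58267 : ∀ i, i < 58267 → P i := stepQ 58266 Q58266 (allL N58266 (tt N94775 (iv1 F405884)) (tt N30994 F373318) (tt N94728 (iv2 F405695)) (tt N95176 (iv3 F407316)) (tt N83111 (iv4 F359812)) (tt N30970 (iv5 D109076)) (tt N83110 (iv6 F359813)) (tt N83143 F352258))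
theorem Q58268 : ∀ i, i < 58268 → P i := stepQ 58267 Q58267 (allL N58267 (tt N82442 (iv1 F358833)) (tt N30980 F358832) (tt N82444 F366137) (tt N30971 (iv3 D109079)) (tt N80963 (iv4 F358828)) (tt N95178 D198241) (tt N80962 F358875) (tt N82443 F366134))
theorem Q58269 : ∀ i, i < 58269 → P i := stepQ 58268 Q58268 (allL N58268 (tt N35855 F358834) (tt N81749 (iv0 F353617)) (tt N94726 (iv2 F405687)) (tt N35835 (iv3 F169079)) (tt N30971 (iv4 D109080)) (tt N95179 D198242) (tt N95180 D198243) (tt N60553 F352261))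
theorem Q58270 : ∀ i, i < 58270 → P i := stepQ 58269 Q58269 (allL N58269 (tt N30994 F204656) (tt N94775 F405885) (tt N83143 F352253) (tt N95178 (iv3 F407322)) (tt N50634 F352254) (tt N30971 (iv5 D109081)) (tt N50633 (iv6 F352251)) (tt N94728 (iv7 F405696)))
theorem Q58271 : ∀ i, i < 58271 → P i := stepQ 58270 Q58270 (allL N58270 (tt N59665 F358877) (tt N95181 D198244) (tt N94727 (iv2 F405691)) (tt N80962 (iv3 F358876)) (tt N95180 (iv4 F407328)) (tt N55284 F352255) (tt N30971 (iv6 D109082)) (tt N59600 (iv7 F363311)))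
theorem Q58272 : ∀ i, i < 58272 → P i := stepQ 58271 Q58271 (allL N58271 (tt N72907 (iv1 F358909)) (tt N72903 F358908) (tt N30973 F169080) (tt N84857 (iv3 F370868)) (tt N95182 D198245) (tt N30972 (iv5 D109083)) (tt N84856 F370866) (tt N94729 (iv7 F405704)))
theorem Q58273 : ∀ i, i < 58273 → P i := stepQ 58272 Q58272 (allL N58272 (tt N82440 F395648) (tt N95183 D198246) (tt N30974 F169081) (tt N85257 (iv3 F372051)) (tt N92076 (iv4 F395646)) (tt N85247 (iv5 F372039)) (tt N30972 (iv6 D109084)) (tt N95184 D198247))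
theorem Q58274 : ∀ i, i < 58274 → P i := stepQ 58273 Q58273 (allL N58273 (tt N94729 (iv1 F405705)) (tt N30973 (iv0 D109085)) (tt N72907 (iv2 F358905)) (tt N95185 D198248) (tt N95186 D198249) (tt N60695 F358906) (tt N95187 D198250) (tt N72903 F358907))
theorem Q58275 : ∀ i, i < 58275 → P i := stepQ 58274 Q58274 (allL N58274 (tt N30973 (iv1 D109086)) (tt N94729 (iv0 F405706)) (tt N72903 (iv2 F352248)) (tt N95188 D198251) (tt N95189 D198252) (tt N60696 (iv5 F203751)) (tt N40378 F345106) (tt N72907 (iv7 F358901)))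
theorem Q58276 : ∀ i, i < 58276 → P i := stepQ 58275 Q58275 (allL N58275 (tt N95190 D198253) (tt N66412 (iv0 F345629)) (tt N95182 (iv2 F407331)) (tt N93268 (iv3 F400212)) (tt N30973 (iv4 D109087)) (tt N58985 (iv5 F171679)) (tt N95191 D198254) (tt N94730 (iv7 F405709)))
theorem Q58277 : ∀ i, i < 58277 → P i := stepQ 58276 Q58276 (allL N58276 (tt N85245 (iv1 F372034)) (tt N84841 (iv0 F370819)) (tt N84856 (iv2 F370861)) (tt N30975 F169082) (tt N95191 (iv4 F407361)) (tt N77130 F331133) (tt N30973 (iv6 D109088)) (tt N77097 (iv7 F331132)))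
theorem Q58278 : ∀ i, i < 58278 → P i := stepQ 58277 Q58277 (allL N58277 (tt N95184 (iv1 F407340)) (tt N30974 (iv0 D109089)) (tt N82440 (iv2 F346874)) (tt N95192 D198255) (tt N79667 F346875) (tt N95193 D198256) (tt N95194 D198257) (tt N95183 (iv7 F407335)))
theorem Q58279 : ∀ i, i < 58279 → P i := stepQ 58278 Q58278 (allL N58278 (tt N30974 (iv1 D109090)) (tt N95184 F407339) (tt N95183 F407337) (tt N48396 F346871) (tt N79668 F346872) (tt N95195 D198258) (tt N80974 (iv6 F346876)) (tt N82440 F346873))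
theorem Q58280 : ∀ i, i < 58280 → P i := stepQ 58279 Q58279 (allL N58279 (tt N95196 D198259) (tt N95197 D198260) (tt N85247 (iv2 F372037)) (tt N30976 F169083) (tt N95198 D198261) (tt N30974 (iv5 D109091)) (tt N77130 F365129) (tt N77131 (iv7 F365128)))
theorem Q58281 : ∀ i, i < 58281 → P i := stepQ 58280 Q58280 (allL N58280 (tt N95183 (iv1 F407334)) (tt N82440 (iv0 F365125)) (tt N95184 (iv2 F407338)) (tt N30977 F169084) (tt N81745 F365123) (tt N77131 F365127) (tt N77133 (iv6 F365126)) (tt N30974 (iv7 D109092)))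
theorem Q58282 : ∀ i, i < 58282 → P i := stepQ 58281 Q58281 (allL N58281 (tt N55327 (iv1 F365131)) (tt N30975 (iv0 D109093)) (tt N73517 (iv2 F362687)) (tt N95199 D198262) (tt N93297 (iv4 F400305)) (tt N95199 F407378) (tt N73443 (iv6 F406946)) (tt N85397 (iv7 F372489)))
theorem Q58283 : ∀ i, i < 58283 → P i := stepQ 58282 Q58282 (allL N58282 (tt N30975 (iv1 D109094)) (tt N55327 (iv0 F360004)) (tt N85397 F372490) (tt N42941 F360002) (tt N93298 (iv4 F400300)) (tt N92971 (iv5 F398966)) (tt N82424 (iv6 F351230)) (tt N73517 F362686))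
theorem Q58284 : ∀ i, i < 58284 → P i := stepQ 58283 Q58283 (allL N58283 (tt N70152 (iv1 F349734)) (tt N44617 F349732) (tt N70240 F351310) (tt N77130 (iv3 F331128)) (tt N94559 (iv4 F404964)) (tt N30975 (iv5 D109095)) (tt N30976 F169085) (tt N70239 (iv7 F342492)))
theorem Q58285 : ∀ i, i < 58285 → P i := stepQ 58284 Q58284 (allL N58284 (tt N85397 (iv1 F372488)) (tt N73517 (iv0 F362682)) (tt N55327 (iv2 F331131)) (tt N77097 F331130) (tt N85655 (iv4 F373414)) (tt N70239 (iv5 F342490)) (tt N77092 F331094) (tt N30975 (iv7 D109096)))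
theorem Q58286 : ∀ i, i < 58286 → P i := stepQ 58285 Q58285 (allL N58285 (tt N85533 (iv1 F372969)) (tt N30976 (iv0 D109097)) (tt N83911 (iv2 F367465)) (tt N48309 F326774) (tt N50062 F326775) (tt N31659 F169086) (tt N95200 D198263) (tt N58484 (iv7 F169456)))
theorem Q58287 : ∀ i, i < 58287 → P i := stepQ 58286 Q58286 (allL N58286 (tt N30976 (iv1 D109098)) (tt N85533 (iv0 F372968)) (tt N58484 (iv2 F169455)) (tt N95201 D198264) (tt N50063 (iv4 F336756)) (tt N31658 (iv5 F169087)) (tt N94502 (iv6 F404726)) (tt N83911 (iv7 F367467)))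
theorem Q58288 : ∀ i, i < 58288 → P i := stepQ 58287 Q58287 (allL N58287 (tt N52763 F336754) (tt N52761 F336757) (tt N49090 F336758) (tt N85527 (iv3 F372944)) (tt N30976 (iv4 D109099)) (tt N49083 F336759) (tt N94559 F404965) (tt N85532 (iv7 F372962)))
theorem Q58289 : ∀ i, i < 58289 → P i := stepQ 58288 Q58288 (allL N58288 (tt N58484 (iv1 F169458)) (tt N83911 (iv0 F367468)) (tt N85533 (iv2 F372965)) (tt N77131 F331126) (tt N85532 (iv4 F372961)) (tt N30977 F169088) (tt N77122 (iv6 F331123)) (tt N30976 (iv7 D109100)))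
theorem Q58290 : ∀ i, i < 58290 → P i := stepQ 58289 Q58289 (allL N58289 (tt N30987 (iv1 F169091)) (tt N30986 F169092) (tt N30990 F169089) (tt N93355 (iv3 F400503)) (tt N95202 D198265) (tt N30978 (iv5 D109101)) (tt N93427 (iv6 F400703)) (tt N30985 F169090))
theorem Q58291 : ∀ i, i < 58291 → P i := stepQ 58290 Q58290 (allL N58290 (tt N95023 F406697) (tt N94736 (iv0 F405749)) (tt N95138 (iv2 F407199)) (tt N30979 (iv3 D109105)) (tt N35788 F169974) (tt N95203 D198266) (tt N95204 D198267) (tt N30983 F169097))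
theorem Q58292 : ∀ i, i < 58292 → P i := stepQ 58291 Q58291 (allL N58291 (tt N57987 F170959) (tt N82447 F351110) (tt N30981 F169101) (tt N95203 (iv3 F407399)) (tt N95205 D198268) (tt N30979 (iv5 D109107)) (tt N95206 D198269) (tt N30984 F169102))
theorem Q58293 : ∀ i, i < 58293 → P i := stepQ 58292 Q58292 (allL N58292 (tt N35269 F324493) (tt N35268 F324494) (tt N30982 F169103) (tt N95204 (iv3 F407402)) (tt N35211 F324495) (tt N95207 D198270) (tt N30979 (iv6 D109108)) (tt N35249 F324496))
theorem Q58294 : ∀ i, i < 58294 → P i := stepQ 58293 Q58293 (allL N58293 (tt N30980 (iv1 D109110)) (tt N82442 (iv0 F359055)) (tt N82443 (iv2 F366135)) (tt N94758 (iv3 F405832)) (tt N82456 (iv4 F359054)) (tt N95208 D198271) (tt N59622 (iv6 F409271)) (tt N82444 (iv7 F366136)))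
theorem Q58295 : ∀ i, i < 58295 → P i := stepQ 58294 Q58294 (allL N58294 (tt N82444 (iv1 F359057)) (tt N82443 F366138) (tt N30980 (iv2 D109111)) (tt N95138 F407198) (tt N57496 (iv4 F169984)) (tt N95209 D198273) (tt N95210 D198274) (tt N82442 (iv7 F359056)))
theorem Q58296 : ∀ i, i < 58296 → P i := stepQ 58295 Q58295 (allL N58295 (tt N95188 F407354) (tt N95211 D198275) (tt N95209 (iv2 F407429)) (tt N30981 F169105) (tt N61288 F359837) (tt N30980 (iv5 D109113)) (tt N95212 D198276) (tt N82445 (iv7 F362678)))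
theorem Q58297 : ∀ i, i < 58297 → P i := stepQ 58296 Q58296 (allL N58296 (tt N95213 D198277) (tt N95214 D198278) (tt N95210 (iv2 F407432)) (tt N30982 F169106) (tt N35285 F321447) (tt N81726 F351546) (tt N30980 (iv6 D109114)) (tt N35270 F321448))
theorem Q58298 : ∀ i, i < 58298 → P i := stepQ 58297 Q58297 (allL N58297 (tt N30984 (iv1 F169120)) (tt N30981 (iv0 D109122)) (tt N57987 F169606) (tt N94757 (iv3 F405828)) (tt N95215 D198279) (tt N47888 (iv5 F325548)) (tt N73506 F345331) (tt N82447 F351109))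
theorem Q58299 : ∀ i, i < 58299 → P i := stepQ 58298 Q58298 (allL N58298 (tt N95216 D198280) (tt N88450 (iv0 F407174)) (tt N95205 (iv2 F407406)) (tt N85536 F372977) (tt N30981 (iv4 D109124)) (tt N95217 D198281) (tt N95218 D198282) (tt N82448 F366139))
theorem Q58300 : ∀ i, i < 58300 → P i := stepQ 58299 Q58299 (allL N58299 (tt N72212 F363303) (tt N95170 F407297) (tt N95206 (iv2 F407409)) (tt N95212 (iv3 F407440)) (tt N95218 (iv4 F407461)) (tt N93383 (iv5 F400598)) (tt N30981 (iv6 D109125)) (tt N95219 D198283))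
theorem Q58301 : ∀ i, i < 58301 → P i := stepQ 58300 Q58300 (allL N58300 (tt N35249 F324498) (tt N30982 (iv0 D109127)) (tt N35269 F324499) (tt N57162 F351072) (tt N31211 F326988) (tt N57161 (iv5 F351079)) (tt N45328 F324501) (tt N35268 F324502))
theorem Q58302 : ∀ i, i < 58302 → P i := stepQ 58301 Q58301 (allL N58301 (tt N95220 D198284) (tt N79422 F324504) (tt N95207 (iv2 F407412)) (tt N81726 F351545) (tt N95221 D198285) (tt N30982 (iv5 D109129)) (tt N93383 F400597) (tt N35271 F324505))
theorem Q58303 : ∀ i, i < 58303 → P i := stepQ 58302 Q58302 (allL N58302 (tt N95138 (iv1 F407196)) (tt N30983 (iv0 D109132)) (tt N94736 F405745) (tt N94749 F405807) (tt N35705 F169122) (tt N95222 D198286) (tt N59625 (iv6 F355942)) (tt N95023 (iv7 F406695)))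
theorem Q58304 : ∀ i, i < 58304 → P i := stepQ 58303 Q58303 (allL N58303 (tt N94736 F405748) (tt N95023 (iv0 F406696)) (tt N30983 (iv2 D109134)) (tt N82442 (iv3 F358864)) (tt N60424 F176412) (tt N95223 D198287) (tt N80563 F358865) (tt N95138 (iv7 F407197)))
theorem Q58305 : ∀ i, i < 58305 → P i := stepQ 58304 Q58304 (allL N58304 (tt N58152 F169125) (tt N58149 (iv0 F169124)) (tt N60424 (iv2 F176411)) (tt N35791 (iv3 F169964)) (tt N30983 (iv4 D109135)) (tt N95224 D198288) (tt N52251 F364795) (tt N35788 (iv7 F169986)))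
theorem Q58306 : ∀ i, i < 58306 → P i := stepQ 58305 Q58305 (allL N58305 (tt N95225 D198289) (tt N95155 (iv0 F407257)) (tt N95223 (iv2 F407479)) (tt N30984 F169126) (tt N95226 D198290) (tt N30983 (iv5 D109136)) (tt N95227 D198291) (tt N95203 (iv7 F407400)))
theorem Q58307 : ∀ i, i < 58307 → P i := stepQ 58306 Q58306 (allL N58306 (tt N88450 F407173) (tt N95216 F407453) (tt N82448 (iv2 F366014)) (tt N95228 D198292) (tt N30984 (iv4 D109140)) (tt N95229 D198293) (tt N95230 D198294) (tt N95205 (iv7 F407408)))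
theorem Q58308 : ∀ i, i < 58308 → P i := stepQ 58307 Q58307 (allL N58307 (tt N95199 F407379) (tt N92971 (iv0 F398969)) (tt N82446 F351124) (tt N95227 (iv3 F407496)) (tt N95230 (iv4 F407511)) (tt N61324 F351119) (tt N30984 (iv6 D109141)) (tt N95231 D198295))
theorem Q58309 : ∀ i, i < 58309 → P i := stepQ 58308 Q58308 (allL N58308 (tt N30990 (iv1 F169144)) (tt N30985 (iv0 D109155)) (tt N30986 F173753) (tt N95232 D198296) (tt N95233 D198297) (tt N45366 F326095) (tt N78073 F341399) (tt N30987 F173754))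
theorem Q58310 : ∀ i, i < 58310 → P i := stepQ 58309 Q58309 (allL N58309 (tt N95234 D198298) (tt N38819 F350360) (tt N30988 F169146) (tt N95235 D198299) (tt N30985 (iv4 D109157)) (tt N31762 F169147) (tt N35194 F337489) (tt N95202 (iv7 F407396)))
theorem Q58311 : ∀ i, i < 58311 → P i := stepQ 58310 Q58310 (allL N58310 (tt N48191 F337476) (tt N48190 F337477) (tt N30989 F169148) (tt N94764 (iv3 F405844)) (tt N35194 F337478) (tt N48208 F337479) (tt N30985 (iv6 D109158)) (tt N48169 F337480))
theorem Q58312 : ∀ i, i < 58312 → P i := stepQ 58311 Q58311 (allL N58311 (tt N95178 (iv1 F407324)) (tt N95208 (iv0 F407428)) (tt N95236 D198300) (tt N30986 (iv3 D109160)) (tt N61290 F361664) (tt N64965 (iv5 F366062)) (tt N95237 D198301) (tt N94597 F405126))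
theorem Q58313 : ∀ i, i < 58313 → P i := stepQ 58312 Q58312 (allL N58312 (tt N95238 D198302) (tt N63980 (iv0 F343826)) (tt N95233 (iv2 F407519)) (tt N85620 (iv3 F373227)) (tt N30986 (iv4 D109161)) (tt N66414 F343823) (tt N66415 F343824) (tt N38736 F343825))
theorem Q58314 : ∀ i, i < 58314 → P i := stepQ 58313 Q58313 (allL N58313 (tt N78071 (iv1 F343832)) (tt N78070 F343831) (tt N78073 F343828) (tt N95237 (iv3 F407538)) (tt N66415 (iv4 F343827)) (tt N64966 F343829) (tt N30986 (iv6 D109163)) (tt N57733 F343830))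
theorem Q58315 : ∀ i, i < 58315 → P i := stepQ 58314 Q58314 (allL N58314 (tt N95222 (iv1 F413291)) (tt N67090 (iv0 F345114)) (tt N95239 D198304) (tt N30987 (iv3 D109165)) (tt N59596 (iv4 F173205)) (tt N94816 (iv5 F406052)) (tt N39904 F341395) (tt N95232 (iv7 F407517)))
theorem Q58316 : ∀ i, i < 58316 → P i := stepQ 58315 Q58315 (allL N58315 (tt N63980 F363304) (tt N95238 F407543) (tt N38736 F341396) (tt N95240 D198305) (tt N30987 (iv4 D109166)) (tt N95241 D198306) (tt N38667 F341397) (tt N95233 (iv7 F407522)))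
theorem Q58317 : ∀ i, i < 58317 → P i := stepQ 58316 Q58316 (allL N58316 (tt N95202 (iv1 F407398)) (tt N30988 (iv0 D109169)) (tt N95234 F407528) (tt N95242 D198307) (tt N94555 (iv4 F404956)) (tt N33347 F360067) (tt N33350 F360068) (tt N38819 F360069))
theorem Q58318 : ∀ i, i < 58318 → P i := stepQ 58317 Q58317 (allL N58317 (tt N30988 (iv1 D109170)) (tt N95202 (iv0 F407397)) (tt N38819 F362604) (tt N89785 (iv3 F387551)) (tt N57853 F362605) (tt N89784 F387546) (tt N36726 F362606) (tt N95234 (iv7 F407530)))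
theorem Q58319 : ∀ i, i < 58319 → P i := stepQ 58318 Q58318 (allL N58318 (tt N95243 D198308) (tt N95244 D198309) (tt N95245 D198310) (tt N30988 (iv3 D109171)) (tt N30996 F169152) (tt N82298 F337490) (tt N35468 F337491) (tt N70139 (iv7 F216771)))
theorem Q58320 : ∀ i, i < 58320 → P i := stepQ 58319 Q58319 (allL N58319 (tt N38819 F343162) (tt N95234 F407529) (tt N95202 (iv2 F407393)) (tt N70139 (iv3 F216770)) (tt N30990 F169156) (tt N82302 F337492) (tt N48197 F337493) (tt N30988 (iv7 D109174)))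
theorem Q58321 : ∀ i, i < 58321 → P i := stepQ 58320 Q58320 (allL N58320 (tt N95246 D198311) (tt N43592 F351138) (tt N93427 (iv2 F400701)) (tt N31001 F169158) (tt N48197 F343152) (tt N93425 (iv5 F400698)) (tt N30990 (iv6 D109178)) (tt N48193 F343153))
theorem Q58322 : ∀ i, i < 58322 → P i := stepQ 58321 Q58321 (allL N58321 (tt N58714 (iv1 F170407)) (tt N30991 (iv0 D109179)) (tt N58728 (iv2 F358799)) (tt N81402 (iv3 F358643)) (tt N64163 (iv4 F344525)) (tt N56818 F358803) (tt N64352 (iv6 F358801)) (tt N58727 F358798))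
theorem Q58323 : ∀ i, i < 58323 → P i := stepQ 58322 Q58322 (allL N58322 (tt N30991 (iv1 D109180)) (tt N58714 F170406) (tt N58727 F358796) (tt N67433 (iv3 F345394)) (tt N64161 (iv4 F325651)) (tt N56817 F345393) (tt N64281 (iv6 F344464)) (tt N58728 (iv7 F358797)))
theorem Q58324 : ∀ i, i < 58324 → P i := stepQ 58323 Q58323 (allL N58323 (tt N94741 (iv1 F405779)) (tt N94738 (iv0 F405765)) (tt N30992 (iv2 D109184)) (tt N94775 (iv3 F405880)) (tt N85585 F373138) (tt N93253 (iv5 F400142)) (tt N95247 D198312) (tt N89765 F387467))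
theorem Q58325 : ∀ i, i < 58325 → P i := stepQ 58324 Q58324 (allL N58324 (tt N84908 (iv1 F373141)) (tt N84905 F373140) (tt N85585 (iv2 F373139)) (tt N40384 F169160) (tt N30992 (iv4 D109185)) (tt N90450 (iv5 F389691)) (tt N90125 (iv6 F388614)) (tt N85586 (iv7 F373144)))
theorem Q58326 : ∀ i, i < 58326 → P i := stepQ 58325 Q58325 (allL N58325 (tt N95248 D198313) (tt N95249 D198314) (tt N95247 (iv2 F407575)) (tt N30993 F169161) (tt N90125 (iv4 F388613)) (tt N95250 D198315) (tt N30992 (iv6 D109186)) (tt N89762 (iv7 F387458)))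
theorem Q58327 : ∀ i, i < 58327 → P i := stepQ 58326 Q58326 (allL N58326 (tt N94778 (iv1 F405895)) (tt N30993 (iv0 D109187)) (tt N73031 (iv2 F363345)) (tt N95251 D198316) (tt N93350 F406220) (tt N73519 (iv5 F363351)) (tt N72876 F363347) (tt N82412 (iv7 F363346)))
theorem Q58328 : ∀ i, i < 58328 → P i := stepQ 58327 Q58327 (allL N58327 (tt N30993 (iv1 D109188)) (tt N94778 F405894) (tt N82412 F363339) (tt N78070 F363340) (tt N78441 F363341) (tt N73518 F363342) (tt N44663 F363343) (tt N73031 F363344))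
theorem Q58329 : ∀ i, i < 58329 → P i := stepQ 58328 Q58328 (allL N58328 (tt N95252 D198317) (tt N95253 D198318) (tt N94777 (iv2 F405887)) (tt N95250 (iv3 F407577)) (tt N95254 D198319) (tt N30993 (iv5 D109189)) (tt N93255 (iv6 F400149)) (tt N95255 D198320))
theorem Q58330 : ∀ i, i < 58330 → P i := stepQ 58329 Q58329 (allL N58329 (tt N82412 (iv1 F363337)) (tt N73031 F363338) (tt N94778 (iv2 F405891)) (tt N89762 (iv3 F387456)) (tt N40397 F169162) (tt N95255 (iv5 F407589)) (tt N58344 F351225) (tt N30993 (iv7 D109190)))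
theorem Q58331 : ∀ i, i < 58331 → P i := stepQ 58330 Q58330 (allL N58330 (tt N94728 (iv1 F405701)) (tt N83143 (iv0 F345104)) (tt N30994 (iv2 D109193)) (tt N89765 (iv3 F387465)) (tt N83270 (iv4 F345620)) (tt N40332 F169163) (tt N89763 F387460) (tt N94775 (iv7 F405883)))
theorem Q58332 : ∀ i, i < 58332 → P i := stepQ 58331 Q58331 (allL N58331 (tt N83263 (iv1 F373319)) (tt N50643 (iv0 F373317)) (tt N83270 F345619) (tt N54070 (iv3 F364781)) (tt N30994 (iv4 D109194)) (tt N58996 (iv5 F171710)) (tt N90338 (iv6 F389382)) (tt N83271 (iv7 F345613)))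
theorem Q58333 : ∀ i, i < 58333 → P i := stepQ 58332 Q58332 (allL N58332 (tt N95256 D198321) (tt N73004 (iv0 F352252)) (tt N89763 (iv2 F387459)) (tt N30995 F169164) (tt N90338 F389383) (tt N95257 D198322) (tt N30994 (iv6 D109195)) (tt N95258 D198323))
theorem Q58334 : ∀ i, i < 58334 → P i := stepQ 58333 Q58333 (allL N58333 (tt N58344 F351198) (tt N30995 (iv0 D109196)) (tt N73027 (iv2 F351203)) (tt N38664 F351199) (tt N93345 (iv4 F400477)) (tt N38663 F351200) (tt N73023 F351201) (tt N38822 F351202))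
theorem Q58335 : ∀ i, i < 58335 → P i := stepQ 58334 Q58334 (allL N58334 (tt N39897 F364776) (tt N78059 F364777) (tt N78057 F350388) (tt N95257 (iv3 F407598)) (tt N94387 (iv4 F404200)) (tt N30995 (iv5 D109198)) (tt N40334 F169165) (tt N78058 (iv7 F350390)))
theorem Q58336 : ∀ i, i < 58336 → P i := stepQ 58335 Q58335 (allL N58335 (tt N38822 F351243) (tt N73027 F351248) (tt N58344 F351217) (tt N95258 (iv3 F407608)) (tt N57949 F337452) (tt N78058 F350391) (tt N94778 (iv6 F405893)) (tt N30995 (iv7 D109199)))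
theorem Q58337 : ∀ i, i < 58337 → P i := stepQ 58336 Q58336 (allL N58336 (tt N70136 (iv1 F216767)) (tt N30996 (iv0 D109200)) (tt N70138 F404828) (tt N94564 F404985) (tt N95259 D198324) (tt N40350 F404829) (tt N95260 D198325) (tt N70137 (iv7 F404832)))
theorem Q58338 : ∀ i, i < 58338 → P i := stepQ 58337 Q58337 (allL N58337 (tt N30996 (iv1 D109201)) (tt N70136 F216766) (tt N70137 F404830) (tt N95261 D198326) (tt N95262 D198327) (tt N40351 F354184) (tt N95263 D198328) (tt N70138 F404827))
theorem Q58339 : ∀ i, i < 58339 → P i := stepQ 58338 Q58338 (allL N58338 (tt N70138 (iv1 F216769)) (tt N70137 F216768) (tt N30996 (iv2 D109202)) (tt N85208 (iv3 F371893)) (tt N95245 (iv4 F407563)) (tt N40295 F169166) (tt N94522 F404823) (tt N70136 (iv7 F216765)))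
theorem Q58340 : ∀ i, i < 58340 → P i := stepQ 58339 Q58339 (allL N58339 (tt N57852 F332976) (tt N94545 F404917) (tt N94522 (iv2 F404818)) (tt N30997 F169167) (tt N35468 F343114) (tt N57831 (iv5 F343118)) (tt N30996 (iv6 D109203)) (tt N48179 F343115))
theorem Q58341 : ∀ i, i < 58341 → P i := stepQ 58340 Q58340 (allL N58340 (tt N65217 F332971) (tt N57839 (iv0 F332969)) (tt N93360 (iv2 F400520)) (tt N57831 (iv3 F332967)) (tt N70751 F332966) (tt N30997 (iv5 D109206)) (tt N40299 F169168) (tt N94524 (iv7 F404845)))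
theorem Q58342 : ∀ i, i < 58342 → P i := stepQ 58341 Q58341 (allL N58341 (tt N95264 D198329) (tt N95147 (iv0 F407231)) (tt N86205 (iv2 F375367)) (tt N30998 (iv3 D109209)) (tt N54521 (iv4 F364779)) (tt N85899 (iv5 F374361)) (tt N56738 F351226) (tt N94779 (iv7 F405898)))
theorem Q58343 : ∀ i, i < 58343 → P i := stepQ 58342 Q58342 (allL N58342 (tt N64863 F351229) (tt N64861 (iv0 F363278)) (tt N62202 (iv2 F351228)) (tt N85899 (iv3 F374359)) (tt N64858 (iv4 F373199)) (tt N30998 (iv5 D109211)) (tt N56740 F351227) (tt N94780 (iv7 F405902)))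
theorem Q58344 : ∀ i, i < 58344 → P i := stepQ 58343 Q58343 (allL N58343 (tt N83110 (iv1 F364770)) (tt N55355 (iv0 F357934)) (tt N64732 (iv2 F351236)) (tt N30999 (iv3 D109214)) (tt N53474 F332979) (tt N95265 D198330) (tt N73011 (iv6 F351233)) (tt N62201 F351231))
theorem Q58345 : ∀ i, i < 58345 → P i := stepQ 58344 Q58344 (allL N58344 (tt N40393 F345276) (tt N58333 (iv0 F351198)) (tt N58335 (iv2 F351217)) (tt N53764 (iv3 F332978)) (tt N30999 (iv4 D109215)) (tt N72202 (iv5 F364771)) (tt N58329 (iv6 F351225)) (tt N57948 F351209))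
theorem Q58346 : ∀ i, i < 58346 → P i := stepQ 58345 Q58345 (allL N58345 (tt N64861 (iv1 F363280)) (tt N64863 F359224) (tt N94780 (iv2 F405900)) (tt N95265 (iv3 F407632)) (tt N64857 (iv4 F400483)) (tt N30999 (iv5 D109216)) (tt N95266 D198331) (tt N62202 F351232))
theorem Q58347 : ∀ i, i < 58347 → P i := stepQ 58346 Q58346 (allL N58346 (tt N82516 (iv1 F345206)) (tt N55317 F345419) (tt N82515 F345415) (tt N48193 F337468) (tt N70147 (iv4 F216784)) (tt N95267 D198332) (tt N31000 (iv6 D109218)) (tt N31001 F169172))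
theorem Q58348 : ∀ i, i < 58348 → P i := stepQ 58347 Q58347 (allL N58347 (tt N31001 (iv1 D109220)) (tt N82515 (iv0 F351192)) (tt N82516 F345420) (tt N53478 (iv3 F351131)) (tt N53807 F351130) (tt N55138 F351133) (tt N73022 (iv6 F351127)) (tt N55317 F345414))
theorem Q58349 : ∀ i, i < 58349 → P i := stepQ 58348 Q58348 (allL N58348 (tt N95268 D198333) (tt N62350 (iv0 F345412)) (tt N65475 (iv2 F362344)) (tt N93425 (iv3 F400697)) (tt N77940 F362345) (tt N31001 (iv5 D109221)) (tt N31004 F169173) (tt N95267 (iv7 F407641)))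
theorem Q58350 : ∀ i, i < 58350 → P i := stepQ 58349 Q58349 (allL N58349 (tt N59569 (iv1 F407660)) (tt N94742 (iv0 F407650)) (tt N95143 F407217) (tt N31002 (iv3 D109222)) (tt N95269 D198336) (tt N95270 D198337) (tt N95271 D198338) (tt N59663 (iv7 F173444)))
theorem Q58351 : ∀ i, i < 58351 → P i := stepQ 58350 Q58350 (allL N58350 (tt N33254 (iv1 F169176)) (tt N31316 F169177) (tt N35872 F169174) (tt N59965 F174995) (tt N31002 (iv4 D109223)) (tt N95272 D198339) (tt N95273 D198340) (tt N40044 F169175))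
theorem Q58352 : ∀ i, i < 58352 → P i := stepQ 58351 Q58351 (allL N58351 (tt N44205 F337403) (tt N56804 F337404) (tt N56802 (iv2 F332221)) (tt N95270 (iv3 F407652)) (tt N95274 D198341) (tt N31002 (iv5 D109224)) (tt N95275 D198342) (tt N56803 (iv7 F332219)))
theorem Q58353 : ∀ i, i < 58353 → P i := stepQ 58352 Q58352 (allL N58352 (tt N78143 F337409) (tt N59558 (iv0 F337413)) (tt N59666 (iv2 F173451)) (tt N95271 (iv3 F407657)) (tt N95273 (iv4 F407670)) (tt N40358 F337411) (tt N31002 (iv6 D109225)) (tt N95096 (iv7 F407019)))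
theorem Q58354 : ∀ i, i < 58354 → P i := stepQ 58353 Q58353 (allL N58353 (tt N94727 F405694) (tt N59600 (iv0 F400659)) (tt N95181 (iv2 F407330)) (tt N31003 (iv3 D109226)) (tt N65823 (iv4 F202430)) (tt N95276 D198343) (tt N95277 D198344) (tt N59665 (iv7 F173448)))
theorem Q58355 : ∀ i, i < 58355 → P i := stepQ 58354 Q58354 (allL N58354 (tt N56804 F337407) (tt N44205 F337408) (tt N56803 (iv2 F332217)) (tt N95276 (iv3 F407688)) (tt N95278 D198345) (tt N31003 (iv5 D109227)) (tt N95279 D198346) (tt N56802 (iv7 F332223)))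
theorem Q58356 : ∀ i, i < 58356 → P i := stepQ 58355 Q58355 (allL N58355 (tt N59526 F202429) (tt N94724 (iv0 F405682)) (tt N59664 (iv2 F173447)) (tt N95277 (iv3 F407692)) (tt N65822 (iv4 F202427)) (tt N95280 D198347) (tt N31003 (iv6 D109228)) (tt N95134 (iv7 F407178)))
theorem Q58357 : ∀ i, i < 58357 → P i := stepQ 58356 Q58356 (allL N58356 (tt N59500 (iv1 F348790)) (tt N39998 F343560) (tt N78185 F343561) (tt N31005 (iv3 D109232)) (tt N37202 F343562) (tt N44443 F343563) (tt N95281 D198348) (tt N59669 (iv7 F173455)))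
theorem Q58358 : ∀ i, i < 58358 → P i := stepQ 58357 Q58357 (allL N58357 (tt N95282 D198349) (tt N95283 D198350) (tt N59676 (iv2 F173469)) (tt N44443 F332211) (tt N44208 F332212) (tt N31005 (iv5 D109233)) (tt N95284 D198351) (tt N59670 (iv7 F173457)))
theorem Q58359 : ∀ i, i < 58359 → P i := stepQ 58358 Q58358 (allL N58358 (tt N94520 (iv1 F404814)) (tt N59552 F226744) (tt N59677 (iv2 F173471)) (tt N95281 (iv3 F407705)) (tt N31007 F169178) (tt N62175 (iv5 F364139)) (tt N31005 (iv6 D109234)) (tt N72950 (iv7 F336737)))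
theorem Q58360 : ∀ i, i < 58360 → P i := stepQ 58359 Q58359 (allL N58359 (tt N31010 (iv1 F169182)) (tt N31006 (iv0 D109235)) (tt N31660 (iv2 F169181)) (tt N57881 F169184) (tt N56805 (iv4 F337399)) (tt N57881 F169179) (tt N31597 F169180) (tt N57881 F169183))
theorem Q58361 : ∀ i, i < 58361 → P i := stepQ 58360 Q58360 (allL N58360 (tt N95285 D198352) (tt N58028 F222463) (tt N59678 (iv2 F173473)) (tt N72340 (iv3 F337396)) (tt N31006 (iv4 D109236)) (tt N72339 F358697) (tt N40414 F169185) (tt N59672 (iv7 F173461)))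
theorem Q58362 : ∀ i, i < 58362 → P i := stepQ 58361 Q58361 (allL N58361 (tt N32060 F169186) (tt N31988 (iv0 F169187)) (tt N58757 (iv2 F170608)) (tt N82134 (iv3 F358655)) (tt N31008 (iv4 D109237)) (tt N47390 F332183) (tt N95286 D198353) (tt N58756 F170605))
theorem Q58363 : ∀ i, i < 58363 → P i := stepQ 58362 Q58362 (allL N58362 (tt N60368 (iv1 F176361)) (tt N95287 D198354) (tt N92113 (iv2 F395797)) (tt N31010 F169188) (tt N95288 D198355) (tt N31008 (iv5 D109238)) (tt N57983 (iv6 F169192)) (tt N59673 (iv7 F173463)))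
theorem Q58364 : ∀ i, i < 58364 → P i := stepQ 58363 Q58363 (allL N58363 (tt N79599 F364887) (tt N59926 (iv0 F174620)) (tt N77917 (iv2 F245296)) (tt N31011 F169193) (tt N95286 (iv4 F407725)) (tt N39937 (iv5 F169194)) (tt N31008 (iv6 D109239)) (tt N77916 (iv7 F245293)))
theorem Q58365 : ∀ i, i < 58365 → P i := stepQ 58364 Q58364 (allL N58364 (tt N94701 F405593) (tt N59538 (iv0 F358653)) (tt N95112 (iv2 F407099)) (tt N31009 (iv3 D109240)) (tt N82134 F358654) (tt N95289 D198356) (tt N82059 (iv6 F341265)) (tt N59675 (iv7 F173468)))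
theorem Q58366 : ∀ i, i < 58366 → P i := stepQ 58365 Q58365 (allL N58365 (tt N95283 (iv1 F407711)) (tt N95282 F407708) (tt N59670 (iv2 F173456)) (tt N95289 (iv3 F407744)) (tt N44207 F332213) (tt N31009 (iv5 D109241)) (tt N95290 D198357) (tt N59676 (iv7 F173470)))
theorem Q58367 : ∀ i, i < 58367 → P i := stepQ 58366 Q58366 (allL N58366 (tt N59522 F202186) (tt N94722 (iv0 F405672)) (tt N59671 (iv2 F173458)) (tt N82059 F341263) (tt N31011 F169197) (tt N82058 (iv5 F341264)) (tt N31009 (iv6 D109242)) (tt N95130 (iv7 F407158)))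
theorem Q58368 : ∀ i, i < 58368 → P i := stepQ 58367 Q58367 (allL N58367 (tt N58028 (iv1 F222465)) (tt N95285 F407722) (tt N59672 (iv2 F173460)) (tt N95291 D198358) (tt N31010 (iv4 D109243)) (tt N95292 D198359) (tt N57984 F169198) (tt N59678 (iv7 F173475)))
theorem Q58369 : ∀ i, i < 58369 → P i := stepQ 58368 Q58368 (allL N58368 (tt N39224 (iv1 F169199)) (tt N31012 (iv0 D109244)) (tt N39223 F351982) (tt N78668 F351983) (tt N75414 F351984) (tt N95293 D198360) (tt N78665 F351985) (tt N39222 F351986))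
theorem Q58370 : ∀ i, i < 58370 → P i := stepQ 58369 Q58369 (allL N58369 (tt N31012 (iv1 D109245)) (tt N39224 F169202) (tt N39222 F351987) (tt N87456 (iv3 F379387)) (tt N75413 (iv4 F351989)) (tt N91400 (iv5 F392991)) (tt N91967 (iv6 F395171)) (tt N39223 F351988))
theorem Q58371 : ∀ i, i < 58371 → P i := stepQ 58370 Q58370 (allL N58370 (tt N39223 (iv1 F169203)) (tt N39222 F169201) (tt N31012 (iv2 D109246)) (tt N59767 (iv3 F173969)) (tt N65871 (iv4 F202689)) (tt N86393 F376070) (tt N87819 (iv6 F380653)) (tt N39224 F169200))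
theorem Q58372 : ∀ i, i < 58372 → P i := stepQ 58371 Q58371 (allL N58371 (tt N31076 (iv1 F169206)) (tt N31013 (iv0 D109248)) (tt N59683 (iv2 F173494)) (tt N92001 F395321) (tt N35875 F169205) (tt N95294 D198361) (tt N95295 D198362) (tt N59682 F173489))
theorem Q58373 : ∀ i, i < 58373 → P i := stepQ 58372 Q58372 (allL N58372 (tt N31013 (iv1 D109249)) (tt N31076 F169207) (tt N59682 (iv2 F173490)) (tt N95269 (iv3 F407649)) (tt N59965 (iv4 F174997)) (tt N95296 D198363) (tt N54946 (iv6 F340589)) (tt N59683 (iv7 F173492)))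
theorem Q58374 : ∀ i, i < 58374 → P i := stepQ 58373 Q58373 (allL N58373 (tt N95297 D198364) (tt N95298 D198365) (tt N59771 (iv2 F173981)) (tt N88238 (iv3 F382304)) (tt N95299 D198366) (tt N31013 (iv5 D109250)) (tt N92508 (iv6 F397191)) (tt N59684 (iv7 F173496)))
theorem Q58375 : ∀ i, i < 58375 → P i := stepQ 58374 Q58374 (allL N58374 (tt N31162 (iv1 F169210)) (tt N31124 (iv0 F169209)) (tt N31234 F169208) (tt N83524 F363511) (tt N31014 (iv4 D109251)) (tt N95300 D198367) (tt N83523 (iv6 F340613)) (tt N59685 (iv7 F173498)))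
theorem Q58376 : ∀ i, i < 58376 → P i := stepQ 58375 Q58375 (allL N58375 (tt N31827 F169212) (tt N58388 (iv0 F169244)) (tt N31235 F169211) (tt N58415 (iv3 F169314)) (tt N95301 D198368) (tt N31014 (iv5 D109252)) (tt N31798 F169213) (tt N58415 (iv7 F169315)))
theorem Q58377 : ∀ i, i < 58377 → P i := stepQ 58376 Q58376 (allL N58376 (tt N31143 F169218) (tt N31176 (iv0 F169216)) (tt N31236 F169214) (tt N59686 (iv3 F173502)) (tt N83523 F340611) (tt N39095 F169215) (tt N31014 (iv6 D109253)) (tt N39307 (iv7 F169217)))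
theorem Q58378 : ∀ i, i < 58378 → P i := stepQ 58377 Q58377 (allL N58377 (tt N51730 (iv1 F326728)) (tt N31015 (iv0 D109254)) (tt N59772 (iv2 F357997)) (tt N95302 D198369) (tt N52567 (iv4 F357998)) (tt N95303 D198370) (tt N91849 (iv6 F394673)) (tt N52566 F357996))
theorem Q58379 : ∀ i, i < 58379 → P i := stepQ 58378 Q58378 (allL N58378 (tt N59772 (iv1 F173988)) (tt N52566 (iv0 F340703)) (tt N31015 (iv2 D109256)) (tt N31048 F169219) (tt N51725 (iv4 F340709)) (tt N91000 (iv5 F391519)) (tt N45796 F326134) (tt N51730 (iv7 F326731)))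
theorem Q58380 : ∀ i, i < 58380 → P i := stepQ 58379 Q58379 (allL N58379 (tt N91643 (iv1 F393870)) (tt N91642 F393869) (tt N91000 (iv2 F391518)) (tt N31016 F169220) (tt N95304 D198371) (tt N31015 (iv5 D109257)) (tt N91639 (iv6 F393859)) (tt N59773 (iv7 F173991)))
theorem Q58381 : ∀ i, i < 58381 → P i := stepQ 58380 Q58380 (allL N58380 (tt N81561 F328209) (tt N81560 F328210) (tt N45796 F328211) (tt N31017 F169221) (tt N59687 (iv4 F173515)) (tt N87991 (iv5 F381408)) (tt N31015 (iv6 D109258)) (tt N51733 F328212))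
theorem Q58382 : ∀ i, i < 58382 → P i := stepQ 58381 Q58381 (allL N58381 (tt N95305 D198372) (tt N95306 D198373) (tt N31053 F169222) (tt N91639 (iv3 F393857)) (tt N56953 F169223) (tt N95307 D198374) (tt N31016 (iv6 D109259)) (tt N91634 (iv7 F393848)))
theorem Q58383 : ∀ i, i < 58383 → P i := stepQ 58382 Q58382 (allL N58382 (tt N31057 (iv1 F169233)) (tt N31017 (iv0 D109260)) (tt N31054 F170661) (tt N95308 D198375) (tt N32018 (iv4 F169235)) (tt N58657 (iv5 F169916)) (tt N44704 F327529) (tt N31055 F170662))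
theorem Q58384 : ∀ i, i < 58384 → P i := stepQ 58383 Q58383 (allL N58383 (tt N31017 (iv1 D109261)) (tt N31057 F169224) (tt N31055 F170664) (tt N94888 (iv3 F406251)) (tt N55881 (iv4 F169225)) (tt N58656 (iv5 F170702)) (tt N95309 D198376) (tt N31054 F170665))
theorem Q58385 : ∀ i, i < 58385 → P i := stepQ 58384 Q58384 (allL N58384 (tt N95310 D198377) (tt N95311 D198378) (tt N31056 F169230) (tt N87991 (iv3 F381407)) (tt N95312 D198379) (tt N31017 (iv5 D109262)) (tt N95307 (iv6 F407799)) (tt N87986 F381390))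
theorem Q58386 : ∀ i, i < 58386 → P i := stepQ 58385 Q58385 (allL N58385 (tt N31055 (iv1 F169234)) (tt N31054 F169236) (tt N31057 F169231) (tt N51733 F326235) (tt N31020 F169232) (tt N87986 (iv5 F381389)) (tt N51731 (iv6 F328685)) (tt N31017 (iv7 D109263)))
theorem Q58387 : ∀ i, i < 58387 → P i := stepQ 58386 Q58386 (allL N58386 (tt N91293 (iv1 F392591)) (tt N59777 (iv0 F174002)) (tt N31059 F169237) (tt N79631 F365835) (tt N31018 (iv4 D109264)) (tt N95313 D198380) (tt N59689 (iv6 F173526)) (tt N31060 F169238))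
theorem Q58388 : ∀ i, i < 58388 → P i := stepQ 58387 Q58387 (allL N58387 (tt N59777 F174001) (tt N91293 F392590) (tt N31060 F169241) (tt N79654 (iv3 F363504)) (tt N31019 (iv4 D109265)) (tt N95314 D198381) (tt N95315 D198382) (tt N31059 F169242))
theorem Q58389 : ∀ i, i < 58389 → P i := stepQ 58388 Q58388 (allL N58388 (tt N58375 F169244) (tt N31980 (iv0 F169245)) (tt N31061 F169243) (tt N94664 (iv3 F405433)) (tt N95315 (iv4 F407828)) (tt N58741 (iv5 F170555)) (tt N31019 (iv6 D109266)) (tt N58741 (iv7 F170559)))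
theorem Q58390 : ∀ i, i < 58390 → P i := stepQ 58389 Q58389 (allL N58389 (tt N56023 F169248) (tt N71068 (iv0 F336228)) (tt N95316 D198383) (tt N31021 (iv3 D109267)) (tt N41077 F169246) (tt N95317 D198384) (tt N95318 D198385) (tt N39238 F169247))
theorem Q58391 : ∀ i, i < 58391 → P i := stepQ 58390 Q58390 (allL N58390 (tt N55858 F169252) (tt N55855 F169253) (tt N55900 F169249) (tt N95317 (iv3 F407834)) (tt N31052 F169250) (tt N31021 (iv5 D109268)) (tt N95319 D198386) (tt N39239 F169251))
theorem Q58392 : ∀ i, i < 58392 → P i := stepQ 58391 Q58391 (allL N58391 (tt N55997 F169257) (tt N55999 (iv0 F169256)) (tt N55927 F169254) (tt N95318 (iv3 F407836)) (tt N31022 F169255) (tt N95320 D198387) (tt N31021 (iv6 D109269)) (tt N60322 (iv7 F176200)))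
theorem Q58393 : ∀ i, i < 58393 → P i := stepQ 58392 Q58392 (allL N58392 (tt N60108 F203881) (tt N60110 (iv0 F175584)) (tt N55891 F169261) (tt N74122 (iv3 F226835)) (tt N31024 F169262) (tt N95321 D198388) (tt N31023 (iv6 D109270)) (tt N94271 (iv7 F403912)))
theorem Q58394 : ∀ i, i < 58394 → P i := stepQ 58393 Q58393 (allL N58393 (tt N31024 (iv1 D109272)) (tt N56947 F169263) (tt N56946 (iv2 F169266)) (tt N32037 F169265) (tt N92338 (iv4 F396750)) (tt N58194 (iv5 F169264)) (tt N69434 (iv6 F217145)) (tt N56905 (iv7 F169267)))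
theorem Q58395 : ∀ i, i < 58395 → P i := stepQ 58394 Q58394 (allL N58394 (tt N56946 (iv1 F169274)) (tt N56905 F169275) (tt N56947 F169271) (tt N60249 (iv3 F175991)) (tt N94271 (iv4 F403911)) (tt N58056 F169272) (tt N56815 F169273) (tt N31024 (iv7 D109273)))
theorem Q58396 : ∀ i, i < 58396 → P i := stepQ 58395 Q58395 (allL N58395 (tt N56950 (iv1 F169276)) (tt N31025 (iv0 D109274)) (tt N56949 (iv2 F180742)) (tt N95322 D198389) (tt N93781 (iv4 F401867)) (tt N93683 (iv5 F401556)) (tt N95323 D198390) (tt N56948 (iv7 F180744)))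
theorem Q58397 : ∀ i, i < 58397 → P i := stepQ 58396 Q58396 (allL N58396 (tt N31025 (iv1 D109275)) (tt N56950 F169278) (tt N56948 F180743) (tt N94394 (iv3 F404260)) (tt N57221 (iv4 F169277)) (tt N93684 (iv5 F401561)) (tt N95324 D198391) (tt N56949 F180731))
theorem Q58398 : ∀ i, i < 58398 → P i := stepQ 58397 Q58397 (allL N58397 (tt N56949 (iv1 F169282)) (tt N56948 F169281) (tt N31025 (iv2 D109276)) (tt N61823 (iv3 F179559)) (tt N35808 F169279) (tt N92465 (iv5 F397074)) (tt N95325 D198392) (tt N56950 F169280))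
theorem Q58399 : ∀ i, i < 58399 → P i := stepQ 58398 Q58398 (allL N58398 (tt N95326 D198393) (tt N95327 D198394) (tt N95325 (iv2 F407862)) (tt N31026 F169283) (tt N35809 F169284) (tt N95328 D198395) (tt N31025 (iv6 D109277)) (tt N95329 D198396))
theorem Q58400 : ∀ i, i < 58400 → P i := stepQ 58399 Q58399 (allL N58399 (tt N95330 D198397) (tt N74511 F361833) (tt N61825 (iv2 F179563)) (tt N95328 (iv3 F407869)) (tt N95331 D198398) (tt N31026 (iv5 D109278)) (tt N92501 (iv6 F397182)) (tt N95332 D198399))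
theorem Q58401 : ∀ i, i < 58401 → P i := stepQ 58400 Q58400 (allL N58400 (tt N41290 (iv1 F169288)) (tt N33482 F169289) (tt N41292 F169285) (tt N95329 (iv3 F407871)) (tt N31029 F169286) (tt N95332 (iv5 F407882)) (tt N41570 F169287) (tt N31026 (iv7 D109279)))
theorem Q58402 : ∀ i, i < 58402 → P i := stepQ 58401 Q58401 (allL N58401 (tt N55905 F169292) (tt N55856 (iv0 F169293)) (tt N55902 F169290) (tt N74186 (iv3 F226931)) (tt N31027 (iv4 D109280)) (tt N95333 D198400) (tt N66438 F204166) (tt N55903 F169291))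
theorem Q58403 : ∀ i, i < 58403 → P i := stepQ 58402 Q58402 (allL N58402 (tt N57788 (iv1 F169298)) (tt N31028 (iv0 D109281)) (tt N57787 (iv2 F169296)) (tt N44232 F169294) (tt N57382 F175797) (tt N39410 F169295) (tt N71753 (iv6 F220487)) (tt N56850 F169297))
theorem Q58404 : ∀ i, i < 58404 → P i := stepQ 58403 Q58403 (allL N58403 (tt N56850 (iv1 F169303)) (tt N57787 F169304) (tt N57788 F169299) (tt N32195 F169300) (tt N63787 (iv4 F336643)) (tt N31029 F169301) (tt N57786 F169302) (tt N31028 (iv7 D109282)))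
theorem Q58405 : ∀ i, i < 58405 → P i := stepQ 58404 Q58404 (allL N58404 (tt N31030 (iv1 D109284)) (tt N59780 F174014) (tt N59779 (iv2 F353513)) (tt N84567 (iv3 F369712)) (tt N64134 (iv4 F353510)) (tt N86394 (iv5 F376076)) (tt N64133 F353512) (tt N55171 F352014))
theorem Q58406 : ∀ i, i < 58406 → P i := stepQ 58405 Q58405 (allL N58405 (tt N55171 (iv1 F352008)) (tt N59779 F174008) (tt N31030 (iv2 D109285)) (tt N59788 (iv3 F174028)) (tt N60091 (iv4 F175530)) (tt N95334 D198401) (tt N95335 D198402) (tt N59780 (iv7 F174011)))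
theorem Q58407 : ∀ i, i < 58407 → P i := stepQ 58406 Q58406 (allL N58406 (tt N62112 F180026) (tt N71041 F355466) (tt N95334 (iv2 F407890)) (tt N31031 F169305) (tt N82154 (iv4 F347163)) (tt N31030 (iv5 D109286)) (tt N55052 (iv6 F352016)) (tt N59781 (iv7 F174016)))
theorem Q58408 : ∀ i, i < 58408 → P i := stepQ 58407 Q58407 (allL N58407 (tt N79526 F365764) (tt N79523 F354192) (tt N95335 (iv2 F407896)) (tt N31032 F169306) (tt N60093 (iv4 F175538)) (tt N95336 D198403) (tt N31030 (iv6 D109287)) (tt N95337 D198404))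
theorem Q58409 : ∀ i, i < 58409 → P i := stepQ 58408 Q58408 (allL N58408 (tt N95338 D198405) (tt N95339 D198406) (tt N59791 (iv2 F174036)) (tt N55052 F352017) (tt N41242 F169307) (tt N95340 D198407) (tt N31031 (iv6 D109288)) (tt N95341 D198408))
theorem Q58410 : ∀ i, i < 58410 → P i := stepQ 58409 Q58409 (allL N58409 (tt N59795 (iv1 F174047)) (tt N31032 (iv0 D109289)) (tt N59792 F175099) (tt N93969 (iv3 F402651)) (tt N59977 (iv4 F175095)) (tt N62658 (iv5 F346903)) (tt N95342 D198409) (tt N59793 (iv7 F175098)))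
theorem Q58411 : ∀ i, i < 58411 → P i := stepQ 58410 Q58410 (allL N58410 (tt N31032 (iv1 D109290)) (tt N59795 F174046) (tt N59793 (iv2 F175100)) (tt N95343 D198410) (tt N59978 F175062) (tt N62657 (iv5 F346904)) (tt N59695 F175102) (tt N59792 F175103))
theorem Q58412 : ∀ i, i < 58412 → P i := stepQ 58411 Q58411 (allL N58411 (tt N95344 D198411) (tt N77799 (iv0 F245002)) (tt N59794 (iv2 F174041)) (tt N95336 (iv3 F407897)) (tt N95345 D198412) (tt N31032 (iv5 D109291)) (tt N95340 (iv6 F407917)) (tt N95346 D198413))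
theorem Q58413 : ∀ i, i < 58413 → P i := stepQ 58412 Q58412 (allL N58412 (tt N59793 (iv1 F174037)) (tt N59792 F174045) (tt N59795 (iv2 F174042)) (tt N95337 (iv3 F407901)) (tt N31034 F169308) (tt N95346 (iv5 F407941)) (tt N31097 F169309) (tt N31032 (iv7 D109292)))
theorem Q58414 : ∀ i, i < 58414 → P i := stepQ 58413 Q58413 (allL N58413 (tt N59808 (iv1 F174083)) (tt N31042 F173566) (tt N59753 (iv2 F173812)) (tt N91847 F394667) (tt N31033 (iv4 D109293)) (tt N62691 (iv5 F359482)) (tt N95347 D198414) (tt N59796 (iv7 F174050)))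
theorem Q58415 : ∀ i, i < 58415 → P i := stepQ 58414 Q58414 (allL N58414 (tt N59840 F174284) (tt N44296 (iv0 F169312)) (tt N44231 F169310) (tt N59699 (iv3 F173571)) (tt N95348 D198415) (tt N31033 (iv5 D109294)) (tt N44166 F169311) (tt N59797 (iv7 F174057)))
theorem Q58416 : ∀ i, i < 58416 → P i := stepQ 58415 Q58415 (allL N58415 (tt N31061 F169316) (tt N58741 F170558) (tt N31980 F169313) (tt N58375 F169314) (tt N95347 (iv4 F407944)) (tt N31788 F169317) (tt N31033 (iv6 D109295)) (tt N58375 F169315))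
theorem Q58417 : ∀ i, i < 58417 → P i := stepQ 58416 Q58416 (allL N58416 (tt N59788 (iv1 F174030)) (tt N31035 (iv0 D109296)) (tt N59787 (iv2 F175602)) (tt N73688 (iv3 F362618)) (tt N95349 D198416) (tt N71056 F362623) (tt N79633 (iv6 F362621)) (tt N59786 (iv7 F175604)))
theorem Q58418 : ∀ i, i < 58418 → P i := stepQ 58417 Q58417 (allL N58417 (tt N31035 (iv1 D109297)) (tt N59788 F174032) (tt N59786 F175603) (tt N59826 (iv3 F175600)) (tt N74659 (iv4 F228488)) (tt N71057 F353195) (tt N55167 F353193) (tt N59787 F175601))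
theorem Q58419 : ∀ i, i < 58419 → P i := stepQ 58418 Q58418 (allL N58418 (tt N59787 (iv1 F174031)) (tt N59786 F174027) (tt N31035 (iv2 D109298)) (tt N59780 (iv3 F174009)) (tt N66584 (iv4 F204592)) (tt N93659 (iv5 F401467)) (tt N95350 D198417) (tt N59788 (iv7 F174029)))
theorem Q58420 : ∀ i, i < 58420 → P i := stepQ 58419 Q58419 (allL N58419 (tt N95351 D198418) (tt N57080 (iv0 F349523)) (tt N93659 (iv2 F401466)) (tt N31036 F169318) (tt N74227 F349524) (tt N31035 (iv5 D109299)) (tt N95352 D198419) (tt N59789 (iv7 F174034)))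
theorem Q58421 : ∀ i, i < 58421 → P i := stepQ 58420 Q58420 (allL N58420 (tt N71733 F364565) (tt N49347 F364566) (tt N95350 (iv2 F407956)) (tt N31037 F169319) (tt N65647 (iv4 F202172)) (tt N95353 D198420) (tt N31035 (iv6 D109300)) (tt N95354 D198421))
theorem Q58422 : ∀ i, i < 58422 → P i := stepQ 58421 Q58421 (allL N58421 (tt N74118 F397194) (tt N74129 F397195) (tt N59783 (iv2 F174020)) (tt N95352 (iv3 F407969)) (tt N92337 (iv4 F396747)) (tt N95355 D198422) (tt N31036 (iv6 D109301)) (tt N74127 (iv7 F414068)))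
theorem Q58423 : ∀ i, i < 58423 → P i := stepQ 58422 Q58422 (allL N58422 (tt N31037 (iv1 D109302)) (tt N31097 F169320) (tt N59784 (iv2 F174024)) (tt N87760 F380409) (tt N32440 (iv4 F169322)) (tt N95356 D198424) (tt N59736 F173716) (tt N32438 F169321))
theorem Q58424 : ∀ i, i < 58424 → P i := stepQ 58423 Q58423 (allL N58423 (tt N88119 (iv1 F408860)) (tt N95357 D198426) (tt N59785 (iv2 F174025)) (tt N95353 (iv3 F407972)) (tt N95358 D198427) (tt N31037 (iv5 D109303)) (tt N95355 (iv6 F407977)) (tt N95359 D198428))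
theorem Q58425 : ∀ i, i < 58425 → P i := stepQ 58424 Q58424 (allL N58424 (tt N59784 (iv1 F174021)) (tt N32438 F169325) (tt N31097 F169323) (tt N95354 (iv3 F407974)) (tt N31039 F169324) (tt N95359 (iv5 F407986)) (tt N59795 (iv6 F174044)) (tt N31037 (iv7 D109304)))
theorem Q58426 : ∀ i, i < 58426 → P i := stepQ 58425 Q58425 (allL N58425 (tt N59800 (iv1 F174064)) (tt N31040 (iv0 D109306)) (tt N59799 F344712) (tt N51670 F344649) (tt N95360 D198429) (tt N44092 F347158) (tt N51668 (iv6 F344650)) (tt N59798 F344710))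
theorem Q58427 : ∀ i, i < 58427 → P i := stepQ 58426 Q58426 (allL N58426 (tt N31040 (iv1 D109307)) (tt N59800 F174066) (tt N59798 (iv2 F344711)) (tt N95361 D198430) (tt N95362 D198431) (tt N73658 F347155) (tt N95363 D198432) (tt N59799 (iv7 F344713)))
theorem Q58428 : ∀ i, i < 58428 → P i := stepQ 58427 Q58427 (allL N58427 (tt N59799 (iv1 F174065)) (tt N59798 F174060) (tt N31040 (iv2 D109308)) (tt N59805 (iv3 F174073)) (tt N72898 (iv4 F223541)) (tt N82129 (iv5 F347159)) (tt N95364 D198433) (tt N59800 (iv7 F174063)))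
theorem Q58429 : ∀ i, i < 58429 → P i := stepQ 58428 Q58428 (allL N58428 (tt N82130 F347167) (tt N82117 F347171) (tt N82129 F347160) (tt N31041 F169332) (tt N74496 (iv4 F347168)) (tt N31040 (iv5 D109309)) (tt N95365 D198434) (tt N58582 (iv7 F169715)))
theorem Q58430 : ∀ i, i < 58430 → P i := stepQ 58429 Q58429 (allL N58429 (tt N95366 D198435) (tt N58588 (iv0 F408272)) (tt N95364 (iv2 F407995)) (tt N31042 F169333) (tt N72899 (iv4 F223550)) (tt N95367 D198437) (tt N31040 (iv6 D109310)) (tt N95368 D198438))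
theorem Q58431 : ∀ i, i < 58431 → P i := stepQ 58430 Q58430 (allL N58430 (tt N95369 D198439) (tt N90565 (iv0 F390128)) (tt N58585 (iv2 F169719)) (tt N95365 (iv3 F407996)) (tt N72494 (iv4 F222610)) (tt N95370 D198440) (tt N31041 (iv6 D109311)) (tt N95371 D198441))
theorem Q58432 : ∀ i, i < 58432 → P i := stepQ 58431 Q58431 (allL N58431 (tt N95372 D198442) (tt N31898 (iv0 F169334)) (tt N59807 (iv2 F174079)) (tt N95367 (iv3 F407998)) (tt N95373 D198443) (tt N31042 (iv5 D109313)) (tt N95370 (iv6 F408010)) (tt N95374 D198444))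
theorem Q58433 : ∀ i, i < 58433 → P i := stepQ 58432 Q58432 (allL N58432 (tt N59796 (iv1 F174052)) (tt N59753 F174053) (tt N59808 (iv2 F174080)) (tt N95368 (iv3 F407999)) (tt N60759 (iv4 F176837)) (tt N95374 (iv5 F408028)) (tt N31094 F169337) (tt N31042 (iv7 D109314)))
theorem Q58434 : ∀ i, i < 58434 → P i := stepQ 58433 Q58433 (allL N58433 (tt N59805 (iv1 F174075)) (tt N31043 (iv0 D109315)) (tt N59804 (iv2 F373739)) (tt N95375 D198445) (tt N75596 (iv4 F232047)) (tt N95376 D198446) (tt N80072 (iv6 F357451)) (tt N59803 F373743))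
theorem Q58435 : ∀ i, i < 58435 → P i := stepQ 58434 Q58434 (allL N58434 (tt N31043 (iv1 D109316)) (tt N59805 F174077) (tt N59803 F373742) (tt N95377 D198447) (tt N75597 F232052) (tt N95378 D198448) (tt N95379 D198449) (tt N59804 (iv7 F373741)))
theorem Q58436 : ∀ i, i < 58436 → P i := stepQ 58435 Q58435 (allL N58435 (tt N59804 (iv1 F174076)) (tt N59803 F174072) (tt N31043 (iv2 D109317)) (tt N59800 (iv3 F174061)) (tt N42117 F169338) (tt N95380 D198450) (tt N95381 D198451) (tt N59805 (iv7 F174074)))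
theorem Q58437 : ∀ i, i < 58437 → P i := stepQ 58436 Q58436 (allL N58436 (tt N95382 D198452) (tt N95383 D198453) (tt N95380 (iv2 F408053)) (tt N31044 F169339) (tt N33187 F179941) (tt N31043 (iv5 D109318)) (tt N95384 D198454) (tt N58584 (iv7 F169718)))
theorem Q58438 : ∀ i, i < 58438 → P i := stepQ 58437 Q58437 (allL N58437 (tt N80165 (iv1 F353506)) (tt N79881 (iv0 F352214)) (tt N95381 (iv2 F408062)) (tt N31045 F169340) (tt N58861 (iv4 F171175)) (tt N95385 D198455) (tt N31043 (iv6 D109319)) (tt N81174 F340640))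
theorem Q58439 : ∀ i, i < 58439 → P i := stepQ 58438 Q58438 (allL N58438 (tt N95386 D198456) (tt N95387 D198457) (tt N58583 (iv2 F169716)) (tt N95384 (iv3 F408078)) (tt N92422 (iv4 F396961)) (tt N95388 D198458) (tt N31044 (iv6 D109320)) (tt N95389 D198459))
theorem Q58440 : ∀ i, i < 58440 → P i := stepQ 58439 Q58439 (allL N58439 (tt N95390 D198460) (tt N87392 (iv0 F379226)) (tt N59802 (iv2 F174070)) (tt N95385 (iv3 F408080)) (tt N95391 D198461) (tt N31045 (iv5 D109321)) (tt N95388 (iv6 F408081)) (tt N81175 F365863))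
theorem Q58441 : ∀ i, i < 58441 → P i := stepQ 58440 Q58440 (allL N58440 (tt N95377 F408038) (tt N95392 D198462) (tt N95393 D198463) (tt N31046 (iv3 D109324)) (tt N35644 F169346) (tt N68075 F349526) (tt N65734 F356156) (tt N59809 (iv7 F174084)))
theorem Q58442 : ∀ i, i < 58442 → P i := stepQ 58441 Q58441 (allL N58441 (tt N45692 F326127) (tt N45691 F326128) (tt N34635 F326129) (tt N65734 (iv3 F356155)) (tt N34631 F326130) (tt N80934 F326131) (tt N31046 (iv6 D109327)) (tt N45680 F326132))
theorem Q58443 : ∀ i, i < 58443 → P i := stepQ 58442 Q58442 (allL N58442 (tt N87815 (iv1 F380636)) (tt N51670 (iv0 F344648)) (tt N87814 F380628) (tt N31047 (iv3 D109329)) (tt N46347 F323177) (tt N95394 D198464) (tt N80812 F323178) (tt N59810 (iv7 F174094)))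
theorem Q58444 : ∀ i, i < 58444 → P i := stepQ 58443 Q58443 (allL N58443 (tt N31930 (iv1 F171332)) (tt N58576 F171339) (tt N58577 F171075) (tt N95394 (iv3 F408099)) (tt N89223 (iv4 F385665)) (tt N31047 (iv5 D109330)) (tt N90576 (iv6 F390151)) (tt N58578 F171072))
theorem Q58445 : ∀ i, i < 58445 → P i := stepQ 58444 Q58444 (allL N58444 (tt N54482 (iv1 F344538)) (tt N31049 (iv0 D109334)) (tt N54483 (iv2 F344535)) (tt N36673 F328446) (tt N39157 F328447) (tt N31126 F171079) (tt N36671 F328448) (tt N53401 (iv7 F344545)))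
theorem Q58446 : ∀ i, i < 58446 → P i := stepQ 58445 Q58445 (allL N58445 (tt N95395 D198465) (tt N54362 F365780) (tt N91001 (iv2 F391523)) (tt N31053 F169353) (tt N89291 (iv4 F385951)) (tt N79324 F365777) (tt N31049 (iv6 D109337)) (tt N95396 D198466))
theorem Q58447 : ∀ i, i < 58447 → P i := stepQ 58446 Q58446 (allL N58446 (tt N44092 F347149) (tt N73658 (iv0 F347154)) (tt N73625 F347150) (tt N31051 (iv3 D109342)) (tt N73318 F347151) (tt N31123 F169357) (tt N62472 F347152) (tt N59811 (iv7 F174118)))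
theorem Q58448 : ∀ i, i < 58448 → P i := stepQ 58447 Q58447 (allL N58447 (tt N92509 F397198) (tt N91097 (iv0 F391908)) (tt N59814 (iv2 F174124)) (tt N62472 (iv3 F336226)) (tt N69705 (iv4 F215919)) (tt N95397 D198467) (tt N31051 (iv6 D109343)) (tt N73622 F364292))
theorem Q58449 : ∀ i, i < 58449 → P i := stepQ 58448 Q58448 (allL N58448 (tt N95376 (iv1 F408035)) (tt N95378 (iv0 F408045)) (tt N62096 (iv2 F180009)) (tt N31052 (iv3 D109344)) (tt N62086 (iv4 F179992)) (tt N31125 F169358) (tt N95398 D198468) (tt N59813 (iv7 F174122)))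
theorem Q58450 : ∀ i, i < 58450 → P i := stepQ 58449 Q58449 (allL N58449 (tt N54474 F391447) (tt N90979 F391453) (tt N59812 (iv2 F174119)) (tt N95398 (iv3 F408118)) (tt N95319 (iv4 F407839)) (tt N59723 (iv5 F173702)) (tt N31052 (iv6 D109345)) (tt N90978 (iv7 F391442)))
theorem Q58451 : ∀ i, i < 58451 → P i := stepQ 58450 Q58450 (allL N58450 (tt N91634 (iv1 F393850)) (tt N31053 (iv0 D109346)) (tt N95305 (iv2 F461688)) (tt N95399 D198470) (tt N95400 D198471) (tt N95401 D198472) (tt N95402 D198473) (tt N95306 (iv7 F461686)))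
theorem Q58452 : ∀ i, i < 58452 → P i := stepQ 58451 Q58451 (allL N58451 (tt N31053 (iv1 D109347)) (tt N91634 F393849) (tt N95306 (iv2 F461685)) (tt N95403 D198475) (tt N95404 D198476) (tt N95405 D198477) (tt N95406 D198478) (tt N95305 (iv7 F461689)))
theorem Q58453 : ∀ i, i < 58453 → P i := stepQ 58452 Q58452 (allL N58452 (tt N95407 D198479) (tt N95408 D198480) (tt N95307 (iv2 F407797)) (tt N79324 (iv3 F365778)) (tt N95409 D198481) (tt N31053 (iv5 D109348)) (tt N31056 F169359) (tt N95410 D198482))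
theorem Q58454 : ∀ i, i < 58454 → P i := stepQ 58453 Q58453 (allL N58453 (tt N95306 (iv1 F407796)) (tt N95305 F407795) (tt N91634 (iv2 F393845)) (tt N95396 (iv3 F408109)) (tt N92507 (iv4 F397189)) (tt N95410 (iv5 F408133)) (tt N59820 (iv6 F174130)) (tt N31053 (iv7 D109349)))
theorem Q58455 : ∀ i, i < 58455 → P i := stepQ 58454 Q58454 (allL N58454 (tt N87818 F380650) (tt N95363 (iv0 F474550)) (tt N95411 D198484) (tt N31054 (iv3 D109351)) (tt N94678 (iv4 F405490)) (tt N95412 D198485) (tt N59728 (iv6 F173705)) (tt N94888 (iv7 F406252)))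
theorem Q58456 : ∀ i, i < 58456 → P i := stepQ 58455 Q58455 (allL N58455 (tt N55882 (iv1 F170698)) (tt N35569 F170674) (tt N32018 (iv2 F170670)) (tt N56733 F169361) (tt N31054 (iv4 D109352)) (tt N66075 F203319) (tt N55687 F170675) (tt N55881 F170666))
theorem Q58457 : ∀ i, i < 58457 → P i := stepQ 58456 Q58456 (allL N58456 (tt N58629 (iv1 F169859)) (tt N58659 F169918) (tt N58657 (iv2 F170700)) (tt N95412 (iv3 F408138)) (tt N95413 D198486) (tt N31054 (iv5 D109353)) (tt N95413 (iv6 F409020)) (tt N58656 (iv7 F170703)))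
theorem Q58458 : ∀ i, i < 58458 → P i := stepQ 58457 Q58457 (allL N58457 (tt N80072 (iv1 F408146)) (tt N70084 (iv0 F408144)) (tt N95414 D198490) (tt N31055 (iv3 D109356)) (tt N95415 D198491) (tt N95416 D198492) (tt N95417 D198493) (tt N95308 (iv7 F407803)))
theorem Q58459 : ∀ i, i < 58459 → P i := stepQ 58458 Q58458 (allL N58458 (tt N35569 F169871) (tt N55882 F169872) (tt N55881 F170672) (tt N31993 (iv3 F169364)) (tt N31055 (iv4 D109357)) (tt N37833 F169363) (tt N95418 D198494) (tt N32018 (iv7 F170658)))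
theorem Q58460 : ∀ i, i < 58460 → P i := stepQ 58459 Q58459 (allL N58459 (tt N58659 F169919) (tt N58629 F170704) (tt N58656 F170701) (tt N95416 (iv3 F408148)) (tt N95419 D198495) (tt N31055 (iv5 D109358)) (tt N95420 D198496) (tt N58657 F170663))
theorem Q58461 : ∀ i, i < 58461 → P i := stepQ 58460 Q58460 (allL N58460 (tt N58742 F220391) (tt N95347 F407946) (tt N95309 (iv2 F407807)) (tt N95417 (iv3 F408149)) (tt N95418 (iv4 F408153)) (tt N95421 D198497) (tt N31055 (iv6 D109359)) (tt N59732 (iv7 F173706)))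
theorem Q58462 : ∀ i, i < 58462 → P i := stepQ 58461 Q58461 (allL N58461 (tt N87986 F381391) (tt N31056 (iv0 D109360)) (tt N95310 F407814) (tt N95422 D198498) (tt N95423 D198499) (tt N31171 F173734) (tt N95424 D198500) (tt N95311 (iv7 F407817)))
theorem Q58463 : ∀ i, i < 58463 → P i := stepQ 58462 Q58462 (allL N58462 (tt N31056 (iv1 D109361)) (tt N87986 F381392) (tt N95311 F407819) (tt N95425 D198501) (tt N95426 D198502) (tt N31172 F169865) (tt N95427 D198503) (tt N95310 F407815))
theorem Q58464 : ∀ i, i < 58464 → P i := stepQ 58463 Q58463 (allL N58463 (tt N95428 D198504) (tt N95429 D198505) (tt N95312 (iv2 F407820)) (tt N95430 D198506) (tt N31056 (iv4 D109362)) (tt N95431 D198507) (tt N95409 (iv6 F408131)) (tt N95432 D198508))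
theorem Q58465 : ∀ i, i < 58465 → P i := stepQ 58464 Q58464 (allL N58464 (tt N95311 (iv1 F407816)) (tt N95310 F407813) (tt N87986 (iv2 F381387)) (tt N45795 F326236) (tt N95432 (iv4 F408168)) (tt N31057 F169365) (tt N87983 (iv6 F381374)) (tt N31056 (iv7 D109363)))
theorem Q58466 : ∀ i, i < 58466 → P i := stepQ 58465 Q58465 (allL N58465 (tt N31060 (iv1 F169370)) (tt N31059 (iv0 D109365)) (tt N91293 (iv2 F392587)) (tt N91300 (iv3 F392615)) (tt N60008 (iv4 F175194)) (tt N87367 (iv5 F379137)) (tt N59705 (iv6 F174004)) (tt N59777 F174003))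
theorem Q58467 : ∀ i, i < 58467 → P i := stepQ 58466 Q58466 (allL N58466 (tt N55173 F363499) (tt N64133 F363500) (tt N79655 F363501) (tt N31059 (iv3 D109366)) (tt N34754 F363502) (tt N91916 (iv5 F394947)) (tt N59737 (iv6 F173717)) (tt N79654 F363503))
theorem Q58468 : ∀ i, i < 58468 → P i := stepQ 58467 Q58467 (allL N58467 (tt N65939 (iv1 F202925)) (tt N95433 D198509) (tt N95313 (iv2 F407821)) (tt N91916 F394948) (tt N95434 D198510) (tt N31059 (iv5 D109367)) (tt N91915 (iv6 F394951)) (tt N95314 (iv7 F407825)))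
theorem Q58469 : ∀ i, i < 58469 → P i := stepQ 58468 Q58468 (allL N58468 (tt N79633 F365804) (tt N45463 F365805) (tt N79632 F365840) (tt N31060 (iv3 D109368)) (tt N92051 (iv4 F395553)) (tt N95435 D198511) (tt N95436 D198512) (tt N79631 F365838))
theorem Q58470 : ∀ i, i < 58470 → P i := stepQ 58469 Q58469 (allL N58469 (tt N95433 (iv1 F408170)) (tt N65939 (iv0 F202924)) (tt N95314 (iv2 F407824)) (tt N95435 (iv3 F408176)) (tt N95437 D198513) (tt N31060 (iv5 D109369)) (tt N95438 D198514) (tt N95313 (iv7 F407822)))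
theorem Q58471 : ∀ i, i < 58471 → P i := stepQ 58470 Q58470 (allL N58470 (tt N71705 F220399) (tt N95342 (iv0 F407929)) (tt N95315 (iv2 F407827)) (tt N95436 (iv3 F408179)) (tt N31061 F169371) (tt N95439 D198515) (tt N31060 (iv6 D109370)) (tt N59744 (iv7 F173742)))
theorem Q58472 : ∀ i, i < 58472 → P i := stepQ 58471 Q58471 (allL N58471 (tt N58539 F169618) (tt N47880 F325564) (tt N31977 (iv2 F170456)) (tt N94835 F406103) (tt N31062 (iv4 D109373)) (tt N94555 (iv5 F404957)) (tt N34672 F325565) (tt N31969 F170455))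
theorem Q58473 : ∀ i, i < 58473 → P i := stepQ 58472 Q58472 (allL N58472 (tt N47880 F326103) (tt N58539 F170457) (tt N31969 (iv2 F170452)) (tt N72896 (iv3 F223537)) (tt N31063 (iv4 D109378)) (tt N57853 F343160) (tt N47911 F326104) (tt N31977 (iv7 F170451)))
theorem Q58474 : ∀ i, i < 58474 → P i := stepQ 58473 Q58473 (allL N58473 (tt N31107 F170934) (tt N58699 F170935) (tt N31970 (iv2 F170453)) (tt N34730 F326105) (tt N47911 F326106) (tt N34463 F326107) (tt N31063 (iv6 D109380)) (tt N34462 F326108))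
theorem Q58475 : ∀ i, i < 58475 → P i := stepQ 58474 Q58474 (allL N58474 (tt N48491 (iv1 F325569)) (tt N58829 F170852) (tt N31067 F169384) (tt N94783 (iv3 F405911)) (tt N31066 (iv4 D109398)) (tt N65759 (iv5 F202355)) (tt N65092 F325530) (tt N58830 (iv7 F170854)))
theorem Q58476 : ∀ i, i < 58476 → P i := stepQ 58475 Q58475 (allL N58475 (tt N31067 (iv1 D109401)) (tt N58830 F170857) (tt N58829 F170955) (tt N95440 D198516) (tt N31200 (iv4 F169603)) (tt N35722 (iv5 F170864)) (tt N48451 F324604) (tt N48491 (iv7 F325570)))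
theorem Q58477 : ∀ i, i < 58477 → P i := stepQ 58476 Q58476 (allL N58476 (tt N65761 F202360) (tt N59947 (iv0 F174934)) (tt N65759 F202356) (tt N32026 F169387) (tt N95441 D198517) (tt N31067 (iv5 D109402)) (tt N95442 D198518) (tt N58831 (iv7 F170869)))
theorem Q58478 : ∀ i, i < 58478 → P i := stepQ 58477 Q58477 (allL N58477 (tt N46373 F321834) (tt N46391 F321835) (tt N46408 (iv2 F323508)) (tt N95443 D198519) (tt N31068 (iv4 D109409)) (tt N41606 F319959) (tt N46408 (iv6 F323509)) (tt N46361 (iv7 F323512)))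
theorem Q58479 : ∀ i, i < 58479 → P i := stepQ 58478 Q58478 (allL N58478 (tt N31070 (iv1 F169412)) (tt N31069 (iv0 D109422)) (tt N59826 F174155) (tt N73686 F344501) (tt N45462 F325205) (tt N73684 (iv5 F344514)) (tt N64233 F325206) (tt N45460 F325207))
theorem Q58480 : ∀ i, i < 58480 → P i := stepQ 58479 Q58479 (allL N58479 (tt N91294 F392594) (tt N95444 D198520) (tt N75600 (iv2 F232086)) (tt N31069 (iv3 D109424)) (tt N58884 (iv4 F171242)) (tt N62111 F349841) (tt N80923 F365998) (tt N59827 (iv7 F174157)))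
theorem Q58481 : ∀ i, i < 58481 → P i := stepQ 58480 Q58480 (allL N58480 (tt N95445 D198521) (tt N47649 F325900) (tt N54412 (iv2 F349502)) (tt N62111 (iv3 F349842)) (tt N95446 D198522) (tt N31069 (iv5 D109425)) (tt N53391 F349517) (tt N59828 (iv7 F174159)))
theorem Q58482 : ∀ i, i < 58482 → P i := stepQ 58481 Q58481 (allL N58481 (tt N92329 (iv1 F396726)) (tt N59778 (iv0 F174007)) (tt N92328 (iv2 F396725)) (tt N31070 (iv3 D109444)) (tt N82425 F366011) (tt N95447 D198523) (tt N80810 F365999) (tt N59830 (iv7 F174182)))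
theorem Q58483 : ∀ i, i < 58483 → P i := stepQ 58482 Q58482 (allL N58482 (tt N47649 F325898) (tt N95445 F408209) (tt N59828 (iv2 F174158)) (tt N95447 (iv3 F408217)) (tt N95448 D198524) (tt N31070 (iv5 D109445)) (tt N95449 D198525) (tt N54412 (iv7 F349505)))
theorem Q58484 : ∀ i, i < 58484 → P i := stepQ 58483 Q58483 (allL N58483 (tt N59329 (iv1 F172625)) (tt N31072 (iv0 D109497)) (tt N59452 F172911) (tt N95450 D198526) (tt N58982 F171668) (tt N57746 (iv5 F336669)) (tt N57748 (iv6 F336685)) (tt N58980 (iv7 F171669)))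
theorem Q58485 : ∀ i, i < 58485 → P i := stepQ 58484 Q58484 (allL N58484 (tt N57928 F169457) (tt N58288 F169458) (tt N58286 F169455) (tt N44663 F326835) (tt N49448 F326836) (tt N31072 (iv5 D109499)) (tt N78070 (iv6 F343819)) (tt N58285 F169456))
theorem Q58486 : ∀ i, i < 58486 → P i := stepQ 58485 Q58485 (allL N58485 (tt N44152 (iv1 F169468)) (tt N31074 (iv0 D109512)) (tt N44151 (iv2 F174373)) (tt N88175 (iv3 F382024)) (tt N95451 D198527) (tt N66689 F347760) (tt N80250 F346890) (tt N44150 F174374))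
theorem Q58487 : ∀ i, i < 58487 → P i := stepQ 58486 Q58486 (allL N58486 (tt N31074 (iv1 D109513)) (tt N44152 (iv0 F169470)) (tt N44150 F174372) (tt N59880 F174370) (tt N35714 (iv4 F169469)) (tt N66688 (iv5 F347764)) (tt N62666 (iv6 F346884)) (tt N44151 (iv7 F174371)))
theorem Q58488 : ∀ i, i < 58488 → P i := stepQ 58487 Q58487 (allL N58487 (tt N44151 (iv1 F169473)) (tt N44150 F169472) (tt N31074 (iv2 D109514)) (tt N59679 (iv3 F173476)) (tt N65656 (iv4 F202190)) (tt N74811 (iv5 F229240)) (tt N91971 (iv6 F395187)) (tt N44152 F169471))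
theorem Q58489 : ∀ i, i < 58489 → P i := stepQ 58488 Q58488 (allL N58488 (tt N71732 (iv1 F364560)) (tt N71735 (iv0 F359232)) (tt N74811 (iv2 F229238)) (tt N31075 F169474) (tt N92658 (iv4 F397791)) (tt N31074 (iv5 D109515)) (tt N95452 D198528) (tt N44153 F169475))
theorem Q58490 : ∀ i, i < 58490 → P i := stepQ 58489 Q58489 (allL N58489 (tt N91519 F393452) (tt N95453 D198529) (tt N91971 (iv2 F395185)) (tt N31076 F169476) (tt N65657 (iv4 F202196)) (tt N95454 D198530) (tt N31074 (iv6 D109516)) (tt N59769 (iv7 F173978)))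
theorem Q58491 : ∀ i, i < 58491 → P i := stepQ 58490 Q58490 (allL N58490 (tt N91317 (iv1 F392700)) (tt N91316 F392693) (tt N59681 (iv2 F173485)) (tt N95452 (iv3 F408243)) (tt N48123 F347907) (tt N88232 (iv5 F382287)) (tt N31075 (iv6 D109517)) (tt N91312 (iv7 F392674)))
theorem Q58492 : ∀ i, i < 58492 → P i := stepQ 58491 Q58491 (allL N58491 (tt N95298 (iv1 F407772)) (tt N95297 F407769) (tt N59684 (iv2 F173495)) (tt N95454 (iv3 F408244)) (tt N95455 D198531) (tt N31076 (iv5 D109518)) (tt N88232 (iv6 F382288)) (tt N59771 (iv7 F173982)))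
theorem Q58493 : ∀ i, i < 58493 → P i := stepQ 58492 Q58492 (allL N58492 (tt N81178 F365445) (tt N81177 F365861) (tt N31095 F169482) (tt N51834 (iv3 F364879)) (tt N95456 D198532) (tt N31079 (iv5 D109525)) (tt N87202 (iv6 F378746)) (tt N81176 F365446))
theorem Q58494 : ∀ i, i < 58494 → P i := stepQ 58493 Q58493 (allL N58493 (tt N59709 (iv1 F173618)) (tt N31080 (iv0 D109532)) (tt N59708 F204865) (tt N44585 F169495) (tt N95457 D198533) (tt N44584 F169494) (tt N95458 D198534) (tt N59707 F204863))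
theorem Q58495 : ∀ i, i < 58495 → P i := stepQ 58494 Q58494 (allL N58494 (tt N31080 (iv1 D109533)) (tt N59709 F173620) (tt N59707 (iv2 F204864)) (tt N95459 D198535) (tt N95460 D198536) (tt N95461 D198537) (tt N95462 D198538) (tt N59708 (iv7 F204866)))
theorem Q58496 : ∀ i, i < 58496 → P i := stepQ 58495 Q58495 (allL N58495 (tt N59708 (iv1 F173619)) (tt N59707 F173615) (tt N31080 (iv2 D109534)) (tt N59713 (iv3 F173627)) (tt N59421 (iv4 F172874)) (tt N66743 (iv5 F205316)) (tt N87703 (iv6 F380194)) (tt N59709 (iv7 F173617)))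
theorem Q58497 : ∀ i, i < 58497 → P i := stepQ 58496 Q58496 (allL N58496 (tt N51651 (iv1 F318881)) (tt N87795 F380537) (tt N66743 (iv2 F205315)) (tt N31081 F169496) (tt N95463 D198539) (tt N31080 (iv5 D109535)) (tt N48755 F354557) (tt N58646 (iv7 F169905)))
theorem Q58498 : ∀ i, i < 58498 → P i := stepQ 58497 Q58497 (allL N58497 (tt N51668 F361848) (tt N87816 F380641) (tt N87703 (iv2 F380193)) (tt N31082 F169497) (tt N59423 (iv4 F172877)) (tt N48904 F354564) (tt N31080 (iv6 D109536)) (tt N59821 (iv7 F174132)))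
theorem Q58499 : ∀ i, i < 58499 → P i := stepQ 58498 Q58498 (allL N58498 (tt N59713 (iv1 F173630)) (tt N31083 (iv0 D109539)) (tt N59712 F228565) (tt N87719 F380251) (tt N79791 (iv4 F360148)) (tt N73776 (iv5 F225729)) (tt N80165 F360149) (tt N59711 (iv7 F228564)))
theorem Q58500 : ∀ i, i < 58500 → P i := stepQ 58499 Q58499 (allL N58499 (tt N31083 (iv1 D109540)) (tt N59713 F173632) (tt N59711 (iv2 F228563)) (tt N95464 D198540) (tt N50706 F360145) (tt N73813 (iv5 F225903)) (tt N50705 (iv6 F351022)) (tt N59712 F228566))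
theorem Q58501 : ∀ i, i < 58501 → P i := stepQ 58500 Q58500 (allL N58500 (tt N59712 (iv1 F173631)) (tt N59711 F173626) (tt N31083 (iv2 D109541)) (tt N59709 (iv3 F173616)) (tt N58772 (iv4 F170723)) (tt N56028 F169498) (tt N95465 D198541) (tt N59713 (iv7 F173629)))
theorem Q58502 : ∀ i, i < 58502 → P i := stepQ 58501 Q58501 (allL N58501 (tt N81783 (iv1 F349881)) (tt N81784 F349880) (tt N95465 (iv2 F408284)) (tt N31085 F169499) (tt N58774 (iv4 F170726)) (tt N95465 (iv5 F408286)) (tt N31083 (iv6 D109542)) (tt N95466 D198542))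
theorem Q58503 : ∀ i, i < 58503 → P i := stepQ 58502 Q58502 (allL N58502 (tt N87795 (iv1 F380536)) (tt N51651 F354581) (tt N58646 (iv2 F354554)) (tt N56028 (iv3 F321628)) (tt N58862 (iv4 F171176)) (tt N59709 F354568) (tt N31084 (iv6 D109543)) (tt N66743 (iv7 F354566)))
theorem Q58504 : ∀ i, i < 58504 → P i := stepQ 58503 Q58503 (allL N58503 (tt N58601 F169732) (tt N58562 (iv0 F169685)) (tt N58598 F169728) (tt N95465 (iv3 F408285)) (tt N95467 D198543) (tt N31085 (iv5 D109544)) (tt N59709 (iv6 F354553)) (tt N58599 (iv7 F169729)))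
theorem Q58505 : ∀ i, i < 58505 → P i := stepQ 58504 Q58504 (allL N58504 (tt N59700 F173580) (tt N59698 (iv0 F173569)) (tt N59710 (iv2 F173622)) (tt N95466 (iv3 F408288)) (tt N58769 (iv4 F170720)) (tt N58599 F169730) (tt N58891 (iv6 F171260)) (tt N31085 (iv7 D109545)))
theorem Q58506 : ∀ i, i < 58506 → P i := stepQ 58505 Q58505 (allL N58505 (tt N95464 F408282) (tt N95468 D198544) (tt N51635 (iv2 F318878)) (tt N31086 (iv3 D109547)) (tt N55691 F169501) (tt N51630 (iv5 F318877)) (tt N51631 (iv6 F356012)) (tt N59715 (iv7 F173635)))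
theorem Q58507 : ∀ i, i < 58507 → P i := stepQ 58506 Q58506 (allL N58506 (tt N36296 F171278) (tt N59718 F173656) (tt N31089 F169503) (tt N52465 (iv3 F361108)) (tt N54715 (iv4 F324384)) (tt N31088 (iv5 D109553)) (tt N52463 F361107) (tt N59717 (iv7 F173649)))
theorem Q58508 : ∀ i, i < 58508 → P i := stepQ 58507 Q58507 (allL N58507 (tt N31089 (iv1 D109556)) (tt N59717 (iv0 F173650)) (tt N59718 F173655) (tt N36299 (iv3 F169507)) (tt N49727 (iv4 F329748)) (tt N31164 F169506) (tt N95469 D198545) (tt N36296 F169508))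
theorem Q58509 : ∀ i, i < 58509 → P i := stepQ 58508 Q58508 (allL N58508 (tt N44584 F169516) (tt N95461 F408269) (tt N92556 (iv2 F397354)) (tt N31090 (iv3 D109563)) (tt N95470 D198546) (tt N31160 F169515) (tt N87190 F378647) (tt N59720 (iv7 F173665)))
theorem Q58510 : ∀ i, i < 58510 → P i := stepQ 58509 Q58509 (allL N58509 (tt N48908 F361285) (tt N84343 (iv0 F368994)) (tt N59723 (iv2 F173701)) (tt N87190 F378645) (tt N58851 (iv4 F171155)) (tt N59812 (iv5 F174120)) (tt N31090 (iv6 D109564)) (tt N88530 (iv7 F383427)))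
theorem Q58511 : ∀ i, i < 58511 → P i := stepQ 58510 Q58510 (allL N58510 (tt N95471 D198547) (tt N48125 F351354) (tt N59721 (iv2 F173666)) (tt N92549 (iv3 F397336)) (tt N57495 F169517) (tt N95472 D198548) (tt N31091 (iv6 D109565)) (tt N95473 D198549))
theorem Q58512 : ∀ i, i < 58512 → P i := stepQ 58511 Q58511 (allL N58511 (tt N82459 (iv1 F361320)) (tt N82458 F361322) (tt N79786 F348474) (tt N31092 (iv3 D109566)) (tt N91116 (iv4 F392000)) (tt N31990 F169518) (tt N95474 D198550) (tt N48013 F328398))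
theorem Q58513 : ∀ i, i < 58513 → P i := stepQ 58512 Q58512 (allL N58512 (tt N69132 (iv1 F348892)) (tt N50757 (iv0 F348893)) (tt N32014 F169519) (tt N95474 (iv3 F408322)) (tt N31093 F169520) (tt N69124 F348891) (tt N31092 (iv6 D109567)) (tt N69123 (iv7 F348889)))
theorem Q58514 : ∀ i, i < 58514 → P i := stepQ 58513 Q58513 (allL N58513 (tt N52466 (iv1 F361148)) (tt N31093 (iv0 D109568)) (tt N87201 F378741) (tt N87282 F378972) (tt N95475 D198551) (tt N95476 D198552) (tt N87282 F378973) (tt N82938 F362086))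
theorem Q58515 : ∀ i, i < 58515 → P i := stepQ 58514 Q58514 (allL N58514 (tt N31093 (iv1 D109569)) (tt N52466 F348959) (tt N82938 F362075) (tt N42591 F362076) (tt N95477 D198553) (tt N95478 D198554) (tt N42590 F362077) (tt N87201 (iv7 F378743)))
theorem Q58516 : ∀ i, i < 58516 → P i := stepQ 58515 Q58515 (allL N58515 (tt N95479 D198555) (tt N95480 D198556) (tt N87202 (iv2 F378744)) (tt N81190 F348935) (tt N95481 D198557) (tt N31093 (iv5 D109570)) (tt N31095 F169521) (tt N95482 D198558))
theorem Q58517 : ∀ i, i < 58517 → P i := stepQ 58516 Q58516 (allL N58516 (tt N82938 F361182) (tt N87201 F378742) (tt N52466 F348953) (tt N87205 (iv3 F378757)) (tt N69123 F348890) (tt N95482 (iv5 F408344)) (tt N59727 (iv6 F173704)) (tt N31093 (iv7 D109571)))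
theorem Q58518 : ∀ i, i < 58518 → P i := stepQ 58517 Q58517 (allL N58517 (tt N95483 D198559) (tt N95462 (iv0 F414148)) (tt N95484 D198561) (tt N31094 (iv3 D109572)) (tt N59486 (iv4 F172990)) (tt N95485 D198562) (tt N95368 (iv6 F408001)) (tt N59801 F174069))
theorem Q58519 : ∀ i, i < 58519 → P i := stepQ 58518 Q58518 (allL N58518 (tt N87392 F379225) (tt N95390 F408084) (tt N81175 (iv2 F365862)) (tt N95485 (iv3 F408348)) (tt N95486 D198563) (tt N31094 (iv5 D109573)) (tt N95487 D198564) (tt N59802 (iv7 F174071)))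
theorem Q58520 : ∀ i, i < 58520 → P i := stepQ 58519 Q58519 (allL N58519 (tt N81176 (iv1 F365988)) (tt N31095 (iv0 D109574)) (tt N81178 (iv2 F408358)) (tt N95488 D198566) (tt N95489 D198567) (tt N95490 D198568) (tt N95491 D198569) (tt N81177 F408356))
theorem Q58521 : ∀ i, i < 58521 → P i := stepQ 58520 Q58520 (allL N58520 (tt N31095 (iv1 D109575)) (tt N81176 F365449) (tt N81177 (iv2 F408357)) (tt N95492 D198570) (tt N95493 D198571) (tt N95494 D198572) (tt N95495 D198573) (tt N81178 (iv7 F408359)))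
theorem Q58522 : ∀ i, i < 58522 → P i := stepQ 58521 Q58521 (allL N58521 (tt N95496 D198574) (tt N95497 D198575) (tt N95456 (iv2 F408246)) (tt N94880 F406230) (tt N31095 (iv4 D109576)) (tt N95498 D198576) (tt N95481 (iv6 F408342)) (tt N81179 F365987))
theorem Q58523 : ∀ i, i < 58523 → P i := stepQ 58522 Q58522 (allL N58522 (tt N31349 F169525) (tt N31322 (iv0 F169526)) (tt N31347 F169523) (tt N80361 (iv3 F344633)) (tt N31096 (iv4 D109578)) (tt N46852 F326951) (tt N60094 (iv6 F175543)) (tt N31276 F169524))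
theorem Q58524 : ∀ i, i < 58524 → P i := stepQ 58523 Q58523 (allL N58523 (tt N95499 D198577) (tt N84630 F369926) (tt N80364 F344635) (tt N31097 (iv3 D109579)) (tt N80361 (iv4 F344634)) (tt N88142 (iv5 F381907)) (tt N95337 (iv6 F407902)) (tt N59782 F174019))
theorem Q58525 : ∀ i, i < 58525 → P i := stepQ 58524 Q58524 (allL N58524 (tt N95357 (iv1 F407981)) (tt N88119 (iv0 F408859)) (tt N95359 (iv2 F407985)) (tt N88142 (iv3 F381911)) (tt N95500 D198578) (tt N31097 (iv5 D109580)) (tt N95501 D198579) (tt N59785 (iv7 F174026)))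
theorem Q58526 : ∀ i, i < 58526 → P i := stepQ 58525 Q58525 (allL N58525 (tt N39444 F169531) (tt N39118 F169553) (tt N39426 F169529) (tt N90557 (iv3 F390093)) (tt N31098 (iv4 D109582)) (tt N95502 D198580) (tt N71027 (iv6 F219301)) (tt N39427 F169530))
theorem Q58527 : ∀ i, i < 58527 → P i := stepQ 58526 Q58526 (allL N58526 (tt N39307 F169541) (tt N31236 (iv0 F169542)) (tt N31143 F169538) (tt N71354 (iv3 F219928)) (tt N95503 D198581) (tt N31098 (iv5 D109583)) (tt N31121 F169539) (tt N31176 F169540))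
theorem Q58528 : ∀ i, i < 58528 → P i := stepQ 58527 Q58527 (allL N58527 (tt N32258 F169546) (tt N38191 F169547) (tt N39516 (iv2 F169545)) (tt N31099 (iv3 D109584)) (tt N62631 (iv4 F182881)) (tt N92035 (iv5 F395462)) (tt N38177 F169543) (tt N39425 F169544))
theorem Q58529 : ∀ i, i < 58529 → P i := stepQ 58528 Q58528 (allL N58528 (tt N39118 F169551) (tt N39444 (iv0 F169552)) (tt N39427 F169549) (tt N86326 (iv3 F375836)) (tt N31099 (iv4 D109585)) (tt N86325 F375832) (tt N62896 (iv6 F327697)) (tt N39426 F169550))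
theorem Q58530 : ∀ i, i < 58530 → P i := stepQ 58529 Q58529 (allL N58529 (tt N31236 F169557) (tt N39307 (iv0 F169558)) (tt N31176 F169554) (tt N92035 (iv3 F395461)) (tt N95504 D198582) (tt N31099 (iv5 D109586)) (tt N31158 F169555) (tt N31143 F169556))
theorem Q58531 : ∀ i, i < 58531 → P i := stepQ 58530 Q58530 (allL N58530 (tt N39424 (iv1 F169566)) (tt N31100 (iv0 D109587)) (tt N39421 (iv2 F202608)) (tt N95505 D198583) (tt N41463 F169568) (tt N95506 D198584) (tt N95507 D198585) (tt N39422 (iv7 F202614)))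
theorem Q58532 : ∀ i, i < 58532 → P i := stepQ 58531 Q58531 (allL N58531 (tt N31100 (iv1 D109588)) (tt N39424 F169559) (tt N39422 F202613) (tt N95508 D198586) (tt N41464 (iv4 F202611)) (tt N95509 D198587) (tt N33709 F328827) (tt N39421 F202612))
theorem Q58533 : ∀ i, i < 58533 → P i := stepQ 58532 Q58532 (allL N58532 (tt N91532 (iv1 F393518)) (tt N95510 D198588) (tt N95511 D198589) (tt N31100 (iv3 D109589)) (tt N31111 F169560) (tt N95512 D198590) (tt N31102 F169561) (tt N95513 D198591))
theorem Q58534 : ∀ i, i < 58534 → P i := stepQ 58533 Q58533 (allL N58533 (tt N71245 F219660) (tt N70857 (iv0 F218605)) (tt N39423 F169562) (tt N95512 (iv3 F408422)) (tt N95514 D198592) (tt N31100 (iv5 D109590)) (tt N70388 (iv6 F327502)) (tt N71243 (iv7 F219657)))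
theorem Q58535 : ∀ i, i < 58535 → P i := stepQ 58534 Q58534 (allL N58534 (tt N39422 (iv1 F169567)) (tt N39421 F169569) (tt N39424 F169563) (tt N95513 (iv3 F408423)) (tt N31101 F169564) (tt N71243 (iv5 F219658)) (tt N39285 F169565) (tt N31100 (iv7 D109591)))
theorem Q58536 : ∀ i, i < 58536 → P i := stepQ 58535 Q58535 (allL N58535 (tt N39430 (iv1 F169570)) (tt N31102 (iv0 D109592)) (tt N39429 F177224) (tt N93871 (iv3 F402229)) (tt N40443 (iv4 F169571)) (tt N39786 (iv5 F169575)) (tt N95515 D198593) (tt N39428 (iv7 F177223)))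
theorem Q58537 : ∀ i, i < 58537 → P i := stepQ 58536 Q58536 (allL N58536 (tt N31102 (iv1 D109593)) (tt N39430 (iv0 F169573)) (tt N39428 (iv2 F177225)) (tt N95516 D198594) (tt N40236 (iv4 F169572)) (tt N39785 (iv5 F169671)) (tt N34039 F322630) (tt N39429 (iv7 F177220)))
theorem Q58538 : ∀ i, i < 58538 → P i := stepQ 58537 Q58537 (allL N58537 (tt N39429 (iv1 F169580)) (tt N39428 F169579) (tt N31102 (iv2 D109594)) (tt N39419 F169576) (tt N31116 F169577) (tt N69837 (iv5 F327508)) (tt N95511 (iv6 F408421)) (tt N39430 F169578))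
theorem Q58539 : ∀ i, i < 58539 → P i := stepQ 58538 Q58538 (allL N58538 (tt N72734 (iv1 F223045)) (tt N87458 (iv0 F379398)) (tt N87088 (iv2 F378332)) (tt N31103 (iv3 D109607)) (tt N58804 (iv4 F170787)) (tt N36330 F182588) (tt N55108 (iv6 F353242)) (tt N59757 (iv7 F173849)))
theorem Q58540 : ∀ i, i < 58540 → P i := stepQ 58539 Q58539 (allL N58539 (tt N58472 (iv1 F170457)) (tt N58471 (iv0 F169618)) (tt N58091 F170782) (tt N95517 D198595) (tt N31104 (iv4 D109619)) (tt N95131 (iv5 F407169)) (tt N59520 (iv6 F360043)) (tt N59759 (iv7 F173873)))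
theorem Q58541 : ∀ i, i < 58541 → P i := stepQ 58540 Q58540 (allL N58540 (tt N71718 (iv1 F220412)) (tt N59691 (iv0 F173534)) (tt N71717 (iv2 F351018)) (tt N31105 (iv3 D109621)) (tt N95517 (iv4 F408439)) (tt N89883 (iv5 F387858)) (tt N80786 (iv6 F346339)) (tt N59760 (iv7 F173878)))
theorem Q58542 : ∀ i, i < 58542 → P i := stepQ 58541 Q58541 (allL N58541 (tt N89903 (iv1 F387921)) (tt N59957 (iv0 F174965)) (tt N59758 (iv2 F173850)) (tt N89883 (iv3 F387857)) (tt N91002 (iv4 F391532)) (tt N31105 (iv5 D109622)) (tt N89883 (iv6 F387859)) (tt N59761 (iv7 F173881)))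
theorem Q58543 : ∀ i, i < 58543 → P i := stepQ 58542 Q58542 (allL N58542 (tt N33221 F169647) (tt N40372 (iv0 F169648)) (tt N40358 F169645) (tt N74258 (iv3 F227175)) (tt N31108 (iv4 D109671)) (tt N59666 F337412) (tt N69558 (iv6 F214870)) (tt N40193 F169646))
theorem Q58544 : ∀ i, i < 58544 → P i := stepQ 58543 Q58543 (allL N58543 (tt N41277 F322270) (tt N33546 F322271) (tt N41275 F323203) (tt N31109 (iv3 D109672)) (tt N95518 D198596) (tt N78688 F316637) (tt N43406 F316638) (tt N40190 F169651))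
theorem Q58545 : ∀ i, i < 58545 → P i := stepQ 58544 Q58544 (allL N58544 (tt N33478 F342461) (tt N41549 F342462) (tt N41547 F326750) (tt N31110 (iv3 D109674)) (tt N93523 (iv4 F401020)) (tt N75008 (iv5 F342460)) (tt N63010 (iv6 F316117)) (tt N40188 F169656))
theorem Q58546 : ∀ i, i < 58546 → P i := stepQ 58545 Q58545 (allL N58545 (tt N95519 D198597) (tt N31111 (iv0 D109676)) (tt N95520 D198598) (tt N95521 D198599) (tt N89168 (iv4 F385422)) (tt N53333 (iv5 F332525)) (tt N53334 F332524) (tt N75564 (iv7 F353443)))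
theorem Q58547 : ∀ i, i < 58547 → P i := stepQ 58546 Q58546 (allL N58546 (tt N31111 (iv1 D109677)) (tt N95519 F408454) (tt N75564 (iv2 F334951)) (tt N74968 F334949) (tt N95522 D198600) (tt N74966 (iv5 F334948)) (tt N69560 F334950) (tt N95520 (iv7 F408460)))
theorem Q58548 : ∀ i, i < 58548 → P i := stepQ 58547 Q58547 (allL N58547 (tt N95520 (iv1 F408461)) (tt N75564 F353446) (tt N31111 (iv2 D109678)) (tt N40178 F169661) (tt N95511 (iv4 F408420)) (tt N72377 (iv5 F222316)) (tt N31116 F169662) (tt N95519 (iv7 F408455)))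
theorem Q58549 : ∀ i, i < 58549 → P i := stepQ 58548 Q58548 (allL N58548 (tt N41807 F334952) (tt N72347 (iv0 F222254)) (tt N72377 F222317) (tt N31112 F169663) (tt N91309 (iv4 F392653)) (tt N31111 (iv5 D109679)) (tt N73716 (iv6 F225502)) (tt N72333 (iv7 F222154)))
theorem Q58550 : ∀ i, i < 58550 → P i := stepQ 58549 Q58549 (allL N58549 (tt N75564 F353444) (tt N95520 F408462) (tt N95519 F408453) (tt N31113 F169664) (tt N95513 (iv4 F408424)) (tt N72333 (iv5 F222153)) (tt N39921 F169665) (tt N31111 (iv7 D109680)))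
theorem Q58551 : ∀ i, i < 58551 → P i := stepQ 58550 Q58550 (allL N58550 (tt N33479 F182581) (tt N41539 (iv0 F180129)) (tt N41538 (iv2 F205127)) (tt N31114 (iv3 D109683)) (tt N41238 F169673) (tt N33775 F169672) (tt N95523 D198601) (tt N40198 (iv7 F205128)))
theorem Q58552 : ∀ i, i < 58552 → P i := stepQ 58551 Q58551 (allL N58551 (tt N62234 F180300) (tt N39545 (iv0 F182582)) (tt N40201 F205155) (tt N95524 D198602) (tt N31114 (iv4 D109684)) (tt N95525 D198603) (tt N95526 D198604) (tt N40199 F205153))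
theorem Q58553 : ∀ i, i < 58553 → P i := stepQ 58552 Q58552 (allL N58552 (tt N40492 F209607) (tt N31153 F209608) (tt N40202 (iv2 F205170)) (tt N95523 (iv3 F408472)) (tt N95526 (iv4 F408490)) (tt N48080 F313707) (tt N31114 (iv6 D109685)) (tt N34036 (iv7 F314636)))
theorem Q58554 : ∀ i, i < 58554 → P i := stepQ 58553 Q58553 (allL N58553 (tt N39545 F180638) (tt N62234 F180640) (tt N40199 (iv2 F205154)) (tt N39445 (iv3 F169677)) (tt N31115 (iv4 D109688)) (tt N95527 D198605) (tt N34037 F321290) (tt N40201 (iv7 F205156)))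
theorem Q58555 : ∀ i, i < 58555 → P i := stepQ 58554 Q58554 (allL N58554 (tt N59892 (iv1 F174514)) (tt N31117 (iv0 D109690)) (tt N59891 F358438) (tt N95528 D198606) (tt N75415 (iv4 F231450)) (tt N91643 (iv5 F393871)) (tt N83525 (iv6 F363523)) (tt N59890 (iv7 F358440)))
theorem Q58556 : ∀ i, i < 58556 → P i := stepQ 58555 Q58555 (allL N58555 (tt N31117 (iv1 D109691)) (tt N59892 F174516) (tt N59890 (iv2 F358441)) (tt N92089 F395696) (tt N55217 (iv4 F321387)) (tt N91642 (iv5 F393867)) (tt N59833 F348788) (tt N59891 (iv7 F358436)))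
theorem Q58557 : ∀ i, i < 58557 → P i := stepQ 58556 Q58556 (allL N58556 (tt N59891 (iv1 F174515)) (tt N59890 F174510) (tt N31117 (iv2 D109692)) (tt N31128 F169678) (tt N52223 (iv4 F337325)) (tt N95529 D198607) (tt N47151 F325259) (tt N59892 (iv7 F174513)))
theorem Q58558 : ∀ i, i < 58558 → P i := stepQ 58557 Q58557 (allL N58557 (tt N88188 (iv1 F382090)) (tt N95530 D198608) (tt N95529 (iv2 F408504)) (tt N31118 F169679) (tt N93936 (iv4 F402488)) (tt N31117 (iv5 D109693)) (tt N93934 F402482) (tt N59893 (iv7 F174518)))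
theorem Q58559 : ∀ i, i < 58559 → P i := stepQ 58558 Q58558 (allL N58558 (tt N47148 F337340) (tt N47147 F337341) (tt N47151 F337342) (tt N31119 F169680) (tt N59834 (iv4 F174257)) (tt N87026 (iv5 F378079)) (tt N31117 (iv6 D109694)) (tt N47149 F337343))
theorem Q58560 : ∀ i, i < 58560 → P i := stepQ 58559 Q58559 (allL N58559 (tt N95531 D198609) (tt N95532 D198610) (tt N31133 F169681) (tt N93934 (iv3 F402480)) (tt N57040 F169682) (tt N95533 D198611) (tt N31118 (iv6 D109695)) (tt N95534 D198612))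
theorem Q58561 : ∀ i, i < 58561 → P i := stepQ 58560 Q58560 (allL N58560 (tt N31137 (iv1 F169688)) (tt N31119 (iv0 D109696)) (tt N31134 F202526) (tt N82483 (iv3 F351041)) (tt N35758 (iv4 F169690)) (tt N95535 D198613) (tt N31172 F169866) (tt N31135 F202527))
theorem Q58562 : ∀ i, i < 58562 → P i := stepQ 58561 Q58561 (allL N58561 (tt N31119 (iv1 D109697)) (tt N31137 F169683) (tt N31135 F202529) (tt N58592 F365851) (tt N65926 F202888) (tt N58590 (iv5 F365852)) (tt N95490 (iv6 F408353)) (tt N31134 F202530))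
theorem Q58563 : ∀ i, i < 58563 → P i := stepQ 58562 Q58562 (allL N58562 (tt N58503 F169685) (tt N95536 D198614) (tt N31136 F169684) (tt N87026 (iv3 F378083)) (tt N95537 D198615) (tt N31119 (iv5 D109698)) (tt N95533 (iv6 F408525)) (tt N95538 D198616))
theorem Q58564 : ∀ i, i < 58564 → P i := stepQ 58563 Q58563 (allL N58563 (tt N31135 (iv1 F169689)) (tt N31134 F169691) (tt N31137 F169686) (tt N47149 F326920) (tt N31122 F169687) (tt N95538 (iv5 F408548)) (tt N59898 (iv6 F174530)) (tt N31119 (iv7 D109699)))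
theorem Q58565 : ∀ i, i < 58565 → P i := stepQ 58564 Q58564 (allL N58564 (tt N71051 (iv1 F219356)) (tt N39218 (iv0 F169695)) (tt N31139 F169692) (tt N95539 D198617) (tt N31120 (iv4 D109700)) (tt N95540 D198618) (tt N31178 F169693) (tt N31142 F169694))
theorem Q58566 : ∀ i, i < 58566 → P i := stepQ 58565 Q58565 (allL N58565 (tt N39218 F169698) (tt N71051 F219355) (tt N31142 F169696) (tt N95541 D198619) (tt N31121 (iv4 D109701)) (tt N95542 D198620) (tt N95503 (iv6 F408386)) (tt N31139 F169697))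
theorem Q58567 : ∀ i, i < 58567 → P i := stepQ 58566 Q58566 (allL N58566 (tt N59902 (iv1 F174562)) (tt N31123 (iv0 D109702)) (tt N59901 F361864) (tt N95543 D198621) (tt N95544 D198622) (tt N48044 F347153) (tt N95545 D198623) (tt N59900 (iv7 F361863)))
theorem Q58568 : ∀ i, i < 58568 → P i := stepQ 58567 Q58567 (allL N58567 (tt N31123 (iv1 D109703)) (tt N59902 F174564) (tt N59900 (iv2 F361865)) (tt N95546 D198624) (tt N57931 (iv4 F169699)) (tt N95547 D198625) (tt N95548 D198626) (tt N59901 F361866))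
theorem Q58569 : ∀ i, i < 58569 → P i := stepQ 58568 Q58568 (allL N58568 (tt N59901 (iv1 F174563)) (tt N59900 F174557) (tt N31123 (iv2 D109704)) (tt N59905 (iv3 F174567)) (tt N72887 (iv4 F223514)) (tt N73625 (iv5 F361856)) (tt N95549 D198627) (tt N59902 (iv7 F174561)))
theorem Q58570 : ∀ i, i < 58570 → P i := stepQ 58569 Q58569 (allL N58569 (tt N95550 D198628) (tt N95551 D198629) (tt N95549 (iv2 F408617)) (tt N31124 F169700) (tt N72889 (iv4 F223521)) (tt N95552 D198630) (tt N31123 (iv6 D109705)) (tt N59845 (iv7 F174296)))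
theorem Q58571 : ∀ i, i < 58571 → P i := stepQ 58570 Q58570 (allL N58570 (tt N95553 D198631) (tt N95554 D198632) (tt N59907 (iv2 F174575)) (tt N95552 (iv3 F408625)) (tt N95555 D198633) (tt N31124 (iv5 D109706)) (tt N95397 (iv6 F408115)) (tt N59846 (iv7 F174298)))
theorem Q58572 : ∀ i, i < 58572 → P i := stepQ 58571 Q58571 (allL N58571 (tt N59905 (iv1 F174570)) (tt N31125 (iv0 D109707)) (tt N59904 (iv2 F351033)) (tt N92084 (iv3 F395678)) (tt N78757 (iv4 F351034)) (tt N95556 D198634) (tt N82485 (iv6 F351035)) (tt N59903 F351032))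
theorem Q58573 : ∀ i, i < 58573 → P i := stepQ 58572 Q58572 (allL N58572 (tt N59904 (iv1 F174571)) (tt N59903 F174566) (tt N31125 (iv2 D109709)) (tt N59902 (iv3 F174558)) (tt N57492 F169701) (tt N62096 (iv5 F180010)) (tt N59849 (iv6 F174303)) (tt N59905 (iv7 F174569)))
theorem Q58574 : ∀ i, i < 58574 → P i := stepQ 58573 Q58573 (allL N58573 (tt N68679 F344589) (tt N92090 (iv0 F395698)) (tt N67151 F344590) (tt N31126 (iv3 D109710)) (tt N35683 F169702) (tt N36673 F344591) (tt N95557 D198635) (tt N59908 (iv7 F174577)))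
theorem Q58575 : ∀ i, i < 58575 → P i := stepQ 58574 Q58574 (allL N58574 (tt N79871 (iv1 F362590)) (tt N59961 (iv0 F362589)) (tt N59910 (iv2 F174582)) (tt N95557 (iv3 F408643)) (tt N85738 (iv4 F373746)) (tt N95558 D198636) (tt N31126 (iv6 D109713)) (tt N59851 (iv7 F362597)))
theorem Q58576 : ∀ i, i < 58576 → P i := stepQ 58575 Q58575 (allL N58575 (tt N95559 D198637) (tt N95543 (iv0 F408579)) (tt N95560 D198638) (tt N31127 (iv3 D109714)) (tt N42131 F325238) (tt N54481 (iv5 F362587)) (tt N36297 F325239) (tt N59909 (iv7 F174581)))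
theorem Q58577 : ∀ i, i < 58577 → P i := stepQ 58576 Q58576 (allL N58576 (tt N58443 (iv1 F171339)) (tt N54402 (iv0 F321242)) (tt N31129 F169706) (tt N95529 (iv3 F408505)) (tt N91011 (iv4 F391557)) (tt N31128 (iv5 D109716)) (tt N71591 (iv6 F352923)) (tt N59911 (iv7 F174585)))
theorem Q58578 : ∀ i, i < 58578 → P i := stepQ 58577 Q58577 (allL N58577 (tt N59911 (iv1 F174587)) (tt N31129 (iv0 D109718)) (tt N58443 (iv2 F171075)) (tt N68677 F349528) (tt N54406 (iv4 F359479)) (tt N31861 F171076) (tt N95561 D198639) (tt N54402 (iv7 F321246)))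
theorem Q58579 : ∀ i, i < 58579 → P i := stepQ 58578 Q58578 (allL N58578 (tt N31129 (iv1 D109719)) (tt N59911 (iv0 F174586)) (tt N54402 (iv2 F321244)) (tt N95562 D198640) (tt N53389 F352823) (tt N31862 F169709) (tt N53388 (iv6 F359476)) (tt N58443 (iv7 F171072)))
theorem Q58580 : ∀ i, i < 58580 → P i := stepQ 58579 Q58579 (allL N58579 (tt N95563 D198641) (tt N73902 F226166) (tt N91011 (iv2 F391556)) (tt N92479 (iv3 F397121)) (tt N31129 (iv4 D109720)) (tt N54802 F344560) (tt N95564 D198642) (tt N59912 (iv7 F174590)))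
theorem Q58581 : ∀ i, i < 58581 → P i := stepQ 58580 Q58580 (allL N58580 (tt N71594 F352907) (tt N71586 F390602) (tt N71591 F352924) (tt N31133 F169710) (tt N95564 (iv4 F408671)) (tt N95565 D198643) (tt N31129 (iv6 D109721)) (tt N71592 (iv7 F352926)))
theorem Q58582 : ∀ i, i < 58582 → P i := stepQ 58581 Q58581 (allL N58581 (tt N47153 F326419) (tt N47152 F326420) (tt N47156 F326421) (tt N31136 F169711) (tt N47124 F326422) (tt N31130 (iv5 D109724)) (tt N95565 (iv6 F408677)) (tt N46923 F326423))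
theorem Q58583 : ∀ i, i < 58583 → P i := stepQ 58582 Q58582 (allL N58582 (tt N48044 F347162) (tt N95547 (iv0 F408594)) (tt N95566 D198644) (tt N31131 (iv3 D109726)) (tt N95567 D198645) (tt N31857 F169714) (tt N95568 D198646) (tt N58428 F169715))
theorem Q58584 : ∀ i, i < 58584 → P i := stepQ 58583 Q58583 (allL N58583 (tt N95569 D198647) (tt N95570 D198648) (tt N58438 F169716) (tt N95568 (iv3 F408694)) (tt N92348 (iv4 F396793)) (tt N95571 D198649) (tt N31131 (iv6 D109727)) (tt N95572 D198650))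
theorem Q58585 : ∀ i, i < 58585 → P i := stepQ 58584 Q58584 (allL N58584 (tt N95556 (iv1 F408642)) (tt N68678 (iv0 F359067)) (tt N62108 (iv2 F180023)) (tt N31132 (iv3 D109728)) (tt N62102 F180019) (tt N31859 F169717) (tt N95573 D198651) (tt N58436 F169718))
theorem Q58586 : ∀ i, i < 58586 → P i := stepQ 58585 Q58585 (allL N58585 (tt N88632 F383656) (tt N91624 (iv0 F393811)) (tt N58430 F169719) (tt N95573 (iv3 F408706)) (tt N92355 (iv4 F396813)) (tt N73634 F366289) (tt N31132 (iv6 D109729)) (tt N95574 D198652))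
theorem Q58587 : ∀ i, i < 58587 → P i := stepQ 58586 Q58586 (allL N58586 (tt N95534 (iv1 F408529)) (tt N31133 (iv0 D109730)) (tt N95531 F408514) (tt N95575 D198653) (tt N95576 D198654) (tt N95577 D198655) (tt N91623 F393807) (tt N95532 (iv7 F408517)))
theorem Q58588 : ∀ i, i < 58588 → P i := stepQ 58587 Q58587 (allL N58587 (tt N31133 (iv1 D109731)) (tt N95534 F408528) (tt N95532 F408522) (tt N95578 D198656) (tt N95579 D198657) (tt N95580 D198658) (tt N95581 D198659) (tt N95531 F408515))
theorem Q58589 : ∀ i, i < 58589 → P i := stepQ 58588 Q58588 (allL N58588 (tt N58429 F408272) (tt N95582 D198660) (tt N95533 (iv2 F408524)) (tt N95565 (iv3 F408676)) (tt N95583 D198661) (tt N31133 (iv5 D109732)) (tt N31136 F169720) (tt N95584 D198662))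
theorem Q58590 : ∀ i, i < 58590 → P i := stepQ 58589 Q58589 (allL N58589 (tt N95532 (iv1 F408516)) (tt N95531 F408523) (tt N95534 (iv2 F408526)) (tt N71592 F352927) (tt N92487 (iv4 F397133)) (tt N95584 (iv5 F408763)) (tt N59918 (iv6 F174601)) (tt N31133 (iv7 D109733)))
theorem Q58591 : ∀ i, i < 58591 → P i := stepQ 58590 Q58590 (allL N58590 (tt N95585 D198663) (tt N95548 F408604) (tt N58596 F365854) (tt N31134 (iv3 D109735)) (tt N94707 (iv4 F405612)) (tt N58561 F365852) (tt N95586 D198664) (tt N58592 (iv7 F365853)))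
theorem Q58592 : ∀ i, i < 58592 → P i := stepQ 58591 Q58591 (allL N58591 (tt N71669 F220362) (tt N35577 F169722) (tt N35758 F202525) (tt N58252 F169723) (tt N31134 (iv4 D109736)) (tt N95587 D198665) (tt N65936 (iv6 F202920)) (tt N65926 (iv7 F202886)))
theorem Q58593 : ∀ i, i < 58593 → P i := stepQ 58592 Q58592 (allL N58592 (tt N71703 (iv1 F220392)) (tt N71702 (iv0 F220390)) (tt N95535 (iv2 F408530)) (tt N58561 (iv3 F365851)) (tt N58171 (iv4 F365850)) (tt N31134 (iv5 D109737)) (tt N95588 D198666) (tt N58590 F365853))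
theorem Q58594 : ∀ i, i < 58594 → P i := stepQ 58593 Q58593 (allL N58593 (tt N31157 F202531) (tt N31174 F202532) (tt N31172 F202533) (tt N95586 (iv3 F408771)) (tt N65936 (iv4 F202917)) (tt N95311 (iv5 F407818)) (tt N31134 (iv6 D109738)) (tt N31171 F202534))
theorem Q58595 : ∀ i, i < 58595 → P i := stepQ 58594 Q58594 (allL N58594 (tt N82485 (iv1 F353284)) (tt N78761 F353280) (tt N82482 F359272) (tt N31135 (iv3 D109740)) (tt N75399 (iv4 F353275)) (tt N95589 D198667) (tt N95590 D198668) (tt N82483 F353279))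
theorem Q58596 : ∀ i, i < 58596 → P i := stepQ 58595 Q58595 (allL N58595 (tt N35577 F169727) (tt N71669 (iv0 F220360)) (tt N65926 (iv2 F202885)) (tt N35749 (iv3 F169725)) (tt N31135 (iv4 D109741)) (tt N72128 (iv5 F221400)) (tt N95591 D198669) (tt N35758 F202528))
theorem Q58597 : ∀ i, i < 58597 → P i := stepQ 58596 Q58596 (allL N58596 (tt N71702 (iv1 F220389)) (tt N71703 F221403) (tt N58590 (iv2 F365854)) (tt N95589 (iv3 F408790)) (tt N95592 D198670) (tt N31135 (iv5 D109742)) (tt N95593 D198671) (tt N95535 (iv7 F408532)))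
theorem Q58598 : ∀ i, i < 58598 → P i := stepQ 58597 Q58597 (allL N58597 (tt N78163 F365442) (tt N83523 F365443) (tt N95490 F408354) (tt N95590 (iv3 F408795)) (tt N95591 (iv4 F408799)) (tt N81178 (iv5 F365444)) (tt N31135 (iv6 D109743)) (tt N95494 (iv7 F408361)))
theorem Q58599 : ∀ i, i < 58599 → P i := stepQ 58598 Q58598 (allL N58598 (tt N95538 (iv1 F408550)) (tt N31136 (iv0 D109744)) (tt N58503 (iv2 F169728)) (tt N31808 F354551) (tt N94946 (iv4 F406453)) (tt N31808 F169726) (tt N31807 F354552) (tt N95536 (iv7 F408535)))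
theorem Q58600 : ∀ i, i < 58600 → P i := stepQ 58599 Q58599 (allL N58599 (tt N31136 (iv1 D109745)) (tt N95538 F408549) (tt N95536 F408537) (tt N95594 D198672) (tt N95595 D198673) (tt N58504 (iv5 F169730)) (tt N87005 (iv6 F378029)) (tt N58503 F169729))
theorem Q58601 : ∀ i, i < 58601 → P i := stepQ 58600 Q58600 (allL N58600 (tt N95596 D198674) (tt N95597 D198675) (tt N95537 (iv2 F408541)) (tt N59095 F361574) (tt N31136 (iv4 D109746)) (tt N59091 F361575) (tt N95583 (iv6 F408757)) (tt N59202 (iv7 F361569)))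
theorem Q58602 : ∀ i, i < 58602 → P i := stepQ 58601 Q58601 (allL N58601 (tt N95536 (iv1 F408534)) (tt N58503 (iv0 F169732)) (tt N95538 (iv2 F408546)) (tt N46923 F326921) (tt N59202 F361567) (tt N31137 F169731) (tt N65492 (iv6 F361568)) (tt N31136 (iv7 D109747)))
theorem Q58603 : ∀ i, i < 58603 → P i := stepQ 58602 Q58602 (allL N58602 (tt N70964 F218959) (tt N71158 (iv0 F219569)) (tt N79766 F347063) (tt N31140 F169738) (tt N43970 F321760) (tt N31138 (iv5 D109749)) (tt N70452 (iv6 F217418)) (tt N71024 (iv7 F219290)))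
theorem Q58604 : ∀ i, i < 58604 → P i := stepQ 58603 Q58603 (allL N58603 (tt N31142 (iv1 F169740)) (tt N31139 (iv0 D109750)) (tt N71051 (iv2 F219353)) (tt N95598 D198676) (tt N57236 F169739) (tt N95599 D198677) (tt N59927 F174625) (tt N39218 (iv7 F169741)))
theorem Q58605 : ∀ i, i < 58605 → P i := stepQ 58604 Q58604 (allL N58604 (tt N81618 F353281) (tt N91967 (iv0 F395174)) (tt N91906 (iv2 F394901)) (tt N31139 (iv3 D109751)) (tt N79760 F358122) (tt N55482 (iv5 F354536)) (tt N66703 (iv6 F358123)) (tt N95541 (iv7 F408563)))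
theorem Q58606 : ∀ i, i < 58606 → P i := stepQ 58605 Q58605 (allL N58605 (tt N71707 F220401) (tt N47640 F354533) (tt N95540 (iv2 F408555)) (tt N55482 F354534) (tt N95161 F407267) (tt N31139 (iv5 D109752)) (tt N55481 F354535) (tt N95542 (iv7 F408570)))
theorem Q58607 : ∀ i, i < 58607 → P i := stepQ 58606 Q58606 (allL N58606 (tt N35828 (iv1 F169747)) (tt N77797 F244996) (tt N31178 F169744) (tt N66703 F358144) (tt N31141 F169745) (tt N84555 (iv5 F369683)) (tt N31139 (iv6 D109753)) (tt N31175 (iv7 F169746)))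
theorem Q58608 : ∀ i, i < 58608 → P i := stepQ 58607 Q58607 (allL N58607 (tt N70971 F219002) (tt N71191 F219611) (tt N71860 F220760) (tt N54328 (iv3 F354545)) (tt N31140 (iv4 D109754)) (tt N95600 D198678) (tt N70455 (iv6 F217421)) (tt N71026 (iv7 F219298)))
theorem Q58609 : ∀ i, i < 58609 → P i := stepQ 58608 Q58608 (allL N58608 (tt N71053 (iv1 F365913)) (tt N78663 (iv0 F365912)) (tt N95601 D198679) (tt N31142 (iv3 D109755)) (tt N92069 (iv4 F395613)) (tt N95602 D198680) (tt N95603 D198681) (tt N95539 (iv7 F408553)))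
theorem Q58610 : ∀ i, i < 58610 → P i := stepQ 58609 Q58609 (allL N58609 (tt N47640 F354542) (tt N71707 (iv0 F220400)) (tt N95542 (iv2 F408568)) (tt N95602 (iv3 F408852)) (tt N95604 D198682) (tt N31142 (iv5 D109756)) (tt N79312 (iv6 F408560)) (tt N95540 (iv7 F408556)))
theorem Q58611 : ∀ i, i < 58611 → P i := stepQ 58610 Q58610 (allL N58610 (tt N95605 D198683) (tt N95295 F407765) (tt N95503 (iv2 F408384)) (tt N95603 (iv3 F408854)) (tt N31143 F169748) (tt N95606 D198684) (tt N31142 (iv6 D109757)) (tt N95504 (iv7 F408391)))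
theorem Q58612 : ∀ i, i < 58612 → P i := stepQ 58611 Q58611 (allL N58611 (tt N31144 (iv1 D109758)) (tt N39146 F169749) (tt N39573 F169752) (tt N95607 D198685) (tt N36074 (iv4 F169751)) (tt N95608 D198686) (tt N39488 F169753) (tt N36072 F169750))
theorem Q58613 : ∀ i, i < 58613 → P i := stepQ 58612 Q58612 (allL N58612 (tt N95515 F408430) (tt N76151 F313706) (tt N73241 F353364) (tt N31144 (iv3 D109759)) (tt N31153 F169754) (tt N73238 (iv5 F353376)) (tt N39264 F169755) (tt N39574 F169756))
theorem Q58614 : ∀ i, i < 58614 → P i := stepQ 58613 Q58613 (allL N58613 (tt N95609 D198687) (tt N72130 (iv0 F221408)) (tt N39578 F169757) (tt N73238 F338272) (tt N59162 F338273) (tt N31144 (iv5 D109760)) (tt N59028 (iv6 F338252)) (tt N39575 F169758))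
theorem Q58615 : ∀ i, i < 58615 → P i := stepQ 58614 Q58614 (allL N58614 (tt N78668 F349846) (tt N42123 (iv0 F170224)) (tt N81627 (iv2 F349832)) (tt N31145 (iv3 D109771)) (tt N45931 F323582) (tt N90995 (iv5 F391505)) (tt N91942 F395056) (tt N59931 (iv7 F174628)))
theorem Q58616 : ∀ i, i < 58616 → P i := stepQ 58615 Q58615 (allL N58615 (tt N79467 (iv1 F344526)) (tt N80139 (iv0 F344582)) (tt N59934 (iv2 F174644)) (tt N91942 (iv3 F395054)) (tt N31146 F169768) (tt N95610 D198688) (tt N31145 (iv6 D109773)) (tt N59883 (iv7 F344523)))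
theorem Q58617 : ∀ i, i < 58617 → P i := stepQ 58616 Q58616 (allL N58616 (tt N31223 F170369) (tt N31221 F169777) (tt N31967 F170021) (tt N95611 D198689) (tt N31147 (iv4 D109782)) (tt N64826 (iv5 F360056)) (tt N58678 (iv6 F323099)) (tt N31966 F170020))
theorem Q58618 : ∀ i, i < 58618 → P i := stepQ 58617 Q58617 (allL N58617 (tt N59573 (iv1 F173161)) (tt N39219 (iv0 F169779)) (tt N59577 F219325) (tt N31148 (iv3 D109784)) (tt N95611 (iv4 F408876)) (tt N89289 F385942) (tt N59884 (iv6 F359285)) (tt N59576 F173165))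
theorem Q58619 : ∀ i, i < 58619 → P i := stepQ 58618 Q58618 (allL N58618 (tt N46735 (iv1 F332929)) (tt N44934 F332926) (tt N34977 (iv2 F332931)) (tt N95612 D198690) (tt N31151 (iv4 D109838)) (tt N34893 F332927) (tt N70458 (iv6 F217429)) (tt N34980 (iv7 F332932)))
theorem Q58620 : ∀ i, i < 58620 → P i := stepQ 58619 Q58619 (allL N58619 (tt N62440 F342378) (tt N72280 (iv0 F348044)) (tt N95613 D198691) (tt N31152 (iv3 D109845)) (tt N95612 (iv4 F408881)) (tt N74737 (iv5 F228726)) (tt N70459 (iv6 F217432)) (tt N59889 (iv7 F174508)))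
theorem Q58621 : ∀ i, i < 58621 → P i := stepQ 58620 Q58620 (allL N58620 (tt N31153 (iv1 D109854)) (tt N40492 F169839) (tt N34036 (iv2 F314635)) (tt N44056 F313708) (tt N95614 D198692) (tt N44056 F313709) (tt N33996 F313710) (tt N40202 F209609))
theorem Q58622 : ∀ i, i < 58622 → P i := stepQ 58621 Q58621 (allL N58621 (tt N40202 (iv1 F208258)) (tt N34036 (iv0 F314633)) (tt N31153 (iv2 D109855)) (tt N40502 F169835) (tt N73241 F353365) (tt N95615 D198693) (tt N39881 F169836) (tt N40492 F169837))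
theorem Q58623 : ∀ i, i < 58623 → P i := stepQ 58622 Q58622 (allL N58622 (tt N82190 (iv1 F338994)) (tt N73954 (iv0 F226269)) (tt N95615 (iv2 F408898)) (tt N31154 F169841) (tt N80617 F348336) (tt N31153 (iv5 D109856)) (tt N40954 F348321) (tt N40493 F169842))
theorem Q58624 : ∀ i, i < 58624 → P i := stepQ 58623 Q58623 (allL N58623 (tt N63460 F309249) (tt N63459 F309250) (tt N40505 F169849) (tt N40954 F348322) (tt N47303 F324263) (tt N37452 F169850) (tt N31154 (iv6 D109859)) (tt N63078 F309251))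
theorem Q58625 : ∀ i, i < 58625 → P i := stepQ 58624 Q58624 (allL N58624 (tt N52223 (iv1 F337322)) (tt N31155 (iv0 D109860)) (tt N59833 (iv2 F378712)) (tt N58236 F169851) (tt N92000 (iv4 F395315)) (tt N87197 (iv5 F378707)) (tt N59890 F378710) (tt N59832 (iv7 F378720)))
theorem Q58626 : ∀ i, i < 58626 → P i := stepQ 58625 Q58625 (allL N58625 (tt N31155 (iv1 D109861)) (tt N52223 (iv0 F337321)) (tt N59832 F378721) (tt N95616 D198694) (tt N91946 (iv4 F395076)) (tt N87203 F378751) (tt N83526 F378723) (tt N59833 F378719))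
theorem Q58627 : ∀ i, i < 58627 → P i := stepQ 58626 Q58626 (allL N58626 (tt N55468 (iv1 F361130)) (tt N78491 F327097) (tt N46323 F327098) (tt N31157 F169854) (tt N59894 (iv4 F174520)) (tt N87294 (iv5 F379002)) (tt N31155 (iv6 D109864)) (tt N78492 F327099))
theorem Q58628 : ∀ i, i < 58628 → P i := stepQ 58627 Q58627 (allL N58627 (tt N95617 D198695) (tt N95618 D198696) (tt N31170 F169855) (tt N52221 (iv3 F344000)) (tt N35754 F169856) (tt N87292 (iv5 F378996)) (tt N31156 (iv6 D109865)) (tt N95619 D198697))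
theorem Q58629 : ∀ i, i < 58629 → P i := stepQ 58628 Q58628 (allL N58628 (tt N31174 (iv1 F169863)) (tt N31157 (iv0 D109866)) (tt N31171 F202495) (tt N95620 D198698) (tt N35779 (iv4 F169867)) (tt N95310 (iv5 F407812)) (tt N95494 (iv6 F408364)) (tt N31172 F202496))
theorem Q58630 : ∀ i, i < 58630 → P i := stepQ 58629 Q58629 (allL N58629 (tt N58459 (iv1 F170704)) (tt N58456 F169859) (tt N31173 F169858) (tt N87294 (iv3 F379001)) (tt N95621 D198699) (tt N31157 (iv5 D109868)) (tt N87292 F378997) (tt N95622 D198700))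
theorem Q58631 : ∀ i, i < 58631 → P i := stepQ 58630 Q58630 (allL N58630 (tt N31172 (iv1 F169864)) (tt N31171 F169875) (tt N31174 F169861) (tt N78492 F326915) (tt N31159 F169862) (tt N95622 (iv5 F408929)) (tt N59838 (iv6 F174265)) (tt N31157 (iv7 D109869)))
theorem Q58632 : ∀ i, i < 58632 → P i := stepQ 58631 Q58631 (allL N58631 (tt N77797 (iv1 F244997)) (tt N35828 F169879) (tt N31175 F169877) (tt N80248 (iv3 F358382)) (tt N31158 (iv4 D109870)) (tt N95623 D198701) (tt N95504 (iv6 F408390)) (tt N31178 F169878))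
theorem Q58633 : ∀ i, i < 58633 → P i := stepQ 58632 Q58632 (allL N58632 (tt N59844 (iv1 F174293)) (tt N31160 (iv0 D109871)) (tt N59843 F230602) (tt N52268 (iv3 F320040)) (tt N95624 D198702) (tt N52267 (iv5 F320036)) (tt N95625 D198703) (tt N59842 (iv7 F230601)))
theorem Q58634 : ∀ i, i < 58634 → P i := stepQ 58633 Q58633 (allL N58633 (tt N31160 (iv1 D109872)) (tt N59844 F174294) (tt N59842 (iv2 F230603)) (tt N87063 (iv3 F378251)) (tt N95626 D198704) (tt N86996 (iv5 F377991)) (tt N95627 D198705) (tt N59843 F230604))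
theorem Q58635 : ∀ i, i < 58635 → P i := stepQ 58634 Q58634 (allL N58634 (tt N59843 F174290) (tt N59842 F174288) (tt N31160 (iv2 D109873)) (tt N59849 (iv3 F174300)) (tt N59497 (iv4 F173031)) (tt N92556 (iv5 F397355)) (tt N59902 (iv6 F174560)) (tt N59844 (iv7 F174292)))
theorem Q58636 : ∀ i, i < 58636 → P i := stepQ 58635 Q58635 (allL N58635 (tt N59849 (iv1 F174305)) (tt N31161 (iv0 D109874)) (tt N59848 (iv2 F225651)) (tt N92040 (iv3 F395491)) (tt N95628 D198706) (tt N73741 F225648) (tt N95629 D198707) (tt N59847 (iv7 F225652)))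
theorem Q58637 : ∀ i, i < 58637 → P i := stepQ 58636 Q58636 (allL N58636 (tt N31161 (iv1 D109875)) (tt N59849 F174307) (tt N59847 (iv2 F225653)) (tt N86972 (iv3 F377903)) (tt N60385 (iv4 F176342)) (tt N73804 (iv5 F225888)) (tt N78747 (iv6 F381053)) (tt N59848 F225654))
theorem Q58638 : ∀ i, i < 58638 → P i := stepQ 58637 Q58637 (allL N58637 (tt N59848 (iv1 F174306)) (tt N59847 F174299) (tt N31161 (iv2 D109876)) (tt N59844 (iv3 F174291)) (tt N58752 (iv4 F170594)) (tt N73320 (iv5 F224375)) (tt N95630 D198708) (tt N59849 (iv7 F174304)))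
theorem Q58639 : ∀ i, i < 58639 → P i := stepQ 58638 Q58638 (allL N58638 (tt N82371 F355021) (tt N95631 D198709) (tt N95630 (iv2 F408949)) (tt N31162 F169880) (tt N58754 (iv4 F170602)) (tt N95632 D198710) (tt N31161 (iv6 D109877)) (tt N59906 (iv7 F174574)))
theorem Q58640 : ∀ i, i < 58640 → P i := stepQ 58639 Q58639 (allL N58639 (tt N95554 (iv1 F408630)) (tt N95553 F408628) (tt N59846 (iv2 F174297)) (tt N95632 (iv3 F408955)) (tt N95633 D198711) (tt N31162 (iv5 D109878)) (tt N95472 (iv6 F408312)) (tt N59907 (iv7 F174576)))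
theorem Q58641 : ∀ i, i < 58641 → P i := stepQ 58640 Q58640 (allL N58640 (tt N86972 (iv1 F377904)) (tt N86971 (iv0 F377900)) (tt N60601 (iv2 F176629)) (tt N31163 (iv3 D109879)) (tt N55649 F169881) (tt N90687 (iv5 F390526)) (tt N59908 (iv6 F358194)) (tt N59850 (iv7 F174308)))
theorem Q58642 : ∀ i, i < 58642 → P i := stepQ 58641 Q58641 (allL N58641 (tt N52265 (iv1 F320027)) (tt N52268 (iv0 F320038)) (tt N36311 F169885) (tt N31164 (iv3 D109881)) (tt N42048 F169882) (tt N36299 F169883) (tt N87020 F378062) (tt N36297 F169884))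
theorem Q58643 : ∀ i, i < 58643 → P i := stepQ 58642 Q58642 (allL N58642 (tt N59961 (iv1 F362598)) (tt N79871 F362599) (tt N59851 (iv2 F174314)) (tt N87020 (iv3 F378064)) (tt N59936 (iv4 F174734)) (tt N95634 D198712) (tt N31164 (iv6 D109882)) (tt N59910 (iv7 F362596)))
theorem Q58644 : ∀ i, i < 58644 → P i := stepQ 58643 Q58643 (allL N58643 (tt N52222 (iv1 F320044)) (tt N31166 (iv0 D109885)) (tt N36323 (iv2 F169895)) (tt N86968 (iv3 F377885)) (tt N84143 (iv4 F368309)) (tt N31811 (iv5 F171323)) (tt N86999 F378005) (tt N52260 (iv7 F320051)))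
theorem Q58645 : ∀ i, i < 58645 → P i := stepQ 58644 Q58644 (allL N58644 (tt N63025 F205144) (tt N64556 (iv0 F353324)) (tt N54712 (iv2 F326380)) (tt N95635 D198713) (tt N31166 (iv4 D109887)) (tt N53447 (iv5 F344558)) (tt N49786 (iv6 F362580)) (tt N54709 (iv7 F349497)))
theorem Q58646 : ∀ i, i < 58646 → P i := stepQ 58645 Q58645 (allL N58645 (tt N84211 (iv1 F368527)) (tt N83855 (iv0 F362117)) (tt N84208 F368515) (tt N31170 F169900) (tt N49786 F362581) (tt N79316 (iv5 F365915)) (tt N31166 (iv6 D109888)) (tt N84209 (iv7 F368520)))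
theorem Q58647 : ∀ i, i < 58647 → P i := stepQ 58646 Q58646 (allL N58646 (tt N52267 (iv1 F320034)) (tt N86996 F377993) (tt N58502 F354554) (tt N31167 (iv3 D109893)) (tt N59990 F354555) (tt N31807 F169904) (tt N31167 F354556) (tt N58496 F169905))
theorem Q58648 : ∀ i, i < 58648 → P i := stepQ 58647 Q58647 (allL N58647 (tt N82460 F355561) (tt N79263 (iv0 F348468)) (tt N82462 (iv2 F361329)) (tt N31169 (iv3 D109896)) (tt N95635 (iv4 F408964)) (tt N35746 F169908) (tt N95636 D198714) (tt N59854 (iv7 F174330)))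
theorem Q58649 : ∀ i, i < 58649 → P i := stepQ 58648 Q58648 (allL N58648 (tt N42159 F358572) (tt N95637 D198715) (tt N35754 F169909) (tt N95636 (iv3 F408968)) (tt N31170 F169910) (tt N95638 D198716) (tt N31169 (iv6 D109897)) (tt N95639 D198717))
theorem Q58650 : ∀ i, i < 58650 → P i := stepQ 58649 Q58649 (allL N58649 (tt N95619 (iv1 F408922)) (tt N31170 (iv0 D109898)) (tt N95617 (iv2 F408920)) (tt N95640 D198718) (tt N95641 D198719) (tt N95642 D198720) (tt N82942 F365207) (tt N95618 F408921))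
theorem Q58651 : ∀ i, i < 58651 → P i := stepQ 58650 Q58650 (allL N58650 (tt N31170 (iv1 D109899)) (tt N95619 F408915) (tt N95618 F408919) (tt N75902 (iv3 F358573)) (tt N75405 F358574) (tt N95643 D198721) (tt N75900 F358575) (tt N95617 (iv7 F408918)))
theorem Q58652 : ∀ i, i < 58652 → P i := stepQ 58651 Q58651 (allL N58651 (tt N95644 D198722) (tt N95645 D198723) (tt N87292 (iv2 F378995)) (tt N79316 F365914) (tt N87248 F381615) (tt N31170 (iv5 D109900)) (tt N31173 F169911) (tt N95646 D198724))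
theorem Q58653 : ∀ i, i < 58653 → P i := stepQ 58652 Q58652 (allL N58652 (tt N95618 (iv1 F408908)) (tt N95617 F408914) (tt N95619 (iv2 F408909)) (tt N84209 F368521) (tt N95639 (iv4 F408983)) (tt N95646 (iv5 F408995)) (tt N59858 (iv6 F174334)) (tt N31170 (iv7 D109901)))
theorem Q58654 : ∀ i, i < 58654 → P i := stepQ 58653 Q58653 (allL N58653 (tt N79319 F358156) (tt N95627 (iv0 F409000)) (tt N95647 D198726) (tt N31171 (iv3 D109903)) (tt N59549 (iv4 F173121)) (tt N95422 (iv5 F408159)) (tt N95648 D198727) (tt N95586 (iv7 F408778)))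
theorem Q58655 : ∀ i, i < 58655 → P i := stepQ 58654 Q58654 (allL N58654 (tt N83523 (iv1 F363543)) (tt N78163 (iv0 F246408)) (tt N95494 (iv2 F408360)) (tt N95648 (iv3 F409002)) (tt N65940 (iv4 F202927)) (tt N81177 (iv5 F365860)) (tt N31171 (iv6 D109905)) (tt N95490 F408355))
theorem Q58656 : ∀ i, i < 58656 → P i := stepQ 58655 Q58655 (allL N58655 (tt N95629 F408948) (tt N95649 D198728) (tt N95650 D198729) (tt N31172 (iv3 D109907)) (tt N95104 (iv4 F407058)) (tt N95425 (iv5 F408160)) (tt N82483 F360142) (tt N95620 (iv7 F408924)))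
theorem Q58657 : ∀ i, i < 58657 → P i := stepQ 58656 Q58656 (allL N58656 (tt N95622 (iv1 F408931)) (tt N31173 (iv0 D109909)) (tt N58459 (iv2 F170701)) (tt N95651 D198730) (tt N95652 D198731) (tt N58383 F170702) (tt N95653 D198732) (tt N58456 F170703))
theorem Q58658 : ∀ i, i < 58658 → P i := stepQ 58657 Q58657 (allL N58657 (tt N31173 (iv1 D109910)) (tt N95622 F408930) (tt N58456 F170700) (tt N95654 D198733) (tt N95655 D198734) (tt N58382 F169916) (tt N95655 (iv6 F409019)) (tt N58459 (iv7 F170663)))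
theorem Q58659 : ∀ i, i < 58659 → P i := stepQ 58658 Q58658 (allL N58658 (tt N95656 D198735) (tt N91915 F409024) (tt N95621 (iv2 F408925)) (tt N95657 D198736) (tt N31173 (iv4 D109911)) (tt N95658 D198737) (tt N87248 (iv6 F381616)) (tt N87374 (iv7 F379155)))
theorem Q58660 : ∀ i, i < 58660 → P i := stepQ 58659 Q58659 (allL N58659 (tt N58456 (iv1 F169918)) (tt N58459 (iv0 F169919)) (tt N95622 (iv2 F408928)) (tt N46321 F326916) (tt N87374 F379153) (tt N31174 F169917) (tt N87373 (iv6 F379154)) (tt N31173 (iv7 D109912)))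
theorem Q58661 : ∀ i, i < 58661 → P i := stepQ 58660 Q58660 (allL N58660 (tt N31178 (iv1 F169927)) (tt N31175 (iv0 D109915)) (tt N77797 (iv2 F244994)) (tt N95659 D198738) (tt N35831 F169926) (tt N95660 D198739) (tt N59869 F174348) (tt N35828 (iv7 F169928)))
theorem Q58662 : ∀ i, i < 58662 → P i := stepQ 58661 Q58661 (allL N58661 (tt N87367 (iv1 F379139)) (tt N92331 (iv0 F396729)) (tt N95623 (iv2 F408932)) (tt N79771 F365831) (tt N95428 (iv4 F408161)) (tt N31175 (iv5 D109917)) (tt N95661 D198740) (tt N84555 (iv7 F369684)))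
theorem Q58663 : ∀ i, i < 58663 → P i := stepQ 58662 Q58662 (allL N58662 (tt N95295 F407764) (tt N95605 F408858) (tt N95504 (iv2 F408389)) (tt N55461 (iv3 F340614)) (tt N31176 F169935) (tt N95662 D198741) (tt N31175 (iv6 D109918)) (tt N95503 (iv7 F408387)))
theorem Q58664 : ∀ i, i < 58664 → P i := stepQ 58663 Q58663 (allL N58663 (tt N80250 F358145) (tt N45416 F358146) (tt N80249 F358147) (tt N31178 (iv3 D109920)) (tt N65715 (iv4 F202299)) (tt N95663 D198742) (tt N95539 (iv6 F408552)) (tt N80248 F358148))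
theorem Q58665 : ∀ i, i < 58665 → P i := stepQ 58664 Q58664 (allL N58664 (tt N92331 (iv1 F396730)) (tt N87367 (iv0 F379138)) (tt N84555 F369685) (tt N95663 (iv3 F409038)) (tt N95429 (iv4 F408162)) (tt N31178 (iv5 D109921)) (tt N95664 D198743) (tt N95623 (iv7 F408933)))
theorem Q58666 : ∀ i, i < 58666 → P i := stepQ 58665 Q58665 (allL N58665 (tt N31180 (iv1 F170046)) (tt N31179 (iv0 D109928)) (tt N59880 F174369) (tt N88179 (iv3 F382041)) (tt N31222 F170045) (tt N88177 F382033) (tt N45677 F323955) (tt N31974 F170449))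
theorem Q58667 : ∀ i, i < 58667 → P i := stepQ 58666 Q58666 (allL N58666 (tt N56030 F170058) (tt N66693 (iv0 F205178)) (tt N66695 F205181) (tt N31179 (iv3 D109930)) (tt N58675 (iv4 F170161)) (tt N72733 (iv5 F223040)) (tt N59931 (iv6 F353156)) (tt N59881 (iv7 F174375)))
theorem Q58668 : ∀ i, i < 58668 → P i := stepQ 58667 Q58667 (allL N58667 (tt N84266 (iv1 F368742)) (tt N79847 (iv0 F344529)) (tt N59882 (iv2 F174378)) (tt N95151 (iv3 F407238)) (tt N54717 (iv4 F324390)) (tt N31180 (iv5 D109938)) (tt N69984 (iv6 F365583)) (tt N54716 (iv7 F324381)))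
theorem Q58669 : ∀ i, i < 58669 → P i := stepQ 58668 Q58668 (allL N58668 (tt N80139 (iv1 F344527)) (tt N79467 (iv0 F344524)) (tt N59883 (iv2 F174383)) (tt N95152 (iv3 F407242)) (tt N31181 F170062) (tt N95665 D198744) (tt N31180 (iv6 D109939)) (tt N59934 F344583))
theorem Q58670 : ∀ i, i < 58670 → P i := stepQ 58669 Q58669 (allL N58669 (tt N93255 (iv1 F400151)) (tt N94906 (iv0 F406286)) (tt N59560 (iv2 F173138)) (tt N63871 F365871) (tt N94900 F406270) (tt N31182 (iv5 D109991)) (tt N95666 D198745) (tt N59557 (iv7 F173133)))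
theorem Q58671 : ∀ i, i < 58671 → P i := stepQ 58670 Q58670 (allL N58670 (tt N45664 F323965) (tt N46222 F323966) (tt N85738 (iv2 F373744)) (tt N31185 F170135) (tt N59910 (iv4 F174583)) (tt N59936 (iv5 F323062)) (tt N31183 (iv6 D109998)) (tt N59936 (iv7 F323063)))
theorem Q58672 : ∀ i, i < 58672 → P i := stepQ 58671 Q58671 (allL N58671 (tt N71040 F219341) (tt N71037 (iv0 F219338)) (tt N95667 D198746) (tt N31184 (iv3 D110000)) (tt N59909 (iv4 F174580)) (tt N81832 F322507) (tt N69310 F322508) (tt N42131 (iv7 F324466)))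
theorem Q58673 : ∀ i, i < 58673 → P i := stepQ 58672 Q58672 (allL N58672 (tt N35785 F170141) (tt N35791 F170140) (tt N35787 F170138) (tt N95668 D198747) (tt N31186 (iv4 D110008)) (tt N95669 D198748) (tt N59938 F322495) (tt N35786 F170139))
theorem Q58674 : ∀ i, i < 58674 → P i := stepQ 58673 Q58673 (allL N58673 (tt N60371 (iv1 F176309)) (tt N57290 (iv0 F170143)) (tt N60370 F358200) (tt N31187 (iv3 D110010)) (tt N95668 (iv4 F409055)) (tt N65303 F323946) (tt N59939 F323947) (tt N59942 (iv7 F174857)))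
theorem Q58675 : ∀ i, i < 58675 → P i := stepQ 58674 Q58674 (allL N58674 (tt N65865 (iv1 F202673)) (tt N65864 F202672) (tt N32242 F170145) (tt N31188 (iv3 D110017)) (tt N48358 F321903) (tt N77718 (iv5 F350836)) (tt N44941 F321904) (tt N48354 (iv7 F323162)))
theorem Q58676 : ∀ i, i < 58676 → P i := stepQ 58675 Q58675 (allL N58675 (tt N95670 D198749) (tt N95671 D198750) (tt N95110 (iv2 F407085)) (tt N31190 (iv3 D110027)) (tt N58666 F170161) (tt N65390 F353475) (tt N48347 F323127) (tt N59945 (iv7 F174898)))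
theorem Q58677 : ∀ i, i < 58677 → P i := stepQ 58676 Q58676 (allL N58676 (tt N45596 F348337) (tt N45532 F348338) (tt N45595 F348339) (tt N35881 F170164) (tt N63460 F336256) (tt N37909 F348340) (tt N31191 (iv6 D110033)) (tt N36152 F348341))
theorem Q58678 : ∀ i, i < 58678 → P i := stepQ 58677 Q58677 (allL N58677 (tt N31943 F170252) (tt N31941 (iv0 F170253)) (tt N47650 (iv2 F324514)) (tt N95037 (iv3 F406751)) (tt N31193 (iv4 D110119)) (tt N95445 (iv5 F408206)) (tt N47643 F323998) (tt N31214 F170251))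
theorem Q58679 : ∀ i, i < 58679 → P i := stepQ 58678 Q58678 (allL N58678 (tt N31194 (iv1 D110122)) (tt N31206 F170259) (tt N31202 F170262) (tt N95109 (iv3 F407080)) (tt N31910 (iv4 F170261)) (tt N94553 (iv5 F404942)) (tt N58616 F323099) (tt N31201 F170260))
theorem Q58680 : ∀ i, i < 58680 → P i := stepQ 58679 Q58679 (allL N58679 (tt N81964 F360062) (tt N95131 F407172) (tt N31204 F170263) (tt N95038 (iv3 F406756)) (tt N95672 D198751) (tt N31194 (iv5 D110123)) (tt N95673 D198752) (tt N31216 F170264))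
theorem Q58681 : ∀ i, i < 58681 → P i := stepQ 58680 Q58680 (allL N58680 (tt N64610 (iv1 F365966)) (tt N59829 (iv0 F174179)) (tt N31208 F170269) (tt N94947 (iv3 F406455)) (tt N31195 (iv4 D110127)) (tt N95674 D198753) (tt N79458 F365905) (tt N31218 F170270))
theorem Q58682 : ∀ i, i < 58682 → P i := stepQ 58681 Q58681 (allL N58681 (tt N94726 F405689) (tt N60553 (iv0 F244987)) (tt N81749 F358837) (tt N31199 (iv3 D110138)) (tt N31203 F170292) (tt N95675 D198754) (tt N79532 (iv6 F358844)) (tt N35855 F170293))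
theorem Q58683 : ∀ i, i < 58683 → P i := stepQ 58682 Q58682 (allL N58682 (tt N57260 F170865) (tt N74661 (iv0 F228492)) (tt N35853 F170294) (tt N95675 (iv3 F409095)) (tt N95676 D198755) (tt N31199 (iv5 D110139)) (tt N95677 D198756) (tt N35856 F170295))
theorem Q58684 : ∀ i, i < 58684 → P i := stepQ 58683 Q58683 (allL N58683 (tt N89782 F387538) (tt N95034 F406742) (tt N94700 (iv2 F405585)) (tt N31201 (iv3 D110150)) (tt N58241 F170306) (tt N95678 D198757) (tt N92878 (iv6 F398626)) (tt N95109 (iv7 F407083)))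
theorem Q58685 : ∀ i, i < 58685 → P i := stepQ 58684 Q58684 (allL N58684 (tt N57853 F362603) (tt N94555 F404959) (tt N94554 F404953) (tt N95678 (iv3 F409107)) (tt N70285 (iv4 F404949)) (tt N31201 (iv5 D110151)) (tt N95679 D198758) (tt N94553 F404948))
theorem Q58686 : ∀ i, i < 58686 → P i := stepQ 58685 Q58685 (allL N58685 (tt N58731 F362593) (tt N58730 F362600) (tt N95111 (iv2 F407090)) (tt N92878 F398627) (tt N48338 F325620) (tt N92876 (iv5 F398628)) (tt N31201 (iv6 D110152)) (tt N59950 (iv7 F366012)))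
theorem Q58687 : ∀ i, i < 58687 → P i := stepQ 58686 Q58686 (allL N58686 (tt N94555 (iv1 F404960)) (tt N57853 (iv0 F360045)) (tt N94553 F404945) (tt N94673 F405477) (tt N64827 (iv4 F360048)) (tt N31202 (iv5 D110153)) (tt N64829 F360046) (tt N94554 (iv7 F404951)))
theorem Q58688 : ∀ i, i < 58688 → P i := stepQ 58687 Q58687 (allL N58687 (tt N31203 (iv1 D110155)) (tt N95039 F406766) (tt N60584 (iv2 F204665)) (tt N93447 (iv3 F400765)) (tt N55654 (iv4 F170308)) (tt N95680 D198759) (tt N59952 (iv6 F361218)) (tt N60580 (iv7 F204627)))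
theorem Q58689 : ∀ i, i < 58689 → P i := stepQ 58688 Q58688 (allL N58688 (tt N60580 (iv1 F204666)) (tt N60584 F176614) (tt N31203 (iv2 D110156)) (tt N72886 (iv3 F223510)) (tt N81749 (iv4 F358843)) (tt N95681 D198760) (tt N80356 F358863) (tt N95039 (iv7 F406762)))
theorem Q58690 : ∀ i, i < 58690 → P i := stepQ 58689 Q58689 (allL N58689 (tt N73132 (iv1 F345630)) (tt N95682 D198761) (tt N95681 (iv2 F409118)) (tt N31204 F170309) (tt N73256 (iv4 F345631)) (tt N31203 (iv5 D110157)) (tt N73768 F358851) (tt N95683 D198762))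
theorem Q58691 : ∀ i, i < 58691 → P i := stepQ 58690 Q58690 (allL N58690 (tt N95059 F406892) (tt N73987 F358852) (tt N80356 (iv2 F358847)) (tt N31205 F170310) (tt N79532 F358846) (tt N80347 (iv5 F358849)) (tt N31203 (iv6 D110158)) (tt N79173 (iv7 F358848)))
theorem Q58692 : ∀ i, i < 58692 → P i := stepQ 58691 Q58691 (allL N58691 (tt N60584 F176613) (tt N60580 (iv0 F176607)) (tt N95039 (iv2 F406761)) (tt N31206 F170311) (tt N35855 F170312) (tt N95683 (iv5 F409127)) (tt N46711 F325621) (tt N31203 (iv7 D110159)))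
theorem Q58693 : ∀ i, i < 58693 → P i := stepQ 58692 Q58692 (allL N58692 (tt N31216 (iv1 F170316)) (tt N31204 (iv0 D110160)) (tt N81964 (iv2 F359827)) (tt N89781 (iv3 F387532)) (tt N95684 D198763) (tt N59759 (iv5 F173874)) (tt N95685 D198764) (tt N95131 F407170))
theorem Q58694 : ∀ i, i < 58694 → P i := stepQ 58693 Q58693 (allL N58693 (tt N31204 (iv1 D110161)) (tt N31216 F170313) (tt N95131 (iv2 F407166)) (tt N58093 F170974) (tt N95686 D198765) (tt N58091 (iv5 F170972)) (tt N59451 F343158) (tt N81964 F359822))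
theorem Q58695 : ∀ i, i < 58695 → P i := stepQ 58694 Q58694 (allL N58694 (tt N95215 (iv1 F407451)) (tt N86272 F375635) (tt N95672 (iv2 F409076)) (tt N73257 F345632) (tt N31204 (iv4 D110162)) (tt N82300 F362608) (tt N95687 D198766) (tt N95688 D198767))
theorem Q58696 : ∀ i, i < 58696 → P i := stepQ 58695 Q58695 (allL N58695 (tt N72629 F360047) (tt N95689 D198768) (tt N95673 (iv2 F409086)) (tt N73768 (iv3 F358854)) (tt N95687 (iv4 F409142)) (tt N95690 D198769) (tt N31204 (iv6 D110163)) (tt N95691 D198770))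
theorem Q58697 : ∀ i, i < 58697 → P i := stepQ 58696 Q58696 (allL N58696 (tt N95131 F407171) (tt N81964 F325622) (tt N31216 F170314) (tt N95683 (iv3 F409125)) (tt N95688 (iv4 F409147)) (tt N31206 F170315) (tt N95692 D198771) (tt N31204 (iv7 D110164)))
theorem Q58698 : ∀ i, i < 58698 → P i := stepQ 58697 Q58697 (allL N58697 (tt N65044 F358856) (tt N65037 (iv0 F362607)) (tt N79176 F365855) (tt N80347 F358850) (tt N95693 D198772) (tt N31205 (iv5 D110167)) (tt N95690 (iv6 F409155)) (tt N79174 (iv7 F358860)))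
theorem Q58699 : ∀ i, i < 58699 → P i := stepQ 58698 Q58698 (allL N58698 (tt N40427 (iv1 F170322)) (tt N40426 F170332) (tt N31637 F170320) (tt N95694 D198773) (tt N31207 (iv4 D110170)) (tt N59593 (iv5 F343745)) (tt N35026 F324530) (tt N40428 F170321))
theorem Q58700 : ∀ i, i < 58700 → P i := stepQ 58699 Q58699 (allL N58699 (tt N58473 (iv1 F170935)) (tt N35220 (iv0 F326119)) (tt N31834 F170333) (tt N47886 (iv3 F326101)) (tt N35026 F325340) (tt N52810 F325341) (tt N31207 (iv6 D110171)) (tt N52809 (iv7 F326112)))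
theorem Q58701 : ∀ i, i < 58701 → P i := stepQ 58700 Q58700 (allL N58700 (tt N65585 F202068) (tt N65581 (iv0 F408193)) (tt N95695 D198774) (tt N31208 (iv3 D110173)) (tt N95440 (iv4 F408189)) (tt N95696 D198775) (tt N81957 F365906) (tt N95697 D198776))
theorem Q58702 : ∀ i, i < 58702 → P i := stepQ 58701 Q58701 (allL N58701 (tt N64826 F360059) (tt N82452 F360064) (tt N95674 (iv2 F409089)) (tt N95696 (iv3 F409176)) (tt N82301 (iv4 F360065)) (tt N31208 (iv5 D110174)) (tt N95698 D198777) (tt N95699 D198778))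
theorem Q58703 : ∀ i, i < 58703 → P i := stepQ 58702 Q58702 (allL N58702 (tt N59829 (iv1 F174180)) (tt N64610 F325632) (tt N31218 F170340) (tt N95697 (iv3 F409182)) (tt N31210 F170341) (tt N95699 (iv5 F409197)) (tt N44652 F325633) (tt N31208 (iv7 D110176)))
theorem Q58704 : ∀ i, i < 58704 → P i := stepQ 58703 Q58703 (allL N58703 (tt N95144 F407223) (tt N40801 F404364) (tt N95040 (iv2 F406767)) (tt N31214 (iv3 D110205)) (tt N31215 F170379) (tt N94411 (iv5 F404362)) (tt N44849 F325604) (tt N95037 (iv7 F406753)))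
theorem Q58705 : ∀ i, i < 58705 → P i := stepQ 58704 Q58704 (allL N58704 (tt N54412 (iv1 F349501)) (tt N59828 F174187) (tt N47649 F325605) (tt N94411 (iv3 F404361)) (tt N54405 F344520) (tt N31214 (iv5 D110206)) (tt N54518 (iv6 F353350)) (tt N95445 (iv7 F408210)))
theorem Q58706 : ∀ i, i < 58706 → P i := stepQ 58705 Q58705 (allL N58705 (tt N95065 (iv1 F406920)) (tt N57996 (iv0 F375636)) (tt N95041 (iv2 F406774)) (tt N31216 F170385) (tt N85604 F373189) (tt N31215 (iv5 D110216)) (tt N90160 F388724) (tt N95038 (iv7 F406757)))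
theorem Q58707 : ∀ i, i < 58707 → P i := stepQ 58706 Q58706 (allL N58706 (tt N82520 F327003) (tt N94723 (iv0 F405676)) (tt N95042 (iv2 F406780)) (tt N31217 F170386) (tt N44849 F327004) (tt N90161 (iv5 F388726)) (tt N31215 (iv6 D110217)) (tt N46708 F327005))
theorem Q58708 : ∀ i, i < 58708 → P i := stepQ 58707 Q58707 (allL N58707 (tt N86272 F375634) (tt N95215 (iv0 F407450)) (tt N95688 (iv2 F409145)) (tt N53166 (iv3 F373190)) (tt N31216 (iv4 D110218)) (tt N82301 F360066) (tt N95700 D198779) (tt N95672 (iv7 F409078)))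
theorem Q58709 : ∀ i, i < 58709 → P i := stepQ 58708 Q58708 (allL N58708 (tt N95125 (iv1 F407138)) (tt N89779 (iv0 F387522)) (tt N95692 (iv2 F409160)) (tt N90160 (iv3 F388723)) (tt N95700 (iv4 F409201)) (tt N56789 (iv5 F343157)) (tt N31216 (iv6 D110219)) (tt N95701 D198780))
theorem Q58710 : ∀ i, i < 58710 → P i := stepQ 58709 Q58709 (allL N58709 (tt N44654 F327006) (tt N44659 F327007) (tt N46712 F327008) (tt N90161 (iv3 F388725)) (tt N46709 F327009) (tt N31217 (iv5 D110222)) (tt N56789 F343109) (tt N46709 F327010))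
theorem Q58711 : ∀ i, i < 58711 → P i := stepQ 58710 Q58710 (allL N58710 (tt N94949 (iv1 F406468)) (tt N31643 (iv0 F170388)) (tt N94948 F406463) (tt N31218 (iv3 D110224)) (tt N79846 (iv4 F365922)) (tt N95702 D198781) (tt N79429 F365921) (tt N94947 F406460))
theorem Q58712 : ∀ i, i < 58712 → P i := stepQ 58711 Q58711 (allL N58711 (tt N82452 (iv1 F360073)) (tt N64826 F360060) (tt N95699 (iv2 F409194)) (tt N95702 (iv3 F409208)) (tt N82300 (iv4 F362609)) (tt N31218 (iv5 D110225)) (tt N95703 D198782) (tt N95674 (iv7 F409090)))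
theorem Q58713 : ∀ i, i < 58713 → P i := stepQ 58712 Q58712 (allL N58712 (tt N31623 (iv1 F170397)) (tt N31622 F170398) (tt N31626 F170394) (tt N31219 (iv3 D110245)) (tt N56845 F330492) (tt N95704 D198783) (tt N35555 F330493) (tt N31624 F170396))
theorem Q58714 : ∀ i, i < 58714 → P i := stepQ 58713 Q58713 (allL N58713 (tt N31761 (iv1 F170401)) (tt N31760 F170402) (tt N31227 F170399) (tt N95704 (iv3 F409213)) (tt N82302 F362612) (tt N31219 (iv5 D110246)) (tt N95705 D198784) (tt N31759 F170400))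
theorem Q58715 : ∀ i, i < 58715 → P i := stepQ 58714 Q58714 (allL N58714 (tt N58322 (iv1 F170406)) (tt N58321 F170407) (tt N31228 F170403) (tt N35555 F330457) (tt N31220 F170404) (tt N35554 F330458) (tt N31219 (iv6 D110247)) (tt N56843 (iv7 F330464)))
theorem Q58716 : ∀ i, i < 58716 → P i := stepQ 58715 Q58715 (allL N58715 (tt N65663 F202212) (tt N65660 (iv0 F202207)) (tt N95706 D198785) (tt N31221 (iv3 D110256)) (tt N35718 F170465) (tt N95054 (iv5 F406858)) (tt N45369 F325244) (tt N31968 F170466))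
theorem Q58717 : ∀ i, i < 58717 → P i := stepQ 58716 Q58716 (allL N58716 (tt N95707 D198786) (tt N95708 D198787) (tt N31976 F170467) (tt N95054 F406859) (tt N89784 F387549) (tt N31221 (iv5 D110257)) (tt N95709 D198788) (tt N31701 F341353))
theorem Q58718 : ∀ i, i < 58718 → P i := stepQ 58717 Q58717 (allL N58717 (tt N95710 D198789) (tt N31693 (iv0 F170487)) (tt N95711 D198790) (tt N31223 (iv3 D110265)) (tt N88179 (iv4 F382043)) (tt N95712 D198791) (tt N80601 (iv6 F363326)) (tt N31975 F170486))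
theorem Q58719 : ∀ i, i < 58719 → P i := stepQ 58718 Q58718 (allL N58718 (tt N95708 (iv1 F409233)) (tt N95707 F409230) (tt N31701 F341348) (tt N95712 (iv3 F409256)) (tt N33347 F341349) (tt N31223 (iv5 D110266)) (tt N31607 F341350) (tt N31976 F170489))
theorem Q58720 : ∀ i, i < 58720 → P i := stepQ 58719 Q58719 (allL N58719 (tt N95713 D198792) (tt N95714 D198793) (tt N95715 D198794) (tt N31225 (iv3 D110273)) (tt N57301 F170501) (tt N95716 D198795) (tt N35228 F325613) (tt N31755 F173299))
theorem Q58721 : ∀ i, i < 58721 → P i := stepQ 58720 Q58720 (allL N58720 (tt N73092 (iv1 F223796)) (tt N59409 F173305) (tt N31758 F173304) (tt N95716 (iv3 F409279)) (tt N95241 (iv4 F407549)) (tt N31225 (iv5 D110275)) (tt N95717 D198796) (tt N31742 F343752))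
theorem Q58722 : ∀ i, i < 58722 → P i := stepQ 58721 Q58721 (allL N58721 (tt N60517 F176538) (tt N60520 (iv0 F203209)) (tt N95718 D198797) (tt N31226 (iv3 D110278)) (tt N35906 F170516) (tt N95719 D198798) (tt N64586 F365963) (tt N31757 F173293))
theorem Q58723 : ∀ i, i < 58723 → P i := stepQ 58722 Q58722 (allL N58722 (tt N59409 (iv1 F172859)) (tt N73092 (iv0 F223795)) (tt N31742 F343748) (tt N95719 (iv3 F409294)) (tt N66414 F343749) (tt N31226 (iv5 D110279)) (tt N31617 F343750) (tt N31758 F173295))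
theorem Q58724 : ∀ i, i < 58724 → P i := stepQ 58723 Q58723 (allL N58723 (tt N31759 (iv1 F170519)) (tt N31227 (iv0 D110281)) (tt N31761 F172849) (tt N95720 D198799) (tt N95229 (iv4 F407504)) (tt N40426 F170518) (tt N95721 D198800) (tt N31760 (iv7 F172848)))
theorem Q58725 : ∀ i, i < 58725 → P i := stepQ 58724 Q58724 (allL N58724 (tt N31227 (iv1 D110282)) (tt N31759 F170520) (tt N31760 (iv2 F172850)) (tt N95722 D198801) (tt N95217 (iv4 F407457)) (tt N40427 F170521) (tt N31771 F362245) (tt N31761 F172851))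
theorem Q58726 : ∀ i, i < 58726 → P i := stepQ 58725 Q58725 (allL N58725 (tt N82301 F360070) (tt N82300 F362610) (tt N82302 (iv2 F362611)) (tt N95723 D198802) (tt N31227 (iv4 D110283)) (tt N95202 (iv5 F407394)) (tt N95724 D198803) (tt N31762 F170522))
theorem Q58727 : ∀ i, i < 58727 → P i := stepQ 58726 Q58726 (allL N58726 (tt N93598 F401232) (tt N95725 D198804) (tt N95705 (iv2 F409218)) (tt N31773 F170523) (tt N95724 (iv4 F409319)) (tt N95726 D198805) (tt N31227 (iv6 D110284)) (tt N82279 (iv7 F364129)))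
theorem Q58728 : ∀ i, i < 58728 → P i := stepQ 58727 Q58727 (allL N58727 (tt N56843 (iv1 F330460)) (tt N31228 (iv0 D110285)) (tt N58322 (iv2 F358796)) (tt N79396 F358712) (tt N35508 F358713) (tt N92868 (iv5 F398584)) (tt N35507 F358714) (tt N58321 (iv7 F358798)))
theorem Q58729 : ∀ i, i < 58729 → P i := stepQ 58728 Q58728 (allL N58728 (tt N31228 (iv1 D110286)) (tt N56843 (iv0 F330459)) (tt N58321 F358799) (tt N94434 (iv3 F404466)) (tt N35214 F326201) (tt N92867 (iv5 F398577)) (tt N35213 F326202) (tt N58322 F358797))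
theorem Q58730 : ∀ i, i < 58730 → P i := stepQ 58729 Q58729 (allL N58729 (tt N56841 F330467) (tt N56840 F330468) (tt N35554 F330469) (tt N31776 F170526) (tt N57597 F330470) (tt N31228 (iv5 D110287)) (tt N95726 (iv6 F409326)) (tt N56842 F330471))
theorem Q58731 : ∀ i, i < 58731 → P i := stepQ 58730 Q58730 (allL N58730 (tt N58685 (iv1 F362600)) (tt N82356 (iv0 F333473)) (tt N58735 (iv2 F360075)) (tt N95727 D198806) (tt N31229 (iv4 D110290)) (tt N95728 D198807) (tt N64282 F360074) (tt N58732 (iv7 F360076)))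
theorem Q58732 : ∀ i, i < 58732 → P i := stepQ 58731 Q58731 (allL N58731 (tt N82356 (iv1 F362616)) (tt N58685 (iv0 F362593)) (tt N58732 (iv2 F362602)) (tt N95729 D198808) (tt N31230 (iv4 D110295)) (tt N95730 D198809) (tt N64353 F362614) (tt N58735 F362615))
theorem Q58733 : ∀ i, i < 58733 → P i := stepQ 58732 Q58732 (allL N58732 (tt N59950 F362595) (tt N95111 (iv0 F407094)) (tt N58731 F362602) (tt N93444 (iv3 F400757)) (tt N31231 (iv4 D110300)) (tt N95731 D198810) (tt N35216 F327886) (tt N58730 F360076))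
theorem Q58734 : ∀ i, i < 58734 → P i := stepQ 58733 Q58733 (allL N58733 (tt N45627 F326644) (tt N34729 F326645) (tt N45631 F326646) (tt N45820 F326647) (tt N78442 F326648) (tt N31231 (iv5 D110301)) (tt N45618 F326649) (tt N45630 F326650))
theorem Q58735 : ∀ i, i < 58735 → P i := stepQ 58734 Q58734 (allL N58734 (tt N85738 F373750) (tt N59936 F358808) (tt N46222 F358809) (tt N31232 (iv3 D110304)) (tt N47614 F358810) (tt N34656 F358811) (tt N34731 F358812) (tt N45664 F358813))
theorem Q58736 : ∀ i, i < 58736 → P i := stepQ 58735 Q58735 (allL N58735 (tt N95111 F407095) (tt N59950 F362601) (tt N58730 F360075) (tt N95732 D198811) (tt N31232 (iv4 D110305)) (tt N95733 D198812) (tt N46701 F358824) (tt N58731 (iv7 F362615)))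
theorem Q58737 : ∀ i, i < 58737 → P i := stepQ 58736 Q58736 (allL N58736 (tt N34729 F326634) (tt N45627 F326635) (tt N45630 F326636) (tt N34656 F326637) (tt N78443 F326638) (tt N31232 (iv5 D110306)) (tt N45611 F326639) (tt N45631 F326640))
theorem Q58738 : ∀ i, i < 58738 → P i := stepQ 58737 Q58737 (allL N58737 (tt N34727 F358814) (tt N34768 F358815) (tt N45539 F358816) (tt N34731 F358817) (tt N46701 F358818) (tt N46377 F358819) (tt N31232 (iv6 D110307)) (tt N45540 F358820))
theorem Q58739 : ∀ i, i < 58739 → P i := stepQ 58738 Q58738 (allL N58738 (tt N59851 F362594) (tt N59910 (iv0 F362582)) (tt N79871 F326190) (tt N31234 (iv3 D110321)) (tt N31237 F170553) (tt N95734 D198813) (tt N45666 F326191) (tt N59961 (iv7 F174981)))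
theorem Q58740 : ∀ i, i < 58740 → P i := stepQ 58739 Q58739 (allL N58739 (tt N95735 D198814) (tt N95736 D198815) (tt N95300 (iv2 F407776)) (tt N95734 (iv3 F409366)) (tt N95737 D198816) (tt N31234 (iv5 D110322)) (tt N95738 D198817) (tt N59962 (iv7 F174982)))
theorem Q58741 : ∀ i, i < 58741 → P i := stepQ 58740 Q58740 (allL N58740 (tt N95490 (iv1 F408351)) (tt N95494 F408365) (tt N83523 F340610) (tt N45666 F325044) (tt N31236 F170554) (tt N95739 D198818) (tt N31234 (iv6 D110323)) (tt N78163 (iv7 F246407)))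
theorem Q58742 : ∀ i, i < 58742 → P i := stepQ 58741 Q58741 (allL N58741 (tt N58415 (iv1 F170558)) (tt N31235 (iv0 D110324)) (tt N31827 (iv2 F170557)) (tt N95287 (iv3 F407735)) (tt N95740 D198819) (tt N58388 F170555) (tt N31792 F170556) (tt N58388 F170559))
theorem Q58743 : ∀ i, i < 58743 → P i := stepQ 58742 Q58742 (allL N58742 (tt N78529 (iv1 F365759)) (tt N58460 (iv0 F220391)) (tt N95301 (iv2 F407781)) (tt N45979 F327057) (tt N31235 (iv4 D110325)) (tt N95741 D198820) (tt N39579 F170560) (tt N59964 (iv7 F174985)))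
theorem Q58744 : ∀ i, i < 58744 → P i := stepQ 58743 Q58743 (allL N58743 (tt N69443 (iv1 F355473)) (tt N69446 (iv0 F363717)) (tt N87657 (iv2 F380009)) (tt N31243 (iv3 D110333)) (tt N68436 (iv4 F210444)) (tt N32155 F170570) (tt N87635 (iv6 F379956)) (tt N55069 (iv7 F331342)))
theorem Q58745 : ∀ i, i < 58745 → P i := stepQ 58744 Q58744 (allL N58744 (tt N95742 D198821) (tt N95743 D198822) (tt N38288 F170571) (tt N87635 (iv3 F379954)) (tt N31244 F170572) (tt N95744 D198823) (tt N31243 (iv6 D110334)) (tt N87632 (iv7 F379951)))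
theorem Q58746 : ∀ i, i < 58746 → P i := stepQ 58745 Q58745 (allL N58745 (tt N38292 (iv1 F170576)) (tt N31244 (iv0 D110335)) (tt N38289 (iv2 F171485)) (tt N51393 F376675) (tt N93901 (iv4 F402347)) (tt N94018 (iv5 F402839)) (tt N74384 (iv6 F227668)) (tt N38290 F171484))
theorem Q58747 : ∀ i, i < 58747 → P i := stepQ 58746 Q58746 (allL N58746 (tt N31244 (iv1 D110336)) (tt N38292 F170573) (tt N38290 F171482) (tt N86819 F377296) (tt N93902 (iv4 F402351)) (tt N58934 (iv5 F171481)) (tt N61242 (iv6 F178425)) (tt N38289 (iv7 F171483)))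
theorem Q58748 : ∀ i, i < 58748 → P i := stepQ 58747 Q58747 (allL N58747 (tt N38290 (iv1 F170577)) (tt N38289 F170578) (tt N38292 F170574) (tt N68441 (iv3 F210446)) (tt N87632 (iv4 F379950)) (tt N86828 (iv5 F377331)) (tt N51343 F170575) (tt N31244 (iv7 D110337)))
theorem Q58749 : ∀ i, i < 58749 → P i := stepQ 58748 Q58748 (allL N58748 (tt N31245 (iv1 D110338)) (tt N40317 F170579) (tt N35875 F170581) (tt N40044 (iv3 F170580)) (tt N59683 F173493) (tt N95745 D198824) (tt N94276 (iv6 F403924)) (tt N59965 (iv7 F174994)))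
theorem Q58750 : ∀ i, i < 58750 → P i := stepQ 58749 Q58749 (allL N58749 (tt N31246 (iv1 D110339)) (tt N32151 F170582) (tt N57407 (iv2 F171839)) (tt N31450 F170584) (tt N44291 F170583) (tt N95746 D198825) (tt N95747 D198826) (tt N60055 (iv7 F175402)))
theorem Q58751 : ∀ i, i < 58751 → P i := stepQ 58750 Q58750 (allL N58750 (tt N57295 (iv1 F170587)) (tt N31247 (iv0 D110340)) (tt N57294 (iv2 F170590)) (tt N71040 (iv3 F219340)) (tt N66693 (iv4 F205177)) (tt N55982 F170586) (tt N80032 F359282) (tt N57293 (iv7 F170592)))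
theorem Q58752 : ∀ i, i < 58752 → P i := stepQ 58751 Q58751 (allL N58751 (tt N31247 (iv1 D110341)) (tt N57295 F170593) (tt N57293 F170591) (tt N75296 (iv3 F231092)) (tt N56030 (iv4 F170588)) (tt N95748 D198827) (tt N95749 D198828) (tt N57294 F170589))
theorem Q58753 : ∀ i, i < 58753 → P i := stepQ 58752 Q58752 (allL N58752 (tt N57294 (iv1 F170597)) (tt N57293 F170596) (tt N31247 (iv2 D110342)) (tt N60057 (iv3 F175408)) (tt N58637 F170594) (tt N95750 D198829) (tt N95751 D198830) (tt N57295 F170595))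
theorem Q58754 : ∀ i, i < 58754 → P i := stepQ 58753 Q58753 (allL N58753 (tt N72726 (iv1 F353477)) (tt N95752 D198831) (tt N95750 (iv2 F409448)) (tt N31248 F170598) (tt N56024 F170600) (tt N31247 (iv5 D110343)) (tt N79997 (iv6 F361255)) (tt N57296 F170599))
theorem Q58755 : ∀ i, i < 58755 → P i := stepQ 58754 Q58754 (allL N58754 (tt N43194 F348546) (tt N48032 F348547) (tt N95751 (iv2 F409454)) (tt N31249 F170601) (tt N58638 F170602) (tt N72408 F348548) (tt N31247 (iv6 D110344)) (tt N59967 (iv7 F175010)))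
theorem Q58756 : ∀ i, i < 58756 → P i := stepQ 58755 Q58755 (allL N58755 (tt N62142 F350932) (tt N62146 (iv0 F357032)) (tt N60059 (iv2 F175418)) (tt N79997 F361256) (tt N67149 (iv4 F206789)) (tt N79996 (iv5 F339018)) (tt N31248 (iv6 D110345)) (tt N94059 (iv7 F403018)))
theorem Q58757 : ∀ i, i < 58757 → P i := stepQ 58756 Q58756 (allL N58756 (tt N31319 (iv1 F170604)) (tt N31249 (iv0 D110346)) (tt N59969 (iv2 F175016)) (tt N80859 (iv3 F345385)) (tt N31780 F170603) (tt N68485 (iv5 F333436)) (tt N95753 D198832) (tt N58361 (iv7 F170605)))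
theorem Q58758 : ∀ i, i < 58758 → P i := stepQ 58757 Q58757 (allL N58757 (tt N31249 (iv1 D110347)) (tt N31319 F170606) (tt N58361 F170608) (tt N81510 (iv3 F359781)) (tt N55680 (iv4 F170607)) (tt N68447 (iv5 F333437)) (tt N95754 D198833) (tt N59969 (iv7 F175014)))
theorem Q58759 : ∀ i, i < 58759 → P i := stepQ 58758 Q58758 (allL N58758 (tt N34214 F332190) (tt N47340 F332191) (tt N47289 (iv2 F332194)) (tt N72408 (iv3 F339017)) (tt N76913 F332192) (tt N31249 (iv5 D110348)) (tt N79996 F339016) (tt N47338 F332193))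
theorem Q58760 : ∀ i, i < 58760 → P i := stepQ 58759 Q58759 (allL N58759 (tt N35896 F170610) (tt N32252 (iv0 F170611)) (tt N35913 F170609) (tt N63477 (iv3 F332177)) (tt N31250 (iv4 D110349)) (tt N63476 F332176) (tt N48271 F326657) (tt N59970 (iv7 F175020)))
theorem Q58761 : ∀ i, i < 58761 → P i := stepQ 58760 Q58760 (allL N58760 (tt N32024 F170613) (tt N58767 (iv0 F170639)) (tt N35914 F170612) (tt N58782 (iv3 F170737)) (tt N63556 (iv4 F332178)) (tt N31250 (iv5 D110350)) (tt N31999 F170614) (tt N58782 (iv7 F170738)))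
theorem Q58762 : ∀ i, i < 58762 → P i := stepQ 58761 Q58761 (allL N58761 (tt N35891 F170619) (tt N35899 (iv0 F170617)) (tt N35915 F170615) (tt N59971 (iv3 F175024)) (tt N48271 F326914) (tt N57311 F170616) (tt N31250 (iv6 D110351)) (tt N57374 (iv7 F170618)))
theorem Q58763 : ∀ i, i < 58763 → P i := stepQ 58762 Q58762 (allL N58762 (tt N45927 F325672) (tt N31251 (iv0 D110352)) (tt N45925 F342288) (tt N86370 (iv3 F375972)) (tt N75291 (iv4 F343344)) (tt N44117 F350824) (tt N95755 D198834) (tt N45926 F342289))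
theorem Q58764 : ∀ i, i < 58764 → P i := stepQ 58763 Q58763 (allL N58763 (tt N31251 (iv1 D110353)) (tt N45927 F325671) (tt N45926 F342285) (tt N95756 D198835) (tt N75287 F350840) (tt N82057 (iv5 F342290)) (tt N46148 F342286) (tt N45925 F342287))
theorem Q58765 : ∀ i, i < 58765 → P i := stepQ 58764 Q58764 (allL N58764 (tt N95757 D198836) (tt N95758 D198837) (tt N45780 F325676) (tt N31252 F170621) (tt N95759 D198838) (tt N31251 (iv5 D110355)) (tt N45776 F325677) (tt N60060 (iv7 F175429)))
theorem Q58766 : ∀ i, i < 58766 → P i := stepQ 58765 Q58765 (allL N58765 (tt N95760 D198839) (tt N95761 D198840) (tt N31283 F170623) (tt N45776 F323130) (tt N33108 F170624) (tt N34644 F323131) (tt N31252 (iv6 D110357)) (tt N95762 D198841))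
theorem Q58767 : ∀ i, i < 58767 → P i := stepQ 58766 Q58766 (allL N58766 (tt N57862 F170638) (tt N45849 (iv0 F326782)) (tt N31290 F170713) (tt N82429 F325960) (tt N31255 (iv4 D110364)) (tt N46169 F325961) (tt N95763 D198842) (tt N31287 F170708))
theorem Q58768 : ∀ i, i < 58768 → P i := stepQ 58767 Q58767 (allL N58767 (tt N58760 F170639) (tt N35804 F170640) (tt N31292 (iv2 F170641)) (tt N92117 (iv3 F395822)) (tt N95763 (iv4 F409521)) (tt N59976 (iv5 F175056)) (tt N31255 (iv6 D110365)) (tt N59976 (iv7 F175057)))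
theorem Q58769 : ∀ i, i < 58769 → P i := stepQ 58768 Q58768 (allL N58768 (tt N31257 (iv1 D110367)) (tt N65623 F202145) (tt N41513 F173023) (tt N40328 (iv3 F173015)) (tt N59695 (iv4 F173565)) (tt N71858 (iv5 F220757)) (tt N59978 F175104) (tt N71704 (iv7 F220394)))
theorem Q58770 : ∀ i, i < 58770 → P i := stepQ 58769 Q58769 (allL N58769 (tt N41513 (iv1 F173559)) (tt N71704 (iv0 F220397)) (tt N65623 (iv2 F202140)) (tt N31263 F170719) (tt N58504 F170720) (tt N36074 F170721) (tt N31350 F170722) (tt N31257 (iv7 D110368)))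
theorem Q58771 : ∀ i, i < 58771 → P i := stepQ 58770 Q58770 (allL N58770 (tt N60066 (iv1 F175444)) (tt N31258 (iv0 D110369)) (tt N60065 (iv2 F224607)) (tt N82014 F353507) (tt N87458 (iv4 F379394)) (tt N72726 F223032) (tt N82012 (iv6 F353481)) (tt N60064 (iv7 F224609)))
theorem Q58772 : ∀ i, i < 58772 → P i := stepQ 58771 Q58771 (allL N58771 (tt N31258 (iv1 D110370)) (tt N60066 F175446) (tt N60064 F224608) (tt N95764 D198843) (tt N72734 F223046) (tt N95752 (iv5 F409463)) (tt N79848 (iv6 F353241)) (tt N60065 F224606))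
theorem Q58773 : ∀ i, i < 58773 → P i := stepQ 58772 Q58772 (allL N58772 (tt N60065 (iv1 F175445)) (tt N60064 F175440) (tt N31258 (iv2 D110371)) (tt N60075 (iv3 F175478)) (tt N58500 F170723) (tt N92497 (iv5 F397165)) (tt N95765 D198844) (tt N60066 (iv7 F175443)))
theorem Q58774 : ∀ i, i < 58774 → P i := stepQ 58773 Q58773 (allL N58773 (tt N73328 F224407) (tt N92495 (iv0 F397158)) (tt N92497 F397167) (tt N31259 F170724) (tt N72714 (iv4 F223002)) (tt N31258 (iv5 D110372)) (tt N71370 F349878) (tt N60067 (iv7 F175448)))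
theorem Q58775 : ∀ i, i < 58775 → P i := stepQ 58774 Q58774 (allL N58774 (tt N66506 F349874) (tt N66500 F349879) (tt N95765 (iv2 F409530)) (tt N31260 F170725) (tt N58501 F170726) (tt N71371 (iv5 F349875)) (tt N31258 (iv6 D110373)) (tt N95766 D198845))
theorem Q58776 : ∀ i, i < 58776 → P i := stepQ 58775 Q58775 (allL N58775 (tt N77981 F354572) (tt N86376 (iv0 F376003)) (tt N60078 (iv2 F175488)) (tt N71370 (iv3 F349884)) (tt N61978 (iv4 F179771)) (tt N71369 F349887) (tt N31259 (iv6 D110374)) (tt N95767 D198846))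
theorem Q58777 : ∀ i, i < 58777 → P i := stepQ 58776 Q58776 (allL N58776 (tt N60082 (iv1 F175503)) (tt N31260 (iv0 D110375)) (tt N60079 F175490) (tt N95768 D198847) (tt N57983 F170727) (tt N95769 D198848) (tt N95288 (iv6 F407738)) (tt N60080 (iv7 F175494)))
theorem Q58778 : ∀ i, i < 58778 → P i := stepQ 58777 Q58777 (allL N58777 (tt N31260 (iv1 D110376)) (tt N60082 F175502) (tt N60080 F175496) (tt N45744 F348409) (tt N58060 F170728) (tt N95770 D198849) (tt N47344 F319925) (tt N60079 F175491))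
theorem Q58779 : ∀ i, i < 58779 → P i := stepQ 58778 Q58778 (allL N58778 (tt N95771 D198850) (tt N92067 (iv0 F395604)) (tt N60081 (iv2 F175498)) (tt N71371 F349877) (tt N95772 D198851) (tt N31260 (iv5 D110377)) (tt N71369 (iv6 F349888)) (tt N95773 D198852))
theorem Q58780 : ∀ i, i < 58780 → P i := stepQ 58779 Q58779 (allL N58779 (tt N60080 (iv1 F175493)) (tt N60079 F175492) (tt N60082 (iv2 F175499)) (tt N95766 (iv3 F409536)) (tt N31263 F170730) (tt N95773 (iv5 F409573)) (tt N31351 F170731) (tt N31260 (iv7 D110378)))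
theorem Q58781 : ∀ i, i < 58781 → P i := stepQ 58780 Q58780 (allL N58780 (tt N60094 (iv1 F175545)) (tt N31273 F170744) (tt N41583 F170732) (tt N95774 D198853) (tt N31261 (iv4 D110379)) (tt N79600 (iv5 F359729)) (tt N95775 D198854) (tt N60083 (iv7 F175506)))
theorem Q58782 : ∀ i, i < 58782 → P i := stepQ 58781 Q58781 (allL N58781 (tt N65835 F202624) (tt N57633 (iv0 F170735)) (tt N41584 F170733) (tt N59985 (iv3 F175120)) (tt N95776 D198855) (tt N31261 (iv5 D110380)) (tt N57507 F170734) (tt N60084 (iv7 F175512)))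
theorem Q58783 : ∀ i, i < 58783 → P i := stepQ 58782 Q58782 (allL N58782 (tt N31292 F170739) (tt N59976 (iv0 F175058)) (tt N35804 F170736) (tt N58760 F170737) (tt N95775 (iv4 F409585)) (tt N31989 F170740) (tt N31261 (iv6 D110381)) (tt N58760 F170738))
theorem Q58784 : ∀ i, i < 58784 → P i := stepQ 58783 Q58783 (allL N58783 (tt N31273 F170743) (tt N60094 F175544) (tt N60083 (iv2 F175504)) (tt N34627 (iv3 F319902)) (tt N31262 (iv4 D110382)) (tt N79589 F317713) (tt N41586 F170741) (tt N41583 F170742))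
theorem Q58785 : ∀ i, i < 58785 → P i := stepQ 58784 Q58784 (allL N58784 (tt N95777 D198856) (tt N95778 D198857) (tt N82433 F360698) (tt N31264 (iv3 D110383)) (tt N31266 F170745) (tt N59513 (iv5 F173046)) (tt N58111 F170746) (tt N31640 F170747))
theorem Q58786 : ∀ i, i < 58786 → P i := stepQ 58785 Q58785 (allL N58785 (tt N81493 (iv1 F360709)) (tt N80645 (iv0 F345509)) (tt N81492 F349926) (tt N31267 F170748) (tt N39634 F345511) (tt N31266 (iv5 D110387)) (tt N80828 F349900) (tt N60076 (iv7 F175485)))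
theorem Q58787 : ∀ i, i < 58787 → P i := stepQ 58786 Q58786 (allL N58786 (tt N95779 D198858) (tt N95780 D198859) (tt N60069 (iv2 F175452)) (tt N80828 (iv3 F349901)) (tt N61980 (iv4 F179775)) (tt N95781 D198860) (tt N31267 (iv6 D110389)) (tt N95782 D198861))
theorem Q58788 : ∀ i, i < 58788 → P i := stepQ 58787 Q58787 (allL N58787 (tt N31268 (iv1 D110390)) (tt N31351 F170751) (tt N60070 (iv2 F175456)) (tt N95783 D198862) (tt N31673 (iv4 F170753)) (tt N95784 D198863) (tt N60009 F175205) (tt N31670 F170752))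
theorem Q58789 : ∀ i, i < 58789 → P i := stepQ 58788 Q58788 (allL N58788 (tt N80476 F337180) (tt N80449 (iv0 F337178)) (tt N60071 (iv2 F175458)) (tt N52823 (iv3 F337179)) (tt N75607 F337176) (tt N31268 (iv5 D110391)) (tt N95781 (iv6 F409604)) (tt N52828 F351709))
theorem Q58790 : ∀ i, i < 58790 → P i := stepQ 58789 Q58789 (allL N58789 (tt N60070 (iv1 F175453)) (tt N31670 (iv0 F170756)) (tt N31351 F170754) (tt N52830 F351708) (tt N31270 F170755) (tt N52828 (iv5 F351643)) (tt N60082 (iv6 F175501)) (tt N31268 (iv7 D110392)))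
theorem Q58791 : ∀ i, i < 58791 → P i := stepQ 58790 Q58790 (allL N58790 (tt N31276 F170759) (tt N31347 (iv0 F170760)) (tt N31349 F170757) (tt N46150 F326949) (tt N31269 (iv4 D110393)) (tt N67902 (iv5 F342309)) (tt N46127 F326950) (tt N31322 F170758))
theorem Q58792 : ∀ i, i < 58792 → P i := stepQ 58791 Q58791 (allL N58791 (tt N46849 F328790) (tt N31271 (iv0 D110394)) (tt N60086 F373697) (tt N85733 (iv3 F373715)) (tt N95785 D198864) (tt N95786 D198865) (tt N95787 D198866) (tt N60085 F373695))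
theorem Q58793 : ∀ i, i < 58793 → P i := stepQ 58792 Q58792 (allL N58792 (tt N31271 (iv1 D110395)) (tt N46849 F328789) (tt N60085 (iv2 F373694)) (tt N95788 D198867) (tt N95789 D198868) (tt N95790 D198869) (tt N85729 F373693) (tt N60086 (iv7 F373696)))
theorem Q58794 : ∀ i, i < 58794 → P i := stepQ 58793 Q58793 (allL N58793 (tt N60086 (iv1 F175519)) (tt N60085 F175515) (tt N31271 (iv2 D110396)) (tt N60091 (iv3 F175529)) (tt N56983 F170761) (tt N81131 F328796) (tt N80378 F357787) (tt N46849 F328797))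
theorem Q58795 : ∀ i, i < 58795 → P i := stepQ 58794 Q58794 (allL N58794 (tt N60387 (iv1 F355866)) (tt N60392 (iv0 F355863)) (tt N81131 (iv2 F362991)) (tt N31272 F170762) (tt N93270 (iv4 F400222)) (tt N31271 (iv5 D110397)) (tt N77751 F347893) (tt N60087 (iv7 F175522)))
theorem Q58796 : ∀ i, i < 58796 → P i := stepQ 58795 Q58795 (allL N58795 (tt N80376 (iv1 F354774)) (tt N80375 F354785) (tt N80378 (iv2 F354773)) (tt N31273 F170763) (tt N56978 F170764) (tt N90558 (iv5 F390096)) (tt N31271 (iv6 D110398)) (tt N46855 F354772))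
theorem Q58797 : ∀ i, i < 58797 → P i := stepQ 58796 Q58796 (allL N58796 (tt N45776 F325666) (tt N35757 (iv0 F170765)) (tt N45778 F327226) (tt N90558 F390099) (tt N95791 D198870) (tt N31273 (iv5 D110400)) (tt N76155 (iv6 F357011)) (tt N45777 F327227))
theorem Q58798 : ∀ i, i < 58798 → P i := stepQ 58797 Q58797 (allL N58797 (tt N60083 F175508) (tt N41583 (iv0 F170768)) (tt N60094 (iv2 F175541)) (tt N46855 F328005) (tt N56958 F170766) (tt N45777 F342299) (tt N31347 F170767) (tt N31273 (iv7 D110401)))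
theorem Q58799 : ∀ i, i < 58799 → P i := stepQ 58798 Q58798 (allL N58798 (tt N60091 (iv1 F175532)) (tt N31274 (iv0 D110402)) (tt N60090 (iv2 F344694)) (tt N95792 D198871) (tt N87815 (iv4 F380633)) (tt N95793 D198872) (tt N82464 F344641) (tt N60089 F344700))
theorem Q58800 : ∀ i, i < 58800 → P i := stepQ 58799 Q58799 (allL N58799 (tt N31274 (iv1 D110403)) (tt N60091 F175534) (tt N60089 F344699) (tt N82490 (iv3 F344644)) (tt N51670 F344646) (tt N95794 D198873) (tt N51669 (iv6 F344645)) (tt N60090 (iv7 F344698)))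
theorem Q58801 : ∀ i, i < 58801 → P i := stepQ 58800 Q58800 (allL N58800 (tt N60090 (iv1 F175533)) (tt N60089 F175528) (tt N31274 (iv2 D110404)) (tt N46849 F328791) (tt N59780 (iv4 F174010)) (tt N66459 (iv5 F347145)) (tt N42898 F328793) (tt N60091 (iv7 F175531)))
theorem Q58802 : ∀ i, i < 58802 → P i := stepQ 58801 Q58801 (allL N58801 (tt N66451 (iv1 F344623)) (tt N66460 (iv0 F344622)) (tt N66459 (iv2 F347143)) (tt N31275 F170769) (tt N71043 F222811) (tt N31274 (iv5 D110405)) (tt N67012 (iv6 F344625)) (tt N60092 (iv7 F175536)))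
theorem Q58803 : ∀ i, i < 58803 → P i := stepQ 58802 Q58802 (allL N58802 (tt N75206 (iv1 F344684)) (tt N80363 F344629) (tt N42898 F344630) (tt N31276 F170770) (tt N59782 (iv4 F174018)) (tt N36490 F344631) (tt N31274 (iv6 D110406)) (tt N80361 F344632))
theorem Q58804 : ∀ i, i < 58804 → P i := stepQ 58803 Q58803 (allL N58803 (tt N79407 F350641) (tt N81101 F350646) (tt N60088 (iv2 F175525)) (tt N67012 F344627) (tt N40163 F170771) (tt N88510 (iv5 F383332)) (tt N31275 (iv6 D110407)) (tt N77753 (iv7 F347902)))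
theorem Q58805 : ∀ i, i < 58805 → P i := stepQ 58804 Q58804 (allL N58804 (tt N45982 F351015) (tt N85733 F373718) (tt N85731 (iv2 F373707)) (tt N31278 (iv3 D110414)) (tt N58538 F170787) (tt N95795 D198874) (tt N46146 F323140) (tt N45928 (iv7 F324020)))
theorem Q58806 : ∀ i, i < 58806 → P i := stepQ 58805 Q58805 (allL N58805 (tt N31961 F170788) (tt N44097 (iv0 F324184)) (tt N40642 (iv2 F324017)) (tt N95795 (iv3 F409692)) (tt N36656 F323141) (tt N31278 (iv5 D110415)) (tt N44107 F323142) (tt N34384 (iv7 F324022)))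
theorem Q58807 : ∀ i, i < 58807 → P i := stepQ 58806 Q58806 (allL N58806 (tt N95786 F409640) (tt N95790 (iv0 F409666)) (tt N89434 (iv2 F386499)) (tt N31280 (iv3 D110425)) (tt N95796 D198875) (tt N32249 F170797) (tt N47199 F327893) (tt N32248 F170798))
theorem Q58808 : ∀ i, i < 58808 → P i := stepQ 58807 Q58807 (allL N58807 (tt N79414 F350642) (tt N62693 F350643) (tt N33198 F170799) (tt N47199 F350644) (tt N33060 F170800) (tt N47198 F350645) (tt N31280 (iv6 D110426)) (tt N79415 F357021))
theorem Q58809 : ∀ i, i < 58809 → P i := stepQ 58808 Q58808 (allL N58808 (tt N95793 (iv1 F409684)) (tt N95794 (iv0 F409688)) (tt N75254 (iv2 F230894)) (tt N31281 (iv3 D110427)) (tt N95293 (iv4 F407757)) (tt N32227 F170801) (tt N68057 (iv6 F355450)) (tt N33197 F170802))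
theorem Q58810 : ∀ i, i < 58810 → P i := stepQ 58809 Q58809 (allL N58809 (tt N65297 F351330) (tt N63658 (iv0 F347851)) (tt N32251 F170803) (tt N68057 (iv3 F355448)) (tt N33202 F170804) (tt N60000 (iv5 F175186)) (tt N31281 (iv6 D110428)) (tt N82143 (iv7 F351344)))
theorem Q58811 : ∀ i, i < 58811 → P i := stepQ 58810 Q58810 (allL N58810 (tt N95797 D198876) (tt N95798 D198877) (tt N82093 F349441) (tt N31282 (iv3 D110429)) (tt N65304 (iv4 F349443)) (tt N33038 F170805) (tt N76865 F360853) (tt N33085 F170806))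
theorem Q58812 : ∀ i, i < 58812 → P i := stepQ 58811 Q58811 (allL N58811 (tt N95799 D198878) (tt N95800 D198879) (tt N33108 F170807) (tt N76865 (iv3 F360854)) (tt N31283 F170808) (tt N78220 (iv5 F351454)) (tt N31282 (iv6 D110430)) (tt N95801 D198880))
theorem Q58813 : ∀ i, i < 58813 → P i := stepQ 58812 Q58812 (allL N58812 (tt N95762 (iv1 F409519)) (tt N31283 (iv0 D110431)) (tt N95760 (iv2 F409504)) (tt N95802 D198881) (tt N95803 D198882) (tt N95804 D198883) (tt N63637 F409511) (tt N95761 (iv7 F409506)))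
theorem Q58814 : ∀ i, i < 58814 → P i := stepQ 58813 Q58813 (allL N58813 (tt N31283 (iv1 D110432)) (tt N95762 F409518) (tt N95761 (iv2 F409510)) (tt N86367 (iv3 F375969)) (tt N76864 F351510) (tt N95755 (iv5 F409477)) (tt N44116 F359976) (tt N95760 F409501))
theorem Q58815 : ∀ i, i < 58815 → P i := stepQ 58814 Q58814 (allL N58814 (tt N95761 (iv1 F409505)) (tt N95760 (iv0 F409502)) (tt N95762 (iv2 F409514)) (tt N34647 F323133) (tt N95801 (iv4 F409721)) (tt N34645 F323134) (tt N60099 (iv6 F175571)) (tt N31283 (iv7 D110434)))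
theorem Q58816 : ∀ i, i < 58816 → P i := stepQ 58815 Q58815 (allL N58815 (tt N45983 F325691) (tt N85729 F373692) (tt N85728 F373685) (tt N31284 (iv3 D110435)) (tt N48294 F325692) (tt N45917 F325693) (tt N60002 (iv6 F175189)) (tt N34752 F325694))
theorem Q58817 : ∀ i, i < 58817 → P i := stepQ 58816 Q58816 (allL N58816 (tt N82464 F325696) (tt N45950 F325697) (tt N82466 F325698) (tt N31285 (iv3 D110438)) (tt N79654 F325699) (tt N45920 F325700) (tt N95805 D198884) (tt N34754 F325701))
theorem Q58818 : ∀ i, i < 58818 → P i := stepQ 58817 Q58817 (allL N58817 (tt N45859 F332175) (tt N95775 (iv0 F409588)) (tt N34753 F325703) (tt N95805 (iv3 F409741)) (tt N94664 (iv4 F405434)) (tt N68472 F332173) (tt N31285 (iv6 D110440)) (tt N60004 (iv7 F175190)))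
theorem Q58819 : ∀ i, i < 58819 → P i := stepQ 58818 Q58818 (allL N58818 (tt N35680 F170821) (tt N57326 F170822) (tt N57325 F170818) (tt N31288 F170819) (tt N37323 F170823) (tt N31286 (iv5 D110447)) (tt N95806 D198885) (tt N36907 F170820))
theorem Q58820 : ∀ i, i < 58820 → P i := stepQ 58819 Q58819 (allL N58819 (tt N31290 (iv1 F170825)) (tt N31287 (iv0 D110448)) (tt N45849 F327239) (tt N79806 F327240) (tt N57864 F170824) (tt N80272 F327241) (tt N58070 (iv6 F170826)) (tt N57862 (iv7 F170827)))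
theorem Q58821 : ∀ i, i < 58821 → P i := stepQ 58820 Q58820 (allL N58820 (tt N45804 F327243) (tt N79848 F327244) (tt N44673 F327245) (tt N31287 (iv3 D110449)) (tt N78530 F327246) (tt N82396 F327247) (tt N60010 (iv6 F175206)) (tt N82429 F327248))
theorem Q58822 : ∀ i, i < 58822 → P i := stepQ 58821 Q58821 (allL N58821 (tt N59533 (iv1 F173092)) (tt N45807 F327249) (tt N46173 F327250) (tt N82396 F327251) (tt N45919 F330783) (tt N31287 (iv5 D110450)) (tt N45918 F330784) (tt N46169 F327253))
theorem Q58823 : ∀ i, i < 58823 → P i := stepQ 58822 Q58822 (allL N58822 (tt N38926 F170834) (tt N70578 F217881) (tt N36910 F170832) (tt N95807 D198886) (tt N31288 (iv4 D110451)) (tt N68984 (iv5 F362156)) (tt N95808 D198887) (tt N36908 F170833))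
theorem Q58824 : ∀ i, i < 58824 → P i := stepQ 58823 Q58823 (allL N58823 (tt N66142 F203463) (tt N38106 F170836) (tt N36911 F170835) (tt N95806 (iv3 F409746)) (tt N95808 (iv4 F409755)) (tt N60013 (iv5 F175212)) (tt N31288 (iv6 D110452)) (tt N60013 (iv7 F175213)))
theorem Q58825 : ∀ i, i < 58825 → P i := stepQ 58824 Q58824 (allL N58824 (tt N31596 (iv1 F170840)) (tt N31657 F170839) (tt N31655 F172609) (tt N44671 F327419) (tt N31289 (iv4 D110454)) (tt N86398 (iv5 F376101)) (tt N95285 (iv6 F407720)) (tt N31654 F170838))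
theorem Q58826 : ∀ i, i < 58826 → P i := stepQ 58825 Q58825 (allL N58825 (tt N72413 F222464) (tt N66022 (iv0 F203094)) (tt N65550 (iv2 F202001)) (tt N31292 F170843) (tt N95285 (iv4 F407719)) (tt N60014 (iv5 F175217)) (tt N31289 (iv6 D110455)) (tt N60014 (iv7 F175218)))
theorem Q58827 : ∀ i, i < 58827 → P i := stepQ 58826 Q58826 (allL N58826 (tt N47339 F337594) (tt N95288 (iv0 F407740)) (tt N95763 (iv2 F409520)) (tt N44672 F327256) (tt N31292 F170844) (tt N68482 (iv5 F337595)) (tt N31290 (iv6 D110458)) (tt N60017 (iv7 F175221)))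
theorem Q58828 : ∀ i, i < 58828 → P i := stepQ 58827 Q58827 (allL N58827 (tt N70578 (iv1 F217882)) (tt N38926 F170847) (tt N36908 F170845) (tt N95809 D198888) (tt N31291 (iv4 D110459)) (tt N68982 (iv5 F362157)) (tt N60018 (iv6 F175223)) (tt N36910 F170846))
theorem Q58829 : ∀ i, i < 58829 → P i := stepQ 58828 Q58828 (allL N58828 (tt N69031 F219461) (tt N93950 F402561) (tt N36765 F170849) (tt N38435 F170850) (tt N41312 (iv4 F328190)) (tt N35921 F170851) (tt N31293 (iv6 D110460)) (tt N71670 (iv7 F220367)))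
theorem Q58830 : ∀ i, i < 58830 → P i := stepQ 58829 Q58829 (allL N58829 (tt N58474 (iv1 F170852)) (tt N31294 (iv0 D110461)) (tt N58475 (iv2 F170955)) (tt N65799 (iv3 F356044)) (tt N45734 F325554) (tt N65768 (iv5 F202370)) (tt N46177 F325555) (tt N45824 F325556))
theorem Q58831 : ∀ i, i < 58831 → P i := stepQ 58830 Q58830 (allL N58830 (tt N58475 (iv1 F170857)) (tt N45824 F325171) (tt N31294 (iv2 D110463)) (tt N65557 (iv3 F202017)) (tt N31300 F170853) (tt N95810 D198889) (tt N47745 F325172) (tt N58474 F170854))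
theorem Q58832 : ∀ i, i < 58832 → P i := stepQ 58831 Q58831 (allL N58831 (tt N35715 F171354) (tt N35719 (iv0 F170989)) (tt N95810 (iv2 F409761)) (tt N31295 F170868) (tt N95811 D198890) (tt N31294 (iv5 D110464)) (tt N95812 D198891) (tt N58476 F170869))
theorem Q58833 : ∀ i, i < 58833 → P i := stepQ 58832 Q58832 (allL N58832 (tt N45726 F325932) (tt N45728 F325933) (tt N47745 F325934) (tt N31296 F170870) (tt N31301 F170871) (tt N82539 F325935) (tt N31294 (iv6 D110465)) (tt N79220 F325936))
theorem Q58834 : ∀ i, i < 58834 → P i := stepQ 58833 Q58833 (allL N58833 (tt N95813 D198892) (tt N95814 D198893) (tt N65560 (iv2 F202022)) (tt N95812 (iv3 F409768)) (tt N65732 (iv4 F202325)) (tt N56221 F355902) (tt N31295 (iv6 D110466)) (tt N95815 D198894))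
theorem Q58835 : ∀ i, i < 58835 → P i := stepQ 58834 Q58834 (allL N58834 (tt N60505 F176525) (tt N31296 (iv0 D110467)) (tt N65561 F202026) (tt N95816 D198895) (tt N39526 F174040) (tt N67469 F365655) (tt N92114 (iv6 F395805)) (tt N65562 (iv7 F202030)))
theorem Q58836 : ∀ i, i < 58836 → P i := stepQ 58835 Q58835 (allL N58835 (tt N31296 (iv1 D110468)) (tt N60505 F176524) (tt N65562 F202032) (tt N95817 D198896) (tt N39527 F170872) (tt N67468 (iv5 F355903)) (tt N41517 (iv6 F170873)) (tt N65561 F202028))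
theorem Q58837 : ∀ i, i < 58837 → P i := stepQ 58836 Q58836 (allL N58836 (tt N65964 (iv1 F202988)) (tt N32318 F170874) (tt N65563 (iv2 F202034)) (tt N82539 (iv3 F355900)) (tt N56223 F355899) (tt N31296 (iv5 D110469)) (tt N56221 (iv6 F355901)) (tt N65962 (iv7 F202981)))
theorem Q58838 : ∀ i, i < 58838 → P i := stepQ 58837 Q58837 (allL N58837 (tt N65562 (iv1 F202029)) (tt N65561 F202025) (tt N60505 (iv2 F176521)) (tt N79220 F348406) (tt N31299 F170875) (tt N65962 (iv5 F202982)) (tt N31355 F170876) (tt N31296 (iv7 D110470)))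
theorem Q58839 : ∀ i, i < 58839 → P i := stepQ 58838 Q58838 (allL N58838 (tt N65572 (iv1 F202055)) (tt N65497 (iv0 F201877)) (tt N65564 (iv2 F202038)) (tt N47751 F348384) (tt N31297 (iv4 D110472)) (tt N47750 F348385) (tt N66024 (iv6 F203103)) (tt N65565 (iv7 F202044)))
theorem Q58840 : ∀ i, i < 58840 → P i := stepQ 58839 Q58839 (allL N58839 (tt N35821 F170880) (tt N35823 (iv0 F170881)) (tt N57667 F170877) (tt N70221 (iv3 F217015)) (tt N95818 D198897) (tt N31297 (iv5 D110473)) (tt N32105 F170878) (tt N36201 F170879))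
theorem Q58841 : ∀ i, i < 58841 → P i := stepQ 58840 Q58840 (allL N58840 (tt N40324 (iv1 F175068)) (tt N59979 F175067) (tt N59978 (iv2 F175101)) (tt N31298 (iv3 D110474)) (tt N59793 F174038) (tt N95819 D198898) (tt N41513 F170882) (tt N59977 (iv7 F175097)))
theorem Q58842 : ∀ i, i < 58842 → P i := stepQ 58841 Q58841 (allL N58841 (tt N65497 F201876) (tt N65572 F202054) (tt N65565 (iv2 F202042)) (tt N93971 (iv3 F402661)) (tt N31298 (iv4 D110475)) (tt N93968 (iv5 F402642)) (tt N41514 F170883) (tt N65564 (iv7 F202039)))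
theorem Q58843 : ∀ i, i < 58843 → P i := stepQ 58842 Q58842 (allL N58842 (tt N35823 F170887) (tt N35821 (iv0 F170888)) (tt N36201 F170884) (tt N95819 (iv3 F409788)) (tt N71830 (iv4 F220698)) (tt N31298 (iv5 D110476)) (tt N36189 F170885) (tt N57667 F170886))
theorem Q58844 : ∀ i, i < 58844 → P i := stepQ 58843 Q58843 (allL N58843 (tt N31306 (iv1 D110497)) (tt N41523 F170923) (tt N41521 F170978) (tt N95820 D198899) (tt N31965 (iv4 F170925)) (tt N35859 (iv5 F170924)) (tt N80390 F323910) (tt N41522 F170975))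
theorem Q58845 : ∀ i, i < 58845 → P i := stepQ 58844 Q58844 (allL N58844 (tt N31307 (iv1 D110500)) (tt N60118 (iv0 F175699)) (tt N60119 F175702) (tt N82530 F345716) (tt N35642 F170994) (tt N82529 (iv5 F345715)) (tt N57960 (iv6 F170995)) (tt N35640 F170993))
theorem Q58846 : ∀ i, i < 58846 → P i := stepQ 58845 Q58845 (allL N58845 (tt N95821 D198900) (tt N86934 (iv0 F377761)) (tt N60449 (iv2 F176448)) (tt N82547 (iv3 F365962)) (tt N91984 (iv4 F395251)) (tt N31307 (iv5 D110501)) (tt N86955 F383830) (tt N60120 (iv7 F175706)))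
theorem Q58847 : ∀ i, i < 58847 → P i := stepQ 58846 Q58846 (allL N58846 (tt N35912 F171082) (tt N35909 (iv0 F171083)) (tt N65125 F323183) (tt N82435 F323184) (tt N31311 (iv4 D110535)) (tt N65894 (iv5 F202748)) (tt N46144 F323185) (tt N45733 (iv7 F324458)))
theorem Q58848 : ∀ i, i < 58848 → P i := stepQ 58847 Q58847 (allL N58847 (tt N57958 (iv1 F171116)) (tt N31312 (iv0 D110568)) (tt N57960 (iv2 F171115)) (tt N45850 F327078) (tt N35602 F171114) (tt N95822 D198901) (tt N60119 F175705) (tt N35600 F171117))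
theorem Q58849 : ∀ i, i < 58849 → P i := stepQ 58848 Q58848 (allL N58848 (tt N92114 (iv1 F395809)) (tt N92115 (iv0 F395814)) (tt N60469 (iv2 F176473)) (tt N48286 F327077) (tt N31314 F171132) (tt N70818 F330396) (tt N31313 (iv6 D110576)) (tt N60024 (iv7 F175333)))
theorem Q58850 : ∀ i, i < 58850 → P i := stepQ 58849 Q58849 (allL N58849 (tt N80893 F342096) (tt N95823 D198902) (tt N75787 (iv2 F233926)) (tt N31318 F171151) (tt N74744 (iv4 F228846)) (tt N31317 (iv5 D110583)) (tt N78576 (iv6 F332205)) (tt N57498 F171152))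
theorem Q58851 : ∀ i, i < 58851 → P i := stepQ 58850 Q58850 (allL N58850 (tt N80882 F332200) (tt N45555 F332201) (tt N47287 F332202) (tt N31319 F171153) (tt N56871 (iv4 F358678)) (tt N46365 F332203) (tt N31317 (iv6 D110584)) (tt N47290 F332204))
theorem Q58852 : ∀ i, i < 58852 → P i := stepQ 58851 Q58851 (allL N58851 (tt N63597 F361284) (tt N74528 (iv0 F361283)) (tt N59968 (iv2 F175011)) (tt N78576 F361274) (tt N58509 F171155) (tt N95824 D198903) (tt N31318 (iv6 D110585)) (tt N81307 (iv7 F363841)))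
theorem Q58853 : ∀ i, i < 58853 → P i := stepQ 58852 Q58852 (allL N58852 (tt N47340 F332185) (tt N34214 F332186) (tt N47338 F332187) (tt N46365 F332188) (tt N76912 F332189) (tt N31319 (iv5 D110586)) (tt N95824 (iv6 F409819)) (tt N47289 (iv7 F332195)))
theorem Q58854 : ∀ i, i < 58854 → P i := stepQ 58853 Q58853 (allL N58853 (tt N45924 F325155) (tt N31320 (iv0 D110587)) (tt N46268 F350686) (tt N92048 (iv3 F395535)) (tt N95825 D198904) (tt N82460 F330805) (tt N46264 F350687) (tt N59972 F350688))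
theorem Q58855 : ∀ i, i < 58855 → P i := stepQ 58854 Q58854 (allL N58854 (tt N31320 (iv1 D110588)) (tt N45924 F325154) (tt N59972 F350701) (tt N47120 F348462) (tt N95826 D198905) (tt N79263 (iv5 F348465)) (tt N47118 F348463) (tt N46268 F350702))
theorem Q58856 : ∀ i, i < 58856 → P i := stepQ 58855 Q58855 (allL N58855 (tt N46268 F330732) (tt N59972 F175029) (tt N31320 (iv2 D110589)) (tt N31342 F171156) (tt N45927 (iv4 F324569)) (tt N82071 (iv5 F348476)) (tt N44013 F323146) (tt N45924 (iv7 F323893)))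
theorem Q58857 : ∀ i, i < 58857 → P i := stepQ 58856 Q58856 (allL N58856 (tt N31323 (iv1 D110594)) (tt N32439 F171163) (tt N32440 F171166) (tt N40306 (iv3 F171165)) (tt N59784 F174023) (tt N66271 (iv5 F203884)) (tt N92116 (iv6 F395819)) (tt N31666 F171164))
theorem Q58858 : ∀ i, i < 58858 → P i := stepQ 58857 Q58857 (allL N58857 (tt N76567 F354828) (tt N76653 F354829) (tt N76651 F351730) (tt N31324 (iv3 D110595)) (tt N31594 F171167) (tt N79913 F354604) (tt N95827 D198906) (tt N31668 F171168))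
theorem Q58859 : ∀ i, i < 58859 → P i := stepQ 58858 Q58858 (allL N58858 (tt N59974 F175051) (tt N59975 (iv0 F175054)) (tt N55619 F171169) (tt N95827 (iv3 F409830)) (tt N31592 F171170) (tt N95828 D198907) (tt N31324 (iv6 D110596)) (tt N60009 (iv7 F175204)))
theorem Q58860 : ∀ i, i < 58860 → P i := stepQ 58859 Q58859 (allL N58859 (tt N59982 (iv1 F175077)) (tt N31325 (iv0 D110597)) (tt N59981 F175079) (tt N41819 (iv3 F171173)) (tt N95444 (iv4 F408203)) (tt N40824 F171171) (tt N72101 (iv6 F359630)) (tt N59980 F175072))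
theorem Q58861 : ∀ i, i < 58861 → P i := stepQ 58860 Q58860 (allL N58860 (tt N31325 (iv1 D110598)) (tt N59982 F175082) (tt N59980 (iv2 F175081)) (tt N81343 (iv3 F348550)) (tt N91294 (iv4 F392593)) (tt N72677 (iv5 F222851)) (tt N81336 F348549) (tt N59981 F175080))
theorem Q58862 : ∀ i, i < 58862 → P i := stepQ 58861 Q58861 (allL N58861 (tt N82012 (iv1 F353505)) (tt N82026 (iv0 F353485)) (tt N75389 (iv2 F231423)) (tt N31327 F171174) (tt N58437 F171175) (tt N92848 (iv5 F398495)) (tt N31325 (iv6 D110599)) (tt N60105 (iv7 F175575)))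
theorem Q58863 : ∀ i, i < 58863 → P i := stepQ 58862 Q58862 (allL N58862 (tt N95829 D198908) (tt N95830 D198909) (tt N59990 (iv2 F175137)) (tt N62544 (iv3 F182088)) (tt N58502 F171176) (tt N95831 D198910) (tt N31326 (iv6 D110600)) (tt N95832 D198911))
theorem Q58864 : ∀ i, i < 58864 → P i := stepQ 58863 Q58863 (allL N58863 (tt N31327 (iv1 D110601)) (tt N58068 F171177) (tt N58070 F171180) (tt N45851 F327416) (tt N58056 (iv4 F171179)) (tt N75175 F353503) (tt N45849 F327417) (tt N58055 F171178))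
theorem Q58865 : ∀ i, i < 58865 → P i := stepQ 58864 Q58864 (allL N58864 (tt N63549 (iv1 F353498)) (tt N95833 D198912) (tt N59991 (iv2 F175139)) (tt N92848 (iv3 F398496)) (tt N95834 D198913) (tt N31327 (iv5 D110602)) (tt N95831 (iv6 F409848)) (tt N60106 (iv7 F175576)))
theorem Q58866 : ∀ i, i < 58866 → P i := stepQ 58865 Q58865 (allL N58865 (tt N40329 (iv1 F171189)) (tt N31328 (iv0 D110603)) (tt N40327 (iv2 F173017)) (tt N71704 (iv3 F220396)) (tt N59748 (iv4 F173768)) (tt N89378 (iv5 F386281)) (tt N72413 (iv6 F222462)) (tt N40328 F173022))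
theorem Q58867 : ∀ i, i < 58867 → P i := stepQ 58866 Q58866 (allL N58866 (tt N40328 (iv1 F171190)) (tt N40327 F171192) (tt N40329 F171184) (tt N31333 F171185) (tt N57992 F171186) (tt N36070 F171187) (tt N40323 F171188) (tt N31328 (iv7 D110605)))
theorem Q58868 : ∀ i, i < 58868 → P i := stepQ 58867 Q58867 (allL N58867 (tt N59988 (iv1 F175128)) (tt N31329 (iv0 D110606)) (tt N59987 (iv2 F175242)) (tt N80896 F334725) (tt N95835 D198914) (tt N80893 F334726) (tt N65401 (iv6 F334724)) (tt N59986 (iv7 F175244)))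
theorem Q58869 : ∀ i, i < 58869 → P i := stepQ 58868 Q58868 (allL N58868 (tt N31329 (iv1 D110607)) (tt N59988 F175130) (tt N59986 F175243) (tt N45814 F320723) (tt N64965 F320724) (tt N95823 (iv5 F409811)) (tt N45813 F320725) (tt N59987 F175241))
theorem Q58870 : ∀ i, i < 58870 → P i := stepQ 58869 Q58869 (allL N58869 (tt N59987 (iv1 F175129)) (tt N59986 F175124) (tt N31329 (iv2 D110608)) (tt N59982 (iv3 F175073)) (tt N57990 F171193) (tt N62541 (iv5 F182080)) (tt N46945 F324772) (tt N59988 (iv7 F175127)))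
theorem Q58871 : ∀ i, i < 58871 → P i := stepQ 58870 Q58870 (allL N58870 (tt N31331 (iv1 D110613)) (tt N47342 F319921) (tt N47344 F319922) (tt N95836 D198915) (tt N40416 (iv4 F173769)) (tt N34216 F319923) (tt N60080 F175497) (tt N34215 F319924))
theorem Q58872 : ∀ i, i < 58872 → P i := stepQ 58871 Q58871 (allL N58871 (tt N47344 F319913) (tt N34215 F319914) (tt N47342 F319915) (tt N46944 F319916) (tt N31333 F171198) (tt N43976 F319917) (tt N58068 F171199) (tt N31331 (iv7 D110615)))
theorem Q58873 : ∀ i, i < 58873 → P i := stepQ 58872 Q58872 (allL N58872 (tt N31339 F171201) (tt N47956 (iv0 F315483)) (tt N41586 F171200) (tt N79330 F317712) (tt N31332 (iv4 D110616)) (tt N34195 F313053) (tt N60083 (iv6 F175505)) (tt N34194 (iv7 F315488)))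
theorem Q58874 : ∀ i, i < 58874 → P i := stepQ 58873 Q58873 (allL N58873 (tt N35890 F171203) (tt N35887 (iv0 F171205)) (tt N36125 F171202) (tt N60084 (iv3 F175510)) (tt N43948 F321021) (tt N31332 (iv5 D110617)) (tt N36009 F171204) (tt N59985 (iv7 F175122)))
theorem Q58875 : ∀ i, i < 58875 → P i := stepQ 58874 Q58874 (allL N58874 (tt N42089 (iv1 F171206)) (tt N31334 (iv0 D110618)) (tt N59993 (iv2 F355842)) (tt N85737 (iv3 F373734)) (tt N95837 D198916) (tt N75184 F343348) (tt N83673 (iv6 F362992)) (tt N59992 F355841))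
theorem Q58876 : ∀ i, i < 58876 → P i := stepQ 58875 Q58875 (allL N58875 (tt N59993 (iv1 F175146)) (tt N59992 F175145) (tt N31334 (iv2 D110620)) (tt N42031 F171207) (tt N65575 (iv4 F202057)) (tt N42030 (iv5 F171210)) (tt N55174 (iv6 F352211)) (tt N42089 F171208))
theorem Q58877 : ∀ i, i < 58877 → P i := stepQ 58876 Q58876 (allL N58876 (tt N42087 (iv1 F171214)) (tt N42086 F171215) (tt N42030 F171211) (tt N31335 F171212) (tt N95838 D198917) (tt N31334 (iv5 D110621)) (tt N95839 D198918) (tt N42088 F171213))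
theorem Q58878 : ∀ i, i < 58878 → P i := stepQ 58877 Q58877 (allL N58877 (tt N95787 F409651) (tt N95840 D198919) (tt N55174 (iv2 F352208)) (tt N31336 F171216) (tt N65577 (iv4 F202060)) (tt N46793 F332154) (tt N31334 (iv6 D110622)) (tt N60100 (iv7 F175572)))
theorem Q58879 : ∀ i, i < 58879 → P i := stepQ 58878 Q58878 (allL N58878 (tt N88173 (iv1 F382013)) (tt N41603 F354584) (tt N42070 F171217) (tt N95839 (iv3 F409879)) (tt N39597 F171218) (tt N75759 (iv5 F353671)) (tt N31335 (iv6 D110623)) (tt N75758 (iv7 F347824)))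
theorem Q58880 : ∀ i, i < 58880 → P i := stepQ 58879 Q58879 (allL N58879 (tt N95841 D198920) (tt N80106 (iv0 F332147)) (tt N59997 (iv2 F175159)) (tt N46793 F332152) (tt N77330 F356988) (tt N31336 (iv5 D110624)) (tt N75759 (iv6 F353670)) (tt N60101 (iv7 F175573)))
theorem Q58881 : ∀ i, i < 58881 → P i := stepQ 58880 Q58880 (allL N58880 (tt N46908 F308696) (tt N95842 D198921) (tt N42090 F171219) (tt N31339 F171220) (tt N59693 (iv4 F173545)) (tt N78628 (iv5 F307477)) (tt N31337 (iv6 D110625)) (tt N91295 (iv7 F392598)))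
theorem Q58882 : ∀ i, i < 58882 → P i := stepQ 58881 Q58881 (allL N58881 (tt N36962 (iv1 F316276)) (tt N60382 (iv0 F176332)) (tt N59996 (iv2 F175152)) (tt N78628 F313054) (tt N95843 D198922) (tt N31339 (iv5 D110627)) (tt N51974 F313055) (tt N66031 (iv7 F203135)))
theorem Q58883 : ∀ i, i < 58883 → P i := stepQ 58882 Q58882 (allL N58882 (tt N41586 (iv1 F171224)) (tt N34194 (iv0 F315486)) (tt N47956 (iv2 F315484)) (tt N91295 (iv3 F392596)) (tt N39541 F171223) (tt N66031 (iv5 F203136)) (tt N34746 F327261) (tt N31339 (iv7 D110628)))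
theorem Q58884 : ∀ i, i < 58884 → P i := stepQ 58883 Q58883 (allL N58883 (tt N75209 F230749) (tt N95844 D198923) (tt N59469 (iv2 F173370)) (tt N31340 (iv3 D110630)) (tt N59322 F172594) (tt N76655 F322481) (tt N34742 F322482) (tt N59472 F173364))
theorem Q58885 : ∀ i, i < 58885 → P i := stepQ 58884 Q58884 (allL N58884 (tt N95845 D198924) (tt N85737 (iv0 F373736)) (tt N42263 (iv2 F173397)) (tt N31341 (iv3 D110635)) (tt N58479 F171242) (tt N33439 F171347) (tt N47785 F321853) (tt N42260 (iv7 F173396)))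
theorem Q58886 : ∀ i, i < 58886 → P i := stepQ 58885 Q58885 (allL N58885 (tt N48157 F323147) (tt N48350 F323148) (tt N31343 F171244) (tt N82071 (iv3 F348475)) (tt N44100 F323149) (tt N31342 (iv5 D110638)) (tt N64222 F323150) (tt N46175 (iv7 F323589)))
theorem Q58887 : ∀ i, i < 58887 → P i := stepQ 58886 Q58886 (allL N58886 (tt N88048 (iv1 F381576)) (tt N81706 (iv0 F348027)) (tt N87076 (iv2 F378294)) (tt N31345 (iv3 D110647)) (tt N78716 F340718) (tt N31789 F171253) (tt N66674 (iv6 F361090)) (tt N51816 (iv7 F340715)))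
theorem Q58888 : ∀ i, i < 58888 → P i := stepQ 58887 Q58887 (allL N58887 (tt N95846 D198925) (tt N95847 D198926) (tt N31817 F171255) (tt N66674 F361091) (tt N31346 F171256) (tt N69592 F360277) (tt N31345 (iv6 D110648)) (tt N88050 (iv7 F381587)))
theorem Q58889 : ∀ i, i < 58889 → P i := stepQ 58888 Q58888 (allL N58888 (tt N31346 (iv1 D110650)) (tt N69619 F346713) (tt N78372 (iv2 F347923)) (tt N75200 (iv3 F346915)) (tt N87500 (iv4 F379568)) (tt N34416 F346714) (tt N74834 F347825) (tt N80194 F346715))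
theorem Q58890 : ∀ i, i < 58890 → P i := stepQ 58889 Q58889 (allL N58889 (tt N78372 (iv1 F347922)) (tt N80194 F330756) (tt N69619 F327267) (tt N37949 F327268) (tt N88050 (iv4 F381586)) (tt N33954 F327269) (tt N37947 F327270) (tt N31346 (iv7 D110652)))
theorem Q58891 : ∀ i, i < 58891 → P i := stepQ 58890 Q58890 (allL N58890 (tt N37483 F326955) (tt N42265 F326956) (tt N33952 F326957) (tt N43424 F326958) (tt N31348 (iv4 D110657)) (tt N34588 F326959) (tt N33934 F326960) (tt N42272 F326961))
theorem Q58892 : ∀ i, i < 58892 → P i := stepQ 58891 Q58891 (allL N58891 (tt N31872 F171262) (tt N31846 (iv0 F171263)) (tt N31870 F171259) (tt N91939 (iv3 F395035)) (tt N31350 (iv4 D110659)) (tt N52228 (iv5 F340581)) (tt N58504 F171260) (tt N31810 F171261))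
theorem Q58893 : ∀ i, i < 58893 → P i := stepQ 58892 Q58892 (allL N58892 (tt N91304 (iv1 F392637)) (tt N81336 F344918) (tt N82350 (iv2 F344921)) (tt N31351 (iv3 D110660)) (tt N91939 (iv4 F395036)) (tt N46823 F344919) (tt N95766 (iv6 F409538)) (tt N60068 F175451))
theorem Q58894 : ∀ i, i < 58894 → P i := stepQ 58893 Q58893 (allL N58893 (tt N80449 F344920) (tt N80476 (iv0 F344916)) (tt N52828 F351707) (tt N46823 F344917) (tt N74355 (iv4 F331698)) (tt N31351 (iv5 D110661)) (tt N74356 F364969) (tt N60071 (iv7 F175459)))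
theorem Q58895 : ∀ i, i < 58895 → P i := stepQ 58894 Q58894 (allL N58894 (tt N55597 F323045) (tt N52296 (iv0 F324455)) (tt N55595 (iv2 F324451)) (tt N95848 D198927) (tt N31353 (iv4 D110692)) (tt N95849 D198928) (tt N45736 F323046) (tt N46245 F323047))
theorem Q58896 : ∀ i, i < 58896 → P i := stepQ 58895 Q58895 (allL N58895 (tt N60476 (iv1 F176502)) (tt N55617 (iv0 F171358)) (tt N60475 F176496) (tt N31354 (iv3 D110694)) (tt N95848 (iv4 F409937)) (tt N66939 (iv5 F311877)) (tt N45748 F319442) (tt N46248 F319443))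
theorem Q58897 : ∀ i, i < 58897 → P i := stepQ 58896 Q58896 (allL N58896 (tt N95850 D198929) (tt N95851 D198930) (tt N60504 (iv2 F176520)) (tt N67989 F354340) (tt N95852 D198931) (tt N31355 (iv5 D110729)) (tt N95853 D198932) (tt N60020 (iv7 F175228)))
theorem Q58898 : ∀ i, i < 58898 → P i := stepQ 58897 Q58897 (allL N58897 (tt N39616 (iv1 F171405)) (tt N31356 (iv0 D110735)) (tt N39615 F336137) (tt N38478 F330977) (tt N57101 F336138) (tt N38474 F330978) (tt N95854 D198933) (tt N39614 F336139))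
theorem Q58899 : ∀ i, i < 58899 → P i := stepQ 58898 Q58898 (allL N58898 (tt N31356 (iv1 D110736)) (tt N39616 (iv0 F171407)) (tt N39614 F336132) (tt N54107 F345448) (tt N57104 F336133) (tt N71427 F220821) (tt N54105 (iv6 F345452)) (tt N39615 F336134))
theorem Q58900 : ∀ i, i < 58900 → P i := stepQ 58899 Q58899 (allL N58899 (tt N39615 (iv1 F171412)) (tt N39614 F171411) (tt N31356 (iv2 D110737)) (tt N39621 F171408) (tt N31360 F171409) (tt N95855 D198934) (tt N65459 (iv6 F201780)) (tt N39616 F171410))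
theorem Q58901 : ∀ i, i < 58901 → P i := stepQ 58900 Q58900 (allL N58900 (tt N95856 D198935) (tt N95857 D198936) (tt N95855 (iv2 F409963)) (tt N31357 F171413) (tt N95858 D198937) (tt N31356 (iv5 D110738)) (tt N95859 D198938) (tt N39470 F171414))
theorem Q58902 : ∀ i, i < 58902 → P i := stepQ 58901 Q58901 (allL N58901 (tt N95860 D198939) (tt N38623 F342186) (tt N39473 F171415) (tt N95859 (iv3 F409983)) (tt N66319 (iv4 F203971)) (tt N65461 (iv5 F201782)) (tt N31357 (iv6 D110739)) (tt N95861 D198940))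
theorem Q58903 : ∀ i, i < 58903 → P i := stepQ 58902 Q58902 (allL N58902 (tt N92895 F398689) (tt N93647 F401428) (tt N73726 (iv2 F225587)) (tt N31358 (iv3 D110740)) (tt N57138 F171416) (tt N72927 (iv5 F223618)) (tt N95862 D198941) (tt N59192 (iv7 F172294)))
theorem Q58904 : ∀ i, i < 58904 → P i := stepQ 58903 Q58903 (allL N58903 (tt N93650 (iv1 F401803)) (tt N66511 (iv0 F401802)) (tt N59196 (iv2 F172312)) (tt N95862 (iv3 F409999)) (tt N71969 (iv4 F221112)) (tt N95863 D198942) (tt N31358 (iv6 D110742)) (tt N93649 F401432))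
theorem Q58905 : ∀ i, i < 58905 → P i := stepQ 58904 Q58904 (allL N58904 (tt N92902 F398710) (tt N93715 F401651) (tt N59194 (iv2 F172304)) (tt N73729 (iv3 F225599)) (tt N54650 (iv4 F331213)) (tt N95864 D198943) (tt N31359 (iv6 D110744)) (tt N93714 (iv7 F401643)))
theorem Q58906 : ∀ i, i < 58906 → P i := stepQ 58905 Q58905 (allL N58905 (tt N31363 (iv1 D110745)) (tt N37289 F171417) (tt N45025 F171421) (tt N37285 (iv3 F171420)) (tt N45025 (iv4 F171419)) (tt N86487 (iv5 F376368)) (tt N34395 F171422) (tt N56621 F171418))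
theorem Q58907 : ∀ i, i < 58907 → P i := stepQ 58906 Q58906 (allL N58906 (tt N61340 F178633) (tt N51240 F171426) (tt N56622 F171423) (tt N31364 F171424) (tt N55581 F340321) (tt N31363 (iv5 D110746)) (tt N95865 D198944) (tt N56629 F171425))
theorem Q58908 : ∀ i, i < 58908 → P i := stepQ 58907 Q58907 (allL N58907 (tt N87471 (iv1 F379453)) (tt N68453 (iv0 F210561)) (tt N87126 (iv2 F378446)) (tt N87488 (iv3 F379534)) (tt N31364 (iv4 D110747)) (tt N87125 F378445) (tt N95866 D198945) (tt N87467 (iv7 F379433)))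
theorem Q58909 : ∀ i, i < 58909 → P i := stepQ 58908 Q58908 (allL N58908 (tt N95867 D198946) (tt N93012 (iv0 F399117)) (tt N60887 (iv2 F177144)) (tt N95865 (iv3 F410010)) (tt N95866 (iv4 F410012)) (tt N60872 (iv5 F177100)) (tt N31364 (iv6 D110748)) (tt N70474 (iv7 F365688)))
theorem Q58910 : ∀ i, i < 58910 → P i := stepQ 58909 Q58909 (allL N58909 (tt N43061 (iv1 F171430)) (tt N38286 F171431) (tt N31366 F171427) (tt N56629 F171428) (tt N87467 (iv4 F379432)) (tt N31365 F171429) (tt N95868 D198947) (tt N31364 (iv7 D110749)))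
theorem Q58911 : ∀ i, i < 58911 → P i := stepQ 58910 Q58910 (allL N58910 (tt N93120 (iv1 F420325)) (tt N95869 D198949) (tt N95868 (iv2 F410017)) (tt N68369 (iv3 F210005)) (tt N61260 (iv4 F361788)) (tt N76225 (iv5 F237955)) (tt N31366 (iv6 D110751)) (tt N95870 D198950))
theorem Q58912 : ∀ i, i < 58912 → P i := stepQ 58911 Q58911 (allL N58911 (tt N31373 (iv1 F171433)) (tt N31368 (iv0 D110752)) (tt N31369 (iv2 F171434)) (tt N32792 (iv3 F171435)) (tt N87129 (iv4 F378464)) (tt N32789 F171432) (tt N74487 (iv6 F316733)) (tt N31370 (iv7 F171436)))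
theorem Q58913 : ∀ i, i < 58913 → P i := stepQ 58912 Q58912 (allL N58912 (tt N31368 (iv1 D110753)) (tt N31373 F171437) (tt N31370 (iv2 F171440)) (tt N86404 (iv3 F376119)) (tt N87499 (iv4 F379563)) (tt N32881 F171439) (tt N95871 D198951) (tt N31369 F171438))
theorem Q58914 : ∀ i, i < 58914 → P i := stepQ 58913 Q58913 (allL N58913 (tt N32136 F171442) (tt N95872 D198952) (tt N31371 F171441) (tt N95873 D198953) (tt N31368 (iv4 D110754)) (tt N95874 D198954) (tt N95875 D198955) (tt N76419 (iv7 F238563)))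
theorem Q58915 : ∀ i, i < 58915 → P i := stepQ 58914 Q58914 (allL N58914 (tt N95876 D198956) (tt N61439 (iv0 F178866)) (tt N31372 F171443) (tt N57269 F171444) (tt N95875 (iv4 F410049)) (tt N32804 F171445) (tt N31368 (iv6 D110755)) (tt N95877 D198957))
theorem Q58916 : ∀ i, i < 58916 → P i := stepQ 58915 Q58915 (allL N58915 (tt N60177 (iv1 F175869)) (tt N60179 (iv0 F175872)) (tt N87129 (iv2 F378463)) (tt N36194 F355228) (tt N31369 (iv4 D110756)) (tt N81505 (iv5 F346718)) (tt N33402 F355229) (tt N87499 (iv7 F379564)))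
theorem Q58917 : ∀ i, i < 58917 → P i := stepQ 58916 Q58916 (allL N58916 (tt N74330 F319083) (tt N74346 F319084) (tt N74487 F319085) (tt N92798 (iv3 F398276)) (tt N33402 F319086) (tt N43169 F171446) (tt N31369 (iv6 D110757)) (tt N40797 F319087))
theorem Q58918 : ∀ i, i < 58918 → P i := stepQ 58917 Q58917 (allL N58917 (tt N93114 F399546) (tt N95878 D198958) (tt N95871 (iv2 F410025)) (tt N61362 (iv3 F356874)) (tt N87501 (iv4 F379573)) (tt N95879 D198959) (tt N31370 (iv6 D110759)) (tt N61360 F356882))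
theorem Q58919 : ∀ i, i < 58919 → P i := stepQ 58918 Q58918 (allL N58918 (tt N76419 (iv1 F238566)) (tt N31371 (iv0 D110760)) (tt N32136 (iv2 F171448)) (tt N95880 D198960) (tt N32133 F171447) (tt N95846 (iv5 F409923)) (tt N74329 (iv6 F364971)) (tt N95872 (iv7 F410032)))
theorem Q58920 : ∀ i, i < 58920 → P i := stepQ 58919 Q58919 (allL N58919 (tt N31371 (iv1 D110761)) (tt N76419 (iv0 F238565)) (tt N95872 F410035) (tt N60241 (iv3 F175967)) (tt N32138 (iv4 F171450)) (tt N95847 (iv5 F409931)) (tt N95881 D198961) (tt N32136 F171449))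
theorem Q58921 : ∀ i, i < 58921 → P i := stepQ 58920 Q58920 (allL N58920 (tt N87747 (iv1 F380340)) (tt N66675 F361092) (tt N87748 (iv2 F380345)) (tt N31371 (iv3 D110762)) (tt N31374 F171451) (tt N48763 F330365) (tt N88335 (iv6 F382637)) (tt N48762 F330366))
theorem Q58922 : ∀ i, i < 58922 → P i := stepQ 58921 Q58921 (allL N58921 (tt N95882 D198962) (tt N95883 D198963) (tt N95874 (iv2 F410041)) (tt N48763 F363176) (tt N87469 (iv4 F379442)) (tt N31371 (iv5 D110763)) (tt N87737 (iv6 F380290)) (tt N48757 F363177))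
theorem Q58923 : ∀ i, i < 58923 → P i := stepQ 58922 Q58922 (allL N58922 (tt N95884 D198964) (tt N95885 D198965) (tt N95875 (iv2 F410047)) (tt N88335 (iv3 F382634)) (tt N31372 F171453) (tt N95886 D198966) (tt N31371 (iv6 D110764)) (tt N88332 (iv7 F382627)))
theorem Q58924 : ∀ i, i < 58924 → P i := stepQ 58923 Q58923 (allL N58923 (tt N95872 (iv1 F410031)) (tt N32136 (iv0 F171456)) (tt N76419 (iv2 F238562)) (tt N48762 (iv3 F330363)) (tt N31373 F171455) (tt N48757 F330361) (tt N48760 F330362) (tt N31371 (iv7 D110765)))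
theorem Q58925 : ∀ i, i < 58925 → P i := stepQ 58924 Q58924 (allL N58924 (tt N95877 (iv1 F410061)) (tt N31372 (iv0 D110766)) (tt N95876 F410053) (tt N52086 F333588) (tt N95887 D198967) (tt N33588 F333589) (tt N52085 F333590) (tt N61439 (iv7 F333592)))
theorem Q58926 : ∀ i, i < 58926 → P i := stepQ 58925 Q58925 (allL N58925 (tt N31372 (iv1 D110767)) (tt N95877 F410060) (tt N61439 (iv2 F178865)) (tt N69487 (iv3 F416130)) (tt N87601 F379859) (tt N61405 (iv5 F178787)) (tt N70614 (iv6 F365419)) (tt N95876 (iv7 F410054)))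
theorem Q58927 : ∀ i, i < 58927 → P i := stepQ 58926 Q58926 (allL N58926 (tt N61439 (iv1 F178867)) (tt N95876 F410055) (tt N95877 (iv2 F410056)) (tt N31378 F171457) (tt N88332 (iv4 F382625)) (tt N34399 F171458) (tt N87540 (iv6 F379701)) (tt N31372 (iv7 D110768)))
theorem Q58928 : ∀ i, i < 58928 → P i := stepQ 58927 Q58927 (allL N58927 (tt N87538 (iv1 F379691)) (tt N87144 (iv0 F378528)) (tt N76420 (iv2 F238567)) (tt N31379 F171459) (tt N48760 F363170) (tt N75696 (iv5 F233474)) (tt N31373 (iv6 D110769)) (tt N87540 F379700))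
theorem Q58929 : ∀ i, i < 58929 → P i := stepQ 58928 Q58928 (allL N58928 (tt N56689 (iv1 F171460)) (tt N31374 (iv0 D110770)) (tt N52617 F358376) (tt N95888 D198969) (tt N52347 F335830) (tt N68617 (iv5 F335829)) (tt N95889 D198970) (tt N52614 (iv7 F340405)))
theorem Q58930 : ∀ i, i < 58930 → P i := stepQ 58929 Q58929 (allL N58929 (tt N31374 (iv1 D110771)) (tt N56689 F171465) (tt N52614 (iv2 F358380)) (tt N93245 (iv3 F400098)) (tt N52346 (iv4 F358381)) (tt N68618 F382327) (tt N93244 F400097) (tt N52617 F358379))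
theorem Q58931 : ∀ i, i < 58931 → P i := stepQ 58930 Q58930 (allL N58930 (tt N52617 (iv1 F358372)) (tt N52614 (iv0 F340397)) (tt N31374 (iv2 D110772)) (tt N56538 (iv3 F325495)) (tt N87748 (iv4 F380347)) (tt N56680 F171462) (tt N56536 (iv6 F360830)) (tt N56689 F171463))
theorem Q58932 : ∀ i, i < 58932 → P i := stepQ 58931 Q58931 (allL N58931 (tt N68770 (iv1 F349649)) (tt N68769 F360831) (tt N56536 F349647) (tt N31375 F171467) (tt N88335 (iv4 F382635)) (tt N56535 F349648) (tt N31374 (iv6 D110773)) (tt N68768 (iv7 F349646)))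
theorem Q58933 : ∀ i, i < 58933 → P i := stepQ 58932 Q58932 (allL N58932 (tt N56670 (iv1 F177834)) (tt N56667 (iv0 F177831)) (tt N56544 (iv2 F319141)) (tt N68768 (iv3 F349644)) (tt N31378 F171472) (tt N56543 F341594) (tt N56693 F171473) (tt N31375 (iv7 D110777)))
theorem Q58934 : ∀ i, i < 58934 → P i := stepQ 58933 Q58933 (allL N58933 (tt N76367 F258979) (tt N45098 F258980) (tt N76365 F259160) (tt N31376 (iv3 D110778)) (tt N95890 D198971) (tt N61555 (iv5 F179022)) (tt N95891 D198972) (tt N57283 F171477))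
theorem Q58935 : ∀ i, i < 58935 → P i := stepQ 58934 Q58934 (allL N58934 (tt N93118 F399571) (tt N95892 D198973) (tt N57282 F171480) (tt N95891 (iv3 F410110)) (tt N60618 (iv4 F358220)) (tt N58746 F171481) (tt N31376 (iv6 D110780)) (tt N69602 (iv7 F215069)))
theorem Q58936 : ∀ i, i < 58936 → P i := stepQ 58935 Q58935 (allL N58935 (tt N92202 F396227) (tt N81461 F360150) (tt N95893 D198974) (tt N31377 (iv3 D110781)) (tt N85464 (iv4 F372716)) (tt N55823 F171486) (tt N49859 F361703) (tt N57281 F171487))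
theorem Q58937 : ∀ i, i < 58937 → P i := stepQ 58936 Q58936 (allL N58936 (tt N60931 F258814) (tt N60934 (iv0 F347541)) (tt N57284 F171490) (tt N49859 (iv3 F347539)) (tt N65941 F347537) (tt N55827 F171491) (tt N31377 (iv6 D110783)) (tt N95894 D198975))
theorem Q58938 : ∀ i, i < 58938 → P i := stepQ 58937 Q58937 (allL N58937 (tt N57286 (iv1 F171495)) (tt N51539 F171496) (tt N57285 F171492) (tt N87540 F379699) (tt N56693 F171493) (tt N75706 (iv5 F233507)) (tt N31378 (iv6 D110784)) (tt N31379 F171494))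
theorem Q58939 : ∀ i, i < 58939 → P i := stepQ 58938 Q58938 (allL N58938 (tt N57285 (iv1 F171498)) (tt N31379 (iv0 D110785)) (tt N51539 (iv2 F171499)) (tt N86529 (iv3 F376437)) (tt N37781 F341789) (tt N95895 D198976) (tt N51534 F171497) (tt N57286 (iv7 F171500)))
theorem Q58940 : ∀ i, i < 58940 → P i := stepQ 58939 Q58939 (allL N58939 (tt N31379 (iv1 D110786)) (tt N57285 F171501) (tt N57286 (iv2 F171503)) (tt N51545 (iv3 F171504)) (tt N37782 F341792) (tt N95896 D198977) (tt N95897 D198978) (tt N51539 F171502))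
theorem Q58941 : ∀ i, i < 58941 → P i := stepQ 58940 Q58940 (allL N58940 (tt N87855 F380870) (tt N92567 (iv0 F397407)) (tt N91088 (iv2 F391872)) (tt N31381 (iv3 D110787)) (tt N66073 (iv4 F203310)) (tt N38555 F171505) (tt N82981 F364222) (tt N58952 (iv7 F171548)))
theorem Q58942 : ∀ i, i < 58942 → P i := stepQ 58941 Q58941 (allL N58941 (tt N38456 (iv1 F171509)) (tt N37361 (iv0 F171508)) (tt N37657 F171506) (tt N82981 (iv3 F364221)) (tt N31382 F171507) (tt N54736 F336764) (tt N31381 (iv6 D110788)) (tt N52914 (iv7 F325955)))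
theorem Q58943 : ∀ i, i < 58943 → P i := stepQ 58942 Q58942 (allL N58942 (tt N37660 (iv1 F171518)) (tt N31382 (iv0 D110789)) (tt N37658 (iv2 F171513)) (tt N65699 (iv3 F202263)) (tt N58227 F171510) (tt N35596 F171512) (tt N57711 F171511) (tt N37659 (iv7 F171515)))
theorem Q58944 : ∀ i, i < 58944 → P i := stepQ 58943 Q58943 (allL N58943 (tt N37659 (iv1 F171526)) (tt N37658 F171527) (tt N37660 F171525) (tt N66076 (iv3 F203323)) (tt N52914 (iv4 F325953)) (tt N70204 (iv5 F216959)) (tt N58954 (iv6 F171553)) (tt N31382 (iv7 D110790)))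
theorem Q58945 : ∀ i, i < 58945 → P i := stepQ 58944 Q58944 (allL N58944 (tt N37715 (iv1 F171532)) (tt N31383 (iv0 D110791)) (tt N37713 (iv2 F171908)) (tt N66065 F203493) (tt N69742 (iv4 F216031)) (tt N95898 D198979) (tt N57721 F171528) (tt N37714 (iv7 F171910)))
theorem Q58946 : ∀ i, i < 58946 → P i := stepQ 58945 Q58945 (allL N58945 (tt N37714 (iv1 F171533)) (tt N37713 F171535) (tt N37715 F171529) (tt N66077 (iv3 F203335)) (tt N38532 F171530) (tt N57348 F171531) (tt N58956 (iv6 F171565)) (tt N31383 (iv7 D110792)))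
theorem Q58947 : ∀ i, i < 58947 → P i := stepQ 58946 Q58946 (allL N58946 (tt N69850 (iv1 F216256)) (tt N31384 (iv0 D110793)) (tt N67550 (iv2 F207389)) (tt N95899 D198980) (tt N67546 (iv4 F207385)) (tt N44861 F336959) (tt N95900 D198981) (tt N69849 (iv7 F216253)))
theorem Q58948 : ∀ i, i < 58948 → P i := stepQ 58947 Q58947 (allL N58947 (tt N31384 (iv1 D110794)) (tt N69850 F216257) (tt N69849 F216251) (tt N70594 (iv3 F217917)) (tt N37885 (iv4 F171536)) (tt N44864 F336962) (tt N95901 D198982) (tt N67550 (iv7 F207390)))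
theorem Q58949 : ∀ i, i < 58949 → P i := stepQ 58948 Q58948 (allL N58948 (tt N67550 F207392) (tt N69849 F216252) (tt N31384 (iv2 D110795)) (tt N58958 (iv3 F171571)) (tt N35986 F171537) (tt N41914 F336964) (tt N57724 F171538) (tt N69850 (iv7 F216255)))
theorem Q58950 : ∀ i, i < 58950 → P i := stepQ 58949 Q58949 (allL N58949 (tt N44865 F336965) (tt N44867 F336966) (tt N41914 F336967) (tt N31385 F171539) (tt N66820 F336968) (tt N31384 (iv5 D110796)) (tt N33609 F336969) (tt N69799 (iv7 F216176)))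
theorem Q58951 : ∀ i, i < 58951 → P i := stepQ 58950 Q58950 (allL N58950 (tt N59313 (iv1 F342808)) (tt N64755 F357134) (tt N58960 (iv2 F171575)) (tt N33609 F341450) (tt N78113 (iv4 F246024)) (tt N57726 F171540) (tt N31385 (iv6 D110797)) (tt N41909 F341451))
theorem Q58952 : ∀ i, i < 58952 → P i := stepQ 58951 Q58951 (allL N58951 (tt N66152 (iv1 F203517)) (tt N32533 F328640) (tt N35926 F171541) (tt N31393 F171542) (tt N38574 F171543) (tt N58951 F171544) (tt N31387 (iv6 D110798)) (tt N35932 F171545))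
theorem Q58953 : ∀ i, i < 58953 → P i := stepQ 58952 Q58952 (allL N58952 (tt N87048 F378176) (tt N95902 D198983) (tt N73864 (iv2 F363640)) (tt N31388 (iv3 D110799)) (tt N66144 (iv4 F203469)) (tt N69769 (iv5 F216078)) (tt N70994 F363034) (tt N58940 F171548))
theorem Q58954 : ∀ i, i < 58954 → P i := stepQ 58953 Q58953 (allL N58953 (tt N44327 (iv1 F171554)) (tt N31389 (iv0 D110801)) (tt N44325 F171558) (tt N36763 (iv3 F171557)) (tt N38476 (iv4 F203283)) (tt N71923 (iv5 F220936)) (tt N69819 (iv6 F216213)) (tt N36723 F171556))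
theorem Q58955 : ∀ i, i < 58955 → P i := stepQ 58954 Q58954 (allL N58954 (tt N36723 (iv1 F171555)) (tt N44325 F171561) (tt N44327 F171552) (tt N66146 (iv3 F203478)) (tt N68349 (iv4 F209726)) (tt N70206 (iv5 F216970)) (tt N58943 F171553) (tt N31389 (iv7 D110802)))
theorem Q58956 : ∀ i, i < 58956 → P i := stepQ 58955 Q58955 (allL N58955 (tt N56522 (iv1 F171566)) (tt N31390 (iv0 D110803)) (tt N56520 F202491) (tt N36808 (iv3 F173731)) (tt N38517 F171562) (tt N59550 (iv5 F173118)) (tt N95903 D198984) (tt N56521 F202508))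
theorem Q58957 : ∀ i, i < 58957 → P i := stepQ 58956 Q58956 (allL N58956 (tt N56521 (iv1 F171567)) (tt N56520 F171569) (tt N56522 F171563) (tt N66148 (iv3 F203499)) (tt N69753 (iv4 F216062)) (tt N56734 F171564) (tt N58945 F171565) (tt N31390 (iv7 D110804)))
theorem Q58958 : ∀ i, i < 58958 → P i := stepQ 58957 Q58957 (allL N58957 (tt N31391 (iv1 D110806)) (tt N91792 F394449) (tt N38621 F368898) (tt N95904 D198985) (tt N84972 (iv4 F371221)) (tt N64669 F368899) (tt N95905 D198986) (tt N84323 F368900))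
theorem Q58959 : ∀ i, i < 58959 → P i := stepQ 58958 Q58958 (allL N58958 (tt N84323 F368901) (tt N38621 F171573) (tt N31391 (iv2 D110807)) (tt N58948 F171571) (tt N70461 (iv4 F217436)) (tt N75137 (iv5 F336974)) (tt N57798 F171572) (tt N91792 (iv7 F394450)))
theorem Q58960 : ∀ i, i < 58960 → P i := stepQ 58959 Q58959 (allL N58959 (tt N84247 (iv1 F370359)) (tt N84254 F370360) (tt N75137 (iv2 F363302)) (tt N31392 F171574) (tt N85823 (iv4 F374123)) (tt N31391 (iv5 D110808)) (tt N75135 F363301) (tt N84252 (iv7 F368696)))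
theorem Q58961 : ∀ i, i < 58961 → P i := stepQ 58960 Q58960 (allL N58960 (tt N59269 (iv1 F341462)) (tt N75129 F341458) (tt N58950 F171575) (tt N75135 (iv3 F363300)) (tt N69985 (iv4 F341446)) (tt N57801 F171576) (tt N31392 (iv6 D110809)) (tt N64772 (iv7 F341492)))
theorem Q58962 : ∀ i, i < 58962 → P i := stepQ 58961 Q58961 (allL N58961 (tt N31411 (iv1 F171580)) (tt N31410 F171581) (tt N31412 F171577) (tt N60364 (iv3 F176286)) (tt N49012 (iv4 F329524)) (tt N38709 F171578) (tt N31420 F171579) (tt N31394 (iv7 D110810)))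
theorem Q58963 : ∀ i, i < 58963 → P i := stepQ 58962 Q58962 (allL N58962 (tt N31395 (iv1 D110811)) (tt N31427 F171606) (tt N31425 F171609) (tt N39646 (iv3 F171608)) (tt N40518 (iv4 F171610)) (tt N60875 (iv5 F350318)) (tt N95906 D198987) (tt N31424 F171607))
theorem Q58964 : ∀ i, i < 58964 → P i := stepQ 58963 Q58963 (allL N58963 (tt N31425 (iv1 F171614)) (tt N31424 F171615) (tt N31427 F171611) (tt N62045 (iv3 F179872)) (tt N38756 F329889) (tt N57795 F171612) (tt N31435 F171613) (tt N31395 (iv7 D110812)))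
theorem Q58965 : ∀ i, i < 58965 → P i := stepQ 58964 Q58964 (allL N58964 (tt N40527 (iv1 F171616)) (tt N31396 (iv0 D110813)) (tt N40526 (iv2 F224178)) (tt N95907 D198988) (tt N54776 (iv4 F333128)) (tt N72532 (iv5 F225853)) (tt N72040 (iv6 F353580)) (tt N40525 (iv7 F224179)))
theorem Q58966 : ∀ i, i < 58966 → P i := stepQ 58965 Q58965 (allL N58965 (tt N31396 (iv1 D110814)) (tt N40527 F171621) (tt N40525 F224175) (tt N95908 D198989) (tt N54762 (iv4 F333123)) (tt N72533 (iv5 F225849)) (tt N54761 F364747) (tt N40526 F224177))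
theorem Q58967 : ∀ i, i < 58967 → P i := stepQ 58966 Q58966 (allL N58966 (tt N40526 (iv1 F171622)) (tt N40525 F171620) (tt N31396 (iv2 D110815)) (tt N31441 F171617) (tt N39621 F171618) (tt N95909 D198990) (tt N78166 (iv6 F246446)) (tt N40527 F171619))
theorem Q58968 : ∀ i, i < 58968 → P i := stepQ 58967 Q58967 (allL N58967 (tt N95910 D198991) (tt N95911 D198992) (tt N95909 (iv2 F410203)) (tt N31397 F171623) (tt N95723 (iv4 F409316)) (tt N31396 (iv5 D110816)) (tt N78972 (iv6 F360942)) (tt N31768 F171624))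
theorem Q58969 : ∀ i, i < 58969 → P i := stepQ 58968 Q58968 (allL N58968 (tt N95912 D198993) (tt N95913 D198994) (tt N31446 F171625) (tt N78972 F360943) (tt N31773 F171626) (tt N64812 (iv5 F341503)) (tt N31397 (iv6 D110817)) (tt N95914 D198995))
theorem Q58970 : ∀ i, i < 58970 → P i := stepQ 58969 Q58969 (allL N58969 (tt N31403 (iv1 F171627)) (tt N31398 (iv0 D110818)) (tt N31449 F171851) (tt N60055 (iv3 F175398)) (tt N59274 F172448) (tt N95915 D198996) (tt N68694 (iv6 F211411)) (tt N31450 F171852))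
theorem Q58971 : ∀ i, i < 58971 → P i := stepQ 58970 Q58970 (allL N58970 (tt N72859 (iv1 F223466)) (tt N31399 (iv0 D110819)) (tt N57412 (iv2 F171631)) (tt N65454 (iv3 F201758)) (tt N39931 (iv4 F172379)) (tt N95916 D198997) (tt N31433 F171632) (tt N72919 (iv7 F223580)))
theorem Q58972 : ∀ i, i < 58972 → P i := stepQ 58971 Q58971 (allL N58971 (tt N31399 (iv1 D110820)) (tt N72859 (iv0 F223468)) (tt N72919 F223578) (tt N31461 (iv3 F171629)) (tt N39932 F171628) (tt N65822 (iv5 F202428)) (tt N72900 (iv6 F223556)) (tt N57412 F171630))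
theorem Q58973 : ∀ i, i < 58973 → P i := stepQ 58972 Q58972 (allL N58972 (tt N31400 (iv1 D110821)) (tt N57377 F171633) (tt N53524 (iv2 F329695)) (tt N62956 (iv3 F328407)) (tt N40554 F171638) (tt N38708 F171635) (tt N31424 (iv6 F171637)) (tt N53530 (iv7 F329708)))
theorem Q58974 : ∀ i, i < 58974 → P i := stepQ 58973 Q58973 (allL N58973 (tt N53524 (iv1 F329694)) (tt N53530 (iv0 F329703)) (tt N57377 F171642) (tt N66278 (iv3 F203897)) (tt N59252 (iv4 F172415)) (tt N57868 F171643) (tt N72859 (iv6 F223464)) (tt N31400 (iv7 D110822)))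
theorem Q58975 : ∀ i, i < 58975 → P i := stepQ 58974 Q58974 (allL N58974 (tt N71700 (iv1 F338243)) (tt N31401 (iv0 D110823)) (tt N78168 F361438) (tt N95917 D198998) (tt N95918 D198999) (tt N62974 (iv5 F361437)) (tt N95919 D199000) (tt N78167 F361439))
theorem Q58976 : ∀ i, i < 58976 → P i := stepQ 58975 Q58975 (allL N58975 (tt N31401 (iv1 D110824)) (tt N71700 (iv0 F338242)) (tt N78167 F361440) (tt N55076 F343903) (tt N95920 D199001) (tt N44876 F361441) (tt N55075 (iv6 F343902)) (tt N78168 F361442))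
theorem Q58977 : ∀ i, i < 58977 → P i := stepQ 58976 Q58976 (allL N58976 (tt N78168 (iv1 F246456)) (tt N78167 F246451) (tt N31401 (iv2 D110825)) (tt N78166 (iv3 F246444)) (tt N31465 F171646) (tt N82135 (iv5 F338240)) (tt N31441 F171647) (tt N71700 (iv7 F338247)))
theorem Q58978 : ∀ i, i < 58978 → P i := stepQ 58977 Q58977 (allL N58977 (tt N80012 F338237) (tt N44885 F338238) (tt N82135 F338239) (tt N31402 F171648) (tt N95921 D199002) (tt N31401 (iv5 D110826)) (tt N95922 D199003) (tt N78112 (iv7 F246022)))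
theorem Q58979 : ∀ i, i < 58979 → P i := stepQ 58978 Q58978 (allL N58978 (tt N34866 F354940) (tt N79393 F354941) (tt N64812 (iv2 F341502)) (tt N95922 (iv3 F410273)) (tt N35130 F341483) (tt N31446 F171649) (tt N31402 (iv6 D110827)) (tt N64810 F341499))
theorem Q58980 : ∀ i, i < 58980 → P i := stepQ 58979 Q58979 (allL N58979 (tt N95923 D199004) (tt N95924 D199005) (tt N95925 D199006) (tt N31404 (iv3 D110828)) (tt N55879 F171650) (tt N31764 F171651) (tt N95926 D199007) (tt N40424 F171652))
theorem Q58981 : ∀ i, i < 58981 → P i := stepQ 58980 Q58980 (allL N58980 (tt N31658 F171655) (tt N31659 F171656) (tt N35594 F171653) (tt N95926 (iv3 F410295)) (tt N31405 F171654) (tt N52767 (iv5 F336676)) (tt N31404 (iv6 D110829)) (tt N58483 F171669))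
theorem Q58982 : ∀ i, i < 58982 → P i := stepQ 58981 Q58981 (allL N58981 (tt N35597 (iv1 F171662)) (tt N31405 (iv0 D110830)) (tt N35595 (iv2 F171659)) (tt N55687 F171660) (tt N59327 (iv4 F172605)) (tt N37659 F171657) (tt N56733 F171658) (tt N35596 F171661))
theorem Q58983 : ∀ i, i < 58983 → P i := stepQ 58982 Q58982 (allL N58982 (tt N35596 (iv1 F171666)) (tt N35595 F171667) (tt N35597 F171663) (tt N55882 F171664) (tt N58483 (iv4 F171668)) (tt N52912 (iv5 F326761)) (tt N60694 F176722) (tt N31405 (iv7 D110831)))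
theorem Q58984 : ∀ i, i < 58984 → P i := stepQ 58983 Q58983 (allL N58983 (tt N40342 (iv1 F171675)) (tt N31406 (iv0 D110832)) (tt N40340 (iv2 F171924)) (tt N62621 F182849) (tt N58123 F171670) (tt N65653 (iv5 F202185)) (tt N59054 (iv6 F171934)) (tt N40341 (iv7 F171927)))
theorem Q58985 : ∀ i, i < 58985 → P i := stepQ 58984 Q58984 (allL N58984 (tt N40341 (iv1 F171676)) (tt N40340 F171678) (tt N40342 F171671) (tt N66271 (iv3 F203883)) (tt N40105 F171672) (tt N40306 F171673) (tt N57348 F171674) (tt N31406 (iv7 D110833)))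
theorem Q58986 : ∀ i, i < 58986 → P i := stepQ 58985 Q58985 (allL N58985 (tt N66346 (iv1 F204023)) (tt N31407 (iv0 D110834)) (tt N66345 (iv2 F220266)) (tt N72865 (iv3 F223473)) (tt N95927 D199008) (tt N58275 F171679) (tt N83404 F329613) (tt N66344 (iv7 F220268)))
theorem Q58987 : ∀ i, i < 58987 → P i := stepQ 58986 Q58986 (allL N58986 (tt N31407 (iv1 D110835)) (tt N66346 F204025) (tt N66344 F220267) (tt N95928 D199009) (tt N71605 (iv4 F220264)) (tt N95929 D199010) (tt N95930 D199011) (tt N66345 F220265))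
theorem Q58988 : ∀ i, i < 58988 → P i := stepQ 58987 Q58987 (allL N58987 (tt N59052 F171834) (tt N59054 (iv0 F171933)) (tt N94808 (iv2 F406034)) (tt N31478 F171683) (tt N40137 F171684) (tt N69782 (iv5 F216117)) (tt N31411 (iv6 D110841)) (tt N69782 (iv7 F216118)))
theorem Q58989 : ∀ i, i < 58989 → P i := stepQ 58988 Q58988 (allL N58988 (tt N58059 (iv1 F171690)) (tt N31413 (iv0 D110842)) (tt N57220 (iv2 F171687)) (tt N40399 F171686) (tt N33109 (iv4 F171691)) (tt N92672 (iv5 F397834)) (tt N94217 (iv6 F403740)) (tt N57317 F171688))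
theorem Q58990 : ∀ i, i < 58990 → P i := stepQ 58989 Q58989 (allL N58989 (tt N57317 (iv1 F171695)) (tt N57220 F171696) (tt N58059 F171693) (tt N31420 F171694) (tt N61945 (iv4 F179716)) (tt N60759 (iv5 F176839)) (tt N60364 (iv6 F176288)) (tt N31413 (iv7 D110843)))
theorem Q58991 : ∀ i, i < 58991 → P i := stepQ 58990 Q58990 (allL N58990 (tt N95931 D199012) (tt N81730 (iv0 F363310)) (tt N95932 D199013) (tt N31414 (iv3 D110844)) (tt N35574 F171697) (tt N31766 F171698) (tt N76196 F362488) (tt N35593 F171699))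
theorem Q58992 : ∀ i, i < 58992 → P i := stepQ 58991 Q58991 (allL N58991 (tt N31688 (iv1 F171704)) (tt N31690 (iv0 F171702)) (tt N40425 F171700) (tt N76196 F362487) (tt N31415 F171701) (tt N44359 F336688) (tt N31414 (iv6 D110845)) (tt N44358 F336689))
theorem Q58993 : ∀ i, i < 58993 → P i := stepQ 58992 Q58992 (allL N58992 (tt N31416 (iv1 D110846)) (tt N72461 F222574) (tt N62304 (iv2 F222573)) (tt N72756 (iv3 F223165)) (tt N61987 (iv4 F330601)) (tt N95933 D199014) (tt N95934 D199015) (tt N72460 F222572))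
theorem Q58994 : ∀ i, i < 58994 → P i := stepQ 58993 Q58993 (allL N58993 (tt N72460 (iv1 F222570)) (tt N62304 F180758) (tt N31416 (iv2 D110847)) (tt N66346 (iv3 F204020)) (tt N72640 (iv4 F222796)) (tt N95935 D199016) (tt N90181 (iv6 F388809)) (tt N72461 (iv7 F222568)))
theorem Q58995 : ∀ i, i < 58995 → P i := stepQ 58994 Q58994 (allL N58994 (tt N73349 F224460) (tt N95936 D199017) (tt N95935 (iv2 F410333)) (tt N31417 F171705) (tt N70741 (iv4 F354328)) (tt N31416 (iv5 D110848)) (tt N78729 (iv6 F354431)) (tt N69719 (iv7 F215944)))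
theorem Q58996 : ∀ i, i < 58996 → P i := stepQ 58995 Q58995 (allL N58995 (tt N90179 (iv1 F388794)) (tt N90178 F388792) (tt N90181 (iv2 F388805)) (tt N31418 F171706) (tt N72641 (iv4 F222798)) (tt N64307 F339891) (tt N31416 (iv6 D110849)) (tt N64306 (iv7 F339890)))
theorem Q58997 : ∀ i, i < 58997 → P i := stepQ 58996 Q58996 (allL N58996 (tt N66411 (iv1 F204117)) (tt N31421 (iv0 D110853)) (tt N66410 (iv2 F220442)) (tt N73430 (iv3 F224830)) (tt N95937 D199018) (tt N58331 F171710) (tt N95938 D199019) (tt N66409 F220443))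
theorem Q58998 : ∀ i, i < 58998 → P i := stepQ 58997 Q58997 (allL N58997 (tt N31421 (iv1 D110854)) (tt N66411 F204119) (tt N66409 F220441) (tt N91072 (iv3 F391818)) (tt N66466 (iv4 F204205)) (tt N85640 (iv5 F373322)) (tt N59238 (iv6 F373324)) (tt N66410 (iv7 F220440)))
theorem Q58999 : ∀ i, i < 58999 → P i := stepQ 58998 Q58998 (allL N58998 (tt N66410 (iv1 F204118)) (tt N66409 F204113) (tt N31421 (iv2 D110855)) (tt N62036 F179847) (tt N66231 (iv4 F203734)) (tt N95190 (iv5 F407358)) (tt N86360 (iv6 F375940)) (tt N66411 (iv7 F204116)))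
theorem Q59000 : ∀ i, i < 59000 → P i := stepQ 58999 Q58999 (allL N58999 (tt N94730 F405711) (tt N95182 (iv0 F407333)) (tt N95190 F407359) (tt N31422 F171711) (tt N94836 (iv4 F406111)) (tt N31421 (iv5 D110856)) (tt N95939 D199020) (tt N66412 (iv7 F204121)))
theorem Q59001 : ∀ i, i < 59001 → P i := stepQ 59000 Q59000 (allL N59000 (tt N35168 F343836) (tt N69904 F343837) (tt N69707 (iv2 F215928)) (tt N95939 (iv3 F410352)) (tt N31752 F171713) (tt N38740 F343838) (tt N31422 (iv6 D110858)) (tt N38739 F343839))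
theorem Q59002 : ∀ i, i < 59002 → P i := stepQ 59001 Q59001 (allL N59001 (tt N38755 F329654) (tt N38754 F329655) (tt N38757 F329656) (tt N86373 (iv3 F375992)) (tt N38255 F329657) (tt N31423 (iv5 D110859)) (tt N38740 F329658) (tt N38670 F329659))
theorem Q59003 : ∀ i, i < 59003 → P i := stepQ 59002 Q59002 (allL N59002 (tt N73299 F342848) (tt N67806 (iv0 F227002)) (tt N66508 (iv2 F204317)) (tt N60857 (iv3 F328266)) (tt N73287 (iv4 F342846)) (tt N31424 (iv5 D110860)) (tt N95940 D199021) (tt N60875 F350320))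
theorem Q59004 : ∀ i, i < 59004 → P i := stepQ 59003 Q59003 (allL N59003 (tt N67806 (iv1 F227003)) (tt N73299 (iv0 F342852)) (tt N60875 F350319) (tt N31501 F171714) (tt N70430 (iv4 F217383)) (tt N31425 (iv5 D110861)) (tt N37787 F171715) (tt N66508 (iv7 F204319)))
theorem Q59005 : ∀ i, i < 59005 → P i := stepQ 59004 Q59004 (allL N59004 (tt N68692 F211965) (tt N68694 (iv0 F211963)) (tt N95906 (iv2 F410187)) (tt N31502 F171716) (tt N40557 F171717) (tt N68939 (iv5 F211960)) (tt N31425 (iv6 D110862)) (tt N74209 (iv7 F226999)))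
theorem Q59006 : ∀ i, i < 59006 → P i := stepQ 59005 Q59005 (allL N59005 (tt N62065 (iv1 F179931)) (tt N31428 (iv0 D110863)) (tt N62063 (iv2 F179911)) (tt N40706 (iv3 F171719)) (tt N33149 (iv4 F171720)) (tt N39681 F171718) (tt N95941 D199022) (tt N62064 (iv7 F179919)))
theorem Q59007 : ∀ i, i < 59007 → P i := stepQ 59006 Q59006 (allL N59006 (tt N62064 (iv1 F179918)) (tt N62063 (iv0 F179913)) (tt N62065 (iv2 F179925)) (tt N31435 F171722) (tt N61795 (iv4 F179527)) (tt N65451 (iv5 F201747)) (tt N62045 (iv6 F179875)) (tt N31428 (iv7 D110864)))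
theorem Q59008 : ∀ i, i < 59008 → P i := stepQ 59007 Q59007 (allL N59007 (tt N31429 (iv1 D110865)) (tt N62036 F179846) (tt N62037 (iv2 F179854)) (tt N71679 (iv3 F361550)) (tt N93628 (iv4 F401339)) (tt N95936 (iv5 F410339)) (tt N71677 F361556) (tt N62038 (iv7 F179856)))
theorem Q59009 : ∀ i, i < 59009 → P i := stepQ 59008 Q59008 (allL N59008 (tt N62038 (iv1 F179855)) (tt N62037 F179852) (tt N31429 (iv2 D110866)) (tt N66411 (iv3 F204114)) (tt N61791 (iv4 F179515)) (tt N95942 D199023) (tt N95943 D199024) (tt N62036 (iv7 F179845)))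
theorem Q59010 : ∀ i, i < 59010 → P i := stepQ 59009 Q59009 (allL N59009 (tt N76808 F363777) (tt N95944 D199025) (tt N95942 (iv2 F410369)) (tt N31430 F171723) (tt N69527 (iv4 F349534)) (tt N31429 (iv5 D110867)) (tt N95945 D199026) (tt N62039 (iv7 F179860)))
theorem Q59011 : ∀ i, i < 59011 → P i := stepQ 59010 Q59010 (allL N59010 (tt N95946 D199027) (tt N95947 D199028) (tt N95943 (iv2 F410373)) (tt N31431 F171724) (tt N61792 (iv4 F179523)) (tt N95948 D199029) (tt N31429 (iv6 D110868)) (tt N95949 D199030))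
theorem Q59012 : ∀ i, i < 59012 → P i := stepQ 59011 Q59011 (allL N59011 (tt N95950 D199031) (tt N95951 D199032) (tt N66414 (iv2 F204124)) (tt N95945 (iv3 F410379)) (tt N31742 F171725) (tt N95233 (iv5 F407520)) (tt N31430 (iv6 D110869)) (tt N95241 (iv7 F407551)))
theorem Q59013 : ∀ i, i < 59013 → P i := stepQ 59012 Q59012 (allL N59012 (tt N95952 D199033) (tt N88446 (iv0 F383084)) (tt N66415 (iv2 F204126)) (tt N95948 (iv3 F410382)) (tt N78073 F343811) (tt N31431 (iv5 D110870)) (tt N95233 (iv6 F407521)) (tt N38753 F343812))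
theorem Q59014 : ∀ i, i < 59014 → P i := stepQ 59013 Q59013 (allL N59013 (tt N62400 F181194) (tt N62399 (iv0 F181189)) (tt N62421 F181228) (tt N95949 (iv3 F410384)) (tt N31435 F171726) (tt N38753 F329890) (tt N38756 F329891) (tt N31431 (iv7 D110871)))
theorem Q59015 : ∀ i, i < 59015 → P i := stepQ 59014 Q59014 (allL N59014 (tt N33351 F171729) (tt N31438 F171730) (tt N33348 F171727) (tt N93711 (iv3 F401635)) (tt N31432 (iv4 D110872)) (tt N63993 F332942) (tt N45380 F332943) (tt N33349 F171728))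
theorem Q59016 : ∀ i, i < 59016 → P i := stepQ 59015 Q59015 (allL N59015 (tt N64578 (iv1 F332921)) (tt N64573 F363089) (tt N66416 (iv2 F204127)) (tt N31510 F171731) (tt N45380 F332915) (tt N57247 (iv5 F171735)) (tt N31432 (iv6 D110873)) (tt N72900 (iv7 F223557)))
theorem Q59017 : ∀ i, i < 59017 → P i := stepQ 59016 Q59016 (allL N59016 (tt N31438 (iv1 F171741)) (tt N33351 (iv0 F171740)) (tt N33349 F171738) (tt N54770 F362218) (tt N31433 (iv4 D110874)) (tt N95953 D199034) (tt N39931 (iv6 F172380)) (tt N33348 F171739))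
theorem Q59018 : ∀ i, i < 59018 → P i := stepQ 59017 Q59017 (allL N59017 (tt N36670 F171745) (tt N55942 F171757) (tt N40710 F171742) (tt N62064 F179921) (tt N40672 F171744) (tt N31433 (iv5 D110875)) (tt N38703 (iv6 F171746)) (tt N40706 F171743))
theorem Q59019 : ∀ i, i < 59019 → P i := stepQ 59018 Q59018 (allL N59018 (tt N31434 (iv1 D110876)) (tt N38696 F171758) (tt N38695 F171761) (tt N57321 (iv3 F171762)) (tt N57735 (iv4 F171763)) (tt N38438 (iv5 F171760)) (tt N95954 D199035) (tt N38694 F171759))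
theorem Q59020 : ∀ i, i < 59020 → P i := stepQ 59019 Q59019 (allL N59019 (tt N38695 (iv1 F171775)) (tt N38694 F171776) (tt N38696 F171772) (tt N65451 (iv3 F201746)) (tt N72938 (iv4 F223635)) (tt N31435 F171773) (tt N38702 F171774) (tt N31434 (iv7 D110878)))
theorem Q59021 : ∀ i, i < 59021 → P i := stepQ 59020 Q59020 (allL N59020 (tt N40513 (iv1 F171779)) (tt N31436 (iv0 D110879)) (tt N40512 F361306) (tt N62034 F179843) (tt N93326 (iv4 F400409)) (tt N53819 F350405) (tt N59288 (iv6 F350407)) (tt N40511 F361307))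
theorem Q59022 : ∀ i, i < 59022 → P i := stepQ 59021 Q59021 (allL N59021 (tt N31436 (iv1 D110880)) (tt N40513 F171784) (tt N40511 F361311) (tt N95955 D199036) (tt N93281 (iv4 F400279)) (tt N53818 (iv5 F350412)) (tt N95956 D199037) (tt N40512 F361312))
theorem Q59023 : ∀ i, i < 59023 → P i := stepQ 59022 Q59022 (allL N59022 (tt N40512 (iv1 F171785)) (tt N40511 F171783) (tt N31436 (iv2 D110881)) (tt N33344 F171780) (tt N40667 F171781) (tt N89787 F387573) (tt N95957 D199038) (tt N40513 F171782))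
theorem Q59024 : ∀ i, i < 59024 → P i := stepQ 59023 Q59023 (allL N59023 (tt N72444 (iv1 F357510)) (tt N72448 F224848) (tt N89787 (iv2 F387569)) (tt N31437 F171786) (tt N73434 F224837) (tt N31436 (iv5 D110882)) (tt N88982 F384647) (tt N40514 F171787))
theorem Q59025 : ∀ i, i < 59025 → P i := stepQ 59024 Q59024 (allL N59024 (tt N53565 F350402) (tt N95958 D199039) (tt N95957 (iv2 F410424)) (tt N31438 F171788) (tt N40669 F171789) (tt N53143 (iv5 F350403)) (tt N31436 (iv6 D110883)) (tt N95959 D199040))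
theorem Q59026 : ∀ i, i < 59026 → P i := stepQ 59025 Q59025 (allL N59025 (tt N89034 F384900) (tt N73093 F341352) (tt N33347 F171790) (tt N88982 (iv3 F384648)) (tt N31701 F171791) (tt N95234 (iv5 F407525)) (tt N31437 (iv6 D110884)) (tt N89784 (iv7 F387544)))
theorem Q59027 : ∀ i, i < 59027 → P i := stepQ 59026 Q59026 (allL N59026 (tt N72174 (iv1 F221525)) (tt N72172 (iv0 F221520)) (tt N33350 F171792) (tt N53143 F350404) (tt N94549 (iv4 F404925)) (tt N31438 (iv5 D110885)) (tt N95234 (iv6 F407527)) (tt N38821 F343176))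
theorem Q59028 : ∀ i, i < 59028 → P i := stepQ 59027 Q59027 (allL N59027 (tt N33349 (iv1 F171796)) (tt N33348 F171797) (tt N33351 F171793) (tt N95959 (iv3 F410436)) (tt N33341 F171794) (tt N38821 F343177) (tt N40520 F171795) (tt N31438 (iv7 D110886)))
theorem Q59029 : ∀ i, i < 59029 → P i := stepQ 59028 Q59028 (allL N59028 (tt N31440 (iv1 F171802)) (tt N31439 (iv0 D110887)) (tt N31443 (iv2 F171798)) (tt N40527 F171799) (tt N31512 F171800) (tt N71110 (iv5 F338274)) (tt N58613 F338252) (tt N31441 F171801))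
theorem Q59030 : ∀ i, i < 59030 → P i := stepQ 59029 Q59029 (allL N59029 (tt N31443 F359126) (tt N31441 F359127) (tt N31439 (iv2 D110888)) (tt N95960 D199041) (tt N56388 F359128) (tt N71322 (iv5 F359150)) (tt N95961 D199042) (tt N31440 (iv7 F171803)))
theorem Q59031 : ∀ i, i < 59031 → P i := stepQ 59030 Q59030 (allL N59030 (tt N95955 F410420) (tt N95962 D199043) (tt N95963 D199044) (tt N31439 (iv3 D110889)) (tt N92411 F396930) (tt N95964 D199045) (tt N95965 D199046) (tt N95966 D199047))
theorem Q59032 : ∀ i, i < 59032 → P i := stepQ 59031 Q59031 (allL N59031 (tt N73759 (iv1 F225705)) (tt N57072 (iv0 F171804)) (tt N56388 (iv2 F359131)) (tt N93804 (iv3 F401965)) (tt N31439 (iv4 D110890)) (tt N71419 (iv5 F220038)) (tt N95967 D199048) (tt N73758 (iv7 F359137)))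
theorem Q59033 : ∀ i, i < 59033 → P i := stepQ 59032 Q59032 (allL N59032 (tt N72552 (iv1 F222660)) (tt N40546 F222661) (tt N71322 (iv2 F359149)) (tt N95964 (iv3 F410463)) (tt N95968 D199049) (tt N31439 (iv5 D110891)) (tt N70884 (iv6 F338280)) (tt N72554 (iv7 F359139)))
theorem Q59034 : ∀ i, i < 59034 → P i := stepQ 59033 Q59033 (allL N59033 (tt N72037 F362374) (tt N40555 F362375) (tt N95961 (iv2 F410449)) (tt N95965 (iv3 F410464)) (tt N95967 (iv4 F410470)) (tt N95969 D199050) (tt N31439 (iv6 D110892)) (tt N95970 D199051))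
theorem Q59035 : ∀ i, i < 59035 → P i := stepQ 59034 Q59034 (allL N59034 (tt N31441 F359133) (tt N31443 F359134) (tt N31440 F171805) (tt N95966 (iv3 F410466)) (tt N73758 F359135) (tt N72554 F359136) (tt N95971 D199052) (tt N31439 (iv7 D110893)))
theorem Q59036 : ∀ i, i < 59036 → P i := stepQ 59035 Q59035 (allL N59035 (tt N66418 (iv1 F220523)) (tt N40530 (iv0 F220522)) (tt N95972 D199053) (tt N31440 (iv3 D110894)) (tt N93798 (iv4 F401932)) (tt N95973 D199054) (tt N95974 D199055) (tt N95960 (iv7 F410444)))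
theorem Q59037 : ∀ i, i < 59037 → P i := stepQ 59036 Q59036 (allL N59036 (tt N40546 (iv1 F172284)) (tt N72552 F224265) (tt N72554 (iv2 F359138)) (tt N95973 (iv3 F410488)) (tt N95975 D199056) (tt N31440 (iv5 D110895)) (tt N95976 D199057) (tt N71322 (iv7 F359151)))
theorem Q59038 : ∀ i, i < 59038 → P i := stepQ 59037 Q59037 (allL N59037 (tt N93711 F401638) (tt N95977 D199058) (tt N95971 (iv2 F410479)) (tt N95974 (iv3 F410493)) (tt N93796 (iv4 F401923)) (tt N95978 D199059) (tt N31440 (iv6 D110896)) (tt N95979 D199060))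
theorem Q59039 : ∀ i, i < 59039 → P i := stepQ 59038 Q59038 (allL N59038 (tt N83099 (iv1 F345103)) (tt N95980 D199061) (tt N31442 F171810) (tt N95909 (iv3 F410204)) (tt N95981 D199062) (tt N31441 (iv5 D110899)) (tt N95982 D199063) (tt N71110 F338276))
theorem Q59040 : ∀ i, i < 59040 → P i := stepQ 59039 Q59039 (allL N59039 (tt N71110 F338278) (tt N31442 (iv0 D110900)) (tt N83099 (iv2 F338285)) (tt N63468 (iv3 F338287)) (tt N95983 D199064) (tt N40106 (iv5 F222654)) (tt N63475 F338286) (tt N95980 (iv7 F410508)))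
theorem Q59041 : ∀ i, i < 59041 → P i := stepQ 59040 Q59040 (allL N59040 (tt N31442 (iv1 D110901)) (tt N71110 F338279) (tt N95980 (iv2 F410511)) (tt N83111 F338282) (tt N95984 D199065) (tt N40107 F180528) (tt N76097 (iv6 F338281)) (tt N83099 F338283))
theorem Q59042 : ∀ i, i < 59042 → P i := stepQ 59041 Q59041 (allL N59041 (tt N90115 F388586) (tt N95985 D199066) (tt N95981 (iv2 F410512)) (tt N95986 D199067) (tt N31442 (iv4 D110902)) (tt N95987 D199068) (tt N95988 D199069) (tt N67874 (iv7 F364004)))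
theorem Q59043 : ∀ i, i < 59043 → P i := stepQ 59042 Q59042 (allL N59042 (tt N95989 D199070) (tt N95990 D199071) (tt N95982 (iv2 F410515)) (tt N31446 F171811) (tt N95988 (iv4 F410530)) (tt N95922 (iv5 F410275)) (tt N31442 (iv6 D110903)) (tt N71106 (iv7 F341509)))
theorem Q59044 : ∀ i, i < 59044 → P i := stepQ 59043 Q59043 (allL N59043 (tt N95980 (iv1 F410507)) (tt N83099 (iv0 F345097)) (tt N71110 F338253) (tt N31447 F171812) (tt N67874 F338254) (tt N31443 F171813) (tt N39328 F338255) (tt N31442 (iv7 D110904)))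
theorem Q59045 : ∀ i, i < 59045 → P i := stepQ 59044 Q59044 (allL N59044 (tt N53819 F354331) (tt N53818 F350411) (tt N53769 F350399) (tt N31444 (iv3 D110906)) (tt N93261 (iv4 F400174)) (tt N31674 F171816) (tt N53213 (iv6 F350409)) (tt N40060 F171817))
theorem Q59046 : ∀ i, i < 59046 → P i := stepQ 59045 Q59045 (allL N59045 (tt N95991 D199072) (tt N95992 D199073) (tt N95704 (iv2 F409212)) (tt N31445 (iv3 D110908)) (tt N95986 (iv4 F410523)) (tt N31626 F171820) (tt N56833 (iv6 F365200)) (tt N31625 F171821))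
theorem Q59047 : ∀ i, i < 59047 → P i := stepQ 59046 Q59046 (allL N59046 (tt N93547 F401097) (tt N95993 D199074) (tt N31773 F171822) (tt N56833 F365201) (tt N31446 F171823) (tt N56830 (iv5 F365202)) (tt N31445 (iv6 D110909)) (tt N95994 D199075))
theorem Q59048 : ∀ i, i < 59048 → P i := stepQ 59047 Q59047 (allL N59047 (tt N95914 (iv1 F410236)) (tt N31446 (iv0 D110910)) (tt N95912 (iv2 F410225)) (tt N95995 D199076) (tt N95996 D199077) (tt N95997 D199078) (tt N95998 D199079) (tt N95913 (iv7 F410227)))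
theorem Q59049 : ∀ i, i < 59049 → P i := stepQ 59048 Q59048 (allL N59048 (tt N31446 (iv1 D110911)) (tt N95914 F410235) (tt N95913 (iv2 F410230)) (tt N95999 D199080) (tt N96000 D199081) (tt N38538 F357705) (tt N38539 F357706) (tt N95912 F410222))
theorem Q59050 : ∀ i, i < 59050 → P i := stepQ 59049 Q59049 (allL N59049 (tt N95913 (iv1 F410226)) (tt N95912 F410223) (tt N95914 (iv2 F410231)) (tt N71106 F341508) (tt N95994 (iv4 F410551)) (tt N64810 (iv5 F341505)) (tt N71104 (iv6 F332965)) (tt N31446 (iv7 D110912)))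
theorem Q59051 : ∀ i, i < 59051 → P i := stepQ 59050 Q59050 (allL N59050 (tt N96001 D199082) (tt N96002 D199083) (tt N31769 F171824) (tt N39328 F332960) (tt N31629 F171825) (tt N68865 F332961) (tt N31447 (iv6 D110913)) (tt N71104 F332962))
theorem Q59052 : ∀ i, i < 59052 → P i := stepQ 59051 Q59051 (allL N59051 (tt N31448 (iv1 D110914)) (tt N39924 F171826) (tt N33471 F171829) (tt N90984 (iv3 F391469)) (tt N31564 (iv4 F171828)) (tt N65020 (iv5 F332948)) (tt N45617 F332947) (tt N40054 F171827))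
theorem Q59053 : ∀ i, i < 59053 → P i := stepQ 59052 Q59052 (allL N59052 (tt N96003 D199084) (tt N58987 (iv0 F171834)) (tt N95915 (iv2 F410238)) (tt N57411 F171833) (tt N96004 D199085) (tt N31449 (iv5 D110917)) (tt N74218 (iv6 F227019)) (tt N66504 (iv7 F204315)))
theorem Q59054 : ∀ i, i < 59054 → P i := stepQ 59053 Q59053 (allL N59053 (tt N95906 (iv1 F410193)) (tt N74209 (iv0 F227000)) (tt N68694 (iv2 F211410)) (tt N37055 F171835) (tt N72433 (iv4 F222497)) (tt N37053 F171836) (tt N31449 (iv6 D110918)) (tt N68692 (iv7 F211404)))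
theorem Q59055 : ∀ i, i < 59055 → P i := stepQ 59054 Q59054 (allL N59054 (tt N58987 F171933) (tt N96003 F410592) (tt N66504 (iv2 F204312)) (tt N95746 (iv3 F409424)) (tt N95007 (iv4 F406628)) (tt N31450 (iv5 D110920)) (tt N58983 F171934) (tt N95915 (iv7 F410241)))
theorem Q59056 : ∀ i, i < 59056 → P i := stepQ 59055 Q59055 (allL N59055 (tt N72900 F223559) (tt N66416 (iv0 F204130)) (tt N64578 (iv2 F332922)) (tt N95747 (iv3 F409431)) (tt N64434 (iv4 F342822)) (tt N35654 F171935) (tt N31450 (iv6 D110921)) (tt N64573 F363087))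
theorem Q59057 : ∀ i, i < 59057 → P i := stepQ 59056 Q59056 (allL N59056 (tt N65465 (iv1 F201790)) (tt N31451 (iv0 D110922)) (tt N65464 (iv2 F409340)) (tt N95731 (iv3 F409353)) (tt N96005 D199086) (tt N93444 (iv5 F409341)) (tt N96006 D199087) (tt N65463 F409339))
theorem Q59058 : ∀ i, i < 59058 → P i := stepQ 59057 Q59057 (allL N59057 (tt N31451 (iv1 D110923)) (tt N65465 F201792) (tt N65463 F409336) (tt N96007 D199088) (tt N90708 (iv4 F390586)) (tt N93445 (iv5 F400759)) (tt N57229 (iv6 F400760)) (tt N65464 (iv7 F409338)))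
theorem Q59059 : ∀ i, i < 59059 → P i := stepQ 59058 Q59058 (allL N59058 (tt N65464 (iv1 F201791)) (tt N65463 F201786) (tt N31451 (iv2 D110924)) (tt N44445 F171936) (tt N60124 (iv4 F175711)) (tt N67214 (iv5 F206928)) (tt N77086 (iv6 F364176)) (tt N65465 (iv7 F201789)))
theorem Q59060 : ∀ i, i < 59060 → P i := stepQ 59059 Q59059 (allL N59059 (tt N96008 D199089) (tt N96009 D199090) (tt N67214 (iv2 F206927)) (tt N31452 F171937) (tt N67211 (iv4 F206926)) (tt N31451 (iv5 D110925)) (tt N96010 D199091) (tt N56878 F171938))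
theorem Q59061 : ∀ i, i < 59061 → P i := stepQ 59060 Q59060 (allL N59060 (tt N96011 D199092) (tt N96012 D199093) (tt N44448 F171940) (tt N96010 (iv3 F410618)) (tt N57651 F171941) (tt N96013 D199094) (tt N31452 (iv6 D110927)) (tt N96014 D199095))
theorem Q59062 : ∀ i, i < 59062 → P i := stepQ 59061 Q59061 (allL N59061 (tt N44452 (iv1 F171946)) (tt N31453 (iv0 D110928)) (tt N44449 (iv2 F171943)) (tt N96015 D199096) (tt N35813 F171942) (tt N59159 (iv5 F172240)) (tt N31473 (iv6 F171944)) (tt N44450 (iv7 F171945)))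
theorem Q59063 : ∀ i, i < 59063 → P i := stepQ 59062 Q59062 (allL N59062 (tt N31453 (iv1 D110929)) (tt N44452 F171947) (tt N44450 (iv2 F171950)) (tt N96016 D199097) (tt N56359 F171949) (tt N59158 (iv5 F172234)) (tt N93848 (iv6 F402130)) (tt N44449 F171948))
theorem Q59064 : ∀ i, i < 59064 → P i := stepQ 59063 Q59063 (allL N59063 (tt N57062 F171952) (tt N57069 F171953) (tt N44451 F171951) (tt N91567 (iv3 F393678)) (tt N78845 F350561) (tt N31453 (iv5 D110930)) (tt N96013 (iv6 F410633)) (tt N96017 D199098))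
theorem Q59065 : ∀ i, i < 59065 → P i := stepQ 59064 Q59064 (allL N59064 (tt N44450 (iv1 F171958)) (tt N44449 F171959) (tt N44452 F171955) (tt N91475 (iv3 F393288)) (tt N31456 F171956) (tt N96017 (iv5 F410649)) (tt N56911 F171957) (tt N31453 (iv7 D110931)))
theorem Q59066 : ∀ i, i < 59066 → P i := stepQ 59065 Q59065 (allL N59065 (tt N41453 F171963) (tt N36237 (iv0 F171964)) (tt N44457 F171960) (tt N69782 (iv3 F216116)) (tt N93388 (iv4 F400612)) (tt N31478 F171961) (tt N31455 (iv6 D110932)) (tt N31478 F171962))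
theorem Q59067 : ∀ i, i < 59067 → P i := stepQ 59066 Q59066 (allL N59066 (tt N55234 (iv1 F295620)) (tt N31457 (iv0 D110933)) (tt N56858 (iv2 F366909)) (tt N96018 D199099) (tt N91494 F393366) (tt N96008 (iv5 F410608)) (tt N93820 F402038) (tt N56857 (iv7 F366910)))
theorem Q59068 : ∀ i, i < 59068 → P i := stepQ 59067 Q59067 (allL N59067 (tt N31457 (iv1 D110934)) (tt N55234 (iv0 F295619)) (tt N56857 F366906) (tt N96019 D199100) (tt N91493 (iv4 F393357)) (tt N96009 (iv5 F410615)) (tt N31492 F366907) (tt N56858 F366908))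
theorem Q59069 : ∀ i, i < 59069 → P i := stepQ 59068 Q59068 (allL N59068 (tt N56858 (iv1 F171970)) (tt N56857 F171968) (tt N31457 (iv2 D110935)) (tt N44404 F171966) (tt N55237 (iv4 F295628)) (tt N96020 D199101) (tt N96021 D199102) (tt N55234 (iv7 F295623)))
theorem Q59070 : ∀ i, i < 59070 → P i := stepQ 59069 Q59069 (allL N59069 (tt N95727 F409333) (tt N96022 D199103) (tt N96020 (iv2 F410663)) (tt N31458 F171971) (tt N65661 (iv4 F343551)) (tt N31457 (iv5 D110936)) (tt N65660 F343552) (tt N56859 F171972))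
theorem Q59071 : ∀ i, i < 59071 → P i := stepQ 59070 Q59070 (allL N59070 (tt N91664 (iv1 F393951)) (tt N91660 (iv0 F393928)) (tt N96021 (iv2 F410670)) (tt N31459 F171973) (tt N55248 (iv4 F362350)) (tt N96023 D199104) (tt N31457 (iv6 D110937)) (tt N55245 (iv7 F362348)))
theorem Q59072 : ∀ i, i < 59072 → P i := stepQ 59071 Q59071 (allL N59071 (tt N57937 F361202) (tt N57932 F348799) (tt N56854 F171974) (tt N65660 F361199) (tt N41207 F171975) (tt N96024 D199105) (tt N31458 (iv6 D110938)) (tt N95044 (iv7 F406791)))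
theorem Q59073 : ∀ i, i < 59073 → P i := stepQ 59072 Q59072 (allL N59072 (tt N56856 (iv1 F171980)) (tt N31459 (iv0 D110939)) (tt N56836 (iv2 F171977)) (tt N96025 D199106) (tt N44360 F171976) (tt N96026 D199107) (tt N31507 (iv6 F171978)) (tt N56838 (iv7 F171979)))
theorem Q59074 : ∀ i, i < 59074 → P i := stepQ 59073 Q59073 (allL N59073 (tt N31459 (iv1 D110940)) (tt N56856 F171981) (tt N56838 (iv2 F171984)) (tt N96027 D199108) (tt N56361 F171983) (tt N96028 D199109) (tt N74625 (iv6 F228440)) (tt N56836 F171982))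
theorem Q59075 : ∀ i, i < 59075 → P i := stepQ 59074 Q59074 (allL N59074 (tt N41484 F171986) (tt N93527 F401039) (tt N56855 F171985) (tt N96023 (iv3 F410684)) (tt N96029 D199110) (tt N31459 (iv5 D110941)) (tt N96024 (iv6 F410690)) (tt N93525 (iv7 F401031)))
theorem Q59076 : ∀ i, i < 59076 → P i := stepQ 59075 Q59075 (allL N59075 (tt N56838 (iv1 F171990)) (tt N56836 F171991) (tt N56856 F171987) (tt N55245 F362346) (tt N31462 F171988) (tt N93525 (iv5 F401028)) (tt N55244 (iv6 F345175)) (tt N31459 (iv7 D110942)))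
theorem Q59077 : ∀ i, i < 59077 → P i := stepQ 59076 Q59076 (allL N59076 (tt N35833 F171994) (tt N57182 (iv0 F171995)) (tt N57414 F171992) (tt N94275 (iv3 F403916)) (tt N67390 F352198) (tt N31460 (iv5 D110943)) (tt N60134 (iv6 F175764)) (tt N35877 F171993))
theorem Q59078 : ∀ i, i < 59078 → P i := stepQ 59077 Q59077 (allL N59077 (tt N31464 (iv1 F171998)) (tt N31463 (iv0 D110944)) (tt N31467 (iv2 F171996)) (tt N65478 (iv3 F201850)) (tt N71700 (iv4 F338246)) (tt N93476 (iv5 F400846)) (tt N71699 (iv6 F361565)) (tt N31465 F171997))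
theorem Q59079 : ∀ i, i < 59079 → P i := stepQ 59078 Q59078 (allL N59078 (tt N31467 F357634) (tt N31465 F357635) (tt N31463 (iv2 D110945)) (tt N96030 D199111) (tt N59255 F357636) (tt N96031 D199112) (tt N96032 D199113) (tt N31464 (iv7 F171999)))
theorem Q59080 : ∀ i, i < 59080 → P i := stepQ 59079 Q59079 (allL N59079 (tt N93422 F400688) (tt N72334 (iv0 F222165)) (tt N57765 F357645) (tt N31463 (iv3 D110946)) (tt N57763 (iv4 F357644)) (tt N80966 F333021) (tt N96033 D199114) (tt N57769 (iv7 F357641)))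
theorem Q59081 : ∀ i, i < 59081 → P i := stepQ 59080 Q59080 (allL N59080 (tt N71674 (iv1 F338226)) (tt N96034 D199115) (tt N59255 (iv2 F357637)) (tt N84245 (iv3 F368663)) (tt N31463 (iv4 D110947)) (tt N84234 (iv5 F368626)) (tt N96035 D199116) (tt N84233 (iv7 F368622)))
theorem Q59082 : ∀ i, i < 59082 → P i := stepQ 59081 Q59081 (allL N59081 (tt N96036 D199117) (tt N74222 (iv0 F358648)) (tt N96031 (iv2 F410723)) (tt N80966 (iv3 F333022)) (tt N68529 F210773) (tt N31463 (iv5 D110948)) (tt N96037 D199118) (tt N96038 D199119))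
theorem Q59083 : ∀ i, i < 59083 → P i := stepQ 59082 Q59082 (allL N59082 (tt N96039 D199120) (tt N93413 F410730) (tt N96032 (iv2 F410727)) (tt N96033 (iv3 F410733)) (tt N96035 (iv4 F410743)) (tt N96040 D199121) (tt N31463 (iv6 D110949)) (tt N96041 D199122))
theorem Q59084 : ∀ i, i < 59084 → P i := stepQ 59083 Q59083 (allL N59083 (tt N31465 F357638) (tt N31467 F357639) (tt N31464 F172001) (tt N57769 F357640) (tt N84233 F368621) (tt N96038 (iv5 F410756)) (tt N84236 (iv6 F368635)) (tt N31463 (iv7 D110950)))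
theorem Q59085 : ∀ i, i < 59085 → P i := stepQ 59084 Q59084 (allL N59084 (tt N96042 D199123) (tt N93407 F400657) (tt N55284 (iv2 F368598)) (tt N31464 (iv3 D110951)) (tt N55142 (iv4 F368599)) (tt N94727 (iv5 F405693)) (tt N55141 F368597) (tt N96030 (iv7 F410719)))
theorem Q59086 : ∀ i, i < 59086 → P i := stepQ 59085 Q59085 (allL N59085 (tt N96034 (iv1 F410736)) (tt N71674 (iv0 F338225)) (tt N84233 (iv2 F368616)) (tt N59259 (iv3 F357629)) (tt N31464 (iv4 D110952)) (tt N84224 F368585) (tt N84225 (iv6 F368589)) (tt N59255 F357633))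
theorem Q59087 : ∀ i, i < 59087 → P i := stepQ 59086 Q59086 (allL N59086 (tt N74222 (iv1 F361445)) (tt N96036 F410749) (tt N96038 (iv2 F410753)) (tt N94727 (iv3 F405692)) (tt N76722 (iv4 F368586)) (tt N31464 (iv5 D110953)) (tt N94725 F405685) (tt N96031 (iv7 F410724)))
theorem Q59088 : ∀ i, i < 59088 → P i := stepQ 59087 Q59087 (allL N59087 (tt N74210 (iv1 F368594)) (tt N96043 D199124) (tt N84236 (iv2 F368634)) (tt N55141 (iv3 F368593)) (tt N84225 F368592) (tt N83142 F368595) (tt N31464 (iv6 D110954)) (tt N55294 (iv7 F368596)))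
theorem Q59089 : ∀ i, i < 59089 → P i := stepQ 59088 Q59088 (allL N59088 (tt N93475 F400844) (tt N93474 F400830) (tt N31466 F172005) (tt N65489 (iv3 F201860)) (tt N43318 F333003) (tt N31465 (iv5 D110957)) (tt N80944 F333004) (tt N93476 (iv7 F400847)))
theorem Q59090 : ∀ i, i < 59090 → P i := stepQ 59089 Q59089 (allL N59089 (tt N93476 (iv1 F400848)) (tt N31466 (iv0 D110958)) (tt N93475 F400843) (tt N80276 (iv3 F342047)) (tt N68544 F342046) (tt N93371 (iv5 F400560)) (tt N80274 (iv6 F342048)) (tt N93474 F400834))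
theorem Q59091 : ∀ i, i < 59091 → P i := stepQ 59090 Q59090 (allL N59090 (tt N31466 (iv1 D110959)) (tt N93476 F400849) (tt N93474 F400838) (tt N96044 D199125) (tt N76723 F364752) (tt N93372 F400567) (tt N79819 (iv6 F364753)) (tt N93475 (iv7 F400840)))
theorem Q59092 : ∀ i, i < 59092 → P i := stepQ 59091 Q59091 (allL N59091 (tt N96045 D199126) (tt N96046 D199127) (tt N71699 F361564) (tt N31469 F172008) (tt N70950 (iv4 F338260)) (tt N58600 (iv5 F361575)) (tt N31467 (iv6 D110962)) (tt N31527 F172009))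
theorem Q59093 : ∀ i, i < 59093 → P i := stepQ 59092 Q59092 (allL N59092 (tt N59095 (iv1 F172014)) (tt N31468 (iv0 D110963)) (tt N59207 (iv2 F364758)) (tt N59405 F364760) (tt N93477 (iv4 F400850)) (tt N92921 (iv5 F398766)) (tt N94698 (iv6 F405581)) (tt N59208 (iv7 F364759)))
theorem Q59094 : ∀ i, i < 59094 → P i := stepQ 59093 Q59093 (allL N59093 (tt N31468 (iv1 D110964)) (tt N59095 F172013) (tt N59208 F364755) (tt N73083 (iv3 F364754)) (tt N93478 (iv4 F400853)) (tt N92922 (iv5 F398771)) (tt N59400 F364756) (tt N59207 F364757))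
theorem Q59095 : ∀ i, i < 59095 → P i := stepQ 59094 Q59094 (allL N59094 (tt N59208 (iv1 F172331)) (tt N59207 F172330) (tt N59095 (iv2 F172011)) (tt N80951 F346369) (tt N80997 (iv4 F346368)) (tt N31530 F172010) (tt N93480 (iv6 F400868)) (tt N31468 (iv7 D110965)))
theorem Q59096 : ∀ i, i < 59096 → P i := stepQ 59095 Q59095 (allL N59095 (tt N59093 (iv1 F172013)) (tt N59092 F172014) (tt N59094 F172011) (tt N58600 (iv3 F361574)) (tt N80996 F346364) (tt N31469 (iv5 D110966)) (tt N93479 (iv6 F400860)) (tt N31531 F172012))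
theorem Q59097 : ∀ i, i < 59097 → P i := stepQ 59096 Q59096 (allL N59096 (tt N73066 (iv1 F386484)) (tt N93776 (iv0 F401858)) (tt N93781 F401868) (tt N31470 (iv3 D110968)) (tt N56949 F172016) (tt N57192 (iv5 F180732)) (tt N96047 D199128) (tt N57221 F180728))
theorem Q59098 : ∀ i, i < 59098 → P i := stepQ 59097 Q59097 (allL N59097 (tt N96048 D199129) (tt N52127 (iv0 F340459)) (tt N57225 (iv2 F180730)) (tt N96049 D199130) (tt N31470 (iv4 D110969)) (tt N88435 F383034) (tt N96050 D199131) (tt N57222 F180729))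
theorem Q59099 : ∀ i, i < 59099 → P i := stepQ 59098 Q59098 (allL N59098 (tt N96051 D199132) (tt N74566 F410816) (tt N57226 F180745) (tt N96047 (iv3 F410788)) (tt N96050 (iv4 F410806)) (tt N96052 D199133) (tt N31470 (iv6 D110971)) (tt N96053 D199134))
theorem Q59100 : ∀ i, i < 59100 → P i := stepQ 59099 Q59099 (allL N59099 (tt N96054 D199135) (tt N74580 (iv0 F228391)) (tt N96055 D199136) (tt N31471 (iv3 D110973)) (tt N96056 D199137) (tt N57194 F180717) (tt N96057 D199138) (tt N57224 (iv7 F180724)))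
theorem Q59101 : ∀ i, i < 59101 → P i := stepQ 59100 Q59100 (allL N59100 (tt N52127 (iv1 F340460)) (tt N96048 F410793) (tt N57222 (iv2 F180726)) (tt N39517 (iv3 F172018)) (tt N31471 (iv4 D110974)) (tt N96058 D199139) (tt N90724 (iv6 F390649)) (tt N57225 (iv7 F180725)))
theorem Q59102 : ∀ i, i < 59102 → P i := stepQ 59101 Q59101 (allL N59101 (tt N65466 F390651) (tt N91565 (iv0 F393673)) (tt N57223 (iv2 F180727)) (tt N96057 (iv3 F410842)) (tt N90724 F390650) (tt N96059 D199140) (tt N31471 (iv6 D110976)) (tt N96060 D199141))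
theorem Q59103 : ∀ i, i < 59103 → P i := stepQ 59102 Q59102 (allL N59102 (tt N85090 F371601) (tt N74583 (iv0 F371645)) (tt N96061 D199142) (tt N31473 (iv3 D110982)) (tt N62209 (iv4 F180169)) (tt N85103 (iv5 F371638)) (tt N96015 (iv6 F410643)) (tt N56933 F172025))
theorem Q59104 : ∀ i, i < 59104 → P i := stepQ 59103 Q59103 (allL N59103 (tt N41196 F172028) (tt N49005 F335719) (tt N56931 F172026) (tt N85103 F371636) (tt N32779 F339957) (tt N31473 (iv5 D110983)) (tt N32712 F339958) (tt N56934 F172027))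
theorem Q59105 : ∀ i, i < 59105 → P i := stepQ 59104 Q59104 (allL N59104 (tt N74570 F375900) (tt N93790 F401897) (tt N93788 (iv2 F401891)) (tt N31474 (iv3 D110984)) (tt N66326 (iv4 F203975)) (tt N89806 (iv5 F387612)) (tt N96062 D199143) (tt N56930 F172029))
theorem Q59106 : ∀ i, i < 59106 → P i := stepQ 59105 Q59105 (allL N59105 (tt N49005 F362342) (tt N41196 F172032) (tt N56934 F172030) (tt N89806 (iv3 F387610)) (tt N74523 F339954) (tt N31474 (iv5 D110985)) (tt N96063 D199144) (tt N56931 F172031))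
theorem Q59107 : ∀ i, i < 59107 → P i := stepQ 59106 Q59106 (allL N59106 (tt N59210 (iv1 F172336)) (tt N59211 F204580) (tt N56935 F172033) (tt N96062 (iv3 F410863)) (tt N35815 F172034) (tt N93831 (iv5 F402061)) (tt N31474 (iv6 D110986)) (tt N93848 (iv7 F402131)))
theorem Q59108 : ∀ i, i < 59108 → P i := stepQ 59107 Q59107 (allL N59107 (tt N51063 (iv1 F339938)) (tt N31475 (iv0 D110987)) (tt N57199 (iv2 F172036)) (tt N85088 F371600) (tt N84803 (iv4 F370679)) (tt N56848 F172035) (tt N96064 D199145) (tt N57200 (iv7 F172037)))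
theorem Q59109 : ∀ i, i < 59109 → P i := stepQ 59108 Q59108 (allL N59108 (tt N31475 (iv1 D110988)) (tt N51063 (iv0 F339937)) (tt N57200 (iv2 F172042)) (tt N96065 D199146) (tt N61306 F340040) (tt N56851 F172041) (tt N61305 (iv6 F340038)) (tt N57199 F172040))
theorem Q59110 : ∀ i, i < 59110 → P i := stepQ 59109 Q59109 (allL N59109 (tt N51062 (iv1 F363681)) (tt N51061 (iv0 F360287)) (tt N50844 (iv2 F339906)) (tt N51077 F340051) (tt N31475 (iv4 D110989)) (tt N50843 F339953) (tt N59160 (iv6 F172243)) (tt N51060 (iv7 F339943)))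
theorem Q59111 : ∀ i, i < 59111 → P i := stepQ 59110 Q59110 (allL N59110 (tt N57200 (iv1 F172046)) (tt N57199 F172047) (tt N51063 (iv2 F339939)) (tt N50645 (iv3 F345141)) (tt N51060 F339936) (tt N31476 F172045) (tt N96066 D199147) (tt N31475 (iv7 D110990)))
theorem Q59112 : ∀ i, i < 59112 → P i := stepQ 59111 Q59111 (allL N59111 (tt N66278 (iv1 F203901)) (tt N32148 (iv0 F172051)) (tt N66277 F203893) (tt N31479 (iv3 D110991)) (tt N39498 F172049) (tt N65455 F201765) (tt N96067 D199148) (tt N57208 F172048))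
theorem Q59113 : ∀ i, i < 59113 → P i := stepQ 59112 Q59112 (allL N59112 (tt N36806 F172059) (tt N36804 (iv0 F172060)) (tt N57207 F172056) (tt N96067 (iv3 F410885)) (tt N93569 (iv4 F401176)) (tt N36916 F172058) (tt N31479 (iv6 D110992)) (tt N56010 F172057))
theorem Q59114 : ∀ i, i < 59114 → P i := stepQ 59113 Q59113 (allL N59113 (tt N42951 F321634) (tt N31481 (iv0 D110993)) (tt N55240 (iv2 F295853)) (tt N89911 (iv3 F387975)) (tt N32193 F172061) (tt N74049 (iv5 F226713)) (tt N96068 D199149) (tt N55239 (iv7 F295851)))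
theorem Q59115 : ∀ i, i < 59115 → P i := stepQ 59114 Q59114 (allL N59114 (tt N31481 (iv1 D110994)) (tt N42951 F323022) (tt N55239 (iv2 F295847)) (tt N65621 F360494) (tt N32194 F172067) (tt N74050 (iv5 F226719)) (tt N56001 (iv6 F172069)) (tt N55240 (iv7 F295856)))
theorem Q59116 : ∀ i, i < 59116 → P i := stepQ 59115 Q59115 (allL N59115 (tt N55237 (iv1 F295625)) (tt N31483 (iv0 D110998)) (tt N55235 F363574) (tt N85272 F372115) (tt N96042 (iv4 F410766)) (tt N88216 F382213) (tt N57087 (iv6 F359497)) (tt N55236 (iv7 F363575)))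
theorem Q59117 : ∀ i, i < 59117 → P i := stepQ 59116 Q59116 (allL N59116 (tt N31483 (iv1 D110999)) (tt N55237 (iv0 F295624)) (tt N55236 (iv2 F363577)) (tt N96069 D199150) (tt N93407 (iv4 F400655)) (tt N88215 (iv5 F382210)) (tt N96070 D199151) (tt N55235 F363576))
theorem Q59118 : ∀ i, i < 59118 → P i := stepQ 59117 Q59117 (allL N59117 (tt N55205 (iv1 F356914)) (tt N31485 (iv0 D111003)) (tt N57088 (iv2 F172117)) (tt N91323 F392736) (tt N40846 F172088) (tt N74043 (iv5 F226680)) (tt N96071 D199152) (tt N57087 F172118))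
theorem Q59119 : ∀ i, i < 59119 → P i := stepQ 59118 Q59118 (allL N59118 (tt N31485 (iv1 D111004)) (tt N55205 (iv0 F356913)) (tt N57087 F172116) (tt N96072 D199153) (tt N40855 (iv4 F172091)) (tt N74044 (iv5 F226684)) (tt N55235 (iv6 F363564)) (tt N57088 (iv7 F172115)))
theorem Q59120 : ∀ i, i < 59120 → P i := stepQ 59119 Q59119 (allL N59119 (tt N93906 (iv1 F402368)) (tt N93909 (iv0 F402388)) (tt N73646 (iv2 F225329)) (tt N31486 F172124) (tt N92798 (iv4 F398277)) (tt N31485 (iv5 D111005)) (tt N91945 (iv6 F395073)) (tt N52033 (iv7 F356911)))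
theorem Q59121 : ∀ i, i < 59121 → P i := stepQ 59120 Q59120 (allL N59120 (tt N50664 F373459) (tt N96073 D199154) (tt N73647 (iv2 F225332)) (tt N31487 F172126) (tt N31494 F172127) (tt N91946 (iv5 F395077)) (tt N31485 (iv6 D111006)) (tt N55215 (iv7 F356938)))
theorem Q59122 : ∀ i, i < 59122 → P i := stepQ 59121 Q59121 (allL N59121 (tt N86871 F377522) (tt N96074 D199155) (tt N56000 F172128) (tt N91945 (iv3 F395068)) (tt N36194 F172129) (tt N91944 (iv5 F395066)) (tt N31486 (iv6 D111007)) (tt N92003 (iv7 F395328)))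
theorem Q59123 : ∀ i, i < 59123 → P i := stepQ 59122 Q59122 (allL N59122 (tt N31487 (iv1 D111008)) (tt N56004 F172130) (tt N56002 (iv2 F172132)) (tt N39226 F336177) (tt N60323 F176208) (tt N59776 F336178) (tt N96075 D199156) (tt N56001 F172131))
theorem Q59124 : ∀ i, i < 59124 → P i := stepQ 59123 Q59123 (allL N59123 (tt N65695 (iv1 F344594)) (tt N39216 F344593) (tt N56003 F172133) (tt N91946 (iv3 F395075)) (tt N96076 D199157) (tt N31487 (iv5 D111009)) (tt N91944 (iv6 F395065)) (tt N65694 F349591))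
theorem Q59125 : ∀ i, i < 59125 → P i := stepQ 59124 Q59124 (allL N59124 (tt N56002 (iv1 F172136)) (tt N56001 F172137) (tt N56004 F172134) (tt N55215 (iv3 F356937)) (tt N31490 F172135) (tt N65694 (iv5 F349592)) (tt N55210 (iv6 F339735)) (tt N31487 (iv7 D111010)))
theorem Q59126 : ∀ i, i < 59126 → P i := stepQ 59125 Q59125 (allL N59125 (tt N67152 (iv1 F206798)) (tt N36673 F172157) (tt N56006 F172138) (tt N95378 (iv3 F408042)) (tt N31488 (iv4 D111011)) (tt N95377 (iv5 F408039)) (tt N55060 (iv6 F331325)) (tt N56009 F172140))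
theorem Q59127 : ∀ i, i < 59127 → P i := stepQ 59126 Q59126 (allL N59126 (tt N37744 F172145) (tt N67186 (iv0 F206875)) (tt N56007 F172142) (tt N60897 (iv3 F328378)) (tt N55674 (iv4 F342881)) (tt N31488 (iv5 D111012)) (tt N31500 F172143) (tt N37793 F172144))
theorem Q59128 : ∀ i, i < 59128 → P i := stepQ 59127 Q59127 (allL N59127 (tt N36669 (iv1 F180901)) (tt N71923 F220938) (tt N66375 (iv2 F204063)) (tt N31489 (iv3 D111013)) (tt N33303 F172148) (tt N67503 (iv5 F207325)) (tt N96077 D199158) (tt N56005 F172147))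
theorem Q59129 : ∀ i, i < 59129 → P i := stepQ 59128 Q59128 (allL N59128 (tt N36673 F172156) (tt N67152 F206797) (tt N56009 F172154) (tt N96078 D199159) (tt N31489 (iv4 D111014)) (tt N95392 (iv5 F408088)) (tt N96079 D199160) (tt N56006 F172155))
theorem Q59130 : ∀ i, i < 59130 → P i := stepQ 59129 Q59129 (allL N59129 (tt N36804 F172161) (tt N36806 F172162) (tt N56010 F172158) (tt N96077 (iv3 F410932)) (tt N96079 (iv4 F410944)) (tt N36915 F172159) (tt N31489 (iv6 D111015)) (tt N57207 F172160))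
theorem Q59131 : ∀ i, i < 59131 → P i := stepQ 59130 Q59130 (allL N59130 (tt N56391 (iv1 F398750)) (tt N93804 F401969) (tt N92456 (iv2 F397057)) (tt N31491 (iv3 D111016)) (tt N57036 F172165) (tt N40863 F172163) (tt N73074 F358698) (tt N57082 F172164))
theorem Q59132 : ∀ i, i < 59132 → P i := stepQ 59131 Q59131 (allL N59131 (tt N59181 F172274) (tt N74023 (iv0 F226629)) (tt N57085 F172170) (tt N92509 (iv3 F397197)) (tt N31491 (iv4 D111017)) (tt N52125 F363580) (tt N96080 D199161) (tt N57083 F172171))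
theorem Q59133 : ∀ i, i < 59133 → P i := stepQ 59132 Q59132 (allL N59132 (tt N93821 (iv1 F402041)) (tt N57155 (iv0 F401543)) (tt N57086 F172172) (tt N73074 (iv3 F358701)) (tt N96080 (iv4 F410948)) (tt N73073 F358702) (tt N31491 (iv6 D111018)) (tt N93820 (iv7 F402037)))
theorem Q59134 : ∀ i, i < 59134 → P i := stepQ 59133 Q59133 (allL N59133 (tt N57101 (iv1 F336149)) (tt N57104 (iv0 F336127)) (tt N57100 F220499) (tt N31492 (iv3 D111019)) (tt N39756 F172299) (tt N40864 F172173) (tt N96019 (iv6 F410658)) (tt N57084 F172174))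
theorem Q59135 : ∀ i, i < 59135 → P i := stepQ 59134 Q59134 (allL N59134 (tt N74023 (iv1 F226630)) (tt N59181 F172275) (tt N57083 F172175) (tt N39658 (iv3 F172177)) (tt N31492 (iv4 D111020)) (tt N52126 F340514) (tt N91493 (iv6 F393358)) (tt N57085 F172176))
theorem Q59136 : ∀ i, i < 59136 → P i := stepQ 59135 Q59135 (allL N59135 (tt N91641 F393864) (tt N95304 (iv0 F407793)) (tt N31494 F172179) (tt N57073 F172180) (tt N73647 (iv4 F225334)) (tt N96081 D199162) (tt N31493 (iv6 D111022)) (tt N96082 D199163))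
theorem Q59137 : ∀ i, i < 59137 → P i := stepQ 59136 Q59136 (allL N59136 (tt N96082 (iv1 F410962)) (tt N31494 (iv0 D111023)) (tt N91641 (iv2 F393862)) (tt N92499 (iv3 F397177)) (tt N59773 F358492) (tt N73568 (iv5 F358488)) (tt N55233 F345149) (tt N95304 (iv7 F407792)))
theorem Q59138 : ∀ i, i < 59138 → P i := stepQ 59137 Q59137 (allL N59137 (tt N31494 (iv1 D111024)) (tt N96082 F410961) (tt N95304 (iv2 F407790)) (tt N90997 (iv3 F391522)) (tt N91000 (iv4 F391521)) (tt N77508 F363393) (tt N96083 D199164) (tt N91641 F393865))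
theorem Q59139 : ∀ i, i < 59139 → P i := stepQ 59138 Q59138 (allL N59138 (tt N96084 D199165) (tt N82156 F378709) (tt N96081 (iv2 F410951)) (tt N31497 F172181) (tt N40474 F331029) (tt N31494 (iv5 D111025)) (tt N40472 (iv6 F331030)) (tt N78085 F363391))
theorem Q59140 : ∀ i, i < 59140 → P i := stepQ 59139 Q59139 (allL N59139 (tt N95304 (iv1 F407794)) (tt N91641 (iv0 F393866)) (tt N96082 (iv2 F410956)) (tt N31498 F172183) (tt N55215 F356936) (tt N78085 F363389) (tt N55214 (iv6 F356933)) (tt N31494 (iv7 D111026)))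
theorem Q59141 : ∀ i, i < 59141 → P i := stepQ 59140 Q59140 (allL N59140 (tt N57115 F389251) (tt N57099 (iv0 F386491)) (tt N57113 F360692) (tt N31495 (iv3 D111027)) (tt N62360 (iv4 F180904)) (tt N56773 (iv5 F340046)) (tt N74215 (iv6 F227012)) (tt N57024 F172185))
theorem Q59142 : ∀ i, i < 59142 → P i := stepQ 59141 Q59141 (allL N59141 (tt N96085 D199166) (tt N96086 D199167) (tt N57020 F172186) (tt N56773 F340045) (tt N74025 F340044) (tt N31495 (iv5 D111028)) (tt N56770 (iv6 F340042)) (tt N57025 F172187))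
theorem Q59143 : ∀ i, i < 59143 → P i := stepQ 59142 Q59142 (allL N59142 (tt N56390 F400225) (tt N93808 F401990) (tt N93807 (iv2 F401983)) (tt N31496 (iv3 D111029)) (tt N47321 F332390) (tt N89501 F400226) (tt N47224 F332391) (tt N57019 F172188))
theorem Q59144 : ∀ i, i < 59144 → P i := stepQ 59143 Q59143 (allL N59143 (tt N96086 (iv1 F410975)) (tt N96085 F410970) (tt N57025 F172189) (tt N89501 (iv3 F400227)) (tt N96087 D199168) (tt N31496 (iv5 D111030)) (tt N96088 D199169) (tt N57020 F172190))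
theorem Q59145 : ∀ i, i < 59145 → P i := stepQ 59144 Q59144 (allL N59144 (tt N68727 (iv1 F211448)) (tt N57154 F211449) (tt N57026 F172191) (tt N47224 F364877) (tt N56376 F172192) (tt N94427 (iv5 F404437)) (tt N31496 (iv6 D111031)) (tt N74214 (iv7 F227009)))
theorem Q59146 : ∀ i, i < 59146 → P i := stepQ 59145 Q59145 (allL N59145 (tt N57081 F172196) (tt N31497 (iv0 D111032)) (tt N57078 (iv2 F172194)) (tt N96089 D199170) (tt N96090 D199171) (tt N57645 F172193) (tt N96091 D199172) (tt N57079 (iv7 F172195)))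
theorem Q59147 : ∀ i, i < 59147 → P i := stepQ 59146 Q59146 (allL N59146 (tt N31497 (iv1 D111033)) (tt N57081 F172197) (tt N57079 F172200) (tt N96092 D199173) (tt N96093 D199174) (tt N41497 (iv5 F172199)) (tt N96094 D199175) (tt N57078 F172198))
theorem Q59148 : ∀ i, i < 59148 → P i := stepQ 59147 Q59147 (allL N59147 (tt N93659 (iv1 F401470)) (tt N59789 F363071) (tt N57080 F172201) (tt N96095 D199176) (tt N31497 (iv4 D111034)) (tt N39231 F342889) (tt N41502 F172202) (tt N95351 (iv7 F407967)))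
theorem Q59149 : ∀ i, i < 59149 → P i := stepQ 59148 Q59148 (allL N59148 (tt N57079 (iv1 F172205)) (tt N57078 F172206) (tt N57081 F172203) (tt N78085 (iv3 F363388)) (tt N95351 (iv4 F407963)) (tt N31498 F172204) (tt N78084 F363390) (tt N31497 (iv7 D111035)))
theorem Q59150 : ∀ i, i < 59150 → P i := stepQ 59149 Q59149 (allL N59149 (tt N31504 (iv1 D111039)) (tt N36777 F172209) (tt N57028 (iv2 F172212)) (tt N96096 D199177) (tt N56377 F172211) (tt N96097 D199178) (tt N67238 (iv6 F206970)) (tt N56699 F172210))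
theorem Q59151 : ∀ i, i < 59151 → P i := stepQ 59150 Q59150 (allL N59150 (tt N74661 F349566) (tt N57260 F349567) (tt N35856 F349568) (tt N31504 (iv3 D111040)) (tt N68674 (iv4 F211350)) (tt N35798 F349569) (tt N56487 F172213) (tt N35853 F349570))
theorem Q59152 : ∀ i, i < 59152 → P i := stepQ 59151 Q59151 (allL N59151 (tt N60519 F341781) (tt N96098 D199179) (tt N66515 (iv2 F204339)) (tt N35798 F341782) (tt N39232 F341783) (tt N31504 (iv5 D111041)) (tt N46286 F341784) (tt N35852 F341785))
theorem Q59153 : ∀ i, i < 59153 → P i := stepQ 59152 Q59152 (allL N59152 (tt N57028 (iv1 F172216)) (tt N56699 F172217) (tt N36777 F172214) (tt N35853 F342892) (tt N31505 F172215) (tt N35852 F342893) (tt N68608 (iv6 F211185)) (tt N31504 (iv7 D111042)))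
theorem Q59154 : ∀ i, i < 59154 → P i := stepQ 59153 Q59153 (allL N59153 (tt N93803 (iv1 F401964)) (tt N56393 (iv0 F389516)) (tt N93801 F401949) (tt N31506 (iv3 D111043)) (tt N47260 F331928) (tt N96099 D199180) (tt N96100 D199181) (tt N57068 F172218))
theorem Q59155 : ∀ i, i < 59155 → P i := stepQ 59154 Q59154 (allL N59154 (tt N96017 (iv1 F410651)) (tt N44451 F172221) (tt N57062 F172219) (tt N96099 (iv3 F411049)) (tt N61312 (iv4 F339969)) (tt N31506 (iv5 D111044)) (tt N61190 F339967) (tt N57069 F172220))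
theorem Q59156 : ∀ i, i < 59156 → P i := stepQ 59155 Q59155 (allL N59155 (tt N57157 (iv1 F172229)) (tt N66040 (iv0 F203160)) (tt N57063 F172222) (tt N96100 (iv3 F411053)) (tt N56387 F172223) (tt N57232 F172224) (tt N31506 (iv6 D111045)) (tt N74625 (iv7 F228436)))
theorem Q59157 : ∀ i, i < 59157 → P i := stepQ 59156 Q59156 (allL N59156 (tt N57116 F388933) (tt N57129 F388934) (tt N57127 F389246) (tt N31507 (iv3 D111046)) (tt N73456 (iv4 F224887)) (tt N96101 D199182) (tt N96025 (iv6 F410692)) (tt N57061 F172230))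
theorem Q59158 : ∀ i, i < 59158 → P i := stepQ 59157 Q59157 (allL N59157 (tt N44451 F172233) (tt N96017 F410650) (tt N57069 F172231) (tt N96101 (iv3 F411060)) (tt N96102 D199183) (tt N31507 (iv5 D111047)) (tt N96103 D199184) (tt N57062 F172232))
theorem Q59159 : ∀ i, i < 59159 → P i := stepQ 59158 Q59158 (allL N59158 (tt N57095 (iv1 F172237)) (tt N31508 (iv0 D111048)) (tt N57092 (iv2 F172235)) (tt N96104 D199185) (tt N66816 F352668) (tt N59062 F172234) (tt N96105 D199186) (tt N57093 (iv7 F172236)))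
theorem Q59160 : ∀ i, i < 59160 → P i := stepQ 59159 Q59159 (allL N59159 (tt N31508 (iv1 D111049)) (tt N57095 F172238) (tt N57093 (iv2 F172241)) (tt N89054 (iv3 F384986)) (tt N32720 F339964) (tt N59061 F172240) (tt N32719 F339965) (tt N57092 F172239))
theorem Q59161 : ∀ i, i < 59161 → P i := stepQ 59160 Q59160 (allL N59160 (tt N66797 F350595) (tt N32701 F350596) (tt N57094 F172242) (tt N86212 (iv3 F375388)) (tt N31508 (iv4 D111050)) (tt N79937 F350597) (tt N59109 F172243) (tt N66796 (iv7 F339915)))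
theorem Q59162 : ∀ i, i < 59162 → P i := stepQ 59161 Q59161 (allL N59161 (tt N57093 (iv1 F172246)) (tt N57092 F172247) (tt N57095 F172244) (tt N73770 (iv3 F225713)) (tt N66796 F360289) (tt N31509 F172245) (tt N96106 D199187) (tt N31508 (iv7 D111051)))
theorem Q59163 : ∀ i, i < 59163 → P i := stepQ 59162 Q59162 (allL N59162 (tt N96046 (iv1 F410783)) (tt N96045 F410780) (tt N31527 F172248) (tt N59191 (iv3 F172293)) (tt N58613 (iv4 F338273)) (tt N96107 D199188) (tt N31512 (iv6 D111052)) (tt N71699 (iv7 F361566)))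
theorem Q59164 : ∀ i, i < 59164 → P i := stepQ 59163 Q59163 (allL N59163 (tt N40846 (iv1 F180290)) (tt N40855 F180291) (tt N93318 (iv2 F400374)) (tt N31513 (iv3 D111055)) (tt N93739 (iv4 F401722)) (tt N41529 F180289) (tt N96108 D199189) (tt N31519 F172251))
theorem Q59165 : ∀ i, i < 59165 → P i := stepQ 59164 Q59164 (allL N59164 (tt N71679 (iv1 F361548)) (tt N62427 F181243) (tt N31515 F172252) (tt N38390 F181244) (tt N31513 (iv4 D111056)) (tt N96109 D199190) (tt N96110 D199191) (tt N31520 F172253))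
theorem Q59166 : ∀ i, i < 59166 → P i := stepQ 59165 Q59165 (allL N59165 (tt N66509 (iv1 F401453)) (tt N93655 F401458) (tt N31517 F172256) (tt N96108 (iv3 F411093)) (tt N96110 (iv4 F411103)) (tt N96111 D199192) (tt N31513 (iv6 D111058)) (tt N93654 (iv7 F401450)))
theorem Q59167 : ∀ i, i < 59167 → P i := stepQ 59166 Q59166 (allL N59166 (tt N56915 (iv1 F227076)) (tt N96112 D199193) (tt N93319 (iv2 F400380)) (tt N31516 F172257) (tt N66299 F203939) (tt N31514 (iv5 D111061)) (tt N96113 D199194) (tt N93331 (iv7 F400437)))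
theorem Q59168 : ∀ i, i < 59168 → P i := stepQ 59167 Q59167 (allL N59167 (tt N96114 D199195) (tt N96115 D199196) (tt N93320 (iv2 F400387)) (tt N31517 F172258) (tt N93317 (iv4 F400371)) (tt N96116 D199197) (tt N31514 (iv6 D111062)) (tt N96117 D199198))
theorem Q59169 : ∀ i, i < 59169 → P i := stepQ 59168 Q59168 (allL N59168 (tt N31515 (iv1 D111064)) (tt N31520 F172260) (tt N62427 (iv2 F181260)) (tt N62038 F181261) (tt N92907 (iv4 F398735)) (tt N90116 (iv5 F388589)) (tt N96034 (iv6 F410741)) (tt N71679 (iv7 F361552)))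
theorem Q59170 : ∀ i, i < 59170 → P i := stepQ 59169 Q59169 (allL N59169 (tt N73430 F224831) (tt N73428 F224825) (tt N72418 (iv2 F222480)) (tt N31515 (iv3 D111065)) (tt N93316 (iv4 F400364)) (tt N96118 D199199) (tt N55103 (iv6 F380081)) (tt N93328 (iv7 F400422)))
theorem Q59171 : ∀ i, i < 59171 → P i := stepQ 59170 Q59170 (allL N59170 (tt N96119 D199200) (tt N96120 D199201) (tt N96109 (iv2 F411097)) (tt N96118 (iv3 F411129)) (tt N96121 D199202) (tt N31515 (iv5 D111066)) (tt N96122 D199203) (tt N96123 D199204))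
theorem Q59172 : ∀ i, i < 59172 → P i := stepQ 59171 Q59171 (allL N59171 (tt N71656 F411140) (tt N71660 (iv0 F386817)) (tt N96110 (iv2 F411101)) (tt N55103 F380083) (tt N31517 F172261) (tt N96124 D199205) (tt N31515 (iv6 D111067)) (tt N89593 (iv7 F386873)))
theorem Q59173 : ∀ i, i < 59173 → P i := stepQ 59172 Q59172 (allL N59172 (tt N62427 (iv1 F181249)) (tt N71679 (iv0 F361547)) (tt N31520 F172262) (tt N93328 (iv3 F400421)) (tt N31518 F172263) (tt N96123 (iv5 F411152)) (tt N96125 D199206) (tt N31515 (iv7 D111068)))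
theorem Q59174 : ∀ i, i < 59174 → P i := stepQ 59173 Q59173 (allL N59173 (tt N96056 (iv1 F410841)) (tt N96126 D199207) (tt N93871 (iv2 F402228)) (tt N96127 D199208) (tt N31516 (iv4 D111071)) (tt N96128 D199209) (tt N96129 D199210) (tt N93869 (iv7 F402218)))
theorem Q59175 : ∀ i, i < 59175 → P i := stepQ 59174 Q59174 (allL N59174 (tt N93952 (iv1 F402573)) (tt N41509 F402235) (tt N93872 (iv2 F402232)) (tt N96113 (iv3 F411115)) (tt N96129 (iv4 F411183)) (tt N96130 D199211) (tt N31516 (iv6 D111072)) (tt N93951 (iv7 F402569)))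
theorem Q59176 : ∀ i, i < 59176 → P i := stepQ 59175 Q59175 (allL N59175 (tt N93654 (iv1 F401454)) (tt N31517 (iv0 D111074)) (tt N66509 (iv2 F386816)) (tt N93650 (iv3 F401433)) (tt N72037 F386813) (tt N96131 D199212) (tt N96043 F410775) (tt N93655 (iv7 F401456)))
theorem Q59177 : ∀ i, i < 59177 → P i := stepQ 59176 Q59176 (allL N59176 (tt N96132 D199213) (tt N93661 (iv0 F401477)) (tt N96111 (iv2 F411105)) (tt N96116 (iv3 F411127)) (tt N96133 D199214) (tt N31517 (iv5 D111076)) (tt N96130 (iv6 F411186)) (tt N96134 D199215))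
theorem Q59178 : ∀ i, i < 59178 → P i := stepQ 59177 Q59177 (allL N59177 (tt N93655 (iv1 F401457)) (tt N66509 (iv0 F393160)) (tt N93654 F401451) (tt N96117 (iv3 F411128)) (tt N89593 F386874) (tt N96134 (iv5 F411189)) (tt N93709 (iv6 F401624)) (tt N31517 (iv7 D111077)))
theorem Q59179 : ∀ i, i < 59179 → P i := stepQ 59178 Q59178 (allL N59178 (tt N93710 (iv1 F401631)) (tt N92904 (iv0 F400445)) (tt N31522 F172268) (tt N93332 (iv3 F400442)) (tt N96125 (iv4 F411164)) (tt N96135 D199216) (tt N31518 (iv6 D111078)) (tt N93709 (iv7 F401625)))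
theorem Q59180 : ∀ i, i < 59180 → P i := stepQ 59179 Q59179 (allL N59179 (tt N93318 (iv1 F400379)) (tt N31519 (iv0 D111079)) (tt N40855 (iv2 F172270)) (tt N93647 (iv3 F401423)) (tt N57087 F172269) (tt N33371 (iv5 F172272)) (tt N96042 (iv6 F410767)) (tt N40846 (iv7 F172271)))
theorem Q59181 : ∀ i, i < 59181 → P i := stepQ 59180 Q59180 (allL N59180 (tt N40855 (iv1 F180293)) (tt N40846 F180292) (tt N31519 (iv2 D111080)) (tt N73730 F225603) (tt N67139 F206757) (tt N41528 (iv5 F180286)) (tt N96136 D199217) (tt N93318 (iv7 F400376)))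
theorem Q59182 : ∀ i, i < 59182 → P i := stepQ 59181 Q59181 (allL N59181 (tt N59134 (iv1 F172275)) (tt N59131 (iv0 F172274)) (tt N67139 (iv2 F206758)) (tt N72415 (iv3 F222472)) (tt N31519 (iv4 D111081)) (tt N96137 D199218) (tt N81703 (iv6 F346809)) (tt N93739 (iv7 F401725)))
theorem Q59183 : ∀ i, i < 59183 → P i := stepQ 59182 Q59182 (allL N59182 (tt N33477 F172279) (tt N33480 F172277) (tt N41528 F180283) (tt N31521 F172276) (tt N40250 F172278) (tt N31519 (iv5 D111082)) (tt N43496 F324274) (tt N41529 (iv7 F180287)))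
theorem Q59184 : ∀ i, i < 59184 → P i := stepQ 59183 Q59183 (allL N59183 (tt N96138 D199219) (tt N96139 D199220) (tt N96136 (iv2 F411192)) (tt N31522 F172285) (tt N81703 (iv4 F346808)) (tt N96140 D199221) (tt N31519 (iv6 D111083)) (tt N96141 D199222))
theorem Q59185 : ∀ i, i < 59185 → P i := stepQ 59184 Q59184 (allL N59184 (tt N96120 (iv1 F411138)) (tt N96119 F411137) (tt N96123 (iv2 F411150)) (tt N72416 (iv3 F222476)) (tt N96142 D199223) (tt N31520 (iv5 D111084)) (tt N96143 D199224) (tt N96109 (iv7 F411099)))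
theorem Q59186 : ∀ i, i < 59186 → P i := stepQ 59185 Q59185 (allL N59185 (tt N96144 D199225) (tt N96145 D199226) (tt N96125 (iv2 F411162)) (tt N72417 (iv3 F222479)) (tt N31522 F172286) (tt N96146 D199227) (tt N31520 (iv6 D111085)) (tt N96147 D199228))
theorem Q59187 : ∀ i, i < 59187 → P i := stepQ 59186 Q59186 (allL N59186 (tt N96126 (iv1 F411167)) (tt N96056 (iv0 F410840)) (tt N93869 (iv2 F402217)) (tt N39428 (iv3 F172287)) (tt N31521 (iv4 D111086)) (tt N39789 F172288) (tt N96148 D199229) (tt N93871 (iv7 F402230)))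
theorem Q59188 : ∀ i, i < 59188 → P i := stepQ 59187 Q59187 (allL N59187 (tt N56922 F366147) (tt N93897 F402332) (tt N93870 (iv2 F402220)) (tt N43496 F366148) (tt N96148 (iv4 F411249)) (tt N96149 D199230) (tt N31521 (iv6 D111087)) (tt N43584 F366149))
theorem Q59189 : ∀ i, i < 59189 → P i := stepQ 59188 Q59188 (allL N59188 (tt N31522 (iv1 D111089)) (tt N93709 F401626) (tt N92904 (iv2 F401627)) (tt N93715 (iv3 F401647)) (tt N95977 F410499) (tt N96150 D199231) (tt N96039 (iv6 F410759)) (tt N93710 (iv7 F401630)))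
theorem Q59190 : ∀ i, i < 59190 → P i := stepQ 59189 Q59189 (allL N59189 (tt N93719 (iv1 F452926)) (tt N96151 D199233) (tt N96135 (iv2 F411190)) (tt N96140 (iv3 F411212)) (tt N96152 D199234) (tt N31522 (iv5 D111090)) (tt N96149 (iv6 F411254)) (tt N96153 D199235))
theorem Q59191 : ∀ i, i < 59191 → P i := stepQ 59190 Q59190 (allL N59190 (tt N92904 (iv1 F400446)) (tt N93710 F401632) (tt N93709 F401623) (tt N96141 (iv3 F411224)) (tt N96147 (iv4 F411245)) (tt N96153 (iv5 F411258)) (tt N93654 F401452) (tt N31522 (iv7 D111091)))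
theorem Q59192 : ∀ i, i < 59192 → P i := stepQ 59191 Q59191 (allL N59191 (tt N96154 D199236) (tt N96155 D199237) (tt N31526 F172292) (tt N59162 F172293) (tt N71758 (iv4 F220514)) (tt N80944 F351814) (tt N31523 (iv6 D111101)) (tt N96156 D199238))
theorem Q59193 : ∀ i, i < 59193 → P i := stepQ 59192 Q59192 (allL N59192 (tt N57002 (iv1 F225608)) (tt N73732 (iv0 F225614)) (tt N66558 (iv2 F204477)) (tt N31524 (iv3 D111102)) (tt N56353 F172295) (tt N74534 (iv5 F228312)) (tt N96157 D199239) (tt N58902 F172294))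
theorem Q59194 : ∀ i, i < 59194 → P i := stepQ 59193 Q59193 (allL N59193 (tt N39756 (iv1 F172298)) (tt N39728 (iv0 F219212)) (tt N39760 F172296) (tt N39775 (iv3 F172300)) (tt N31524 (iv4 D111103)) (tt N96158 D199240) (tt N84987 F371282) (tt N39757 F172297))
theorem Q59195 : ∀ i, i < 59195 → P i := stepQ 59194 Q59194 (allL N59194 (tt N90287 F391417) (tt N57056 F371286) (tt N58904 F172304) (tt N96157 (iv3 F411275)) (tt N84987 (iv4 F371283)) (tt N96159 D199241) (tt N31524 (iv6 D111105)) (tt N90896 (iv7 F391202)))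
theorem Q59196 : ∀ i, i < 59196 → P i := stepQ 59195 Q59195 (allL N59195 (tt N33371 F172307) (tt N33375 F172308) (tt N40843 (iv2 F172309)) (tt N31525 (iv3 D111106)) (tt N39762 F172305) (tt N74536 (iv5 F228322)) (tt N75355 F360687) (tt N40844 F172306))
theorem Q59197 : ∀ i, i < 59197 → P i := stepQ 59196 Q59196 (allL N59196 (tt N57008 F362569) (tt N96160 D199242) (tt N58903 F172312) (tt N75355 F360686) (tt N39759 F172313) (tt N96161 D199243) (tt N31525 (iv6 D111108)) (tt N96162 D199244))
theorem Q59198 : ∀ i, i < 59198 → P i := stepQ 59197 Q59197 (allL N59197 (tt N96156 (iv1 F411274)) (tt N31526 (iv0 D111109)) (tt N96154 (iv2 F411266)) (tt N96163 D199245) (tt N96164 D199246) (tt N96165 D199247) (tt N96166 D199248) (tt N96155 (iv7 F411268)))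
theorem Q59199 : ∀ i, i < 59199 → P i := stepQ 59198 Q59198 (allL N59198 (tt N31526 (iv1 D111110)) (tt N96156 F411273) (tt N96155 F411269) (tt N80351 (iv3 F359940)) (tt N96167 D199249) (tt N96168 D199250) (tt N96169 D199251) (tt N96154 F411264))
theorem Q59200 : ∀ i, i < 59200 → P i := stepQ 59199 Q59199 (allL N59199 (tt N96155 (iv1 F411267)) (tt N96154 (iv0 F411265)) (tt N96156 (iv2 F411270)) (tt N31530 F172314) (tt N71162 (iv4 F219578)) (tt N80951 (iv5 F346370)) (tt N35564 F172315) (tt N31526 (iv7 D111111)))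
theorem Q59201 : ∀ i, i < 59201 → P i := stepQ 59200 Q59200 (allL N59200 (tt N71699 (iv1 F361563)) (tt N31527 (iv0 D111112)) (tt N96046 F410786) (tt N96170 D199252) (tt N71672 F361562) (tt N96171 D199253) (tt N96172 D199254) (tt N96045 F410782))
theorem Q59202 : ∀ i, i < 59202 → P i := stepQ 59201 Q59201 (allL N59201 (tt N31527 (iv1 D111113)) (tt N71699 F361573) (tt N96045 F410781) (tt N96173 D199255) (tt N71671 (iv4 F361572)) (tt N96174 D199256) (tt N96175 D199257) (tt N96046 (iv7 F410784)))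
theorem Q59203 : ∀ i, i < 59203 → P i := stepQ 59202 Q59202 (allL N59202 (tt N71689 F361570) (tt N71714 F361571) (tt N96107 (iv2 F411084)) (tt N31531 F172316) (tt N58601 (iv4 F361567)) (tt N31527 (iv5 D111114)) (tt N35563 F172317) (tt N58600 F361569))
theorem Q59204 : ∀ i, i < 59204 → P i := stepQ 59203 Q59203 (allL N59203 (tt N57012 F245361) (tt N96176 D199258) (tt N57163 F172321) (tt N95094 (iv3 F407008)) (tt N56396 F172322) (tt N74549 F228342) (tt N31528 (iv6 D111117)) (tt N93200 (iv7 F399942)))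
theorem Q59205 : ∀ i, i < 59205 → P i := stepQ 59204 Q59204 (allL N59204 (tt N57001 F351082) (tt N78736 F351083) (tt N79428 F351084) (tt N31529 (iv3 D111118)) (tt N62166 (iv4 F180050)) (tt N35268 F351085) (tt N96177 D199259) (tt N57161 F172323))
theorem Q59206 : ∀ i, i < 59206 → P i := stepQ 59205 Q59205 (allL N59205 (tt N94748 (iv1 F405805)) (tt N93558 (iv0 F401132)) (tt N57171 F172324) (tt N35268 F351080) (tt N96178 D199260) (tt N31529 (iv5 D111119)) (tt N96179 D199261) (tt N57162 F172325))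
theorem Q59207 : ∀ i, i < 59207 → P i := stepQ 59206 Q59206 (allL N59206 (tt N93965 (iv1 F402631)) (tt N57055 (iv0 F172328)) (tt N57172 F172326) (tt N96177 (iv3 F411354)) (tt N56398 F172327) (tt N74635 (iv5 F228452)) (tt N31529 (iv6 D111120)) (tt N95033 (iv7 F406736)))
theorem Q59208 : ∀ i, i < 59208 → P i := stepQ 59207 Q59207 (allL N59207 (tt N59094 (iv1 F172330)) (tt N31531 (iv0 D111121)) (tt N59092 F364758) (tt N79168 (iv3 F353082)) (tt N93843 (iv4 F402111)) (tt N57165 F172329) (tt N96180 D199262) (tt N59093 (iv7 F364757)))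
theorem Q59209 : ∀ i, i < 59209 → P i := stepQ 59208 Q59208 (allL N59208 (tt N31531 (iv1 D111122)) (tt N59094 F172331) (tt N59093 (iv2 F364755)) (tt N31633 F351066) (tt N57979 F351067) (tt N57173 (iv5 F172332)) (tt N31631 F351068) (tt N59092 F364759))
theorem Q59210 : ∀ i, i < 59210 → P i := stepQ 59209 Q59209 (allL N59209 (tt N93482 (iv1 F400874)) (tt N93485 (iv0 F400882)) (tt N47123 F332998) (tt N80791 (iv3 F346349)) (tt N31531 (iv4 D111123)) (tt N80997 F346365) (tt N35567 F172334) (tt N80996 (iv7 F346362)))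
theorem Q59211 : ∀ i, i < 59211 → P i := stepQ 59210 Q59210 (allL N59210 (tt N78241 (iv1 F247343)) (tt N59106 F172336) (tt N66575 (iv2 F204572)) (tt N95063 (iv3 F406907)) (tt N31532 (iv4 D111124)) (tt N56882 F172335) (tt N74228 (iv6 F227043)) (tt N74533 (iv7 F228308)))
theorem Q59212 : ∀ i, i < 59212 → P i := stepQ 59211 Q59211 (allL N59211 (tt N59106 (iv1 F204580)) (tt N78241 (iv0 F247342)) (tt N74533 (iv2 F228306)) (tt N80354 (iv3 F364417)) (tt N31534 (iv4 D111125)) (tt N56883 F172338) (tt N41229 F172337) (tt N66575 (iv7 F204573)))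
theorem Q59213 : ∀ i, i < 59213 → P i := stepQ 59212 Q59212 (allL N59212 (tt N59284 (iv1 F172468)) (tt N31536 (iv0 D111126)) (tt N59283 (iv2 F380325)) (tt N96181 D199263) (tt N96182 D199264) (tt N83889 F380326) (tt N96183 D199265) (tt N53583 F380327))
theorem Q59214 : ∀ i, i < 59214 → P i := stepQ 59213 Q59213 (allL N59213 (tt N31536 (iv1 D111127)) (tt N59284 F172470) (tt N53583 (iv2 F380322)) (tt N96184 D199266) (tt N89982 (iv4 F388187)) (tt N83890 F380321) (tt N53189 (iv6 F380323)) (tt N59283 (iv7 F380324)))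
theorem Q59215 : ∀ i, i < 59215 → P i := stepQ 59214 Q59214 (allL N59214 (tt N59283 (iv1 F172469)) (tt N53583 (iv0 F342222)) (tt N31536 (iv2 D111128)) (tt N39867 F172339) (tt N57730 F172340) (tt N96185 D199267) (tt N53638 (iv6 F375625)) (tt N59284 (iv7 F172467)))
theorem Q59216 : ∀ i, i < 59216 → P i := stepQ 59215 Q59215 (allL N59215 (tt N82095 F366643) (tt N75153 (iv0 F364976)) (tt N96185 (iv2 F411386)) (tt N31537 F172341) (tt N96186 D199268) (tt N31536 (iv5 D111129)) (tt N75120 F343209) (tt N59285 (iv7 F172472)))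
theorem Q59217 : ∀ i, i < 59217 → P i := stepQ 59216 Q59216 (allL N59216 (tt N53197 F374452) (tt N53639 (iv0 F374448)) (tt N53638 (iv2 F375623)) (tt N31538 F172342) (tt N57732 F172343) (tt N88930 F384551) (tt N31536 (iv6 D111130)) (tt N53637 (iv7 F384861)))
theorem Q59218 : ∀ i, i < 59218 → P i := stepQ 59217 Q59217 (allL N59217 (tt N38562 F341415) (tt N38427 F341416) (tt N38560 F343183) (tt N75120 (iv3 F343208)) (tt N38557 F172345) (tt N88968 (iv5 F384616)) (tt N31537 (iv6 D111131)) (tt N38561 F343184))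
theorem Q59219 : ∀ i, i < 59219 → P i := stepQ 59218 Q59218 (allL N59218 (tt N39874 (iv1 F172350)) (tt N31538 (iv0 D111132)) (tt N39871 (iv2 F172347)) (tt N96187 D199269) (tt N44453 F172346) (tt N62418 (iv5 F181225)) (tt N40062 (iv6 F172348)) (tt N39872 (iv7 F172349)))
theorem Q59220 : ∀ i, i < 59220 → P i := stepQ 59219 Q59219 (allL N59219 (tt N31538 (iv1 D111133)) (tt N39874 F172351) (tt N39872 (iv2 F172353)) (tt N90023 (iv3 F388317)) (tt N69725 (iv4 F215965)) (tt N62417 (iv5 F215966)) (tt N73999 F226515) (tt N39871 F172352))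
theorem Q59221 : ∀ i, i < 59221 → P i := stepQ 59220 Q59220 (allL N59220 (tt N63993 F364784) (tt N95953 (iv0 F410409)) (tt N39873 F172354) (tt N88930 (iv3 F384553)) (tt N96188 D199270) (tt N31538 (iv5 D111134)) (tt N88968 (iv6 F384617)) (tt N96189 D199271))
theorem Q59222 : ∀ i, i < 59222 → P i := stepQ 59221 Q59221 (allL N59221 (tt N39872 (iv1 F172358)) (tt N39871 F172359) (tt N39874 F172355) (tt N53637 (iv3 F384860)) (tt N31541 F172356) (tt N96189 (iv5 F411407)) (tt N40097 F172357) (tt N31538 (iv7 D111135)))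
theorem Q59223 : ∀ i, i < 59223 → P i := stepQ 59222 Q59222 (allL N59222 (tt N96190 D199272) (tt N38437 F172366) (tt N39875 F172360) (tt N96191 D199273) (tt N31539 (iv4 D111136)) (tt N88446 (iv5 F383083)) (tt N40064 F172361) (tt N39877 F172362))
theorem Q59224 : ∀ i, i < 59224 → P i := stepQ 59223 Q59223 (allL N59223 (tt N38437 F172365) (tt N96190 F411412) (tt N39877 F172363) (tt N90600 (iv3 F390208)) (tt N31540 (iv4 D111137)) (tt N95952 (iv5 F410400)) (tt N73998 (iv6 F226507)) (tt N39875 F172364))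
theorem Q59225 : ∀ i, i < 59225 → P i := stepQ 59224 Q59224 (allL N59224 (tt N49819 (iv1 F329724)) (tt N31542 (iv0 D111138)) (tt N59289 F361304) (tt N81356 F361302) (tt N96192 D199274) (tt N82095 (iv5 F361301)) (tt N96193 D199275) (tt N59288 (iv7 F361303)))
theorem Q59226 : ∀ i, i < 59226 → P i := stepQ 59225 Q59225 (allL N59225 (tt N31542 (iv1 D111139)) (tt N49819 (iv0 F329723)) (tt N59288 (iv2 F361305)) (tt N75154 F374451) (tt N94617 (iv4 F405232)) (tt N75153 (iv5 F374450)) (tt N40512 F350416) (tt N59289 F361308))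
theorem Q59227 : ∀ i, i < 59227 → P i := stepQ 59226 Q59226 (allL N59226 (tt N59289 (iv1 F172482)) (tt N59288 F172477) (tt N31542 (iv2 D111140)) (tt N39926 F172367) (tt N57743 F172368) (tt N49820 F361774) (tt N86234 (iv6 F375499)) (tt N49819 (iv7 F329728)))
theorem Q59228 : ∀ i, i < 59228 → P i := stepQ 59227 Q59227 (allL N59227 (tt N49818 F342225) (tt N49817 (iv0 F361771)) (tt N49820 (iv2 F361772)) (tt N31543 F172369) (tt N96194 D199276) (tt N31542 (iv5 D111141)) (tt N49789 (iv6 F363031)) (tt N49432 (iv7 F335714)))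
theorem Q59229 : ∀ i, i < 59229 → P i := stepQ 59228 Q59228 (allL N59228 (tt N86233 (iv1 F375496)) (tt N53577 (iv0 F342226)) (tt N86234 (iv2 F375497)) (tt N31544 F172370) (tt N57745 F172371) (tt N89896 (iv5 F387904)) (tt N31542 (iv6 D111142)) (tt N53600 (iv7 F335715)))
theorem Q59230 : ∀ i, i < 59230 → P i := stepQ 59229 Q59229 (allL N59229 (tt N96195 D199277) (tt N96196 D199278) (tt N39930 F172372) (tt N49789 F363020) (tt N38538 F172373) (tt N96197 D199279) (tt N31543 (iv6 D111143)) (tt N49776 (iv7 F363018)))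
theorem Q59231 : ∀ i, i < 59231 → P i := stepQ 59230 Q59230 (allL N59230 (tt N39934 (iv1 F172377)) (tt N31544 (iv0 D111144)) (tt N39931 F172378) (tt N96198 D199280) (tt N57412 F172374) (tt N96199 D199281) (tt N33349 (iv6 F172375)) (tt N39932 (iv7 F172376)))
theorem Q59232 : ∀ i, i < 59232 → P i := stepQ 59231 Q59231 (allL N59231 (tt N31544 (iv1 D111145)) (tt N39934 F172381) (tt N39932 (iv2 F172383)) (tt N96200 D199282) (tt N72919 (iv4 F223576)) (tt N81899 F343244) (tt N53519 (iv6 F343245)) (tt N39931 F172382))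
theorem Q59233 : ∀ i, i < 59233 → P i := stepQ 59232 Q59232 (allL N59232 (tt N62272 F180538) (tt N72546 F222650) (tt N39933 F172384) (tt N89896 (iv3 F387903)) (tt N96201 D199283) (tt N31544 (iv5 D111146)) (tt N96197 (iv6 F411451)) (tt N72544 (iv7 F222646)))
theorem Q59234 : ∀ i, i < 59234 → P i := stepQ 59233 Q59233 (allL N59233 (tt N39932 (iv1 F172387)) (tt N39931 F172388) (tt N39934 F172385) (tt N53600 F335716) (tt N31547 F172386) (tt N72544 (iv5 F222644)) (tt N53523 (iv6 F329691)) (tt N31544 (iv7 D111147)))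
theorem Q59235 : ∀ i, i < 59235 → P i := stepQ 59234 Q59234 (allL N59234 (tt N59298 (iv1 F172524)) (tt N31550 F172396) (tt N39935 F172389) (tt N96202 D199284) (tt N31545 (iv4 D111148)) (tt N96203 D199285) (tt N33354 F172390) (tt N39938 F172391))
theorem Q59236 : ∀ i, i < 59236 → P i := stepQ 59235 Q59235 (allL N59235 (tt N31550 F172395) (tt N59298 F172523) (tt N39938 F172393) (tt N96204 D199286) (tt N31546 (iv4 D111149)) (tt N96205 D199287) (tt N46732 F336653) (tt N39935 F172394))
theorem Q59237 : ∀ i, i < 59237 → P i := stepQ 59236 Q59236 (allL N59236 (tt N31707 F172400) (tt N31709 (iv0 F172401)) (tt N39939 F172397) (tt N60293 (iv3 F176150)) (tt N46732 F332945) (tt N31830 F172398) (tt N31546 (iv6 D111150)) (tt N33353 F172399))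
theorem Q59238 : ∀ i, i < 59238 → P i := stepQ 59237 Q59237 (allL N59237 (tt N51204 (iv1 F335393)) (tt N31548 (iv0 D111151)) (tt N59300 F373328) (tt N86240 (iv3 F375532)) (tt N65342 F350807) (tt N96206 D199288) (tt N96207 D199289) (tt N59299 F373326))
theorem Q59239 : ∀ i, i < 59239 → P i := stepQ 59238 Q59238 (allL N59238 (tt N31548 (iv1 D111152)) (tt N51204 (iv0 F335392)) (tt N59299 (iv2 F373325)) (tt N96208 D199290) (tt N94100 (iv4 F403204)) (tt N64722 F336362) (tt N58997 F373324) (tt N59300 (iv7 F373327)))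
theorem Q59240 : ∀ i, i < 59240 → P i := stepQ 59239 Q59239 (allL N59239 (tt N59300 (iv1 F172530)) (tt N59299 F172525) (tt N31548 (iv2 D111153)) (tt N59293 (iv3 F172507)) (tt N48105 F340258) (tt N43756 F336361) (tt N83406 F352348) (tt N51204 (iv7 F335397)))
theorem Q59241 : ∀ i, i < 59241 → P i := stepQ 59240 Q59240 (allL N59240 (tt N35080 F336369) (tt N43758 F336370) (tt N43756 F335400) (tt N31549 F172402) (tt N77188 F336375) (tt N31548 (iv5 D111154)) (tt N83423 F353702) (tt N43755 F335401))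
theorem Q59242 : ∀ i, i < 59242 → P i := stepQ 59241 Q59241 (allL N59241 (tt N75465 (iv1 F353733)) (tt N75485 (iv0 F355065)) (tt N83406 (iv2 F352345)) (tt N31550 F172403) (tt N75432 F334599) (tt N49048 F352339) (tt N31548 (iv6 D111155)) (tt N51206 F352344))
theorem Q59243 : ∀ i, i < 59243 → P i := stepQ 59242 Q59242 (allL N59242 (tt N96209 D199291) (tt N85820 F374111) (tt N59296 (iv2 F172517)) (tt N83423 (iv3 F353704)) (tt N38516 F172404) (tt N83414 F353707) (tt N31549 (iv6 D111156)) (tt N83413 F353708))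
theorem Q59244 : ∀ i, i < 59244 → P i := stepQ 59243 Q59243 (allL N59243 (tt N58126 F172405) (tt N72482 F222597) (tt N59297 (iv2 F172519)) (tt N49048 F352338) (tt N96210 D199292) (tt N31550 (iv5 D111157)) (tt N83414 (iv6 F352340)) (tt N72480 F222594))
theorem Q59245 : ∀ i, i < 59245 → P i := stepQ 59244 Q59244 (allL N59244 (tt N39938 (iv1 F172407)) (tt N39935 F172408) (tt N59298 (iv2 F172521)) (tt N51206 (iv3 F352343)) (tt N40337 F172406) (tt N72480 (iv5 F222593)) (tt N51205 (iv6 F335382)) (tt N31550 (iv7 D111158)))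
theorem Q59246 : ∀ i, i < 59246 → P i := stepQ 59245 Q59245 (allL N59245 (tt N59293 (iv1 F172510)) (tt N31551 (iv0 D111159)) (tt N59292 F212026) (tt N39943 F172410) (tt N48019 F319531) (tt N81291 (iv5 F332230)) (tt N40605 F323218) (tt N59291 F212024))
theorem Q59247 : ∀ i, i < 59247 → P i := stepQ 59246 Q59246 (allL N59246 (tt N31551 (iv1 D111160)) (tt N59293 F172512) (tt N59291 (iv2 F212025)) (tt N80016 F364008) (tt N78205 F247056) (tt N80015 (iv5 F333939)) (tt N96211 D199293) (tt N59292 (iv7 F212027)))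
theorem Q59248 : ∀ i, i < 59248 → P i := stepQ 59247 Q59247 (allL N59247 (tt N59292 (iv1 F172511)) (tt N59291 F172506) (tt N31551 (iv2 D111161)) (tt N51204 (iv3 F335395)) (tt N44269 F172411) (tt N81346 (iv5 F332240)) (tt N51203 F359969) (tt N59293 (iv7 F172509)))
theorem Q59249 : ∀ i, i < 59249 → P i := stepQ 59248 Q59248 (allL N59248 (tt N81295 F332231) (tt N81297 F332232) (tt N81346 F332233) (tt N31552 F172412) (tt N47946 F332234) (tt N31551 (iv5 D111162)) (tt N96212 D199294) (tt N59294 (iv7 F172514)))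
theorem Q59250 : ∀ i, i < 59250 → P i := stepQ 59249 Q59249 (allL N59249 (tt N54087 F349187) (tt N54084 F359970) (tt N51203 F359968) (tt N31553 F172413) (tt N77831 (iv4 F245103)) (tt N53840 F362388) (tt N31551 (iv6 D111163)) (tt N86374 (iv7 F375996)))
theorem Q59251 : ∀ i, i < 59251 → P i := stepQ 59250 Q59250 (allL N59250 (tt N63959 F363029) (tt N96213 D199295) (tt N49625 (iv2 F356359)) (tt N96212 (iv3 F411514)) (tt N38496 F172414) (tt N49624 (iv5 F335731)) (tt N31552 (iv6 D111164)) (tt N96214 D199296))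
theorem Q59252 : ∀ i, i < 59252 → P i := stepQ 59251 Q59251 (allL N59251 (tt N72458 (iv1 F222563)) (tt N52762 (iv0 F329762)) (tt N49626 (iv2 F335387)) (tt N53840 (iv3 F345048)) (tt N50435 (iv4 F345089)) (tt N31553 (iv5 D111165)) (tt N49624 F356458) (tt N72605 (iv7 F222728)))
theorem Q59253 : ∀ i, i < 59253 → P i := stepQ 59252 Q59252 (allL N59252 (tt N40565 (iv1 F172416)) (tt N59290 F172504) (tt N51205 (iv2 F335380)) (tt N86374 (iv3 F375995)) (tt N58973 F172415) (tt N72605 (iv5 F222729)) (tt N59298 (iv6 F172522)) (tt N31553 (iv7 D111166)))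
theorem Q59254 : ∀ i, i < 59254 → P i := stepQ 59253 Q59253 (allL N59253 (tt N31555 (iv1 F172419)) (tt N31554 (iv0 D111167)) (tt N31558 (iv2 F172417)) (tt N59301 (iv3 F172546)) (tt N60295 (iv4 F176160)) (tt N96215 D199297) (tt N96216 D199298) (tt N31556 F172418))
theorem Q59255 : ∀ i, i < 59255 → P i := stepQ 59254 Q59254 (allL N59254 (tt N31558 F357668) (tt N31556 F357669) (tt N31554 (iv2 D111168)) (tt N86241 (iv3 F375535)) (tt N60144 F357670) (tt N96217 D199299) (tt N96218 D199300) (tt N31555 (iv7 F172420)))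
theorem Q59256 : ∀ i, i < 59256 → P i := stepQ 59255 Q59255 (allL N59255 (tt N80016 F352630) (tt N78174 (iv0 F246518)) (tt N59080 F357637) (tt N31554 (iv3 D111169)) (tt N59078 (iv4 F357636)) (tt N62958 (iv5 F338231)) (tt N96219 D199301) (tt N59085 (iv7 F357633)))
theorem Q59257 : ∀ i, i < 59257 → P i := stepQ 59256 Q59256 (allL N59256 (tt N72311 F246470) (tt N96220 D199302) (tt N60144 (iv2 F357671)) (tt N91495 (iv3 F393371)) (tt N31554 (iv4 D111170)) (tt N96221 D199303) (tt N91656 (iv6 F393922)) (tt N89922 F388005))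
theorem Q59258 : ∀ i, i < 59258 → P i := stepQ 59257 Q59257 (allL N59257 (tt N61139 F352979) (tt N72147 F352981) (tt N96217 (iv2 F411547)) (tt N62958 (iv3 F352983)) (tt N51371 F352982) (tt N31554 (iv5 D111171)) (tt N54618 (iv6 F352980)) (tt N96222 D199304))
theorem Q59259 : ∀ i, i < 59259 → P i := stepQ 59258 Q59258 (allL N59258 (tt N96223 D199305) (tt N96204 (iv0 F411480)) (tt N96218 (iv2 F411553)) (tt N96219 (iv3 F411560)) (tt N91656 (iv4 F393921)) (tt N54619 F352988) (tt N31554 (iv6 D111172)) (tt N91652 (iv7 F393905)))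
theorem Q59260 : ∀ i, i < 59260 → P i := stepQ 59259 Q59259 (allL N59259 (tt N31556 F357627) (tt N31558 F357628) (tt N31555 F172422) (tt N59085 F357629) (tt N89922 (iv4 F388003)) (tt N96222 (iv5 F411572)) (tt N53908 F347692) (tt N31554 (iv7 D111173)))
theorem Q59261 : ∀ i, i < 59261 → P i := stepQ 59260 Q59260 (allL N59260 (tt N96220 (iv1 F411563)) (tt N72311 (iv0 F222060)) (tt N89922 (iv2 F388001)) (tt N60148 (iv3 F357652)) (tt N31555 (iv4 D111175)) (tt N96224 D199306) (tt N86238 (iv6 F375518)) (tt N60144 F357667))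
theorem Q59262 : ∀ i, i < 59262 → P i := stepQ 59261 Q59261 (allL N59261 (tt N72147 F361679) (tt N61139 (iv0 F347686)) (tt N96222 (iv2 F411569)) (tt N49415 F347688) (tt N79982 F347687) (tt N31555 (iv5 D111176)) (tt N49413 F347689) (tt N96217 (iv7 F411549)))
theorem Q59263 : ∀ i, i < 59263 → P i := stepQ 59262 Q59262 (allL N59262 (tt N96225 D199307) (tt N96226 D199308) (tt N31557 F172426) (tt N41919 F331638) (tt N61060 (iv4 F352392)) (tt N31556 (iv5 D111180)) (tt N61058 F352391) (tt N96215 (iv7 F411535)))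
theorem Q59264 : ∀ i, i < 59264 → P i := stepQ 59263 Q59263 (allL N59263 (tt N96215 F411538) (tt N31557 (iv0 D111181)) (tt N96225 F411590) (tt N80014 F364007) (tt N96227 D199309) (tt N78094 (iv5 F411539)) (tt N96228 D199310) (tt N96226 (iv7 F411588)))
theorem Q59265 : ∀ i, i < 59265 → P i := stepQ 59264 Q59264 (allL N59264 (tt N31557 (iv1 D111182)) (tt N96215 F411537) (tt N96226 (iv2 F411591)) (tt N96229 D199311) (tt N96230 D199312) (tt N78095 F396281) (tt N96231 D199313) (tt N96225 F411593))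
theorem Q59266 : ∀ i, i < 59266 → P i := stepQ 59265 Q59265 (allL N59265 (tt N96232 D199314) (tt N56328 (iv0 F395447)) (tt N61060 F352393) (tt N96233 D199315) (tt N31557 (iv4 D111183)) (tt N92033 F395445) (tt N61039 (iv6 F352395)) (tt N96234 D199316))
theorem Q59267 : ∀ i, i < 59267 → P i := stepQ 59266 Q59266 (allL N59266 (tt N96226 (iv1 F411585)) (tt N96225 F411582) (tt N96215 (iv2 F411533)) (tt N31562 F172428) (tt N96234 (iv4 F411634)) (tt N31558 F172429) (tt N71789 (iv6 F356505)) (tt N31557 (iv7 D111185)))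
theorem Q59268 : ∀ i, i < 59268 → P i := stepQ 59267 Q59267 (allL N59267 (tt N96235 D199317) (tt N96236 D199318) (tt N96216 (iv2 F411541)) (tt N31563 F172430) (tt N60309 (iv4 F176170)) (tt N90479 (iv5 F389792)) (tt N31558 (iv6 D111186)) (tt N40049 F172431))
theorem Q59269 : ∀ i, i < 59269 → P i := stepQ 59268 Q59268 (allL N59268 (tt N96206 (iv1 F411491)) (tt N64722 (iv0 F354233)) (tt N96237 D199319) (tt N31559 (iv3 D111187)) (tt N78722 F354234) (tt N38436 F172432) (tt N77353 F354227) (tt N59314 (iv7 F172562)))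
theorem Q59270 : ∀ i, i < 59270 → P i := stepQ 59269 Q59269 (allL N59269 (tt N41909 F341461) (tt N58960 F341462) (tt N59313 (iv2 F172560)) (tt N77353 (iv3 F358450)) (tt N38475 F172433) (tt N96238 D199320) (tt N31559 (iv6 D111188)) (tt N64755 (iv7 F357132)))
theorem Q59271 : ∀ i, i < 59271 → P i := stepQ 59270 Q59270 (allL N59270 (tt N81291 F315804) (tt N80015 (iv0 F333935)) (tt N81329 F315806) (tt N31560 (iv3 D111189)) (tt N47995 F315807) (tt N38464 F172434) (tt N64752 (iv6 F356356)) (tt N59312 (iv7 F172559)))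
theorem Q59272 : ∀ i, i < 59272 → P i := stepQ 59271 Q59271 (allL N59271 (tt N96239 D199321) (tt N96240 D199322) (tt N96241 D199323) (tt N31561 (iv3 D111191)) (tt N96233 (iv4 F411629)) (tt N38425 F172436) (tt N64174 F355074) (tt N38424 F172437))
theorem Q59273 : ∀ i, i < 59273 → P i := stepQ 59272 Q59272 (allL N59272 (tt N64789 (iv1 F342803)) (tt N64762 (iv0 F356447)) (tt N38559 F172440) (tt N71789 F356501) (tt N38427 F172441) (tt N96242 D199324) (tt N31562 (iv6 D111196)) (tt N64492 (iv7 F342800)))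
theorem Q59274 : ∀ i, i < 59274 → P i := stepQ 59273 Q59273 (allL N59273 (tt N33257 (iv1 F172443)) (tt N31563 (iv0 D111197)) (tt N40052 (iv2 F172444)) (tt N90264 (iv3 F389150)) (tt N36172 F172442) (tt N90261 (iv5 F389141)) (tt N34986 F342825) (tt N40051 (iv7 F172445)))
theorem Q59275 : ∀ i, i < 59275 → P i := stepQ 59274 Q59274 (allL N59274 (tt N31563 (iv1 D111198)) (tt N33257 F172446) (tt N40051 F172449) (tt N96243 D199325) (tt N58969 (iv4 F172448)) (tt N96244 D199326) (tt N96245 D199327) (tt N40052 F172447))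
theorem Q59276 : ∀ i, i < 59276 → P i := stepQ 59275 Q59275 (allL N59275 (tt N96246 D199328) (tt N96247 D199329) (tt N59316 (iv2 F172569)) (tt N90479 F389795) (tt N96248 D199330) (tt N31563 (iv5 D111199)) (tt N96242 (iv6 F411706)) (tt N40053 F172450))
theorem Q59277 : ∀ i, i < 59277 → P i := stepQ 59276 Q59276 (allL N59276 (tt N39939 F172455) (tt N33353 (iv0 F172456)) (tt N31709 F172451) (tt N40302 F172452) (tt N45617 F332946) (tt N31609 F172453) (tt N31564 (iv6 D111200)) (tt N31707 F172454))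
theorem Q59278 : ∀ i, i < 59278 → P i := stepQ 59277 Q59277 (allL N59277 (tt N44220 (iv1 F172459)) (tt N31565 (iv0 D111201)) (tt N44218 (iv2 F172458)) (tt N32190 (iv3 F172461)) (tt N94195 (iv4 F403654)) (tt N96249 D199331) (tt N57033 F172457) (tt N44219 F172460))
theorem Q59279 : ∀ i, i < 59279 → P i := stepQ 59278 Q59278 (allL N59278 (tt N94280 (iv1 F403938)) (tt N31566 (iv0 D111202)) (tt N94279 (iv2 F410254)) (tt N96250 D199332) (tt N96251 D199333) (tt N96250 (iv5 F411746)) (tt N96252 D199334) (tt N94278 F410255))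
theorem Q59280 : ∀ i, i < 59280 → P i := stepQ 59279 Q59279 (allL N59279 (tt N31566 (iv1 D111203)) (tt N94280 F403941) (tt N94278 F410253) (tt N96253 D199335) (tt N89517 (iv4 F386699)) (tt N96254 D199336) (tt N89516 F386700) (tt N94279 (iv7 F410252)))
theorem Q59281 : ∀ i, i < 59281 → P i := stepQ 59280 Q59280 (allL N59280 (tt N94279 (iv1 F403939)) (tt N94278 F403933) (tt N31566 (iv2 D111204)) (tt N60318 (iv3 F176184)) (tt N31585 F172462) (tt N92548 (iv5 F397335)) (tt N69703 (iv6 F215917)) (tt N94280 (iv7 F403937)))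
theorem Q59282 : ∀ i, i < 59282 → P i := stepQ 59281 Q59281 (allL N59281 (tt N96255 D199337) (tt N96256 D199338) (tt N92548 (iv2 F397334)) (tt N31567 F172463) (tt N94034 (iv4 F402903)) (tt N31566 (iv5 D111205)) (tt N73319 (iv6 F336192)) (tt N94239 (iv7 F403806)))
theorem Q59283 : ∀ i, i < 59283 → P i := stepQ 59282 Q59282 (allL N59282 (tt N96257 D199339) (tt N74121 (iv0 F336197)) (tt N60320 (iv2 F176192)) (tt N73319 F336193) (tt N61880 (iv4 F336195)) (tt N69705 (iv5 F215920)) (tt N31567 (iv6 D111206)) (tt N92551 (iv7 F397343)))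
theorem Q59284 : ∀ i, i < 59284 → P i := stepQ 59283 Q59283 (allL N59283 (tt N31569 (iv1 D111208)) (tt N59214 F172469) (tt N59212 F380325) (tt N96258 D199340) (tt N96259 D199341) (tt N49817 (iv5 F356538)) (tt N89476 (iv6 F386614)) (tt N59213 F380324))
theorem Q59285 : ∀ i, i < 59285 → P i := stepQ 59284 Q59284 (allL N59284 (tt N59213 (iv1 F172470)) (tt N59212 F172468) (tt N31569 (iv2 D111209)) (tt N44332 F172465) (tt N57806 F172466) (tt N96260 D199342) (tt N96261 D199343) (tt N59214 F172467))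
theorem Q59286 : ∀ i, i < 59286 → P i := stepQ 59285 Q59285 (allL N59285 (tt N96262 D199344) (tt N91115 (iv0 F391999)) (tt N96260 (iv2 F411778)) (tt N31570 F172471) (tt N84267 (iv4 F368747)) (tt N31569 (iv5 D111210)) (tt N64408 (iv6 F356525)) (tt N59215 F172472))
theorem Q59287 : ∀ i, i < 59287 → P i := stepQ 59286 Q59286 (allL N59286 (tt N96263 D199345) (tt N72449 (iv0 F411792)) (tt N96261 (iv2 F411784)) (tt N31571 F172473) (tt N57808 F172474) (tt N89535 (iv5 F386729)) (tt N31569 (iv6 D111211)) (tt N72523 (iv7 F222632)))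
theorem Q59288 : ∀ i, i < 59288 → P i := stepQ 59287 Q59287 (allL N59287 (tt N73291 (iv1 F224290)) (tt N89392 (iv0 F386349)) (tt N44339 F172476) (tt N89535 F386730) (tt N96264 D199346) (tt N31571 (iv5 D111213)) (tt N64409 (iv6 F356526)) (tt N72524 (iv7 F222633)))
theorem Q59289 : ∀ i, i < 59289 → P i := stepQ 59288 Q59288 (allL N59288 (tt N59226 (iv1 F172477)) (tt N31572 (iv0 D111214)) (tt N59225 F361305) (tt N77962 (iv3 F245438)) (tt N85226 (iv4 F377632)) (tt N96262 (iv5 F411791)) (tt N59020 F350407) (tt N59224 F361303))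
theorem Q59290 : ∀ i, i < 59290 → P i := stepQ 59289 Q59289 (allL N59289 (tt N31572 (iv1 D111215)) (tt N59226 F172482) (tt N59224 (iv2 F361304)) (tt N96265 D199347) (tt N94521 (iv4 F404817)) (tt N91115 (iv5 F391998)) (tt N96266 D199348) (tt N59225 (iv7 F361308)))
theorem Q59291 : ∀ i, i < 59291 → P i := stepQ 59290 Q59290 (allL N59290 (tt N59252 (iv1 F172504)) (tt N31582 F172503) (tt N44392 F172501) (tt N76293 (iv3 F349224)) (tt N31575 (iv4 D111223)) (tt N49011 F329909) (tt N73310 (iv6 F224336)) (tt N44394 F172502))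
theorem Q59292 : ∀ i, i < 59292 → P i := stepQ 59291 Q59291 (allL N59291 (tt N59247 (iv1 F172506)) (tt N31577 (iv0 D111224)) (tt N59246 F212025) (tt N44398 F172505) (tt N48028 F317223) (tt N47410 F317224) (tt N96267 D199349) (tt N59245 (iv7 F212024)))
theorem Q59293 : ∀ i, i < 59293 → P i := stepQ 59292 Q59292 (allL N59292 (tt N31577 (iv1 D111225)) (tt N59247 F172511) (tt N59245 (iv2 F212026)) (tt N96034 F410739) (tt N48029 F320585) (tt N47401 F320586) (tt N62038 F351553) (tt N59246 F212027))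
theorem Q59294 : ∀ i, i < 59294 → P i := stepQ 59293 Q59293 (allL N59293 (tt N59246 (iv1 F172512)) (tt N59245 F172510) (tt N31577 (iv2 D111226)) (tt N59239 F172507) (tt N44250 F172508) (tt N77321 (iv5 F336356)) (tt N96268 D199350) (tt N59247 F172509))
theorem Q59295 : ∀ i, i < 59295 → P i := stepQ 59294 Q59294 (allL N59294 (tt N47420 F332235) (tt N47416 F332236) (tt N77321 (iv2 F336354)) (tt N31578 F172513) (tt N78215 (iv4 F349778)) (tt N31577 (iv5 D111227)) (tt N96269 D199351) (tt N59248 F172514))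
theorem Q59296 : ∀ i, i < 59296 → P i := stepQ 59295 Q59295 (allL N59295 (tt N96270 D199352) (tt N96271 D199353) (tt N96268 (iv2 F411810)) (tt N31579 F172515) (tt N44251 F172516) (tt N96272 D199354) (tt N31577 (iv6 D111228)) (tt N96273 D199355))
theorem Q59297 : ∀ i, i < 59297 → P i := stepQ 59296 Q59296 (allL N59296 (tt N84714 (iv1 F370310)) (tt N79151 F363297) (tt N59242 F172517) (tt N96269 (iv3 F411815)) (tt N58053 F172518) (tt N96274 D199356) (tt N31578 (iv6 D111229)) (tt N96275 D199357))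
theorem Q59298 : ∀ i, i < 59298 → P i := stepQ 59297 Q59297 (allL N59297 (tt N40077 F172520) (tt N95016 F406650) (tt N59243 F172519) (tt N96272 (iv3 F411818)) (tt N96276 D199358) (tt N31579 (iv5 D111230)) (tt N96274 (iv6 F411829)) (tt N95013 (iv7 F406643)))
theorem Q59299 : ∀ i, i < 59299 → P i := stepQ 59298 Q59298 (allL N59298 (tt N59235 (iv1 F172523)) (tt N59234 F172524) (tt N59244 F172521) (tt N96273 (iv3 F411823)) (tt N72859 (iv4 F223467)) (tt N95013 (iv5 F406639)) (tt N59252 F172522) (tt N31579 (iv7 D111231)))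
theorem Q59300 : ∀ i, i < 59300 → P i := stepQ 59299 Q59299 (allL N59299 (tt N59239 (iv1 F172525)) (tt N31580 (iv0 D111232)) (tt N59238 F373325) (tt N84243 F368661) (tt N96277 D199359) (tt N96278 D199360) (tt N66409 F345615) (tt N59237 (iv7 F373326)))
theorem Q59301 : ∀ i, i < 59301 → P i := stepQ 59300 Q59300 (allL N59300 (tt N31580 (iv1 D111233)) (tt N59239 F172530) (tt N59237 (iv2 F373328)) (tt N96279 D199361) (tt N96280 D199362) (tt N96281 D199363) (tt N96282 D199364) (tt N59238 F373327))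
theorem Q59302 : ∀ i, i < 59302 → P i := stepQ 59301 Q59301 (allL N59301 (tt N31584 (iv1 F172548)) (tt N31583 (iv0 D111240)) (tt N31587 (iv2 F172545)) (tt N59253 F172546) (tt N94280 (iv4 F403935)) (tt N69987 (iv5 F216395)) (tt N96283 D199365) (tt N31585 F172547))
theorem Q59303 : ∀ i, i < 59303 → P i := stepQ 59302 Q59302 (allL N59302 (tt N31587 F210275) (tt N31585 F210276) (tt N31583 (iv2 D111241)) (tt N65286 (iv3 F316925)) (tt N57607 F210277) (tt N64643 F356861) (tt N96284 D199366) (tt N31584 (iv7 F172549)))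
theorem Q59304 : ∀ i, i < 59304 → P i := stepQ 59303 Q59303 (allL N59303 (tt N96279 (iv1 F411880)) (tt N96285 D199368) (tt N82161 F360931) (tt N31583 (iv3 D111242)) (tt N96286 D199369) (tt N77311 (iv5 F356864)) (tt N96287 D199370) (tt N89575 F386799))
theorem Q59305 : ∀ i, i < 59305 → P i := stepQ 59304 Q59304 (allL N59304 (tt N82315 F356563) (tt N94219 F403748) (tt N57607 (iv2 F210278)) (tt N96288 D199371) (tt N31583 (iv4 D111243)) (tt N57509 (iv5 F356564)) (tt N96289 D199372) (tt N96290 D199373))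
theorem Q59306 : ∀ i, i < 59306 → P i := stepQ 59305 Q59305 (allL N59305 (tt N64632 (iv1 F356862)) (tt N64644 F356566) (tt N64643 F356860) (tt N77311 F356863) (tt N96291 D199374) (tt N31583 (iv5 D111244)) (tt N96292 D199375) (tt N64642 F356565))
theorem Q59307 : ∀ i, i < 59307 → P i := stepQ 59306 Q59306 (allL N59306 (tt N96293 D199376) (tt N72273 (iv0 F425015)) (tt N96284 (iv2 F411869)) (tt N96287 (iv3 F411886)) (tt N96289 (iv4 F411894)) (tt N96294 D199378) (tt N31583 (iv6 D111245)) (tt N96295 D199379))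
theorem Q59308 : ∀ i, i < 59308 → P i := stepQ 59307 Q59307 (allL N59307 (tt N31585 F210279) (tt N31587 F210280) (tt N31584 F172550) (tt N89575 (iv3 F386796)) (tt N96290 (iv4 F411897)) (tt N64642 F335197) (tt N76295 F366477) (tt N31583 (iv7 D111246)))
theorem Q59309 : ∀ i, i < 59309 → P i := stepQ 59308 Q59308 (allL N59308 (tt N94219 (iv1 F403747)) (tt N82315 (iv0 F343129)) (tt N96290 (iv2 F411895)) (tt N57610 (iv3 F210273)) (tt N31584 (iv4 D111248)) (tt N57510 (iv5 F366667)) (tt N74508 F366478) (tt N57607 F210274))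
theorem Q59310 : ∀ i, i < 59310 → P i := stepQ 59309 Q59309 (allL N59309 (tt N64644 F356567) (tt N64632 F356865) (tt N64642 F356568) (tt N74851 F356569) (tt N42332 F356570) (tt N31584 (iv5 D111249)) (tt N42331 F356571) (tt N64643 (iv7 F356859)))
theorem Q59311 : ∀ i, i < 59311 → P i := stepQ 59310 Q59310 (allL N59310 (tt N74422 (iv1 F364977)) (tt N92571 F397424) (tt N75148 (iv2 F331663)) (tt N69976 (iv3 F216386)) (tt N31586 (iv4 D111256)) (tt N96296 D199380) (tt N77654 F331662) (tt N69973 F216384))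
theorem Q59312 : ∀ i, i < 59312 → P i := stepQ 59311 Q59311 (allL N59311 (tt N96297 D199381) (tt N96298 D199382) (tt N96283 (iv2 F411867)) (tt N31591 F172558) (tt N94281 (iv4 F403943)) (tt N96299 D199383) (tt N31587 (iv6 D111258)) (tt N62252 (iv7 F180488)))
theorem Q59313 : ∀ i, i < 59313 → P i := stepQ 59312 Q59312 (allL N59312 (tt N47410 F318034) (tt N47401 F318035) (tt N82076 F318036) (tt N31588 (iv3 D111259)) (tt N81519 F318037) (tt N69723 (iv5 F215954)) (tt N96300 D199384) (tt N59270 F172559))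
theorem Q59314 : ∀ i, i < 59314 → P i := stepQ 59313 Q59313 (allL N59313 (tt N64772 F342807) (tt N58950 F342808) (tt N59269 F172560) (tt N96300 (iv3 F411916)) (tt N64789 (iv4 F342805)) (tt N96301 D199385) (tt N31588 (iv6 D111260)) (tt N75129 (iv7 F341463)))
theorem Q59315 : ∀ i, i < 59315 → P i := stepQ 59314 Q59314 (allL N59314 (tt N96278 F411851) (tt N96281 (iv0 F411861)) (tt N96302 D199386) (tt N31589 (iv3 D111261)) (tt N96303 D199387) (tt N57346 F172561) (tt N43762 F336384) (tt N59268 F172562))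
theorem Q59316 : ∀ i, i < 59316 → P i := stepQ 59315 Q59315 (allL N59315 (tt N35121 F356364) (tt N34501 F356365) (tt N35118 F356352) (tt N43762 F356366) (tt N63923 F356367) (tt N96304 D199388) (tt N31589 (iv6 D111262)) (tt N35119 F356353))
theorem Q59317 : ∀ i, i < 59317 → P i := stepQ 59316 Q59316 (allL N59316 (tt N72436 (iv1 F222500)) (tt N72435 F222499) (tt N59275 F172569) (tt N96299 (iv3 F411914)) (tt N96305 D199389) (tt N31591 (iv5 D111266)) (tt N69990 (iv6 F216401)) (tt N62254 (iv7 F180491)))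
theorem Q59318 : ∀ i, i < 59318 → P i := stepQ 59317 Q59317 (allL N59317 (tt N55621 F172577) (tt N31592 (iv0 D111267)) (tt N31821 (iv2 F172572)) (tt N35601 (iv3 F172573)) (tt N32015 (iv4 F172575)) (tt N39243 F172571) (tt N55627 F172570) (tt N55620 (iv7 F172574)))
theorem Q59319 : ∀ i, i < 59319 → P i := stepQ 59318 Q59318 (allL N59318 (tt N31592 (iv1 D111268)) (tt N55621 F172578) (tt N55620 F172581) (tt N31792 F172582) (tt N32016 F172583) (tt N37326 (iv5 F172580)) (tt N95287 F407733) (tt N31821 F172579))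
theorem Q59320 : ∀ i, i < 59320 → P i := stepQ 59319 Q59319 (allL N59319 (tt N55620 (iv1 F172588)) (tt N31821 F172589) (tt N55621 F172584) (tt N31598 F172585) (tt N60009 (iv4 F175202)) (tt N38780 F172586) (tt N31673 F172587) (tt N31592 (iv7 D111269)))
theorem Q59321 : ∀ i, i < 59321 → P i := stepQ 59320 Q59320 (allL N59320 (tt N96306 D199390) (tt N96307 D199391) (tt N95694 (iv2 F409166)) (tt N31593 (iv3 D111270)) (tt N57869 F172590) (tt N59591 (iv5 F173197)) (tt N58119 F172591) (tt N31631 F172592))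
theorem Q59322 : ∀ i, i < 59322 → P i := stepQ 59321 Q59321 (allL N59321 (tt N31680 (iv1 F172593)) (tt N31594 (iv0 D111271)) (tt N31679 F173368) (tt N96308 D199392) (tt N75599 F232075) (tt N59540 (iv5 F232076)) (tt N80948 (iv6 F336513)) (tt N31678 F173369))
theorem Q59323 : ∀ i, i < 59323 → P i := stepQ 59322 Q59322 (allL N59322 (tt N31594 (iv1 D111272)) (tt N31680 F172598) (tt N31678 F173366) (tt N64610 (iv3 F353074)) (tt N58883 (iv4 F172594)) (tt N59541 F232083) (tt N58102 F353073) (tt N31679 F173367))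
theorem Q59324 : ∀ i, i < 59324 → P i := stepQ 59323 Q59323 (allL N59323 (tt N31679 (iv1 F172599)) (tt N31678 F172597) (tt N31594 (iv2 D111273)) (tt N31648 F172595) (tt N76651 F351731) (tt N96309 D199393) (tt N79812 F351735) (tt N31680 F172596))
theorem Q59325 : ∀ i, i < 59325 → P i := stepQ 59324 Q59324 (allL N59324 (tt N96310 D199394) (tt N96311 D199395) (tt N96309 (iv2 F411957)) (tt N31595 F172600) (tt N96312 D199396) (tt N31594 (iv5 D111274)) (tt N96313 D199397) (tt N31681 F172601))
theorem Q59326 : ∀ i, i < 59326 → P i := stepQ 59325 Q59325 (allL N59325 (tt N79808 F327453) (tt N44653 F327454) (tt N79812 F327455) (tt N31596 F172602) (tt N95827 (iv4 F409831)) (tt N50588 F327456) (tt N31594 (iv6 D111275)) (tt N79811 F327457))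
theorem Q59327 : ∀ i, i < 59327 → P i := stepQ 59326 Q59326 (allL N59326 (tt N64499 F329126) (tt N64501 F329127) (tt N31653 F172603) (tt N96313 (iv3 F411974)) (tt N33270 F172604) (tt N65009 (iv5 F350348)) (tt N31595 (iv6 D111276)) (tt N64312 F329128))
theorem Q59328 : ∀ i, i < 59328 → P i := stepQ 59327 Q59327 (allL N59327 (tt N31657 (iv1 F172611)) (tt N31596 (iv0 D111277)) (tt N31654 (iv2 F172606)) (tt N91182 F392188) (tt N58981 F172605) (tt N86397 (iv5 F376094)) (tt N57876 F172607) (tt N31655 (iv7 F172608)))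
theorem Q59329 : ∀ i, i < 59329 → P i := stepQ 59328 Q59328 (allL N59328 (tt N31655 (iv1 F172619)) (tt N31654 F172620) (tt N31657 F172616) (tt N79811 (iv3 F343103)) (tt N31598 F172617) (tt N51130 F343102) (tt N31687 F172618) (tt N31596 (iv7 D111279)))
theorem Q59330 : ∀ i, i < 59330 → P i := stepQ 59329 Q59329 (allL N59329 (tt N35594 F172624) (tt N58483 F172625) (tt N31659 F172622) (tt N56807 (iv3 F337388)) (tt N31597 (iv4 D111280)) (tt N83911 (iv5 F367466)) (tt N56805 F363738) (tt N31658 F172623))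
theorem Q59331 : ∀ i, i < 59331 → P i := stepQ 59330 Q59330 (allL N59330 (tt N31648 (iv1 F172626)) (tt N31599 (iv0 D111281)) (tt N31647 F203767) (tt N65585 F202069) (tt N86941 (iv4 F377790)) (tt N59505 (iv5 F219137)) (tt N86940 F377788) (tt N31646 F203768))
theorem Q59332 : ∀ i, i < 59332 → P i := stepQ 59331 Q59331 (allL N59331 (tt N31599 (iv1 D111282)) (tt N31648 F172631) (tt N31646 F203769) (tt N93842 F402103) (tt N60701 (iv4 F176740)) (tt N59506 F219128) (tt N93841 (iv6 F402104)) (tt N31647 F203770))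
theorem Q59333 : ∀ i, i < 59333 → P i := stepQ 59332 Q59332 (allL N59332 (tt N31647 (iv1 F172632)) (tt N31646 F172630) (tt N31599 (iv2 D111283)) (tt N31680 F172627) (tt N55633 F172628) (tt N96314 D199398) (tt N96315 D199399) (tt N31648 F172629))
theorem Q59334 : ∀ i, i < 59334 → P i := stepQ 59333 Q59333 (allL N59333 (tt N96316 D199400) (tt N96317 D199401) (tt N96314 (iv2 F411976)) (tt N31600 F172633) (tt N71898 (iv4 F220837)) (tt N31599 (iv5 D111284)) (tt N85243 (iv6 F372024)) (tt N31649 F172634))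
theorem Q59335 : ∀ i, i < 59335 → P i := stepQ 59334 Q59334 (allL N59334 (tt N96318 D199402) (tt N58005 (iv0 F406146)) (tt N96315 (iv2 F411981)) (tt N31601 F172635) (tt N55634 F172636) (tt N94616 (iv5 F405224)) (tt N31599 (iv6 D111285)) (tt N94615 F405221))
theorem Q59336 : ∀ i, i < 59336 → P i := stepQ 59335 Q59335 (allL N59335 (tt N62210 (iv1 F345069)) (tt N62212 F345051) (tt N31683 F172637) (tt N85243 (iv3 F372023)) (tt N40061 F172638) (tt N57761 (iv5 F345068)) (tt N31600 (iv6 D111286)) (tt N53205 F345067))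
theorem Q59337 : ∀ i, i < 59337 → P i := stepQ 59336 Q59336 (allL N59336 (tt N31687 (iv1 F172645)) (tt N31601 (iv0 D111287)) (tt N31684 (iv2 F172642)) (tt N82025 F351064) (tt N40323 F172639) (tt N62176 F362636) (tt N57992 (iv6 F172644)) (tt N31685 F172641))
theorem Q59338 : ∀ i, i < 59338 → P i := stepQ 59337 Q59337 (allL N59337 (tt N44358 F336681) (tt N40425 F172655) (tt N31688 F172652) (tt N96319 D199403) (tt N31602 (iv4 D111290)) (tt N40372 F336682) (tt N57982 F172653) (tt N31690 F172654))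
theorem Q59339 : ∀ i, i < 59339 → P i := stepQ 59338 Q59338 (allL N59338 (tt N55639 F172660) (tt N31604 (iv0 D111291)) (tt N31900 (iv2 F172658)) (tt N55609 (iv3 F172659)) (tt N35755 (iv4 F172662)) (tt N93699 F401605) (tt N55646 F172657) (tt N45771 F327213))
theorem Q59340 : ∀ i, i < 59340 → P i := stepQ 59339 Q59339 (allL N59339 (tt N31604 (iv1 D111292)) (tt N55639 F172663) (tt N45771 F327218) (tt N31884 (iv3 F172666)) (tt N35756 F172665) (tt N78050 (iv5 F245604)) (tt N72667 (iv6 F222830)) (tt N31900 F172664))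
theorem Q59341 : ∀ i, i < 59341 → P i := stepQ 59340 Q59340 (allL N59340 (tt N45771 F327216) (tt N31900 F172673) (tt N55639 F172668) (tt N31610 F172669) (tt N65853 (iv4 F202660)) (tt N56944 F172670) (tt N31717 F172671) (tt N31604 (iv7 D111293)))
theorem Q59342 : ∀ i, i < 59342 → P i := stepQ 59341 Q59341 (allL N59341 (tt N31975 F172676) (tt N95711 F409255) (tt N95710 F409247) (tt N31605 (iv3 D111294)) (tt N31886 F172674) (tt N69700 (iv5 F215911)) (tt N96320 D199404) (tt N31693 F172675))
theorem Q59343 : ∀ i, i < 59343 → P i := stepQ 59342 Q59342 (allL N59342 (tt N31777 (iv1 F172680)) (tt N31781 F172681) (tt N31692 F172677) (tt N96320 (iv3 F412013)) (tt N33254 F172678) (tt N96321 D199405) (tt N31605 (iv6 D111295)) (tt N40320 F172679))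
theorem Q59344 : ∀ i, i < 59344 → P i := stepQ 59343 Q59343 (allL N59343 (tt N31720 (iv1 F172684)) (tt N31606 (iv0 D111296)) (tt N31719 F173106) (tt N96322 D199406) (tt N65445 F347816) (tt N96310 (iv5 F411962)) (tt N96323 D199407) (tt N31718 F173107))
theorem Q59345 : ∀ i, i < 59345 → P i := stepQ 59344 Q59344 (allL N59344 (tt N31606 (iv1 D111297)) (tt N31720 F172690) (tt N31718 F173103) (tt N31967 (iv3 F172685)) (tt N45930 F323597) (tt N96311 (iv5 F411968)) (tt N57893 (iv6 F359288)) (tt N31719 F173104))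
theorem Q59346 : ∀ i, i < 59346 → P i := stepQ 59345 Q59345 (allL N59345 (tt N31719 (iv1 F172691)) (tt N31718 F172689) (tt N31606 (iv2 D111298)) (tt N31696 F172687) (tt N94172 (iv4 F403531)) (tt N96324 D199408) (tt N80602 (iv6 F353980)) (tt N31720 F172688))
theorem Q59347 : ∀ i, i < 59347 → P i := stepQ 59346 Q59346 (allL N59346 (tt N59470 (iv1 F230758)) (tt N59473 F232084) (tt N96324 (iv2 F412037)) (tt N31607 F172692) (tt N96325 D199409) (tt N31606 (iv5 D111299)) (tt N95712 (iv6 F409257)) (tt N31721 F172693))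
theorem Q59348 : ∀ i, i < 59348 → P i := stepQ 59347 Q59347 (allL N59347 (tt N80603 (iv1 F353991)) (tt N45763 F353988) (tt N80602 F353989) (tt N31608 F172694) (tt N94173 (iv4 F403541)) (tt N80601 (iv5 F363323)) (tt N31606 (iv6 D111300)) (tt N64985 F353990))
theorem Q59349 : ∀ i, i < 59349 → P i := stepQ 59348 Q59348 (allL N59348 (tt N31705 (iv1 F172704)) (tt N31608 (iv0 D111302)) (tt N31702 (iv2 F172700)) (tt N94959 (iv3 F406506)) (tt N59589 (iv4 F173183)) (tt N34987 F341342) (tt N57911 F172701) (tt N31703 (iv7 F172702)))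
theorem Q59350 : ∀ i, i < 59350 → P i := stepQ 59349 Q59349 (allL N59349 (tt N31608 (iv1 D111303)) (tt N31705 F172697) (tt N31703 F172703) (tt N47136 F346347) (tt N35888 F172698) (tt N34985 F341338) (tt N96326 D199410) (tt N31702 (iv7 F172699)))
theorem Q59351 : ∀ i, i < 59351 → P i := stepQ 59350 Q59350 (allL N59350 (tt N31703 (iv1 F172710)) (tt N31702 F172711) (tt N31705 F172707) (tt N64985 (iv3 F353985)) (tt N31610 F172708) (tt N45373 F341339) (tt N31727 F172709) (tt N31608 (iv7 D111305)))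
theorem Q59352 : ∀ i, i < 59352 → P i := stepQ 59351 Q59351 (allL N59351 (tt N31618 F172714) (tt N31744 F172715) (tt N31708 F172712) (tt N93852 (iv3 F402147)) (tt N31609 (iv4 D111306)) (tt N78743 F360038) (tt N72486 (iv6 F222604)) (tt N31706 F172713))
theorem Q59353 : ∀ i, i < 59353 → P i := stepQ 59352 Q59352 (allL N59352 (tt N31696 (iv1 F172717)) (tt N31611 (iv0 D111307)) (tt N31695 F204646) (tt N65663 (iv3 F202211)) (tt N60639 (iv4 F176684)) (tt N96316 (iv5 F411988)) (tt N57904 (iv6 F348805)) (tt N31694 F204647))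
theorem Q59354 : ∀ i, i < 59354 → P i := stepQ 59353 Q59353 (allL N59353 (tt N31611 (iv1 D111308)) (tt N31696 F172722) (tt N31694 F204649) (tt N56854 F348767) (tt N60579 (iv4 F176603)) (tt N96317 (iv5 F411996)) (tt N44407 F348768) (tt N31695 F204650))
theorem Q59355 : ∀ i, i < 59355 → P i := stepQ 59354 Q59354 (allL N59354 (tt N31695 (iv1 F172723)) (tt N31694 F172721) (tt N31611 (iv2 D111309)) (tt N31720 F172718) (tt N35846 F172719) (tt N96327 D199411) (tt N64986 (iv6 F365643)) (tt N31696 F172720))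
theorem Q59356 : ∀ i, i < 59356 → P i := stepQ 59355 Q59355 (allL N59355 (tt N59428 (iv1 F219102)) (tt N59432 F219134) (tt N96327 (iv2 F412053)) (tt N31612 F172724) (tt N96328 D199412) (tt N31611 (iv5 D111310)) (tt N96329 D199413) (tt N31697 F172725))
theorem Q59357 : ∀ i, i < 59357 → P i := stepQ 59356 Q59356 (allL N59356 (tt N96330 D199414) (tt N96331 D199415) (tt N64986 (iv2 F365642)) (tt N31613 F172726) (tt N35848 F172727) (tt N96332 D199416) (tt N31611 (iv6 D111311)) (tt N96333 D199417))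
theorem Q59358 : ∀ i, i < 59358 → P i := stepQ 59357 Q59357 (allL N59357 (tt N64850 (iv1 F350347)) (tt N96334 D199418) (tt N31723 F172728) (tt N96329 (iv3 F412067)) (tt N40516 F172729) (tt N96335 D199419) (tt N31612 (iv6 D111312)) (tt N95709 (iv7 F409242)))
theorem Q59359 : ∀ i, i < 59359 → P i := stepQ 59358 Q59358 (allL N59358 (tt N31727 (iv1 F172737)) (tt N31613 (iv0 D111313)) (tt N31724 F202499) (tt N96336 D199420) (tt N59615 (iv4 F173226)) (tt N58029 (iv5 F173229)) (tt N78147 (iv6 F343794)) (tt N31725 F202500))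
theorem Q59360 : ∀ i, i < 59360 → P i := stepQ 59359 Q59359 (allL N59359 (tt N31613 (iv1 D111314)) (tt N31727 F172730) (tt N31725 F202504) (tt N64979 F365916) (tt N59616 F173232) (tt N58030 (iv5 F172731)) (tt N57898 (iv6 F172732)) (tt N31724 F202505))
theorem Q59361 : ∀ i, i < 59361 → P i := stepQ 59360 Q59360 (allL N59360 (tt N94680 (iv1 F405502)) (tt N94679 (iv0 F405497)) (tt N31726 F172733) (tt N96332 (iv3 F412094)) (tt N96337 D199421) (tt N31613 (iv5 D111315)) (tt N96335 (iv6 F412106)) (tt N64977 F362788))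
theorem Q59362 : ∀ i, i < 59362 → P i := stepQ 59361 Q59361 (allL N59361 (tt N31725 (iv1 F172738)) (tt N31724 F172742) (tt N31727 F172734) (tt N96333 (iv3 F412096)) (tt N31615 F172735) (tt N64977 (iv5 F362789)) (tt N31705 F172736) (tt N31613 (iv7 D111316)))
theorem Q59363 : ∀ i, i < 59363 → P i := stepQ 59362 Q59362 (allL N59362 (tt N31754 (iv1 F172750)) (tt N31621 F172745) (tt N31728 F172743) (tt N96338 D199422) (tt N31614 (iv4 D111317)) (tt N73534 (iv5 F343768)) (tt N72954 (iv6 F223652)) (tt N31730 F172744))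
theorem Q59364 : ∀ i, i < 59364 → P i := stepQ 59363 Q59363 (allL N59363 (tt N31747 (iv1 F172751)) (tt N31616 (iv0 D111318)) (tt N31746 (iv2 F412129)) (tt N96339 D199424) (tt N96340 D199425) (tt N96341 D199426) (tt N96342 D199427) (tt N31745 F412128))
theorem Q59365 : ∀ i, i < 59365 → P i := stepQ 59364 Q59364 (allL N59364 (tt N31616 (iv1 D111319)) (tt N31747 F172756) (tt N31745 F412130) (tt N95713 F412131) (tt N96343 D199428) (tt N96344 D199429) (tt N57917 F412132) (tt N31746 F412133))
theorem Q59366 : ∀ i, i < 59366 → P i := stepQ 59365 Q59365 (allL N59365 (tt N31746 (iv1 F172757)) (tt N31745 F172755) (tt N31616 (iv2 D111320)) (tt N31735 F172752) (tt N35660 F172753) (tt N94852 (iv5 F406150)) (tt N96345 D199430) (tt N31747 F172754))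
theorem Q59367 : ∀ i, i < 59367 → P i := stepQ 59366 Q59366 (allL N59366 (tt N95226 (iv1 F407494)) (tt N96346 D199431) (tt N94852 (iv2 F406149)) (tt N31617 F172758) (tt N58155 (iv4 F219103)) (tt N31616 (iv5 D111321)) (tt N95719 (iv6 F409295)) (tt N31749 F172759))
theorem Q59368 : ∀ i, i < 59368 → P i := stepQ 59367 Q59367 (allL N59367 (tt N96347 D199432) (tt N96348 D199433) (tt N96345 (iv2 F412160)) (tt N31618 F172760) (tt N35662 F172761) (tt N64586 (iv5 F362847)) (tt N31616 (iv6 D111322)) (tt N64585 F362845))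
theorem Q59369 : ∀ i, i < 59369 → P i := stepQ 59368 Q59368 (allL N59368 (tt N31735 (iv1 F172769)) (tt N31619 (iv0 D111326)) (tt N31734 F355964) (tt N60520 (iv3 F176540)) (tt N96349 D199434) (tt N96350 D199435) (tt N57924 (iv6 F405750)) (tt N31733 F355965))
theorem Q59370 : ∀ i, i < 59370 → P i := stepQ 59369 Q59369 (allL N59369 (tt N31619 (iv1 D111327)) (tt N31735 F172773) (tt N31733 F355967) (tt N96351 D199436) (tt N95528 (iv4 F408502)) (tt N96352 D199437) (tt N96353 D199438) (tt N31734 F355968))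
theorem Q59371 : ∀ i, i < 59371 → P i := stepQ 59370 Q59370 (allL N59370 (tt N31734 (iv1 F172774)) (tt N31733 F172772) (tt N31619 (iv2 D111328)) (tt N31747 F172770) (tt N71033 (iv4 F219319)) (tt N96354 D199439) (tt N96355 D199440) (tt N31735 F172771))
theorem Q59372 : ∀ i, i < 59372 → P i := stepQ 59371 Q59371 (allL N59371 (tt N96356 D199441) (tt N96357 D199442) (tt N96354 (iv2 F412202)) (tt N31620 F172775) (tt N96358 D199443) (tt N31619 (iv5 D111329)) (tt N96359 D199444) (tt N31737 F172776))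
theorem Q59373 : ∀ i, i < 59373 → P i := stepQ 59372 Q59372 (allL N59372 (tt N96360 D199445) (tt N96361 D199446) (tt N96355 (iv2 F412207)) (tt N31621 F172777) (tt N46782 F365620) (tt N96362 D199447) (tt N31619 (iv6 D111330)) (tt N96363 D199448))
theorem Q59374 : ∀ i, i < 59374 → P i := stepQ 59373 Q59373 (allL N59373 (tt N96364 D199449) (tt N96365 D199450) (tt N31752 F172778) (tt N96359 (iv3 F412229)) (tt N69707 (iv4 F215929)) (tt N96337 (iv5 F412115)) (tt N31620 (iv6 D111331)) (tt N95717 (iv7 F409286)))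
theorem Q59375 : ∀ i, i < 59375 → P i := stepQ 59374 Q59374 (allL N59374 (tt N94683 (iv1 F405513)) (tt N59764 (iv0 F173943)) (tt N31753 F172779) (tt N96362 (iv3 F412231)) (tt N96335 (iv4 F412105)) (tt N31621 (iv5 D111332)) (tt N96337 (iv6 F412116)) (tt N79137 (iv7 F343775)))
theorem Q59376 : ∀ i, i < 59376 → P i := stepQ 59375 Q59375 (allL N59375 (tt N31730 (iv1 F172782)) (tt N31728 F172783) (tt N31754 F172780) (tt N96363 (iv3 F412233)) (tt N69706 (iv4 F215923)) (tt N79137 F343773) (tt N31744 F172781) (tt N31621 (iv7 D111333)))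
theorem Q59377 : ∀ i, i < 59377 → P i := stepQ 59376 Q59376 (allL N59376 (tt N31626 F361205) (tt N31624 F361206) (tt N31622 (iv2 D111334)) (tt N96366 D199451) (tt N74239 F361207) (tt N96367 D199452) (tt N96368 D199453) (tt N31623 (iv7 F172784)))
theorem Q59378 : ∀ i, i < 59378 → P i := stepQ 59377 Q59377 (allL N59377 (tt N96351 (iv1 F414298)) (tt N96369 D199455) (tt N95624 (iv2 F408934)) (tt N31622 (iv3 D111335)) (tt N59843 F174289) (tt N96370 D199456) (tt N96371 D199457) (tt N95626 (iv7 F408939)))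
theorem Q59379 : ∀ i, i < 59379 → P i := stepQ 59378 Q59378 (allL N59378 (tt N56860 (iv1 F361197)) (tt N58151 (iv0 F172785)) (tt N74239 F361213) (tt N96372 D199458) (tt N31622 (iv4 D111336)) (tt N76239 (iv5 F363668)) (tt N93832 F402068) (tt N74238 (iv7 F361212)))
theorem Q59380 : ∀ i, i < 59380 → P i := stepQ 59379 Q59379 (allL N59379 (tt N96373 D199459) (tt N59401 (iv0 F402076)) (tt N96367 (iv2 F412259)) (tt N96370 (iv3 F412271)) (tt N96374 D199460) (tt N31622 (iv5 D111337)) (tt N96367 F412262) (tt N96375 D199461))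
theorem Q59381 : ∀ i, i < 59381 → P i := stepQ 59380 Q59380 (allL N59380 (tt N64581 F402070) (tt N93852 (iv0 F402150)) (tt N96368 (iv2 F412263)) (tt N96371 (iv3 F412273)) (tt N93832 (iv4 F402069)) (tt N96368 (iv5 F412265)) (tt N31622 (iv6 D111338)) (tt N96376 D199462))
theorem Q59382 : ∀ i, i < 59382 → P i := stepQ 59381 Q59381 (allL N59381 (tt N31624 F361209) (tt N31626 F361210) (tt N31623 F172786) (tt N95626 (iv3 F408938)) (tt N74238 F361211) (tt N96375 (iv5 F412290)) (tt N96377 D199463) (tt N31622 (iv7 D111339)))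
theorem Q59383 : ∀ i, i < 59383 → P i := stepQ 59382 Q59382 (allL N59382 (tt N96378 D199464) (tt N96339 F412127) (tt N79234 F349853) (tt N31623 (iv3 D111340)) (tt N35539 F349854) (tt N96379 D199465) (tt N35538 F349855) (tt N96366 (iv7 F412255)))
theorem Q59384 : ∀ i, i < 59384 → P i := stepQ 59383 Q59383 (allL N59383 (tt N58151 (iv1 F361215)) (tt N56860 F361214) (tt N74238 F361208) (tt N58142 (iv3 F172787)) (tt N31623 (iv4 D111341)) (tt N61236 (iv5 F363667)) (tt N96380 D199466) (tt N74239 F361204))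
theorem Q59385 : ∀ i, i < 59385 → P i := stepQ 59384 Q59384 (allL N59384 (tt N59401 F351070) (tt N96373 F412291) (tt N96375 (iv2 F412289)) (tt N96379 (iv3 F412307)) (tt N96381 D199467) (tt N31623 (iv5 D111342)) (tt N96382 D199468) (tt N96367 (iv7 F412260)))
theorem Q59386 : ∀ i, i < 59386 → P i := stepQ 59385 Q59385 (allL N59385 (tt N96338 F412121) (tt N79132 F349857) (tt N96377 (iv2 F412298)) (tt N35538 F349858) (tt N96380 (iv4 F412311)) (tt N96383 D199469) (tt N31623 (iv6 D111343)) (tt N79237 F349859))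
theorem Q59387 : ∀ i, i < 59387 → P i := stepQ 59386 Q59386 (allL N59386 (tt N95992 (iv1 F410541)) (tt N95991 F410539) (tt N31625 F172790) (tt N31759 F172791) (tt N96384 D199470) (tt N31624 (iv5 D111346)) (tt N82299 (iv6 F364122)) (tt N95704 (iv7 F409215)))
theorem Q59388 : ∀ i, i < 59388 → P i := stepQ 59387 Q59387 (allL N59387 (tt N95704 (iv1 F409217)) (tt N31625 (iv0 D111347)) (tt N95992 (iv2 F411944)) (tt N96385 D199471) (tt N96386 D199472) (tt N96306 (iv5 F411938)) (tt N96387 D199473) (tt N95991 F411946))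
theorem Q59389 : ∀ i, i < 59389 → P i := stepQ 59388 Q59388 (allL N59388 (tt N31625 (iv1 D111348)) (tt N95704 F409216) (tt N95991 (iv2 F411947)) (tt N96388 D199474) (tt N96389 D199475) (tt N96307 F411953) (tt N96390 D199476) (tt N95992 (iv7 F411948)))
theorem Q59390 : ∀ i, i < 59390 → P i := stepQ 59389 Q59389 (allL N59389 (tt N96391 D199477) (tt N96392 D199478) (tt N96384 (iv2 F412315)) (tt N67874 (iv3 F364003)) (tt N31625 (iv4 D111349)) (tt N96393 D199479) (tt N67873 F364005) (tt N95986 (iv7 F410524)))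
theorem Q59391 : ∀ i, i < 59391 → P i := stepQ 59390 Q59390 (allL N59390 (tt N96394 D199480) (tt N96387 (iv0 F412318)) (tt N82299 F364125) (tt N31629 F172792) (tt N67873 (iv4 F364006)) (tt N57944 F172793) (tt N31625 (iv6 D111350)) (tt N96395 D199481))
theorem Q59392 : ∀ i, i < 59392 → P i := stepQ 59391 Q59391 (allL N59391 (tt N96341 (iv1 F412140)) (tt N96344 (iv0 F412157)) (tt N94862 (iv2 F406186)) (tt N31627 (iv3 D111352)) (tt N94690 F405545) (tt N35593 F172797) (tt N96396 D199482) (tt N31766 F172798))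
theorem Q59393 : ∀ i, i < 59393 → P i := stepQ 59392 Q59392 (allL N59392 (tt N31763 F337471) (tt N35199 F336749) (tt N31765 F172799) (tt N96396 (iv3 F412327)) (tt N35152 F336750) (tt N64293 F345334) (tt N31627 (iv6 D111353)) (tt N64302 F336751))
theorem Q59394 : ∀ i, i < 59394 → P i := stepQ 59393 Q59393 (allL N59393 (tt N96350 F412182) (tt N96352 (iv0 F412193)) (tt N51037 (iv2 F354408)) (tt N31628 (iv3 D111354)) (tt N53674 (iv4 F354415)) (tt N40424 F172800) (tt N50830 F354410) (tt N31764 F172801))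
theorem Q59395 : ∀ i, i < 59395 → P i := stepQ 59394 Q59394 (allL N59394 (tt N72303 (iv1 F337446)) (tt N72302 (iv0 F337444)) (tt N31767 F172802) (tt N50830 (iv3 F354414)) (tt N69720 (iv4 F215946)) (tt N57818 F337422) (tt N31628 (iv6 D111355)) (tt N51038 (iv7 F349181)))
theorem Q59396 : ∀ i, i < 59396 → P i := stepQ 59395 Q59395 (allL N59395 (tt N31772 (iv1 F172806)) (tt N31629 (iv0 D111356)) (tt N31770 F362236) (tt N96397 D199483) (tt N72428 (iv4 F362240)) (tt N96398 D199484) (tt N96399 D199485) (tt N31771 F362237))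
theorem Q59397 : ∀ i, i < 59397 → P i := stepQ 59396 Q59396 (allL N59396 (tt N31629 (iv1 D111357)) (tt N31772 F172803) (tt N31771 F362233) (tt N96400 D199486) (tt N72429 (iv4 F351246)) (tt N48315 F345423) (tt N31760 F345424) (tt N31770 F362234))
theorem Q59398 : ∀ i, i < 59398 → P i := stepQ 59397 Q59397 (allL N59397 (tt N31771 (iv1 F172807)) (tt N31770 F172808) (tt N31772 F172804) (tt N96395 (iv3 F412322)) (tt N71104 (iv4 F332964)) (tt N57950 F172805) (tt N95994 (iv6 F410553)) (tt N31629 (iv7 D111358)))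
theorem Q59399 : ∀ i, i < 59399 → P i := stepQ 59398 Q59398 (allL N59398 (tt N95694 F409170) (tt N31631 (iv0 D111360)) (tt N96307 F411952) (tt N95460 F408263) (tt N96401 D199487) (tt N95991 (iv5 F410540)) (tt N96402 D199488) (tt N96306 F411945))
theorem Q59400 : ∀ i, i < 59400 → P i := stepQ 59399 Q59399 (allL N59399 (tt N31631 (iv1 D111361)) (tt N95694 F409171) (tt N96306 (iv2 F411942)) (tt N96403 D199489) (tt N96404 D199490) (tt N95992 (iv5 F410542)) (tt N78452 (iv6 F410543)) (tt N96307 (iv7 F411950)))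
theorem Q59401 : ∀ i, i < 59401 → P i := stepQ 59400 Q59400 (allL N59400 (tt N96307 (iv1 F411949)) (tt N96306 F411939) (tt N31631 (iv2 D111362)) (tt N40428 F172813) (tt N57977 F172814) (tt N96405 D199491) (tt N59093 (iv6 F364756)) (tt N95694 (iv7 F409169)))
theorem Q59402 : ∀ i, i < 59402 → P i := stepQ 59401 Q59401 (allL N59401 (tt N59379 F402076) (tt N59384 (iv0 F351070)) (tt N96405 (iv2 F412369)) (tt N31632 F172815) (tt N96406 D199492) (tt N31631 (iv5 D111363)) (tt N74560 F351069) (tt N59591 (iv7 F173198)))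
theorem Q59403 : ∀ i, i < 59403 → P i := stepQ 59402 Q59402 (allL N59402 (tt N95266 F407638) (tt N86217 (iv0 F375414)) (tt N40430 F172818) (tt N74560 (iv3 F360130)) (tt N40111 F172819) (tt N74559 F360131) (tt N31632 (iv6 D111365)) (tt N96407 D199493))
theorem Q59404 : ∀ i, i < 59404 → P i := stepQ 59403 Q59403 (allL N59403 (tt N40423 F172821) (tt N31633 (iv0 D111366)) (tt N40419 (iv2 F175471)) (tt N73748 (iv3 F331102)) (tt N58082 (iv4 F172823)) (tt N73744 F331098) (tt N96408 D199494) (tt N40420 (iv7 F175469)))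
theorem Q59405 : ∀ i, i < 59405 → P i := stepQ 59404 Q59404 (allL N59404 (tt N31633 (iv1 D111367)) (tt N40423 F172824) (tt N40420 (iv2 F175474)) (tt N96409 D199495) (tt N58083 F172825) (tt N93424 (iv5 F400692)) (tt N57981 (iv6 F175106)) (tt N40419 F175473))
theorem Q59406 : ∀ i, i < 59406 → P i := stepQ 59405 Q59405 (allL N59405 (tt N40420 (iv1 F172829)) (tt N40419 F172830) (tt N40423 F172826) (tt N59092 (iv3 F364760)) (tt N31636 F172827) (tt N94734 (iv5 F405725)) (tt N57890 F172828) (tt N31633 (iv7 D111368)))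
theorem Q59407 : ∀ i, i < 59407 → P i := stepQ 59406 Q59406 (allL N59406 (tt N58110 F172833) (tt N31642 F172840) (tt N40414 F172831) (tt N96410 D199496) (tt N31634 (iv4 D111369)) (tt N96411 D199497) (tt N59678 (iv6 F173474)) (tt N40417 F172832))
theorem Q59408 : ∀ i, i < 59408 → P i := stepQ 59407 Q59407 (allL N59407 (tt N31642 F172838) (tt N58110 F172839) (tt N40417 F172835) (tt N96412 D199498) (tt N31635 (iv4 D111370)) (tt N96413 D199499) (tt N57985 F172836) (tt N40414 F172837))
theorem Q59409 : ∀ i, i < 59409 → P i := stepQ 59408 Q59408 (allL N59408 (tt N31637 (iv1 D111372)) (tt N40428 F172852) (tt N40426 F172855) (tt N96414 D199500) (tt N35210 F324526) (tt N31761 (iv5 F172856)) (tt N35209 F324527) (tt N40427 F172853))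
theorem Q59410 : ∀ i, i < 59410 → P i := stepQ 59409 Q59409 (allL N59409 (tt N58720 (iv1 F173305)) (tt N58722 F172859) (tt N59593 (iv2 F343744)) (tt N31638 F172857) (tt N62411 F365335) (tt N31637 (iv5 D111373)) (tt N62206 (iv6 F345426)) (tt N40429 F172858))
theorem Q59411 : ∀ i, i < 59411 → P i := stepQ 59410 Q59410 (allL N59410 (tt N35030 F325342) (tt N34904 F325343) (tt N35026 F325344) (tt N31639 F172860) (tt N31834 F172861) (tt N72300 (iv5 F344453)) (tt N31637 (iv6 D111374)) (tt N35027 (iv7 F326228)))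
theorem Q59412 : ∀ i, i < 59412 → P i := stepQ 59411 Q59411 (allL N59411 (tt N96415 D199501) (tt N64870 (iv0 F364126)) (tt N59592 (iv2 F173199)) (tt N62206 F345427) (tt N40103 F172863) (tt N72299 (iv5 F345428)) (tt N31638 (iv6 D111375)) (tt N96416 D199502))
theorem Q59413 : ∀ i, i < 59413 → P i := stepQ 59412 Q59412 (allL N59412 (tt N96417 D199503) (tt N95280 (iv0 F407703)) (tt N58120 F172864) (tt N72300 (iv3 F345430)) (tt N96418 D199504) (tt N31639 (iv5 D111376)) (tt N72299 F345429) (tt N58118 F172865))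
theorem Q59414 : ∀ i, i < 59414 → P i := stepQ 59413 Q59413 (allL N59413 (tt N82433 (iv1 F360701)) (tt N31640 (iv0 D111377)) (tt N95778 (iv2 F409678)) (tt N96419 D199505) (tt N96420 D199506) (tt N96421 D199507) (tt N82023 (iv6 F409679)) (tt N95777 F409677))
theorem Q59415 : ∀ i, i < 59415 → P i := stepQ 59414 Q59414 (allL N59414 (tt N31640 (iv1 D111378)) (tt N82433 F360702) (tt N95777 F409674) (tt N96422 D199508) (tt N95792 (iv4 F409673)) (tt N96423 D199509) (tt N82427 F409675) (tt N95778 (iv7 F409676)))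
theorem Q59416 : ∀ i, i < 59416 → P i := stepQ 59415 Q59415 (allL N59415 (tt N95778 (iv1 F409599)) (tt N95777 F409597) (tt N31640 (iv2 D111379)) (tt N94949 (iv3 F406465)) (tt N60075 (iv4 F175479)) (tt N96424 D199510) (tt N96425 D199511) (tt N82433 (iv7 F360700)))
theorem Q59417 : ∀ i, i < 59417 → P i := stepQ 59416 Q59416 (allL N59416 (tt N96426 D199512) (tt N96427 D199513) (tt N96424 (iv2 F412463)) (tt N31641 F172866) (tt N61152 F349941) (tt N31640 (iv5 D111380)) (tt N96428 D199514) (tt N59513 (iv7 F173047)))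
theorem Q59418 : ∀ i, i < 59418 → P i := stepQ 59417 Q59417 (allL N59417 (tt N56876 F362031) (tt N96429 D199515) (tt N96425 (iv2 F412466)) (tt N31642 F172867) (tt N60077 (iv4 F175487)) (tt N95084 (iv5 F406978)) (tt N31640 (iv6 D111381)) (tt N96430 D199516))
theorem Q59419 : ∀ i, i < 59419 → P i := stepQ 59418 Q59418 (allL N59418 (tt N96431 D199517) (tt N96432 D199518) (tt N59516 (iv2 F173052)) (tt N96428 (iv3 F412478)) (tt N40093 F172868) (tt N95086 (iv5 F406980)) (tt N31641 (iv6 D111382)) (tt N96433 D199519))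
theorem Q59420 : ∀ i, i < 59420 → P i := stepQ 59419 Q59419 (allL N59419 (tt N40417 (iv1 F172872)) (tt N40414 F172873) (tt N58110 F172869) (tt N96430 (iv3 F412488)) (tt N40338 F172870) (tt N94710 (iv5 F405626)) (tt N40336 F172871) (tt N31642 (iv7 D111383)))
theorem Q59421 : ∀ i, i < 59421 → P i := stepQ 59420 Q59420 (allL N59420 (tt N31643 (iv1 D111384)) (tt N94949 F406469) (tt N94947 F406458) (tt N95695 (iv3 F409172)) (tt N71730 (iv4 F220428)) (tt N96434 D199520) (tt N96435 D199521) (tt N94948 (iv7 F406461)))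
theorem Q59422 : ∀ i, i < 59422 → P i := stepQ 59421 Q59421 (allL N59421 (tt N94948 F406464) (tt N94947 F406457) (tt N31643 (iv2 D111385)) (tt N82433 (iv3 F360699)) (tt N58495 F172874) (tt N96436 D199522) (tt N96437 D199523) (tt N94949 (iv7 F406467)))
theorem Q59423 : ∀ i, i < 59423 → P i := stepQ 59422 Q59422 (allL N59422 (tt N59958 F223799) (tt N96438 D199524) (tt N96436 (iv2 F412508)) (tt N31644 F172875) (tt N96439 D199525) (tt N31643 (iv5 D111386)) (tt N96440 D199526) (tt N59515 (iv7 F173051)))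
theorem Q59424 : ∀ i, i < 59424 → P i := stepQ 59423 Q59423 (allL N59423 (tt N82009 F331242) (tt N91839 (iv0 F394637)) (tt N96437 (iv2 F412512)) (tt N31645 F172876) (tt N58497 F172877) (tt N96441 D199527) (tt N31643 (iv6 D111387)) (tt N58108 (iv7 F172878)))
theorem Q59425 : ∀ i, i < 59425 → P i := stepQ 59424 Q59424 (allL N59424 (tt N96442 D199528) (tt N96443 D199529) (tt N59514 (iv2 F173048)) (tt N96440 (iv3 F412528)) (tt N40074 F172879) (tt N96444 D199530) (tt N31644 (iv6 D111388)) (tt N96445 D199531))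
theorem Q59426 : ∀ i, i < 59426 → P i := stepQ 59425 Q59425 (allL N59425 (tt N96446 D199532) (tt N82058 (iv0 F341267)) (tt N58112 F172880) (tt N96441 (iv3 F412531)) (tt N96447 D199533) (tt N31645 (iv5 D111389)) (tt N96444 (iv6 F412544)) (tt N58109 F172881))
theorem Q59427 : ∀ i, i < 59427 → P i := stepQ 59426 Q59426 (allL N59426 (tt N95695 (iv1 F409187)) (tt N95697 F409186) (tt N65581 (iv2 F203772)) (tt N31646 (iv3 D111391)) (tt N65507 F201904) (tt N58157 F172885) (tt N96448 D199534) (tt N65585 (iv7 F203766)))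
theorem Q59428 : ∀ i, i < 59428 → P i := stepQ 59427 Q59427 (allL N59427 (tt N65899 (iv1 F377793)) (tt N93623 (iv0 F401314)) (tt N60701 F203771) (tt N96449 D199535) (tt N31646 (iv4 D111392)) (tt N71902 (iv5 F220845)) (tt N96450 D199536) (tt N86941 F377792))
theorem Q59429 : ∀ i, i < 59429 → P i := stepQ 59428 Q59428 (allL N59428 (tt N59503 (iv1 F219101)) (tt N59355 F219102) (tt N59506 (iv2 F219129)) (tt N58157 (iv3 F172884)) (tt N56765 F172883) (tt N31646 (iv5 D111393)) (tt N96451 D199537) (tt N59505 F219133))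
theorem Q59430 : ∀ i, i < 59430 → P i := stepQ 59429 Q59429 (allL N59429 (tt N93743 F401742) (tt N96412 F412410) (tt N93841 F402106) (tt N96448 (iv3 F412563)) (tt N96450 (iv4 F412568)) (tt N95062 (iv5 F406897)) (tt N31646 (iv6 D111394)) (tt N96452 D199538))
theorem Q59431 : ∀ i, i < 59431 → P i := stepQ 59430 Q59430 (allL N59430 (tt N96453 D199539) (tt N96419 (iv0 F412444)) (tt N94848 (iv2 F406128)) (tt N31647 (iv3 D111396)) (tt N94847 F406127) (tt N96454 D199540) (tt N96455 D199541) (tt N93842 (iv7 F402105)))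
theorem Q59432 : ∀ i, i < 59432 → P i := stepQ 59431 Q59431 (allL N59431 (tt N93623 (iv1 F401315)) (tt N65899 (iv0 F202758)) (tt N86941 (iv2 F377789)) (tt N36257 (iv3 F172887)) (tt N31647 (iv4 D111397)) (tt N52256 (iv5 F329355)) (tt N46189 F350087) (tt N60701 (iv7 F203752)))
theorem Q59433 : ∀ i, i < 59433 → P i := stepQ 59432 Q59432 (allL N59432 (tt N59355 (iv1 F219134)) (tt N59503 F219138) (tt N59505 F219131) (tt N96454 (iv3 F412586)) (tt N71900 (iv4 F220841)) (tt N31647 (iv5 D111398)) (tt N43887 F350052) (tt N59506 (iv7 F219130)))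
theorem Q59434 : ∀ i, i < 59434 → P i := stepQ 59433 Q59433 (allL N59433 (tt N57886 (iv1 F354279)) (tt N82552 F350055) (tt N86940 (iv2 F377785)) (tt N96455 (iv3 F412588)) (tt N46189 F350056) (tt N43888 F350057) (tt N31647 (iv6 D111399)) (tt N81697 (iv7 F350058)))
theorem Q59435 : ∀ i, i < 59435 → P i := stepQ 59434 Q59434 (allL N59434 (tt N96317 (iv1 F411994)) (tt N96316 F411990) (tt N31649 F172888) (tt N96309 (iv3 F411958)) (tt N71892 (iv4 F220830)) (tt N31648 (iv5 D111400)) (tt N96456 D199542) (tt N96314 (iv7 F411978)))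
theorem Q59436 : ∀ i, i < 59436 → P i := stepQ 59435 Q59435 (allL N59435 (tt N96457 D199543) (tt N96458 D199544) (tt N31650 F172889) (tt N79812 (iv3 F351736)) (tt N60457 (iv4 F176453)) (tt N96459 D199545) (tt N31648 (iv6 D111401)) (tt N96460 D199546))
theorem Q59437 : ∀ i, i < 59437 → P i := stepQ 59436 Q59436 (allL N59436 (tt N96314 (iv1 F411979)) (tt N31649 (iv0 D111402)) (tt N96317 F411998) (tt N58010 F354460) (tt N56785 F354461) (tt N31694 F354462) (tt N96461 D199547) (tt N96316 F411991))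
theorem Q59438 : ∀ i, i < 59438 → P i := stepQ 59437 Q59437 (allL N59437 (tt N31649 (iv1 D111403)) (tt N96314 (iv0 F411980)) (tt N96316 (iv2 F411992)) (tt N96462 D199548) (tt N96463 D199549) (tt N31695 F220875) (tt N96464 D199550) (tt N96317 (iv7 F411995)))
theorem Q59439 : ∀ i, i < 59439 → P i := stepQ 59438 Q59438 (allL N59438 (tt N96465 D199551) (tt N96466 D199552) (tt N71892 (iv2 F220829)) (tt N93261 (iv3 F400175)) (tt N31649 (iv4 D111404)) (tt N70988 (iv5 F219088)) (tt N72215 F350375) (tt N71898 (iv7 F220838)))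
theorem Q59440 : ∀ i, i < 59440 → P i := stepQ 59439 Q59439 (allL N59439 (tt N96467 D199553) (tt N83261 (iv0 F350382)) (tt N96456 (iv2 F412591)) (tt N31653 F172890) (tt N72215 (iv4 F350377)) (tt N81877 F350380) (tt N31649 (iv6 D111405)) (tt N80622 F350379))
theorem Q59441 : ∀ i, i < 59441 → P i := stepQ 59440 Q59440 (allL N59440 (tt N96460 (iv1 F412621)) (tt N31650 (iv0 D111406)) (tt N96457 F412598) (tt N96468 D199554) (tt N80417 F365872) (tt N96469 D199555) (tt N58012 (iv6 F365873)) (tt N96458 (iv7 F412604)))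
theorem Q59442 : ∀ i, i < 59442 → P i := stepQ 59441 Q59441 (allL N59441 (tt N31650 (iv1 D111407)) (tt N96460 F412620) (tt N96458 (iv2 F412607)) (tt N44448 F354463) (tt N80416 F362854) (tt N96470 D199556) (tt N44446 F354464) (tt N96457 F412600))
theorem Q59443 : ∀ i, i < 59443 → P i := stepQ 59442 Q59442 (allL N59442 (tt N96471 D199557) (tt N96472 D199558) (tt N96459 (iv2 F412609)) (tt N31656 F172891) (tt N88841 (iv4 F384304)) (tt N31650 (iv5 D111408)) (tt N81877 (iv6 F350381)) (tt N94613 (iv7 F405213)))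
theorem Q59444 : ∀ i, i < 59444 → P i := stepQ 59443 Q59443 (allL N59443 (tt N96458 (iv1 F412603)) (tt N96457 (iv0 F412601)) (tt N96460 (iv2 F412617)) (tt N31657 F172892) (tt N60465 (iv4 F176468)) (tt N94613 F405215) (tt N94615 (iv6 F405219)) (tt N31650 (iv7 D111409)))
theorem Q59445 : ∀ i, i < 59445 → P i := stepQ 59444 Q59444 (allL N59444 (tt N96421 (iv1 F412452)) (tt N96423 (iv0 F412461)) (tt N96473 D199559) (tt N31651 (iv3 D111410)) (tt N61155 (iv4 F353545)) (tt N31691 F172893) (tt N96474 D199560) (tt N69687 (iv7 F215900)))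
theorem Q59446 : ∀ i, i < 59446 → P i := stepQ 59445 Q59445 (allL N59445 (tt N95996 F411441) (tt N96000 (iv0 F410571)) (tt N64794 (iv2 F329926)) (tt N96474 (iv3 F412671)) (tt N38405 F172894) (tt N96475 D199561) (tt N31651 (iv6 D111411)) (tt N64787 F365248))
theorem Q59447 : ∀ i, i < 59447 → P i := stepQ 59446 Q59446 (allL N59446 (tt N95702 F409209) (tt N96434 (iv0 F412499)) (tt N96476 D199562) (tt N31652 (iv3 D111412)) (tt N96477 D199563) (tt N31693 F172895) (tt N70405 (iv6 F356117)) (tt N69700 (iv7 F215912)))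
theorem Q59448 : ∀ i, i < 59448 → P i := stepQ 59447 Q59447 (allL N59447 (tt N96478 D199564) (tt N95703 (iv0 F409211)) (tt N69688 (iv2 F215901)) (tt N70405 F356115) (tt N40050 F172896) (tt N58019 F172897) (tt N31652 (iv6 D111413)) (tt N96479 D199565))
theorem Q59449 : ∀ i, i < 59449 → P i := stepQ 59448 Q59448 (allL N59448 (tt N79429 F365859) (tt N91183 F392193) (tt N82431 (iv2 F365756)) (tt N31655 (iv3 D111419)) (tt N78528 F365858) (tt N95132 (iv5 F407175)) (tt N96480 D199566) (tt N91182 (iv7 F392187)))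
theorem Q59450 : ∀ i, i < 59450 → P i := stepQ 59449 Q59449 (allL N59449 (tt N59672 (iv1 F222467)) (tt N59678 (iv0 F222466)) (tt N95285 F407721) (tt N96480 (iv3 F412691)) (tt N65550 (iv4 F202002)) (tt N95283 (iv5 F407713)) (tt N31655 (iv6 D111420)) (tt N58028 F172900))
theorem Q59451 : ∀ i, i < 59451 → P i := stepQ 59450 Q59450 (allL N59450 (tt N51130 (iv1 F343100)) (tt N31656 (iv0 D111421)) (tt N58216 (iv2 F172902)) (tt N82449 (iv3 F365752)) (tt N84061 (iv4 F367965)) (tt N57910 F172901) (tt N96481 D199567) (tt N58218 (iv7 F172903)))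
theorem Q59452 : ∀ i, i < 59452 → P i := stepQ 59451 Q59451 (allL N59451 (tt N31656 (iv1 D111422)) (tt N51130 F343101) (tt N58218 (iv2 F172906)) (tt N94957 (iv3 F406500)) (tt N85531 (iv4 F372956)) (tt N57911 F172905) (tt N58693 (iv6 F343158)) (tt N58216 F172904))
theorem Q59453 : ∀ i, i < 59453 → P i := stepQ 59452 Q59452 (allL N59452 (tt N31659 (iv1 F172912)) (tt N31658 (iv0 D111425)) (tt N58483 (iv2 F172911)) (tt N96482 D199568) (tt N35597 F172910) (tt N44355 F336678) (tt N44358 (iv6 F336679)) (tt N35594 F172913))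
theorem Q59454 : ∀ i, i < 59454 → P i := stepQ 59453 Q59453 (allL N59453 (tt N78453 F327449) (tt N78452 F327450) (tt N48307 F327451) (tt N31658 (iv3 D111426)) (tt N58034 F172915) (tt N95201 (iv5 F407388)) (tt N58034 F172916) (tt N56807 (iv7 F337389)))
theorem Q59455 : ∀ i, i < 59455 → P i := stepQ 59454 Q59454 (allL N59454 (tt N96483 D199569) (tt N96408 (iv0 F412386)) (tt N56805 F337402) (tt N48310 F326776) (tt N31660 F172919) (tt N56804 (iv5 F337405)) (tt N31659 (iv6 D111428)) (tt N58039 F172920))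
theorem Q59456 : ∀ i, i < 59456 → P i := stepQ 59455 Q59455 (allL N59455 (tt N38790 (iv1 F172928)) (tt N31662 (iv0 D111430)) (tt N38787 (iv2 F172926)) (tt N96484 D199570) (tt N57720 F172925) (tt N48641 (iv5 F327636)) (tt N73229 (iv6 F329936)) (tt N38788 (iv7 F172927)))
theorem Q59457 : ∀ i, i < 59457 → P i := stepQ 59456 Q59456 (allL N59456 (tt N31662 (iv1 D111431)) (tt N38790 F172929) (tt N38788 (iv2 F172932)) (tt N80686 F361755) (tt N57721 F172931) (tt N48642 F328769) (tt N69742 (iv6 F216032)) (tt N38787 F172930))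
theorem Q59458 : ∀ i, i < 59458 → P i := stepQ 59457 Q59457 (allL N59457 (tt N38767 (iv1 F172941)) (tt N31664 (iv0 D111435)) (tt N38766 F355028) (tt N67330 F207098) (tt N69250 F213557) (tt N96485 D199571) (tt N58050 F354704) (tt N38765 F355029))
theorem Q59459 : ∀ i, i < 59459 → P i := stepQ 59458 Q59458 (allL N59458 (tt N31664 (iv1 D111436)) (tt N38767 F172946) (tt N38765 F355032) (tt N96486 D199572) (tt N68696 (iv4 F211414)) (tt N96487 D199573) (tt N96488 D199574) (tt N38766 F355033))
theorem Q59460 : ∀ i, i < 59460 → P i := stepQ 59459 Q59459 (allL N59459 (tt N76651 (iv1 F351729)) (tt N31668 (iv0 D111440)) (tt N76653 (iv2 F351726)) (tt N75287 (iv3 F351727)) (tt N96489 D199575) (tt N75285 F351725) (tt N82064 F351724) (tt N76567 (iv7 F351728)))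
theorem Q59461 : ∀ i, i < 59461 → P i := stepQ 59460 Q59460 (allL N59460 (tt N76653 (iv1 F354830)) (tt N76567 (iv0 F354827)) (tt N31668 (iv2 D111442)) (tt N60476 (iv3 F176500)) (tt N31680 F172952) (tt N80875 F354831) (tt N80876 F348177) (tt N76651 F351734))
theorem Q59462 : ∀ i, i < 59462 → P i := stepQ 59461 Q59461 (allL N59461 (tt N94056 F403011) (tt N81446 (iv0 F353833)) (tt N80875 F354607) (tt N31669 F172953) (tt N96490 D199576) (tt N31668 (iv5 D111443)) (tt N80857 (iv6 F354606)) (tt N79913 F354605))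
theorem Q59463 : ∀ i, i < 59463 → P i := stepQ 59462 Q59462 (allL N59462 (tt N96491 D199577) (tt N46867 F348174) (tt N80876 F348175) (tt N31670 F172954) (tt N31682 F172955) (tt N80858 F348176) (tt N31668 (iv6 D111444)) (tt N95783 (iv7 F409619)))
theorem Q59464 : ∀ i, i < 59464 → P i := stepQ 59463 Q59463 (allL N59463 (tt N81433 F344954) (tt N33963 F344955) (tt N60479 (iv2 F176507)) (tt N80857 F354608) (tt N71728 (iv4 F220427)) (tt N63823 F344956) (tt N31669 (iv6 D111445)) (tt N80862 (iv7 F354609)))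
theorem Q59465 : ∀ i, i < 59465 → P i := stepQ 59464 Q59464 (allL N59464 (tt N96492 D199578) (tt N42273 F351637) (tt N60480 (iv2 F176508)) (tt N80858 F351638) (tt N68451 F351639) (tt N31670 (iv5 D111446)) (tt N63823 F351640) (tt N95784 (iv7 F409628)))
theorem Q59466 : ∀ i, i < 59466 → P i := stepQ 59465 Q59465 (allL N59465 (tt N40059 (iv1 F172956)) (tt N31674 (iv0 D111447)) (tt N40058 F406006) (tt N96493 D199579) (tt N90018 (iv4 F388312)) (tt N73218 (iv5 F350418)) (tt N96494 D199580) (tt N40057 F406007))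
theorem Q59467 : ∀ i, i < 59467 → P i := stepQ 59466 Q59466 (allL N59466 (tt N31674 (iv1 D111448)) (tt N40059 F172961) (tt N40057 F406002) (tt N96495 D199581) (tt N90017 (iv4 F388308)) (tt N73219 F350422) (tt N96496 D199582) (tt N40058 F406003))
theorem Q59468 : ∀ i, i < 59468 → P i := stepQ 59467 Q59467 (allL N59467 (tt N40058 (iv1 F172962)) (tt N40057 F172960) (tt N31674 (iv2 D111449)) (tt N33267 F172957) (tt N40309 F172958) (tt N53769 F350400) (tt N53191 (iv6 F350401)) (tt N40059 F172959))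
theorem Q59469 : ∀ i, i < 59469 → P i := stepQ 59468 Q59468 (allL N59468 (tt N96422 F412458) (tt N96497 D199583) (tt N82425 F359302) (tt N31678 (iv3 D111455)) (tt N92328 F396724) (tt N96498 D199584) (tt N96499 D199585) (tt N96308 (iv7 F411955)))
theorem Q59470 : ∀ i, i < 59470 → P i := stepQ 59469 Q59469 (allL N59469 (tt N79834 (iv1 F348614)) (tt N75336 F231245) (tt N58883 F173370) (tt N62539 F182068) (tt N31678 (iv4 D111456)) (tt N62538 (iv5 F182069)) (tt N64244 (iv6 F336514)) (tt N75599 (iv7 F232074)))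
theorem Q59471 : ∀ i, i < 59471 → P i := stepQ 59470 Q59470 (allL N59470 (tt N59539 (iv1 F230759)) (tt N59346 F230758) (tt N59541 (iv2 F232082)) (tt N96498 (iv3 F412768)) (tt N96500 D199586) (tt N31678 (iv5 D111457)) (tt N96501 D199587) (tt N59540 F232079))
theorem Q59472 : ∀ i, i < 59472 → P i := stepQ 59471 Q59471 (allL N59471 (tt N58096 (iv1 F353071)) (tt N58104 (iv0 F353067)) (tt N58102 (iv2 F353060)) (tt N96499 (iv3 F412769)) (tt N64244 F336515) (tt N81246 (iv5 F352220)) (tt N31678 (iv6 D111458)) (tt N58101 F352217))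
theorem Q59473 : ∀ i, i < 59473 → P i := stepQ 59472 Q59472 (allL N59472 (tt N75336 F231244) (tt N79834 F348615) (tt N75599 (iv2 F232072)) (tt N32010 (iv3 F172977)) (tt N31679 (iv4 D111461)) (tt N61366 (iv5 F320842)) (tt N65068 (iv6 F336511)) (tt N58883 (iv7 F173364)))
theorem Q59474 : ∀ i, i < 59474 → P i := stepQ 59473 Q59473 (allL N59473 (tt N59346 (iv1 F232084)) (tt N59539 F232080) (tt N59540 F232078) (tt N59518 (iv3 F341346)) (tt N96502 D199588) (tt N31679 (iv5 D111462)) (tt N96503 D199589) (tt N59541 (iv7 F232081)))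
theorem Q59475 : ∀ i, i < 59475 → P i := stepQ 59474 Q59474 (allL N59474 (tt N96410 F412396) (tt N96504 D199590) (tt N80948 (iv2 F353078)) (tt N64579 F353076) (tt N65068 F353077) (tt N96505 D199591) (tt N31679 (iv6 D111463)) (tt N65036 (iv7 F353075)))
theorem Q59476 : ∀ i, i < 59476 → P i := stepQ 59475 Q59475 (allL N59475 (tt N96311 (iv1 F411966)) (tt N96310 F411963) (tt N31681 F172978) (tt N96314 (iv3 F411977)) (tt N96506 D199592) (tt N31680 (iv5 D111464)) (tt N89631 (iv6 F387021)) (tt N96309 (iv7 F411959)))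
theorem Q59477 : ∀ i, i < 59477 → P i := stepQ 59476 Q59476 (allL N59476 (tt N80046 F361596) (tt N58090 (iv0 F363992)) (tt N31682 F172979) (tt N96315 (iv3 F411982)) (tt N80876 (iv4 F361594)) (tt N96507 D199593) (tt N31680 (iv6 D111465)) (tt N81959 F361595))
theorem Q59478 : ∀ i, i < 59478 → P i := stepQ 59477 Q59477 (allL N59477 (tt N96309 F411961) (tt N31681 (iv0 D111466)) (tt N96311 F411970) (tt N96508 D199594) (tt N96509 D199595) (tt N31718 F365188) (tt N96510 D199596) (tt N96310 F411965))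
theorem Q59479 : ∀ i, i < 59479 → P i := stepQ 59478 Q59478 (allL N59478 (tt N31681 (iv1 D111467)) (tt N96309 (iv0 F411960)) (tt N96310 F411964) (tt N82452 F403536) (tt N96511 D199597) (tt N31719 F403537) (tt N96512 D199598) (tt N96311 (iv7 F411967)))
theorem Q59480 : ∀ i, i < 59480 → P i := stepQ 59479 Q59479 (allL N59479 (tt N96513 D199599) (tt N96514 D199600) (tt N96506 (iv2 F412789)) (tt N40125 F172980) (tt N31681 (iv4 D111468)) (tt N76674 (iv5 F413402)) (tt N96515 D199602) (tt N96312 (iv7 F411972)))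
theorem Q59481 : ∀ i, i < 59481 → P i := stepQ 59480 Q59480 (allL N59480 (tt N86181 F375307) (tt N89633 (iv0 F439996)) (tt N89631 F387020) (tt N31683 F172981) (tt N96515 (iv4 F412813)) (tt N94621 (iv5 F405258)) (tt N31681 (iv6 D111469)) (tt N89632 (iv7 F387019)))
theorem Q59482 : ∀ i, i < 59482 → P i := stepQ 59481 Q59481 (allL N59481 (tt N81959 (iv1 F361609)) (tt N31682 (iv0 D111470)) (tt N80046 (iv2 F361602)) (tt N81967 F361603) (tt N80045 F361604) (tt N96516 D199604) (tt N81773 F361605) (tt N58090 (iv7 F363995)))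
theorem Q59483 : ∀ i, i < 59483 → P i := stepQ 59482 Q59482 (allL N59482 (tt N96517 D199605) (tt N64949 (iv0 F360090)) (tt N96507 (iv2 F412790)) (tt N31686 F172982) (tt N96518 D199606) (tt N31682 (iv5 D111472)) (tt N94621 (iv6 F405259)) (tt N57754 F343148))
theorem Q59484 : ∀ i, i < 59484 → P i := stepQ 59483 Q59483 (allL N59483 (tt N58090 (iv1 F363993)) (tt N80046 F361600) (tt N81959 (iv2 F361598)) (tt N31687 F172983) (tt N95783 (iv4 F409617)) (tt N57754 (iv5 F343147)) (tt N79811 F343105) (tt N31682 (iv7 D111473)))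
theorem Q59485 : ∀ i, i < 59485 → P i := stepQ 59484 Q59484 (allL N59484 (tt N53205 (iv1 F345061)) (tt N31683 (iv0 D111474)) (tt N62210 F343797) (tt N96519 D199607) (tt N53472 (iv4 F345057)) (tt N40149 F343798) (tt N96520 D199608) (tt N62212 F343799))
theorem Q59486 : ∀ i, i < 59486 → P i := stepQ 59485 Q59485 (allL N59485 (tt N31683 (iv1 D111475)) (tt N53205 F345070) (tt N62212 F345071) (tt N61165 (iv3 F349168)) (tt N53471 F345072) (tt N40142 F345073) (tt N85937 (iv6 F374512)) (tt N62210 F345074))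
theorem Q59487 : ∀ i, i < 59487 → P i := stepQ 59486 Q59486 (allL N59486 (tt N81958 F365965) (tt N96435 F412506) (tt N82028 (iv2 F360136)) (tt N31684 (iv3 D111478)) (tt N58517 F172990) (tt N72948 (iv5 F360138)) (tt N79584 F360137) (tt N57997 F172986))
theorem Q59488 : ∀ i, i < 59488 → P i := stepQ 59487 Q59487 (allL N59487 (tt N40322 F172991) (tt N36064 (iv0 F172993)) (tt N40323 F172987) (tt N32439 F172989) (tt N31684 (iv4 D111479)) (tt N70149 (iv5 F216798)) (tt N40329 (iv6 F172992)) (tt N32397 F172988))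
theorem Q59489 : ∀ i, i < 59489 → P i := stepQ 59488 Q59488 (allL N59488 (tt N40358 F336694) (tt N40193 F336695) (tt N40372 F336696) (tt N47889 F325334) (tt N57965 F336697) (tt N31688 (iv5 D111490)) (tt N39906 F336698) (tt N33221 F336699))
theorem Q59490 : ∀ i, i < 59490 → P i := stepQ 59489 Q59489 (allL N59489 (tt N57981 (iv1 F173014)) (tt N57980 (iv0 F173016)) (tt N57982 F173011) (tt N47890 F325335) (tt N31689 F173012) (tt N34991 F343732) (tt N31688 (iv6 D111491)) (tt N31829 F173013))
theorem Q59491 : ∀ i, i < 59491 → P i := stepQ 59490 Q59490 (allL N59490 (tt N96402 F412354) (tt N96521 D199609) (tt N47885 F345335) (tt N31690 (iv3 D111492)) (tt N58119 F173024) (tt N40371 F336692) (tt N57869 F173025) (tt N96319 (iv7 F412009)))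
theorem Q59492 : ∀ i, i < 59492 → P i := stepQ 59491 Q59491 (allL N59491 (tt N69686 (iv1 F215896)) (tt N31691 (iv0 D111494)) (tt N69685 F360749) (tt N57937 F173027) (tt N71745 (iv4 F330496)) (tt N96522 D199610) (tt N96523 D199611) (tt N69684 (iv7 F360748)))
theorem Q59493 : ∀ i, i < 59493 → P i := stepQ 59492 Q59492 (allL N59492 (tt N31691 (iv1 D111495)) (tt N69686 F215898) (tt N69684 (iv2 F360750)) (tt N96524 D199612) (tt N90641 (iv4 F390373)) (tt N96525 D199613) (tt N96526 D199614) (tt N69685 F360751))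
theorem Q59494 : ∀ i, i < 59494 → P i := stepQ 59493 Q59493 (allL N59493 (tt N69685 (iv1 F215897)) (tt N69684 F215892) (tt N31691 (iv2 D111496)) (tt N95710 (iv3 F409245)) (tt N60057 (iv4 F175409)) (tt N96473 (iv5 F412667)) (tt N56866 (iv6 F358707)) (tt N69686 (iv7 F215895)))
theorem Q59495 : ∀ i, i < 59495 → P i := stepQ 59494 Q59494 (allL N59494 (tt N74236 (iv1 F358642)) (tt N96527 D199615) (tt N56866 F358705) (tt N31692 F173028) (tt N47290 F332198) (tt N56863 (iv5 F358684)) (tt N31691 (iv6 D111497)) (tt N56871 (iv7 F358680)))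
theorem Q59496 : ∀ i, i < 59496 → P i := stepQ 59495 Q59495 (allL N59495 (tt N95292 (iv1 F407754)) (tt N72339 (iv0 F358696)) (tt N96321 (iv2 F412019)) (tt N56863 F358695) (tt N96528 D199616) (tt N31692 (iv5 D111498)) (tt N96475 (iv6 F412675)) (tt N56869 (iv7 F358694)))
theorem Q59497 : ∀ i, i < 59497 → P i := stepQ 59496 Q59496 (allL N59496 (tt N31693 (iv1 D111499)) (tt N95710 F409248) (tt N31975 F382028) (tt N95706 (iv3 F409223)) (tt N88175 (iv4 F382027)) (tt N96529 D199617) (tt N64980 F382029) (tt N95711 (iv7 F409253)))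
theorem Q59498 : ∀ i, i < 59498 → P i := stepQ 59497 Q59497 (allL N59497 (tt N95711 (iv1 F409254)) (tt N31975 F173033) (tt N31693 (iv2 D111500)) (tt N69686 (iv3 F215893)) (tt N58634 F173031) (tt N96476 (iv5 F412677)) (tt N58147 F173032) (tt N95710 (iv7 F409249)))
theorem Q59499 : ∀ i, i < 59499 → P i := stepQ 59498 Q59498 (allL N59498 (tt N95706 (iv1 F409227)) (tt N31968 (iv0 F173038)) (tt N65660 (iv2 F204653)) (tt N31694 (iv3 D111502)) (tt N59605 F173218) (tt N58010 F173037) (tt N96020 F410669) (tt N65663 (iv7 F204645)))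
theorem Q59500 : ∀ i, i < 59500 → P i := stepQ 59499 Q59499 (allL N59499 (tt N59627 F173419) (tt N60624 F176656) (tt N60579 F204651) (tt N67395 F343537) (tt N31694 (iv4 D111503)) (tt N72066 (iv5 F221304)) (tt N67394 (iv6 F348766)) (tt N60639 F204648))
theorem Q59501 : ∀ i, i < 59501 → P i := stepQ 59500 Q59500 (allL N59500 (tt N67986 F348789) (tt N58356 F348790) (tt N44407 F348791) (tt N96020 (iv3 F410664)) (tt N67394 F348792) (tt N44404 F348793) (tt N31694 (iv6 D111505)) (tt N58150 (iv7 F348815)))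
theorem Q59502 : ∀ i, i < 59502 → P i := stepQ 59501 Q59501 (allL N59501 (tt N57932 F173422) (tt N57937 F400742) (tt N95044 (iv2 F406788)) (tt N31695 (iv3 D111507)) (tt N93447 (iv4 F400766)) (tt N96462 (iv5 F412628)) (tt N58151 (iv6 F348802)) (tt N56854 F348798))
theorem Q59503 : ∀ i, i < 59503 → P i := stepQ 59502 Q59502 (allL N59502 (tt N60624 (iv1 F176657)) (tt N59627 (iv0 F173421)) (tt N60639 F204652) (tt N55654 F173040) (tt N31695 (iv4 D111508)) (tt N71010 (iv5 F219255)) (tt N58152 (iv6 F348806)) (tt N60579 (iv7 F204626)))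
theorem Q59504 : ∀ i, i < 59504 → P i := stepQ 59503 Q59503 (allL N59503 (tt N59432 (iv1 F219138)) (tt N59428 F219101) (tt N31697 F173041) (tt N96324 (iv3 F412038)) (tt N96530 D199618) (tt N31696 (iv5 D111511)) (tt N95053 (iv6 F406856)) (tt N96327 (iv7 F412055)))
theorem Q59505 : ∀ i, i < 59505 → P i := stepQ 59504 Q59504 (allL N59504 (tt N96531 D199619) (tt N96532 D199620) (tt N31698 F173042) (tt N80602 F353978) (tt N60522 (iv4 F176543)) (tt N96533 D199621) (tt N31696 (iv6 D111512)) (tt N96534 D199622))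
theorem Q59506 : ∀ i, i < 59506 → P i := stepQ 59505 Q59505 (allL N59505 (tt N96327 (iv1 F412057)) (tt N31697 (iv0 D111513)) (tt N59432 (iv2 F219131)) (tt N94715 (iv3 F405643)) (tt N39711 F219132) (tt N59330 F219137) (tt N75522 (iv6 F350053)) (tt N59428 (iv7 F219133)))
theorem Q59507 : ∀ i, i < 59507 → P i := stepQ 59506 Q59506 (allL N59506 (tt N31697 (iv1 D111514)) (tt N96327 (iv0 F412056)) (tt N59428 F219129) (tt N96535 D199623) (tt N91759 (iv4 F394325)) (tt N59331 (iv5 F219128)) (tt N96536 D199624) (tt N59432 F219130))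
theorem Q59508 : ∀ i, i < 59508 → P i := stepQ 59507 Q59507 (allL N59507 (tt N96537 D199625) (tt N96538 D199626) (tt N96530 (iv2 F412872)) (tt N73434 (iv3 F224836)) (tt N31697 (iv4 D111515)) (tt N93256 (iv5 F400152)) (tt N95155 (iv6 F407256)) (tt N96328 (iv7 F412060)))
theorem Q59509 : ∀ i, i < 59509 → P i := stepQ 59508 Q59508 (allL N59508 (tt N94715 (iv1 F405646)) (tt N95046 (iv0 F406799)) (tt N95053 F406855) (tt N31701 F173043) (tt N95155 (iv4 F407254)) (tt N31968 F341351) (tt N31697 (iv6 D111516)) (tt N95054 (iv7 F406857)))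
theorem Q59510 : ∀ i, i < 59510 → P i := stepQ 59509 Q59509 (allL N59509 (tt N96534 (iv1 F412889)) (tt N31698 (iv0 D111517)) (tt N96531 (iv2 F412887)) (tt N94844 (iv3 F412909)) (tt N96539 D199628) (tt N94837 F412910) (tt N96540 D199629) (tt N96532 F412888))
theorem Q59511 : ∀ i, i < 59511 → P i := stepQ 59510 Q59510 (allL N59510 (tt N31698 (iv1 D111518)) (tt N96534 F412883) (tt N96532 F412886) (tt N93827 (iv3 F412297)) (tt N96541 D199630) (tt N96542 D199631) (tt N96543 D199632) (tt N96531 (iv7 F412885)))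
theorem Q59512 : ∀ i, i < 59512 → P i := stepQ 59511 Q59511 (allL N59511 (tt N94844 F406125) (tt N96544 D199633) (tt N96533 (iv2 F412877)) (tt N31704 F173044) (tt N80231 F363327) (tt N31698 (iv5 D111519)) (tt N31968 F341321) (tt N64976 F341322))
theorem Q59513 : ∀ i, i < 59513 → P i := stepQ 59512 Q59512 (allL N59512 (tt N96532 (iv1 F412876)) (tt N96531 F412882) (tt N96534 (iv2 F412879)) (tt N31705 F173045) (tt N60528 (iv4 F176548)) (tt N64976 (iv5 F363322)) (tt N96333 (iv6 F412098)) (tt N31698 (iv7 D111520)))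
theorem Q59514 : ∀ i, i < 59514 → P i := stepQ 59513 Q59513 (allL N59513 (tt N96522 F412843) (tt N96525 (iv0 F412852)) (tt N86194 (iv2 F375340)) (tt N31699 (iv3 D111521)) (tt N84721 (iv4 F370335)) (tt N58784 F173046) (tt N50992 F370336) (tt N59416 F173047))
theorem Q59515 : ∀ i, i < 59515 → P i := stepQ 59514 Q59514 (allL N59514 (tt N96545 D199634) (tt N96546 D199635) (tt N59424 F173048) (tt N50992 (iv3 F370337)) (tt N58132 F173049) (tt N76890 F370338) (tt N31699 (iv6 D111522)) (tt N86200 (iv7 F375356)))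
theorem Q59516 : ∀ i, i < 59516 → P i := stepQ 59515 Q59515 (allL N59515 (tt N95712 (iv1 F409259)) (tt N96529 (iv0 F412870)) (tt N96547 D199636) (tt N31700 (iv3 D111523)) (tt N96548 D199637) (tt N58086 F173050) (tt N96549 D199638) (tt N59422 F173051))
theorem Q59517 : ∀ i, i < 59517 → P i := stepQ 59516 Q59516 (allL N59516 (tt N96550 D199639) (tt N96551 D199640) (tt N59418 F173052) (tt N96549 (iv3 F412944)) (tt N62260 (iv4 F180504)) (tt N96552 D199641) (tt N31700 (iv6 D111524)) (tt N96553 D199642))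
theorem Q59518 : ∀ i, i < 59518 → P i := stepQ 59517 Q59517 (allL N59517 (tt N31976 F341343) (tt N31701 (iv0 D111525)) (tt N95708 (iv2 F409237)) (tt N96554 D199643) (tt N89314 (iv4 F386053)) (tt N48317 F341344) (tt N72305 (iv6 F360052)) (tt N95707 F409232))
theorem Q59519 : ∀ i, i < 59519 → P i := stepQ 59518 Q59518 (allL N59518 (tt N31701 (iv1 D111526)) (tt N31976 F341345) (tt N95707 F409231) (tt N59473 F341346) (tt N64802 F363295) (tt N48316 F341347) (tt N64800 (iv6 F363296)) (tt N95708 (iv7 F409234)))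
theorem Q59520 : ∀ i, i < 59520 → P i := stepQ 59519 Q59519 (allL N59519 (tt N96555 D199644) (tt N96526 F412858) (tt N47130 (iv2 F328346)) (tt N31702 (iv3 D111529)) (tt N35272 F327953) (tt N96556 D199645) (tt N48401 F327952) (tt N47136 F327954))
theorem Q59521 : ∀ i, i < 59521 → P i := stepQ 59520 Q59520 (allL N59520 (tt N47775 F360039) (tt N47774 F360040) (tt N34987 F360041) (tt N96556 (iv3 F412970)) (tt N34896 F360042) (tt N31702 (iv5 D111530)) (tt N58539 F360043) (tt N34985 F360044))
theorem Q59522 : ∀ i, i < 59522 → P i := stepQ 59521 Q59521 (allL N59521 (tt N80601 F365845) (tt N96557 D199646) (tt N96558 D199647) (tt N31703 (iv3 D111531)) (tt N95577 F408728) (tt N47776 F341340) (tt N96559 D199648) (tt N94959 (iv7 F406508)))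
theorem Q59523 : ∀ i, i < 59523 → P i := stepQ 59522 Q59522 (allL N59522 (tt N72270 F223581) (tt N58366 (iv0 F202186)) (tt N96326 (iv2 F412046)) (tt N96559 (iv3 F412984)) (tt N65653 (iv4 F202184)) (tt N58113 (iv5 F173056)) (tt N31703 (iv6 D111533)) (tt N58217 F173055))
theorem Q59524 : ∀ i, i < 59524 → P i := stepQ 59523 Q59523 (allL N59523 (tt N96376 (iv1 F412296)) (tt N96368 F412267) (tt N64581 (iv2 F360127)) (tt N31706 (iv3 D111537)) (tt N58178 F173059) (tt N93478 F400858) (tt N58224 F173060) (tt N93852 (iv7 F402149)))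
theorem Q59525 : ∀ i, i < 59525 → P i := stepQ 59524 Q59524 (allL N59524 (tt N64310 F343758) (tt N45381 F343759) (tt N45620 F343760) (tt N93478 F400854) (tt N45615 F343761) (tt N31706 (iv5 D111538)) (tt N59747 F343762) (tt N78743 F343763))
theorem Q59526 : ∀ i, i < 59526 → P i := stepQ 59525 Q59525 (allL N59525 (tt N31709 (iv1 F173065)) (tt N31707 (iv0 D111539)) (tt N33353 (iv2 F173064)) (tt N93588 (iv3 F401217)) (tt N46730 F332944) (tt N31831 F173062) (tt N33339 F173063) (tt N39939 F173066))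
theorem Q59527 : ∀ i, i < 59527 → P i := stepQ 59526 Q59526 (allL N59526 (tt N96560 D199649) (tt N58355 (iv0 F202429)) (tt N72486 (iv2 F222603)) (tt N48263 F323823) (tt N31710 F173071) (tt N72219 (iv5 F351212)) (tt N31708 (iv6 D111543)) (tt N58222 F173072))
theorem Q59528 : ∀ i, i < 59528 → P i := stepQ 59527 Q59527 (allL N59527 (tt N94172 (iv1 F403534)) (tt N31712 (iv0 D111547)) (tt N94171 (iv2 F403525)) (tt N96561 D199650) (tt N96378 (iv4 F412301)) (tt N94056 (iv5 F403010)) (tt N58186 F402996) (tt N94170 (iv7 F403521)))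
theorem Q59529 : ∀ i, i < 59529 → P i := stepQ 59528 Q59528 (allL N59528 (tt N31712 (iv1 D111548)) (tt N94172 F403535) (tt N94170 (iv2 F403520)) (tt N65432 F342073) (tt N96339 (iv4 F412123)) (tt N81446 (iv5 F342074)) (tt N80004 (iv6 F342072)) (tt N94171 (iv7 F403522)))
theorem Q59530 : ∀ i, i < 59530 → P i := stepQ 59529 Q59529 (allL N59529 (tt N94171 F403528) (tt N94170 F403518) (tt N31712 (iv2 D111549)) (tt N46303 F328386) (tt N31720 F173076) (tt N43261 F347812) (tt N46301 F328387) (tt N94172 (iv7 F403533)))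
theorem Q59531 : ∀ i, i < 59531 → P i := stepQ 59530 Q59530 (allL N59530 (tt N43197 F347797) (tt N43263 F347798) (tt N43261 F347799) (tt N31713 F173077) (tt N79987 F347800) (tt N31712 (iv5 D111550)) (tt N96562 D199651) (tt N43260 F347801))
theorem Q59532 : ∀ i, i < 59532 → P i := stepQ 59531 Q59531 (allL N59531 (tt N78415 F327512) (tt N65429 F327513) (tt N46301 F327514) (tt N31714 F173078) (tt N31722 F173079) (tt N78472 F327515) (tt N31712 (iv6 D111551)) (tt N64983 F327516))
theorem Q59533 : ∀ i, i < 59533 → P i := stepQ 59532 Q59532 (allL N59532 (tt N96563 D199652) (tt N96564 D199653) (tt N60551 (iv2 F176573)) (tt N96562 (iv3 F413004)) (tt N77789 (iv4 F244975)) (tt N96565 D199654) (tt N31713 (iv6 D111552)) (tt N96566 D199655))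
theorem Q59534 : ∀ i, i < 59534 → P i := stepQ 59533 Q59533 (allL N59533 (tt N48298 F327517) (tt N58821 F173092) (tt N60552 (iv2 F176574)) (tt N78472 F327518) (tt N46338 F327519) (tt N31714 (iv5 D111555)) (tt N96565 (iv6 F413022)) (tt N79657 F327520))
theorem Q59535 : ∀ i, i < 59535 → P i := stepQ 59534 Q59534 (allL N59534 (tt N35901 (iv1 F173095)) (tt N35898 F173096) (tt N46304 (iv2 F327425)) (tt N64983 F326795) (tt N31717 F173094) (tt N79657 F326796) (tt N65853 F202663) (tt N31714 (iv7 D111556)))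
theorem Q59536 : ∀ i, i < 59536 → P i := stepQ 59535 Q59535 (allL N59535 (tt N60405 F176365) (tt N71157 (iv0 F219566)) (tt N45910 (iv2 F327089)) (tt N60420 (iv3 F176398)) (tt N45904 F327019) (tt N39395 F173098) (tt N31715 (iv6 D111557)) (tt N60376 (iv7 F176323)))
theorem Q59537 : ∀ i, i < 59537 → P i := stepQ 59536 Q59536 (allL N59536 (tt N96524 F412847) (tt N96567 D199656) (tt N95611 (iv2 F408875)) (tt N31718 (iv3 D111559)) (tt N59577 F173166) (tt N96508 (iv5 F412796)) (tt N58198 (iv6 F359286)) (tt N96322 (iv7 F412026)))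
theorem Q59538 : ∀ i, i < 59538 → P i := stepQ 59537 Q59537 (allL N59537 (tt N65447 (iv1 F336502)) (tt N45399 (iv0 F336503)) (tt N45930 F323594) (tt N78756 (iv3 F330666)) (tt N31718 (iv4 D111560)) (tt N94048 (iv5 F402973)) (tt N58199 F336501) (tt N65445 (iv7 F339256)))
theorem Q59539 : ∀ i, i < 59539 → P i := stepQ 59538 Q59538 (allL N59538 (tt N58364 F358653) (tt N90459 (iv0 F389726)) (tt N96323 (iv2 F412028)) (tt N82356 F358651) (tt N44873 F358652) (tt N95918 (iv5 F410258)) (tt N31719 (iv6 D111567)) (tt N58202 F359289))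
theorem Q59540 : ∀ i, i < 59540 → P i := stepQ 59539 Q59539 (allL N59539 (tt N59473 (iv1 F232080)) (tt N59470 F230759) (tt N31721 F173109) (tt N96327 (iv3 F412054)) (tt N96568 D199657) (tt N31720 (iv5 D111568)) (tt N96569 D199658) (tt N96324 (iv7 F412039)))
theorem Q59541 : ∀ i, i < 59541 → P i := stepQ 59540 Q59540 (allL N59540 (tt N96324 (iv1 F412041)) (tt N31721 (iv0 D111570)) (tt N59473 (iv2 F232078)) (tt N96570 D199659) (tt N88975 (iv4 F412781)) (tt N59321 F232076) (tt N96571 D199660) (tt N59470 (iv7 F232079)))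
theorem Q59542 : ∀ i, i < 59542 → P i := stepQ 59541 Q59541 (allL N59541 (tt N31721 (iv1 D111571)) (tt N96324 (iv0 F412040)) (tt N59470 F232082) (tt N95708 (iv3 F409238)) (tt N88976 F412042) (tt N59322 (iv5 F232083)) (tt N77523 F359306) (tt N59473 F232081))
theorem Q59543 : ∀ i, i < 59543 → P i := stepQ 59542 Q59542 (allL N59542 (tt N85548 (iv1 F419734)) (tt N95228 (iv0 F407500)) (tt N96568 (iv2 F413029)) (tt N40538 F173111) (tt N31721 (iv4 D111572)) (tt N96572 D199662) (tt N84110 (iv6 F368144)) (tt N96325 (iv7 F412044)))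
theorem Q59544 : ∀ i, i < 59544 → P i := stepQ 59543 Q59543 (allL N59543 (tt N88514 (iv1 F383351)) (tt N88948 (iv0 F384586)) (tt N96569 (iv2 F413034)) (tt N31723 F173112) (tt N84110 (iv4 F368143)) (tt N96573 D199663) (tt N31721 (iv6 D111573)) (tt N96574 D199664))
theorem Q59545 : ∀ i, i < 59545 → P i := stepQ 59544 Q59544 (allL N59544 (tt N96575 D199665) (tt N45945 F327524) (tt N64987 F327525) (tt N31726 F173113) (tt N96576 D199666) (tt N31722 (iv5 D111576)) (tt N96573 (iv6 F413046)) (tt N64984 F327526))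
theorem Q59546 : ∀ i, i < 59546 → P i := stepQ 59545 Q59545 (allL N59545 (tt N95709 F409243) (tt N31723 (iv0 D111578)) (tt N64850 (iv2 F357725)) (tt N88948 F412254) (tt N64505 F357724) (tt N94895 (iv5 F406262)) (tt N64504 (iv6 F357726)) (tt N96334 (iv7 F412101)))
theorem Q59547 : ∀ i, i < 59547 → P i := stepQ 59546 Q59546 (allL N59546 (tt N31723 (iv1 D111579)) (tt N95709 F409244) (tt N96334 F412103) (tt N96577 D199667) (tt N64851 (iv4 F357728)) (tt N94897 (iv5 F406264)) (tt N96578 D199668) (tt N64850 F357727))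
theorem Q59548 : ∀ i, i < 59548 → P i := stepQ 59547 Q59547 (allL N59547 (tt N96579 D199669) (tt N96580 D199670) (tt N96335 (iv2 F412104)) (tt N96573 (iv3 F413045)) (tt N31753 F343776) (tt N31723 (iv5 D111580)) (tt N31726 F173115) (tt N64982 F343780))
theorem Q59549 : ∀ i, i < 59549 → P i := stepQ 59548 Q59548 (allL N59548 (tt N96334 (iv1 F412100)) (tt N64850 F360054) (tt N95709 (iv2 F409239)) (tt N96574 (iv3 F413047)) (tt N40551 F173116) (tt N64982 (iv5 F343781)) (tt N31976 F360055) (tt N31723 (iv7 D111581)))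
theorem Q59550 : ∀ i, i < 59550 → P i := stepQ 59549 Q59549 (allL N59549 (tt N45371 F358384) (tt N64980 F358385) (tt N64978 F365918) (tt N31724 (iv3 D111583)) (tt N58653 F173121) (tt N96581 D199671) (tt N96582 D199672) (tt N64979 (iv7 F365917)))
theorem Q59551 : ∀ i, i < 59551 → P i := stepQ 59550 Q59550 (allL N59550 (tt N59617 F173239) (tt N38397 (iv0 F173119)) (tt N59615 (iv2 F202494)) (tt N35829 (iv3 F173120)) (tt N31724 (iv4 D111584)) (tt N58955 F173118) (tt N74053 (iv6 F226741)) (tt N59616 (iv7 F202502)))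
theorem Q59552 : ∀ i, i < 59552 → P i := stepQ 59551 Q59551 (allL N59551 (tt N58032 F173122) (tt N57878 F173123) (tt N58029 F202537) (tt N96581 (iv3 F413068)) (tt N96583 D199673) (tt N31724 (iv5 D111585)) (tt N40722 F343793) (tt N58030 F202535))
theorem Q59553 : ∀ i, i < 59553 → P i := stepQ 59552 Q59552 (allL N59552 (tt N58358 (iv1 F226744)) (tt N73563 (iv0 F226743)) (tt N78147 F336740) (tt N96582 (iv3 F413072)) (tt N74053 F226742) (tt N40723 F336741) (tt N31724 (iv6 D111586)) (tt N58173 F173126))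
theorem Q59554 : ∀ i, i < 59554 → P i := stepQ 59553 Q59553 (allL N59553 (tt N96523 F412845) (tt N96584 D199674) (tt N96585 D199675) (tt N31725 (iv3 D111588)) (tt N65884 (iv4 F202716)) (tt N81186 (iv5 F345541)) (tt N58169 F173127) (tt N96336 (iv7 F412113)))
theorem Q59555 : ∀ i, i < 59555 → P i := stepQ 59554 Q59554 (allL N59554 (tt N57878 F173128) (tt N58032 F173129) (tt N58030 (iv2 F202536)) (tt N81186 F348952) (tt N96586 D199676) (tt N31725 (iv5 D111589)) (tt N81185 (iv6 F348951)) (tt N58029 (iv7 F202538)))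
theorem Q59556 : ∀ i, i < 59556 → P i := stepQ 59555 Q59555 (allL N59555 (tt N94909 (iv1 F406295)) (tt N73539 F362791) (tt N96337 (iv2 F412114)) (tt N96587 D199677) (tt N31726 (iv4 D111590)) (tt N31752 F362792) (tt N31753 F362793) (tt N79195 F362794))
theorem Q59557 : ∀ i, i < 59557 → P i := stepQ 59556 Q59556 (allL N59556 (tt N94679 (iv1 F405498)) (tt N94680 (iv0 F405501)) (tt N64977 F343782) (tt N64984 F353993) (tt N79195 F343783) (tt N31727 F173130) (tt N45372 F343784) (tt N31726 (iv7 D111591)))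
theorem Q59558 : ∀ i, i < 59558 → P i := stepQ 59557 Q59557 (allL N59557 (tt N96588 D199678) (tt N60699 (iv0 F176735)) (tt N73534 F343769) (tt N45633 F326022) (tt N96589 D199679) (tt N31728 (iv5 D111593)) (tt N73449 (iv6 F343771)) (tt N58669 F173133))
theorem Q59559 : ∀ i, i < 59559 → P i := stepQ 59558 Q59558 (allL N59558 (tt N58352 F337413) (tt N72692 F337414) (tt N72954 (iv2 F223651)) (tt N45634 F323808) (tt N31729 F173134) (tt N44356 F337415) (tt N31728 (iv6 D111594)) (tt N58182 F173135))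
theorem Q59560 : ∀ i, i < 59560 → P i := stepQ 59559 Q59559 (allL N59559 (tt N96377 (iv1 F412299)) (tt N79237 F360129) (tt N79132 (iv2 F360128)) (tt N31730 (iv3 D111595)) (tt N58224 F173136) (tt N96590 D199680) (tt N58178 F173137) (tt N96338 (iv7 F412120)))
theorem Q59561 : ∀ i, i < 59561 → P i := stepQ 59560 Q59560 (allL N59560 (tt N60699 F176736) (tt N96588 F413094) (tt N58669 F173138) (tt N96590 (iv3 F413103)) (tt N96591 D199681) (tt N31730 (iv5 D111596)) (tt N96592 D199682) (tt N73534 F343770))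
theorem Q59562 : ∀ i, i < 59562 → P i := stepQ 59561 Q59561 (allL N59561 (tt N38740 (iv1 F173142)) (tt N31731 (iv0 D111597)) (tt N38737 (iv2 F173140)) (tt N96593 D199683) (tt N57711 F173139) (tt N89316 (iv5 F386059)) (tt N58227 (iv6 F173141)) (tt N38738 (iv7 F173143)))
theorem Q59563 : ∀ i, i < 59563 → P i := stepQ 59562 Q59562 (allL N59562 (tt N31731 (iv1 D111598)) (tt N38740 F173145) (tt N38738 (iv2 F173147)) (tt N96594 D199684) (tt N37835 (iv4 F173148)) (tt N94915 (iv5 F406316)) (tt N96595 D199685) (tt N38737 F173146))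
theorem Q59564 : ∀ i, i < 59564 → P i := stepQ 59563 Q59563 (allL N59563 (tt N96596 D199686) (tt N96597 D199687) (tt N96598 D199688) (tt N31731 (iv3 D111599)) (tt N70567 (iv4 F217845)) (tt N96599 D199689) (tt N38666 F173149) (tt N96600 D199690))
theorem Q59565 : ∀ i, i < 59565 → P i := stepQ 59564 Q59564 (allL N59564 (tt N69904 (iv1 F216312)) (tt N35168 F328916) (tt N38739 F173150) (tt N96599 (iv3 F413133)) (tt N95717 (iv4 F409284)) (tt N31731 (iv5 D111600)) (tt N95241 (iv6 F407550)) (tt N69707 F343840))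
theorem Q59566 : ∀ i, i < 59566 → P i := stepQ 59565 Q59565 (allL N59565 (tt N38738 (iv1 F173154)) (tt N38737 F173155) (tt N38740 F173151) (tt N96600 (iv3 F413135)) (tt N31732 F173152) (tt N69707 F343844) (tt N38757 F173153) (tt N31731 (iv7 D111601)))
theorem Q59567 : ∀ i, i < 59567 → P i := stepQ 59566 Q59566 (allL N59566 (tt N31757 F355989) (tt N95718 F409293) (tt N60517 F355966) (tt N31733 (iv3 D111603)) (tt N35845 F173158) (tt N96601 D199691) (tt N96602 D199692) (tt N60520 (iv7 F355959)))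
theorem Q59568 : ∀ i, i < 59568 → P i := stepQ 59567 Q59567 (allL N59567 (tt N96603 D199693) (tt N95546 (iv0 F408589)) (tt N95528 F408503) (tt N92088 F395692) (tt N31733 (iv4 D111604)) (tt N96604 D199694) (tt N96605 D199695) (tt N96349 (iv7 F412178)))
theorem Q59569 : ∀ i, i < 59569 → P i := stepQ 59568 Q59568 (allL N59568 (tt N51037 F387849) (tt N31764 F387850) (tt N96352 (iv2 F412191)) (tt N96601 (iv3 F413138)) (tt N51021 F375174) (tt N31733 (iv5 D111605)) (tt N96606 D199696) (tt N96350 (iv7 F412180)))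
theorem Q59570 : ∀ i, i < 59570 → P i := stepQ 59569 Q59569 (allL N59569 (tt N96607 D199697) (tt N58349 F407660) (tt N96353 (iv2 F412196)) (tt N96602 (iv3 F413140)) (tt N96605 (iv4 F413151)) (tt N82179 F378718) (tt N31733 (iv6 D111606)) (tt N58234 (iv7 F378717)))
theorem Q59571 : ∀ i, i < 59571 → P i := stepQ 59570 Q59570 (allL N59570 (tt N95624 (iv1 F408941)) (tt N95626 (iv0 F408940)) (tt N96369 (iv2 F412269)) (tt N31734 (iv3 D111608)) (tt N96608 D199698) (tt N96609 D199699) (tt N58235 F378716) (tt N96351 (iv7 F412189)))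
theorem Q59572 : ∀ i, i < 59572 → P i := stepQ 59571 Q59571 (allL N59571 (tt N95546 F408590) (tt N96603 F413146) (tt N96349 (iv2 F412176)) (tt N59890 (iv3 F174509)) (tt N31734 (iv4 D111609)) (tt N96610 D199700) (tt N58236 F378713) (tt N95528 (iv7 F408501)))
theorem Q59573 : ∀ i, i < 59573 → P i := stepQ 59572 Q59572 (allL N59572 (tt N31764 F395002) (tt N51037 F395003) (tt N96350 (iv2 F412179)) (tt N96609 (iv3 F413167)) (tt N51020 F395004) (tt N31734 (iv5 D111610)) (tt N96611 D199701) (tt N96352 (iv7 F412192)))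
theorem Q59574 : ∀ i, i < 59574 → P i := stepQ 59573 Q59573 (allL N59573 (tt N71032 (iv1 F219322)) (tt N58617 F173161) (tt N31736 F173160) (tt N71029 (iv3 F219308)) (tt N31735 (iv4 D111612)) (tt N96612 D199702) (tt N81008 (iv6 F358922)) (tt N71033 (iv7 F219320)))
theorem Q59575 : ∀ i, i < 59575 → P i := stepQ 59574 Q59574 (allL N59574 (tt N96357 (iv1 F412212)) (tt N96356 F412211) (tt N31737 F173162) (tt N94852 F406155) (tt N96613 D199703) (tt N31735 (iv5 D111613)) (tt N96614 D199704) (tt N96354 (iv7 F412204)))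
theorem Q59576 : ∀ i, i < 59576 → P i := stepQ 59575 Q59575 (allL N59575 (tt N80989 (iv1 F358921)) (tt N80985 (iv0 F358920)) (tt N31738 F173163) (tt N96345 (iv3 F412161)) (tt N81008 F358918) (tt N81006 F358919) (tt N31735 (iv6 D111614)) (tt N96615 D199705))
theorem Q59577 : ∀ i, i < 59577 → P i := stepQ 59576 Q59576 (allL N59576 (tt N71033 (iv1 F219321)) (tt N31736 (iv0 D111615)) (tt N71032 F219323) (tt N31943 F173164) (tt N59948 (iv4 F174940)) (tt N96616 D199706) (tt N96617 D199707) (tt N58617 (iv7 F173165)))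
theorem Q59578 : ∀ i, i < 59578 → P i := stepQ 59577 Q59577 (allL N59577 (tt N31736 (iv1 D111616)) (tt N71033 F219326) (tt N58617 (iv2 F219325)) (tt N75396 (iv3 F349828)) (tt N59536 (iv4 F173166)) (tt N96618 D199708) (tt N58242 F359284) (tt N71032 F219324))
theorem Q59579 : ∀ i, i < 59579 → P i := stepQ 59578 Q59578 (allL N59578 (tt N95447 F408224) (tt N96619 D199709) (tt N96612 (iv2 F413172)) (tt N39229 F173167) (tt N89934 (iv4 F388041)) (tt N31736 (iv5 D111617)) (tt N78653 (iv6 F359253)) (tt N71034 (iv7 F219328)))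
theorem Q59580 : ∀ i, i < 59580 → P i := stepQ 59579 Q59579 (allL N59579 (tt N47141 F343714) (tt N47142 F343715) (tt N81008 F343716) (tt N39230 F173168) (tt N31738 F173169) (tt N45450 F343717) (tt N31736 (iv6 D111618)) (tt N81009 F343718))
theorem Q59581 : ∀ i, i < 59581 → P i := stepQ 59580 Q59580 (allL N59580 (tt N96354 (iv1 F412205)) (tt N31737 (iv0 D111619)) (tt N96357 F412214) (tt N77490 F412063) (tt N96620 D199710) (tt N73086 (iv5 F412064)) (tt N77488 (iv6 F412065)) (tt N96356 (iv7 F412217)))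
theorem Q59582 : ∀ i, i < 59582 → P i := stepQ 59581 Q59581 (allL N59581 (tt N31737 (iv1 D111620)) (tt N96354 F412206) (tt N96356 (iv2 F412219)) (tt N96621 D199711) (tt N96622 D199712) (tt N73087 (iv5 F412220)) (tt N96623 D199713) (tt N96357 F412218))
theorem Q59583 : ∀ i, i < 59583 → P i := stepQ 59582 Q59582 (allL N59582 (tt N61160 F371121) (tt N96624 D199714) (tt N96613 (iv2 F413177)) (tt N69527 F349533) (tt N31737 (iv4 D111621)) (tt N69525 (iv5 F349532)) (tt N96625 D199715) (tt N96358 (iv7 F412227)))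
theorem Q59584 : ∀ i, i < 59584 → P i := stepQ 59583 Q59583 (allL N59583 (tt N91450 F395005) (tt N96626 D199716) (tt N96614 (iv2 F413179)) (tt N31742 F173170) (tt N96625 (iv4 F413228)) (tt N31755 F343751) (tt N31737 (iv6 D111622)) (tt N95716 (iv7 F409280)))
theorem Q59585 : ∀ i, i < 59585 → P i := stepQ 59584 Q59584 (allL N59584 (tt N96615 (iv1 F413190)) (tt N31738 (iv0 D111623)) (tt N80989 F343710) (tt N64583 (iv3 F413313)) (tt N80788 F343711) (tt N45445 F343712) (tt N96627 D199718) (tt N80985 F343713))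
theorem Q59586 : ∀ i, i < 59586 → P i := stepQ 59585 Q59585 (allL N59585 (tt N31738 (iv1 D111624)) (tt N96615 F413189) (tt N80985 F343706) (tt N91977 (iv3 F395204)) (tt N45457 F343707) (tt N47295 F343708) (tt N91975 F395202) (tt N80989 F343709))
theorem Q59587 : ∀ i, i < 59587 → P i := stepQ 59586 Q59586 (allL N59586 (tt N47107 F343719) (tt N47113 F343720) (tt N81006 F343721) (tt N31743 F173171) (tt N44939 F343722) (tt N31738 (iv5 D111625)) (tt N31755 F343723) (tt N64436 F343724))
theorem Q59588 : ∀ i, i < 59588 → P i := stepQ 59587 Q59587 (allL N59587 (tt N80985 F353320) (tt N80989 (iv0 F353288)) (tt N96615 (iv2 F413185)) (tt N31744 F173172) (tt N81009 F353286) (tt N64436 (iv5 F358917)) (tt N96363 (iv6 F412235)) (tt N31738 (iv7 D111626)))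
theorem Q59589 : ∀ i, i < 59589 → P i := stepQ 59588 Q59588 (allL N59588 (tt N35758 (iv1 F173177)) (tt N65926 (iv0 F202887)) (tt N35577 F173173) (tt N31740 F173174) (tt N39230 F173175) (tt N36073 F173176) (tt N31739 (iv6 D111627)) (tt N71669 (iv7 F220358)))
theorem Q59590 : ∀ i, i < 59590 → P i := stepQ 59589 Q59589 (allL N59589 (tt N35655 (iv1 F173190)) (tt N31740 (iv0 D111628)) (tt N35653 (iv2 F173185)) (tt N56212 F173186) (tt N59348 F173183) (tt N64573 (iv5 F363088)) (tt N56216 F173184) (tt N35654 F173187))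
theorem Q59591 : ∀ i, i < 59591 → P i := stepQ 59590 Q59590 (allL N59590 (tt N35654 (iv1 F173195)) (tt N35653 F173196) (tt N35655 F173192) (tt N71669 (iv3 F220357)) (tt N31744 F173193) (tt N36069 F173194) (tt N69706 (iv6 F215925)) (tt N31740 (iv7 D111629)))
theorem Q59592 : ∀ i, i < 59592 → P i := stepQ 59591 Q59591 (allL N59591 (tt N96375 (iv1 F412292)) (tt N96367 (iv0 F412261)) (tt N96373 F412285) (tt N31741 (iv3 D111630)) (tt N96628 D199719) (tt N59320 F173197) (tt N96629 D199720) (tt N59401 F173198))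
theorem Q59593 : ∀ i, i < 59593 → P i := stepQ 59592 Q59592 (allL N59592 (tt N96630 D199721) (tt N96631 D199722) (tt N59411 F173199) (tt N96629 (iv3 F413242)) (tt N40547 F173200) (tt N95001 (iv5 F406602)) (tt N31741 (iv6 D111631)) (tt N96632 D199723))
theorem Q59594 : ∀ i, i < 59594 → P i := stepQ 59593 Q59593 (allL N59593 (tt N31758 F343743) (tt N31742 (iv0 D111632)) (tt N59409 F343744) (tt N96373 (iv3 F412286)) (tt N89034 (iv4 F384897)) (tt N58698 F343745) (tt N89033 (iv6 F384894)) (tt N73092 F343746))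
theorem Q59595 : ∀ i, i < 59595 → P i := stepQ 59594 Q59594 (allL N59594 (tt N96366 F412258) (tt N79234 (iv0 F403529)) (tt N96378 F412302) (tt N31745 (iv3 D111640)) (tt N94171 F403523) (tt N96633 D199724) (tt N58264 (iv6 F363308)) (tt N96339 F412126))
theorem Q59596 : ∀ i, i < 59596 → P i := stepQ 59595 Q59595 (allL N59595 (tt N96634 D199725) (tt N35718 (iv0 F202282)) (tt N96343 (iv2 F412149)) (tt N96635 D199726) (tt N31745 (iv4 D111641)) (tt N96636 D199727) (tt N58265 (iv6 F363309)) (tt N96340 (iv7 F412135)))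
theorem Q59597 : ∀ i, i < 59597 → P i := stepQ 59596 Q59596 (allL N59596 (tt N94862 (iv1 F406189)) (tt N31766 F354459) (tt N96344 (iv2 F412155)) (tt N96633 (iv3 F413261)) (tt N58314 F173205) (tt N31745 (iv5 D111642)) (tt N72216 (iv6 F363305)) (tt N96341 (iv7 F412139)))
theorem Q59598 : ∀ i, i < 59598 → P i := stepQ 59597 Q59597 (allL N59597 (tt N95715 (iv1 F409277)) (tt N31755 F387405) (tt N95714 F409262) (tt N31746 (iv3 D111645)) (tt N89747 (iv4 F387409)) (tt N96637 D199728) (tt N89746 (iv6 F387404)) (tt N95713 (iv7 F409265)))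
theorem Q59599 : ∀ i, i < 59599 → P i := stepQ 59598 Q59598 (allL N59598 (tt N35718 F387406) (tt N96634 F413266) (tt N96340 (iv2 F412134)) (tt N35696 (iv3 F173207)) (tt N31746 (iv4 D111646)) (tt N96638 D199729) (tt N96639 D199730) (tt N96343 (iv7 F412151)))
theorem Q59600 : ∀ i, i < 59600 → P i := stepQ 59599 Q59599 (allL N59599 (tt N31766 F406191) (tt N94862 (iv0 F406188)) (tt N96341 (iv2 F412138)) (tt N96637 (iv3 F413274)) (tt N96640 D199731) (tt N31746 (iv5 D111647)) (tt N96641 D199732) (tt N96344 (iv7 F412156)))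
theorem Q59601 : ∀ i, i < 59601 → P i := stepQ 59600 Q59600 (allL N59600 (tt N58353 F400659) (tt N96642 D199733) (tt N96342 (iv2 F412143)) (tt N89746 F387403) (tt N96639 (iv4 F413282)) (tt N91646 (iv5 F393880)) (tt N31746 (iv6 D111648)) (tt N58270 F363311))
theorem Q59602 : ∀ i, i < 59602 → P i := stepQ 59601 Q59601 (allL N59601 (tt N35659 (iv1 F173210)) (tt N35658 F173212) (tt N31748 F173208) (tt N35684 (iv3 F173211)) (tt N31747 (iv4 D111649)) (tt N96643 D199734) (tt N86960 (iv6 F377863)) (tt N35660 F173209))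
theorem Q59603 : ∀ i, i < 59603 → P i := stepQ 59602 Q59602 (allL N59602 (tt N96346 (iv1 F412163)) (tt N95226 (iv0 F407493)) (tt N31749 F173213) (tt N96354 (iv3 F412203)) (tt N58156 (iv4 F219110)) (tt N31747 (iv5 D111650)) (tt N96644 D199735) (tt N94852 (iv7 F406151)))
theorem Q59604 : ∀ i, i < 59604 → P i := stepQ 59603 Q59603 (allL N59603 (tt N96645 D199736) (tt N96646 D199737) (tt N31750 F173214) (tt N96355 (iv3 F412208)) (tt N86960 F377864) (tt N96647 D199738) (tt N31747 (iv6 D111651)) (tt N96648 D199739))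
theorem Q59605 : ∀ i, i < 59605 → P i := stepQ 59604 Q59604 (allL N59604 (tt N35660 (iv1 F173216)) (tt N31748 (iv0 D111652)) (tt N35659 F204638) (tt N58152 F173215) (tt N59952 F174942) (tt N94790 (iv5 F405959)) (tt N55654 (iv6 F343545)) (tt N35658 F204639))
theorem Q59606 : ∀ i, i < 59606 → P i := stepQ 59605 Q59605 (allL N59605 (tt N31748 (iv1 D111653)) (tt N35660 F173217) (tt N35658 F204643) (tt N67393 (iv3 F343542)) (tt N59498 (iv4 F173218)) (tt N96649 D199740) (tt N67392 (iv6 F343547)) (tt N35659 F204644))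
theorem Q59607 : ∀ i, i < 59607 → P i := stepQ 59606 Q59606 (allL N59606 (tt N65582 F360417) (tt N65586 F360419) (tt N96643 (iv2 F413296)) (tt N35582 F173219) (tt N94850 (iv4 F406137)) (tt N31748 (iv5 D111654)) (tt N92753 F398077) (tt N35661 F173220))
theorem Q59608 : ∀ i, i < 59608 → P i := stepQ 59607 Q59607 (allL N59607 (tt N96650 D199741) (tt N96651 D199742) (tt N86960 (iv2 F377862)) (tt N35583 F173221) (tt N31750 F173222) (tt N92754 (iv5 F398079)) (tt N31748 (iv6 D111655)) (tt N96652 D199743))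
theorem Q59609 : ∀ i, i < 59609 → P i := stepQ 59608 Q59608 (allL N59608 (tt N94852 (iv1 F406156)) (tt N31749 (iv0 D111656)) (tt N96346 F412166) (tt N96653 D199744) (tt N95203 (iv4 F407401)) (tt N65544 F406157) (tt N91546 (iv6 F406158)) (tt N95226 (iv7 F407492)))
theorem Q59610 : ∀ i, i < 59610 → P i := stepQ 59609 Q59609 (allL N59609 (tt N31749 (iv1 D111657)) (tt N94852 F406152) (tt N95226 (iv2 F407491)) (tt N91450 (iv3 F393180)) (tt N95223 (iv4 F407482)) (tt N65545 (iv5 F406153)) (tt N91449 (iv6 F393178)) (tt N96346 (iv7 F412164)))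
theorem Q59611 : ∀ i, i < 59611 → P i := stepQ 59610 Q59610 (allL N59610 (tt N96654 D199745) (tt N96655 D199746) (tt N96644 (iv2 F413301)) (tt N31752 F173223) (tt N94842 (iv4 F406123)) (tt N96587 (iv5 F413087)) (tt N31749 (iv6 D111658)) (tt N96656 D199747))
theorem Q59612 : ∀ i, i < 59612 → P i := stepQ 59611 Q59611 (allL N59611 (tt N96648 (iv1 F413324)) (tt N31750 (iv0 D111659)) (tt N96645 F413305) (tt N78416 (iv3 F364839)) (tt N78418 F364838) (tt N96657 D199748) (tt N96658 D199749) (tt N96646 (iv7 F413309)))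
theorem Q59613 : ∀ i, i < 59613 → P i := stepQ 59612 Q59612 (allL N59612 (tt N31750 (iv1 D111660)) (tt N96648 F413323) (tt N96646 (iv2 F413316)) (tt N79133 (iv3 F377829)) (tt N80424 (iv4 F377828)) (tt N96659 D199750) (tt N96660 D199751) (tt N96645 F413306))
theorem Q59614 : ∀ i, i < 59614 → P i := stepQ 59613 Q59613 (allL N59613 (tt N96661 D199752) (tt N96662 D199753) (tt N96647 (iv2 F413318)) (tt N31753 F173224) (tt N96663 D199754) (tt N31750 (iv5 D111661)) (tt N96587 (iv6 F413088)) (tt N96664 D199755))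
theorem Q59615 : ∀ i, i < 59615 → P i := stepQ 59614 Q59614 (allL N59614 (tt N96646 (iv1 F413308)) (tt N96645 F413317) (tt N96648 (iv2 F413321)) (tt N31754 F173225) (tt N96652 (iv4 F413337)) (tt N96664 (iv5 F413361)) (tt N64585 (iv6 F362844)) (tt N31750 (iv7 D111662)))
theorem Q59616 : ∀ i, i < 59616 → P i := stepQ 59615 Q59615 (allL N59615 (tt N69706 (iv1 F215927)) (tt N31751 (iv0 D111663)) (tt N59550 F202494) (tt N35771 (iv3 F173228)) (tt N59358 F173226) (tt N56520 F173227) (tt N94798 (iv6 F405989)) (tt N35782 (iv7 F202501)))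
theorem Q59617 : ∀ i, i < 59617 → P i := stepQ 59616 Q59616 (allL N59616 (tt N31751 (iv1 D111664)) (tt N69706 F215926) (tt N35782 (iv2 F202503)) (tt N65936 F202918) (tt N59359 (iv4 F173232)) (tt N56521 F173230) (tt N58252 (iv6 F173233)) (tt N59550 F202502))
theorem Q59618 : ∀ i, i < 59618 → P i := stepQ 59617 Q59617 (allL N59617 (tt N35782 (iv1 F173238)) (tt N59550 (iv0 F173239)) (tt N69706 (iv2 F215921)) (tt N35585 F173234) (tt N31754 F173235) (tt N36730 F173236) (tt N35655 F173237) (tt N31751 (iv7 D111665)))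
theorem Q59619 : ∀ i, i < 59619 → P i := stepQ 59618 Q59618 (allL N59618 (tt N95717 F409287) (tt N31752 (iv0 D111666)) (tt N96364 F412245) (tt N96365 (iv3 F412253)) (tt N40548 F357739) (tt N96589 (iv5 F413099)) (tt N35172 F357740) (tt N96365 (iv7 F412248)))
theorem Q59620 : ∀ i, i < 59620 → P i := stepQ 59619 Q59619 (allL N59619 (tt N31752 (iv1 D111667)) (tt N95717 F409288) (tt N96365 (iv2 F412252)) (tt N96665 D199756) (tt N40549 F357729) (tt N96591 (iv5 F413106)) (tt N70879 F357730) (tt N96364 F412246))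
theorem Q59621 : ∀ i, i < 59621 → P i := stepQ 59620 Q59620 (allL N59620 (tt N96365 (iv1 F412247)) (tt N96364 F412243) (tt N95717 (iv2 F409283)) (tt N96656 (iv3 F413346)) (tt N38739 F343841) (tt N79195 F343845) (tt N31758 F362787) (tt N31752 (iv7 D111669)))
theorem Q59622 : ∀ i, i < 59622 → P i := stepQ 59621 Q59621 (allL N59621 (tt N59764 (iv1 F173944)) (tt N94683 (iv0 F405512)) (tt N79137 F343764) (tt N96664 (iv3 F413360)) (tt N64982 F343765) (tt N31754 F173241) (tt N34460 F343766) (tt N31753 (iv7 D111671)))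
theorem Q59623 : ∀ i, i < 59623 → P i := stepQ 59622 Q59622 (allL N59622 (tt N31755 (iv1 D111679)) (tt N95715 F409278) (tt N95713 F409270) (tt N96378 (iv3 F412303)) (tt N96666 D199757) (tt N96667 D199758) (tt N58293 F409271) (tt N95714 F409272))
theorem Q59624 : ∀ i, i < 59624 → P i := stepQ 59623 Q59623 (allL N59623 (tt N95714 F409264) (tt N95713 F409260) (tt N31755 (iv2 D111680)) (tt N95718 (iv3 F409289)) (tt N57300 (iv4 F173302)) (tt N96614 (iv5 F413180)) (tt N81006 F362848) (tt N95715 (iv7 F409276)))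
theorem Q59625 : ∀ i, i < 59625 → P i := stepQ 59624 Q59624 (allL N59624 (tt N32058 F173252) (tt N57302 F175407) (tt N57300 F173301) (tt N44940 F325225) (tt N31755 (iv4 D111681)) (tt N80645 (iv5 F345512)) (tt N44939 F325226) (tt N57301 F173300))
theorem Q59626 : ∀ i, i < 59626 → P i := stepQ 59625 Q59625 (allL N59625 (tt N95718 (iv1 F409292)) (tt N31757 (iv0 D111695)) (tt N60520 (iv2 F355988)) (tt N96369 F412268) (tt N35844 F173416) (tt N96668 D199759) (tt N58302 F355942) (tt N60517 F355987))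
theorem Q59627 : ∀ i, i < 59627 → P i := stepQ 59626 Q59626 (allL N59626 (tt N60520 F203212) (tt N60517 (iv0 F176537)) (tt N31757 (iv2 D111697)) (tt N95715 (iv3 F409273)) (tt N32371 F173423) (tt N96669 D199760) (tt N79193 (iv6 F365774)) (tt N95718 (iv7 F409291)))
theorem Q59628 : ∀ i, i < 59628 → P i := stepQ 59627 Q59627 (allL N59627 (tt N59502 F173421) (tt N59499 (iv0 F173419)) (tt N32371 (iv2 F173420)) (tt N35797 F173417) (tt N31757 (iv4 D111698)) (tt N71915 (iv5 F220883)) (tt N45867 F325589) (tt N35906 F173418))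
theorem Q59629 : ∀ i, i < 59629 → P i := stepQ 59628 Q59628 (allL N59628 (tt N96670 D199761) (tt N77490 F394328) (tt N96669 (iv2 F413374)) (tt N31758 F173424) (tt N71905 (iv4 F220863)) (tt N31757 (iv5 D111699)) (tt N96656 (iv6 F413348)) (tt N95719 (iv7 F409296)))
theorem Q59630 : ∀ i, i < 59630 → P i := stepQ 59629 Q59629 (allL N59629 (tt N95951 (iv1 F410394)) (tt N95950 F410390) (tt N95241 (iv2 F407548)) (tt N73492 (iv3 F224948)) (tt N31758 (iv4 D111702)) (tt N38736 F332716) (tt N38739 F332717) (tt N66414 F343822))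
theorem Q59631 : ∀ i, i < 59631 → P i := stepQ 59630 Q59630 (allL N59630 (tt N96637 F413275) (tt N96667 (iv0 F413369)) (tt N96671 D199762) (tt N31760 (iv3 D111709)) (tt N96672 D199763) (tt N48314 F326447) (tt N96400 (iv6 F412344)) (tt N95720 (iv7 F409300)))
theorem Q59632 : ∀ i, i < 59632 → P i := stepQ 59631 Q59631 (allL N59631 (tt N96673 D199764) (tt N35154 F360063) (tt N95217 (iv2 F407454)) (tt N96674 D199765) (tt N31760 (iv4 D111710)) (tt N95205 (iv5 F407407)) (tt N72429 F351249) (tt N95229 (iv7 F407505)))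
theorem Q59633 : ∀ i, i < 59633 → P i := stepQ 59632 Q59632 (allL N59632 (tt N96668 (iv1 F413373)) (tt N96601 (iv0 F413139)) (tt N96675 D199766) (tt N31761 (iv3 D111712)) (tt N93303 (iv4 F400318)) (tt N96414 (iv5 F412422)) (tt N51041 F400321) (tt N95722 (iv7 F409315)))
theorem Q59634 : ∀ i, i < 59634 → P i := stepQ 59633 Q59633 (allL N59633 (tt N35154 F360061) (tt N96673 F413393) (tt N95229 (iv2 F407502)) (tt N85552 (iv3 F373043)) (tt N31761 (iv4 D111713)) (tt N82448 F366010) (tt N96676 D199767) (tt N95217 (iv7 F407456)))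
theorem Q59635 : ∀ i, i < 59635 → P i := stepQ 59634 Q59634 (allL N59634 (tt N96677 D199768) (tt N96678 D199769) (tt N95721 (iv2 F409303)) (tt N51041 F400322) (tt N96676 (iv4 F413409)) (tt N96679 D199770) (tt N31761 (iv6 D111714)) (tt N96399 (iv7 F412342)))
theorem Q59636 : ∀ i, i < 59636 → P i := stepQ 59635 Q59635 (allL N59635 (tt N82302 (iv1 F362613)) (tt N31762 (iv0 D111715)) (tt N82300 F409082) (tt N96680 D199771) (tt N95699 (iv4 F409196)) (tt N95672 (iv5 F409079)) (tt N96002 F410576) (tt N82301 F409083))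
theorem Q59637 : ∀ i, i < 59637 → P i := stepQ 59636 Q59636 (allL N59636 (tt N31762 (iv1 D111716)) (tt N82302 F364121) (tt N82301 (iv2 F409084)) (tt N96681 D199772) (tt N95674 (iv4 F409093)) (tt N95688 (iv5 F409148)) (tt N96682 D199773) (tt N82300 (iv7 F409085)))
theorem Q59638 : ∀ i, i < 59638 → P i := stepQ 59637 Q59637 (allL N59637 (tt N96683 D199774) (tt N96684 D199775) (tt N96685 D199776) (tt N31762 (iv3 D111717)) (tt N31768 F173430) (tt N95235 (iv5 F407532)) (tt N35192 F337488) (tt N95723 (iv7 F409317)))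
theorem Q59639 : ∀ i, i < 59639 → P i := stepQ 59638 Q59638 (allL N59638 (tt N96352 (iv1 F412195)) (tt N96350 (iv0 F412181)) (tt N31764 (iv2 D111724)) (tt N94862 F406192) (tt N96686 D199777) (tt N95925 (iv5 F410291)) (tt N96687 D199778) (tt N51037 F354411))
theorem Q59640 : ∀ i, i < 59640 → P i := stepQ 59639 Q59639 (allL N59639 (tt N96688 D199779) (tt N96689 D199780) (tt N96686 (iv2 F413446)) (tt N70741 F354329) (tt N31764 (iv4 D111725)) (tt N96690 D199781) (tt N96691 D199782) (tt N53674 F354419))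
theorem Q59641 : ∀ i, i < 59641 → P i := stepQ 59640 Q59640 (allL N59640 (tt N96692 D199783) (tt N96693 D199784) (tt N96687 (iv2 F413451)) (tt N31765 F173434) (tt N96691 (iv4 F413482)) (tt N80531 (iv5 F364225)) (tt N31764 (iv6 D111726)) (tt N51040 (iv7 F354416)))
theorem Q59642 : ∀ i, i < 59642 → P i := stepQ 59641 Q59641 (allL N59641 (tt N96344 (iv1 F412158)) (tt N96341 (iv0 F412141)) (tt N31766 (iv2 D111733)) (tt N51037 F354407) (tt N76217 F354400) (tt N95932 (iv5 F410325)) (tt N51035 (iv6 F354406)) (tt N94862 (iv7 F406187)))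
theorem Q59643 : ∀ i, i < 59643 → P i := stepQ 59642 Q59642 (allL N59642 (tt N51038 (iv1 F349176)) (tt N31767 (iv0 D111735)) (tt N72303 F337424) (tt N96677 F413411) (tt N40129 F345075) (tt N33231 F337425) (tt N96694 D199785) (tt N72302 F337426))
theorem Q59644 : ∀ i, i < 59644 → P i := stepQ 59643 Q59643 (allL N59643 (tt N31767 (iv1 D111736)) (tt N51038 (iv0 F349175)) (tt N72302 F337428) (tt N96695 D199786) (tt N40130 F345077) (tt N33232 F337429) (tt N96678 F413415) (tt N72303 F337430))
theorem Q59645 : ∀ i, i < 59645 → P i := stepQ 59644 Q59644 (allL N59644 (tt N95909 F410207) (tt N31768 (iv0 D111739)) (tt N95911 F410220) (tt N96696 D199787) (tt N96697 D199788) (tt N40098 F395998) (tt N96698 D199789) (tt N95910 F410214))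
theorem Q59646 : ∀ i, i < 59646 → P i := stepQ 59645 Q59645 (allL N59645 (tt N31768 (iv1 D111740)) (tt N95909 F410208) (tt N95910 F410213) (tt N96699 D199790) (tt N96700 D199791) (tt N40099 F410209) (tt N89140 F410210) (tt N95911 (iv7 F410216)))
theorem Q59647 : ∀ i, i < 59647 → P i := stepQ 59646 Q59646 (allL N59646 (tt N95911 (iv1 F410215)) (tt N95910 F410212) (tt N31768 (iv2 D111741)) (tt N71110 F338275) (tt N96685 (iv4 F413442)) (tt N40527 F173436) (tt N71109 (iv6 F353378)) (tt N95909 (iv7 F410205)))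
theorem Q59648 : ∀ i, i < 59648 → P i := stepQ 59647 Q59647 (allL N59647 (tt N39348 F337456) (tt N39344 F337457) (tt N71109 F337458) (tt N31769 F173437) (tt N35192 F337462) (tt N71108 F337459) (tt N31768 (iv6 D111742)) (tt N82073 F337460))
theorem Q59649 : ∀ i, i < 59649 → P i := stepQ 59648 Q59648 (allL N59648 (tt N71104 F357721) (tt N31769 (iv0 D111743)) (tt N96001 F410583) (tt N96701 D199792) (tt N96478 (iv4 F412685)) (tt N39104 F357722) (tt N96702 D199793) (tt N96002 F410581))
theorem Q59650 : ∀ i, i < 59650 → P i := stepQ 59649 Q59649 (allL N59649 (tt N31769 (iv1 D111744)) (tt N71104 F332957) (tt N96002 (iv2 F410577)) (tt N96703 D199794) (tt N95703 (iv4 F409210)) (tt N39103 F332958) (tt N82300 (iv6 F341519)) (tt N96001 (iv7 F410582)))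
theorem Q59651 : ∀ i, i < 59651 → P i := stepQ 59650 Q59650 (allL N59650 (tt N71102 F343266) (tt N71101 F359221) (tt N68865 F353361) (tt N71108 (iv3 F353360)) (tt N82072 F353362) (tt N31769 (iv5 D111745)) (tt N40529 F173438) (tt N71103 F332970))
theorem Q59652 : ∀ i, i < 59652 → P i := stepQ 59651 Q59651 (allL N59651 (tt N96002 (iv1 F410574)) (tt N96001 F410573) (tt N71104 (iv2 F332963)) (tt N82073 F337454) (tt N31772 F173439) (tt N71103 (iv5 F337455)) (tt N95914 (iv6 F410234)) (tt N31769 (iv7 D111746)))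
theorem Q59653 : ∀ i, i < 59653 → P i := stepQ 59652 Q59652 (allL N59652 (tt N96704 D199795) (tt N96611 (iv0 F413171)) (tt N96705 D199796) (tt N31770 (iv3 D111748)) (tt N96706 D199797) (tt N96707 D199798) (tt N50979 F409310) (tt N96400 (iv7 F412345)))
theorem Q59654 : ∀ i, i < 59654 → P i := stepQ 59653 Q59653 (allL N59653 (tt N72430 (iv1 F362244)) (tt N62253 F362242) (tt N72428 F362239) (tt N96708 D199799) (tt N31770 (iv4 D111749)) (tt N77842 (iv5 F332959)) (tt N96709 D199800) (tt N72429 F362235))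
theorem Q59655 : ∀ i, i < 59655 → P i := stepQ 59654 Q59654 (allL N59654 (tt N96710 D199801) (tt N96711 D199802) (tt N96398 (iv2 F412334)) (tt N96707 (iv3 F413544)) (tt N96712 D199803) (tt N31770 (iv5 D111750)) (tt N78466 F345271) (tt N48315 F345272))
theorem Q59656 : ∀ i, i < 59656 → P i := stepQ 59655 Q59655 (allL N59655 (tt N96678 (iv1 F413413)) (tt N96677 F413410) (tt N96399 (iv2 F412340)) (tt N50979 F409309) (tt N96709 (iv4 F413555)) (tt N96713 D199804) (tt N31770 (iv6 D111751)) (tt N95721 (iv7 F409307)))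
theorem Q59657 : ∀ i, i < 59657 → P i := stepQ 59656 Q59656 (allL N59656 (tt N72216 F350385) (tt N91727 (iv0 F394201)) (tt N96714 D199805) (tt N31771 (iv3 D111753)) (tt N65276 (iv4 F362332)) (tt N64735 F362328) (tt N95722 (iv6 F409314)) (tt N96397 (iv7 F412328)))
theorem Q59658 : ∀ i, i < 59658 → P i := stepQ 59657 Q59657 (allL N59657 (tt N62253 (iv1 F345275)) (tt N72430 (iv0 F345274)) (tt N72429 (iv2 F362238)) (tt N96715 D199806) (tt N31771 (iv4 D111754)) (tt N77837 (iv5 F345273)) (tt N95217 (iv6 F407459)) (tt N72428 (iv7 F362241)))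
theorem Q59659 : ∀ i, i < 59659 → P i := stepQ 59658 Q59658 (allL N59658 (tt N96711 (iv1 F413565)) (tt N96710 F413560) (tt N48315 F345268) (tt N64735 (iv3 F362327)) (tt N44670 F345269) (tt N31771 (iv5 D111755)) (tt N44669 F345270) (tt N96398 (iv7 F412336)))
theorem Q59660 : ∀ i, i < 59660 → P i := stepQ 59659 Q59659 (allL N59659 (tt N95993 (iv1 F410544)) (tt N93547 (iv0 F410237)) (tt N95994 (iv2 F410549)) (tt N82279 F364130) (tt N95914 (iv4 F410232)) (tt N96716 D199807) (tt N31772 (iv6 D111757)) (tt N31773 F173442))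
theorem Q59661 : ∀ i, i < 59661 → P i := stepQ 59660 Q59660 (allL N59660 (tt N95994 (iv1 F410555)) (tt N31773 (iv0 D111758)) (tt N93547 (iv2 F401096)) (tt N96717 D199808) (tt N69721 (iv4 F401100)) (tt N60031 F363569) (tt N93598 (iv6 F401231)) (tt N95993 (iv7 F410545)))
theorem Q59662 : ∀ i, i < 59662 → P i := stepQ 59661 Q59661 (allL N59661 (tt N31773 (iv1 D111759)) (tt N95994 F410554) (tt N95993 F410547) (tt N96718 D199809) (tt N69722 (iv4 F363105)) (tt N93548 (iv5 F401101)) (tt N94916 (iv6 F406321)) (tt N93547 F401098))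
theorem Q59663 : ∀ i, i < 59663 → P i := stepQ 59662 Q59662 (allL N59662 (tt N96719 D199810) (tt N96720 D199811) (tt N56830 F365203) (tt N95726 (iv3 F409325)) (tt N77941 (iv4 F365205)) (tt N31773 (iv5 D111760)) (tt N31776 F173443) (tt N96716 (iv7 F413591)))
theorem Q59664 : ∀ i, i < 59664 → P i := stepQ 59663 Q59663 (allL N59663 (tt N58234 F355981) (tt N96353 F412199) (tt N96607 F413157) (tt N31774 (iv3 D111761)) (tt N96721 D199812) (tt N93379 (iv5 F400586)) (tt N96722 D199813) (tt N58349 F173444))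
theorem Q59665 : ∀ i, i < 59665 → P i := stepQ 59664 Q59664 (allL N59664 (tt N72486 (iv1 F223584)) (tt N58222 F223583) (tt N58355 F173447) (tt N96722 (iv3 F413607)) (tt N72414 (iv4 F222469)) (tt N94995 (iv5 F406592)) (tt N31774 (iv6 D111763)) (tt N96560 (iv7 F412995)))
theorem Q59666 : ∀ i, i < 59666 → P i := stepQ 59665 Q59665 (allL N59665 (tt N96342 (iv1 F412148)) (tt N58270 (iv0 F358877)) (tt N96642 F413294) (tt N31775 (iv3 D111764)) (tt N60679 (iv4 F176708)) (tt N93376 (iv5 F400581)) (tt N96723 D199814) (tt N58353 F173448))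
theorem Q59667 : ∀ i, i < 59667 → P i := stepQ 59666 Q59666 (allL N59666 (tt N58182 F203101) (tt N72954 (iv0 F223653)) (tt N58352 F173451) (tt N96723 (iv3 F413611)) (tt N66023 (iv4 F203098)) (tt N58542 (iv5 F337412)) (tt N31775 (iv6 D111766)) (tt N72692 (iv7 F364138)))
theorem Q59668 : ∀ i, i < 59668 → P i := stepQ 59667 Q59667 (allL N59667 (tt N35557 F330479) (tt N31776 (iv0 D111767)) (tt N56828 (iv2 F363571)) (tt N96724 D199815) (tt N96725 D199816) (tt N96483 (iv5 F412702)) (tt N78736 F363573) (tt N56829 (iv7 F363572)))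
theorem Q59669 : ∀ i, i < 59669 → P i := stepQ 59668 Q59668 (allL N59668 (tt N31776 (iv1 D111768)) (tt N35557 F330478) (tt N56829 F363567) (tt N73745 F363565) (tt N96726 D199817) (tt N96408 (iv5 F412384)) (tt N56379 (iv6 F363566)) (tt N56828 F363568))
theorem Q59670 : ∀ i, i < 59670 → P i := stepQ 59669 Q59669 (allL N59669 (tt N58150 (iv1 F348811)) (tt N44407 F343585) (tt N67986 F343586) (tt N31777 (iv3 D111770)) (tt N60688 (iv4 F176711)) (tt N57646 F343587) (tt N96727 D199818) (tt N58356 F173455))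
theorem Q59671 : ∀ i, i < 59671 → P i := stepQ 59670 Q59670 (allL N59670 (tt N96728 D199819) (tt N94893 (iv0 F406258)) (tt N58365 F173456) (tt N57646 F332224) (tt N77810 (iv4 F332220)) (tt N31777 (iv5 D111771)) (tt N96729 D199820) (tt N58357 F173457))
theorem Q59672 : ∀ i, i < 59672 → P i := stepQ 59671 Q59671 (allL N59671 (tt N96326 F412052) (tt N58217 F406562) (tt N58366 F173458) (tt N96727 (iv3 F413632)) (tt N31779 F173459) (tt N94977 (iv5 F406560)) (tt N31777 (iv6 D111772)) (tt N72270 (iv7 F221807)))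
theorem Q59673 : ∀ i, i < 59673 → P i := stepQ 59672 Q59672 (allL N59672 (tt N93464 (iv1 F400803)) (tt N59449 F222467) (tt N58367 F173460) (tt N67455 F337395) (tt N31778 (iv4 D111773)) (tt N77938 (iv5 F332214)) (tt N59751 (iv6 F173788)) (tt N58360 F173461))
theorem Q59674 : ∀ i, i < 59674 → P i := stepQ 59673 Q59673 (allL N59673 (tt N92046 F395527) (tt N94664 (iv0 F405435)) (tt N60404 (iv2 F176357)) (tt N31782 F173462) (tt N63591 (iv4 F361363)) (tt N31780 (iv5 D111774)) (tt N39539 F173464) (tt N58362 F173463))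
theorem Q59675 : ∀ i, i < 59675 → P i := stepQ 59674 Q59674 (allL N59674 (tt N60376 F219839) (tt N45910 F327658) (tt N60405 (iv2 F176362)) (tt N31783 F173465) (tt N95753 (iv4 F409466)) (tt N44363 F173466) (tt N31780 (iv6 D111775)) (tt N71157 (iv7 F219565)))
theorem Q59676 : ∀ i, i < 59676 → P i := stepQ 59675 Q59675 (allL N59675 (tt N96323 (iv1 F412033)) (tt N58202 F359291) (tt N90459 (iv2 F389725)) (tt N31781 (iv3 D111776)) (tt N80859 F339367) (tt N96730 D199821) (tt N64946 F360095) (tt N58364 F173468))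
theorem Q59677 : ∀ i, i < 59677 → P i := stepQ 59676 Q59676 (allL N59676 (tt N94893 (iv1 F406259)) (tt N96728 F413639) (tt N58357 F173469) (tt N96730 (iv3 F413646)) (tt N77809 F332207) (tt N31781 (iv5 D111777)) (tt N96731 D199822) (tt N58365 F173470))
theorem Q59678 : ∀ i, i < 59678 → P i := stepQ 59677 Q59677 (allL N59677 (tt N58173 (iv1 F202895)) (tt N78147 F336738) (tt N58358 F173471) (tt N64946 (iv3 F360093)) (tt N31783 F173472) (tt N40356 F336739) (tt N31781 (iv6 D111778)) (tt N73563 (iv7 F225022)))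
theorem Q59679 : ∀ i, i < 59679 → P i := stepQ 59678 Q59678 (allL N59678 (tt N59449 F222466) (tt N93464 (iv0 F400802)) (tt N58360 F173473) (tt N76724 F361364) (tt N31782 (iv4 D111779)) (tt N77937 (iv5 F332215)) (tt N59406 F173474) (tt N58367 F173475))
theorem Q59680 : ∀ i, i < 59680 → P i := stepQ 59679 Q59679 (allL N59679 (tt N36317 (iv1 F173481)) (tt N36337 F173480) (tt N31785 (iv2 D111780)) (tt N58487 F173476) (tt N41954 F173477) (tt N41656 F173478) (tt N55548 F366589) (tt N36334 F173479))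
theorem Q59681 : ∀ i, i < 59681 → P i := stepQ 59680 Q59680 (allL N59680 (tt N52288 F340306) (tt N55549 (iv0 F361257)) (tt N55548 (iv2 F366590)) (tt N31787 F173482) (tt N41982 F173483) (tt N52615 (iv5 F340402)) (tt N31785 (iv6 D111781)) (tt N55547 (iv7 F352023)))
theorem Q59682 : ∀ i, i < 59682 → P i := stepQ 59681 Q59681 (allL N59681 (tt N94084 (iv1 F403134)) (tt N87361 F403135) (tt N58490 F173485) (tt N42003 F173486) (tt N60000 (iv4 F175185)) (tt N52613 (iv5 F340401)) (tt N31786 (iv6 D111782)) (tt N54975 F347960))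
theorem Q59683 : ∀ i, i < 59683 → P i := stepQ 59682 Q59682 (allL N59682 (tt N31843 (iv1 F173488)) (tt N31787 (iv0 D111783)) (tt N58372 F173490) (tt N91299 (iv3 F392612)) (tt N35742 F173487) (tt N88265 F382409) (tt N91287 (iv6 F392559)) (tt N58371 (iv7 F173489)))
theorem Q59684 : ∀ i, i < 59684 → P i := stepQ 59683 Q59683 (allL N59683 (tt N31787 (iv1 D111784)) (tt N31843 F173491) (tt N58371 F173494) (tt N96721 (iv3 F413604)) (tt N58748 (iv4 F173493)) (tt N96732 D199823) (tt N96733 D199824) (tt N58372 F173492))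
theorem Q59685 : ∀ i, i < 59685 → P i := stepQ 59684 Q59684 (allL N59684 (tt N96734 D199825) (tt N81597 (iv0 F354549)) (tt N58491 F173495) (tt N52615 F363588) (tt N96735 D199826) (tt N31787 (iv5 D111785)) (tt N52613 (iv6 F363591)) (tt N58373 F173496))
theorem Q59686 : ∀ i, i < 59686 → P i := stepQ 59685 Q59685 (allL N59685 (tt N31926 F173499) (tt N31887 (iv0 F173500)) (tt N31979 F173497) (tt N49173 F363512) (tt N31788 (iv4 D111786)) (tt N87625 (iv5 F379924)) (tt N49168 F363513) (tt N58374 F173498))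
theorem Q59687 : ∀ i, i < 59687 → P i := stepQ 59686 Q59686 (allL N59686 (tt N31907 F173505) (tt N31939 (iv0 F173506)) (tt N31981 F173501) (tt N58376 F173502) (tt N49168 F340612) (tt N44166 F173503) (tt N31788 (iv6 D111787)) (tt N44229 F173504))
theorem Q59688 : ∀ i, i < 59688 → P i := stepQ 59687 Q59687 (allL N59687 (tt N47630 F327730) (tt N47629 F327731) (tt N44847 F327732) (tt N31790 F173514) (tt N58380 F173515) (tt N52711 F358105) (tt N31789 (iv6 D111791)) (tt N47631 F327733))
theorem Q59689 : ∀ i, i < 59689 → P i := stepQ 59688 Q59688 (allL N59688 (tt N78533 F327734) (tt N78532 F327735) (tt N31820 F173519) (tt N52711 (iv3 F358107)) (tt N69590 (iv4 F333567)) (tt N31790 (iv5 D111793)) (tt N69592 (iv6 F360278)) (tt N78531 F327736))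
theorem Q59690 : ∀ i, i < 59690 → P i := stepQ 59689 Q59689 (allL N59689 (tt N96736 D199827) (tt N39591 (iv0 F173528)) (tt N31822 F173525) (tt N54848 (iv3 F364546)) (tt N31791 (iv4 D111795)) (tt N96737 D199828) (tt N58386 F173526) (tt N31825 F173527))
theorem Q59691 : ∀ i, i < 59691 → P i := stepQ 59690 Q59690 (allL N59690 (tt N39591 F173531) (tt N96736 F413672) (tt N31825 F173529) (tt N96738 D199829) (tt N31792 (iv4 D111796)) (tt N96739 D199830) (tt N95740 (iv6 F409391)) (tt N31822 F173530))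
theorem Q59692 : ∀ i, i < 59692 → P i := stepQ 59691 Q59691 (allL N59691 (tt N58540 F173534) (tt N94952 (iv0 F406478)) (tt N96740 D199831) (tt N31794 (iv3 D111797)) (tt N56731 F173532) (tt N77805 (iv5 F245014)) (tt N78496 (iv6 F365578)) (tt N39586 F173533))
theorem Q59693 : ∀ i, i < 59693 → P i := stepQ 59692 Q59692 (allL N59692 (tt N31822 (iv1 F173538)) (tt N31825 (iv0 F173537)) (tt N39591 F173535) (tt N78496 F365577) (tt N55685 F173536) (tt N96741 D199832) (tt N31794 (iv6 D111798)) (tt N96736 (iv7 F413673)))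
theorem Q59694 : ∀ i, i < 59694 → P i := stepQ 59693 Q59693 (allL N59693 (tt N91528 (iv1 F393495)) (tt N91527 F393491) (tt N66690 (iv2 F205070)) (tt N31797 F173544) (tt N58880 F173545) (tt N55451 (iv5 F340600)) (tt N31795 (iv6 D111800)) (tt N54951 F340602))
theorem Q59695 : ∀ i, i < 59695 → P i := stepQ 59694 Q59694 (allL N59694 (tt N39585 (iv1 F173550)) (tt N31797 (iv0 D111802)) (tt N39581 F173562) (tt N91959 F395136) (tt N57244 F173549) (tt N81593 (iv5 F354541)) (tt N96742 D199833) (tt N39582 F173558))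
theorem Q59696 : ∀ i, i < 59696 → P i := stepQ 59695 Q59695 (allL N59695 (tt N31797 (iv1 D111803)) (tt N39585 F173551) (tt N39582 (iv2 F173561)) (tt N81604 (iv3 F354546)) (tt N58768 F173565) (tt N81598 F354539) (tt N58410 (iv6 F175102)) (tt N39581 (iv7 F173563)))
theorem Q59697 : ∀ i, i < 59697 → P i := stepQ 59696 Q59696 (allL N59696 (tt N95599 (iv1 F408843)) (tt N71050 (iv0 F219352)) (tt N39584 F173552) (tt N55451 F340599) (tt N95596 (iv4 F408825)) (tt N31797 (iv5 D111804)) (tt N88184 (iv6 F382073)) (tt N55446 (iv7 F340594)))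
theorem Q59698 : ∀ i, i < 59698 → P i := stepQ 59697 Q59697 (allL N59697 (tt N39582 (iv1 F173556)) (tt N39581 F173564) (tt N39585 F173553) (tt N54951 (iv3 F340604)) (tt N31800 F173554) (tt N55446 (iv5 F340593)) (tt N31874 F173555) (tt N31797 (iv7 D111805)))
theorem Q59699 : ∀ i, i < 59699 → P i := stepQ 59698 Q59698 (allL N59698 (tt N58504 F173569) (tt N31808 F173581) (tt N39579 F173567) (tt N55519 F358401) (tt N31798 (iv4 D111806)) (tt N95585 (iv5 F408766)) (tt N95301 (iv6 F407782)) (tt N39580 F173568))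
theorem Q59700 : ∀ i, i < 59700 → P i := stepQ 59699 Q59699 (allL N59699 (tt N39689 F173574) (tt N39215 (iv0 F173575)) (tt N39309 F173570) (tt N58414 F173571) (tt N96743 D199834) (tt N31798 (iv5 D111807)) (tt N39095 F173572) (tt N39176 F173573))
theorem Q59701 : ∀ i, i < 59701 → P i := stepQ 59700 Q59700 (allL N59700 (tt N31808 F173579) (tt N58504 (iv0 F173580)) (tt N39580 F173576) (tt N44833 F327056) (tt N31799 (iv4 D111808)) (tt N95548 (iv5 F408601)) (tt N40506 F173577) (tt N39579 F173578))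
theorem Q59702 : ∀ i, i < 59702 → P i := stepQ 59701 Q59701 (allL N59701 (tt N96744 D199835) (tt N96745 D199836) (tt N88189 (iv2 F382091)) (tt N31801 (iv3 D111809)) (tt N31802 F173582) (tt N65673 (iv5 F202222)) (tt N60514 (iv6 F176535)) (tt N35609 F173583))
theorem Q59703 : ∀ i, i < 59703 → P i := stepQ 59702 Q59702 (allL N59702 (tt N39594 (iv1 F173584)) (tt N31802 (iv0 D111810)) (tt N39593 (iv2 F173847)) (tt N88181 (iv3 F382062)) (tt N96746 D199837) (tt N77803 (iv5 F364556)) (tt N54850 F356056) (tt N39592 F173848))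
theorem Q59704 : ∀ i, i < 59704 → P i := stepQ 59703 Q59703 (allL N59703 (tt N31802 (iv1 D111811)) (tt N39594 F173589) (tt N39592 F173846) (tt N54852 (iv3 F324438)) (tt N65799 F356049) (tt N77804 (iv5 F364562)) (tt N83772 (iv6 F356051)) (tt N39593 (iv7 F173845)))
theorem Q59705 : ∀ i, i < 59705 → P i := stepQ 59704 Q59704 (allL N59704 (tt N31874 F173599) (tt N31804 (iv0 D111816)) (tt N35636 (iv2 F173597)) (tt N96747 D199838) (tt N35632 F173595) (tt N88276 (iv5 F382434)) (tt N31848 F173596) (tt N54947 (iv7 F319037)))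
theorem Q59706 : ∀ i, i < 59706 → P i := stepQ 59705 Q59705 (allL N59705 (tt N31804 (iv1 D111817)) (tt N31874 F173600) (tt N54947 (iv2 F319035)) (tt N54957 F356019) (tt N35638 (iv4 F173602)) (tt N51914 (iv5 F356020)) (tt N58465 F174004) (tt N35636 F173601))
theorem Q59707 : ∀ i, i < 59707 → P i := stepQ 59706 Q59706 (allL N59706 (tt N54947 (iv1 F319034)) (tt N35636 F173609) (tt N31874 F173605) (tt N91517 (iv3 F393444)) (tt N31806 F173606) (tt N54942 F340584) (tt N39585 F173607) (tt N31804 (iv7 D111819)))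
theorem Q59708 : ∀ i, i < 59708 → P i := stepQ 59707 Q59707 (allL N59707 (tt N58495 (iv1 F173615)) (tt N31807 (iv0 D111821)) (tt N58494 F204864) (tt N52271 (iv3 F320059)) (tt N96748 D199839) (tt N66653 F204862) (tt N96749 D199840) (tt N58493 (iv7 F204863)))
theorem Q59709 : ∀ i, i < 59709 → P i := stepQ 59708 Q59708 (allL N59708 (tt N31807 (iv1 D111822)) (tt N58495 F173619) (tt N58493 (iv2 F204865)) (tt N87065 (iv3 F380552)) (tt N96750 D199841) (tt N78362 (iv5 F248414)) (tt N96751 D199842) (tt N58494 F204866))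
theorem Q59710 : ∀ i, i < 59710 → P i := stepQ 59709 Q59709 (allL N59709 (tt N58494 (iv1 F173620)) (tt N58493 F173618) (tt N31807 (iv2 D111823)) (tt N58500 F173616) (tt N94949 (iv4 F406466)) (tt N58502 (iv5 F354568)) (tt N58503 F354553) (tt N58495 F173617))
theorem Q59711 : ∀ i, i < 59711 → P i := stepQ 59710 Q59710 (allL N59710 (tt N39580 (iv1 F173624)) (tt N39579 F173625) (tt N58504 F173622) (tt N95536 (iv3 F408540)) (tt N65623 (iv4 F202142)) (tt N95536 (iv5 F408536)) (tt N31870 F173623) (tt N31808 (iv7 D111825)))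
theorem Q59712 : ∀ i, i < 59712 → P i := stepQ 59711 Q59711 (allL N59711 (tt N58500 (iv1 F173626)) (tt N31809 (iv0 D111826)) (tt N58499 F228563) (tt N96752 D199843) (tt N45982 F351016) (tt N74684 (iv5 F228560)) (tt N45981 F351017) (tt N58498 F228564))
theorem Q59713 : ∀ i, i < 59713 → P i := stepQ 59712 Q59712 (allL N59712 (tt N31809 (iv1 D111827)) (tt N58500 F173631) (tt N58498 (iv2 F228565)) (tt N86975 F377907) (tt N85733 (iv4 F373716)) (tt N96753 D199844) (tt N96754 D199845) (tt N58499 (iv7 F228566)))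
theorem Q59714 : ∀ i, i < 59714 → P i := stepQ 59713 Q59713 (allL N59713 (tt N58499 (iv1 F173632)) (tt N58498 F173630) (tt N31809 (iv2 D111828)) (tt N58495 F173627) (tt N60066 (iv4 F175442)) (tt N36361 F173628) (tt N91454 (iv6 F393198)) (tt N58500 F173629))
theorem Q59715 : ∀ i, i < 59715 → P i := stepQ 59714 Q59714 (allL N59714 (tt N91813 F394524) (tt N86983 F377939) (tt N91454 (iv2 F393196)) (tt N31810 F173633) (tt N60068 (iv4 F175450)) (tt N54908 F348563) (tt N31809 (iv6 D111829)) (tt N91939 (iv7 F395037)))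
theorem Q59716 : ∀ i, i < 59716 → P i := stepQ 59715 Q59715 (allL N59715 (tt N86975 (iv1 F377906)) (tt N86974 F377914) (tt N86976 (iv2 F377910)) (tt N31811 (iv3 D111831)) (tt N32442 F173636) (tt N86968 (iv5 F377887)) (tt N96755 D199846) (tt N58505 F173635))
theorem Q59717 : ∀ i, i < 59717 → P i := stepQ 59716 Q59716 (allL N59716 (tt N47131 F325189) (tt N44833 F325190) (tt N49308 F325191) (tt N96755 (iv3 F413786)) (tt N45449 F325192) (tt N47153 F325193) (tt N31811 (iv6 D111832)) (tt N49307 F325194))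
theorem Q59718 : ∀ i, i < 59718 → P i := stepQ 59717 Q59717 (allL N59717 (tt N58507 F173650) (tt N54491 (iv0 F329859)) (tt N31814 F173648) (tt N87076 (iv3 F378295)) (tt N54802 F352824) (tt N31813 (iv5 D111835)) (tt N96756 D199847) (tt N58506 F173649))
theorem Q59719 : ∀ i, i < 59719 → P i := stepQ 59718 Q59718 (allL N59718 (tt N58506 (iv1 F173656)) (tt N31814 (iv0 D111837)) (tt N58507 (iv2 F173655)) (tt N66670 (iv3 F204911)) (tt N54492 F344532) (tt N31889 F173654) (tt N84257 (iv6 F368716)) (tt N54491 (iv7 F329863)))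
theorem Q59720 : ∀ i, i < 59720 → P i := stepQ 59719 Q59719 (allL N59719 (tt N96757 D199848) (tt N96758 D199849) (tt N96756 (iv2 F413790)) (tt N31817 F173659) (tt N82095 (iv4 F361300)) (tt N47634 F326394) (tt N31814 (iv6 D111839)) (tt N96759 D199850))
theorem Q59721 : ∀ i, i < 59721 → P i := stepQ 59720 Q59720 (allL N59720 (tt N66653 F204861) (tt N78362 (iv0 F357691)) (tt N78361 F248411) (tt N31815 (iv3 D111844)) (tt N75785 (iv4 F233920)) (tt N31886 F173664) (tt N95847 F409934) (tt N58508 F173665))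
theorem Q59722 : ∀ i, i < 59722 → P i := stepQ 59721 Q59721 (allL N59721 (tt N64009 F354569) (tt N82215 (iv0 F391642)) (tt N58510 F173666) (tt N95847 F409933) (tt N57499 F173667) (tt N60241 (iv5 F336225)) (tt N31815 (iv6 D111845)) (tt N82216 (iv7 F351356)))
theorem Q59723 : ∀ i, i < 59723 → P i := stepQ 59722 Q59722 (allL N59722 (tt N74684 (iv1 F228562)) (tt N96753 (iv0 F413776)) (tt N56026 (iv2 F173689)) (tt N31816 (iv3 D111846)) (tt N40579 (iv4 F173670)) (tt N31888 F173668) (tt N75858 (iv6 F361276)) (tt N56018 F173669))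
theorem Q59724 : ∀ i, i < 59724 → P i := stepQ 59723 Q59723 (allL N59723 (tt N52869 F361279) (tt N83153 (iv0 F361278)) (tt N58509 F173701) (tt N75858 F361275) (tt N59968 (iv4 F175012)) (tt N58449 F173702) (tt N31816 (iv6 D111847)) (tt N75920 (iv7 F361277)))
theorem Q59725 : ∀ i, i < 59725 → P i := stepQ 59724 Q59724 (allL N59724 (tt N88050 (iv1 F381590)) (tt N31817 (iv0 D111848)) (tt N95846 F409926) (tt N82216 (iv3 F351358)) (tt N81433 (iv4 F344951)) (tt N32136 F330766) (tt N96760 D199851) (tt N95847 (iv7 F409930)))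
theorem Q59726 : ∀ i, i < 59726 → P i := stepQ 59725 Q59725 (allL N59725 (tt N31817 (iv1 D111849)) (tt N88050 F381589) (tt N95847 (iv2 F409935)) (tt N96761 D199852) (tt N33963 F346384) (tt N95872 (iv5 F410034)) (tt N78361 (iv6 F354558)) (tt N95846 F409928))
theorem Q59727 : ∀ i, i < 59727 → P i := stepQ 59726 Q59726 (allL N59726 (tt N63827 F360269) (tt N63819 F360270) (tt N69592 F360271) (tt N47634 F327742) (tt N33953 F360272) (tt N31817 (iv5 D111850)) (tt N31820 F173703) (tt N76405 F360273))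
theorem Q59728 : ∀ i, i < 59728 → P i := stepQ 59727 Q59727 (allL N59727 (tt N95847 (iv1 F409929)) (tt N95846 F409925) (tt N88050 (iv2 F381584)) (tt N96759 (iv3 F413814)) (tt N69619 (iv4 F360276)) (tt N76405 (iv5 F360275)) (tt N58516 F173704) (tt N31817 (iv7 D111851)))
theorem Q59729 : ∀ i, i < 59729 → P i := stepQ 59728 Q59728 (allL N59728 (tt N96762 D199853) (tt N96751 (iv0 F474548)) (tt N96763 D199855) (tt N31818 (iv3 D111852)) (tt N91182 F392189) (tt N96764 D199856) (tt N58454 F173705) (tt N78528 F327737))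
theorem Q59730 : ∀ i, i < 59730 → P i := stepQ 59729 Q59729 (allL N59729 (tt N59897 (iv1 F174527)) (tt N51549 (iv0 F326850)) (tt N59923 F174604) (tt N96764 (iv3 F413834)) (tt N96765 D199857) (tt N31818 (iv5 D111853)) (tt N96766 D199858) (tt N59922 (iv7 F174608)))
theorem Q59731 : ∀ i, i < 59731 → P i := stepQ 59730 Q59730 (allL N59730 (tt N45981 F327408) (tt N45984 F327409) (tt N82430 F327410) (tt N31819 (iv3 D111854)) (tt N82429 F327411) (tt N82479 F327412) (tt N96767 D199859) (tt N78530 F327413))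
theorem Q59732 : ∀ i, i < 59732 → P i := stepQ 59731 Q59731 (allL N59731 (tt N51549 (iv1 F326851)) (tt N59897 F174609) (tt N59922 F174606) (tt N82479 F327414) (tt N96768 D199860) (tt N31819 (iv5 D111855)) (tt N95884 (iv6 F410088)) (tt N59923 F174605))
theorem Q59733 : ∀ i, i < 59733 → P i := stepQ 59732 Q59732 (allL N59732 (tt N59964 F348115) (tt N95301 (iv0 F407784)) (tt N78529 F327415) (tt N96767 (iv3 F413839)) (tt N92117 (iv4 F395823)) (tt N95736 (iv5 F409373)) (tt N31819 (iv6 D111856)) (tt N58460 F173706))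
theorem Q59734 : ∀ i, i < 59734 → P i := stepQ 59733 Q59733 (allL N59733 (tt N78531 F327738) (tt N31820 (iv0 D111857)) (tt N78533 F365722) (tt N96769 D199861) (tt N93904 F402359) (tt N31933 F174554) (tt N82945 (iv6 F365991)) (tt N78532 F365721))
theorem Q59735 : ∀ i, i < 59735 → P i := stepQ 59734 Q59734 (allL N59734 (tt N31820 (iv1 D111858)) (tt N78531 F327739) (tt N78532 F365719) (tt N96770 D199862) (tt N96771 D199863) (tt N31934 F174532) (tt N96772 D199864) (tt N78533 (iv7 F365724)))
theorem Q59736 : ∀ i, i < 59736 → P i := stepQ 59735 Q59735 (allL N59735 (tt N87529 (iv1 F379667)) (tt N86656 (iv0 F376689)) (tt N69590 F333568) (tt N51526 F327740) (tt N31820 (iv4 D111859)) (tt N69584 F333569) (tt N33953 F333570) (tt N78534 F327741))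
theorem Q59737 : ∀ i, i < 59737 → P i := stepQ 59736 Q59736 (allL N59736 (tt N31825 (iv1 F173714)) (tt N31822 (iv0 D111862)) (tt N96736 F413671) (tt N96773 D199865) (tt N55689 F173713) (tt N96774 D199866) (tt N58422 (iv6 F173716)) (tt N39591 F173715))
theorem Q59738 : ∀ i, i < 59738 → P i := stepQ 59737 Q59737 (allL N59737 (tt N68015 F363506) (tt N88190 F382102) (tt N83778 F364552) (tt N31822 (iv3 D111863)) (tt N64262 (iv4 F363505)) (tt N96775 D199867) (tt N58466 F173717) (tt N96738 (iv7 F413697)))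
theorem Q59739 : ∀ i, i < 59739 → P i := stepQ 59738 Q59738 (allL N59738 (tt N65697 (iv1 F202259)) (tt N96776 D199868) (tt N96737 (iv2 F413689)) (tt N96775 (iv3 F413870)) (tt N96777 D199869) (tt N31822 (iv5 D111864)) (tt N96778 D199870) (tt N96739 (iv7 F413703)))
theorem Q59740 : ∀ i, i < 59740 → P i := stepQ 59739 Q59739 (allL N59739 (tt N65700 (iv1 F202271)) (tt N71816 F220679) (tt N37328 F173718) (tt N87515 (iv3 F379620)) (tt N31823 (iv4 D111865)) (tt N70679 (iv5 F218092)) (tt N32874 F328048) (tt N37327 F173719))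
theorem Q59741 : ∀ i, i < 59741 → P i := stepQ 59740 Q59740 (allL N59740 (tt N39088 F173723) (tt N38922 (iv0 F173724)) (tt N37329 F173720) (tt N95106 (iv3 F407066)) (tt N32874 F338660) (tt N38962 F173721) (tt N31823 (iv6 D111866)) (tt N38962 F173722))
theorem Q59742 : ∀ i, i < 59742 → P i := stepQ 59741 Q59741 (allL N59741 (tt N35573 F173728) (tt N35625 F173727) (tt N35623 F173725) (tt N83776 (iv3 F364567)) (tt N31824 (iv4 D111867)) (tt N68743 F332820) (tt N96779 D199871) (tt N35622 F173726))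
theorem Q59743 : ∀ i, i < 59743 → P i := stepQ 59742 Q59742 (allL N59742 (tt N32395 F173739) (tt N32392 F173740) (tt N57961 F173735) (tt N31827 F173736) (tt N96779 (iv4 F413891)) (tt N55630 F173737) (tt N31824 (iv6 D111868)) (tt N55630 F173738))
theorem Q59744 : ∀ i, i < 59744 → P i := stepQ 59743 Q59743 (allL N59743 (tt N96776 (iv1 F413874)) (tt N65697 (iv0 F202258)) (tt N96739 (iv2 F413701)) (tt N52083 F360343) (tt N52085 (iv4 F360344)) (tt N31825 (iv5 D111870)) (tt N95887 (iv6 F410098)) (tt N96737 (iv7 F413691)))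
theorem Q59745 : ∀ i, i < 59745 → P i := stepQ 59744 Q59744 (allL N59744 (tt N96780 D199872) (tt N96742 F413722) (tt N95740 (iv2 F409389)) (tt N83777 F365689) (tt N31827 F173741) (tt N96781 D199873) (tt N31825 (iv6 D111871)) (tt N58470 F173742))
theorem Q59746 : ∀ i, i < 59746 → P i := stepQ 59745 Q59745 (allL N59745 (tt N71816 (iv1 F220680)) (tt N65700 (iv0 F202270)) (tt N37327 F173743) (tt N96782 D199874) (tt N31826 (iv4 D111872)) (tt N70680 (iv5 F218096)) (tt N38960 F173744) (tt N37328 F173745))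
theorem Q59747 : ∀ i, i < 59747 → P i := stepQ 59746 Q59746 (allL N59746 (tt N47888 (iv1 F325545)) (tt N31828 (iv0 D111873)) (tt N57986 (iv2 F173749)) (tt N96783 D199875) (tt N35031 F324427) (tt N57809 (iv5 F341393)) (tt N35030 F324428) (tt N35226 F324429))
theorem Q59748 : ∀ i, i < 59748 → P i := stepQ 59747 Q59747 (allL N59747 (tt N57986 (iv1 F173764)) (tt N35226 F325164) (tt N31828 (iv2 D111875)) (tt N57977 F173760) (tt N31832 F173761) (tt N82447 (iv5 F351106)) (tt N59524 (iv6 F343762)) (tt N47888 (iv7 F325549)))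
theorem Q59749 : ∀ i, i < 59749 → P i := stepQ 59748 Q59748 (allL N59748 (tt N57982 (iv1 F173767)) (tt N31829 (iv0 D111877)) (tt N57980 (iv2 F173772)) (tt N81603 (iv3 F354530)) (tt N58865 F173768) (tt N45381 F343753) (tt N96483 (iv6 F412704)) (tt N57981 (iv7 F173773)))
theorem Q59750 : ∀ i, i < 59750 → P i := stepQ 59749 Q59749 (allL N59749 (tt N31829 (iv1 D111878)) (tt N57982 F173774) (tt N57981 (iv2 F173777)) (tt N96784 D199876) (tt N57247 F173776) (tt N64310 (iv5 F351104)) (tt N40420 F175475) (tt N57980 F173775))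
theorem Q59751 : ∀ i, i < 59751 → P i := stepQ 59750 Q59750 (allL N59750 (tt N39528 (iv1 F173785)) (tt N35598 F173786) (tt N39526 (iv2 F173784)) (tt N31830 (iv3 D111880)) (tt N65561 (iv4 F202024)) (tt N60293 (iv5 F176151)) (tt N32392 F173782) (tt N39527 F173783))
theorem Q59752 : ∀ i, i < 59752 → P i := stepQ 59751 Q59751 (allL N59751 (tt N57992 F173790) (tt N40326 (iv0 F173791)) (tt N57984 F173787) (tt N96785 D199877) (tt N31830 (iv4 D111881)) (tt N47774 F341304) (tt N59672 F173788) (tt N57985 F173789))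
theorem Q59753 : ∀ i, i < 59753 → P i := stepQ 59752 Q59752 (allL N59752 (tt N40326 F173798) (tt N57992 F173799) (tt N57985 F173795) (tt N81771 (iv3 F351060)) (tt N31831 (iv4 D111883)) (tt N47775 F341303) (tt N40417 F173796) (tt N57984 F173797))
theorem Q59754 : ∀ i, i < 59754 → P i := stepQ 59753 Q59753 (allL N59753 (tt N58432 (iv1 F174053)) (tt N31860 (iv0 F173814)) (tt N58413 F173812) (tt N44841 F348119) (tt N31833 (iv4 D111888)) (tt N78276 (iv5 F348107)) (tt N59964 (iv6 F174984)) (tt N40506 F173813))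
theorem Q59755 : ∀ i, i < 59755 → P i := stepQ 59754 Q59754 (allL N59754 (tt N46364 F324103) (tt N46377 F324104) (tt N52810 F324105) (tt N31835 F173818) (tt N64025 F324106) (tt N31834 (iv5 D111890)) (tt N46417 (iv6 F325321)) (tt N46362 (iv7 F325322)))
theorem Q59756 : ∀ i, i < 59756 → P i := stepQ 59755 Q59755 (allL N59755 (tt N46370 F320835) (tt N46389 F320836) (tt N46420 (iv2 F322590)) (tt N78607 (iv3 F361270)) (tt N31835 (iv4 D111892)) (tt N41602 F319657) (tt N46420 (iv6 F322591)) (tt N46363 (iv7 F322592)))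
theorem Q59757 : ∀ i, i < 59757 → P i := stepQ 59756 Q59756 (allL N59756 (tt N31838 (iv1 F173837)) (tt N31836 (iv0 D111895)) (tt N54852 (iv2 F324437)) (tt N88182 F382056) (tt N45661 F323917) (tt N90686 (iv5 F390522)) (tt N45660 F323918) (tt N45966 (iv7 F324434)))
theorem Q59758 : ∀ i, i < 59758 → P i := stepQ 59757 Q59757 (allL N59757 (tt N73400 (iv1 F224604)) (tt N85713 (iv0 F373625)) (tt N66692 (iv2 F205174)) (tt N31836 (iv3 D111897)) (tt N45928 F325302) (tt N56029 (iv5 F205110)) (tt N47138 F325303) (tt N58538 F173849))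
theorem Q59759 : ∀ i, i < 59759 → P i := stepQ 59758 Q59758 (allL N59758 (tt N88177 F382034) (tt N80253 (iv0 F353321)) (tt N58541 F173850) (tt N56029 (iv3 F205109)) (tt N63025 F205143) (tt N31836 (iv5 D111898)) (tt N66691 (iv6 F346320)) (tt N53869 (iv7 F321617)))
theorem Q59760 : ∀ i, i < 59760 → P i := stepQ 59759 Q59759 (allL N59759 (tt N31977 F173875) (tt N31969 F173876) (tt N47880 F325160) (tt N94951 (iv3 F406470)) (tt N31837 (iv4 D111906)) (tt N58692 F173874) (tt N47827 F325161) (tt N58539 F173873))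
theorem Q59761 : ∀ i, i < 59761 → P i := stepQ 59760 Q59760 (allL N59760 (tt N96740 (iv1 F413709)) (tt N39586 (iv0 F173879)) (tt N94952 (iv2 F406474)) (tt N31838 (iv3 D111908)) (tt N94951 (iv4 F406472)) (tt N53854 (iv5 F353327)) (tt N53857 F359238) (tt N58540 F173878))
theorem Q59762 : ∀ i, i < 59762 → P i := stepQ 59761 Q59761 (allL N59761 (tt N80253 (iv1 F353323)) (tt N88177 (iv0 F382035)) (tt N53869 (iv2 F321613)) (tt N53854 F353326) (tt N64556 (iv4 F321936)) (tt N31838 (iv5 D111909)) (tt N53250 (iv6 F353325)) (tt N58541 F173881))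
theorem Q59763 : ∀ i, i < 59763 → P i := stepQ 59762 Q59762 (allL N59762 (tt N46211 F325348) (tt N45405 F325349) (tt N47604 (iv2 F325638)) (tt N53857 (iv3 F359239)) (tt N31839 F173883) (tt N53251 (iv5 F331179)) (tt N31838 (iv6 D111910)) (tt N47135 F325351))
theorem Q59764 : ∀ i, i < 59764 → P i := stepQ 59763 Q59763 (allL N59763 (tt N57880 (iv1 F173934)) (tt N31840 (iv0 D111943)) (tt N58033 (iv2 F173933)) (tt N96786 D199878) (tt N56734 F173936) (tt N96588 (iv5 F413092)) (tt N58117 (iv6 F173937)) (tt N56732 F173935))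
theorem Q59765 : ∀ i, i < 59765 → P i := stepQ 59764 Q59764 (allL N59764 (tt N59374 F173943) (tt N59621 F173944) (tt N58035 F173941) (tt N63879 (iv3 F365866)) (tt N96787 D199879) (tt N31840 (iv5 D111945)) (tt N96788 D199880) (tt N58038 F173942))
theorem Q59766 : ∀ i, i < 59766 → P i := stepQ 59765 Q59765 (allL N59765 (tt N39233 (iv1 F173961)) (tt N31841 (iv0 D111953)) (tt N39232 (iv2 F173966)) (tt N95040 (iv3 F406768)) (tt N66515 (iv4 F342885)) (tt N95351 (iv5 F407962)) (tt N47646 F326184) (tt N39231 (iv7 F173968)))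
theorem Q59767 : ∀ i, i < 59767 → P i := stepQ 59766 Q59766 (allL N59766 (tt N31841 (iv1 D111954)) (tt N39233 (iv0 F173964)) (tt N39231 F173967) (tt N47650 F325607) (tt N35852 (iv4 F173963)) (tt N57080 F342888) (tt N79294 F325608) (tt N39232 F173965))
theorem Q59768 : ∀ i, i < 59768 → P i := stepQ 59767 Q59767 (allL N59767 (tt N39232 (iv1 F173973)) (tt N39231 F173972) (tt N31841 (iv2 D111955)) (tt N58370 F173969) (tt N55662 F173970) (tt N93653 (iv5 F401444)) (tt N96789 D199881) (tt N39233 F173971))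
theorem Q59769 : ∀ i, i < 59769 → P i := stepQ 59768 Q59768 (allL N59768 (tt N96790 D199882) (tt N96791 D199883) (tt N93653 (iv2 F401443)) (tt N31842 F173974) (tt N66510 F347201) (tt N31841 (iv5 D111956)) (tt N73467 (iv6 F347200)) (tt N39234 F173975))
theorem Q59770 : ∀ i, i < 59770 → P i := stepQ 59769 Q59769 (allL N59769 (tt N96792 D199884) (tt N96793 D199885) (tt N96789 (iv2 F413951)) (tt N31843 F173976) (tt N55675 F173977) (tt N96794 D199886) (tt N31841 (iv6 D111957)) (tt N58489 F173978))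
theorem Q59771 : ∀ i, i < 59771 → P i := stepQ 59770 Q59770 (allL N59770 (tt N74018 F347193) (tt N32209 F347194) (tt N55988 F173979) (tt N73467 F347195) (tt N55874 F173980) (tt N74123 (iv5 F365093)) (tt N31842 (iv6 D111958)) (tt N74017 F347196))
theorem Q59772 : ∀ i, i < 59772 → P i := stepQ 59771 Q59771 (allL N59771 (tt N81597 F354550) (tt N96734 F413662) (tt N58373 F173981) (tt N96794 (iv3 F413978)) (tt N96795 D199887) (tt N31843 (iv5 D111959)) (tt N74123 F365094) (tt N58491 F173982))
theorem Q59773 : ∀ i, i < 59773 → P i := stepQ 59772 Q59772 (allL N59772 (tt N31844 (iv1 D111961)) (tt N58378 F173988) (tt N58377 F357997) (tt N96796 D199888) (tt N51990 (iv4 F357988)) (tt N95530 (iv5 F408509)) (tt N91966 (iv6 F395165)) (tt N51989 F340705))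
theorem Q59774 : ∀ i, i < 59774 → P i := stepQ 59773 Q59773 (allL N59773 (tt N96797 D199889) (tt N96798 D199890) (tt N55282 (iv2 F358494)) (tt N31845 F173990) (tt N59136 (iv4 F358492)) (tt N31844 (iv5 D111963)) (tt N55081 F358493) (tt N58379 F173991))
theorem Q59775 : ∀ i, i < 59775 → P i := stepQ 59774 Q59774 (allL N59774 (tt N83154 (iv1 F358511)) (tt N77708 (iv0 F358498)) (tt N31869 F173994) (tt N55081 (iv3 F358495)) (tt N55984 F173995) (tt N55080 F358496) (tt N31845 (iv6 D111965)) (tt N55277 F358497))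
theorem Q59776 : ∀ i, i < 59776 → P i := stepQ 59775 Q59775 (allL N59775 (tt N96799 D199891) (tt N82946 (iv0 F365992)) (tt N31871 F173996) (tt N49965 F358522) (tt N53001 F340566) (tt N31846 (iv5 D111966)) (tt N55080 (iv6 F358521)) (tt N52428 F358523))
theorem Q59777 : ∀ i, i < 59777 → P i := stepQ 59776 Q59776 (allL N59776 (tt N96800 D199892) (tt N96801 D199893) (tt N92530 (iv2 F397263)) (tt N31847 (iv3 D111967)) (tt N35571 F173997) (tt N59122 (iv5 F336178)) (tt N96802 D199894) (tt N35634 F173998))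
theorem Q59778 : ∀ i, i < 59778 → P i := stepQ 59777 Q59777 (allL N59777 (tt N58386 F174002) (tt N58387 (iv0 F174001)) (tt N55880 F173999) (tt N96802 (iv3 F414021)) (tt N35569 F174000) (tt N96803 D199895) (tt N31847 (iv6 D111968)) (tt N58465 (iv7 F174003)))
theorem Q59779 : ∀ i, i < 59779 → P i := stepQ 59778 Q59778 (allL N59778 (tt N58481 F174007) (tt N96804 D199896) (tt N96805 D199897) (tt N31848 (iv3 D111969)) (tt N40424 F174005) (tt N71046 (iv5 F219347)) (tt N96747 (iv6 F413752)) (tt N55879 F174006))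
theorem Q59780 : ∀ i, i < 59780 → P i := stepQ 59779 Q59779 (allL N59779 (tt N58405 (iv1 F174008)) (tt N31849 (iv0 D111970)) (tt N58404 F353513) (tt N96806 D199898) (tt N45809 F353514) (tt N71043 F222812) (tt N45808 F353515) (tt N54949 F353516))
theorem Q59781 : ∀ i, i < 59781 → P i := stepQ 59780 Q59780 (allL N59780 (tt N58404 (iv1 F174014)) (tt N54949 (iv0 F352012)) (tt N31849 (iv2 D111972)) (tt N58418 F174009) (tt N58800 F174010) (tt N96807 D199899) (tt N76169 F344640) (tt N58405 F174011))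
theorem Q59782 : ∀ i, i < 59782 → P i := stepQ 59781 Q59781 (allL N59781 (tt N95293 F407759) (tt N91400 F392993) (tt N96807 (iv2 F414048)) (tt N31850 F174015) (tt N96808 D199900) (tt N31849 (iv5 D111973)) (tt N96809 D199901) (tt N58406 F174016))
theorem Q59783 : ∀ i, i < 59783 → P i := stepQ 59782 Q59782 (allL N59782 (tt N74401 F354855) (tt N84551 F369670) (tt N76169 (iv2 F344636)) (tt N31851 F174017) (tt N58802 F174018) (tt N73504 (iv5 F344637)) (tt N31849 (iv6 D111974)) (tt N58523 (iv7 F174019)))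
theorem Q59784 : ∀ i, i < 59784 → P i := stepQ 59783 Q59783 (allL N59783 (tt N41136 F365095) (tt N96810 D199902) (tt N58421 F174020) (tt N96809 (iv3 F414060)) (tt N60116 (iv4 F175593)) (tt N96811 D199903) (tt N31850 (iv6 D111975)) (tt N96812 D199904))
theorem Q59785 : ∀ i, i < 59785 → P i := stepQ 59784 Q59784 (allL N59784 (tt N31851 (iv1 D111976)) (tt N58424 F174021) (tt N58422 F174024) (tt N96813 D199905) (tt N58856 (iv4 F174023)) (tt N96814 D199906) (tt N96736 F413674) (tt N39588 F174022))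
theorem Q59786 : ∀ i, i < 59786 → P i := stepQ 59785 Q59785 (allL N59785 (tt N96815 D199907) (tt N96816 D199908) (tt N58423 F174025) (tt N73504 F344638) (tt N73542 (iv4 F344639)) (tt N31851 (iv5 D111977)) (tt N96811 (iv6 F414070)) (tt N58524 F174026))
theorem Q59787 : ∀ i, i < 59787 → P i := stepQ 59786 Q59786 (allL N59786 (tt N58418 (iv1 F174027)) (tt N31852 (iv0 D111978)) (tt N58417 (iv2 F175603)) (tt N91507 (iv3 F393416)) (tt N96817 D199909) (tt N96790 (iv5 F413957)) (tt N91505 F393409) (tt N58416 F175604))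
theorem Q59788 : ∀ i, i < 59788 → P i := stepQ 59787 Q59787 (allL N59787 (tt N31852 (iv1 D111979)) (tt N58418 F174031) (tt N58416 F175602) (tt N45792 F326098) (tt N86950 (iv4 F377805)) (tt N96791 (iv5 F413966)) (tt N45790 F326099) (tt N58417 (iv7 F175601)))
theorem Q59789 : ∀ i, i < 59789 → P i := stepQ 59788 Q59788 (allL N59788 (tt N58417 (iv1 F174032)) (tt N58416 F174030) (tt N31852 (iv2 D111980)) (tt N58405 F174028) (tt N60048 (iv4 F175378)) (tt N90598 (iv5 F390205)) (tt N96818 D199910) (tt N58418 F174029))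
theorem Q59790 : ∀ i, i < 59790 → P i := stepQ 59789 Q59789 (allL N59789 (tt N59147 (iv1 F363071)) (tt N71054 (iv0 F342872)) (tt N90598 (iv2 F390204)) (tt N31853 F174033) (tt N57014 F359480) (tt N31852 (iv5 D111981)) (tt N66576 F346859) (tt N58419 F174034))
theorem Q59791 : ∀ i, i < 59791 → P i := stepQ 59790 Q59790 (allL N59790 (tt N68083 F346856) (tt N93912 (iv0 F402408)) (tt N96818 (iv2 F414103)) (tt N31854 F174035) (tt N60043 (iv4 F175369)) (tt N65933 (iv5 F346857)) (tt N31852 (iv6 D111982)) (tt N96819 D199911))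
theorem Q59792 : ∀ i, i < 59792 → P i := stepQ 59791 Q59791 (allL N59791 (tt N89232 (iv1 F385698)) (tt N91344 (iv0 F392819)) (tt N58408 F174036) (tt N66576 (iv3 F346860)) (tt N74265 (iv4 F227196)) (tt N62562 F346861) (tt N31853 (iv6 D111983)) (tt N73982 (iv7 F346863)))
theorem Q59793 : ∀ i, i < 59793 → P i := stepQ 59792 Q59792 (allL N59792 (tt N58412 (iv1 F174045)) (tt N31854 (iv0 D111984)) (tt N58409 (iv2 F175099)) (tt N96820 D199912) (tt N72895 (iv4 F223532)) (tt N78256 F346909) (tt N96780 (iv6 F413899)) (tt N58410 (iv7 F175103)))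
theorem Q59794 : ∀ i, i < 59794 → P i := stepQ 59793 Q59793 (allL N59793 (tt N31854 (iv1 D111985)) (tt N58412 F174037) (tt N58410 F175100) (tt N74628 (iv3 F349716)) (tt N58840 (iv4 F174038)) (tt N73167 (iv5 F347188)) (tt N39582 F174039) (tt N58409 F175098))
theorem Q59795 : ∀ i, i < 59795 → P i := stepQ 59794 Q59794 (allL N59794 (tt N96821 D199913) (tt N77790 (iv0 F244976)) (tt N58411 F174041) (tt N65933 F346858) (tt N62563 F346864) (tt N31854 (iv5 D111986)) (tt N62562 (iv6 F346862)) (tt N96822 D199914))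
theorem Q59796 : ∀ i, i < 59796 → P i := stepQ 59795 Q59795 (allL N59795 (tt N58410 (iv1 F174046)) (tt N58409 F174047) (tt N58412 F174042) (tt N96819 (iv3 F414108)) (tt N31856 F174043) (tt N96822 (iv5 F414125)) (tt N58424 F174044) (tt N31854 (iv7 D111987)))
theorem Q59797 : ∀ i, i < 59797 → P i := stepQ 59796 Q59796 (allL N59796 (tt N31860 F174051) (tt N58432 F174052) (tt N40506 F174048) (tt N91827 (iv3 F394568)) (tt N31855 (iv4 D111988)) (tt N96823 D199915) (tt N39580 F174049) (tt N58413 F174050))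
theorem Q59798 : ∀ i, i < 59798 → P i := stepQ 59797 Q59797 (allL N59797 (tt N31906 F174058) (tt N31902 (iv0 F174059)) (tt N33154 F174054) (tt N39176 F174055) (tt N96824 D199916) (tt N31855 (iv5 D111989)) (tt N33045 F174056) (tt N58414 F174057))
theorem Q59799 : ∀ i, i < 59799 → P i := stepQ 59798 Q59798 (allL N59798 (tt N58427 (iv1 F174060)) (tt N31857 (iv0 D111990)) (tt N58426 F344711) (tt N79644 F344708) (tt N96825 D199917) (tt N40817 F347156) (tt N79642 (iv6 F344709)) (tt N58425 (iv7 F344710)))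
theorem Q59800 : ∀ i, i < 59800 → P i := stepQ 59799 Q59799 (allL N59799 (tt N31857 (iv1 D111991)) (tt N58427 F174065) (tt N58425 (iv2 F344712)) (tt N87070 (iv3 F378276)) (tt N94809 (iv4 F406038)) (tt N40816 F347157) (tt N87022 (iv6 F378068)) (tt N58426 F344713))
theorem Q59801 : ∀ i, i < 59801 → P i := stepQ 59800 Q59800 (allL N59800 (tt N58426 (iv1 F174066)) (tt N58425 F174064) (tt N31857 (iv2 D111992)) (tt N58435 F174061) (tt N57995 F174062) (tt N95566 (iv5 F408683)) (tt N96826 D199918) (tt N58427 F174063))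
theorem Q59802 : ∀ i, i < 59802 → P i := stepQ 59801 Q59801 (allL N59801 (tt N96749 F413760) (tt N96827 D199919) (tt N96826 (iv2 F414143)) (tt N31858 F174067) (tt N57997 F174068) (tt N96828 D199920) (tt N31857 (iv6 D111993)) (tt N58517 (iv7 F174069)))
theorem Q59803 : ∀ i, i < 59803 → P i := stepQ 59802 Q59802 (allL N59802 (tt N87247 F378871) (tt N95739 (iv0 F409386)) (tt N58439 F174070) (tt N96828 (iv3 F414156)) (tt N96829 D199921) (tt N31858 (iv5 D111994)) (tt N95571 (iv6 F408700)) (tt N58518 F174071))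
theorem Q59804 : ∀ i, i < 59804 → P i := stepQ 59803 Q59803 (allL N59803 (tt N58435 (iv1 F174072)) (tt N31859 (iv0 D111995)) (tt N58434 (iv2 F373742)) (tt N91814 (iv3 F394527)) (tt N95845 (iv4 F409917)) (tt N96830 D199922) (tt N91813 F394525) (tt N58433 (iv7 F373743)))
theorem Q59805 : ∀ i, i < 59805 → P i := stepQ 59804 Q59804 (allL N59804 (tt N31859 (iv1 D111996)) (tt N58435 F174076) (tt N58433 F373739) (tt N92536 (iv3 F397292)) (tt N85737 (iv4 F373738)) (tt N92535 F397290) (tt N85736 F373740) (tt N58434 F373741))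
theorem Q59806 : ∀ i, i < 59806 → P i := stepQ 59805 Q59805 (allL N59805 (tt N58434 (iv1 F174077)) (tt N58433 F174075) (tt N31859 (iv2 D111997)) (tt N58427 F174073) (tt N59982 (iv4 F175074)) (tt N62108 (iv5 F180024)) (tt N96831 D199923) (tt N58435 F174074))
theorem Q59807 : ∀ i, i < 59807 → P i := stepQ 59806 Q59806 (allL N59806 (tt N96832 D199924) (tt N96833 D199925) (tt N96831 (iv2 F414169)) (tt N31860 F174078) (tt N59983 (iv4 F175084)) (tt N96834 D199926) (tt N31859 (iv6 D111998)) (tt N96835 D199927))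
theorem Q59808 : ∀ i, i < 59808 → P i := stepQ 59807 Q59807 (allL N59807 (tt N59867 F174338) (tt N59837 (iv0 F174262)) (tt N58431 F174079) (tt N96834 (iv3 F414182)) (tt N96836 D199928) (tt N31860 (iv5 D111999)) (tt N73634 (iv6 F366288)) (tt N59865 (iv7 F174335)))
theorem Q59809 : ∀ i, i < 59809 → P i := stepQ 59808 Q59808 (allL N59808 (tt N40506 (iv1 F174082)) (tt N58413 F174083) (tt N58432 F174080) (tt N96835 (iv3 F414184)) (tt N59979 (iv4 F175064)) (tt N59865 (iv5 F174336)) (tt N47248 F326927) (tt N31860 (iv7 D112000)))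
theorem Q59810 : ∀ i, i < 59810 → P i := stepQ 59809 Q59809 (allL N59809 (tt N92536 (iv1 F397293)) (tt N86982 (iv0 F377936)) (tt N65630 (iv2 F202158)) (tt N31861 (iv3 D112001)) (tt N65499 F201879) (tt N68677 (iv5 F349529)) (tt N47244 F326390) (tt N58440 F174084))
theorem Q59811 : ∀ i, i < 59811 → P i := stepQ 59810 Q59810 (allL N59810 (tt N52283 F344704) (tt N79644 F344705) (tt N87024 F378071) (tt N31862 (iv3 D112004)) (tt N48326 F324595) (tt N95562 (iv5 F408662)) (tt N64097 F324596) (tt N58442 F174094))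
theorem Q59812 : ∀ i, i < 59812 → P i := stepQ 59811 Q59811 (allL N59811 (tt N40817 F361860) (tt N40816 F361861) (tt N77714 F361867) (tt N31866 (iv3 D112016)) (tt N96837 D199929) (tt N31924 F174117) (tt N96838 D199930) (tt N58446 F174118))
theorem Q59813 : ∀ i, i < 59813 → P i := stepQ 59812 Q59812 (allL N59812 (tt N90666 (iv1 F390457)) (tt N54697 (iv0 F367642)) (tt N58449 F174119) (tt N96838 (iv3 F414193)) (tt N92366 (iv4 F396832)) (tt N58509 F174120) (tt N31866 (iv6 D112017)) (tt N90665 (iv7 F390455)))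
theorem Q59814 : ∀ i, i < 59814 → P i := stepQ 59813 Q59813 (allL N59813 (tt N96830 (iv1 F414166)) (tt N92535 (iv0 F397289)) (tt N96839 D199931) (tt N31867 (iv3 D112018)) (tt N33179 (iv4 F174123)) (tt N31925 F174121) (tt N36688 F336227) (tt N58448 F174122))
theorem Q59815 : ∀ i, i < 59815 → P i := stepQ 59814 Q59814 (allL N59814 (tt N71817 F397316) (tt N93740 (iv0 F401732)) (tt N58447 F174124) (tt N36688 F336219) (tt N71068 (iv4 F219382)) (tt N67159 F336220) (tt N31867 (iv6 D112019)) (tt N96840 D199932))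
theorem Q59816 : ∀ i, i < 59816 → P i := stepQ 59815 Q59815 (allL N59815 (tt N96841 D199933) (tt N73808 F349446) (tt N96842 D199934) (tt N31868 (iv3 D112020)) (tt N54711 (iv4 F349489)) (tt N33062 F174125) (tt N96843 D199935) (tt N55985 F174126))
theorem Q59817 : ∀ i, i < 59817 → P i := stepQ 59816 Q59816 (allL N59816 (tt N54999 F358516) (tt N96844 D199936) (tt N55984 F174127) (tt N96843 (iv3 F414224)) (tt N31869 F174128) (tt N96845 D199937) (tt N31868 (iv6 D112021)) (tt N96846 D199938))
theorem Q59818 : ∀ i, i < 59818 → P i := stepQ 59817 Q59817 (allL N59817 (tt N55277 F358504) (tt N31869 (iv0 D112022)) (tt N83154 F358505) (tt N42746 F358506) (tt N42752 F358507) (tt N55268 F358508) (tt N82173 F358509) (tt N77708 F358510))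
theorem Q59819 : ∀ i, i < 59819 → P i := stepQ 59818 Q59818 (allL N59818 (tt N31869 (iv1 D112023)) (tt N55277 F358520) (tt N77708 (iv2 F358514)) (tt N91460 (iv3 F393230)) (tt N92367 F396835) (tt N53911 (iv5 F358515)) (tt N96847 D199939) (tt N83154 F358513))
theorem Q59820 : ∀ i, i < 59820 → P i := stepQ 59819 Q59819 (allL N59819 (tt N87316 (iv1 F379041)) (tt N87315 F379039) (tt N55080 F340554) (tt N83225 (iv3 F340536)) (tt N53142 (iv4 F340564)) (tt N31869 (iv5 D112024)) (tt N31871 F174129) (tt N83222 (iv7 F340552)))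
theorem Q59821 : ∀ i, i < 59821 → P i := stepQ 59820 Q59820 (allL N59820 (tt N77708 (iv1 F358500)) (tt N83154 (iv0 F340553)) (tt N55277 F340549) (tt N83224 (iv3 F340548)) (tt N96846 (iv4 F414234)) (tt N83222 F340550) (tt N58453 F174130) (tt N31869 (iv7 D112025)))
theorem Q59822 : ∀ i, i < 59822 → P i := stepQ 59821 Q59821 (allL N59821 (tt N52284 F366492) (tt N87022 F380198) (tt N87005 (iv2 F378028)) (tt N31870 (iv3 D112026)) (tt N58108 F174131) (tt N52276 (iv5 F354565)) (tt N95536 F408538) (tt N58497 F174132))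
theorem Q59823 : ∀ i, i < 59823 → P i := stepQ 59822 Q59822 (allL N59822 (tt N52428 F358519) (tt N31871 (iv0 D112028)) (tt N96799 F414008) (tt N87231 F381218) (tt N96848 D199940) (tt N87757 (iv5 F380393)) (tt N77712 F358517) (tt N82946 (iv7 F358518)))
theorem Q59824 : ∀ i, i < 59824 → P i := stepQ 59823 Q59823 (allL N59823 (tt N31871 (iv1 D112029)) (tt N52428 F358524) (tt N82946 (iv2 F358525)) (tt N87875 (iv3 F380930)) (tt N96849 D199941) (tt N87756 (iv5 F380384)) (tt N52675 F358526) (tt N96799 (iv7 F414010)))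
theorem Q59825 : ∀ i, i < 59825 → P i := stepQ 59824 Q59824 (allL N59824 (tt N49790 (iv1 F340560)) (tt N52998 F340561) (tt N53001 (iv2 F340559)) (tt N71136 (iv3 F346017)) (tt N31871 (iv4 D112030)) (tt N83166 F340562) (tt N53142 F340563) (tt N53002 F340558))
theorem Q59826 : ∀ i, i < 59826 → P i := stepQ 59825 Q59825 (allL N59825 (tt N82946 (iv1 F365993)) (tt N96799 F414009) (tt N52428 (iv2 F340556)) (tt N47609 F325364) (tt N53002 (iv4 F340557)) (tt N31872 F174134) (tt N52426 F340555) (tt N31871 (iv7 D112031)))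
theorem Q59827 : ∀ i, i < 59827 → P i := stepQ 59826 Q59826 (allL N59826 (tt N31875 (iv1 D112038)) (tt N31877 F174153) (tt N58478 (iv2 F174155)) (tt N58417 F175600) (tt N45794 F324863) (tt N54486 (iv5 F344518)) (tt N46211 F324864) (tt N45792 (iv7 F325184)))
theorem Q59828 : ∀ i, i < 59828 → P i := stepQ 59827 Q59827 (allL N59827 (tt N96806 F414047) (tt N91513 (iv0 F393439)) (tt N96850 D199942) (tt N31875 (iv3 D112039)) (tt N42260 F174156) (tt N96851 D199943) (tt N46258 F321851) (tt N58479 F174157))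
theorem Q59829 : ∀ i, i < 59829 → P i := stepQ 59828 Q59828 (allL N59828 (tt N58704 (iv1 F174187)) (tt N81616 F324865) (tt N58482 F174158) (tt N96851 (iv3 F414253)) (tt N95563 (iv4 F408667)) (tt N31875 (iv5 D112040)) (tt N90590 (iv6 F390179)) (tt N58480 F174159))
theorem Q59830 : ∀ i, i < 59830 → P i := stepQ 59829 Q59829 (allL N59829 (tt N58680 F174179) (tt N58702 F174180) (tt N48316 (iv2 F324583)) (tt N96852 D199944) (tt N31876 (iv4 D112047)) (tt N95707 (iv5 F409229)) (tt N35265 F324528) (tt N48317 (iv7 F325626)))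
theorem Q59831 : ∀ i, i < 59831 → P i := stepQ 59830 Q59830 (allL N59830 (tt N96805 (iv1 F414039)) (tt N55879 (iv0 F174183)) (tt N96804 (iv2 F414032)) (tt N31877 (iv3 D112049)) (tt N96852 (iv4 F414259)) (tt N90591 F390184) (tt N96853 D199945) (tt N58481 F174182))
theorem Q59832 : ∀ i, i < 59832 → P i := stepQ 59831 Q59831 (allL N59831 (tt N45690 F326439) (tt N45688 F326440) (tt N47057 F326441) (tt N96853 (iv3 F414264)) (tt N31878 F174189) (tt N90592 (iv5 F390187)) (tt N31877 (iv6 D112051)) (tt N47055 F326442))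
theorem Q59833 : ∀ i, i < 59833 → P i := stepQ 59832 Q59832 (allL N59832 (tt N51721 (iv1 F337329)) (tt N31880 (iv0 D112087)) (tt N58625 (iv2 F378721)) (tt N94740 (iv3 F405771)) (tt N55575 F378724) (tt N88048 (iv5 F381579)) (tt N55573 (iv6 F378722)) (tt N58624 F378720))
theorem Q59834 : ∀ i, i < 59834 → P i := stepQ 59833 Q59833 (allL N59833 (tt N31880 (iv1 D112088)) (tt N51721 (iv0 F337328)) (tt N58624 F378712) (tt N96854 D199946) (tt N91563 (iv4 F393668)) (tt N81706 (iv5 F346803)) (tt N58555 (iv6 F348788)) (tt N58625 (iv7 F378719)))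
theorem Q59835 : ∀ i, i < 59835 → P i := stepQ 59834 Q59834 (allL N59834 (tt N80930 (iv1 F337352)) (tt N80929 F337346) (tt N80933 F337336) (tt N31882 F174256) (tt N58558 F174257) (tt N90678 (iv5 F390492)) (tt N31880 (iv6 D112091)) (tt N80931 (iv7 F337344)))
theorem Q59836 : ∀ i, i < 59836 → P i := stepQ 59835 Q59835 (allL N59835 (tt N31899 (iv1 F174266)) (tt N31882 (iv0 D112093)) (tt N31896 F174269) (tt N96855 D199947) (tt N35885 (iv4 F174268)) (tt N96856 D199948) (tt N31934 F174533) (tt N31897 F174270))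
theorem Q59837 : ∀ i, i < 59837 → P i := stepQ 59836 Q59836 (allL N59836 (tt N31882 (iv1 D112094)) (tt N31899 F174260) (tt N31897 (iv2 F174272)) (tt N95577 (iv3 F408725)) (tt N65652 F202180) (tt N95575 (iv5 F408715)) (tt N87757 F380394) (tt N31896 (iv7 F174273)))
theorem Q59838 : ∀ i, i < 59838 → P i := stepQ 59837 Q59837 (allL N59837 (tt N59807 F174262) (tt N95374 F408029) (tt N31898 F174261) (tt N90678 (iv3 F390490)) (tt N40503 F339843) (tt N31882 (iv5 D112095)) (tt N48018 F339844) (tt N95372 (iv7 F408022)))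
theorem Q59839 : ∀ i, i < 59839 → P i := stepQ 59838 Q59838 (allL N59838 (tt N31897 (iv1 F174267)) (tt N31896 F174274) (tt N31899 F174263) (tt N80931 F337351) (tt N31885 F174264) (tt N95372 (iv5 F408018)) (tt N58630 F174265) (tt N31882 (iv7 D112096)))
theorem Q59840 : ∀ i, i < 59840 → P i := stepQ 59839 Q59839 (allL N59839 (tt N77800 (iv1 F245006)) (tt N44144 (iv0 F174278)) (tt N31901 F174275) (tt N33535 F346877) (tt N31883 (iv4 D112097)) (tt N33531 F346878) (tt N31940 F174276) (tt N31905 F174277))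
theorem Q59841 : ∀ i, i < 59841 → P i := stepQ 59840 Q59840 (allL N59840 (tt N33154 F174283) (tt N58414 (iv0 F174284)) (tt N31902 F174280) (tt N58141 F174281) (tt N96857 D199949) (tt N31883 (iv5 D112098)) (tt N61693 (iv6 F179274)) (tt N31906 F174282))
theorem Q59842 : ∀ i, i < 59842 → P i := stepQ 59841 Q59841 (allL N59841 (tt N44144 F174287) (tt N77800 F245005) (tt N31905 F174285) (tt N55254 F352790) (tt N31884 (iv4 D112099)) (tt N55249 (iv5 F352750)) (tt N55542 (iv6 F346833)) (tt N31901 F174286))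
theorem Q59843 : ∀ i, i < 59843 → P i := stepQ 59842 Q59842 (allL N59842 (tt N58634 (iv1 F174288)) (tt N31886 (iv0 D112100)) (tt N58633 F230603) (tt N51652 (iv3 F318889)) (tt N96858 D199950) (tt N51651 (iv5 F318883)) (tt N80262 (iv6 F364247)) (tt N58632 F230601))
theorem Q59844 : ∀ i, i < 59844 → P i := stepQ 59843 Q59843 (allL N59843 (tt N31886 (iv1 D112101)) (tt N58634 (iv0 F174290)) (tt N58632 (iv2 F230602)) (tt N95139 F407205) (tt N59377 (iv4 F174289)) (tt N87795 (iv5 F380534)) (tt N96859 D199951) (tt N58633 (iv7 F230604)))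
theorem Q59845 : ∀ i, i < 59845 → P i := stepQ 59844 Q59844 (allL N59844 (tt N58633 (iv1 F174294)) (tt N58632 F174293) (tt N31886 (iv2 D112102)) (tt N58637 F174291) (tt N95710 (iv4 F409246)) (tt N78361 (iv5 F248412)) (tt N96860 D199952) (tt N58634 F174292))
theorem Q59846 : ∀ i, i < 59846 → P i := stepQ 59845 Q59845 (allL N59845 (tt N87808 F380598) (tt N96861 D199953) (tt N96860 (iv2 F414305)) (tt N31887 F174295) (tt N96320 (iv4 F412014)) (tt N95881 (iv5 F410073)) (tt N31886 (iv6 D112103)) (tt N58569 F174296))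
theorem Q59847 : ∀ i, i < 59847 → P i := stepQ 59846 Q59846 (allL N59846 (tt N96862 D199954) (tt N95741 (iv0 F409401)) (tt N58639 F174297) (tt N95881 (iv3 F410071)) (tt N60242 (iv4 F336223)) (tt N31887 (iv5 D112104)) (tt N60241 F336224) (tt N58570 F174298))
theorem Q59848 : ∀ i, i < 59848 → P i := stepQ 59847 Q59847 (allL N59847 (tt N58637 (iv1 F174299)) (tt N31888 (iv0 D112105)) (tt N58636 F225653) (tt N87717 (iv3 F380249)) (tt N95670 (iv4 F409066)) (tt N66738 (iv5 F205299)) (tt N96863 D199955) (tt N58635 F225652))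
theorem Q59849 : ∀ i, i < 59849 → P i := stepQ 59848 Q59848 (allL N59848 (tt N31888 (iv1 D112106)) (tt N58637 F174306) (tt N58635 F225651) (tt N96864 D199956) (tt N95671 (iv4 F409072)) (tt N66739 F205302) (tt N96865 D199957) (tt N58636 (iv7 F225654)))
theorem Q59850 : ∀ i, i < 59850 → P i := stepQ 59849 Q59849 (allL N59849 (tt N58636 (iv1 F174307)) (tt N58635 F174305) (tt N31888 (iv2 D112107)) (tt N58634 F174300) (tt N57295 F174301) (tt N56026 F174302) (tt N58572 F174303) (tt N58637 F174304))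
theorem Q59851 : ∀ i, i < 59851 → P i := stepQ 59850 Q59850 (allL N59850 (tt N96864 F414332) (tt N96866 D199958) (tt N66671 (iv2 F204913)) (tt N31889 (iv3 D112108)) (tt N32356 F174309) (tt N66670 F204912) (tt N96867 D199959) (tt N58640 F174308))
theorem Q59852 : ∀ i, i < 59852 → P i := stepQ 59851 Q59851 (allL N59851 (tt N47610 F362591) (tt N58738 (iv0 F362594)) (tt N58642 F174314) (tt N96867 (iv3 F414352)) (tt N79468 F362592) (tt N96868 D199960) (tt N31889 (iv6 D112109)) (tt N58574 F362597))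
theorem Q59853 : ∀ i, i < 59853 → P i := stepQ 59852 Q59852 (allL N59852 (tt N96869 D199961) (tt N96870 D199962) (tt N87753 (iv2 F380376)) (tt N31895 F174324) (tt N91003 (iv4 F391535)) (tt N96871 D199963) (tt N31892 (iv6 D112114)) (tt N96872 D199964))
theorem Q59854 : ∀ i, i < 59854 → P i := stepQ 59853 Q59853 (allL N59853 (tt N80934 F326153) (tt N45694 F326154) (tt N80937 F326155) (tt N31898 F174325) (tt N80918 F326156) (tt N31893 (iv5 D112117)) (tt N96871 (iv6 F414364)) (tt N80255 F326157))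
theorem Q59855 : ∀ i, i < 59855 → P i := stepQ 59854 Q59854 (allL N59854 (tt N96873 D199965) (tt N80188 F324023) (tt N48357 F324024) (tt N31894 (iv3 D112119)) (tt N90998 (iv4 F391515)) (tt N35895 F174329) (tt N64252 F324025) (tt N58647 F174330))
theorem Q59856 : ∀ i, i < 59856 → P i := stepQ 59855 Q59855 (allL N59855 (tt N80202 (iv1 F363699)) (tt N31895 (iv0 D112121)) (tt N80200 (iv2 F363712)) (tt N96874 D199966) (tt N96563 (iv4 F413014)) (tt N96875 D199967) (tt N96876 D199968) (tt N80201 (iv7 F363713)))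
theorem Q59857 : ∀ i, i < 59857 → P i := stepQ 59856 Q59856 (allL N59856 (tt N31895 (iv1 D112122)) (tt N80202 F363714) (tt N80201 F363709) (tt N42566 F363710) (tt N96564 F413018) (tt N96877 D199969) (tt N87734 F380284) (tt N80200 F363711))
theorem Q59858 : ∀ i, i < 59858 → P i := stepQ 59857 Q59857 (allL N59857 (tt N96838 F414197) (tt N96878 D199970) (tt N48018 F339840) (tt N96871 (iv3 F414363)) (tt N33406 F339841) (tt N31895 (iv5 D112123)) (tt N31898 F174333) (tt N76882 F339842))
theorem Q59859 : ∀ i, i < 59859 → P i := stepQ 59858 Q59858 (allL N59858 (tt N80201 F363697) (tt N80200 F363700) (tt N80202 F363696) (tt N96872 (iv3 F414368)) (tt N80176 (iv4 F363695)) (tt N76882 (iv5 F363694)) (tt N58652 F174334) (tt N31895 (iv7 D112124)))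
theorem Q59860 : ∀ i, i < 59860 → P i := stepQ 59859 Q59859 (allL N59859 (tt N96879 D199971) (tt N96859 (iv0 F414304)) (tt N95580 (iv2 F408739)) (tt N31896 (iv3 D112125)) (tt N94959 F406510) (tt N95532 (iv5 F408520)) (tt N96880 D199972) (tt N95577 (iv7 F408727)))
theorem Q59861 : ∀ i, i < 59861 → P i := stepQ 59860 Q59860 (allL N59860 (tt N96823 (iv1 F414133)) (tt N78276 F348111) (tt N96856 (iv2 F414281)) (tt N95532 F408519) (tt N74305 F348112) (tt N31896 (iv5 D112126)) (tt N41268 F348113) (tt N95575 (iv7 F408713)))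
theorem Q59862 : ∀ i, i < 59862 → P i := stepQ 59861 Q59861 (allL N59861 (tt N31921 F174548) (tt N31936 F174549) (tt N31934 (iv2 F174534)) (tt N96880 (iv3 F414416)) (tt N65692 (iv4 F202245)) (tt N78532 (iv5 F365718)) (tt N31896 (iv6 D112127)) (tt N31933 (iv7 F174536)))
theorem Q59863 : ∀ i, i < 59863 → P i := stepQ 59862 Q59862 (allL N59862 (tt N96863 (iv1 F414326)) (tt N96881 D199973) (tt N96882 D199974) (tt N31897 (iv3 D112128)) (tt N96883 D199975) (tt N96884 D199976) (tt N80702 (iv6 F361712)) (tt N96855 (iv7 F414277)))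
theorem Q59864 : ∀ i, i < 59864 → P i := stepQ 59863 Q59863 (allL N59863 (tt N78276 F348105) (tt N96823 (iv0 F414131)) (tt N95575 F408718) (tt N96884 (iv3 F414437)) (tt N96885 D199977) (tt N31897 (iv5 D112129)) (tt N34153 F348106) (tt N96856 (iv7 F414284)))
theorem Q59865 : ∀ i, i < 59865 → P i := stepQ 59864 Q59864 (allL N59864 (tt N47611 F326024) (tt N49168 F347487) (tt N87757 (iv2 F380395)) (tt N80702 F347484) (tt N74248 F227093) (tt N96799 (iv5 F414004)) (tt N31897 (iv6 D112130)) (tt N87756 F380390))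
theorem Q59866 : ∀ i, i < 59866 → P i := stepQ 59865 Q59865 (allL N59865 (tt N31898 (iv1 D112131)) (tt N95372 F408023) (tt N95374 (iv2 F408027)) (tt N96886 D199978) (tt N96887 D199979) (tt N59808 F174336) (tt N96888 D199980) (tt N59807 F174335))
theorem Q59867 : ∀ i, i < 59867 → P i := stepQ 59866 Q59866 (allL N59866 (tt N95345 (iv1 F407937)) (tt N65863 (iv0 F348137)) (tt N40503 F339846) (tt N95615 (iv3 F408899)) (tt N31898 (iv4 D112132)) (tt N40502 F339847) (tt N33406 F339848) (tt N76254 F339849))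
theorem Q59868 : ∀ i, i < 59868 → P i := stepQ 59867 Q59867 (allL N59867 (tt N95374 (iv1 F408030)) (tt N59807 (iv0 F174338)) (tt N95372 F408019) (tt N80255 F363693) (tt N76254 (iv4 F339855)) (tt N31899 F174337) (tt N76252 F363692) (tt N31898 (iv7 D112133)))
theorem Q59869 : ∀ i, i < 59869 → P i := stepQ 59868 Q59868 (allL N59868 (tt N93588 (iv1 F401221)) (tt N77918 (iv0 F245304)) (tt N93699 (iv2 F401607)) (tt N31902 F174344) (tt N96889 D199981) (tt N31900 (iv5 D112135)) (tt N70019 (iv6 F216427)) (tt N78050 (iv7 F245605)))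
theorem Q59870 : ∀ i, i < 59870 → P i := stepQ 59869 Q59869 (allL N59869 (tt N31905 (iv1 F174346)) (tt N31901 (iv0 D112136)) (tt N77800 (iv2 F245003)) (tt N91878 F394804) (tt N56214 F174345) (tt N95344 (iv5 F407931)) (tt N58660 (iv6 F174348)) (tt N44144 F174347))
theorem Q59871 : ∀ i, i < 59871 → P i := stepQ 59870 Q59870 (allL N59870 (tt N79349 (iv1 F359602)) (tt N42133 F359600) (tt N91859 (iv2 F394739)) (tt N31901 (iv3 D112137)) (tt N45774 F359601) (tt N55255 (iv5 F359493)) (tt N91853 (iv6 F394701)) (tt N55254 F359494))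
theorem Q59872 : ∀ i, i < 59872 → P i := stepQ 59871 Q59871 (allL N59871 (tt N73167 F346891) (tt N78256 F352806) (tt N33531 F346892) (tt N55255 F359491) (tt N33547 F346893) (tt N31901 (iv5 D112138)) (tt N33529 F346894) (tt N55249 F352791))
theorem Q59873 : ∀ i, i < 59873 → P i := stepQ 59872 Q59872 (allL N59872 (tt N35677 F174352) (tt N71036 F219335) (tt N31940 F174349) (tt N91853 (iv3 F394698)) (tt N31903 F174350) (tt N96890 D199982) (tt N31901 (iv6 D112139)) (tt N31938 (iv7 F174351)))
theorem Q59874 : ∀ i, i < 59874 → P i := stepQ 59873 Q59873 (allL N59873 (tt N96891 D199983) (tt N77928 (iv0 F359505)) (tt N96857 (iv2 F414288)) (tt N96892 D199984) (tt N31902 (iv4 D112140)) (tt N43368 F359502) (tt N70022 (iv6 F216429)) (tt N78053 (iv7 F245613)))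
theorem Q59875 : ∀ i, i < 59875 → P i := stepQ 59874 Q59874 (allL N59874 (tt N35580 F174355) (tt N35669 F174356) (tt N35667 F174353) (tt N96893 D199985) (tt N31904 (iv4 D112141)) (tt N96894 D199986) (tt N96895 D199987) (tt N35666 F174354))
theorem Q59876 : ∀ i, i < 59876 → P i := stepQ 59875 Q59875 (allL N59875 (tt N56837 F174361) (tt N55684 (iv0 F174362)) (tt N56906 F174357) (tt N31907 F174358) (tt N96895 (iv4 F414487)) (tt N32036 F174359) (tt N31904 (iv6 D112142)) (tt N55645 F174360))
theorem Q59877 : ∀ i, i < 59877 → P i := stepQ 59876 Q59876 (allL N59876 (tt N77802 F350490) (tt N79256 F350491) (tt N91856 (iv2 F394717)) (tt N31905 (iv3 D112143)) (tt N96893 (iv4 F414476)) (tt N33536 F350492) (tt N91854 F394710) (tt N33535 F350493))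
theorem Q59878 : ∀ i, i < 59878 → P i := stepQ 59877 Q59877 (allL N59877 (tt N78256 (iv1 F352805)) (tt N73167 F346897) (tt N55249 F352789) (tt N33536 F346898) (tt N33551 F346899) (tt N31905 (iv5 D112144)) (tt N34053 F346900) (tt N33531 F346901))
theorem Q59879 : ∀ i, i < 59879 → P i := stepQ 59878 Q59878 (allL N59878 (tt N91286 (iv1 F392556)) (tt N91287 (iv0 F392563)) (tt N55542 (iv2 F346831)) (tt N91854 (iv3 F394705)) (tt N31907 F174363) (tt N96896 D199988) (tt N31905 (iv6 D112145)) (tt N72673 (iv7 F222840)))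
theorem Q59880 : ∀ i, i < 59880 → P i := stepQ 59879 Q59879 (allL N59879 (tt N77928 F403091) (tt N96891 F414473) (tt N78053 (iv2 F245611)) (tt N96897 D199989) (tt N31906 (iv4 D112146)) (tt N96898 D199990) (tt N33210 F174364) (tt N96857 (iv7 F414290)))
theorem Q59881 : ∀ i, i < 59881 → P i := stepQ 59880 Q59880 (allL N59880 (tt N31908 (iv1 D112148)) (tt N31911 F174366) (tt N58665 (iv2 F174369)) (tt N58486 (iv3 F174370)) (tt N46320 F324461) (tt N89903 (iv5 F387923)) (tt N44844 F324462) (tt N46318 F324463))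
theorem Q59882 : ∀ i, i < 59882 → P i := stepQ 59881 Q59881 (allL N59881 (tt N36332 F174376) (tt N87455 (iv0 F379382)) (tt N92557 F397361) (tt N31908 (iv3 D112149)) (tt N59945 (iv4 F174897)) (tt N40904 (iv5 F174377)) (tt N91994 F395294) (tt N58666 F174375))
theorem Q59883 : ∀ i, i < 59883 → P i := stepQ 59882 Q59882 (allL N59882 (tt N90686 (iv1 F390524)) (tt N54851 F353335) (tt N58667 F174378) (tt N40904 F174379) (tt N40935 (iv4 F174381)) (tt N31908 (iv5 D112150)) (tt N96899 D199991) (tt N49730 (iv7 F322927)))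
theorem Q59884 : ∀ i, i < 59884 → P i := stepQ 59883 Q59883 (allL N59883 (tt N47614 F325270) (tt N96900 D199992) (tt N58668 F174383) (tt N91994 (iv3 F395292)) (tt N31909 F174384) (tt N96901 D199993) (tt N31908 (iv6 D112151)) (tt N58615 F344523))
theorem Q59885 : ∀ i, i < 59885 → P i := stepQ 59884 Q59884 (allL N59884 (tt N58238 (iv1 F174395)) (tt N44145 (iv0 F174394)) (tt N58242 F244984) (tt N31911 (iv3 D112157)) (tt N95109 (iv4 F407081)) (tt N91012 (iv5 F391560)) (tt N58617 F359285) (tt N58241 F174393))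
theorem Q59886 : ∀ i, i < 59886 → P i := stepQ 59885 Q59885 (allL N59885 (tt N43977 F325792) (tt N63602 F336288) (tt N96902 D199994) (tt N31913 (iv3 D112199)) (tt N45681 F325793) (tt N73200 (iv5 F224068)) (tt N45542 F325794) (tt N45541 F325795))
theorem Q59887 : ∀ i, i < 59887 → P i := stepQ 59886 Q59886 (allL N59886 (tt N93424 (iv1 F400695)) (tt N73744 (iv0 F331104)) (tt N58179 F174474) (tt N65050 F351097) (tt N96903 D199995) (tt N31914 (iv5 D112203)) (tt N96904 D199996) (tt N58181 F174475))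
theorem Q59888 : ∀ i, i < 59888 → P i := stepQ 59887 Q59887 (allL N59887 (tt N40708 F223494) (tt N78144 (iv0 F246269)) (tt N58180 F174476) (tt N74711 (iv3 F350124)) (tt N31915 (iv4 D112204)) (tt N73041 F223736) (tt N70027 (iv6 F216434)) (tt N41069 F174477))
theorem Q59889 : ∀ i, i < 59889 → P i := stepQ 59888 Q59888 (allL N59888 (tt N40753 F350118) (tt N78159 F350109) (tt N81693 F350107) (tt N31916 (iv3 D112211)) (tt N74711 F350123) (tt N73172 (iv5 F350113)) (tt N46181 F316890) (tt N41072 F174491))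
theorem Q59890 : ∀ i, i < 59890 → P i := stepQ 59889 Q59889 (allL N59889 (tt N96905 D199997) (tt N80394 (iv0 F342372)) (tt N96906 D199998) (tt N31918 (iv3 D112219)) (tt N64569 (iv4 F342368)) (tt N73185 (iv5 F223997)) (tt N33473 F174507) (tt N58619 F174508))
theorem Q59891 : ∀ i, i < 59891 → P i := stepQ 59890 Q59890 (allL N59890 (tt N58556 (iv1 F174510)) (tt N31919 (iv0 D112220)) (tt N58555 F358441) (tt N59571 F174509) (tt N87454 (iv4 F379373)) (tt N96797 (iv5 F413992)) (tt N58624 (iv6 F378710)) (tt N58554 F358440))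
theorem Q59892 : ∀ i, i < 59892 → P i := stepQ 59891 Q59891 (allL N59891 (tt N31919 (iv1 D112221)) (tt N58556 F174515) (tt N58554 (iv2 F358438)) (tt N96907 D199999) (tt N55579 F358431) (tt N96798 (iv5 F414000)) (tt N55577 (iv6 F358432)) (tt N58555 F358436))
theorem Q59893 : ∀ i, i < 59893 → P i := stepQ 59892 Q59892 (allL N59892 (tt N58555 (iv1 F174516)) (tt N58554 F174514) (tt N31919 (iv2 D112222)) (tt N31929 F174511) (tt N51721 (iv4 F337332)) (tt N96908 D200000) (tt N44696 F325594) (tt N58556 F174513))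
theorem Q59894 : ∀ i, i < 59894 → P i := stepQ 59893 Q59893 (allL N59893 (tt N95303 (iv1 F407788)) (tt N87460 (iv0 F379401)) (tt N96908 (iv2 F414556)) (tt N31920 F174517) (tt N96006 (iv4 F410605)) (tt N31919 (iv5 D112223)) (tt N96005 F410603) (tt N58557 F174518))
theorem Q59895 : ∀ i, i < 59895 → P i := stepQ 59894 Q59894 (allL N59894 (tt N44693 F326839) (tt N44692 F326840) (tt N44696 F326841) (tt N31921 F174519) (tt N58626 F174520) (tt N86863 (iv5 F377482)) (tt N31919 (iv6 D112224)) (tt N44694 F326842))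
theorem Q59896 : ∀ i, i < 59896 → P i := stepQ 59895 Q59895 (allL N59895 (tt N94235 F403799) (tt N82123 F397080) (tt N31932 F174521) (tt N96005 (iv3 F410601)) (tt N55962 F174522) (tt N96909 D200001) (tt N31920 (iv6 D112225)) (tt N96910 D200002))
theorem Q59897 : ∀ i, i < 59897 → P i := stepQ 59896 Q59896 (allL N59896 (tt N31936 F174524) (tt N31921 (iv0 D112226)) (tt N31933 F174547) (tt N48366 F326794) (tt N35897 F174523) (tt N78533 (iv5 F365723)) (tt N87756 (iv6 F380386)) (tt N31934 (iv7 F174546)))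
theorem Q59898 : ∀ i, i < 59898 → P i := stepQ 59897 Q59897 (allL N59897 (tt N59731 (iv1 F174609)) (tt N59729 F174527) (tt N31935 F174526) (tt N86863 (iv3 F377481)) (tt N87566 (iv4 F379766)) (tt N31921 (iv5 D112228)) (tt N96909 (iv6 F414563)) (tt N86846 (iv7 F377409)))
theorem Q59899 : ∀ i, i < 59899 → P i := stepQ 59898 Q59898 (allL N59898 (tt N31934 (iv1 F174531)) (tt N31933 F174535) (tt N31936 F174528) (tt N44694 F326837) (tt N31923 F174529) (tt N86846 (iv5 F377408)) (tt N58563 F174530) (tt N31921 (iv7 D112229)))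
theorem Q59900 : ∀ i, i < 59900 → P i := stepQ 59899 Q59899 (allL N59899 (tt N71036 (iv1 F219336)) (tt N35677 (iv0 F174539)) (tt N31938 F174537) (tt N47644 F326838) (tt N31922 (iv4 D112230)) (tt N87527 (iv5 F379661)) (tt N72673 (iv6 F222839)) (tt N31940 F174538))
theorem Q59901 : ∀ i, i < 59901 → P i := stepQ 59900 Q59900 (allL N59900 (tt N58568 (iv1 F174557)) (tt N31924 (iv0 D112231)) (tt N58567 F361865) (tt N96911 D200003) (tt N94750 (iv4 F405810)) (tt N82130 (iv5 F361862)) (tt N71703 F408271) (tt N58566 F361863))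
theorem Q59902 : ∀ i, i < 59902 → P i := stepQ 59901 Q59901 (allL N59901 (tt N31924 (iv1 D112232)) (tt N58568 F174563) (tt N58566 (iv2 F361864)) (tt N96912 D200004) (tt N94753 (iv4 F405817)) (tt N82117 F361857) (tt N96913 D200005) (tt N58567 (iv7 F361866)))
theorem Q59903 : ∀ i, i < 59903 → P i := stepQ 59902 Q59902 (allL N59902 (tt N58567 (iv1 F174564)) (tt N58566 F174562) (tt N31924 (iv2 D112233)) (tt N58572 F174558) (tt N58147 F174559) (tt N77714 (iv5 F361869)) (tt N58634 F174560) (tt N58568 F174561))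
theorem Q59904 : ∀ i, i < 59904 → P i := stepQ 59903 Q59903 (allL N59903 (tt N58572 (iv1 F174566)) (tt N31925 (iv0 D112234)) (tt N48382 F330669) (tt N55669 F174565) (tt N44949 F330670) (tt N95382 (iv5 F408066)) (tt N44948 F330671) (tt N58571 (iv7 F351032)))
theorem Q59905 : ∀ i, i < 59905 → P i := stepQ 59904 Q59904 (allL N59904 (tt N31925 (iv1 D112235)) (tt N58572 F174571) (tt N58571 F351033) (tt N96914 D200006) (tt N48387 F330679) (tt N95383 (iv5 F408073)) (tt N79591 F351036) (tt N48382 F330680))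
theorem Q59906 : ∀ i, i < 59906 → P i := stepQ 59905 Q59905 (allL N59905 (tt N48382 F351024) (tt N58571 F174570) (tt N31925 (iv2 D112236)) (tt N58568 F174567) (tt N42122 F174568) (tt N96839 (iv5 F414201)) (tt N96915 D200007) (tt N58572 F174569))
theorem Q59907 : ∀ i, i < 59907 → P i := stepQ 59906 Q59906 (allL N59906 (tt N82119 F345388) (tt N77590 (iv0 F365887)) (tt N96915 (iv2 F414589)) (tt N31926 F174573) (tt N59967 (iv4 F175009)) (tt N96916 D200008) (tt N31925 (iv6 D112237)) (tt N58638 F174574))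
theorem Q59908 : ∀ i, i < 59908 → P i := stepQ 59907 Q59907 (allL N59907 (tt N95741 (iv1 F409402)) (tt N96862 F414319) (tt N58570 F174575) (tt N96916 (iv3 F414596)) (tt N67160 F336222) (tt N31926 (iv5 D112238)) (tt N67159 (iv6 F336221)) (tt N58639 F174576))
theorem Q59909 : ∀ i, i < 59909 → P i := stepQ 59908 Q59908 (allL N59908 (tt N96914 F414588) (tt N68090 F344592) (tt N65703 (iv2 F202279)) (tt N31927 (iv3 D112239)) (tt N65515 F201923) (tt N67128 (iv5 F344587)) (tt N58640 F358194) (tt N58573 F174577))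
theorem Q59910 : ∀ i, i < 59910 → P i := stepQ 59909 Q59909 (allL N59909 (tt N96917 D200009) (tt N96911 (iv0 F414572)) (tt N96918 D200010) (tt N31928 (iv3 D112241)) (tt N58671 F174580) (tt N90681 (iv5 F390506)) (tt N87810 F380610) (tt N58575 F174581))
theorem Q59911 : ∀ i, i < 59911 → P i := stepQ 59910 Q59910 (allL N59910 (tt N58738 F362582) (tt N47610 F325237) (tt N58574 F174582) (tt N87810 F380609) (tt N58670 F174583) (tt N96919 D200011) (tt N31928 (iv6 D112242)) (tt N58642 F362596))
theorem Q59912 : ∀ i, i < 59912 → P i := stepQ 59911 Q59911 (allL N59911 (tt N58578 F174586) (tt N58577 F174587) (tt N31930 F174584) (tt N96908 (iv3 F414557)) (tt N91117 (iv4 F392003)) (tt N31929 (iv5 D112243)) (tt N60161 (iv6 F352936)) (tt N58576 F174585))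
theorem Q59913 : ∀ i, i < 59913 → P i := stepQ 59912 Q59912 (allL N59912 (tt N95446 (iv1 F408215)) (tt N95448 (iv0 F408221)) (tt N91117 (iv2 F392002)) (tt N96920 D200012) (tt N31930 (iv4 D112245)) (tt N54715 (iv5 F324385)) (tt N90707 (iv6 F390580)) (tt N58579 F174590))
theorem Q59914 : ∀ i, i < 59914 → P i := stepQ 59913 Q59913 (allL N59913 (tt N96921 D200013) (tt N96922 D200014) (tt N96923 D200015) (tt N31931 (iv3 D112251)) (tt N96920 (iv4 F414619)) (tt N33116 F174596) (tt N96924 D200016) (tt N55968 F174597))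
theorem Q59915 : ∀ i, i < 59915 → P i := stepQ 59914 Q59914 (allL N59914 (tt N96925 D200017) (tt N94368 (iv0 F404160)) (tt N55962 F174598) (tt N96924 (iv3 F414635)) (tt N31932 F174599) (tt N71246 (iv5 F352946)) (tt N31931 (iv6 D112252)) (tt N96926 D200018))
theorem Q59916 : ∀ i, i < 59916 → P i := stepQ 59915 Q59915 (allL N59915 (tt N96910 (iv1 F414569)) (tt N31932 (iv0 D112253)) (tt N94235 (iv2 F403796)) (tt N65319 F390583) (tt N92423 (iv4 F396964)) (tt N96927 D200019) (tt N96928 D200020) (tt N82123 (iv7 F390584)))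
theorem Q59917 : ∀ i, i < 59917 → P i := stepQ 59916 Q59916 (allL N59916 (tt N31932 (iv1 D112254)) (tt N96910 F414568) (tt N82123 (iv2 F403771)) (tt N68091 F403770) (tt N92424 F403769) (tt N96929 D200021) (tt N90704 (iv6 F414386)) (tt N94235 (iv7 F403798)))
theorem Q59918 : ∀ i, i < 59918 → P i := stepQ 59917 Q59917 (allL N59917 (tt N96930 D200022) (tt N96931 D200023) (tt N96909 (iv2 F414561)) (tt N47635 F326849) (tt N96932 D200024) (tt N31932 (iv5 D112255)) (tt N31935 F174600) (tt N96933 D200025))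
theorem Q59919 : ∀ i, i < 59919 → P i := stepQ 59918 Q59918 (allL N59918 (tt N82123 (iv1 F397096)) (tt N94235 F403800) (tt N96910 (iv2 F414565)) (tt N60162 (iv3 F352929)) (tt N96926 (iv4 F414647)) (tt N96933 (iv5 F414665)) (tt N58589 F174601) (tt N31932 (iv7 D112256)))
theorem Q59920 : ∀ i, i < 59920 → P i := stepQ 59919 Q59919 (allL N59919 (tt N96934 D200026) (tt N96913 (iv0 F414582)) (tt N96935 D200027) (tt N31933 (iv3 D112257)) (tt N58214 F174602) (tt N96769 (iv5 F413844)) (tt N87806 (iv6 F380592)) (tt N96880 (iv7 F414418)))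
theorem Q59921 : ∀ i, i < 59921 → P i := stepQ 59920 Q59920 (allL N59920 (tt N49168 F363544) (tt N47611 F326023) (tt N87756 F380388) (tt N87806 F380591) (tt N65698 (iv4 F202260)) (tt N82946 F365990) (tt N31933 (iv6 D112258)) (tt N87757 (iv7 F380392)))
theorem Q59922 : ∀ i, i < 59922 → P i := stepQ 59921 Q59921 (allL N59921 (tt N44948 F326843) (tt N44951 F326844) (tt N48365 F326845) (tt N31934 (iv3 D112259)) (tt N79341 F326846) (tt N96770 (iv5 F413846)) (tt N96855 (iv6 F414276)) (tt N48366 F326847))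
theorem Q59923 : ∀ i, i < 59923 → P i := stepQ 59922 Q59922 (allL N59922 (tt N86846 (iv1 F377410)) (tt N31935 (iv0 D112260)) (tt N59731 (iv2 F174606)) (tt N96936 D200028) (tt N96937 D200029) (tt N44703 F327527) (tt N96938 D200030) (tt N59729 F174608))
theorem Q59924 : ∀ i, i < 59924 → P i := stepQ 59923 Q59923 (allL N59923 (tt N31935 (iv1 D112261)) (tt N86846 F377411) (tt N59729 (iv2 F174604)) (tt N96939 D200031) (tt N96940 D200032) (tt N44704 F327528) (tt N96941 D200033) (tt N59731 (iv7 F174605)))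
theorem Q59925 : ∀ i, i < 59925 → P i := stepQ 59924 Q59924 (allL N59924 (tt N87567 (iv1 F379770)) (tt N87138 (iv0 F378509)) (tt N87566 F379768) (tt N54870 F326848) (tt N31935 (iv4 D112262)) (tt N96942 D200034) (tt N96932 (iv6 F414663)) (tt N86841 (iv7 F377394)))
theorem Q59926 : ∀ i, i < 59926 → P i := stepQ 59925 Q59925 (allL N59925 (tt N34605 F322464) (tt N35770 (iv0 F174616)) (tt N35776 F174613) (tt N91852 (iv3 F394686)) (tt N31937 (iv4 D112264)) (tt N37125 F332142) (tt N80104 F332143) (tt N35777 F174614))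
theorem Q59927 : ∀ i, i < 59927 → P i := stepQ 59926 Q59926 (allL N59926 (tt N58363 F174620) (tt N96249 (iv0 F411741)) (tt N58194 F174617) (tt N31939 F174618) (tt N80104 (iv4 F332145)) (tt N56946 F174619) (tt N31937 (iv6 D112265)) (tt N72667 (iv7 F222829)))
theorem Q59928 : ∀ i, i < 59928 → P i := stepQ 59927 Q59927 (allL N59927 (tt N31940 (iv1 F174622)) (tt N31938 (iv0 D112266)) (tt N71036 (iv2 F219333)) (tt N86958 (iv3 F377854)) (tt N35681 F174621) (tt N96943 D200035) (tt N58603 (iv6 F174625)) (tt N35677 F174623))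
theorem Q59929 : ∀ i, i < 59929 → P i := stepQ 59928 Q59928 (allL N59928 (tt N96774 (iv1 F413868)) (tt N96741 (iv0 F413715)) (tt N87527 (iv2 F379659)) (tt N51767 (iv3 F346840)) (tt N87529 (iv4 F379666)) (tt N31938 (iv5 D112268)) (tt N51765 F346838) (tt N96890 (iv7 F414464)))
theorem Q59930 : ∀ i, i < 59930 → P i := stepQ 59929 Q59929 (allL N59929 (tt N47646 F360322) (tt N44850 F360323) (tt N47645 F346865) (tt N31940 (iv3 D112270)) (tt N60577 (iv4 F176601)) (tt N33533 F346866) (tt N33535 F346867) (tt N47644 F346868))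
theorem Q59931 : ∀ i, i < 59931 → P i := stepQ 59930 Q59930 (allL N59930 (tt N96741 (iv1 F413716)) (tt N96774 (iv0 F413867)) (tt N96890 (iv2 F414461)) (tt N33533 F346895) (tt N86656 (iv4 F376686)) (tt N31940 (iv5 D112271)) (tt N33530 F346896) (tt N87527 (iv7 F379663)))
theorem Q59932 : ∀ i, i < 59932 → P i := stepQ 59931 Q59931 (allL N59931 (tt N62113 F180031) (tt N47657 F334027) (tt N75396 (iv2 F349827)) (tt N31941 (iv3 D112273)) (tt N48347 F324000) (tt N54705 (iv5 F344567)) (tt N58666 F353156) (tt N58614 F174628))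
theorem Q59933 : ∀ i, i < 59933 → P i := stepQ 59932 Q59932 (allL N59932 (tt N35508 F323978) (tt N35214 F323979) (tt N48261 F323980) (tt N31944 F174641) (tt N59950 (iv4 F174941)) (tt N48338 F323981) (tt N31942 (iv6 D112280)) (tt N48338 F323982))
theorem Q59934 : ∀ i, i < 59934 → P i := stepQ 59933 Q59933 (allL N59933 (tt N54486 F344519) (tt N54484 F349494) (tt N54706 (iv2 F344569)) (tt N96616 (iv3 F413191)) (tt N53448 (iv4 F324392)) (tt N31943 (iv5 D112281)) (tt N54785 F362578) (tt N53445 (iv7 F344563)))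
theorem Q59935 : ∀ i, i < 59935 → P i := stepQ 59934 Q59934 (allL N59934 (tt N96900 (iv1 F414513)) (tt N47614 F344522) (tt N58615 F174644) (tt N96617 (iv3 F413197)) (tt N31944 F174645) (tt N96944 D200036) (tt N31943 (iv6 D112282)) (tt N58668 (iv7 F344583)))
theorem Q59936 : ∀ i, i < 59936 → P i := stepQ 59935 Q59935 (allL N59935 (tt N52767 F336753) (tt N44355 F343779) (tt N58225 F174719) (tt N45507 F326854) (tt N51128 F326855) (tt N31946 (iv5 D112325)) (tt N58255 (iv6 F360006)) (tt N58221 F174720))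
theorem Q59937 : ∀ i, i < 59937 → P i := stepQ 59936 Q59936 (allL N59936 (tt N58734 (iv1 F358808)) (tt N64131 F323060) (tt N79468 F323061) (tt N31949 F174733) (tt N58642 F174734) (tt N58670 F323062) (tt N31947 (iv6 D112331)) (tt N58670 F323063))
theorem Q59938 : ∀ i, i < 59938 → P i := stepQ 59937 Q59937 (allL N59937 (tt N47512 F320199) (tt N69212 (iv0 F317750)) (tt N45936 F319448) (tt N41319 F174741) (tt N44894 (iv4 F320839)) (tt N31948 (iv5 D112333)) (tt N64219 (iv6 F348648)) (tt N44891 F318683))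
theorem Q59939 : ∀ i, i < 59939 → P i := stepQ 59938 Q59938 (allL N59938 (tt N32366 F174756) (tt N35797 F174755) (tt N35905 F174753) (tt N92097 (iv3 F395721)) (tt N31950 (iv4 D112339)) (tt N66000 F360440) (tt N58672 (iv6 F322495)) (tt N35904 F174754))
theorem Q59940 : ∀ i, i < 59940 → P i := stepQ 59939 Q59939 (allL N59939 (tt N65950 F202946) (tt N32328 (iv0 F174760)) (tt N65953 F202959) (tt N31951 (iv3 D112341)) (tt N92097 (iv4 F395720)) (tt N82157 F350802) (tt N58673 (iv6 F323947)) (tt N45935 F319451))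
theorem Q59941 : ∀ i, i < 59941 → P i := stepQ 59940 Q59940 (allL N59940 (tt N77760 (iv1 F342270)) (tt N64232 (iv0 F342271)) (tt N82463 F319473) (tt N35754 F174807) (tt N78328 F342269) (tt N45787 F319474) (tt N31952 (iv6 D112361)) (tt N46280 F319475))
theorem Q59942 : ∀ i, i < 59942 → P i := stepQ 59941 Q59941 (allL N59941 (tt N45879 F324475) (tt N51607 F324476) (tt N79709 F324477) (tt N31957 F174856) (tt N65889 (iv4 F202738)) (tt N45934 F324478) (tt N31955 (iv6 D112395)) (tt N45934 F324479))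
theorem Q59943 : ∀ i, i < 59943 → P i := stepQ 59942 Q59942 (allL N59942 (tt N80057 (iv1 F360215)) (tt N32237 (iv0 F174858)) (tt N94028 F402881) (tt N31956 (iv3 D112396)) (tt N65887 (iv4 F202737)) (tt N96945 D200037) (tt N79398 (iv6 F360217)) (tt N58673 F174857))
theorem Q59944 : ∀ i, i < 59944 → P i := stepQ 59943 Q59943 (allL N59943 (tt N47814 F324481) (tt N35286 F324482) (tt N47813 F324483) (tt N96945 (iv3 F414718)) (tt N35430 F324484) (tt N31956 (iv5 D112397)) (tt N40490 F324485) (tt N35427 F324486))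
theorem Q59945 : ∀ i, i < 59945 → P i := stepQ 59944 Q59944 (allL N59944 (tt N66465 F323989) (tt N39607 F323990) (tt N58199 (iv2 F174891)) (tt N31959 (iv3 D112410)) (tt N57893 F174889) (tt N37008 F323991) (tt N45930 F323992) (tt N58201 F174890))
theorem Q59946 : ∀ i, i < 59946 → P i := stepQ 59945 Q59945 (allL N59945 (tt N95628 (iv1 F408945)) (tt N60385 (iv0 F176343)) (tt N96946 D200038) (tt N31960 (iv3 D112413)) (tt N59881 F174897) (tt N79624 F324003) (tt N79376 (iv6 F323212)) (tt N58675 F174898))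
theorem Q59947 : ∀ i, i < 59947 → P i := stepQ 59946 Q59946 (allL N59946 (tt N96340 F412137) (tt N96343 (iv0 F412152)) (tt N96634 F413265) (tt N31964 (iv3 D112442)) (tt N31968 F174930) (tt N96947 D200039) (tt N80231 (iv6 F363328)) (tt N35718 F174931))
theorem Q59948 : ∀ i, i < 59948 → P i := stepQ 59947 Q59947 (allL N59947 (tt N58476 F174934) (tt N95810 (iv0 F409763)) (tt N35715 F174932) (tt N96947 (iv3 F414731)) (tt N65744 (iv4 F360398)) (tt N31964 (iv5 D112443)) (tt N65582 F360400) (tt N35719 F174933))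
theorem Q59949 : ∀ i, i < 59949 → P i := stepQ 59948 Q59948 (allL N59948 (tt N96567 (iv1 F413026)) (tt N96524 F412848) (tt N96322 (iv2 F412024)) (tt N31966 (iv3 D112451)) (tt N59576 F174940) (tt N96948 D200040) (tt N96949 D200041) (tt N95611 (iv7 F408878)))
theorem Q59950 : ∀ i, i < 59950 → P i := stepQ 59949 Q59949 (allL N59949 (tt N95674 (iv1 F409092)) (tt N95699 F409198) (tt N82452 (iv2 F360071)) (tt N96948 (iv3 F414736)) (tt N64828 (iv4 F360072)) (tt N31966 (iv5 D112452)) (tt N96950 D200042) (tt N64826 F360058))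
theorem Q59951 : ∀ i, i < 59951 → P i := stepQ 59950 Q59950 (allL N59950 (tt N58735 (iv1 F362601)) (tt N58732 (iv0 F362595)) (tt N82356 F366013) (tt N96949 (iv3 F414742)) (tt N59932 F174941) (tt N96951 D200043) (tt N31966 (iv6 D112453)) (tt N58685 F366012))
theorem Q59952 : ∀ i, i < 59952 → P i := stepQ 59951 Q59951 (allL N59951 (tt N95699 (iv1 F409199)) (tt N95674 (iv0 F409091)) (tt N64826 F360050) (tt N96311 F411969) (tt N64500 F360051) (tt N31967 (iv5 D112454)) (tt N64499 (iv6 F360049)) (tt N82452 (iv7 F360057)))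
theorem Q59953 : ∀ i, i < 59953 → P i := stepQ 59952 Q59952 (allL N59952 (tt N31968 (iv1 D112456)) (tt N95706 F409228) (tt N65663 (iv2 F204654)) (tt N95044 (iv3 F406789)) (tt N59604 (iv4 F174942)) (tt N96952 D200044) (tt N58687 F361218) (tt N65660 (iv7 F204642)))
theorem Q59954 : ∀ i, i < 59954 → P i := stepQ 59953 Q59953 (allL N59953 (tt N65660 (iv1 F204655)) (tt N65663 F202214) (tt N31968 (iv2 D112457)) (tt N95711 (iv3 F409251)) (tt N96634 (iv4 F413264)) (tt N95053 (iv5 F406854)) (tt N96533 (iv6 F412878)) (tt N95706 (iv7 F409226)))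
theorem Q59955 : ∀ i, i < 59955 → P i := stepQ 59954 Q59954 (allL N59954 (tt N60706 F176747) (tt N60702 F204599) (tt N94827 (iv2 F406074)) (tt N31969 (iv3 D112468)) (tt N95820 (iv4 F409793)) (tt N94552 (iv5 F404940)) (tt N96953 D200045) (tt N94835 (iv7 F406106)))
theorem Q59956 : ∀ i, i < 59956 → P i := stepQ 59955 Q59955 (allL N59955 (tt N35024 F326113) (tt N35022 F326114) (tt N47911 F326115) (tt N96953 (iv3 F414756)) (tt N31970 F174951) (tt N38699 F341282) (tt N31969 (iv6 D112470)) (tt N45940 F326116))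
theorem Q59957 : ∀ i, i < 59957 → P i := stepQ 59956 Q59956 (allL N59956 (tt N96608 (iv1 F413165)) (tt N96954 D200046) (tt N88175 (iv2 F382023)) (tt N31974 (iv3 D112487)) (tt N31975 F174964) (tt N88170 F381992) (tt N45466 F325572) (tt N88179 (iv7 F382042)))
theorem Q59958 : ∀ i, i < 59958 → P i := stepQ 59957 Q59957 (allL N59957 (tt N58541 F174965) (tt N53869 (iv0 F321612)) (tt N80253 F325573) (tt N88170 (iv3 F381989)) (tt N54487 (iv4 F319201)) (tt N31974 (iv5 D112488)) (tt N96955 D200047) (tt N88177 (iv7 F382031)))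
theorem Q59959 : ∀ i, i < 59959 → P i := stepQ 59958 Q59958 (allL N59958 (tt N96547 (iv1 F412940)) (tt N59422 (iv0 F223799)) (tt N96529 (iv2 F412868)) (tt N31976 F174971) (tt N96956 D200048) (tt N31975 (iv5 D112496)) (tt N96574 (iv6 F413049)) (tt N95712 (iv7 F409258)))
theorem Q59960 : ∀ i, i < 59960 → P i := stepQ 59959 Q59959 (allL N59959 (tt N73093 (iv1 F223798)) (tt N89034 (iv0 F384899)) (tt N89784 F387548) (tt N88894 (iv3 F384458)) (tt N31976 (iv4 D112498)) (tt N38819 F343161) (tt N40551 F343163) (tt N33347 F343164))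
theorem Q59961 : ∀ i, i < 59961 → P i := stepQ 59960 Q59960 (allL N59960 (tt N94554 (iv1 F404950)) (tt N94553 (iv0 F404946)) (tt N94555 (iv2 F404955)) (tt N94826 (iv3 F406071)) (tt N95234 (iv4 F407526)) (tt N31977 (iv5 D112504)) (tt N94549 (iv6 F404927)) (tt N57853 F363037))
theorem Q59962 : ∀ i, i < 59962 → P i := stepQ 59961 Q59961 (allL N59961 (tt N58574 F362589) (tt N58642 F362598) (tt N47610 F326934) (tt N31979 (iv3 D112524)) (tt N31982 F174980) (tt N96957 D200049) (tt N46777 F326935) (tt N58738 F174981))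
theorem Q59963 : ∀ i, i < 59963 → P i := stepQ 59962 Q59962 (allL N59962 (tt N96958 D200050) (tt N95421 (iv0 F408157)) (tt N87625 (iv2 F379922)) (tt N96957 (iv3 F414772)) (tt N96959 D200051) (tt N31979 (iv5 D112525)) (tt N87623 F379918) (tt N58739 F174982))
theorem Q59964 : ∀ i, i < 59964 → P i := stepQ 59963 Q59963 (allL N59963 (tt N87757 (iv1 F380391)) (tt N87756 F380387) (tt N49168 F340576) (tt N46777 F325080) (tt N31981 F174983) (tt N49167 F340577) (tt N31979 (iv6 D112526)) (tt N47611 F325081))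
theorem Q59965 : ∀ i, i < 59965 → P i := stepQ 59964 Q59964 (allL N59964 (tt N95309 (iv1 F407811)) (tt N59732 (iv0 F348115)) (tt N95347 (iv2 F407943)) (tt N78645 (iv3 F348125)) (tt N31980 (iv4 D112527)) (tt N95554 (iv5 F408631)) (tt N59753 F174984) (tt N58742 F174985))
theorem Q59966 : ∀ i, i < 59966 → P i := stepQ 59965 Q59965 (allL N59965 (tt N31984 (iv1 D112532)) (tt N31985 F174993) (tt N35742 F174996) (tt N58350 (iv3 F174995)) (tt N58372 F174997) (tt N96960 D200052) (tt N91292 (iv6 F392584)) (tt N58748 F174994))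
theorem Q59967 : ∀ i, i < 59967 → P i := stepQ 59966 Q59966 (allL N59966 (tt N40179 F175000) (tt N62507 (iv0 F181948)) (tt N73712 F225467) (tt N31987 F174998) (tt N62094 (iv4 F180006)) (tt N31986 (iv5 D112533)) (tt N63712 F361271) (tt N57493 F174999))
theorem Q59968 : ∀ i, i < 59968 → P i := stepQ 59967 Q59967 (allL N59967 (tt N65306 (iv1 F345390)) (tt N63205 (iv0 F345387)) (tt N75395 (iv2 F231435)) (tt N31988 F175008) (tt N59906 F175009) (tt N68493 F345391) (tt N31986 (iv6 D112534)) (tt N58754 F175010))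
theorem Q59969 : ∀ i, i < 59969 → P i := stepQ 59968 Q59968 (allL N59968 (tt N47379 F361280) (tt N96961 D200053) (tt N58851 F175011) (tt N63712 (iv3 F361272)) (tt N59723 F175012) (tt N81265 F361281) (tt N31987 (iv6 D112535)) (tt N96962 D200054))
theorem Q59970 : ∀ i, i < 59970 → P i := stepQ 59969 Q59969 (allL N59969 (tt N31988 (iv1 D112536)) (tt N32060 F175013) (tt N58756 F175016) (tt N96963 D200055) (tt N32253 (iv4 F175015)) (tt N69646 F333428) (tt N96964 D200056) (tt N58757 F175014))
theorem Q59971 : ∀ i, i < 59971 → P i := stepQ 59970 Q59970 (allL N59970 (tt N35774 F175021) (tt N35752 (iv0 F175022)) (tt N35803 F175019) (tt N68463 (iv3 F345386)) (tt N31989 (iv4 D112538)) (tt N68462 (iv5 F332179)) (tt N80105 (iv6 F332136)) (tt N58759 F175020))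
theorem Q59972 : ∀ i, i < 59972 → P i := stepQ 59971 Q59971 (allL N59971 (tt N35765 (iv1 F175028)) (tt N35781 (iv0 F175027)) (tt N35805 F175023) (tt N58761 F175024) (tt N80105 (iv4 F332135)) (tt N57507 F175025) (tt N31989 (iv6 D112539)) (tt N57579 F175026))
theorem Q59973 : ∀ i, i < 59973 → P i := stepQ 59972 Q59972 (allL N59972 (tt N58855 (iv1 F175029)) (tt N31990 (iv0 D112540)) (tt N58854 (iv2 F350701)) (tt N60486 F176511) (tt N96965 D200057) (tt N96873 (iv5 F414372)) (tt N80196 (iv6 F330735)) (tt N58853 (iv7 F350688)))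
theorem Q59974 : ∀ i, i < 59974 → P i := stepQ 59973 Q59973 (allL N59973 (tt N37125 F326074) (tt N37124 F326075) (tt N32017 F175042) (tt N67566 (iv3 F334321)) (tt N96966 D200058) (tt N31991 (iv5 D112545)) (tt N69124 F326077) (tt N37119 F326078))
theorem Q59975 : ∀ i, i < 59975 → P i := stepQ 59974 Q59974 (allL N59974 (tt N69280 F351649) (tt N58858 (iv0 F175051)) (tt N32019 F175048) (tt N48320 F326784) (tt N31992 (iv4 D112547)) (tt N68252 (iv5 F330890)) (tt N48318 F326785) (tt N32022 F175050))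
theorem Q59976 : ∀ i, i < 59976 → P i := stepQ 59975 Q59975 (allL N59975 (tt N58858 F175054) (tt N69280 F351654) (tt N32022 F175052) (tt N95415 (iv3 F408141)) (tt N31993 (iv4 D112548)) (tt N96967 D200059) (tt N81266 (iv6 F337599)) (tt N32019 F175053))
theorem Q59977 : ∀ i, i < 59977 → P i := stepQ 59976 Q59976 (allL N59976 (tt N58782 F175058) (tt N35914 F175059) (tt N32024 F175055) (tt N95418 (iv3 F408152)) (tt N81266 (iv4 F337597)) (tt N58767 F175056) (tt N31993 (iv6 D112549)) (tt N58767 F175057))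
theorem Q59978 : ∀ i, i < 59978 → P i := stepQ 59977 Q59977 (allL N59977 (tt N60759 (iv1 F176841)) (tt N31995 (iv0 D112550)) (tt N72895 F223534) (tt N35606 (iv3 F175096)) (tt N58409 F175095) (tt N94449 (iv5 F404520)) (tt N65827 (iv6 F202440)) (tt N58840 F175097))
theorem Q59979 : ∀ i, i < 59979 → P i := stepQ 59978 Q59978 (allL N59978 (tt N31995 (iv1 D112551)) (tt N60759 F176840) (tt N58840 F175101) (tt N58083 (iv3 F175061)) (tt N58410 (iv4 F175062)) (tt N95941 (iv5 F410365)) (tt N58768 (iv6 F175104)) (tt N72895 (iv7 F223536)))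
theorem Q59980 : ∀ i, i < 59980 → P i := stepQ 59979 Q59979 (allL N59979 (tt N58840 (iv1 F175067)) (tt N72895 F223535) (tt N60759 (iv2 F176835)) (tt N32000 F175063) (tt N59808 F175064) (tt N58059 F175065) (tt N32084 F175066) (tt N31995 (iv7 D112552)))
theorem Q59981 : ∀ i, i < 59981 → P i := stepQ 59980 Q59980 (allL N59980 (tt N42117 (iv1 F175071)) (tt N31996 (iv0 D112553)) (tt N58860 F175081) (tt N41320 F175070) (tt N91513 (iv4 F393437)) (tt N40179 F175069) (tt N91512 F393434) (tt N58859 (iv7 F175072)))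
theorem Q59982 : ∀ i, i < 59982 → P i := stepQ 59981 Q59981 (allL N59981 (tt N31996 (iv1 D112554)) (tt N42117 F175078) (tt N58859 (iv2 F175079)) (tt N80280 (iv3 F354805)) (tt N96806 (iv4 F414042)) (tt N62507 (iv5 F181947)) (tt N80278 F357775) (tt N58860 (iv7 F175080)))
theorem Q59983 : ∀ i, i < 59983 → P i := stepQ 59982 Q59982 (allL N59982 (tt N58860 (iv1 F175082)) (tt N58859 F175077) (tt N31996 (iv2 D112555)) (tt N58869 F175073) (tt N59805 F175074) (tt N33443 F175075) (tt N80820 (iv6 F340651)) (tt N42117 F175076))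
theorem Q59984 : ∀ i, i < 59984 → P i := stepQ 59983 Q59983 (allL N59983 (tt N80633 F340646) (tt N80844 F340648) (tt N80820 F340650) (tt N31998 F175083) (tt N59806 F175084) (tt N54078 (iv5 F340647)) (tt N31996 (iv6 D112556)) (tt N80842 (iv7 F358673)))
theorem Q59985 : ∀ i, i < 59985 → P i := stepQ 59984 Q59984 (allL N59984 (tt N43254 F323300) (tt N36549 F323301) (tt N43145 (iv2 F324686)) (tt N41932 F323302) (tt N42584 F323303) (tt N34111 F323304) (tt N31997 (iv6 D112557)) (tt N66877 F323305))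
theorem Q59986 : ∀ i, i < 59986 → P i := stepQ 59985 Q59985 (allL N59985 (tt N66028 F203128) (tt N57409 (iv0 F175123)) (tt N57376 F175119) (tt N58781 F175120) (tt N77583 (iv4 F364108)) (tt N31999 (iv5 D112563)) (tt N57311 F175121) (tt N58873 F175122))
theorem Q59987 : ∀ i, i < 59987 → P i := stepQ 59986 Q59986 (allL N59986 (tt N58869 (iv1 F175124)) (tt N32001 (iv0 D112564)) (tt N58868 (iv2 F175243)) (tt N96968 D200060) (tt N96969 D200061) (tt N94180 (iv5 F403576)) (tt N78478 (iv6 F336087)) (tt N58867 F175244))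
theorem Q59988 : ∀ i, i < 59988 → P i := stepQ 59987 Q59987 (allL N59987 (tt N32001 (iv1 D112565)) (tt N58869 F175129) (tt N58867 F175242) (tt N35504 F321411) (tt N96783 (iv4 F413913)) (tt N94181 F403584) (tt N35502 F321412) (tt N58868 (iv7 F175241)))
theorem Q59989 : ∀ i, i < 59989 → P i := stepQ 59988 Q59988 (allL N59988 (tt N58868 (iv1 F175130)) (tt N58867 F175128) (tt N32001 (iv2 D112566)) (tt N42117 F175126) (tt N72894 (iv4 F223527)) (tt N42115 (iv5 F175131)) (tt N47923 (iv6 F329028)) (tt N58869 F175127))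
theorem Q59990 : ∀ i, i < 59990 → P i := stepQ 59989 Q59989 (allL N59989 (tt N80331 (iv1 F352171)) (tt N80329 (iv0 F352159)) (tt N42115 F175132) (tt N32002 F175133) (tt N96970 D200062) (tt N32001 (iv5 D112567)) (tt N96970 F414856) (tt N46760 F325857))
theorem Q59991 : ∀ i, i < 59991 → P i := stepQ 59990 Q59990 (allL N59990 (tt N88178 F382038) (tt N88174 (iv0 F382021)) (tt N58862 F175137) (tt N96970 (iv3 F414851)) (tt N58646 (iv4 F354555)) (tt N96971 D200063) (tt N32002 (iv6 D112569)) (tt N95463 (iv7 F408276)))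
theorem Q59992 : ∀ i, i < 59992 → P i := stepQ 59991 Q59991 (allL N59991 (tt N96972 D200064) (tt N81318 F353501) (tt N58864 F175139) (tt N47925 F327746) (tt N96973 D200065) (tt N32003 (iv5 D112570)) (tt N96971 (iv6 F414859)) (tt N81328 (iv7 F353497)))
theorem Q59993 : ∀ i, i < 59993 → P i := stepQ 59992 Q59992 (allL N59992 (tt N58875 (iv1 F175145)) (tt N32006 (iv0 D112572)) (tt N47592 F330301) (tt N75597 F232051) (tt N96974 D200066) (tt N42009 F226692) (tt N46472 F330302) (tt N58874 (iv7 F355841)))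
theorem Q59994 : ∀ i, i < 59994 → P i := stepQ 59993 Q59993 (allL N59993 (tt N32006 (iv1 D112573)) (tt N58875 F175146) (tt N58874 F355842) (tt N96975 D200067) (tt N96976 D200068) (tt N42008 F330314) (tt N96977 D200069) (tt N47592 F330315))
theorem Q59995 : ∀ i, i < 59995 → P i := stepQ 59994 Q59994 (allL N59994 (tt N81447 F342088) (tt N96978 D200070) (tt N75362 (iv2 F231341)) (tt N35570 F175147) (tt N32006 (iv4 D112574)) (tt N65675 (iv5 F202226)) (tt N96979 D200071) (tt N35612 F175148))
theorem Q59996 : ∀ i, i < 59996 → P i := stepQ 59995 Q59995 (allL N59995 (tt N90396 (iv1 F389508)) (tt N90503 (iv0 F389862)) (tt N75363 (iv2 F231346)) (tt N32008 F175149) (tt N96979 (iv4 F414898)) (tt N76897 (iv5 F355873)) (tt N32006 (iv6 D112575)) (tt N82043 F358043))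
theorem Q59997 : ∀ i, i < 59997 → P i := stepQ 59996 Q59996 (allL N59996 (tt N44863 F315490) (tt N35883 F175153) (tt N58881 F175152) (tt N76897 F355874) (tt N66822 F315491) (tt N32008 (iv5 D112577)) (tt N34106 F315492) (tt N67637 (iv7 F313816)))
theorem Q59998 : ∀ i, i < 59998 → P i := stepQ 59997 Q59997 (allL N59997 (tt N74824 (iv1 F358631)) (tt N96980 D200072) (tt N58879 F175159) (tt N49632 (iv3 F321395)) (tt N96981 D200073) (tt N32009 (iv5 D112579)) (tt N42413 F347911) (tt N64251 F348460))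
theorem Q59999 : ∀ i, i < 59999 → P i := stepQ 59998 Q59998 (allL N59998 (tt N42009 (iv1 F175179)) (tt N42008 F175180) (tt N41953 F175176) (tt N32012 (iv3 D112590)) (tt N81442 (iv4 F342087)) (tt N35751 F175177) (tt N92653 (iv6 F397773)) (tt N42010 F175178))
theorem Q60000 : ∀ i, i < 60000 → P i := stepQ 59999 Q59999 (allL N59999 (tt N88093 F381783) (tt N91313 F392679) (tt N41979 F175181) (tt N92653 (iv3 F397772)) (tt N44155 F175182) (tt N82039 (iv5 F364625)) (tt N32012 (iv6 D112591)) (tt N91311 (iv7 F392667)))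
theorem Q60001 : ∀ i, i < 60001 → P i := stepQ 60000 Q60000 (allL N60000 (tt N34563 F339811) (tt N48122 F339812) (tt N48123 F347904) (tt N41987 F175184) (tt N59681 F175185) (tt N58809 F175186) (tt N32013 (iv6 D112592)) (tt N48124 F347905))
theorem Q60002 : ∀ i, i < 60002 → P i := stepQ 60001 Q60001 (allL N60001 (tt N69123 F348908) (tt N32014 (iv0 D112593)) (tt N69132 F348924) (tt N47569 F348911) (tt N88084 (iv4 F381734)) (tt N50238 (iv5 F348912)) (tt N96982 D200074) (tt N50757 F348910))
theorem Q60003 : ∀ i, i < 60003 → P i := stepQ 60002 Q60002 (allL N60002 (tt N70073 F362645) (tt N96977 (iv0 F414888)) (tt N96983 D200075) (tt N32015 (iv3 D112597)) (tt N82387 F334368) (tt N67638 F362643) (tt N58815 F175189) (tt N80033 F357790))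
theorem Q60004 : ∀ i, i < 60004 → P i := stepQ 60003 Q60003 (allL N60003 (tt N75335 F351678) (tt N79829 F351679) (tt N96984 D200076) (tt N32016 (iv3 D112599)) (tt N96738 (iv4 F413695)) (tt N67640 (iv5 F366070)) (tt N69289 (iv6 F364884)) (tt N64262 (iv7 F365776)))
theorem Q60005 : ∀ i, i < 60005 → P i := stepQ 60004 Q60004 (allL N60004 (tt N64137 (iv1 F319905)) (tt N63556 (iv0 F350918)) (tt N64259 (iv2 F350919)) (tt N69289 F364883) (tt N95287 (iv4 F407731)) (tt N64220 (iv5 F332174)) (tt N32016 (iv6 D112601)) (tt N58817 F175190))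
theorem Q60006 : ∀ i, i < 60006 → P i := stepQ 60005 Q60005 (allL N60005 (tt N37119 F326072) (tt N32017 (iv0 D112602)) (tt N37125 F359739) (tt N70072 (iv3 F363986)) (tt N96985 D200077) (tt N35776 F175191) (tt N37066 F364571) (tt N37124 F359740))
theorem Q60007 : ∀ i, i < 60007 → P i := stepQ 60006 Q60006 (allL N60006 (tt N32017 (iv1 D112603)) (tt N37119 F326073) (tt N37124 F359737) (tt N96986 D200078) (tt N96987 D200079) (tt N35777 (iv5 F175192)) (tt N96988 D200080) (tt N37125 F359738))
theorem Q60008 : ∀ i, i < 60008 → P i := stepQ 60007 Q60007 (allL N60007 (tt N96989 D200081) (tt N96990 D200082) (tt N96966 (iv2 F414828)) (tt N37107 F326079) (tt N32017 (iv4 D112604)) (tt N96991 D200083) (tt N69091 F326080) (tt N37100 F326081))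
theorem Q60009 : ∀ i, i < 60009 → P i := stepQ 60008 Q60008 (allL N60008 (tt N55881 (iv1 F175196)) (tt N32018 (iv0 D112606)) (tt N55882 (iv2 F175195)) (tt N32030 (iv3 F175198)) (tt N58465 F175194) (tt N36810 (iv5 F175199)) (tt N35638 (iv6 F175200)) (tt N35569 F175197))
theorem Q60010 : ∀ i, i < 60010 → P i := stepQ 60009 Q60009 (allL N60009 (tt N32022 (iv1 F175203)) (tt N32019 (iv0 D112607)) (tt N69280 F351653) (tt N80281 F343104) (tt N59319 F175202) (tt N69272 (iv5 F351655)) (tt N58787 (iv6 F175205)) (tt N58858 F175204))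
theorem Q60011 : ∀ i, i < 60011 → P i := stepQ 60010 Q60010 (allL N60010 (tt N79664 (iv1 F359628)) (tt N80278 (iv0 F357776)) (tt N78474 (iv2 F365775)) (tt N32019 (iv3 D112608)) (tt N95308 (iv4 F407801)) (tt N96992 D200084) (tt N58820 F175206) (tt N95415 (iv7 F408142)))
theorem Q60012 : ∀ i, i < 60012 → P i := stepQ 60011 Q60011 (allL N60011 (tt N58192 F175207) (tt N96993 D200085) (tt N68252 F359613) (tt N96992 (iv3 F414953)) (tt N67552 F365995) (tt N32019 (iv5 D112609)) (tt N79780 (iv6 F359612)) (tt N96967 (iv7 F414835)))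
theorem Q60013 : ∀ i, i < 60013 → P i := stepQ 60012 Q60012 (allL N60012 (tt N58196 F175210) (tt N71075 F219396) (tt N37836 F175208) (tt N96994 D200086) (tt N32020 (iv4 D112610)) (tt N96995 D200087) (tt N96996 D200088) (tt N37834 F175209))
theorem Q60014 : ∀ i, i < 60014 → P i := stepQ 60013 Q60013 (allL N60013 (tt N66216 F203685) (tt N37238 (iv0 F175214)) (tt N37837 F175211) (tt N93013 (iv3 F399119)) (tt N96996 (iv4 F414970)) (tt N58823 F175212) (tt N32020 (iv6 D112611)) (tt N58823 F175213))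
theorem Q60015 : ∀ i, i < 60015 → P i := stepQ 60014 Q60014 (allL N60014 (tt N95272 F407667) (tt N65821 (iv0 F202423)) (tt N60700 (iv2 F176737)) (tt N32024 F175216) (tt N93464 (iv4 F400801)) (tt N58825 F175217) (tt N32021 (iv6 D112612)) (tt N58825 F175218))
theorem Q60016 : ∀ i, i < 60016 → P i := stepQ 60015 Q60015 (allL N60015 (tt N78478 F336089) (tt N37170 F334379) (tt N68256 F336090) (tt N32022 (iv3 D112613)) (tt N93465 (iv4 F400807)) (tt N68249 F336091) (tt N78471 F336092) (tt N48320 F336093))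
theorem Q60017 : ∀ i, i < 60017 → P i := stepQ 60016 Q60016 (allL N60016 (tt N96993 (iv1 F414956)) (tt N58192 F175219) (tt N96967 (iv2 F414834)) (tt N68249 (iv3 F351675)) (tt N67553 F351674) (tt N32022 (iv5 D112614)) (tt N96997 D200089) (tt N68252 F351676))
theorem Q60018 : ∀ i, i < 60018 → P i := stepQ 60017 Q60017 (allL N60017 (tt N79723 (iv1 F361360)) (tt N63591 F337613) (tt N81266 F337596) (tt N78471 F337611) (tt N32024 F175220) (tt N81319 (iv5 F337605)) (tt N32022 (iv6 D112615)) (tt N58826 F175221))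
theorem Q60019 : ∀ i, i < 60019 → P i := stepQ 60018 Q60018 (allL N60018 (tt N71075 (iv1 F219397)) (tt N58196 F175225) (tt N37834 F175222) (tt N96998 D200090) (tt N32023 (iv4 D112616)) (tt N96999 D200091) (tt N58827 F175223) (tt N37836 F175224))
theorem Q60020 : ∀ i, i < 60020 → P i := stepQ 60019 Q60019 (allL N60019 (tt N97000 D200092) (tt N97001 D200093) (tt N65732 (iv2 F202324)) (tt N95442 (iv3 F408194)) (tt N65560 (iv4 F202023)) (tt N97002 D200094) (tt N32026 (iv6 D112617)) (tt N97003 D200095))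
theorem Q60021 : ∀ i, i < 60021 → P i := stepQ 60020 Q60020 (allL N60020 (tt N97004 D200096) (tt N97005 D200097) (tt N60774 (iv2 F176859)) (tt N65121 (iv3 F354374)) (tt N97006 D200098) (tt N32027 (iv5 D112618)) (tt N97002 (iv6 F414982)) (tt N58896 F175228))
theorem Q60022 : ∀ i, i < 60022 → P i := stepQ 60021 Q60021 (allL N60021 (tt N35623 F175322) (tt N35622 (iv0 F175323)) (tt N35625 F175319) (tt N85673 (iv3 F373468)) (tt N32030 (iv4 D112661)) (tt N97007 D200099) (tt N35652 F175320) (tt N35573 F175321))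
theorem Q60023 : ∀ i, i < 60023 → P i := stepQ 60022 Q60022 (allL N60022 (tt N35876 F175328) (tt N35873 (iv0 F175329)) (tt N32033 F175324) (tt N55696 F175325) (tt N56704 F343610) (tt N55696 F175326) (tt N32031 (iv6 D112662)) (tt N55696 F175327))
theorem Q60024 : ∀ i, i < 60024 → P i := stepQ 60023 Q60023 (allL N60023 (tt N60573 F176599) (tt N35850 F175331) (tt N56724 (iv2 F343618)) (tt N52397 F359021) (tt N56431 F328935) (tt N32032 (iv5 D112663)) (tt N56721 F343609) (tt N37758 F328936))
theorem Q60025 : ∀ i, i < 60025 → P i := stepQ 60024 Q60024 (allL N60024 (tt N60693 (iv1 F176717)) (tt N60690 (iv0 F176714)) (tt N56704 F343607) (tt N70722 F343608) (tt N32033 F175332) (tt N56703 (iv5 F343605)) (tt N32032 (iv6 D112664)) (tt N58848 F175333))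
theorem Q60026 : ∀ i, i < 60026 → P i := stepQ 60025 Q60025 (allL N60025 (tt N36769 F175337) (tt N32047 (iv0 F175338)) (tt N56799 F175334) (tt N69434 F217143) (tt N74226 (iv4 F227035)) (tt N57021 F175335) (tt N32037 (iv6 D112665)) (tt N56798 F175336))
theorem Q60027 : ∀ i, i < 60027 → P i := stepQ 60026 Q60026 (allL N60026 (tt N55259 (iv1 F363553)) (tt N73727 (iv0 F225591)) (tt N41531 (iv2 F182548)) (tt N32039 (iv3 D112667)) (tt N41090 F175340) (tt N33480 F180735) (tt N97008 D200100) (tt N41543 (iv7 F182542)))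
theorem Q60028 : ∀ i, i < 60028 → P i := stepQ 60027 Q60027 (allL N60027 (tt N97009 D200101) (tt N97010 D200102) (tt N56916 F182534) (tt N97011 D200103) (tt N32039 (iv4 D112668)) (tt N97012 D200104) (tt N97013 D200105) (tt N56913 (iv7 F182543)))
theorem Q60029 : ∀ i, i < 60029 → P i := stepQ 60028 Q60028 (allL N60028 (tt N97014 D200106) (tt N93878 F402251) (tt N56917 F182535) (tt N97008 (iv3 F415006)) (tt N97013 (iv4 F415028)) (tt N97015 D200107) (tt N32039 (iv6 D112670)) (tt N97016 D200108))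
theorem Q60030 : ∀ i, i < 60030 → P i := stepQ 60029 Q60029 (allL N60029 (tt N93319 (iv1 F400384)) (tt N93331 F400441) (tt N96112 (iv2 F411113)) (tt N32040 (iv3 D112672)) (tt N97017 D200109) (tt N56961 F180740) (tt N97018 D200110) (tt N56915 F182532))
theorem Q60031 : ∀ i, i < 60031 → P i := stepQ 60030 Q60030 (allL N60030 (tt N97010 (iv1 F415013)) (tt N97009 F415009) (tt N56913 F182544) (tt N66264 (iv3 F203868)) (tt N32040 (iv4 D112673)) (tt N97019 D200111) (tt N97020 D200112) (tt N56916 F182533))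
theorem Q60032 : ∀ i, i < 60032 → P i := stepQ 60031 Q60031 (allL N60031 (tt N93863 F402193) (tt N97021 D200113) (tt N56914 (iv2 F182552)) (tt N97018 (iv3 F415053)) (tt N97020 (iv4 F415064)) (tt N59660 (iv5 F363569)) (tt N32040 (iv6 D112675)) (tt N97022 D200114))
theorem Q60033 : ∀ i, i < 60033 → P i := stepQ 60032 Q60032 (allL N60032 (tt N97023 D200115) (tt N95279 (iv0 F407699)) (tt N32042 F175342) (tt N40400 F331809) (tt N61923 (iv4 F179707)) (tt N40398 F331810) (tt N32041 (iv6 D112676)) (tt N97024 D200116))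
theorem Q60034 : ∀ i, i < 60034 → P i := stepQ 60033 Q60033 (allL N60033 (tt N97024 (iv1 F415089)) (tt N32042 (iv0 D112677)) (tt N97023 (iv2 F415082)) (tt N97025 D200117) (tt N97026 D200118) (tt N97027 D200119) (tt N97028 D200120) (tt N95279 (iv7 F415083)))
theorem Q60035 : ∀ i, i < 60035 → P i := stepQ 60034 Q60034 (allL N60034 (tt N32042 (iv1 D112678)) (tt N97024 F415088) (tt N95279 (iv2 F407697)) (tt N89457 (iv3 F386567)) (tt N97029 D200121) (tt N97030 D200122) (tt N56803 (iv6 F363570)) (tt N97023 F415080))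
theorem Q60036 : ∀ i, i < 60036 → P i := stepQ 60035 Q60035 (allL N60035 (tt N97031 D200123) (tt N97032 D200124) (tt N40398 F364957) (tt N32043 F175344) (tt N97033 D200125) (tt N32042 (iv5 D112679)) (tt N92888 (iv6 F398655)) (tt N97034 D200126))
theorem Q60037 : ∀ i, i < 60037 → P i := stepQ 60036 Q60036 (allL N60036 (tt N95279 F407700) (tt N97023 (iv0 F415081)) (tt N97024 (iv2 F415084)) (tt N32044 F175345) (tt N61931 (iv4 F179712)) (tt N97034 (iv5 F415122)) (tt N56921 F175346) (tt N32042 (iv7 D112680)))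
theorem Q60038 : ∀ i, i < 60038 → P i := stepQ 60037 Q60037 (allL N60037 (tt N40402 F331797) (tt N32043 (iv0 D112681)) (tt N56966 (iv2 F228468)) (tt N97035 D200127) (tt N93945 (iv4 F402526)) (tt N93965 (iv5 F402629)) (tt N97036 D200128) (tt N56967 F228469))
theorem Q60039 : ∀ i, i < 60039 → P i := stepQ 60038 Q60038 (allL N60038 (tt N32043 (iv1 D112682)) (tt N40402 F331796) (tt N56967 F228467) (tt N97037 D200129) (tt N93946 (iv4 F402534)) (tt N57055 (iv5 F175348)) (tt N40367 F339988) (tt N56966 (iv7 F228466)))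
theorem Q60040 : ∀ i, i < 60040 → P i := stepQ 60039 Q60039 (allL N60039 (tt N74624 F228439) (tt N74056 (iv0 F332884)) (tt N56968 F175349) (tt N97038 D200130) (tt N32043 (iv4 D112683)) (tt N97039 D200131) (tt N92891 (iv6 F398668)) (tt N97040 D200132))
theorem Q60041 : ∀ i, i < 60041 → P i := stepQ 60040 Q60040 (allL N60040 (tt N56967 (iv1 F175353)) (tt N56966 F175354) (tt N40402 F331798) (tt N97034 (iv3 F415121)) (tt N97040 (iv4 F415158)) (tt N32044 F175351) (tt N78063 F331799) (tt N32043 (iv7 D112684)))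
theorem Q60042 : ∀ i, i < 60042 → P i := stepQ 60041 Q60041 (allL N60041 (tt N69423 (iv1 F214321)) (tt N69422 F214312) (tt N39537 F175355) (tt N32047 F175356) (tt N66369 (iv4 F204057)) (tt N39613 F175357) (tt N32045 (iv6 D112685)) (tt N37242 F175358))
theorem Q60043 : ∀ i, i < 60043 → P i := stepQ 60042 Q60042 (allL N60042 (tt N57066 F175367) (tt N56398 (iv0 F175368)) (tt N56839 F175364) (tt N71158 (iv3 F219567)) (tt N74625 (iv4 F228437)) (tt N32048 (iv5 D112687)) (tt N56361 F175365) (tt N56387 F175366))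
theorem Q60044 : ∀ i, i < 60044 → P i := stepQ 60043 Q60043 (allL N60043 (tt N67467 (iv1 F348394)) (tt N97041 D200133) (tt N97042 D200134) (tt N32050 (iv3 D112688)) (tt N59790 F175369) (tt N36774 F329196) (tt N32052 F175370) (tt N97043 D200135))
theorem Q60045 : ∀ i, i < 60045 → P i := stepQ 60044 Q60044 (allL N60044 (tt N93957 (iv1 F402592)) (tt N35668 F175372) (tt N56979 F175371) (tt N36774 F364835) (tt N97044 D200136) (tt N32050 (iv5 D112689)) (tt N36773 F364836) (tt N97045 D200137))
theorem Q60046 : ∀ i, i < 60046 → P i := stepQ 60045 Q60045 (allL N60045 (tt N41514 (iv1 F175375)) (tt N41511 F175376) (tt N56980 F175373) (tt N97043 (iv3 F415186)) (tt N32051 F175374) (tt N97045 (iv5 F415200)) (tt N65512 F201919) (tt N32050 (iv7 D112690)))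
theorem Q60047 : ∀ i, i < 60047 → P i := stepQ 60046 Q60046 (allL N60046 (tt N66584 (iv1 F204594)) (tt N32052 (iv0 D112691)) (tt N66583 (iv2 F362279)) (tt N97046 D200138) (tt N87728 F380270) (tt N32553 F329450) (tt N87727 (iv6 F380271)) (tt N66582 F362280))
theorem Q60048 : ∀ i, i < 60048 → P i := stepQ 60047 Q60047 (allL N60047 (tt N32052 (iv1 D112692)) (tt N66584 F204596) (tt N66582 (iv2 F362277)) (tt N97047 D200139) (tt N95375 (iv4 F408032)) (tt N32554 F362276) (tt N97048 D200140) (tt N66583 (iv7 F362278)))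
theorem Q60049 : ∀ i, i < 60049 → P i := stepQ 60048 Q60048 (allL N60048 (tt N66583 (iv1 F204595)) (tt N66582 F204590) (tt N32052 (iv2 D112693)) (tt N56983 F175377) (tt N59788 F175378) (tt N36700 F329195) (tt N97042 (iv6 F415184)) (tt N66584 (iv7 F204593)))
theorem Q60050 : ∀ i, i < 60050 → P i := stepQ 60049 Q60049 (allL N60049 (tt N56040 F175384) (tt N56049 F175385) (tt N40542 F324063) (tt N88654 F383732) (tt N32054 (iv4 D112696)) (tt N40535 F324064) (tt N88707 (iv6 F383925)) (tt N41343 F175383))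
theorem Q60051 : ∀ i, i < 60051 → P i := stepQ 60050 Q60050 (allL N60050 (tt N97049 D200141) (tt N97050 D200142) (tt N78956 (iv2 F251547)) (tt N32056 F175386) (tt N88707 F383926) (tt N60166 (iv5 F175835)) (tt N32054 (iv6 D112697)) (tt N97051 D200143))
theorem Q60052 : ∀ i, i < 60052 → P i := stepQ 60051 Q60051 (allL N60051 (tt N60636 F228497) (tt N60626 F228498) (tt N60633 F355850) (tt N32055 (iv3 D112698)) (tt N88654 (iv4 F383735)) (tt N32273 F175387) (tt N88708 (iv6 F383932)) (tt N56984 F175388))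
theorem Q60053 : ∀ i, i < 60053 → P i := stepQ 60052 Q60052 (allL N60052 (tt N92670 F397824) (tt N93988 (iv0 F402724)) (tt N41305 F175389) (tt N88708 (iv3 F383931)) (tt N32056 F175390) (tt N97052 D200144) (tt N32055 (iv6 D112699)) (tt N97053 D200145))
theorem Q60054 : ∀ i, i < 60054 → P i := stepQ 60053 Q60053 (allL N60053 (tt N32056 (iv1 D112700)) (tt N41308 F175391) (tt N41307 (iv2 F175393)) (tt N97054 D200146) (tt N97055 D200147) (tt N69603 (iv5 F215070)) (tt N61576 (iv6 F179057)) (tt N41306 F175392))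
theorem Q60055 : ∀ i, i < 60055 → P i := stepQ 60054 Q60054 (allL N60054 (tt N41307 (iv1 F175396)) (tt N41306 F175397) (tt N41308 F175395) (tt N97051 (iv3 F415220)) (tt N97053 (iv4 F415230)) (tt N60168 (iv5 F175841)) (tt N60836 (iv6 F177008)) (tt N32056 (iv7 D112701)))
theorem Q60056 : ∀ i, i < 60056 → P i := stepQ 60055 Q60055 (allL N60055 (tt N57519 (iv1 F175401)) (tt N32057 (iv0 D112702)) (tt N36168 (iv2 F175400)) (tt N58969 F175398) (tt N33203 F175399) (tt N74201 (iv5 F226974)) (tt N97056 D200148) (tt N58749 F175402))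
theorem Q60057 : ∀ i, i < 60057 → P i := stepQ 60056 Q60056 (allL N60056 (tt N57302 (iv1 F175405)) (tt N32058 (iv0 D112703)) (tt N57301 (iv2 F175404)) (tt N32372 F175403) (tt N95715 (iv4 F409274)) (tt N81493 F360707) (tt N80054 F336021) (tt N57300 F175406))
theorem Q60058 : ∀ i, i < 60058 → P i := stepQ 60057 Q60057 (allL N60057 (tt N57301 (iv1 F175412)) (tt N57300 F175411) (tt N32058 (iv2 D112704)) (tt N58752 F175408) (tt N59493 F175409) (tt N97057 D200149) (tt N79395 F334614) (tt N57302 F175410))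
theorem Q60059 : ∀ i, i < 60059 → P i := stepQ 60058 Q60058 (allL N60058 (tt N97058 D200150) (tt N47808 F360712) (tt N97057 (iv2 F415250)) (tt N32059 F175413) (tt N97059 D200151) (tt N32058 (iv5 D112705)) (tt N54316 F345513) (tt N57303 F175414))
theorem Q60060 : ∀ i, i < 60060 → P i := stepQ 60059 Q60059 (allL N60059 (tt N90194 F388843) (tt N66228 (iv0 F362019)) (tt N58755 F175418) (tt N54316 (iv3 F362016)) (tt N61883 (iv4 F179638)) (tt N68554 F362017) (tt N32059 (iv6 D112707)) (tt N97060 D200152))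
theorem Q60061 : ∀ i, i < 60061 → P i := stepQ 60060 Q60060 (allL N60060 (tt N79619 F348492) (tt N79618 (iv0 F346927)) (tt N79620 (iv2 F361876)) (tt N32062 F175428) (tt N97061 D200153) (tt N32061 (iv5 D112712)) (tt N97062 D200154) (tt N58764 F175429))
theorem Q60062 : ∀ i, i < 60062 → P i := stepQ 60061 Q60061 (allL N60061 (tt N97063 D200155) (tt N81105 F350640) (tt N32081 F175432) (tt N97062 (iv3 F415275)) (tt N56895 F175433) (tt N97064 D200156) (tt N32062 (iv6 D112714)) (tt N97065 D200157))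
theorem Q60063 : ∀ i, i < 60063 → P i := stepQ 60062 Q60062 (allL N60062 (tt N64254 (iv1 F332151)) (tt N64253 F364892) (tt N32083 F175434) (tt N80176 F332150) (tt N97066 D200158) (tt N32063 (iv5 D112715)) (tt N97064 (iv6 F415285)) (tt N64252 (iv7 F332149)))
theorem Q60064 : ∀ i, i < 60064 → P i := stepQ 60063 Q60063 (allL N60063 (tt N32064 (iv1 D112716)) (tt N35637 F175435) (tt N35638 (iv2 F175437)) (tt N60694 F176721) (tt N54947 (iv4 F319036)) (tt N94797 (iv5 F405982)) (tt N55882 (iv6 F175439)) (tt N35632 F175436))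
theorem Q60065 : ∀ i, i < 60065 → P i := stepQ 60064 Q60064 (allL N60064 (tt N58772 (iv1 F175440)) (tt N32065 (iv0 D112717)) (tt N58771 (iv2 F224608)) (tt N64134 (iv3 F353508)) (tt N85713 (iv4 F373624)) (tt N74279 (iv5 F227229)) (tt N64132 F340645) (tt N58770 F224609))
theorem Q60066 : ∀ i, i < 60066 → P i := stepQ 60065 Q60065 (allL N60065 (tt N32065 (iv1 D112718)) (tt N58772 F175445) (tt N58770 F224607) (tt N97067 D200159) (tt N73400 F224605) (tt N94033 F402901) (tt N97068 D200160) (tt N58771 (iv7 F224606)))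
theorem Q60067 : ∀ i, i < 60067 → P i := stepQ 60066 Q60066 (allL N60066 (tt N58771 (iv1 F175446)) (tt N58770 F175444) (tt N32065 (iv2 D112719)) (tt N48325 F324599) (tt N59713 F175442) (tt N97069 D200161) (tt N80700 (iv6 F362443)) (tt N58772 F175443))
theorem Q60068 : ∀ i, i < 60068 → P i := stepQ 60067 Q60067 (allL N60067 (tt N55982 (iv1 F227278)) (tt N95748 (iv0 F409439)) (tt N97069 (iv2 F415308)) (tt N32066 F175447) (tt N74306 (iv4 F227275)) (tt N32065 (iv5 D112720)) (tt N97070 D200162) (tt N58773 F175448))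
theorem Q60069 : ∀ i, i < 60069 → P i := stepQ 60068 Q60068 (allL N60068 (tt N91512 (iv1 F393433)) (tt N91524 (iv0 F393479)) (tt N80700 F362441) (tt N32067 F175449) (tt N59714 F175450) (tt N78587 (iv5 F344922)) (tt N32065 (iv6 D112721)) (tt N58892 (iv7 F175451)))
theorem Q60070 : ∀ i, i < 60070 → P i := stepQ 60069 Q60069 (allL N60069 (tt N97071 D200163) (tt N97072 D200164) (tt N58786 F175452) (tt N97070 (iv3 F415316)) (tt N61853 (iv4 F179617)) (tt N68290 F351642) (tt N32066 (iv6 D112722)) (tt N97073 D200165))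
theorem Q60071 : ∀ i, i < 60071 → P i := stepQ 60070 Q60070 (allL N60070 (tt N32067 (iv1 D112723)) (tt N58789 F175453) (tt N58787 F175456) (tt N69292 F348162) (tt N32296 (iv4 F175455)) (tt N69277 (iv5 F351646)) (tt N69280 F351647) (tt N32295 F175454))
theorem Q60072 : ∀ i, i < 60072 → P i := stepQ 60071 Q60071 (allL N60071 (tt N80741 (iv1 F351718)) (tt N87923 (iv0 F381148)) (tt N58788 F175458) (tt N78587 F340960) (tt N68292 (iv4 F337177)) (tt N32067 (iv5 D112724)) (tt N68290 (iv6 F351641)) (tt N58893 F175459))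
theorem Q60073 : ∀ i, i < 60073 → P i := stepQ 60072 Q60072 (allL N60072 (tt N58085 (iv1 F175461)) (tt N32068 (iv0 D112725)) (tt N58082 (iv2 F175470)) (tt N72895 (iv3 F223533)) (tt N40419 F175460) (tt N97074 D200166) (tt N95272 (iv6 F407666)) (tt N58083 F175472))
theorem Q60074 : ∀ i, i < 60074 → P i := stepQ 60073 Q60073 (allL N60073 (tt N32068 (iv1 D112726)) (tt N58085 F175462) (tt N58083 (iv2 F175466)) (tt N35607 F175465) (tt N40420 (iv4 F175463)) (tt N66536 (iv5 F204373)) (tt N57247 (iv6 F175467)) (tt N58082 (iv7 F175468)))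
theorem Q60075 : ∀ i, i < 60075 → P i := stepQ 60074 Q60074 (allL N60074 (tt N48325 F324547) (tt N32069 (iv0 D112727)) (tt N47936 F324548) (tt N80750 (iv3 F360729)) (tt N97075 D200167) (tt N97058 (iv5 F415256)) (tt N47922 F324549) (tt N48324 F324550))
theorem Q60076 : ∀ i, i < 60076 → P i := stepQ 60075 Q60075 (allL N60075 (tt N47936 F324545) (tt N48324 F324546) (tt N32069 (iv2 D112729)) (tt N58772 F175478) (tt N59415 F175479) (tt N71782 (iv5 F349930)) (tt N79519 (iv6 F346488)) (tt N48325 F324597))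
theorem Q60077 : ∀ i, i < 60077 → P i := stepQ 60076 Q60076 (allL N60076 (tt N47550 F349922) (tt N66555 (iv0 F349921)) (tt N71782 (iv2 F349929)) (tt N32070 F175484) (tt N71775 (iv4 F344624)) (tt N32069 (iv5 D112730)) (tt N67114 F346463) (tt N58785 F175485))
theorem Q60078 : ∀ i, i < 60078 → P i := stepQ 60077 Q60077 (allL N60077 (tt N79520 F349923) (tt N44928 F349924) (tt N79519 F360738) (tt N32071 F175486) (tt N59417 F175487) (tt N97076 D200168) (tt N32069 (iv6 D112731)) (tt N79518 F360737))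
theorem Q60079 : ∀ i, i < 60079 → P i := stepQ 60078 Q60078 (allL N60078 (tt N77698 (iv1 F393003)) (tt N97077 D200169) (tt N58775 F175488) (tt N67114 (iv3 F346464)) (tt N61861 (iv4 F179626)) (tt N91403 F392999) (tt N32070 (iv6 D112732)) (tt N78837 (iv7 F349890)))
theorem Q60080 : ∀ i, i < 60080 → P i := stepQ 60079 Q60079 (allL N60079 (tt N58779 (iv1 F175492)) (tt N32071 (iv0 D112733)) (tt N58776 (iv2 F175490)) (tt N64091 (iv3 F348412)) (tt N56956 F175489) (tt N97078 D200170) (tt N79723 (iv6 F348425)) (tt N58777 (iv7 F175491)))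
theorem Q60081 : ∀ i, i < 60081 → P i := stepQ 60080 Q60080 (allL N60080 (tt N32071 (iv1 D112734)) (tt N58779 F175493) (tt N58777 (iv2 F175496)) (tt N97079 D200171) (tt N56957 F175495) (tt N81283 (iv5 F366439)) (tt N58870 (iv6 F175497)) (tt N58776 F175494))
theorem Q60082 : ∀ i, i < 60082 → P i := stepQ 60081 Q60081 (allL N60081 (tt N97080 D200172) (tt N94175 (iv0 F403550)) (tt N58778 F175498) (tt N97076 (iv3 F415354)) (tt N79614 F403551) (tt N32071 (iv5 D112735)) (tt N91403 (iv6 F393002)) (tt N97081 D200173))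
theorem Q60083 : ∀ i, i < 60083 → P i := stepQ 60082 Q60082 (allL N60082 (tt N58777 (iv1 F175502)) (tt N58776 F175503) (tt N58779 F175499) (tt N79518 F360736) (tt N32073 F175500) (tt N97081 (iv5 F415382)) (tt N58789 F175501) (tt N32071 (iv7 D112736)))
theorem Q60084 : ∀ i, i < 60084 → P i := stepQ 60083 Q60083 (allL N60083 (tt N32079 F175507) (tt N58797 (iv0 F175508)) (tt N58783 F175504) (tt N79512 (iv3 F350672)) (tt N32072 (iv4 D112737)) (tt N82061 F342296) (tt N58872 F175505) (tt N58780 F175506))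
theorem Q60085 : ∀ i, i < 60085 → P i := stepQ 60084 Q60084 (allL N60084 (tt N35764 F175513) (tt N35760 (iv0 F175514)) (tt N55954 F175509) (tt N58873 F175510) (tt N93697 (iv4 F401596)) (tt N32072 (iv5 D112738)) (tt N55867 F175511) (tt N58781 F175512))
theorem Q60086 : ∀ i, i < 60086 → P i := stepQ 60085 Q60085 (allL N60085 (tt N58793 (iv1 F175515)) (tt N32074 (iv0 D112739)) (tt N58792 F373694) (tt N50706 (iv3 F360146)) (tt N88771 (iv4 F384094)) (tt N60395 (iv5 F373684)) (tt N50704 F360147) (tt N58791 (iv7 F373695)))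
theorem Q60087 : ∀ i, i < 60087 → P i := stepQ 60086 Q60086 (allL N60086 (tt N32074 (iv1 D112740)) (tt N58793 F175519) (tt N58791 (iv2 F373697)) (tt N97082 D200174) (tt N93972 (iv4 F402668)) (tt N60396 (iv5 F352468)) (tt N91526 (iv6 F393487)) (tt N58792 F373696))
theorem Q60088 : ∀ i, i < 60088 → P i := stepQ 60087 Q60087 (allL N60087 (tt N93806 F401975) (tt N97083 D200175) (tt N47222 F328393) (tt N32075 F175521) (tt N81253 F328394) (tt N32074 (iv5 D112742)) (tt N46935 F328395) (tt N58794 F175522))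
theorem Q60089 : ∀ i, i < 60089 → P i := stepQ 60088 Q60088 (allL N60088 (tt N47962 F350647) (tt N77707 (iv0 F350662)) (tt N58803 F175525) (tt N46935 F350648) (tt N61832 (iv4 F179572)) (tt N52844 F350649) (tt N32075 (iv6 D112744)) (tt N47216 F350650))
theorem Q60090 : ∀ i, i < 60090 → P i := stepQ 60089 Q60089 (allL N60089 (tt N58800 (iv1 F175528)) (tt N32077 (iv0 D112746)) (tt N58799 (iv2 F344699)) (tt N97084 D200176) (tt N52283 (iv4 F344702)) (tt N62135 F344703) (tt N52282 F344701) (tt N58798 (iv7 F344700)))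
theorem Q60091 : ∀ i, i < 60091 → P i := stepQ 60090 Q60090 (allL N60090 (tt N32077 (iv1 D112747)) (tt N58800 F175533) (tt N58798 F344694) (tt N48371 F344695) (tt N79644 F344696) (tt N62136 (iv5 F344730)) (tt N48363 F344697) (tt N58799 F344698))
theorem Q60092 : ∀ i, i < 60092 → P i := stepQ 60091 Q60091 (allL N60091 (tt N58799 (iv1 F175534)) (tt N58798 F175532) (tt N32077 (iv2 D112748)) (tt N58793 F175529) (tt N58405 F175530) (tt N86392 F376066) (tt N97085 D200177) (tt N58800 F175531))
theorem Q60093 : ∀ i, i < 60093 → P i := stepQ 60092 Q60092 (allL N60092 (tt N90640 F390369) (tt N36135 F347898) (tt N86392 (iv2 F376061)) (tt N32078 F175535) (tt N83217 F347899) (tt N32077 (iv5 D112749)) (tt N63798 F347900) (tt N58801 F175536))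
theorem Q60094 : ∀ i, i < 60094 → P i := stepQ 60093 Q60093 (allL N60093 (tt N97086 D200178) (tt N81777 F415415) (tt N97085 (iv2 F415410)) (tt N32079 F175537) (tt N58407 F175538) (tt N79611 F354190) (tt N32077 (iv6 D112750)) (tt N97087 D200179))
theorem Q60095 : ∀ i, i < 60095 → P i := stepQ 60094 Q60094 (allL N60094 (tt N58783 (iv1 F175544)) (tt N58780 F175545) (tt N58797 F175541) (tt N97087 (iv3 F415417)) (tt N58061 F175542) (tt N65850 (iv5 F202656)) (tt N58522 F175543) (tt N32079 (iv7 D112753)))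
theorem Q60096 : ∀ i, i < 60096 → P i := stepQ 60095 Q60095 (allL N60095 (tt N41208 F322546) (tt N79625 F321473) (tt N75006 F321474) (tt N32081 F175565) (tt N42327 F321475) (tt N64256 F321476) (tt N32080 (iv6 D112761)) (tt N64117 F349403))
theorem Q60097 : ∀ i, i < 60097 → P i := stepQ 60096 Q60096 (allL N60096 (tt N97065 (iv1 F415294)) (tt N32081 (iv0 D112766)) (tt N97063 F415279) (tt N81116 (iv3 F359756)) (tt N62125 F357049) (tt N97088 D200180) (tt N69056 F350848) (tt N81105 F359755))
theorem Q60098 : ∀ i, i < 60098 → P i := stepQ 60097 Q60097 (allL N60097 (tt N32081 (iv1 D112767)) (tt N97065 F415293) (tt N81105 F360257) (tt N64713 F360258) (tt N62126 F415295) (tt N64710 F360259) (tt N66915 (iv6 F360256)) (tt N97063 (iv7 F415281)))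
theorem Q60099 : ∀ i, i < 60099 → P i := stepQ 60098 Q60098 (allL N60098 (tt N97089 D200181) (tt N97090 D200182) (tt N97064 (iv2 F415283)) (tt N64256 (iv3 F366008)) (tt N97091 D200183) (tt N32081 (iv5 D112768)) (tt N32083 F175570) (tt N97092 D200184))
theorem Q60100 : ∀ i, i < 60100 → P i := stepQ 60099 Q60099 (allL N60099 (tt N81105 F350639) (tt N97063 F415282) (tt N97065 (iv2 F415288)) (tt N64117 (iv3 F349402)) (tt N61887 (iv4 F179640)) (tt N97092 (iv5 F415452)) (tt N58814 F175571) (tt N32081 (iv7 D112769)))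
theorem Q60101 : ∀ i, i < 60101 → P i := stepQ 60100 Q60100 (allL N60100 (tt N79878 (iv1 F352213)) (tt N91526 F393488) (tt N80669 (iv2 F353941)) (tt N32082 (iv3 D112770)) (tt N60510 (iv4 F176527)) (tt N79273 F332156) (tt N82043 (iv6 F358042)) (tt N58877 F175572))
theorem Q60102 : ∀ i, i < 60102 → P i := stepQ 60101 Q60101 (allL N60101 (tt N96980 (iv1 F414902)) (tt N74824 (iv0 F332157)) (tt N64251 F358628) (tt N79273 (iv3 F332155)) (tt N97093 D200185) (tt N32082 (iv5 D112771)) (tt N82069 (iv6 F353672)) (tt N58879 F175573))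
theorem Q60103 : ∀ i, i < 60103 → P i := stepQ 60102 Q60102 (allL N60102 (tt N64252 F326509) (tt N32083 (iv0 D112772)) (tt N64254 (iv2 F364890)) (tt N80765 (iv3 F334602)) (tt N97094 D200186) (tt N45773 F326510) (tt N97095 D200187) (tt N64253 F364891))
theorem Q60104 : ∀ i, i < 60104 → P i := stepQ 60103 Q60103 (allL N60103 (tt N32083 (iv1 D112773)) (tt N64252 (iv0 F332148)) (tt N64253 F364889) (tt N84114 (iv3 F368156)) (tt N97096 D200188) (tt N80104 F332138) (tt N97097 D200189) (tt N64254 (iv7 F364888)))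
theorem Q60105 : ∀ i, i < 60105 → P i := stepQ 60104 Q60104 (allL N60104 (tt N97098 D200190) (tt N97099 D200191) (tt N97066 (iv2 F415298)) (tt N74993 (iv3 F366007)) (tt N32083 (iv4 D112774)) (tt N97100 D200192) (tt N97091 (iv6 F415447)) (tt N64255 F365907))
theorem Q60106 : ∀ i, i < 60106 → P i := stepQ 60105 Q60105 (allL N60105 (tt N79653 F340636) (tt N97068 (iv0 F415306)) (tt N47927 F353488) (tt N32085 (iv3 D112776)) (tt N81174 (iv4 F340639)) (tt N76540 F353489) (tt N80842 (iv6 F358672)) (tt N58861 F175575))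
theorem Q60107 : ∀ i, i < 60107 → P i := stepQ 60106 Q60106 (allL N60106 (tt N81318 F353499) (tt N96972 F414866) (tt N81328 F353494) (tt N76540 (iv3 F353491)) (tt N97101 D200193) (tt N32085 (iv5 D112777)) (tt N81290 (iv6 F353496)) (tt N58864 F175576))
theorem Q60108 : ∀ i, i < 60108 → P i := stepQ 60107 Q60107 (allL N60107 (tt N41465 (iv1 F203880)) (tt N36029 (iv0 F175579)) (tt N41463 (iv2 F202607)) (tt N32086 (iv3 D112779)) (tt N39421 F175578) (tt N95591 (iv5 F408800)) (tt N72127 (iv6 F221396)) (tt N41464 (iv7 F202609)))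
theorem Q60109 : ∀ i, i < 60109 → P i := stepQ 60108 Q60108 (allL N60108 (tt N92350 (iv1 F396798)) (tt N58392 (iv0 F203881)) (tt N92341 (iv2 F396760)) (tt N97102 D200194) (tt N32086 (iv4 D112780)) (tt N97103 D200195) (tt N94409 (iv6 F404343)) (tt N92342 (iv7 F396766)))
theorem Q60110 : ∀ i, i < 60110 → P i := stepQ 60109 Q60109 (allL N60109 (tt N57579 F175581) (tt N35805 (iv0 F175582)) (tt N35765 F202470) (tt N95591 (iv3 F408798)) (tt N97104 D200196) (tt N32086 (iv5 D112781)) (tt N35749 F175580) (tt N35781 (iv7 F202467)))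
theorem Q60111 : ∀ i, i < 60111 → P i := stepQ 60110 Q60110 (allL N60110 (tt N58392 F175584) (tt N92350 F396797) (tt N92342 (iv2 F396764)) (tt N97105 D200197) (tt N32087 (iv4 D112784)) (tt N97106 D200198) (tt N69035 (iv6 F212499)) (tt N92341 (iv7 F396762)))
theorem Q60112 : ∀ i, i < 60112 → P i := stepQ 60111 Q60111 (allL N60111 (tt N35805 F175585) (tt N57579 (iv0 F175588)) (tt N35781 (iv2 F202471)) (tt N94798 (iv3 F405987)) (tt N95103 (iv4 F407053)) (tt N32087 (iv5 D112785)) (tt N35771 F175586) (tt N35765 F202476))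
theorem Q60113 : ∀ i, i < 60113 → P i := stepQ 60112 Q60112 (allL N60112 (tt N92340 (iv1 F396759)) (tt N32088 (iv0 D112786)) (tt N72666 (iv2 F222824)) (tt N97107 D200199) (tt N56905 F175589) (tt N97108 D200200) (tt N93851 (iv6 F402143)) (tt N92338 (iv7 F396749)))
theorem Q60114 : ∀ i, i < 60114 → P i := stepQ 60113 Q60113 (allL N60113 (tt N32088 (iv1 D112787)) (tt N92340 F396758) (tt N92338 F396751) (tt N94398 (iv3 F404267)) (tt N56946 F175590) (tt N97109 D200201) (tt N69037 (iv6 F217138)) (tt N72666 (iv7 F222825)))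
theorem Q60115 : ∀ i, i < 60115 → P i := stepQ 60114 Q60114 (allL N60114 (tt N94345 F404088) (tt N77914 (iv0 F245285)) (tt N92339 (iv2 F396753)) (tt N72730 (iv3 F223034)) (tt N97110 D200202) (tt N32088 (iv5 D112788)) (tt N97111 D200203) (tt N94343 (iv7 F404083)))
theorem Q60116 : ∀ i, i < 60116 → P i := stepQ 60115 Q60115 (allL N60115 (tt N92338 (iv1 F396748)) (tt N72666 (iv0 F222826)) (tt N92340 (iv2 F396755)) (tt N72731 (iv3 F223035)) (tt N32089 F175591) (tt N94343 (iv5 F404084)) (tt N41246 F175592) (tt N32088 (iv7 D112789)))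
theorem Q60117 : ∀ i, i < 60117 → P i := stepQ 60116 Q60116 (allL N60116 (tt N97112 D200204) (tt N97113 D200205) (tt N92337 (iv2 F396746)) (tt N72727 (iv3 F223033)) (tt N59783 F175593) (tt N97111 (iv5 F415500)) (tt N32090 (iv6 D112790)) (tt N97114 D200206))
theorem Q60118 : ∀ i, i < 60118 → P i := stepQ 60117 Q60117 (allL N60117 (tt N35650 F175694) (tt N35649 (iv0 F175695)) (tt N35652 F175691) (tt N97115 D200207) (tt N32091 (iv4 D112837)) (tt N97116 D200208) (tt N35625 F175692) (tt N35576 F175693))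
theorem Q60119 : ∀ i, i < 60119 → P i := stepQ 60118 Q60118 (allL N60118 (tt N58844 F175699) (tt N32256 (iv0 F175700)) (tt N32093 F175696) (tt N91876 (iv3 F394793)) (tt N32092 (iv4 D112838)) (tt N91875 F394791) (tt N57251 F175697) (tt N32277 F175698))
theorem Q60120 : ∀ i, i < 60120 → P i := stepQ 60119 Q60119 (allL N60119 (tt N32277 (iv1 F175703)) (tt N32093 (iv0 D112839)) (tt N58844 (iv2 F175702)) (tt N79719 (iv3 F355922)) (tt N32259 F175701) (tt N97117 D200209) (tt N58847 (iv6 F175705)) (tt N32256 F175704))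
theorem Q60121 : ∀ i, i < 60121 → P i := stepQ 60120 Q60120 (allL N60120 (tt N97118 D200210) (tt N80092 (iv0 F362942)) (tt N91875 (iv2 F394787)) (tt N81738 F365967) (tt N91881 (iv4 F394810)) (tt N32093 (iv5 D112840)) (tt N82534 F411039) (tt N58845 F175706))
theorem Q60122 : ∀ i, i < 60122 → P i := stepQ 60121 Q60121 (allL N60121 (tt N41139 F175998) (tt N33526 (iv0 F175709)) (tt N41113 F175707) (tt N95518 (iv3 F408446)) (tt N32094 (iv4 D112841)) (tt N97119 D200211) (tt N66577 (iv6 F204582)) (tt N41116 F175708))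
theorem Q60123 : ∀ i, i < 60123 → P i := stepQ 60122 Q60122 (allL N60122 (tt N60218 (iv1 F175921)) (tt N32097 (iv0 D112842)) (tt N60217 F358268) (tt N75259 (iv3 F335867)) (tt N97120 D200212) (tt N52665 F355504) (tt N97121 D200213) (tt N60216 F358253))
theorem Q60124 : ∀ i, i < 60124 → P i := stepQ 60123 Q60123 (allL N60123 (tt N32097 (iv1 D112843)) (tt N60218 F175923) (tt N60216 (iv2 F358267)) (tt N90742 (iv3 F415907)) (tt N95276 F407690) (tt N52666 F358271) (tt N55252 (iv6 F358272)) (tt N60217 (iv7 F358270)))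
theorem Q60125 : ∀ i, i < 60125 → P i := stepQ 60124 Q60124 (allL N60124 (tt N60217 (iv1 F175922)) (tt N60216 F175918) (tt N32097 (iv2 D112844)) (tt N48040 F316692) (tt N59058 F175711) (tt N52597 (iv5 F340427)) (tt N52599 F337159) (tt N60218 (iv7 F175920)))
theorem Q60126 : ∀ i, i < 60126 → P i := stepQ 60125 Q60125 (allL N60125 (tt N93724 (iv1 F401677)) (tt N93729 (iv0 F401701)) (tt N57641 F175714) (tt N52341 F360261) (tt N97122 D200215) (tt N32098 (iv5 D112846)) (tt N52338 (iv6 F350612)) (tt N97123 D200216))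
theorem Q60127 : ∀ i, i < 60127 → P i := stepQ 60126 Q60126 (allL N60126 (tt N57640 (iv1 F175718)) (tt N41170 F175719) (tt N57642 F175715) (tt N55130 F361619) (tt N32101 F175716) (tt N97123 (iv5 F415553)) (tt N41130 F175717) (tt N32098 (iv7 D112847)))
theorem Q60128 : ∀ i, i < 60128 → P i := stepQ 60127 Q60127 (allL N60127 (tt N37273 F175723) (tt N32119 F175724) (tt N37270 F175720) (tt N97124 D200217) (tt N32099 (iv4 D112848)) (tt N51629 F350601) (tt N41097 F175721) (tt N37271 F175722))
theorem Q60129 : ∀ i, i < 60129 → P i := stepQ 60128 Q60128 (allL N60128 (tt N32119 F175727) (tt N37273 F175728) (tt N37271 F175725) (tt N92648 (iv3 F397749)) (tt N32100 (iv4 D112849)) (tt N78841 (iv5 F339730)) (tt N97125 D200218) (tt N37270 F175726))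
theorem Q60130 : ∀ i, i < 60130 → P i := stepQ 60129 Q60129 (allL N60129 (tt N41115 F175732) (tt N41187 (iv0 F175733)) (tt N41188 F175729) (tt N70213 (iv3 F216982)) (tt N97125 (iv4 F415566)) (tt N41099 F175730) (tt N32100 (iv6 D112850)) (tt N41099 F175731))
theorem Q60131 : ∀ i, i < 60131 → P i := stepQ 60130 Q60130 (allL N60130 (tt N57661 (iv1 F175746)) (tt N32103 (iv0 D112855)) (tt N57658 F175747) (tt N97126 D200219) (tt N32211 F175743) (tt N97127 D200220) (tt N36196 (iv6 F175744)) (tt N57659 (iv7 F175745)))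
theorem Q60132 : ∀ i, i < 60132 → P i := stepQ 60131 Q60131 (allL N60131 (tt N32103 (iv1 D112856)) (tt N57661 F175750) (tt N57659 (iv2 F175753)) (tt N97128 D200221) (tt N32212 F175752) (tt N97129 D200222) (tt N97130 D200223) (tt N57658 F175751))
theorem Q60133 : ∀ i, i < 60133 → P i := stepQ 60132 Q60132 (allL N60132 (tt N62649 (iv1 F182926)) (tt N74136 F226850) (tt N57660 F175754) (tt N84623 (iv3 F369895)) (tt N97131 D200224) (tt N32103 (iv5 D112857)) (tt N93903 (iv6 F402356)) (tt N74134 F226848))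
theorem Q60134 : ∀ i, i < 60134 → P i := stepQ 60133 Q60133 (allL N60133 (tt N60227 (iv1 F175944)) (tt N32108 F175771) (tt N57663 F175760) (tt N97132 D200225) (tt N32104 (iv4 D112859)) (tt N97133 D200226) (tt N36203 F175761) (tt N57666 F175762))
theorem Q60135 : ∀ i, i < 60135 → P i := stepQ 60134 Q60134 (allL N60134 (tt N35692 F175766) (tt N41114 (iv0 F175767)) (tt N57664 F175763) (tt N91290 (iv3 F392580)) (tt N97134 D200227) (tt N32104 (iv5 D112860)) (tt N59076 F175764) (tt N35745 F175765))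
theorem Q60136 : ∀ i, i < 60136 → P i := stepQ 60135 Q60135 (allL N60135 (tt N32108 F175770) (tt N60227 F175943) (tt N57666 F175768) (tt N97135 D200228) (tt N32105 (iv4 D112861)) (tt N97136 D200229) (tt N95818 (iv6 F409784)) (tt N57663 F175769))
theorem Q60137 : ∀ i, i < 60137 → P i := stepQ 60136 Q60136 (allL N60136 (tt N56943 (iv1 F175772)) (tt N32107 (iv0 D112862)) (tt N56942 F352953) (tt N55286 F393362) (tt N89750 (iv4 F387420)) (tt N69494 F352959) (tt N89197 F385540) (tt N56941 F352951))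
theorem Q60138 : ∀ i, i < 60138 → P i := stepQ 60137 Q60137 (allL N60137 (tt N32107 (iv1 D112863)) (tt N56943 F175775) (tt N56941 (iv2 F352941)) (tt N97137 D200230) (tt N54788 (iv4 F352942)) (tt N69495 F352897) (tt N54786 F352940) (tt N56942 (iv7 F352952)))
theorem Q60139 : ∀ i, i < 60139 → P i := stepQ 60138 Q60138 (allL N60138 (tt N56942 (iv1 F175776)) (tt N56941 F175774) (tt N32107 (iv2 D112864)) (tt N60224 (iv3 F175930)) (tt N70842 (iv4 F218562)) (tt N69594 (iv5 F215060)) (tt N90657 (iv6 F390428)) (tt N56943 F175773))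
theorem Q60140 : ∀ i, i < 60140 → P i := stepQ 60139 Q60139 (allL N60139 (tt N54689 F352921) (tt N90670 F390464) (tt N90657 (iv2 F390427)) (tt N32108 F175777) (tt N70844 (iv4 F218570)) (tt N97138 D200231) (tt N32107 (iv6 D112865)) (tt N90655 (iv7 F390417)))
theorem Q60141 : ∀ i, i < 60141 → P i := stepQ 60140 Q60140 (allL N60140 (tt N62632 (iv1 F182884)) (tt N74074 F226776) (tt N60226 (iv2 F175938)) (tt N97138 (iv3 F415630)) (tt N97139 D200232) (tt N32108 (iv5 D112866)) (tt N69598 (iv6 F215066)) (tt N74072 F226774))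
theorem Q60142 : ∀ i, i < 60142 → P i := stepQ 60141 Q60141 (allL N60141 (tt N57666 (iv1 F175780)) (tt N57663 F175781) (tt N60227 (iv2 F175940)) (tt N90655 (iv3 F390415)) (tt N32192 F175778) (tt N74072 (iv5 F226773)) (tt N56940 F175779) (tt N32108 (iv7 D112867)))
theorem Q60143 : ∀ i, i < 60143 → P i := stepQ 60142 Q60142 (allL N60142 (tt N32111 (iv1 F175800)) (tt N32110 (iv0 D112876)) (tt N32114 (iv2 F175798)) (tt N60228 (iv3 F175946)) (tt N70225 (iv4 F217036)) (tt N60281 (iv5 F176106)) (tt N62613 F362324) (tt N32112 F175799))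
theorem Q60144 : ∀ i, i < 60144 → P i := stepQ 60143 Q60143 (allL N60143 (tt N32114 F357658) (tt N32112 F357659) (tt N32110 (iv2 D112877)) (tt N55287 F357660) (tt N57764 F357661) (tt N97140 D200233) (tt N97141 D200234) (tt N32111 (iv7 F175801)))
theorem Q60145 : ∀ i, i < 60145 → P i := stepQ 60144 Q60144 (allL N60144 (tt N91418 (iv1 F393053)) (tt N78190 (iv0 F246814)) (tt N59256 F357671) (tt N32110 (iv3 D112878)) (tt N59254 (iv4 F357670)) (tt N97142 D200235) (tt N97143 D200236) (tt N59260 (iv7 F357667)))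
theorem Q60146 : ∀ i, i < 60146 → P i := stepQ 60145 Q60145 (allL N60145 (tt N78151 F246885) (tt N94608 F405179) (tt N57764 (iv2 F357662)) (tt N97144 D200237) (tt N32110 (iv4 D112879)) (tt N97145 D200238) (tt N97146 D200239) (tt N97147 D200240))
theorem Q60147 : ∀ i, i < 60147 → P i := stepQ 60146 Q60146 (allL N60146 (tt N97148 D200241) (tt N68087 F415641) (tt N97140 (iv2 F415634)) (tt N97142 (iv3 F415648)) (tt N97149 D200242) (tt N32110 (iv5 D112880)) (tt N97150 D200243) (tt N97151 D200244))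
theorem Q60148 : ∀ i, i < 60148 → P i := stepQ 60147 Q60147 (allL N60147 (tt N97152 D200245) (tt N97135 (iv0 F415657)) (tt N97141 (iv2 F415642)) (tt N97143 (iv3 F415651)) (tt N97146 (iv4 F415668)) (tt N97153 D200246) (tt N32110 (iv6 D112881)) (tt N97154 D200247))
theorem Q60149 : ∀ i, i < 60149 → P i := stepQ 60148 Q60148 (allL N60148 (tt N32112 F357650) (tt N32114 F357651) (tt N32111 F175803) (tt N59260 F357652) (tt N97147 (iv4 F415671)) (tt N97151 (iv5 F415688)) (tt N55273 F357653) (tt N32110 (iv7 D112882)))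
theorem Q60150 : ∀ i, i < 60150 → P i := stepQ 60149 Q60149 (allL N60149 (tt N94608 (iv1 F405181)) (tt N78151 (iv0 F246303)) (tt N97147 (iv2 F415669)) (tt N57767 (iv3 F357648)) (tt N32111 (iv4 D112884)) (tt N97155 D200248) (tt N55276 F357663) (tt N57764 F357649))
theorem Q60151 : ∀ i, i < 60151 → P i := stepQ 60150 Q60150 (allL N60150 (tt N68087 (iv1 F343135)) (tt N97148 (iv0 F415677)) (tt N97151 (iv2 F415686)) (tt N48524 F357655) (tt N97156 D200249) (tt N32111 (iv5 D112885)) (tt N48522 F357656) (tt N97140 (iv7 F415636)))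
theorem Q60152 : ∀ i, i < 60152 → P i := stepQ 60151 Q60151 (allL N60151 (tt N60280 (iv1 F176109)) (tt N60279 F176104) (tt N32113 F175809) (tt N60238 (iv3 F175961)) (tt N97157 D200250) (tt N32112 (iv5 D112889)) (tt N67163 (iv6 F365013)) (tt N60281 (iv7 F176107)))
theorem Q60153 : ∀ i, i < 60153 → P i := stepQ 60152 Q60152 (allL N60152 (tt N60281 (iv1 F176108)) (tt N32113 (iv0 D112890)) (tt N60280 (iv2 F415166)) (tt N97158 D200251) (tt N67162 F340029) (tt N69440 F351307) (tt N97159 D200252) (tt N60279 F415173))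
theorem Q60154 : ∀ i, i < 60154 → P i := stepQ 60153 Q60153 (allL N60153 (tt N32113 (iv1 D112891)) (tt N60281 F176110) (tt N60279 F415172) (tt N97160 D200253) (tt N67161 F365012) (tt N69441 (iv5 F364954)) (tt N97161 D200254) (tt N60280 (iv7 F415170)))
theorem Q60155 : ∀ i, i < 60155 → P i := stepQ 60154 Q60154 (allL N60154 (tt N97162 D200255) (tt N97163 D200256) (tt N97157 (iv2 F415706)) (tt N60269 (iv3 F176084)) (tt N32113 (iv4 D112892)) (tt N60312 F331506) (tt N97164 D200257) (tt N41162 F331507))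
theorem Q60156 : ∀ i, i < 60156 → P i := stepQ 60155 Q60155 (allL N60155 (tt N67162 F331501) (tt N67161 F331502) (tt N67163 F331503) (tt N32115 F175810) (tt N97164 (iv4 F415720)) (tt N60158 F331504) (tt N32113 (iv6 D112893)) (tt N36683 F331505))
theorem Q60157 : ∀ i, i < 60157 → P i := stepQ 60156 Q60156 (allL N60156 (tt N60246 (iv1 F175977)) (tt N32115 (iv0 D112895)) (tt N60244 F365007) (tt N60264 (iv3 F340021)) (tt N69491 (iv4 F351263)) (tt N97165 D200258) (tt N97166 D200259) (tt N60245 F365002))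
theorem Q60158 : ∀ i, i < 60158 → P i := stepQ 60157 Q60157 (allL N60157 (tt N32115 (iv1 D112896)) (tt N60246 F175976) (tt N60245 (iv2 F365006)) (tt N97167 D200260) (tt N69492 F365010) (tt N97168 D200261) (tt N97169 D200262) (tt N60244 (iv7 F365009)))
theorem Q60159 : ∀ i, i < 60159 → P i := stepQ 60158 Q60158 (allL N60158 (tt N60245 (iv1 F175971)) (tt N60244 F175975) (tt N60246 (iv2 F175972)) (tt N36683 F331486) (tt N60287 (iv4 F176139)) (tt N60155 (iv5 F331504)) (tt N36680 F331487) (tt N32115 (iv7 D112897)))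
theorem Q60160 : ∀ i, i < 60160 → P i := stepQ 60159 Q60159 (allL N60159 (tt N32116 (iv1 D112898)) (tt N33511 F175813) (tt N41083 F175816) (tt N90527 (iv3 F389968)) (tt N32203 (iv4 F175815)) (tt N97170 D200263) (tt N97171 D200264) (tt N41084 F175814))
theorem Q60161 : ∀ i, i < 60161 → P i := stepQ 60160 Q60160 (allL N60160 (tt N36193 F175820) (tt N32220 (iv0 F175821)) (tt N36239 F175818) (tt N93835 (iv3 F402083)) (tt N32117 (iv4 D112900)) (tt N54414 F357176) (tt N92675 (iv6 F397846)) (tt N41086 F175819))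
theorem Q60162 : ∀ i, i < 60162 → P i := stepQ 60161 Q60161 (allL N60161 (tt N54516 (iv1 F329297)) (tt N32118 (iv0 D112901)) (tt N54513 (iv2 F352934)) (tt N97172 D200265) (tt N84386 (iv4 F377500)) (tt N51559 F352935) (tt N59911 F352936) (tt N54514 F352937))
theorem Q60163 : ∀ i, i < 60163 → P i := stepQ 60162 Q60162 (allL N60162 (tt N32118 (iv1 D112902)) (tt N54516 (iv0 F329296)) (tt N54514 F352933) (tt N59918 F352929) (tt N84387 (iv4 F377224)) (tt N68388 (iv5 F352832)) (tt N71592 F352894) (tt N54513 (iv7 F352928)))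
theorem Q60164 : ∀ i, i < 60164 → P i := stepQ 60163 Q60163 (allL N60163 (tt N71829 (iv1 F220696)) (tt N71832 (iv0 F220705)) (tt N37272 F175824) (tt N49414 F352665) (tt N79984 (iv4 F352664)) (tt N32119 (iv5 D112905)) (tt N69499 (iv6 F214537)) (tt N49688 (iv7 F352670)))
theorem Q60165 : ∀ i, i < 60165 → P i := stepQ 60164 Q60164 (allL N60164 (tt N39854 F175832) (tt N60314 F176173) (tt N37277 F175830) (tt N41061 F175831) (tt N54416 (iv4 F357165)) (tt N65924 (iv5 F202879)) (tt N32121 (iv6 D112907)) (tt N65924 (iv7 F202880)))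
theorem Q60166 : ∀ i, i < 60166 → P i := stepQ 60165 Q60165 (allL N60165 (tt N69622 (iv1 F215147)) (tt N69625 (iv0 F215176)) (tt N78282 (iv2 F247663)) (tt N69451 (iv3 F214422)) (tt N32123 (iv4 D112908)) (tt N42291 F335869) (tt N53056 F355756) (tt N45100 F175833))
theorem Q60167 : ∀ i, i < 60167 → P i := stepQ 60166 Q60166 (allL N60166 (tt N86529 (iv1 F376439)) (tt N76412 (iv0 F369359)) (tt N78283 (iv2 F247668)) (tt N32124 F175834) (tt N53056 (iv4 F355758)) (tt N60050 F175835) (tt N32123 (iv6 D112909)) (tt N97173 D200266))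
theorem Q60168 : ∀ i, i < 60168 → P i := stepQ 60167 Q60167 (allL N60167 (tt N32124 (iv1 D112910)) (tt N37299 F175836) (tt N37298 (iv2 F175838)) (tt N76424 F238575) (tt N97174 D200267) (tt N60972 (iv5 F177497)) (tt N97175 D200268) (tt N37297 F175837))
theorem Q60169 : ∀ i, i < 60169 → P i := stepQ 60168 Q60168 (allL N60168 (tt N37298 (iv1 F175842)) (tt N37297 F175843) (tt N37299 F175840) (tt N97173 (iv3 F415750)) (tt N69459 (iv4 F214432)) (tt N60054 F175841) (tt N60252 (iv6 F176002)) (tt N32124 (iv7 D112911)))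
theorem Q60170 : ∀ i, i < 60170 → P i := stepQ 60169 Q60169 (allL N60169 (tt N97176 D200269) (tt N97177 D200270) (tt N85761 (iv2 F373813)) (tt N32128 F175846) (tt N91996 (iv4 F395303)) (tt N50011 F175847) (tt N32126 (iv6 D112915)) (tt N83741 (iv7 F348098)))
theorem Q60171 : ∀ i, i < 60171 → P i := stepQ 60170 Q60170 (allL N60170 (tt N32135 F175855) (tt N32134 F175856) (tt N32138 F175852) (tt N51306 F175853) (tt N95872 (iv4 F410033)) (tt N32129 (iv5 D112919)) (tt N97178 D200271) (tt N32133 F175854))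
theorem Q60172 : ∀ i, i < 60172 → P i := stepQ 60171 Q60171 (allL N60171 (tt N87126 F378452) (tt N87467 F379435) (tt N68453 (iv2 F210559)) (tt N97179 D200272) (tt N32130 (iv4 D112920)) (tt N88098 F381795) (tt N83789 (iv6 F367081)) (tt N87471 (iv7 F379454)))
theorem Q60173 : ∀ i, i < 60173 → P i := stepQ 60172 Q60172 (allL N60172 (tt N63821 (iv1 F189739)) (tt N38153 (iv0 F175860)) (tt N32132 F175857) (tt N56444 F175858) (tt N87471 (iv4 F379455)) (tt N32131 F175859) (tt N97180 D200273) (tt N32130 (iv7 D112921)))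
theorem Q60174 : ∀ i, i < 60174 → P i := stepQ 60173 Q60173 (allL N60173 (tt N87467 (iv1 F379434)) (tt N87126 (iv0 F378450)) (tt N87471 F379456) (tt N92991 F399038) (tt N32132 (iv4 D112922)) (tt N71728 (iv5 F344961)) (tt N71729 F344962) (tt N68453 (iv7 F210560)))
theorem Q60175 : ∀ i, i < 60175 → P i := stepQ 60174 Q60174 (allL N60174 (tt N93904 (iv1 F402361)) (tt N96771 (iv0 F413852)) (tt N97180 (iv2 F415779)) (tt N92589 (iv3 F397518)) (tt N71729 (iv4 F344963)) (tt N68477 (iv5 F210617)) (tt N32132 (iv6 D112923)) (tt N83788 (iv7 F362431)))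
theorem Q60176 : ∀ i, i < 60176 → P i := stepQ 60175 Q60175 (allL N60175 (tt N32138 (iv1 F175863)) (tt N32133 (iv0 D112924)) (tt N32134 (iv2 F175862)) (tt N44490 (iv3 F175865)) (tt N88076 (iv4 F381696)) (tt N34406 F175861) (tt N88077 (iv6 F381704)) (tt N32135 F175864))
theorem Q60177 : ∀ i, i < 60177 → P i := stepQ 60176 Q60176 (allL N60176 (tt N73673 F357483) (tt N73670 (iv0 F330324)) (tt N32137 F175866) (tt N60262 (iv3 F176071)) (tt N74329 F331684) (tt N32655 F175867) (tt N32133 (iv6 D112925)) (tt N97181 D200274))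
theorem Q60178 : ∀ i, i < 60178 → P i := stepQ 60177 Q60177 (allL N60177 (tt N52026 (iv1 F356949)) (tt N58915 F175869) (tt N88076 (iv2 F381694)) (tt N97182 D200275) (tt N32134 (iv4 D112926)) (tt N51900 (iv5 F336410)) (tt N51901 F336411) (tt N79928 (iv7 F259012)))
theorem Q60179 : ∀ i, i < 60179 → P i := stepQ 60178 Q60178 (allL N60178 (tt N51589 F175871) (tt N97183 D200276) (tt N88077 (iv2 F381702)) (tt N86464 (iv3 F376297)) (tt N51901 (iv4 F364263)) (tt N41886 F175870) (tt N32134 (iv6 D112927)) (tt N86719 (iv7 F376888)))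
theorem Q60180 : ∀ i, i < 60180 → P i := stepQ 60179 Q60179 (allL N60179 (tt N58915 F175872) (tt N52026 (iv0 F356948)) (tt N79928 (iv2 F259011)) (tt N88218 (iv3 F382221)) (tt N32135 (iv4 D112928)) (tt N52001 F342258) (tt N97184 D200277) (tt N88076 (iv7 F381698)))
theorem Q60181 : ∀ i, i < 60181 → P i := stepQ 60180 Q60180 (allL N60180 (tt N92992 F399044) (tt N97185 D200278) (tt N79926 (iv2 F259002)) (tt N64205 (iv3 F193584)) (tt N97184 (iv4 F415801)) (tt N34082 F175874) (tt N32135 (iv6 D112929)) (tt N97186 D200279))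
theorem Q60182 : ∀ i, i < 60182 → P i := stepQ 60181 Q60181 (allL N60181 (tt N87736 F380287) (tt N97187 D200280) (tt N97188 D200281) (tt N32136 (iv3 D112930)) (tt N32141 F175875) (tt N82216 F351357) (tt N97189 D200282) (tt N60241 (iv7 F175968)))
theorem Q60183 : ∀ i, i < 60183 → P i := stepQ 60182 Q60182 (allL N60182 (tt N62681 F330352) (tt N62677 F330353) (tt N74329 F330354) (tt N97189 (iv3 F415816)) (tt N32137 F175876) (tt N40769 F330355) (tt N32136 (iv6 D112932)) (tt N74328 F330356))
theorem Q60184 : ∀ i, i < 60184 → P i := stepQ 60183 Q60183 (allL N60183 (tt N97181 (iv1 F415789)) (tt N32137 (iv0 D112933)) (tt N73673 F359847) (tt N86693 (iv3 F376819)) (tt N41148 F359848) (tt N38856 F359849) (tt N38859 F359850) (tt N73670 F359851))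
theorem Q60185 : ∀ i, i < 60185 → P i := stepQ 60184 Q60184 (allL N60184 (tt N32137 (iv1 D112934)) (tt N97181 F415788) (tt N73670 F330358) (tt N75557 F355698) (tt N41151 F330359) (tt N85800 (iv5 F374007)) (tt N51586 F359559) (tt N73673 F330360))
theorem Q60186 : ∀ i, i < 60186 → P i := stepQ 60185 Q60185 (allL N60185 (tt N73670 F330333) (tt N73673 F330337) (tt N97181 (iv2 F415784)) (tt N32145 F175877) (tt N74328 (iv4 F330336)) (tt N32660 F175878) (tt N97190 D200283) (tt N32137 (iv7 D112935)))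
theorem Q60187 : ∀ i, i < 60187 → P i := stepQ 60186 Q60186 (allL N60186 (tt N97191 D200284) (tt N97192 D200285) (tt N97178 (iv2 F415776)) (tt N32146 F175879) (tt N95881 (iv4 F410072)) (tt N43294 F175880) (tt N32138 (iv6 D112936)) (tt N97190 (iv7 F415823)))
theorem Q60188 : ∀ i, i < 60188 → P i := stepQ 60187 Q60187 (allL N60187 (tt N55578 (iv1 F356896)) (tt N55574 (iv0 F340322)) (tt N56643 F175881) (tt N78261 (iv3 F247448)) (tt N32139 (iv4 D112937)) (tt N91968 (iv5 F395178)) (tt N81617 F356891) (tt N56634 F175882))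
theorem Q60189 : ∀ i, i < 60189 → P i := stepQ 60188 Q60188 (allL N60188 (tt N97193 D200286) (tt N97194 D200287) (tt N56647 F175885) (tt N32140 F175886) (tt N81617 (iv4 F356894)) (tt N57259 F175887) (tt N32139 (iv6 D112938)) (tt N97195 D200288))
theorem Q60190 : ∀ i, i < 60190 → P i := stepQ 60189 Q60189 (allL N60189 (tt N60275 (iv1 F176095)) (tt N32140 (iv0 D112939)) (tt N60273 F331429) (tt N49847 (iv3 F291543)) (tt N69456 (iv4 F340442)) (tt N91043 (iv5 F391727)) (tt N49845 (iv6 F291540)) (tt N60274 (iv7 F331430)))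
theorem Q60191 : ∀ i, i < 60191 → P i := stepQ 60190 Q60190 (allL N60190 (tt N32140 (iv1 D112940)) (tt N60275 F176094) (tt N60274 (iv2 F331432)) (tt N97183 F415795) (tt N69457 F365043) (tt N92637 (iv5 F397714)) (tt N97196 D200289) (tt N60273 F331431))
theorem Q60192 : ∀ i, i < 60192 → P i := stepQ 60191 Q60191 (allL N60191 (tt N60274 (iv1 F176089)) (tt N60273 F176093) (tt N60275 (iv2 F176090)) (tt N97195 (iv3 F415836)) (tt N78267 (iv4 F247454)) (tt N57263 F175888) (tt N60278 (iv6 F176100)) (tt N32140 (iv7 D112941)))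
theorem Q60193 : ∀ i, i < 60193 → P i := stepQ 60192 Q60192 (allL N60192 (tt N60238 (iv1 F175964)) (tt N32141 (iv0 D112942)) (tt N60240 F245137) (tt N97197 D200290) (tt N88081 (iv4 F381725)) (tt N68681 F211372) (tt N88082 (iv6 F381728)) (tt N60239 F245135))
theorem Q60194 : ∀ i, i < 60194 → P i := stepQ 60193 Q60193 (allL N60193 (tt N32141 (iv1 D112943)) (tt N60238 F175963) (tt N60239 (iv2 F245136)) (tt N82174 F355491) (tt N88202 (iv4 F382155)) (tt N68682 (iv5 F245143)) (tt N97198 D200291) (tt N60240 (iv7 F245138)))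
theorem Q60195 : ∀ i, i < 60195 → P i := stepQ 60194 Q60194 (allL N60194 (tt N60240 (iv1 F175966)) (tt N60239 F175965) (tt N32141 (iv2 D112944)) (tt N60281 (iv3 F176105)) (tt N97188 (iv4 F415812)) (tt N60228 (iv5 F175947)) (tt N62611 (iv6 F365022)) (tt N60238 (iv7 F175962)))
theorem Q60196 : ∀ i, i < 60196 → P i := stepQ 60195 Q60195 (allL N60195 (tt N67158 (iv1 F365027)) (tt N67157 F365026) (tt N62611 F365023) (tt N32142 F175889) (tt N97189 (iv4 F415817)) (tt N62610 (iv5 F365024)) (tt N32141 (iv6 D112945)) (tt N67156 (iv7 F365025)))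
theorem Q60197 : ∀ i, i < 60197 → P i := stepQ 60196 Q60196 (allL N60196 (tt N36680 F331482) (tt N32142 (iv0 D112946)) (tt N60282 (iv2 F176124)) (tt N52128 F340456) (tt N32730 F176125) (tt N62615 F331456) (tt N97199 D200292) (tt N52113 (iv7 F340455)))
theorem Q60198 : ∀ i, i < 60198 → P i := stepQ 60197 Q60197 (allL N60197 (tt N32142 (iv1 D112947)) (tt N36680 F331483) (tt N52113 (iv2 F340452)) (tt N91252 (iv3 F392410)) (tt N32731 F175890) (tt N62614 (iv5 F331471)) (tt N52109 F363582) (tt N60282 (iv7 F176122)))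
theorem Q60199 : ∀ i, i < 60199 → P i := stepQ 60198 Q60198 (allL N60198 (tt N52113 (iv1 F340451)) (tt N60282 F176120) (tt N36680 F331479) (tt N67156 F331480) (tt N32145 F175891) (tt N36679 F331481) (tt N60246 (iv6 F175974)) (tt N32142 (iv7 D112949)))
theorem Q60200 : ∀ i, i < 60200 → P i := stepQ 60199 Q60199 (allL N60199 (tt N73164 (iv1 F350234)) (tt N56637 F331571) (tt N74694 F326247) (tt N32143 (iv3 D112950)) (tt N74041 F326248) (tt N40871 F326249) (tt N87555 (iv6 F379749)) (tt N60285 (iv7 F176132)))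
theorem Q60201 : ∀ i, i < 60201 → P i := stepQ 60200 Q60200 (allL N60200 (tt N61257 (iv1 F178453)) (tt N55791 F175892) (tt N60283 (iv2 F176129)) (tt N74113 F340510) (tt N32143 (iv4 D112951)) (tt N74111 (iv5 F340475)) (tt N97200 D200293) (tt N60286 (iv7 F176134)))
theorem Q60202 : ∀ i, i < 60202 → P i := stepQ 60201 Q60201 (allL N60201 (tt N92994 F399045) (tt N97201 D200294) (tt N60284 (iv2 F176131)) (tt N87555 F379750) (tt N97200 (iv4 F415862)) (tt N75738 F233582) (tt N32143 (iv6 D112952)) (tt N97202 D200295))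
theorem Q60203 : ∀ i, i < 60203 → P i := stepQ 60202 Q60202 (allL N60202 (tt N55791 F175893) (tt N61257 F178452) (tt N60286 (iv2 F176133)) (tt N49998 (iv3 F367000)) (tt N32144 (iv4 D112954)) (tt N55038 (iv5 F367004)) (tt N49997 F366999) (tt N60283 (iv7 F176130)))
theorem Q60204 : ∀ i, i < 60204 → P i := stepQ 60203 Q60203 (allL N60203 (tt N51571 F331393) (tt N49845 F331397) (tt N49329 F292576) (tt N86459 (iv3 F376279)) (tt N49997 F292577) (tt N49326 F292578) (tt N32144 (iv6 D112955)) (tt N49324 F292579))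
theorem Q60205 : ∀ i, i < 60205 → P i := stepQ 60204 Q60204 (allL N60204 (tt N60289 (iv1 F176144)) (tt N60288 F176143) (tt N60287 (iv2 F176138)) (tt N97190 (iv3 F415820)) (tt N60246 (iv4 F175973)) (tt N66788 (iv5 F205569)) (tt N32145 (iv6 D112956)) (tt N32146 F175894))
theorem Q60206 : ∀ i, i < 60206 → P i := stepQ 60205 Q60205 (allL N60205 (tt N60287 (iv1 F176142)) (tt N32146 (iv0 D112957)) (tt N60288 F364986) (tt N82883 (iv3 F364982)) (tt N60310 (iv4 F364996)) (tt N82882 F364983) (tt N97203 D200296) (tt N60289 F364984))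
theorem Q60207 : ∀ i, i < 60207 → P i := stepQ 60206 Q60206 (allL N60206 (tt N32146 (iv1 D112958)) (tt N60287 F176141) (tt N60289 (iv2 F364985)) (tt N56656 F364989) (tt N60311 (iv4 F364990)) (tt N86189 (iv5 F375325)) (tt N87153 (iv6 F378557)) (tt N60288 (iv7 F364988)))
theorem Q60208 : ∀ i, i < 60208 → P i := stepQ 60207 Q60207 (allL N60207 (tt N57358 (iv1 F175899)) (tt N32147 (iv0 D112959)) (tt N57356 (iv2 F175896)) (tt N38703 F175895) (tt N77819 (iv4 F245058)) (tt N97204 D200297) (tt N62064 (iv6 F179923)) (tt N57357 (iv7 F175897)))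
theorem Q60209 : ∀ i, i < 60209 → P i := stepQ 60208 Q60208 (allL N60208 (tt N57357 (iv1 F175903)) (tt N57356 F175904) (tt N57358 F175900) (tt N72859 (iv3 F223463)) (tt N44255 F175901) (tt N35637 F175902) (tt N66278 (iv6 F203899)) (tt N32147 (iv7 D112960)))
theorem Q60210 : ∀ i, i < 60210 → P i := stepQ 60209 Q60209 (allL N60209 (tt N32148 (iv1 D112961)) (tt N66278 F203900) (tt N57208 F175908) (tt N38708 (iv3 F175907)) (tt N39499 (iv4 F175909)) (tt N62956 (iv5 F328408)) (tt N62044 (iv6 F179868)) (tt N66277 (iv7 F203894)))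
theorem Q60211 : ∀ i, i < 60211 → P i := stepQ 60210 Q60210 (allL N60210 (tt N57208 (iv1 F175914)) (tt N66277 F203895) (tt N66278 (iv2 F203896)) (tt N55909 F175910) (tt N44264 F175911) (tt N55878 F175912) (tt N57358 F175913) (tt N32148 (iv7 D112962)))
theorem Q60212 : ∀ i, i < 60212 → P i := stepQ 60211 Q60211 (allL N60211 (tt N77920 (iv1 F245314)) (tt N32149 (iv0 D112963)) (tt N48027 F320581) (tt N97205 D200298) (tt N97206 D200299) (tt N48026 F320582) (tt N97207 D200300) (tt N77919 (iv7 F247037)))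
theorem Q60213 : ∀ i, i < 60213 → P i := stepQ 60212 Q60212 (allL N60212 (tt N32149 (iv1 D112964)) (tt N77920 F245315) (tt N77919 F247035) (tt N44421 (iv3 F245464)) (tt N91257 (iv4 F392429)) (tt N44420 F245463) (tt N91256 F392427) (tt N48027 F320439))
theorem Q60214 : ∀ i, i < 60214 → P i := stepQ 60213 Q60213 (allL N60213 (tt N48027 F320580) (tt N77919 F245308) (tt N32149 (iv2 D112965)) (tt N77923 (iv3 F245323)) (tt N32159 F175915) (tt N97208 D200301) (tt N67147 (iv6 F206781)) (tt N77920 (iv7 F245313)))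
theorem Q60215 : ∀ i, i < 60215 → P i := stepQ 60214 Q60214 (allL N60214 (tt N97209 D200302) (tt N97210 D200303) (tt N97208 (iv2 F415898)) (tt N32150 F175916) (tt N57338 F175917) (tt N32149 (iv5 D112966)) (tt N97211 D200304) (tt N61881 (iv7 F336200)))
theorem Q60216 : ∀ i, i < 60216 → P i := stepQ 60215 Q60215 (allL N60215 (tt N97212 D200305) (tt N97213 D200306) (tt N77876 (iv2 F245196)) (tt N97211 (iv3 F415915)) (tt N94240 (iv4 F403812)) (tt N67149 (iv5 F206790)) (tt N32150 (iv6 D112967)) (tt N97214 D200307))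
theorem Q60217 : ∀ i, i < 60217 → P i := stepQ 60216 Q60216 (allL N60216 (tt N60124 (iv1 F175918)) (tt N32152 (iv0 D112968)) (tt N60123 F358267) (tt N93165 (iv3 F399752)) (tt N97215 D200308) (tt N83585 F358248) (tt N91485 (iv6 F393329)) (tt N60122 (iv7 F358253)))
theorem Q60218 : ∀ i, i < 60218 → P i := stepQ 60217 Q60217 (allL N60217 (tt N32152 (iv1 D112969)) (tt N60124 F175922) (tt N60122 (iv2 F358268)) (tt N97216 D200309) (tt N93376 (iv4 F400582)) (tt N83584 F358269) (tt N97217 D200310) (tt N60123 F358270))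
theorem Q60219 : ∀ i, i < 60219 → P i := stepQ 60218 Q60218 (allL N60218 (tt N60123 (iv1 F175923)) (tt N60122 F175921) (tt N32152 (iv2 D112970)) (tt N44469 F175919) (tt N65465 (iv4 F201788)) (tt N88217 (iv5 F382218)) (tt N91566 (iv6 F393677)) (tt N60124 F175920))
theorem Q60220 : ∀ i, i < 60220 → P i := stepQ 60219 Q60219 (allL N60219 (tt N67029 F354132) (tt N74042 (iv0 F379079)) (tt N91566 (iv2 F393674)) (tt N32154 F175924) (tt N65466 (iv4 F201794)) (tt N87342 (iv5 F379070)) (tt N32152 (iv6 D112971)) (tt N74109 (iv7 F226821)))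
theorem Q60221 : ∀ i, i < 60221 → P i := stepQ 60220 Q60220 (allL N60220 (tt N86573 F376517) (tt N97174 (iv0 F415759)) (tt N44472 F175925) (tt N49220 F358275) (tt N32181 F175926) (tt N97218 D200311) (tt N32153 (iv6 D112972)) (tt N88221 (iv7 F382236)))
theorem Q60222 : ∀ i, i < 60222 → P i := stepQ 60221 Q60221 (allL N60221 (tt N97219 D200312) (tt N87412 (iv0 F381687)) (tt N44474 F175927) (tt N87342 F379071) (tt N97220 D200313) (tt N32154 (iv5 D112973)) (tt N97218 (iv6 F415945)) (tt N74110 (iv7 F226822)))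
theorem Q60223 : ∀ i, i < 60223 → P i := stepQ 60222 Q60222 (allL N60222 (tt N54932 (iv1 F331335)) (tt N32155 (iv0 D112974)) (tt N55068 (iv2 F331332)) (tt N35449 F316044) (tt N35451 F316045) (tt N68103 F355248) (tt N81792 F366321) (tt N48089 (iv7 F316688)))
theorem Q60224 : ∀ i, i < 60224 → P i := stepQ 60223 Q60223 (allL N60223 (tt N32155 (iv1 D112975)) (tt N54932 (iv0 F331334)) (tt N48089 F319050) (tt N96220 F411565) (tt N48095 F319051) (tt N68104 (iv5 F355413)) (tt N66452 F355415) (tt N55068 (iv7 F331333)))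
theorem Q60225 : ∀ i, i < 60225 → P i := stepQ 60224 Q60224 (allL N60224 (tt N55068 (iv1 F331331)) (tt N48089 F319048) (tt N32155 (iv2 D112976)) (tt N60138 F175930) (tt N57388 F175931) (tt N87657 (iv5 F380012)) (tt N55097 (iv6 F331350)) (tt N54932 (iv7 F331337)))
theorem Q60226 : ∀ i, i < 60226 → P i := stepQ 60225 Q60225 (allL N60225 (tt N55095 (iv1 F331347)) (tt N55094 F331351) (tt N55097 F331345) (tt N32156 F175936) (tt N57389 F175937) (tt N97221 D200314) (tt N32155 (iv6 D112977)) (tt N54934 (iv7 F331344)))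
theorem Q60227 : ∀ i, i < 60227 → P i := stepQ 60226 Q60226 (allL N60226 (tt N41111 F175939) (tt N97222 D200315) (tt N60140 F175938) (tt N97221 (iv3 F415955)) (tt N97223 D200316) (tt N32156 (iv5 D112978)) (tt N95744 (iv6 F409415)) (tt N97224 D200317))
theorem Q60228 : ∀ i, i < 60228 → P i := stepQ 60227 Q60227 (allL N60227 (tt N60135 (iv1 F175943)) (tt N60133 F175944) (tt N60141 F175940) (tt N54934 F331346) (tt N32213 F175941) (tt N97224 (iv5 F415970)) (tt N50346 (iv6 F331306)) (tt N32156 (iv7 D112979)))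
theorem Q60229 : ∀ i, i < 60229 → P i := stepQ 60228 Q60228 (allL N60228 (tt N32158 (iv1 F175949)) (tt N32157 (iv0 D112980)) (tt N32161 (iv2 F175945)) (tt N60142 F175946) (tt N77920 (iv4 F245312)) (tt N60194 F175947) (tt N97225 D200318) (tt N32159 F175948))
theorem Q60230 : ∀ i, i < 60230 → P i := stepQ 60229 Q60229 (allL N60229 (tt N32161 F175952) (tt N32159 F175953) (tt N32157 (iv2 D112981)) (tt N48087 F319047) (tt N44267 F175950) (tt N97226 D200319) (tt N97227 D200320) (tt N32158 (iv7 F175951)))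
theorem Q60231 : ∀ i, i < 60231 → P i := stepQ 60230 Q60230 (allL N60230 (tt N93570 F401182) (tt N91647 (iv0 F393881)) (tt N97228 D200321) (tt N32157 (iv3 D112982)) (tt N57569 F175954) (tt N83798 F367386) (tt N97229 D200322) (tt N97230 D200323))
theorem Q60232 : ∀ i, i < 60232 → P i := stepQ 60231 Q60231 (allL N60231 (tt N97231 D200324) (tt N68384 (iv0 F210036)) (tt N97226 (iv2 F415978)) (tt N83798 (iv3 F367384)) (tt N83814 F367383) (tt N32157 (iv5 D112983)) (tt N83796 (iv6 F367385)) (tt N97232 D200325))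
theorem Q60233 : ∀ i, i < 60233 → P i := stepQ 60232 Q60232 (allL N60232 (tt N97233 D200326) (tt N94450 (iv0 F439047)) (tt N97227 (iv2 F415982)) (tt N97229 (iv3 F415990)) (tt N77984 (iv4 F245476)) (tt N97234 D200328) (tt N32157 (iv6 D112984)) (tt N97235 D200329))
theorem Q60234 : ∀ i, i < 60234 → P i := stepQ 60233 Q60233 (allL N60233 (tt N32159 (iv1 F175956)) (tt N32161 F175957) (tt N32158 F175955) (tt N97230 (iv3 F415993)) (tt N77827 F245088) (tt N97232 (iv5 F416005)) (tt N91255 F392425) (tt N32157 (iv7 D112985)))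
theorem Q60235 : ∀ i, i < 60235 → P i := stepQ 60234 Q60234 (allL N60234 (tt N44411 F222245) (tt N35449 F316038) (tt N48088 F316039) (tt N32158 (iv3 D112986)) (tt N57683 (iv4 F245518)) (tt N97236 D200330) (tt N44088 F316040) (tt N48087 (iv7 F316687)))
theorem Q60236 : ∀ i, i < 60236 → P i := stepQ 60235 Q60235 (allL N60235 (tt N77983 (iv1 F245474)) (tt N77982 F245473) (tt N77827 (iv2 F245085)) (tt N44271 (iv3 F175959)) (tt N32158 (iv4 D112987)) (tt N77826 F245083) (tt N97237 D200331) (tt N44267 F175958))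
theorem Q60237 : ∀ i, i < 60237 → P i := stepQ 60236 Q60236 (allL N60236 (tt N68384 (iv1 F245465)) (tt N97231 F416002) (tt N97232 (iv2 F416003)) (tt N97236 (iv3 F416010)) (tt N88204 (iv4 F392696)) (tt N32158 (iv5 D112988)) (tt N97238 D200332) (tt N97226 (iv7 F415980)))
theorem Q60238 : ∀ i, i < 60238 → P i := stepQ 60237 Q60237 (allL N60237 (tt N93568 F401174) (tt N91632 (iv0 F393842)) (tt N91255 (iv2 F392423)) (tt N44088 F366636) (tt N97237 (iv4 F416016)) (tt N55114 F366637) (tt N32158 (iv6 D112989)) (tt N91258 (iv7 F392434)))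
theorem Q60239 : ∀ i, i < 60239 → P i := stepQ 60238 Q60238 (allL N60238 (tt N60193 (iv1 F175963)) (tt N60192 F175964) (tt N32160 F175960) (tt N60151 F175961) (tt N95472 (iv4 F408313)) (tt N32159 (iv5 D112990)) (tt N95633 (iv6 F408960)) (tt N60194 F175962))
theorem Q60240 : ∀ i, i < 60240 → P i := stepQ 60239 Q60239 (allL N60239 (tt N60194 (iv1 F175965)) (tt N32160 (iv0 D112991)) (tt N60193 F245136) (tt N96929 (iv3 F414654)) (tt N97239 D200333) (tt N68091 F245134) (tt N97240 D200334) (tt N60192 (iv7 F245135)))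
theorem Q60241 : ∀ i, i < 60241 → P i := stepQ 60240 Q60240 (allL N60240 (tt N32160 (iv1 D112992)) (tt N60194 F175966) (tt N60192 (iv2 F245137)) (tt N82122 (iv3 F355492)) (tt N87346 (iv4 F379089)) (tt N68092 (iv5 F245141)) (tt N87347 (iv6 F379091)) (tt N60193 F245138))
theorem Q60242 : ∀ i, i < 60242 → P i := stepQ 60241 Q60241 (allL N60241 (tt N97241 D200335) (tt N97242 D200336) (tt N95472 (iv2 F408311)) (tt N58919 F175967) (tt N32160 (iv4 D112993)) (tt N59721 F336225) (tt N59846 (iv6 F336224)) (tt N60181 F175968))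
theorem Q60243 : ∀ i, i < 60243 → P i := stepQ 60242 Q60242 (allL N60242 (tt N97243 D200337) (tt N97244 D200338) (tt N95633 (iv2 F408958)) (tt N32162 F175969) (tt N59846 F336223) (tt N67160 (iv5 F206805)) (tt N32160 (iv6 D112994)) (tt N95555 (iv7 F408635)))
theorem Q60244 : ∀ i, i < 60244 → P i := stepQ 60243 Q60243 (allL N60243 (tt N97245 D200339) (tt N97246 D200340) (tt N97225 (iv2 F415974)) (tt N32163 F175970) (tt N61962 (iv4 F336204)) (tt N97247 D200341) (tt N32161 (iv6 D112995)) (tt N62612 (iv7 F182830)))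
theorem Q60245 : ∀ i, i < 60245 → P i := stepQ 60244 Q60244 (allL N60244 (tt N60158 (iv1 F175975)) (tt N32162 (iv0 D112996)) (tt N60156 (iv2 F365007)) (tt N97248 D200342) (tt N61262 F365008) (tt N97156 (iv5 F415704)) (tt N97249 D200343) (tt N60157 F365009))
theorem Q60246 : ∀ i, i < 60246 → P i := stepQ 60245 Q60245 (allL N60245 (tt N32162 (iv1 D112997)) (tt N60158 F175971) (tt N60157 F365006) (tt N93112 F399536) (tt N61263 F340030) (tt N97149 (iv5 F415678)) (tt N97250 D200344) (tt N60156 (iv7 F365002)))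
theorem Q60247 : ∀ i, i < 60247 → P i := stepQ 60246 Q60246 (allL N60246 (tt N60157 (iv1 F175976)) (tt N60156 F175977) (tt N60158 F175972) (tt N95555 F408636) (tt N60204 F175973) (tt N67163 (iv5 F206812)) (tt N60198 F175974) (tt N32162 (iv7 D112998)))
theorem Q60248 : ∀ i, i < 60248 → P i := stepQ 60247 Q60247 (allL N60247 (tt N74033 (iv1 F226653)) (tt N74032 F226652) (tt N41082 F331492) (tt N97247 (iv3 F416058)) (tt N73468 F331493) (tt N32163 (iv5 D112999)) (tt N41081 F331494) (tt N62613 (iv7 F182834)))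
theorem Q60249 : ∀ i, i < 60249 → P i := stepQ 60248 Q60248 (allL N60248 (tt N97251 D200345) (tt N97252 D200346) (tt N38187 F175989) (tt N90728 (iv3 F390662)) (tt N84547 F369663) (tt N32165 (iv5 D113004)) (tt N68157 (iv6 F209201)) (tt N74104 (iv7 F226813)))
theorem Q60250 : ∀ i, i < 60250 → P i := stepQ 60249 Q60249 (allL N60249 (tt N39516 (iv1 F175995)) (tt N39425 F175996) (tt N38191 F175990) (tt N58394 F175991) (tt N41139 F175992) (tt N32259 F175993) (tt N32166 (iv6 D113005)) (tt N32258 F175994))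
theorem Q60251 : ∀ i, i < 60251 → P i := stepQ 60250 Q60250 (allL N60250 (tt N38215 (iv1 F176003)) (tt N32169 (iv0 D113006)) (tt N38213 F396351) (tt N97253 D200347) (tt N92990 (iv4 F399031)) (tt N97254 D200348) (tt N97255 D200349) (tt N38214 F396352))
theorem Q60252 : ∀ i, i < 60252 → P i := stepQ 60251 Q60251 (allL N60251 (tt N32169 (iv1 D113007)) (tt N38215 F175999) (tt N38214 F396346) (tt N78284 F396347) (tt N92991 (iv4 F399037)) (tt N92224 (iv5 F396345)) (tt N97256 D200350) (tt N38213 F396348))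
theorem Q60253 : ∀ i, i < 60253 → P i := stepQ 60252 Q60252 (allL N60252 (tt N38214 (iv1 F176004)) (tt N38213 F176005) (tt N38215 F176000) (tt N78962 (iv3 F251572)) (tt N68113 (iv4 F209155)) (tt N46074 F176001) (tt N60168 F176002) (tt N32169 (iv7 D113008)))
theorem Q60254 : ∀ i, i < 60254 → P i := stepQ 60253 Q60253 (allL N60253 (tt N49331 F292448) (tt N32170 (iv0 D113009)) (tt N49334 F292449) (tt N54855 F292450) (tt N51789 (iv4 F331366)) (tt N49320 F292451) (tt N79967 (iv6 F259110)) (tt N49330 F292452))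
theorem Q60255 : ∀ i, i < 60255 → P i := stepQ 60254 Q60254 (allL N60254 (tt N57212 (iv1 F176051)) (tt N32173 (iv0 D113014)) (tt N57210 F176054) (tt N85410 F373653) (tt N95742 (iv4 F409403)) (tt N52094 F376735) (tt N97257 D200351) (tt N57211 F176053))
theorem Q60256 : ∀ i, i < 60256 → P i := stepQ 60255 Q60255 (allL N60255 (tt N32173 (iv1 D113015)) (tt N57212 F176046) (tt N57211 F176048) (tt N97258 D200352) (tt N95743 F409411) (tt N52095 (iv5 F376745)) (tt N61110 (iv6 F178009)) (tt N57210 (iv7 F176055)))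
theorem Q60257 : ∀ i, i < 60257 → P i := stepQ 60256 Q60256 (allL N60256 (tt N57211 (iv1 F176052)) (tt N57210 F176056) (tt N57212 F176049) (tt N83594 (iv3 F348095)) (tt N94437 (iv4 F404478)) (tt N83596 F348094) (tt N49331 F292599) (tt N32173 (iv7 D113016)))
theorem Q60258 : ∀ i, i < 60258 → P i := stepQ 60257 Q60257 (allL N60257 (tt N51513 F176057) (tt N51511 F176058) (tt N76470 (iv2 F238986)) (tt N97259 D200353) (tt N32174 (iv4 D113017)) (tt N97260 D200354) (tt N97261 D200355) (tt N78517 (iv7 F360838)))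
theorem Q60259 : ∀ i, i < 60259 → P i := stepQ 60258 Q60258 (allL N60258 (tt N85410 (iv1 F372513)) (tt N85409 F372512) (tt N76471 (iv2 F238989)) (tt N63419 (iv3 F187364)) (tt N97261 (iv4 F416117)) (tt N92979 (iv5 F399003)) (tt N32174 (iv6 D113018)) (tt N49336 F344970))
theorem Q60260 : ∀ i, i < 60260 → P i := stepQ 60259 Q60259 (allL N60259 (tt N32180 (iv1 F176060)) (tt N32175 (iv0 D113019)) (tt N32176 (iv2 F176061)) (tt N46005 (iv3 F176062)) (tt N93112 (iv4 F399535)) (tt N32451 F176059) (tt N84442 F369273) (tt N32177 (iv7 F176063)))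
theorem Q60261 : ∀ i, i < 60261 → P i := stepQ 60260 Q60260 (allL N60260 (tt N32175 (iv1 D113020)) (tt N32180 F176064) (tt N32177 F176067) (tt N45227 F176068) (tt N93111 (iv4 F399529)) (tt N32615 (iv5 F176066)) (tt N97262 D200356) (tt N32176 F176065))
theorem Q60262 : ∀ i, i < 60262 → P i := stepQ 60261 Q60261 (allL N60261 (tt N86790 (iv1 F377216)) (tt N78883 (iv0 F251188)) (tt N32178 F176069) (tt N97263 D200357) (tt N32175 (iv4 D113021)) (tt N86816 (iv5 F377288)) (tt N74179 F356090) (tt N86485 (iv7 F376362)))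
theorem Q60263 : ∀ i, i < 60263 → P i := stepQ 60262 Q60262 (allL N60262 (tt N74775 F355667) (tt N49370 F355668) (tt N32179 F176070) (tt N60176 F176071) (tt N74179 (iv4 F356089)) (tt N55773 F176072) (tt N32175 (iv6 D113022)) (tt N83727 (iv7 F343307)))
theorem Q60264 : ∀ i, i < 60264 → P i := stepQ 60263 Q60263 (allL N60263 (tt N51507 F176073) (tt N51509 F176074) (tt N93112 F399537) (tt N97264 D200358) (tt N32176 (iv4 D113023)) (tt N97265 D200359) (tt N78539 F369284) (tt N93111 F399532))
theorem Q60265 : ∀ i, i < 60265 → P i := stepQ 60264 Q60264 (allL N60264 (tt N51509 F176075) (tt N51507 F176076) (tt N93111 F399531) (tt N60156 F340021) (tt N32177 (iv4 D113024)) (tt N97266 D200360) (tt N97267 D200361) (tt N93112 (iv7 F399534)))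
theorem Q60266 : ∀ i, i < 60266 → P i := stepQ 60265 Q60265 (allL N60265 (tt N97268 D200362) (tt N97269 D200363) (tt N97262 (iv2 F416121)) (tt N46003 F176077) (tt N97267 (iv4 F416140)) (tt N46000 F176078) (tt N32177 (iv6 D113025)) (tt N81452 (iv7 F365941)))
theorem Q60267 : ∀ i, i < 60267 → P i := stepQ 60266 Q60266 (allL N60266 (tt N86485 (iv1 F376364)) (tt N32178 (iv0 D113026)) (tt N86790 (iv2 F377211)) (tt N97270 D200364) (tt N56594 F176079) (tt N97271 D200365) (tt N81645 F369379) (tt N78883 (iv7 F251187)))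
theorem Q60268 : ∀ i, i < 60268 → P i := stepQ 60267 Q60267 (allL N60267 (tt N32178 (iv1 D113027)) (tt N86485 (iv0 F376363)) (tt N78883 (iv2 F251186)) (tt N51518 (iv3 F376412)) (tt N56283 F176080) (tt N51517 F376411) (tt N97272 D200366) (tt N86790 (iv7 F377214)))
theorem Q60269 : ∀ i, i < 60269 → P i := stepQ 60268 Q60268 (allL N60268 (tt N79859 F355625) (tt N86524 (iv0 F376427)) (tt N86816 F377289) (tt N32201 F331490) (tt N86494 (iv4 F376385)) (tt N32178 (iv5 D113029)) (tt N32199 F331491) (tt N86815 F377287))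
theorem Q60270 : ∀ i, i < 60270 → P i := stepQ 60269 Q60269 (allL N60269 (tt N78883 (iv1 F251189)) (tt N86790 (iv0 F377215)) (tt N86485 (iv2 F376361)) (tt N60154 F176084) (tt N32180 F176085) (tt N86815 (iv5 F377285)) (tt N90746 F390718) (tt N32178 (iv7 D113031)))
theorem Q60271 : ∀ i, i < 60271 → P i := stepQ 60270 Q60270 (allL N60270 (tt N83727 F291597) (tt N32179 (iv0 D113032)) (tt N74775 (iv2 F324136)) (tt N97273 D200367) (tt N87157 (iv4 F378564)) (tt N74774 (iv5 F343308)) (tt N83725 F291599) (tt N49370 F291600))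
theorem Q60272 : ∀ i, i < 60272 → P i := stepQ 60271 Q60271 (allL N60271 (tt N49370 F355665) (tt N74775 F355666) (tt N83727 (iv2 F343306)) (tt N32187 F176086) (tt N62659 (iv4 F355660)) (tt N55777 F176087) (tt N97274 D200368) (tt N32179 (iv7 D113033)))
theorem Q60273 : ∀ i, i < 60273 → P i := stepQ 60272 Q60272 (allL N60272 (tt N86893 F377604) (tt N68145 (iv0 F340024)) (tt N86486 (iv2 F376365)) (tt N32188 F176088) (tt N90746 (iv4 F390716)) (tt N61170 (iv5 F178154)) (tt N32180 (iv6 D113034)) (tt N97274 (iv7 F416160)))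
theorem Q60274 : ∀ i, i < 60274 → P i := stepQ 60273 Q60273 (allL N60273 (tt N60191 (iv1 F176093)) (tt N32181 (iv0 D113035)) (tt N60189 (iv2 F331429)) (tt N86904 (iv3 F377650)) (tt N68155 F365039) (tt N97275 D200369) (tt N83732 F331420) (tt N60190 (iv7 F331431)))
theorem Q60275 : ∀ i, i < 60275 → P i := stepQ 60274 Q60274 (allL N60274 (tt N32181 (iv1 D113036)) (tt N60191 F176089) (tt N60190 F331432) (tt N84443 (iv3 F369287)) (tt N68156 (iv4 F365044)) (tt N92790 (iv5 F398243)) (tt N86888 (iv6 F377591)) (tt N60189 F331430))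
theorem Q60276 : ∀ i, i < 60276 → P i := stepQ 60275 Q60275 (allL N60275 (tt N60190 (iv1 F176094)) (tt N60189 F176095) (tt N60191 F176090) (tt N56479 F176091) (tt N88221 (iv4 F382235)) (tt N60808 (iv5 F176947)) (tt N56456 F176092) (tt N32181 (iv7 D113037)))
theorem Q60277 : ∀ i, i < 60277 → P i := stepQ 60276 Q60276 (allL N60276 (tt N56456 (iv1 F176101)) (tt N32182 (iv0 D113038)) (tt N56454 (iv2 F331584)) (tt N97268 (iv3 F444735)) (tt N68110 F259103) (tt N97276 D200371) (tt N87593 F398808) (tt N56455 F331586))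
theorem Q60278 : ∀ i, i < 60278 → P i := stepQ 60277 Q60277 (allL N60277 (tt N32182 (iv1 D113039)) (tt N56456 F176096) (tt N56455 F331583) (tt N97277 D200372) (tt N68111 F258978) (tt N56190 (iv5 F176097)) (tt N97278 D200373) (tt N56454 (iv7 F331581)))
theorem Q60279 : ∀ i, i < 60279 → P i := stepQ 60278 Q60278 (allL N60278 (tt N56455 (iv1 F176102)) (tt N56454 F176103) (tt N56456 F176098) (tt N93156 (iv3 F399703)) (tt N88219 (iv4 F382226)) (tt N46059 F176099) (tt N60191 F176100) (tt N32182 (iv7 D113040)))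
theorem Q60280 : ∀ i, i < 60280 → P i := stepQ 60279 Q60279 (allL N60279 (tt N60151 (iv1 F176104)) (tt N32183 (iv0 D113041)) (tt N60153 (iv2 F415172)) (tt N97279 D200374) (tt N67143 F340022) (tt N68084 (iv5 F405865)) (tt N97280 D200375) (tt N60152 (iv7 F415173)))
theorem Q60281 : ∀ i, i < 60281 → P i := stepQ 60280 Q60280 (allL N60280 (tt N32183 (iv1 D113042)) (tt N60151 F176109) (tt N60152 F415166) (tt N97281 D200376) (tt N67144 F365011) (tt N68085 (iv5 F415163)) (tt N97282 D200377) (tt N60153 F415170))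
theorem Q60282 : ∀ i, i < 60282 → P i := stepQ 60281 Q60281 (allL N60281 (tt N60153 (iv1 F176110)) (tt N60152 F176108) (tt N32183 (iv2 D113043)) (tt N60194 F176105) (tt N60327 F331495) (tt N60142 F176106) (tt N33510 F331496) (tt N60151 F176107))
theorem Q60283 : ∀ i, i < 60283 → P i := stepQ 60282 Q60282 (allL N60282 (tt N60198 (iv1 F176120)) (tt N32184 (iv0 D113045)) (tt N60196 F176124) (tt N78537 (iv3 F332883)) (tt N55790 F176123) (tt N41103 F325796) (tt N78536 F332882) (tt N60197 F176122))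
theorem Q60284 : ∀ i, i < 60284 → P i := stepQ 60283 Q60283 (allL N60283 (tt N92209 (iv1 F396270)) (tt N32732 F176136) (tt N60200 F176129) (tt N84695 (iv3 F370259)) (tt N32185 (iv4 D113050)) (tt N72967 (iv5 F339983)) (tt N88298 (iv6 F382493)) (tt N60202 F176130))
theorem Q60285 : ∀ i, i < 60285 → P i := stepQ 60284 Q60284 (allL N60284 (tt N97278 F416185) (tt N97283 D200378) (tt N60201 F176131) (tt N66623 F331449) (tt N88298 (iv4 F382492)) (tt N66622 (iv5 F331446)) (tt N32185 (iv6 D113051)) (tt N83733 (iv7 F331434)))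
theorem Q60286 : ∀ i, i < 60286 → P i := stepQ 60285 Q60285 (allL N60285 (tt N56290 (iv1 F348088)) (tt N93161 F399733) (tt N73779 F325371) (tt N32186 (iv3 D113052)) (tt N93909 (iv4 F402386)) (tt N41533 F325372) (tt N83736 (iv6 F366041)) (tt N60199 F176132))
theorem Q60287 : ∀ i, i < 60287 → P i := stepQ 60286 Q60286 (allL N60286 (tt N32732 F176135) (tt N92209 F396269) (tt N60202 F176133) (tt N88262 (iv3 F382397)) (tt N32186 (iv4 D113053)) (tt N72969 (iv5 F339982)) (tt N83738 (iv6 F366998)) (tt N60200 F176134))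
theorem Q60288 : ∀ i, i < 60288 → P i := stepQ 60287 Q60287 (allL N60287 (tt N60206 (iv1 F176141)) (tt N60205 F176142) (tt N60204 F176138) (tt N97274 (iv3 F416159)) (tt N60158 F176139) (tt N61194 (iv5 F178306)) (tt N32187 (iv6 D113055)) (tt N32188 F176140))
theorem Q60289 : ∀ i, i < 60289 → P i := stepQ 60288 Q60288 (allL N60288 (tt N60204 (iv1 F176143)) (tt N32188 (iv0 D113056)) (tt N60205 (iv2 F364986)) (tt N56464 F364987) (tt N60345 F364995) (tt N97284 D200379) (tt N86885 F377584) (tt N60206 F364988))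
theorem Q60290 : ∀ i, i < 60290 → P i := stepQ 60289 Q60289 (allL N60289 (tt N32188 (iv1 D113057)) (tt N60204 F176144) (tt N60206 F364985) (tt N51761 (iv3 F356941)) (tt N60346 (iv4 F351258)) (tt N97285 D200380) (tt N51776 F356946) (tt N60205 (iv7 F364984)))
theorem Q60291 : ∀ i, i < 60291 → P i := stepQ 60290 Q60290 (allL N60290 (tt N66524 (iv1 F204357)) (tt N32189 (iv0 D113058)) (tt N66523 (iv2 F345460)) (tt N97286 D200381) (tt N73250 (iv4 F224203)) (tt N97287 D200382) (tt N97288 D200383) (tt N66522 (iv7 F345463)))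
theorem Q60292 : ∀ i, i < 60292 → P i := stepQ 60291 Q60291 (allL N60291 (tt N66523 (iv1 F204358)) (tt N66522 F204354) (tt N32189 (iv2 D113060)) (tt N60325 (iv3 F176209)) (tt N38392 F176145) (tt N74179 (iv5 F226903)) (tt N32198 F176146) (tt N66524 (iv7 F204356)))
theorem Q60293 : ∀ i, i < 60293 → P i := stepQ 60292 Q60292 (allL N60292 (tt N60420 F176402) (tt N55643 (iv0 F176149)) (tt N60328 (iv2 F176215)) (tt N96249 (iv3 F411736)) (tt N97289 D200384) (tt N32190 (iv5 D113061)) (tt N56837 F176147) (tt N55682 F176148))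
theorem Q60294 : ∀ i, i < 60294 → P i := stepQ 60293 Q60293 (allL N60293 (tt N32321 (iv1 F176153)) (tt N32323 F176154) (tt N60329 (iv2 F176219)) (tt N59236 F176150) (tt N94442 (iv4 F404483)) (tt N59750 F176151) (tt N32191 (iv6 D113062)) (tt N57065 F176152))
theorem Q60295 : ∀ i, i < 60295 → P i := stepQ 60294 Q60294 (allL N60294 (tt N60351 F176255) (tt N70715 (iv0 F218175)) (tt N56936 F176156) (tt N44393 F176157) (tt N96068 (iv4 F410891)) (tt N56574 F176158) (tt N32193 (iv6 D113063)) (tt N69468 (iv7 F214444)))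
theorem Q60296 : ∀ i, i < 60296 → P i := stepQ 60295 Q60295 (allL N60295 (tt N32197 (iv1 F176162)) (tt N32196 (iv0 D113064)) (tt N32200 (iv2 F176159)) (tt N60330 (iv3 F176225)) (tt N59253 F176160) (tt N92212 (iv5 F396283)) (tt N90587 F390177) (tt N32198 F176161))
theorem Q60297 : ∀ i, i < 60297 → P i := stepQ 60296 Q60296 (allL N60296 (tt N32200 F387956) (tt N32198 F387957) (tt N32196 (iv2 D113065)) (tt N97290 D200385) (tt N97291 D200386) (tt N97292 D200387) (tt N97293 D200388) (tt N32197 (iv7 F176163)))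
theorem Q60298 : ∀ i, i < 60298 → P i := stepQ 60297 Q60297 (allL N60297 (tt N96069 F410902) (tt N91358 (iv0 F392860)) (tt N97206 (iv2 F415894)) (tt N32196 (iv3 D113066)) (tt N48027 F320583) (tt N97294 D200389) (tt N97295 D200390) (tt N91257 F392432))
theorem Q60299 : ∀ i, i < 60299 → P i := stepQ 60298 Q60298 (allL N60298 (tt N97296 D200391) (tt N72247 (iv0 F222100)) (tt N97291 (iv2 F416243)) (tt N48030 F366394) (tt N32196 (iv4 D113067)) (tt N97297 D200392) (tt N97298 D200393) (tt N97299 D200394))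
theorem Q60300 : ∀ i, i < 60300 → P i := stepQ 60299 Q60299 (allL N60299 (tt N97300 D200395) (tt N68069 (iv0 F366395)) (tt N97292 (iv2 F416249)) (tt N97294 (iv3 F416256)) (tt N97301 D200396) (tt N32196 (iv5 D113068)) (tt N97302 D200397) (tt N97303 D200398))
theorem Q60301 : ∀ i, i < 60301 → P i := stepQ 60300 Q60300 (allL N60300 (tt N91092 F391893) (tt N94440 F415576) (tt N97293 (iv2 F416254)) (tt N97295 (iv3 F416259)) (tt N97298 (iv4 F416276)) (tt N97304 D200399) (tt N32196 (iv6 D113069)) (tt N89943 (iv7 F388063)))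
theorem Q60302 : ∀ i, i < 60302 → P i := stepQ 60301 Q60301 (allL N60301 (tt N32198 F387953) (tt N32200 F387954) (tt N32197 F176164) (tt N91257 (iv3 F392428)) (tt N97299 (iv4 F416280)) (tt N97303 (iv5 F416294)) (tt N89907 F387955) (tt N32196 (iv7 D113070)))
theorem Q60303 : ∀ i, i < 60303 → P i := stepQ 60302 Q60302 (allL N60302 (tt N71201 (iv1 F385122)) (tt N71202 (iv0 F385121)) (tt N97305 D200400) (tt N32197 (iv3 D113071)) (tt N91100 F391919) (tt N81612 F385119) (tt N89089 F385118) (tt N97290 (iv7 F416240)))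
theorem Q60304 : ∀ i, i < 60304 → P i := stepQ 60303 Q60303 (allL N60303 (tt N72247 F385123) (tt N97296 (iv0 F416267)) (tt N97299 (iv2 F416278)) (tt N72242 (iv3 F221776)) (tt N32197 (iv4 D113072)) (tt N78923 (iv5 F352978)) (tt N89936 (iv6 F388050)) (tt N97291 (iv7 F416244)))
theorem Q60305 : ∀ i, i < 60305 → P i := stepQ 60304 Q60304 (allL N60304 (tt N68069 (iv1 F361680)) (tt N97300 F416287) (tt N97303 (iv2 F416291)) (tt N81612 (iv3 F385120)) (tt N97306 D200401) (tt N32197 (iv5 D113073)) (tt N89937 (iv6 F388055)) (tt N97292 (iv7 F416251)))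
theorem Q60306 : ∀ i, i < 60306 → P i := stepQ 60305 Q60305 (allL N60305 (tt N92211 F396277) (tt N92210 F396271) (tt N32199 F176167) (tt N60339 (iv3 F176233)) (tt N97307 D200402) (tt N32198 (iv5 D113077)) (tt N86816 F377290) (tt N92212 (iv7 F396285)))
theorem Q60307 : ∀ i, i < 60307 → P i := stepQ 60306 Q60306 (allL N60306 (tt N92212 (iv1 F396286)) (tt N32199 (iv0 D113078)) (tt N92211 (iv2 F396276)) (tt N97308 D200403) (tt N97309 D200404) (tt N69431 F377579) (tt N97310 D200405) (tt N92210 (iv7 F396273)))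
theorem Q60308 : ∀ i, i < 60308 → P i := stepQ 60307 Q60307 (allL N60307 (tt N32199 (iv1 D113079)) (tt N92212 F396287) (tt N92210 F396279) (tt N97311 D200406) (tt N97312 D200407) (tt N69432 (iv5 F396280)) (tt N97313 D200408) (tt N92211 F396278))
theorem Q60309 : ∀ i, i < 60309 → P i := stepQ 60308 Q60308 (allL N60308 (tt N97314 D200409) (tt N97315 D200410) (tt N97307 (iv2 F416308)) (tt N69489 (iv3 F214513)) (tt N32199 (iv4 D113080)) (tt N86591 (iv5 F376551)) (tt N86494 F376386) (tt N86499 (iv7 F376393)))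
theorem Q60310 : ∀ i, i < 60310 → P i := stepQ 60309 Q60309 (allL N60309 (tt N89228 (iv1 F385684)) (tt N89225 (iv0 F385675)) (tt N90587 F390174) (tt N32202 F176169) (tt N59267 F176170) (tt N54357 (iv5 F365323)) (tt N32200 (iv6 D113082)) (tt N66525 (iv7 F204362)))
theorem Q60311 : ∀ i, i < 60311 → P i := stepQ 60310 Q60310 (allL N60310 (tt N60347 (iv1 F176242)) (tt N32201 (iv0 D113083)) (tt N60345 F364994) (tt N97316 D200411) (tt N60205 F364996) (tt N87563 F379760) (tt N97317 D200412) (tt N60346 F364992))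
theorem Q60312 : ∀ i, i < 60312 → P i := stepQ 60311 Q60311 (allL N60311 (tt N32201 (iv1 D113084)) (tt N60347 F176241) (tt N60346 (iv2 F364991)) (tt N97318 D200413) (tt N60206 F364990) (tt N97319 D200414) (tt N97320 D200415) (tt N60345 (iv7 F364993)))
theorem Q60313 : ∀ i, i < 60313 → P i := stepQ 60312 Q60312 (allL N60312 (tt N60346 (iv1 F176238)) (tt N60345 F176240) (tt N60347 (iv2 F176239)) (tt N86815 F377286) (tt N69493 (iv4 F214521)) (tt N60154 (iv5 F331506)) (tt N92209 (iv6 F396268)) (tt N32201 (iv7 D113085)))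
theorem Q60314 : ∀ i, i < 60314 → P i := stepQ 60313 Q60313 (allL N60313 (tt N97321 D200416) (tt N97322 D200417) (tt N60348 (iv2 F176243)) (tt N54357 F365321) (tt N97323 D200418) (tt N32202 (iv5 D113086)) (tt N92208 (iv6 F396260)) (tt N66526 (iv7 F204363)))
theorem Q60315 : ∀ i, i < 60315 → P i := stepQ 60314 Q60314 (allL N60314 (tt N60164 (iv1 F176173)) (tt N56932 (iv0 F176172)) (tt N60350 (iv2 F176247)) (tt N71329 (iv3 F219828)) (tt N74207 (iv4 F226991)) (tt N32203 (iv5 D113087)) (tt N38176 F176171) (tt N60349 (iv7 F176245)))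
theorem Q60316 : ∀ i, i < 60316 → P i := stepQ 60315 Q60315 (allL N60315 (tt N69468 F214446) (tt N56936 (iv0 F176175)) (tt N60351 (iv2 F176252)) (tt N70580 (iv3 F217887)) (tt N97171 (iv4 F415736)) (tt N38487 F176174) (tt N32203 (iv6 D113088)) (tt N70715 (iv7 F218174)))
theorem Q60317 : ∀ i, i < 60317 → P i := stepQ 60316 Q60316 (allL N60316 (tt N94233 F403793) (tt N32204 (iv0 D113089)) (tt N57569 (iv2 F176177)) (tt N57672 F176176) (tt N97228 (iv4 F415986)) (tt N57568 F176179) (tt N97324 D200419) (tt N57684 (iv7 F176178)))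
theorem Q60318 : ∀ i, i < 60318 → P i := stepQ 60317 Q60317 (allL N60317 (tt N32204 (iv1 D113090)) (tt N94233 F403794) (tt N57684 F176182) (tt N36063 (iv3 F176181)) (tt N97230 (iv4 F415994)) (tt N36062 F176183) (tt N76053 F366547) (tt N57569 F176180))
theorem Q60319 : ∀ i, i < 60319 → P i := stepQ 60318 Q60318 (allL N60318 (tt N57569 (iv1 F176187)) (tt N57684 (iv0 F176186)) (tt N32204 (iv2 D113091)) (tt N59280 F176184) (tt N32216 F176185) (tt N94187 (iv5 F403616)) (tt N71066 (iv6 F219377)) (tt N94233 (iv7 F403791)))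
theorem Q60320 : ∀ i, i < 60320 → P i := stepQ 60319 Q60319 (allL N60319 (tt N57684 (iv1 F176190)) (tt N57569 F176191) (tt N94233 (iv2 F403790)) (tt N32206 F176188) (tt N32218 F176189) (tt N94186 (iv5 F403609)) (tt N97325 D200420) (tt N32204 (iv7 D113092)))
theorem Q60321 : ∀ i, i < 60321 → P i := stepQ 60320 Q60320 (allL N60320 (tt N92353 (iv1 F404256)) (tt N97326 D200421) (tt N59282 F176192) (tt N94231 (iv3 F403787)) (tt N71564 (iv4 F220223)) (tt N71068 (iv5 F219383)) (tt N32205 (iv6 D113093)) (tt N97327 D200422))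
theorem Q60322 : ∀ i, i < 60322 → P i := stepQ 60321 Q60321 (allL N60321 (tt N57503 (iv1 F176196)) (tt N57501 F176197) (tt N57541 F176193) (tt N94186 (iv3 F403610)) (tt N44197 F176194) (tt N32206 F176195) (tt N97328 D200423) (tt N32205 (iv7 D113094)))
theorem Q60323 : ∀ i, i < 60323 → P i := stepQ 60322 Q60322 (allL N60322 (tt N57631 (iv1 F176201)) (tt N57634 (iv0 F176202)) (tt N57565 F176198) (tt N97325 (iv3 F416353)) (tt N32207 F176199) (tt N97329 D200424) (tt N32206 (iv6 D113095)) (tt N58391 F176200))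
theorem Q60324 : ∀ i, i < 60324 → P i := stepQ 60323 Q60323 (allL N60323 (tt N32208 (iv1 D113096)) (tt N39150 F176203) (tt N39149 F176206) (tt N33119 (iv3 F176207)) (tt N59122 (iv4 F176208)) (tt N56730 (iv5 F176205)) (tt N93090 (iv6 F399437)) (tt N39148 F176204))
theorem Q60325 : ∀ i, i < 60325 → P i := stepQ 60324 Q60324 (allL N60324 (tt N32209 (iv1 D113098)) (tt N74018 F226620) (tt N74017 (iv2 F340504)) (tt N54979 F347199) (tt N55991 F361837) (tt N74124 (iv5 F392705)) (tt N54974 (iv6 F347198)) (tt N55988 (iv7 F347192)))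
theorem Q60326 : ∀ i, i < 60326 → P i := stepQ 60325 Q60325 (allL N60325 (tt N55988 (iv1 F347191)) (tt N74017 F226615) (tt N32209 (iv2 D113099)) (tt N60291 F176209) (tt N71066 (iv4 F219376)) (tt N88272 F382418) (tt N32216 F176210) (tt N74018 (iv7 F226617)))
theorem Q60327 : ∀ i, i < 60327 → P i := stepQ 60326 Q60326 (allL N60326 (tt N88262 (iv1 F382400)) (tt N88273 F382425) (tt N88272 (iv2 F382419)) (tt N32210 F176211) (tt N74092 (iv4 F365087)) (tt N32209 (iv5 D113100)) (tt N97330 D200425) (tt N41159 F176212))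
theorem Q60328 : ∀ i, i < 60328 → P i := stepQ 60327 Q60327 (allL N60327 (tt N97163 (iv1 F415717)) (tt N97162 F415716) (tt N41162 F176213) (tt N97330 (iv3 F416375)) (tt N60281 (iv4 F331495)) (tt N32219 F176214) (tt N32210 (iv6 D113101)) (tt N97157 (iv7 F415709)))
theorem Q60329 : ∀ i, i < 60329 → P i := stepQ 60328 Q60328 (allL N60328 (tt N92035 F395465) (tt N32324 (iv0 F176218)) (tt N60292 F176215) (tt N39936 F176216) (tt N80412 F362938) (tt N32211 (iv5 D113102)) (tt N78145 (iv6 F246274)) (tt N32393 F176217))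
theorem Q60330 : ∀ i, i < 60330 → P i := stepQ 60329 Q60329 (allL N60329 (tt N55641 (iv1 F176222)) (tt N39855 F176223) (tt N60293 F176219) (tt N77918 (iv3 F245302)) (tt N97130 (iv4 F415593)) (tt N39526 F176220) (tt N32212 (iv6 D113103)) (tt N39667 F176221))
theorem Q60331 : ∀ i, i < 60331 → P i := stepQ 60330 Q60330 (allL N60330 (tt N32215 (iv1 F176227)) (tt N32214 (iv0 D113104)) (tt N32218 (iv2 F176224)) (tt N60295 F176225) (tt N94233 (iv4 F403792)) (tt N61261 (iv5 F178457)) (tt N73664 (iv6 F355194)) (tt N32216 F176226))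
theorem Q60332 : ∀ i, i < 60332 → P i := stepQ 60331 Q60331 (allL N60331 (tt N32218 F360551) (tt N32216 F360552) (tt N32214 (iv2 D113105)) (tt N55010 F355246) (tt N94199 (iv4 F403671)) (tt N97331 D200426) (tt N97332 D200427) (tt N32215 (iv7 F176228)))
theorem Q60333 : ∀ i, i < 60333 → P i := stepQ 60332 Q60332 (allL N60332 (tt N74177 (iv1 F339997)) (tt N97333 D200428) (tt N70228 F360560) (tt N32214 (iv3 D113106)) (tt N70226 (iv4 F360559)) (tt N97334 D200429) (tt N97335 D200430) (tt N70233 (iv7 F360556)))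
theorem Q60334 : ∀ i, i < 60334 → P i := stepQ 60333 Q60333 (allL N60333 (tt N97336 D200431) (tt N94331 (iv0 F404067)) (tt N94199 (iv2 F403670)) (tt N72351 F222285) (tt N32214 (iv4 D113107)) (tt N72350 (iv5 F222284)) (tt N97337 D200432) (tt N94362 (iv7 F404131)))
theorem Q60335 : ∀ i, i < 60335 → P i := stepQ 60334 Q60334 (allL N60334 (tt N97338 D200433) (tt N68375 (iv0 F245705)) (tt N97331 (iv2 F416378)) (tt N97334 (iv3 F416395)) (tt N97339 D200434) (tt N32214 (iv5 D113108)) (tt N97340 D200435) (tt N97341 D200436))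
theorem Q60336 : ∀ i, i < 60336 → P i := stepQ 60335 Q60335 (allL N60335 (tt N97342 D200437) (tt N97128 F416386) (tt N97332 (iv2 F416383)) (tt N97335 (iv3 F416403)) (tt N97337 (iv4 F416410)) (tt N97343 D200438) (tt N32214 (iv6 D113109)) (tt N97344 D200439))
theorem Q60337 : ∀ i, i < 60337 → P i := stepQ 60336 Q60336 (allL N60336 (tt N32216 F360553) (tt N32218 F360554) (tt N32215 F176229) (tt N70233 F360555) (tt N94362 (iv4 F404132)) (tt N97341 (iv5 F416425)) (tt N54996 F355180) (tt N32214 (iv7 D113110)))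
theorem Q60338 : ∀ i, i < 60338 → P i := stepQ 60337 Q60337 (allL N60337 (tt N94331 (iv1 F404068)) (tt N97336 F416408) (tt N94362 (iv2 F404134)) (tt N94201 (iv3 F403675)) (tt N32215 (iv4 D113112)) (tt N94361 F404135) (tt N54999 F355181) (tt N94199 F403672))
theorem Q60339 : ∀ i, i < 60339 → P i := stepQ 60338 Q60338 (allL N60338 (tt N68375 F355196) (tt N97338 F416427) (tt N97341 (iv2 F416423)) (tt N51773 (iv3 F355183)) (tt N97345 D200440) (tt N32215 (iv5 D113113)) (tt N51771 F355182) (tt N97331 (iv7 F416380)))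
theorem Q60340 : ∀ i, i < 60340 → P i := stepQ 60339 Q60339 (allL N60339 (tt N61260 (iv1 F178460)) (tt N61259 F178456) (tt N32217 F176232) (tt N60305 F176233) (tt N97346 D200441) (tt N32216 (iv5 D113117)) (tt N97347 D200442) (tt N61261 (iv7 F178458)))
theorem Q60341 : ∀ i, i < 60341 → P i := stepQ 60340 Q60340 (allL N60340 (tt N61261 (iv1 F178459)) (tt N32217 (iv0 D113118)) (tt N61260 F379514) (tt N74176 F379762) (tt N95868 (iv4 F410019)) (tt N68077 (iv5 F379515)) (tt N87467 (iv6 F379516)) (tt N61259 F379513))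
theorem Q60342 : ∀ i, i < 60342 → P i := stepQ 60341 Q60341 (allL N60341 (tt N32217 (iv1 D113119)) (tt N61261 F178461) (tt N61259 (iv2 F379512)) (tt N87485 (iv3 F379518)) (tt N95870 (iv4 F410023)) (tt N68078 (iv5 F361834)) (tt N97348 D200443) (tt N61260 F379504))
theorem Q60343 : ∀ i, i < 60343 → P i := stepQ 60342 Q60342 (allL N60342 (tt N63828 (iv1 F355202)) (tt N97349 D200444) (tt N97346 (iv2 F416438)) (tt N43074 F176234) (tt N32217 (iv4 D113120)) (tt N97350 D200445) (tt N91200 (iv6 F392238)) (tt N43072 F176235))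
theorem Q60344 : ∀ i, i < 60344 → P i := stepQ 60343 Q60343 (allL N60343 (tt N97351 D200446) (tt N97352 D200447) (tt N97347 (iv2 F416445)) (tt N32219 F176236) (tt N91200 F392240) (tt N97330 (iv5 F416376)) (tt N32217 (iv6 D113121)) (tt N73668 (iv7 F355225)))
theorem Q60345 : ∀ i, i < 60345 → P i := stepQ 60344 Q60344 (allL N60344 (tt N97353 D200448) (tt N97354 D200449) (tt N73664 F355195) (tt N32220 F176237) (tt N97325 (iv4 F416354)) (tt N62488 (iv5 F355199)) (tt N32218 (iv6 D113122)) (tt N74019 (iv7 F226622)))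
theorem Q60346 : ∀ i, i < 60346 → P i := stepQ 60345 Q60345 (allL N60345 (tt N60312 (iv1 F176240)) (tt N32219 (iv0 D113123)) (tt N60310 (iv2 F364994)) (tt N87605 (iv3 F392223)) (tt N60288 (iv4 F364995)) (tt N87603 F392221) (tt N97355 D200450) (tt N60311 F364993))
theorem Q60347 : ∀ i, i < 60347 → P i := stepQ 60346 Q60346 (allL N60346 (tt N32219 (iv1 D113124)) (tt N60312 F176238) (tt N60311 F364991) (tt N87097 (iv3 F378362)) (tt N60289 F351258) (tt N97356 D200451) (tt N87113 (iv6 F378383)) (tt N60310 (iv7 F364992)))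
theorem Q60348 : ∀ i, i < 60348 → P i := stepQ 60347 Q60347 (allL N60347 (tt N60311 (iv1 F176241)) (tt N60310 F176242) (tt N60312 F176239) (tt N73668 F355226) (tt N61258 (iv4 F178454)) (tt N97157 (iv5 F415707)) (tt N61257 (iv6 F178451)) (tt N32219 (iv7 D113125)))
theorem Q60349 : ∀ i, i < 60349 → P i := stepQ 60348 Q60348 (allL N60348 (tt N97357 D200452) (tt N97358 D200453) (tt N60313 F176243) (tt N62488 F355200) (tt N97359 D200454) (tt N32220 (iv5 D113126)) (tt N61256 (iv6 F178449)) (tt N74020 (iv7 F226624)))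
theorem Q60350 : ∀ i, i < 60350 → P i := stepQ 60349 Q60349 (allL N60349 (tt N65924 F202882) (tt N37277 (iv0 F176246)) (tt N39854 F176244) (tt N71330 (iv3 F219833)) (tt N97360 D200455) (tt N32221 (iv5 D113127)) (tt N60413 (iv6 F176371)) (tt N60314 F176245))
theorem Q60351 : ∀ i, i < 60351 → P i := stepQ 60350 Q60350 (allL N60350 (tt N37277 F176250) (tt N65924 (iv0 F202881)) (tt N60314 F176247) (tt N39211 F176248) (tt N54400 F357411) (tt N32222 (iv5 D113128)) (tt N37252 F176251) (tt N39854 F176249))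
theorem Q60352 : ∀ i, i < 60352 → P i := stepQ 60351 Q60351 (allL N60351 (tt N93090 (iv1 F399439)) (tt N60294 (iv0 F176255)) (tt N60315 F176252) (tt N38848 F176253) (tt N74029 (iv4 F226650)) (tt N38847 F176254) (tt N32222 (iv6 D113129)) (tt N60543 (iv7 F176557)))
theorem Q60353 : ∀ i, i < 60353 → P i := stepQ 60352 Q60352 (allL N60352 (tt N32223 (iv1 D113131)) (tt N81453 (iv0 F345560)) (tt N36648 F320629) (tt N48512 F320630) (tt N97361 D200456) (tt N97362 D200457) (tt N36659 F320631) (tt N82178 F320632))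
theorem Q60354 : ∀ i, i < 60354 → P i := stepQ 60353 Q60353 (allL N60353 (tt N82178 F319234) (tt N36648 F319235) (tt N32223 (iv2 D113132)) (tt N57791 F176257) (tt N56364 F176258) (tt N80900 (iv5 F334746)) (tt N56354 F176259) (tt N81453 F355333))
theorem Q60355 : ∀ i, i < 60355 → P i := stepQ 60354 Q60354 (allL N60354 (tt N36648 F319236) (tt N82178 F319237) (tt N81453 F345562) (tt N32225 F176262) (tt N56366 F176263) (tt N79891 (iv5 F335997)) (tt N93810 (iv6 F402010)) (tt N32223 (iv7 D113134)))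
theorem Q60356 : ∀ i, i < 60356 → P i := stepQ 60355 Q60355 (allL N60355 (tt N97363 D200458) (tt N97364 D200459) (tt N57793 F176265) (tt N54885 (iv3 F342191)) (tt N69535 (iv4 F214667)) (tt N56356 F176266) (tt N32224 (iv6 D113135)) (tt N86112 (iv7 F375144)))
theorem Q60357 : ∀ i, i < 60357 → P i := stepQ 60356 Q60356 (allL N60356 (tt N57306 (iv1 F176270)) (tt N46090 F329173) (tt N57341 F176267) (tt N79891 F332574) (tt N35925 F176268) (tt N32225 F176269) (tt N82034 (iv6 F335996)) (tt N32224 (iv7 D113136)))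
theorem Q60358 : ∀ i, i < 60358 → P i := stepQ 60357 Q60357 (allL N60357 (tt N57408 (iv1 F176275)) (tt N57410 F176276) (tt N57360 F176272) (tt N93810 (iv3 F402007)) (tt N32226 F176273) (tt N97365 D200460) (tt N32225 (iv6 D113137)) (tt N39387 F176274))
theorem Q60359 : ∀ i, i < 60359 → P i := stepQ 60358 Q60358 (allL N60358 (tt N65871 (iv1 F202692)) (tt N32227 (iv0 D113138)) (tt N65870 (iv2 F355464)) (tt N90641 (iv3 F390371)) (tt N95559 (iv4 F408648)) (tt N90640 (iv5 F390368)) (tt N97366 D200461) (tt N65869 (iv7 F355465)))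
theorem Q60360 : ∀ i, i < 60360 → P i := stepQ 60359 Q60359 (allL N60359 (tt N32227 (iv1 D113139)) (tt N65871 F202694) (tt N65869 F355460) (tt N36138 F355461) (tt N95543 (iv4 F408578)) (tt N36135 F355462) (tt N97367 D200462) (tt N65870 F355463))
theorem Q60361 : ∀ i, i < 60361 → P i := stepQ 60360 Q60360 (allL N60360 (tt N65838 (iv1 F202635)) (tt N32228 (iv0 D113140)) (tt N65837 (iv2 F351026)) (tt N48387 F330677) (tt N97368 D200463) (tt N75273 (iv5 F232038)) (tt N79590 F363877) (tt N48379 F330678))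
theorem Q60362 : ∀ i, i < 60362 → P i := stepQ 60361 Q60361 (allL N60361 (tt N32228 (iv1 D113141)) (tt N65838 F202636) (tt N48379 F330675) (tt N97369 D200464) (tt N97370 D200465) (tt N75272 F232043) (tt N48376 F330676) (tt N65837 (iv7 F351028)))
theorem Q60363 : ∀ i, i < 60363 → P i := stepQ 60362 Q60362 (allL N60362 (tt N61997 (iv1 F330596)) (tt N61994 F330595) (tt N73410 F330572) (tt N32229 (iv3 D113142)) (tt N40067 F176277) (tt N33193 F176278) (tt N89541 (iv6 F386741)) (tt N40156 F176279))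
theorem Q60364 : ∀ i, i < 60364 → P i := stepQ 60363 Q60363 (allL N60363 (tt N33094 F176283) (tt N33095 (iv0 F176282)) (tt N36024 F176280) (tt N89541 F386743) (tt N32230 F176281) (tt N97371 D200466) (tt N32229 (iv6 D113143)) (tt N40291 (iv7 F176284)))
theorem Q60365 : ∀ i, i < 60365 → P i := stepQ 60364 Q60364 (allL N60364 (tt N36026 (iv1 F176289)) (tt N36025 F176290) (tt N36027 F176285) (tt N58961 F176286) (tt N40291 F176287) (tt N70223 (iv5 F217028)) (tt N58989 F176288) (tt N32230 (iv7 D113144)))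
theorem Q60366 : ∀ i, i < 60366 → P i := stepQ 60365 Q60365 (allL N60365 (tt N32231 (iv1 D113145)) (tt N79561 F324600) (tt N48327 F324601) (tt N79661 (iv3 F351995)) (tt N65629 (iv4 F202157)) (tt N97372 D200467) (tt N80041 F354039) (tt N79558 F324603))
theorem Q60367 : ∀ i, i < 60367 → P i := stepQ 60366 Q60366 (allL N60366 (tt N96945 F414723) (tt N97373 D200468) (tt N79717 F336628) (tt N32232 F176292) (tt N97374 D200469) (tt N32231 (iv5 D113147)) (tt N79350 (iv6 F336627)) (tt N94036 (iv7 F402912)))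
theorem Q60368 : ∀ i, i < 60368 → P i := stepQ 60367 Q60367 (allL N60367 (tt N97375 D200470) (tt N97376 D200471) (tt N94035 (iv2 F402905)) (tt N79350 F336629) (tt N33196 F176294) (tt N79346 (iv5 F336630)) (tt N32232 (iv6 D113149)) (tt N97377 D200472))
theorem Q60369 : ∀ i, i < 60369 → P i := stepQ 60368 Q60368 (allL N60368 (tt N60404 F176360) (tt N58362 F176361) (tt N94664 (iv2 F405432)) (tt N32291 F176300) (tt N34753 F327238) (tt N92046 (iv5 F395525)) (tt N32234 (iv6 D113152)) (tt N92046 (iv7 F395526)))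
theorem Q60370 : ∀ i, i < 60370 → P i := stepQ 60369 Q60369 (allL N60369 (tt N38509 (iv1 F176305)) (tt N38508 F176306) (tt N38510 F176301) (tt N56700 F176302) (tt N92263 (iv4 F396512)) (tt N32236 F176303) (tt N39248 F176304) (tt N32235 (iv7 D113153)))
theorem Q60371 : ∀ i, i < 60371 → P i := stepQ 60370 Q60370 (allL N60370 (tt N32237 (iv1 D113154)) (tt N80057 F360214) (tt N58673 (iv2 F358200)) (tt N75302 (iv3 F358201)) (tt N65702 (iv4 F202278)) (tt N97373 F416576) (tt N65953 F358199) (tt N94028 (iv7 F402880)))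
theorem Q60372 : ∀ i, i < 60372 → P i := stepQ 60371 Q60371 (allL N60371 (tt N94028 (iv1 F402879)) (tt N58673 F176309) (tt N32237 (iv2 D113155)) (tt N94026 (iv3 F402867)) (tt N35698 F176308) (tt N97378 D200473) (tt N79546 F360211) (tt N80057 (iv7 F360212)))
theorem Q60373 : ∀ i, i < 60373 → P i := stepQ 60372 Q60372 (allL N60372 (tt N82436 F348172) (tt N91713 (iv0 F394148)) (tt N97378 (iv2 F416597)) (tt N32238 F176310) (tt N51211 (iv4 F354214)) (tt N32237 (iv5 D113156)) (tt N63622 (iv6 F360177)) (tt N94029 (iv7 F402885)))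
theorem Q60374 : ∀ i, i < 60374 → P i := stepQ 60373 Q60373 (allL N60373 (tt N43978 F323464) (tt N43976 F323465) (tt N76520 F323466) (tt N42818 F323467) (tt N79094 F323468) (tt N32239 (iv5 D113160)) (tt N63623 F323469) (tt N69677 F323470))
theorem Q60375 : ∀ i, i < 60375 → P i := stepQ 60374 Q60374 (allL N60374 (tt N63566 (iv1 F326686)) (tt N63562 (iv0 F326676)) (tt N66033 F203141) (tt N69678 (iv3 F341208)) (tt N32241 F176315) (tt N69677 (iv5 F342478)) (tt N80058 (iv6 F363223)) (tt N32239 (iv7 D113161)))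
theorem Q60376 : ∀ i, i < 60376 → P i := stepQ 60375 Q60375 (allL N60375 (tt N71158 F219840) (tt N70964 (iv0 F218958)) (tt N71024 (iv2 F219287)) (tt N32323 F176320) (tt N43969 F321761) (tt N32240 (iv5 D113163)) (tt N39388 F176321) (tt N79766 (iv7 F347065)))
theorem Q60377 : ∀ i, i < 60377 → P i := stepQ 60376 Q60376 (allL N60376 (tt N79774 (iv1 F363263)) (tt N59674 (iv0 F219839)) (tt N71354 (iv2 F219927)) (tt N32324 F176322) (tt N48270 F332119) (tt N39368 F176324) (tt N32240 (iv6 D113164)) (tt N59535 F176323))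
theorem Q60378 : ∀ i, i < 60378 → P i := stepQ 60377 Q60377 (allL N60377 (tt N48354 F324590) (tt N32242 (iv0 D113165)) (tt N65865 F361326) (tt N97379 D200474) (tt N97380 D200475) (tt N95757 (iv5 F409486)) (tt N42518 F361327) (tt N65864 F361328))
theorem Q60379 : ∀ i, i < 60379 → P i := stepQ 60378 Q60378 (allL N60378 (tt N32242 (iv1 D113166)) (tt N48354 F324589) (tt N65864 F361323) (tt N96666 (iv3 F413363)) (tt N96561 (iv4 F413001)) (tt N95758 (iv5 F409493)) (tt N48355 F361324) (tt N65865 F361325))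
theorem Q60380 : ∀ i, i < 60380 → P i := stepQ 60379 Q60379 (allL N60379 (tt N77748 (iv1 F350828)) (tt N75685 F359356) (tt N77718 (iv2 F350835)) (tt N32243 F176327) (tt N97381 D200476) (tt N32242 (iv5 D113167)) (tt N88463 (iv6 F383155)) (tt N65866 (iv7 F202675)))
theorem Q60381 : ∀ i, i < 60381 → P i := stepQ 60380 Q60380 (allL N60380 (tt N45912 F344878) (tt N47112 (iv0 F344883)) (tt N44941 F320947) (tt N32244 F176328) (tt N64107 (iv4 F323598)) (tt N94123 (iv5 F403317)) (tt N32242 (iv6 D113168)) (tt N64066 F320948))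
theorem Q60382 : ∀ i, i < 60382 → P i := stepQ 60381 Q60381 (allL N60381 (tt N97382 D200477) (tt N47944 F359935) (tt N35881 F176329) (tt N88463 (iv3 F383153)) (tt N33148 F176330) (tt N97383 D200478) (tt N32243 (iv6 D113169)) (tt N97384 D200479))
theorem Q60383 : ∀ i, i < 60383 → P i := stepQ 60382 Q60382 (allL N60382 (tt N58881 F176332) (tt N67637 (iv0 F313812)) (tt N35883 F176331) (tt N94123 (iv3 F403314)) (tt N43149 F315493) (tt N32244 (iv5 D113170)) (tt N97383 (iv6 F416628)) (tt N44863 F315494))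
theorem Q60384 : ∀ i, i < 60384 → P i := stepQ 60383 Q60383 (allL N60383 (tt N32246 (iv1 F176340)) (tt N32245 (iv0 D113172)) (tt N32249 (iv2 F176337)) (tt N65871 (iv3 F202688)) (tt N32364 F176338) (tt N89434 (iv5 F386501)) (tt N78563 (iv6 F362985)) (tt N32247 F176339))
theorem Q60385 : ∀ i, i < 60385 → P i := stepQ 60384 Q60384 (allL N60384 (tt N32249 F381045) (tt N32247 F381046) (tt N32245 (iv2 D113173)) (tt N97385 D200480) (tt N56220 F381047) (tt N97083 (iv5 F415389)) (tt N79765 F381048) (tt N32246 (iv7 F176341)))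
theorem Q60386 : ∀ i, i < 60386 → P i := stepQ 60385 Q60385 (allL N60385 (tt N59945 F176343) (tt N95110 (iv0 F407089)) (tt N95670 F409068) (tt N32245 (iv3 D113174)) (tt N58636 F176342) (tt N97386 D200481) (tt N44943 F381052) (tt N95671 (iv7 F409070)))
theorem Q60387 : ∀ i, i < 60387 → P i := stepQ 60386 Q60386 (allL N60386 (tt N97387 D200482) (tt N65947 (iv0 F353618)) (tt N56220 (iv2 F381054)) (tt N97388 D200483) (tt N32245 (iv4 D113175)) (tt N97389 D200484) (tt N97390 D200485) (tt N97391 D200486))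
theorem Q60388 : ∀ i, i < 60388 → P i := stepQ 60387 Q60387 (allL N60387 (tt N47222 F355854) (tt N58794 F355866) (tt N97083 F415391) (tt N97386 (iv3 F416646)) (tt N93808 (iv4 F401988)) (tt N32245 (iv5 D113176)) (tt N97392 D200487) (tt N93806 F401978))
theorem Q60389 : ∀ i, i < 60389 → P i := stepQ 60388 Q60388 (allL N60388 (tt N54336 (iv1 F355867)) (tt N78565 (iv0 F355865)) (tt N79765 F381049) (tt N44943 F381050) (tt N97390 (iv4 F416670)) (tt N97393 D200488) (tt N32245 (iv6 D113177)) (tt N79764 F381051))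
theorem Q60390 : ∀ i, i < 60390 → P i := stepQ 60389 Q60389 (allL N60389 (tt N32247 F381056) (tt N32249 F381057) (tt N32246 F176344) (tt N95671 F409075) (tt N97391 (iv4 F416677)) (tt N93806 (iv5 F401974)) (tt N97394 D200489) (tt N32245 (iv7 D113178)))
theorem Q60391 : ∀ i, i < 60391 → P i := stepQ 60390 Q60390 (allL N60390 (tt N97395 D200490) (tt N97379 F416695) (tt N97396 D200491) (tt N32246 (iv3 D113179)) (tt N97397 D200492) (tt N97398 D200493) (tt N97399 D200494) (tt N97385 (iv7 F416643)))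
theorem Q60392 : ∀ i, i < 60392 → P i := stepQ 60391 Q60391 (allL N60391 (tt N65947 (iv1 F381055)) (tt N97387 F416657) (tt N97391 (iv2 F416675)) (tt N56224 (iv3 F381042)) (tt N32246 (iv4 D113180)) (tt N97400 D200495) (tt N97401 D200496) (tt N56220 F381044))
theorem Q60393 : ∀ i, i < 60393 → P i := stepQ 60392 Q60392 (allL N60392 (tt N58794 F355863) (tt N47222 F362990) (tt N93806 (iv2 F401971)) (tt N97398 (iv3 F416718)) (tt N56390 F392267) (tt N32246 (iv5 D113181)) (tt N56389 (iv6 F392266)) (tt N97083 (iv7 F415388)))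
theorem Q60394 : ∀ i, i < 60394 → P i := stepQ 60393 Q60393 (allL N60393 (tt N65875 F363989) (tt N97402 D200497) (tt N97394 (iv2 F416689)) (tt N97399 (iv3 F416727)) (tt N97401 (iv4 F416742)) (tt N97403 D200498) (tt N32246 (iv6 D113182)) (tt N97404 D200499))
theorem Q60395 : ∀ i, i < 60395 → P i := stepQ 60394 Q60394 (allL N60394 (tt N95790 F409667) (tt N95786 (iv0 F409639)) (tt N32248 F176349) (tt N75254 (iv3 F230895)) (tt N97405 D200500) (tt N32247 (iv5 D113185)) (tt N75252 (iv6 F230892)) (tt N89434 (iv7 F386502)))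
theorem Q60396 : ∀ i, i < 60396 → P i := stepQ 60395 Q60395 (allL N60395 (tt N89434 F386504) (tt N32248 (iv0 D113186)) (tt N95790 (iv2 F409664)) (tt N85732 (iv3 F373710)) (tt N97406 D200501) (tt N60085 F373684) (tt N97407 D200502) (tt N95786 (iv7 F409637)))
theorem Q60397 : ∀ i, i < 60397 → P i := stepQ 60396 Q60396 (allL N60396 (tt N32248 (iv1 D113187)) (tt N89434 (iv0 F386503)) (tt N95786 (iv2 F409636)) (tt N97408 D200503) (tt N97409 D200504) (tt N60086 F352468) (tt N79444 (iv6 F352469)) (tt N95790 (iv7 F409665)))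
theorem Q60398 : ∀ i, i < 60398 → P i := stepQ 60397 Q60397 (allL N60397 (tt N97410 D200505) (tt N91446 (iv0 F416755)) (tt N97405 (iv2 F416750)) (tt N95275 (iv3 F407682)) (tt N32248 (iv4 D113188)) (tt N97411 D200506) (tt N95270 (iv6 F407655)) (tt N95796 (iv7 F409698)))
theorem Q60399 : ∀ i, i < 60399 → P i := stepQ 60398 Q60398 (allL N60398 (tt N79453 F362989) (tt N97412 D200507) (tt N75252 (iv2 F230890)) (tt N32251 F176350) (tt N95270 F407654) (tt N75249 (iv5 F230889)) (tt N32248 (iv6 D113189)) (tt N89458 (iv7 F386570)))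
theorem Q60400 : ∀ i, i < 60400 → P i := stepQ 60399 Q60399 (allL N60399 (tt N97413 D200508) (tt N97414 D200509) (tt N97415 D200510) (tt N32250 (iv3 D113191)) (tt N95275 (iv4 F407683)) (tt N33057 F176353) (tt N95274 F407680) (tt N33056 F176354))
theorem Q60401 : ∀ i, i < 60401 → P i := stepQ 60400 Q60400 (allL N60400 (tt N94255 (iv1 F403859)) (tt N57318 F347951) (tt N33202 F176355) (tt N95274 (iv3 F407677)) (tt N32251 F176356) (tt N77982 (iv5 F347954)) (tt N32250 (iv6 D113192)) (tt N94254 (iv7 F403853)))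
theorem Q60402 : ∀ i, i < 60402 → P i := stepQ 60401 Q60401 (allL N60401 (tt N82143 (iv1 F351338)) (tt N32251 (iv0 D113193)) (tt N65297 (iv2 F351346)) (tt N82139 F351347) (tt N97416 D200511) (tt N97417 D200512) (tt N97418 D200513) (tt N63658 F351345))
theorem Q60403 : ∀ i, i < 60403 → P i := stepQ 60402 Q60402 (allL N60402 (tt N63658 (iv1 F347855)) (tt N65297 F351331) (tt N82143 (iv2 F351339)) (tt N89458 (iv3 F386569)) (tt N94254 (iv4 F403849)) (tt N64019 (iv5 F347939)) (tt N79415 (iv6 F357018)) (tt N32251 (iv7 D113195)))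
theorem Q60404 : ∀ i, i < 60404 → P i := stepQ 60403 Q60403 (allL N60403 (tt N34191 F333687) (tt N47950 F333688) (tt N47949 F333674) (tt N47200 F326655) (tt N68561 F333689) (tt N32252 (iv5 D113196)) (tt N47198 F326656) (tt N47948 F333675))
theorem Q60405 : ∀ i, i < 60405 → P i := stepQ 60404 Q60404 (allL N60404 (tt N95287 (iv1 F407729)) (tt N60368 (iv0 F176360)) (tt N59673 F176357) (tt N32395 F176358) (tt N47339 F319911) (tt N32253 (iv5 D113197)) (tt N47343 F319912) (tt N92113 (iv7 F395801)))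
theorem Q60406 : ∀ i, i < 60406 → P i := stepQ 60405 Q60405 (allL N60405 (tt N71354 F219932) (tt N59535 (iv0 F176365)) (tt N59674 F176362) (tt N32396 F176363) (tt N96964 (iv4 F414819)) (tt N39289 F176364) (tt N32253 (iv6 D113198)) (tt N79774 (iv7 F363267)))
theorem Q60407 : ∀ i, i < 60407 → P i := stepQ 60406 Q60406 (allL N60406 (tt N65553 (iv1 F202009)) (tt N32254 (iv0 D113199)) (tt N65552 (iv2 F375977)) (tt N97419 D200514) (tt N97420 D200515) (tt N65725 (iv5 F416829)) (tt N97421 D200517) (tt N65551 (iv7 F375979)))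
theorem Q60408 : ∀ i, i < 60408 → P i := stepQ 60407 Q60407 (allL N60407 (tt N32254 (iv1 D113200)) (tt N65553 F202011) (tt N65551 F375978) (tt N97422 D200518) (tt N86370 (iv4 F375974)) (tt N65726 F358966) (tt N97423 D200519) (tt N65552 F375975))
theorem Q60409 : ∀ i, i < 60409 → P i := stepQ 60408 Q60408 (allL N60408 (tt N65552 (iv1 F202010)) (tt N65551 F202005) (tt N32254 (iv2 D113201)) (tt N65626 (iv3 F202148)) (tt N79561 (iv4 F341859)) (tt N97424 D200520) (tt N80159 (iv6 F341864)) (tt N65553 (iv7 F202008)))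
theorem Q60410 : ∀ i, i < 60410 → P i := stepQ 60409 Q60409 (allL N60409 (tt N97425 D200521) (tt N97426 D200522) (tt N97424 (iv2 F416836)) (tt N32255 F176366) (tt N97427 D200523) (tt N32254 (iv5 D113202)) (tt N97428 D200524) (tt N35727 F176367))
theorem Q60411 : ∀ i, i < 60411 → P i := stepQ 60410 Q60410 (allL N60410 (tt N97429 D200525) (tt N92049 (iv0 F395545)) (tt N80159 (iv2 F356022)) (tt N32256 F176368) (tt N47916 F356018) (tt N97430 D200526) (tt N32254 (iv6 D113203)) (tt N79719 F355924))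
theorem Q60412 : ∀ i, i < 60412 → P i := stepQ 60411 Q60411 (allL N60411 (tt N97431 D200527) (tt N97432 D200528) (tt N35730 F176369) (tt N97428 (iv3 F416855)) (tt N65503 (iv4 F201893)) (tt N71731 F356060) (tt N32255 (iv6 D113204)) (tt N97433 D200529))
theorem Q60413 : ∀ i, i < 60413 → P i := stepQ 60412 Q60412 (allL N60412 (tt N91955 (iv1 F395121)) (tt N80414 F356058) (tt N65628 (iv2 F202156)) (tt N97430 (iv3 F416863)) (tt N71733 F356053) (tt N32256 (iv5 D113205)) (tt N71731 (iv6 F356059)) (tt N97117 (iv7 F415520)))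
theorem Q60414 : ∀ i, i < 60414 → P i := stepQ 60413 Q60413 (allL N60413 (tt N38191 (iv1 F176373)) (tt N32258 (iv0 D113206)) (tt N39425 (iv2 F176372)) (tt N39368 (iv3 F176375)) (tt N62630 (iv4 F182875)) (tt N32324 F176370) (tt N60349 F176371) (tt N39516 F176374))
theorem Q60415 : ∀ i, i < 60415 → P i := stepQ 60414 Q60414 (allL N60414 (tt N35698 (iv1 F176377)) (tt N32260 (iv0 D113207)) (tt N35697 F359806) (tt N96343 (iv3 F412153)) (tt N97395 (iv4 F416691)) (tt N97425 (iv5 F416843)) (tt N32332 F358987) (tt N35696 F359807))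
theorem Q60416 : ∀ i, i < 60416 → P i := stepQ 60415 Q60415 (allL N60415 (tt N32260 (iv1 D113208)) (tt N35698 F176381) (tt N35696 F359808) (tt N97434 D200530) (tt N97379 (iv4 F416607)) (tt N97426 F416850) (tt N97435 D200531) (tt N35697 F359809))
theorem Q60417 : ∀ i, i < 60417 → P i := stepQ 60416 Q60416 (allL N60416 (tt N35697 (iv1 F176382)) (tt N35696 F176380) (tt N32260 (iv2 D113209)) (tt N35707 F176378) (tt N80057 F360213) (tt N97436 D200532) (tt N80056 (iv6 F360222)) (tt N35698 F176379))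
theorem Q60418 : ∀ i, i < 60418 → P i := stepQ 60417 Q60417 (allL N60417 (tt N97437 D200533) (tt N97438 D200534) (tt N97436 (iv2 F416903)) (tt N32261 F176383) (tt N92943 (iv4 F398850)) (tt N32260 (iv5 D113210)) (tt N97439 D200535) (tt N35699 F176384))
theorem Q60419 : ∀ i, i < 60419 → P i := stepQ 60418 Q60418 (allL N60418 (tt N97440 D200536) (tt N78411 (iv0 F341941)) (tt N80056 F341937) (tt N32262 F176385) (tt N64265 (iv4 F341936)) (tt N68745 F341942) (tt N32260 (iv6 D113211)) (tt N80059 F341938))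
theorem Q60420 : ∀ i, i < 60420 → P i := stepQ 60419 Q60419 (allL N60419 (tt N56590 (iv1 F360481)) (tt N65708 (iv0 F360480)) (tt N35710 F176386) (tt N97439 (iv3 F416920)) (tt N65519 (iv4 F201937)) (tt N68746 F360479) (tt N32261 (iv6 D113212)) (tt N92945 (iv7 F398859)))
theorem Q60421 : ∀ i, i < 60421 → P i := stepQ 60420 Q60420 (allL N60420 (tt N32393 F176401) (tt N60292 (iv0 F176402)) (tt N92035 (iv2 F395460)) (tt N59535 F176398) (tt N65714 (iv4 F202296)) (tt N39516 F176399) (tt N32263 (iv6 D113216)) (tt N32324 F176400))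
theorem Q60422 : ∀ i, i < 60422 → P i := stepQ 60421 Q60421 (allL N60421 (tt N32266 (iv1 F176405)) (tt N32265 (iv0 D113217)) (tt N32269 (iv2 F176403)) (tt N65656 (iv3 F202189)) (tt N65838 (iv4 F202632)) (tt N97441 D200537) (tt N80723 F362947) (tt N32267 F176404))
theorem Q60423 : ∀ i, i < 60423 → P i := stepQ 60422 Q60422 (allL N60422 (tt N32269 (iv1 F176409)) (tt N32267 F176408) (tt N32265 (iv2 D113218)) (tt N65891 (iv3 F202741)) (tt N81796 F351031) (tt N97442 D200538) (tt N81751 F357906) (tt N32266 F176407))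
theorem Q60424 : ∀ i, i < 60424 → P i := stepQ 60423 Q60423 (allL N60423 (tt N97443 D200539) (tt N65675 (iv0 F364296)) (tt N97442 (iv2 F416926)) (tt N65886 (iv3 F202719)) (tt N97444 D200540) (tt N32265 (iv5 D113220)) (tt N97445 D200541) (tt N65901 (iv7 F202789)))
theorem Q60425 : ∀ i, i < 60425 → P i := stepQ 60424 Q60424 (allL N60424 (tt N65890 (iv1 F202744)) (tt N65659 F202206) (tt N58304 F176411) (tt N32266 (iv3 D113222)) (tt N58303 (iv4 F176412)) (tt N97446 D200542) (tt N87780 (iv6 F380476)) (tt N65891 (iv7 F202742)))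
theorem Q60426 : ∀ i, i < 60426 → P i := stepQ 60425 Q60425 (allL N60425 (tt N81829 F319463) (tt N81828 F319464) (tt N35532 F319465) (tt N48342 (iv3 F321442)) (tt N32266 (iv4 D113223)) (tt N76645 (iv5 F353623)) (tt N35531 F319467) (tt N81796 F319468))
theorem Q60427 : ∀ i, i < 60427 → P i := stepQ 60426 Q60426 (allL N60426 (tt N65675 (iv1 F232044)) (tt N97443 F416931) (tt N65901 (iv2 F202787)) (tt N97446 (iv3 F416933)) (tt N97447 D200543) (tt N32266 (iv5 D113224)) (tt N97448 D200544) (tt N97442 (iv7 F416927)))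
theorem Q60428 : ∀ i, i < 60428 → P i := stepQ 60427 Q60427 (allL N60427 (tt N44631 F323108) (tt N44630 F323109) (tt N35527 F323110) (tt N87780 (iv3 F380473)) (tt N35531 F323111) (tt N97449 D200545) (tt N32266 (iv6 D113225)) (tt N44632 F323112))
theorem Q60429 : ∀ i, i < 60429 → P i := stepQ 60428 Q60428 (allL N60428 (tt N97450 D200546) (tt N97451 D200547) (tt N32268 F176414) (tt N65644 F366357) (tt N97452 D200548) (tt N32267 (iv5 D113226)) (tt N97453 D200549) (tt N97441 (iv7 F416923)))
theorem Q60430 : ∀ i, i < 60430 → P i := stepQ 60429 Q60429 (allL N60429 (tt N97441 (iv1 F416925)) (tt N32268 (iv0 D113227)) (tt N97450 F416948) (tt N66062 F356087) (tt N97454 D200550) (tt N65573 (iv5 F356086)) (tt N97455 D200551) (tt N97451 (iv7 F416951)))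
theorem Q60431 : ∀ i, i < 60431 → P i := stepQ 60430 Q60430 (allL N60430 (tt N32268 (iv1 D113228)) (tt N97441 (iv0 F416924)) (tt N97451 F416953) (tt N97456 D200552) (tt N97457 D200553) (tt N65574 F355839) (tt N97451 F416955) (tt N97450 F416949))
theorem Q60432 : ∀ i, i < 60432 → P i := stepQ 60431 Q60431 (allL N60431 (tt N97458 D200554) (tt N97459 D200555) (tt N97452 (iv2 F416956)) (tt N97460 D200556) (tt N32268 (iv4 D113229)) (tt N97461 D200557) (tt N97462 D200558) (tt N97460 F416965))
theorem Q60433 : ∀ i, i < 60433 → P i := stepQ 60432 Q60432 (allL N60432 (tt N97463 D200559) (tt N97464 D200560) (tt N97453 (iv2 F416957)) (tt N32271 F176415) (tt N97462 (iv4 F416966)) (tt N32379 F176416) (tt N32268 (iv6 D113230)) (tt N97465 D200561))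
theorem Q60434 : ∀ i, i < 60434 → P i := stepQ 60433 Q60433 (allL N60433 (tt N97451 (iv1 F416950)) (tt N97450 F416947) (tt N97441 (iv2 F416922)) (tt N32270 F176417) (tt N97460 (iv4 F416964)) (tt N32269 F176418) (tt N97466 D200562) (tt N32268 (iv7 D113231)))
theorem Q60435 : ∀ i, i < 60435 → P i := stepQ 60434 Q60434 (allL N60434 (tt N97467 D200563) (tt N47439 F327546) (tt N80723 F327547) (tt N32272 F176419) (tt N65839 (iv4 F202638)) (tt N97468 D200564) (tt N32269 (iv6 D113232)) (tt N32380 F176420))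
theorem Q60436 : ∀ i, i < 60436 → P i := stepQ 60435 Q60435 (allL N60435 (tt N97469 D200565) (tt N97470 D200566) (tt N65599 (iv2 F202077)) (tt N97466 (iv3 F416971)) (tt N32271 F176421) (tt N97471 D200567) (tt N32270 (iv6 D113233)) (tt N97472 D200568))
theorem Q60437 : ∀ i, i < 60437 → P i := stepQ 60436 Q60436 (allL N60436 (tt N92045 (iv1 F395520)) (tt N32271 (iv0 D113234)) (tt N92043 (iv2 F395517)) (tt N97473 D200569) (tt N65804 F395518) (tt N97474 D200570) (tt N97475 D200571) (tt N92044 F395519))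
theorem Q60438 : ∀ i, i < 60438 → P i := stepQ 60437 Q60437 (allL N60437 (tt N32271 (iv1 D113235)) (tt N92045 F395508) (tt N92044 (iv2 F395503)) (tt N97476 D200572) (tt N65805 (iv4 F395509)) (tt N67293 (iv5 F365649)) (tt N97477 D200573) (tt N92043 (iv7 F395514)))
theorem Q60439 : ∀ i, i < 60439 → P i := stepQ 60438 Q60438 (allL N60438 (tt N92044 (iv1 F395501)) (tt N92043 F395507) (tt N92045 (iv2 F395505)) (tt N97465 (iv3 F416969)) (tt N97472 (iv4 F416998)) (tt N32387 F176422) (tt N97472 (iv6 F416999)) (tt N32271 (iv7 D113236)))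
theorem Q60440 : ∀ i, i < 60440 → P i := stepQ 60439 Q60439 (allL N60439 (tt N92111 (iv1 F395790)) (tt N92110 F395785) (tt N65658 (iv2 F202198)) (tt N97468 (iv3 F416979)) (tt N97478 D200574) (tt N32272 (iv5 D113237)) (tt N97471 (iv6 F416997)) (tt N32390 F176423))
theorem Q60441 : ∀ i, i < 60441 → P i := stepQ 60440 Q60440 (allL N60440 (tt N32273 (iv1 D113239)) (tt N56983 F176430) (tt N56981 (iv2 F176431)) (tt N97479 D200575) (tt N80750 F360726) (tt N32377 F352467) (tt N97480 D200576) (tt N56982 (iv7 F176432)))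
theorem Q60442 : ∀ i, i < 60442 → P i := stepQ 60441 Q60441 (allL N60441 (tt N56982 (iv1 F176434)) (tt N56981 F176429) (tt N32273 (iv2 D113240)) (tt N66584 (iv3 F204591)) (tt N46849 F328794) (tt N60633 (iv5 F355849)) (tt N46848 F328795) (tt N56983 F176428))
theorem Q60443 : ∀ i, i < 60443 → P i := stepQ 60442 Q60442 (allL N60442 (tt N97481 D200577) (tt N97482 D200578) (tt N65648 (iv2 F202174)) (tt N52837 (iv3 F365496)) (tt N97483 D200579) (tt N32274 (iv5 D113242)) (tt N97052 (iv6 F415225)) (tt N65646 (iv7 F202171)))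
theorem Q60444 : ∀ i, i < 60444 → P i := stepQ 60443 Q60443 (allL N60443 (tt N57254 (iv1 F176437)) (tt N32275 (iv0 D113243)) (tt N57253 (iv2 F395222)) (tt N95789 (iv3 F409661)) (tt N97484 D200580) (tt N56230 F377922) (tt N82378 (iv6 F377923)) (tt N57252 (iv7 F395226)))
theorem Q60445 : ∀ i, i < 60445 → P i := stepQ 60444 Q60444 (allL N60444 (tt N32275 (iv1 D113244)) (tt N57254 F176441) (tt N57252 F395227) (tt N97485 D200581) (tt N97486 D200582) (tt N56231 F361400) (tt N97487 D200583) (tt N57253 F395225))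
theorem Q60446 : ∀ i, i < 60446 → P i := stepQ 60445 Q60445 (allL N60445 (tt N57253 (iv1 F176442)) (tt N57252 F176440) (tt N32275 (iv2 D113245)) (tt N55598 (iv3 F324558)) (tt N94783 (iv4 F405912)) (tt N92682 (iv5 F397870)) (tt N82342 F361371) (tt N57254 F176439))
theorem Q60447 : ∀ i, i < 60447 → P i := stepQ 60446 Q60446 (allL N60446 (tt N92684 (iv1 F397874)) (tt N92677 (iv0 F397853)) (tt N92682 F397868) (tt N32276 F176443) (tt N78908 (iv4 F251332)) (tt N32275 (iv5 D113246)) (tt N97488 D200584) (tt N57255 F176444))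
theorem Q60448 : ∀ i, i < 60448 → P i := stepQ 60447 Q60447 (allL N60447 (tt N81533 F365576) (tt N97489 D200585) (tt N82342 (iv2 F361372)) (tt N32277 F176445) (tt N60773 (iv4 F176856)) (tt N55559 F356067) (tt N32275 (iv6 D113247)) (tt N91876 (iv7 F394794)))
theorem Q60449 : ∀ i, i < 60449 → P i := stepQ 60448 Q60448 (allL N60448 (tt N61593 F179076) (tt N97055 (iv0 F415239)) (tt N57261 F176446) (tt N97488 (iv3 F417064)) (tt N32470 F176447) (tt N80420 (iv5 F364823)) (tt N32276 (iv6 D113248)) (tt N97490 D200586))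
theorem Q60450 : ∀ i, i < 60450 → P i := stepQ 60449 Q60449 (allL N60449 (tt N80092 F362283) (tt N97118 F415525) (tt N58845 F176448) (tt N55559 (iv3 F356066)) (tt N55561 F355925) (tt N32277 (iv5 D113249)) (tt N80420 F364824) (tt N91875 (iv7 F394789)))
theorem Q60451 : ∀ i, i < 60451 → P i := stepQ 60450 Q60450 (allL N60450 (tt N97485 F417051) (tt N97491 D200587) (tt N97492 D200588) (tt N32278 (iv3 D113251)) (tt N60753 F176823) (tt N97493 D200589) (tt N97494 D200590) (tt N92053 (iv7 F395562)))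
theorem Q60452 : ∀ i, i < 60452 → P i := stepQ 60451 Q60451 (allL N60451 (tt N97495 D200591) (tt N73091 (iv0 F359303)) (tt N92055 (iv2 F395568)) (tt N97496 D200592) (tt N32278 (iv4 D113252)) (tt N96670 (iv5 F413376)) (tt N97497 D200593) (tt N92054 (iv7 F395567)))
theorem Q60453 : ∀ i, i < 60453 → P i := stepQ 60452 Q60452 (allL N60452 (tt N60521 F219099) (tt N35847 F219100) (tt N60523 F349676) (tt N97493 (iv3 F417089)) (tt N82771 F349679) (tt N32278 (iv5 D113253)) (tt N67289 (iv6 F349677)) (tt N52366 (iv7 F349678)))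
theorem Q60454 : ∀ i, i < 60454 → P i := stepQ 60453 Q60453 (allL N60453 (tt N79573 F417098) (tt N74652 (iv0 F417097)) (tt N92056 (iv2 F395570)) (tt N97494 (iv3 F417095)) (tt N97497 (iv4 F417109)) (tt N97498 D200594) (tt N32278 (iv6 D113254)) (tt N97499 D200595))
theorem Q60455 : ∀ i, i < 60455 → P i := stepQ 60454 Q60454 (allL N60454 (tt N95349 (iv1 F407955)) (tt N74659 (iv0 F380725)) (tt N96097 (iv2 F411032)) (tt N32279 (iv3 D113256)) (tt N97500 D200596) (tt N57028 (iv5 F360823)) (tt N80414 F360822) (tt N67290 F360824))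
theorem Q60456 : ∀ i, i < 60456 → P i := stepQ 60455 Q60455 (allL N60455 (tt N73091 F380724) (tt N97495 F417102) (tt N92054 (iv2 F395565)) (tt N73086 (iv3 F223789)) (tt N32279 (iv4 D113257)) (tt N77490 (iv5 F350079)) (tt N77493 F350074) (tt N92055 (iv7 F395569)))
theorem Q60457 : ∀ i, i < 60457 → P i := stepQ 60456 Q60456 (allL N60456 (tt N65968 (iv1 F219114)) (tt N65966 (iv0 F219115)) (tt N32281 F176451) (tt N66002 (iv3 F203037)) (tt N39705 F176460) (tt N32280 (iv5 D113260)) (tt N97501 D200597) (tt N66006 (iv7 F203058)))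
theorem Q60458 : ∀ i, i < 60458 → P i := stepQ 60457 Q60457 (allL N60457 (tt N93076 F399377) (tt N97502 D200598) (tt N32282 F176452) (tt N80069 F351737) (tt N59435 F176453) (tt N97503 D200599) (tt N32280 (iv6 D113261)) (tt N97504 D200600))
theorem Q60459 : ∀ i, i < 60459 → P i := stepQ 60458 Q60458 (allL N60458 (tt N66006 (iv1 F203059)) (tt N32281 (iv0 D113262)) (tt N65968 (iv2 F355961)) (tt N97505 D200601) (tt N97506 D200602) (tt N32310 F219256) (tt N97507 D200603) (tt N65966 (iv7 F355963)))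
theorem Q60460 : ∀ i, i < 60460 → P i := stepQ 60459 Q60459 (allL N60459 (tt N32281 (iv1 D113263)) (tt N66006 F203061) (tt N65966 F355962) (tt N92893 (iv3 F398677)) (tt N82790 (iv4 F360190)) (tt N32311 F220873) (tt N82788 F360193) (tt N65968 F355960))
theorem Q60461 : ∀ i, i < 60461 → P i := stepQ 60460 Q60460 (allL N60460 (tt N39807 (iv1 F176464)) (tt N39203 (iv0 F176463)) (tt N39705 (iv2 F176459)) (tt N32548 F176454) (tt N32281 (iv4 D113264)) (tt N39183 (iv5 F176456)) (tt N97508 D200604) (tt N39701 F176455))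
theorem Q60462 : ∀ i, i < 60462 → P i := stepQ 60461 Q60461 (allL N60461 (tt N97509 D200605) (tt N36839 F360820) (tt N97501 (iv2 F417128)) (tt N32283 F176465) (tt N97508 (iv4 F417160)) (tt N68648 F360821) (tt N32281 (iv6 D113265)) (tt N97510 D200606))
theorem Q60463 : ∀ i, i < 60463 → P i := stepQ 60462 Q60462 (allL N60462 (tt N97504 (iv1 F417142)) (tt N32282 (iv0 D113266)) (tt N93076 (iv2 F399470)) (tt N97511 D200607) (tt N80558 F334363) (tt N93071 F399469) (tt N94792 (iv6 F431247)) (tt N97502 (iv7 F417134)))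
theorem Q60464 : ∀ i, i < 60464 → P i := stepQ 60463 Q60463 (allL N60463 (tt N32282 (iv1 D113267)) (tt N97504 F417141) (tt N97502 F417136) (tt N87774 (iv3 F380454)) (tt N80559 (iv4 F365757)) (tt N93077 (iv5 F399475)) (tt N67978 (iv6 F354372)) (tt N93076 F399472))
theorem Q60465 : ∀ i, i < 60465 → P i := stepQ 60464 Q60464 (allL N60464 (tt N97512 D200609) (tt N97513 D200610) (tt N97503 (iv2 F417137)) (tt N32285 F176466) (tt N68648 F328353) (tt N32282 (iv5 D113268)) (tt N68648 F328354) (tt N97514 D200611))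
theorem Q60466 : ∀ i, i < 60466 → P i := stepQ 60465 Q60465 (allL N60465 (tt N97502 (iv1 F417133)) (tt N93076 (iv0 F399376)) (tt N97504 (iv2 F417139)) (tt N32286 F176467) (tt N59443 F176468) (tt N97514 (iv5 F417205)) (tt N92061 (iv6 F395582)) (tt N32282 (iv7 D113269)))
theorem Q60467 : ∀ i, i < 60467 → P i := stepQ 60466 Q60466 (allL N60466 (tt N32283 (iv1 D113271)) (tt N66005 F203053) (tt N60791 F332872) (tt N97515 D200612) (tt N36272 F332873) (tt N67201 F332874) (tt N97516 D200613) (tt N60787 F332875))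
theorem Q60468 : ∀ i, i < 60468 → P i := stepQ 60467 Q60467 (allL N60467 (tt N60791 (iv1 F288402)) (tt N60787 (iv0 F288399)) (tt N66005 (iv2 F203049)) (tt N97510 (iv3 F417172)) (tt N32552 F176470) (tt N56493 F343623) (tt N66009 (iv6 F203068)) (tt N32283 (iv7 D113273)))
theorem Q60469 : ∀ i, i < 60469 → P i := stepQ 60468 Q60468 (allL N60468 (tt N82378 F327651) (tt N82377 F327652) (tt N44624 F327653) (tt N32284 (iv3 D113274)) (tt N56707 (iv4 F358303)) (tt N93058 (iv5 F399322)) (tt N56706 F358304) (tt N60715 (iv7 F176753)))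
theorem Q60470 : ∀ i, i < 60470 → P i := stepQ 60469 Q60469 (allL N60469 (tt N60690 (iv1 F176713)) (tt N60693 F176718) (tt N58848 F176473) (tt N56706 F343613) (tt N55696 F176474) (tt N56705 F343611) (tt N32284 (iv6 D113276)) (tt N56704 (iv7 F343612)))
theorem Q60471 : ∀ i, i < 60471 → P i := stepQ 60470 Q60470 (allL N60470 (tt N38430 F328348) (tt N67238 F328349) (tt N36759 F328350) (tt N97514 (iv3 F417203)) (tt N32410 F328351) (tt N32286 F176477) (tt N97517 D200614) (tt N32285 (iv7 D113280)))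
theorem Q60472 : ∀ i, i < 60472 → P i := stepQ 60471 Q60471 (allL N60471 (tt N97518 D200615) (tt N97048 (iv0 F415208)) (tt N92014 (iv2 F395360)) (tt N32287 (iv3 D113281)) (tt N79631 (iv4 F365834)) (tt N37739 F332802) (tt N65604 (iv6 F202080)) (tt N92051 (iv7 F395555)))
theorem Q60473 : ∀ i, i < 60473 → P i := stepQ 60472 Q60472 (allL N60472 (tt N35694 F176481) (tt N36758 F176482) (tt N36756 F176479) (tt N97519 D200616) (tt N32288 (iv4 D113283)) (tt N32408 F332776) (tt N97520 D200617) (tt N32407 F332777))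
theorem Q60474 : ∀ i, i < 60474 → P i := stepQ 60473 Q60473 (allL N60473 (tt N56729 F176486) (tt N56728 (iv0 F176487)) (tt N69776 (iv2 F216100)) (tt N38134 F176483) (tt N97520 (iv4 F417230)) (tt N56409 F176484) (tt N32288 (iv6 D113284)) (tt N56409 F176485))
theorem Q60475 : ∀ i, i < 60475 → P i := stepQ 60474 Q60474 (allL N60474 (tt N66024 (iv1 F203106)) (tt N66027 (iv0 F203117)) (tt N92052 (iv2 F395556)) (tt N88903 (iv3 F384491)) (tt N32291 F176489) (tt N97521 D200618) (tt N32289 (iv6 D113287)) (tt N65606 (iv7 F202082)))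
theorem Q60476 : ∀ i, i < 60476 → P i := stepQ 60475 Q60475 (allL N60475 (tt N32293 (iv1 D113289)) (tt N80070 F338356) (tt N58895 (iv2 F176496)) (tt N42041 (iv3 F176497)) (tt N92118 (iv4 F395825)) (tt N42040 (iv5 F176498)) (tt N66838 (iv6 F341898)) (tt N42101 F176495))
theorem Q60477 : ∀ i, i < 60477 → P i := stepQ 60476 Q60476 (allL N60476 (tt N42101 (iv1 F176503)) (tt N58895 F176502) (tt N32293 (iv2 D113290)) (tt N59460 F176500) (tt N32299 F176501) (tt N97522 D200619) (tt N80040 (iv6 F348168)) (tt N80070 F338354))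
theorem Q60478 : ∀ i, i < 60478 → P i := stepQ 60477 Q60477 (allL N60477 (tt N82157 (iv1 F360210)) (tt N66647 (iv0 F204836)) (tt N97522 (iv2 F417238)) (tt N32294 F176504) (tt N77355 F361988) (tt N32293 (iv5 D113291)) (tt N97523 D200620) (tt N77349 (iv7 F361983)))
theorem Q60479 : ∀ i, i < 60479 → P i := stepQ 60478 Q60478 (allL N60478 (tt N46512 F341641) (tt N80041 F354042) (tt N80040 F348165) (tt N32295 F176505) (tt N32301 F176506) (tt N69293 (iv5 F341892)) (tt N32293 (iv6 D113292)) (tt N69292 (iv7 F338315)))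
theorem Q60480 : ∀ i, i < 60480 → P i := stepQ 60479 Q60479 (allL N60479 (tt N63248 F344957) (tt N63211 F344958) (tt N59463 F176507) (tt N97523 (iv3 F417244)) (tt N77806 (iv4 F245017)) (tt N37536 F344959) (tt N32294 (iv6 D113293)) (tt N63246 F344960))
theorem Q60481 : ∀ i, i < 60481 → P i := stepQ 60480 Q60480 (allL N60480 (tt N68407 F341893) (tt N75604 (iv0 F363238)) (tt N59464 F176508) (tt N69293 F341894) (tt N37537 F341895) (tt N32295 (iv5 D113294)) (tt N37536 F341896) (tt N69277 F341897))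
theorem Q60482 : ∀ i, i < 60482 → P i := stepQ 60481 Q60481 (allL N60481 (tt N74660 F408442) (tt N97524 D200621) (tt N72902 (iv2 F358912)) (tt N32297 (iv3 D113296)) (tt N60696 F176727) (tt N97525 D200622) (tt N97526 D200623) (tt N72906 (iv7 F358900)))
theorem Q60483 : ∀ i, i < 60483 → P i := stepQ 60482 Q60482 (allL N60482 (tt N97527 D200624) (tt N81524 (iv0 F353620)) (tt N92048 (iv2 F395533)) (tt N79286 (iv3 F358899)) (tt N32297 (iv4 D113297)) (tt N76114 (iv5 F353600)) (tt N97528 D200625) (tt N76113 F353641))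
theorem Q60484 : ∀ i, i < 60484 → P i := stepQ 60483 Q60483 (allL N60483 (tt N60558 F231076) (tt N35839 F231077) (tt N60560 (iv2 F358947)) (tt N97525 (iv3 F417251)) (tt N97529 D200626) (tt N32297 (iv5 D113298)) (tt N97530 D200627) (tt N60559 F358943))
theorem Q60485 : ∀ i, i < 60485 → P i := stepQ 60484 Q60484 (allL N60484 (tt N80159 (iv1 F395542)) (tt N79719 F395541) (tt N92049 (iv2 F395537)) (tt N97526 (iv3 F417255)) (tt N97528 (iv4 F417268)) (tt N97531 D200628) (tt N32297 (iv6 D113299)) (tt N97429 (iv7 F416861)))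
theorem Q60486 : ∀ i, i < 60486 → P i := stepQ 60485 Q60485 (allL N60485 (tt N95785 F409635) (tt N95789 F409663) (tt N97532 D200629) (tt N32298 (iv3 D113301)) (tt N65424 (iv4 F366129)) (tt N97533 D200630) (tt N97534 D200631) (tt N92047 (iv7 F395529)))
theorem Q60487 : ∀ i, i < 60487 → P i := stepQ 60486 Q60486 (allL N60486 (tt N81524 F353637) (tt N97527 F417264) (tt N76113 F353636) (tt N59972 (iv3 F176511)) (tt N32298 (iv4 D113302)) (tt N63939 (iv5 F353609)) (tt N66833 F341686) (tt N92048 (iv7 F395534)))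
theorem Q60488 : ∀ i, i < 60488 → P i := stepQ 60487 Q60487 (allL N60487 (tt N35839 F338357) (tt N60558 F338358) (tt N60559 F358948) (tt N97533 (iv3 F417283)) (tt N97535 D200632) (tt N32298 (iv5 D113303)) (tt N79888 F359050) (tt N60560 F358946))
theorem Q60489 : ∀ i, i < 60489 → P i := stepQ 60488 Q60488 (allL N60488 (tt N74650 F358949) (tt N64102 F358950) (tt N76121 F358951) (tt N97534 (iv3 F417288)) (tt N66833 F358952) (tt N45386 F358953) (tt N32298 (iv6 D113304)) (tt N78742 F358954))
theorem Q60490 : ∀ i, i < 60490 → P i := stepQ 60489 Q60489 (allL N60489 (tt N65949 (iv1 F359804)) (tt N65945 (iv0 F358830)) (tt N32300 F176512) (tt N66006 (iv3 F203056)) (tt N97536 D200633) (tt N32299 (iv5 D113305)) (tt N97537 D200634) (tt N66002 (iv7 F203039)))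
theorem Q60491 : ∀ i, i < 60491 → P i := stepQ 60490 Q60490 (allL N60490 (tt N97538 D200635) (tt N97421 F416827) (tt N32301 F176513) (tt N92057 (iv3 F395576)) (tt N80040 (iv4 F348166)) (tt N97539 D200636) (tt N32299 (iv6 D113306)) (tt N97540 D200637))
theorem Q60492 : ∀ i, i < 60492 → P i := stepQ 60491 Q60491 (allL N60491 (tt N66002 (iv1 F203040)) (tt N32300 (iv0 D113307)) (tt N65949 (iv2 F352269)) (tt N97541 D200638) (tt N97542 D200639) (tt N32332 F351739) (tt N97543 D200640) (tt N65945 (iv7 F359801)))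
theorem Q60493 : ∀ i, i < 60493 → P i := stepQ 60492 Q60492 (allL N60492 (tt N32300 (iv1 D113308)) (tt N66002 F203042) (tt N65945 F359802) (tt N97544 D200641) (tt N97545 D200642) (tt N32333 F204837) (tt N97546 D200643) (tt N65949 F352268))
theorem Q60494 : ∀ i, i < 60494 → P i := stepQ 60493 Q60493 (allL N60493 (tt N56266 F377850) (tt N97547 D200644) (tt N97536 (iv2 F417295)) (tt N32541 F176514) (tt N32300 (iv4 D113309)) (tt N97548 D200645) (tt N91031 (iv6 F391666)) (tt N66003 (iv7 F203044)))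
theorem Q60495 : ∀ i, i < 60495 → P i := stepQ 60494 Q60494 (allL N60494 (tt N68777 (iv1 F354357)) (tt N85991 F374774) (tt N97537 (iv2 F417300)) (tt N32302 F176515) (tt N91031 (iv4 F391665)) (tt N97549 D200646) (tt N32300 (iv6 D113310)) (tt N97550 D200647))
theorem Q60496 : ∀ i, i < 60496 → P i := stepQ 60495 Q60495 (allL N60495 (tt N97540 (iv1 F417314)) (tt N32301 (iv0 D113311)) (tt N97538 F417305) (tt N81675 (iv3 F365985)) (tt N81526 (iv4 F354043)) (tt N92020 (iv5 F395398)) (tt N81672 F365984) (tt N97421 F416825))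
theorem Q60497 : ∀ i, i < 60497 → P i := stepQ 60496 Q60496 (allL N60496 (tt N32301 (iv1 D113312)) (tt N97540 F417313) (tt N97421 (iv2 F416823)) (tt N65155 (iv3 F341642)) (tt N81527 F363256) (tt N97551 D200648) (tt N65552 (iv6 F363257)) (tt N97538 (iv7 F417308)))
theorem Q60498 : ∀ i, i < 60498 → P i := stepQ 60497 Q60497 (allL N60497 (tt N66056 (iv1 F417946)) (tt N90416 (iv0 F389568)) (tt N97539 (iv2 F417310)) (tt N32304 F176516) (tt N97552 D200650) (tt N32301 (iv5 D113313)) (tt N97549 (iv6 F417346)) (tt N97553 D200651))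
theorem Q60499 : ∀ i, i < 60499 → P i := stepQ 60498 Q60498 (allL N60498 (tt N97421 F416826) (tt N97538 F417309) (tt N97540 (iv2 F417311)) (tt N32305 F176517) (tt N69292 F348163) (tt N97553 (iv5 F417358)) (tt N69294 (iv6 F361610)) (tt N32301 (iv7 D113314)))
theorem Q60500 : ∀ i, i < 60500 → P i := stepQ 60499 Q60499 (allL N60499 (tt N66009 (iv1 F203071)) (tt N32302 (iv0 D113315)) (tt N60740 (iv2 F395848)) (tt N92178 F396107) (tt N55700 F395842) (tt N92177 (iv5 F396108)) (tt N97554 D200652) (tt N60744 F395850))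
theorem Q60501 : ∀ i, i < 60501 → P i := stepQ 60500 Q60500 (allL N60500 (tt N32302 (iv1 D113316)) (tt N66009 F203070) (tt N60744 (iv2 F395849)) (tt N97555 D200653) (tt N55701 F362902) (tt N97556 D200654) (tt N97557 D200655) (tt N60740 (iv7 F395847)))
theorem Q60502 : ∀ i, i < 60502 → P i := stepQ 60501 Q60501 (allL N60501 (tt N92663 (iv1 F419198)) (tt N97558 D200657) (tt N66008 (iv2 F203064)) (tt N97549 (iv3 F417345)) (tt N97559 D200658) (tt N32302 (iv5 D113317)) (tt N32304 F176518) (tt N97560 D200659))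
theorem Q60503 : ∀ i, i < 60503 → P i := stepQ 60502 Q60502 (allL N60502 (tt N60744 (iv1 F395857)) (tt N60740 (iv0 F395858)) (tt N66009 (iv2 F203066)) (tt N97550 (iv3 F417347)) (tt N32546 F176519) (tt N97560 (iv5 F417381)) (tt N66005 (iv6 F203051)) (tt N32302 (iv7 D113318)))
theorem Q60504 : ∀ i, i < 60504 → P i := stepQ 60503 Q60503 (allL N60503 (tt N97561 D200660) (tt N97487 F417063) (tt N65122 (iv2 F366000)) (tt N32303 (iv3 D113319)) (tt N91876 F394795) (tt N97562 D200661) (tt N67300 F402648) (tt N60773 (iv7 F176858)))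
theorem Q60505 : ∀ i, i < 60505 → P i := stepQ 60504 Q60504 (allL N60504 (tt N97005 (iv1 F414992)) (tt N97004 F414987) (tt N58896 F176520) (tt N97562 (iv3 F417387)) (tt N97563 D200662) (tt N32303 (iv5 D113320)) (tt N97564 D200663) (tt N60774 (iv7 F176860)))
theorem Q60506 : ∀ i, i < 60506 → P i := stepQ 60505 Q60505 (allL N60505 (tt N58835 (iv1 F176524)) (tt N58834 (iv0 F176525)) (tt N58837 F176521) (tt N67300 F402647) (tt N35608 F176522) (tt N60537 (iv5 F176553)) (tt N32303 (iv6 D113321)) (tt N35605 F176523))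
theorem Q60507 : ∀ i, i < 60507 → P i := stepQ 60506 Q60506 (allL N60506 (tt N92065 (iv1 F395601)) (tt N32304 (iv0 D113322)) (tt N92062 (iv2 F395588)) (tt N36276 F395589) (tt N75092 F395590) (tt N93868 (iv5 F402215)) (tt N36275 F395591) (tt N92063 (iv7 F395593)))
theorem Q60508 : ∀ i, i < 60508 → P i := stepQ 60507 Q60507 (allL N60507 (tt N32304 (iv1 D113323)) (tt N92065 F395600) (tt N92063 (iv2 F395595)) (tt N65118 F365868) (tt N97565 D200664) (tt N65117 (iv5 F326810)) (tt N93182 (iv6 F399840)) (tt N92062 F395586))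
theorem Q60509 : ∀ i, i < 60509 → P i := stepQ 60508 Q60508 (allL N60508 (tt N97566 D200665) (tt N97567 D200666) (tt N92064 (iv2 F395597)) (tt N97568 D200667) (tt N32304 (iv4 D113324)) (tt N97569 D200668) (tt N97559 (iv6 F417380)) (tt N97570 D200669))
theorem Q60510 : ∀ i, i < 60510 → P i := stepQ 60509 Q60509 (allL N60509 (tt N92063 (iv1 F395592)) (tt N92062 F395587) (tt N92065 (iv2 F395598)) (tt N97553 (iv3 F417357)) (tt N97570 (iv4 F417411)) (tt N32305 F176526) (tt N97571 D200670) (tt N32304 (iv7 D113325)))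
theorem Q60511 : ∀ i, i < 60511 → P i := stepQ 60510 Q60510 (allL N60510 (tt N35314 F352186) (tt N97480 (iv0 F417027)) (tt N90422 (iv2 F389588)) (tt N32306 (iv3 D113326)) (tt N60100 F176527) (tt N52976 F352187) (tt N81213 (iv6 F358034)) (tt N65577 F202061))
theorem Q60512 : ∀ i, i < 60512 → P i := stepQ 60511 Q60511 (allL N60511 (tt N97572 D200671) (tt N36829 F352201) (tt N66602 (iv2 F204682)) (tt N52976 (iv3 F352188)) (tt N97573 D200672) (tt N32306 (iv5 D113327)) (tt N97574 D200673) (tt N65579 (iv7 F202063)))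
theorem Q60513 : ∀ i, i < 60513 → P i := stepQ 60512 Q60512 (allL N60512 (tt N65565 F202046) (tt N65564 (iv0 F202040)) (tt N65572 (iv2 F202051)) (tt N81213 F358035) (tt N32308 F176528) (tt N60598 F176627) (tt N32306 (iv6 D113328)) (tt N65497 (iv7 F201875)))
theorem Q60514 : ∀ i, i < 60514 → P i := stepQ 60513 Q60513 (allL N60513 (tt N56832 F176533) (tt N56831 F176532) (tt N56834 F176529) (tt N97575 D200674) (tt N32307 (iv4 D113329)) (tt N74563 (iv5 F228359)) (tt N56847 F176530) (tt N35556 F176531))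
theorem Q60515 : ∀ i, i < 60515 → P i := stepQ 60514 Q60514 (allL N60514 (tt N87727 (iv1 F380268)) (tt N87730 (iv0 F380275)) (tt N55169 F359833) (tt N32309 (iv3 D113330)) (tt N55164 (iv4 F321136)) (tt N97576 D200675) (tt N59701 F176535) (tt N66601 (iv7 F204681)))
theorem Q60516 : ∀ i, i < 60516 → P i := stepQ 60515 Q60515 (allL N60515 (tt N36829 F352200) (tt N97572 F417419) (tt N65579 (iv2 F202062)) (tt N97576 (iv3 F417438)) (tt N97577 D200676) (tt N32309 (iv5 D113331)) (tt N97578 D200677) (tt N66602 (iv7 F204683)))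
theorem Q60517 : ∀ i, i < 60517 → P i := stepQ 60516 Q60516 (allL N60516 (tt N56225 F377902) (tt N97388 (iv0 F416660)) (tt N97579 D200678) (tt N32310 (iv3 D113333)) (tt N60610 F176639) (tt N97505 (iv5 F417145)) (tt N67294 (iv6 F354371)) (tt N65965 (iv7 F355951)))
theorem Q60518 : ∀ i, i < 60518 → P i := stepQ 60517 Q60517 (allL N60517 (tt N59626 F176537) (tt N58721 (iv0 F176538)) (tt N59566 (iv2 F355966)) (tt N97580 D200679) (tt N32310 (iv4 D113334)) (tt N97581 D200680) (tt N97582 D200681) (tt N59625 (iv7 F355987)))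
theorem Q60519 : ∀ i, i < 60519 → P i := stepQ 60518 Q60518 (allL N60518 (tt N37186 F354367) (tt N37202 F354368) (tt N65969 F355969) (tt N67294 F354369) (tt N97582 (iv4 F417457)) (tt N67037 F354370) (tt N32310 (iv6 D113336)) (tt N95024 (iv7 F406702)))
theorem Q60520 : ∀ i, i < 60520 → P i := stepQ 60519 Q60519 (allL N60519 (tt N65981 (iv1 F203211)) (tt N59151 (iv0 F341781)) (tt N65980 F355994) (tt N32311 (iv3 D113338)) (tt N97583 D200682) (tt N92893 (iv5 F398680)) (tt N95025 (iv6 F406705)) (tt N65967 F355958))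
theorem Q60521 : ∀ i, i < 60521 → P i := stepQ 60520 Q60520 (allL N60520 (tt N58721 F203209) (tt N59626 (iv0 F203212)) (tt N59625 F355988) (tt N59368 F176540) (tt N32311 (iv4 D113339)) (tt N97584 D200683) (tt N94736 F405746) (tt N59566 F355959))
theorem Q60522 : ∀ i, i < 60522 → P i := stepQ 60521 Q60521 (allL N60521 (tt N46549 F349669) (tt N60452 (iv0 F219099)) (tt N32313 F176541) (tt N65951 (iv3 F202950)) (tt N70990 (iv4 F219143)) (tt N32312 (iv5 D113342)) (tt N97585 D200684) (tt N65970 (iv7 F202993)))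
theorem Q60523 : ∀ i, i < 60523 → P i := stepQ 60522 Q60522 (allL N60522 (tt N97586 D200685) (tt N97587 D200686) (tt N32314 F176542) (tt N65952 (iv3 F202955)) (tt N59504 F176543) (tt N97588 D200687) (tt N32312 (iv6 D113343)) (tt N97589 D200688))
theorem Q60524 : ∀ i, i < 60524 → P i := stepQ 60523 Q60523 (allL N60523 (tt N32313 (iv1 D113345)) (tt N65970 F202994) (tt N60452 (iv2 F349676)) (tt N36768 F345917) (tt N69734 F345918) (tt N55632 F219127) (tt N36767 F345919) (tt N46549 F345920))
theorem Q60525 : ∀ i, i < 60525 → P i := stepQ 60524 Q60524 (allL N60524 (tt N97590 D200689) (tt N97591 D200690) (tt N97585 (iv2 F417473)) (tt N32315 F176544) (tt N50962 F176545) (tt N97592 D200691) (tt N32313 (iv6 D113346)) (tt N93092 (iv7 F399450)))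
theorem Q60526 : ∀ i, i < 60526 → P i := stepQ 60525 Q60525 (allL N60525 (tt N97589 (iv1 F417500)) (tt N32314 (iv0 D113347)) (tt N97586 F417487) (tt N74645 (iv3 F406046)) (tt N97593 D200692) (tt N74644 F406044) (tt N97594 D200693) (tt N97587 F417486))
theorem Q60527 : ∀ i, i < 60527 → P i := stepQ 60526 Q60526 (allL N60526 (tt N32314 (iv1 D113348)) (tt N97589 F417499) (tt N97587 (iv2 F417483)) (tt N82534 (iv3 F411040)) (tt N97595 D200694) (tt N81737 F362140) (tt N81738 (iv6 F345928)) (tt N97586 (iv7 F417488)))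
theorem Q60528 : ∀ i, i < 60528 → P i := stepQ 60527 Q60527 (allL N60527 (tt N35662 F360478) (tt N97596 D200695) (tt N97588 (iv2 F417489)) (tt N32318 F176546) (tt N97597 D200696) (tt N32314 (iv5 D113349)) (tt N97592 (iv6 F417512)) (tt N97598 D200697))
theorem Q60529 : ∀ i, i < 60529 → P i := stepQ 60528 Q60528 (allL N60528 (tt N97587 (iv1 F417480)) (tt N97586 (iv0 F417479)) (tt N97589 (iv2 F417495)) (tt N32319 F176547) (tt N59512 F176548) (tt N97598 (iv5 F417543)) (tt N65976 (iv6 F203007)) (tt N32314 (iv7 D113350)))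
theorem Q60530 : ∀ i, i < 60530 → P i := stepQ 60529 Q60529 (allL N60529 (tt N65961 (iv1 F202979)) (tt N32315 (iv0 D113351)) (tt N60828 (iv2 F178280)) (tt N97599 D200698) (tt N36277 F178281) (tt N97600 D200699) (tt N97601 D200700) (tt N60832 F178282))
theorem Q60531 : ∀ i, i < 60531 → P i := stepQ 60530 Q60530 (allL N60530 (tt N32315 (iv1 D113352)) (tt N65961 F202978) (tt N60832 F178279) (tt N97602 D200701) (tt N36278 F176549) (tt N97603 D200702) (tt N92242 F396436) (tt N60828 (iv7 F178275)))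
theorem Q60532 : ∀ i, i < 60532 → P i := stepQ 60531 Q60531 (allL N60531 (tt N67422 F362303) (tt N67200 (iv0 F365653)) (tt N65960 (iv2 F202973)) (tt N97592 (iv3 F417511)) (tt N97604 D200703) (tt N32315 (iv5 D113353)) (tt N32318 F176550) (tt N67420 (iv7 F341622)))
theorem Q60533 : ∀ i, i < 60533 → P i := stepQ 60532 Q60532 (allL N60532 (tt N60832 (iv1 F177002)) (tt N60828 (iv0 F176997)) (tt N65961 (iv2 F202975)) (tt N93092 (iv3 F399448)) (tt N32502 F176551) (tt N67420 F341621) (tt N65978 (iv6 F203013)) (tt N32315 (iv7 D113354)))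
theorem Q60534 : ∀ i, i < 60534 → P i := stepQ 60533 Q60533 (allL N60533 (tt N97605 D200704) (tt N97606 D200705) (tt N36862 F328357) (tt N52373 (iv3 F360767)) (tt N67175 F328358) (tt N32316 (iv5 D113355)) (tt N36717 F328359) (tt N65931 (iv7 F202903)))
theorem Q60535 : ∀ i, i < 60535 → P i := stepQ 60534 Q60534 (allL N60534 (tt N56223 (iv1 F355896)) (tt N80444 F343936) (tt N60599 F343935) (tt N32317 (iv3 D113356)) (tt N55652 (iv4 F332907)) (tt N97607 D200706) (tt N91956 F395128) (tt N65929 (iv7 F202898)))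
theorem Q60536 : ∀ i, i < 60536 → P i := stepQ 60535 Q60535 (allL N60535 (tt N97606 (iv1 F417567)) (tt N97605 F417564) (tt N65931 (iv2 F202902)) (tt N97607 (iv3 F417574)) (tt N67302 F328360) (tt N32317 (iv5 D113357)) (tt N97608 D200707) (tt N36862 F328361))
theorem Q60537 : ∀ i, i < 60537 → P i := stepQ 60536 Q60536 (allL N60536 (tt N80412 (iv1 F362937)) (tt N66017 F203080) (tt N65932 (iv2 F202904)) (tt N91956 (iv3 F395123)) (tt N41114 F176552) (tt N91955 F395120) (tt N32317 (iv6 D113358)) (tt N80413 (iv7 F362936)))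
theorem Q60538 : ∀ i, i < 60538 → P i := stepQ 60537 Q60537 (allL N60537 (tt N32318 (iv1 D113359)) (tt N65964 F202987) (tt N65962 F202983) (tt N97609 D200708) (tt N80444 (iv4 F343937)) (tt N60505 F176553) (tt N97610 D200709) (tt N65563 (iv7 F202035)))
theorem Q60539 : ∀ i, i < 60539 → P i := stepQ 60538 Q60538 (allL N60538 (tt N92087 F395688) (tt N97611 D200710) (tt N65963 (iv2 F202984)) (tt N97612 D200711) (tt N32318 (iv4 D113360)) (tt N97613 D200712) (tt N97604 (iv6 F417557)) (tt N97614 D200713))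
theorem Q60540 : ∀ i, i < 60540 → P i := stepQ 60539 Q60539 (allL N60539 (tt N65962 (iv1 F202980)) (tt N65563 (iv0 F202036)) (tt N65964 (iv2 F202985)) (tt N97598 (iv3 F417541)) (tt N97614 (iv4 F417608)) (tt N32319 F176554) (tt N97615 D200714) (tt N32318 (iv7 D113361)))
theorem Q60541 : ∀ i, i < 60541 → P i := stepQ 60540 Q60540 (allL N60540 (tt N92095 (iv1 F435758)) (tt N92085 (iv0 F435757)) (tt N92093 F395710) (tt N32320 (iv3 D113362)) (tt N95539 (iv4 F408551)) (tt N97616 D200717) (tt N65715 (iv6 F202300)) (tt N92069 (iv7 F395614)))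
theorem Q60542 : ∀ i, i < 60542 → P i := stepQ 60541 Q60541 (allL N60541 (tt N93968 (iv1 F402645)) (tt N47750 F348389) (tt N36755 F364825) (tt N97616 (iv3 F417611)) (tt N67218 F364826) (tt N32320 (iv5 D113363)) (tt N36697 F364827) (tt N92070 (iv7 F395616)))
theorem Q60543 : ∀ i, i < 60543 → P i := stepQ 60542 Q60542 (allL N60542 (tt N71830 F220699) (tt N95818 (iv0 F409786)) (tt N92068 (iv2 F395605)) (tt N90547 (iv3 F390033)) (tt N32321 (iv4 D113364)) (tt N97617 D200718) (tt N97618 D200719) (tt N72140 F221458))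
theorem Q60544 : ∀ i, i < 60544 → P i := stepQ 60543 Q60543 (allL N60543 (tt N56936 F176558) (tt N69468 (iv0 F214445)) (tt N70715 (iv2 F218171)) (tt N38974 F176555) (tt N97618 (iv4 F417620)) (tt N38486 F176556) (tt N32321 (iv6 D113365)) (tt N60351 F176557))
theorem Q60545 : ∀ i, i < 60545 → P i := stepQ 60544 Q60544 (allL N60544 (tt N32369 F355856) (tt N81816 F358033) (tt N80734 (iv2 F345733)) (tt N32322 (iv3 D113366)) (tt N78565 (iv4 F345734)) (tt N97619 D200720) (tt N52836 F345732) (tt N79762 (iv7 F345735)))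
theorem Q60546 : ∀ i, i < 60546 → P i := stepQ 60545 Q60545 (allL N60545 (tt N47750 F348390) (tt N93968 F402644) (tt N92070 (iv2 F395615)) (tt N97619 (iv3 F417624)) (tt N67476 F364831) (tt N32322 (iv5 D113367)) (tt N97620 D200721) (tt N36755 F364832))
theorem Q60547 : ∀ i, i < 60547 → P i := stepQ 60546 Q60546 (allL N60546 (tt N94448 (iv1 F404517)) (tt N65831 F202448) (tt N92071 (iv2 F395620)) (tt N52836 (iv3 F345724)) (tt N32324 F176560) (tt N65649 (iv5 F202175)) (tt N32322 (iv6 D113368)) (tt N65714 (iv7 F202297)))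
theorem Q60548 : ∀ i, i < 60548 → P i := stepQ 60547 Q60547 (allL N60547 (tt N95818 (iv1 F409787)) (tt N71830 F220700) (tt N72140 (iv2 F221456)) (tt N97621 D200722) (tt N32323 (iv4 D113369)) (tt N97622 D200723) (tt N41084 F176561) (tt N92068 (iv7 F395606)))
theorem Q60549 : ∀ i, i < 60549 → P i := stepQ 60548 Q60548 (allL N60548 (tt N35825 F176564) (tt N39523 (iv0 F176565)) (tt N39525 F176562) (tt N84655 (iv3 F370064)) (tt N32325 (iv4 D113370)) (tt N97623 D200724) (tt N71348 (iv6 F219903)) (tt N39515 F176563))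
theorem Q60550 : ∀ i, i < 60550 → P i := stepQ 60549 Q60549 (allL N60549 (tt N44846 F356136) (tt N80926 F356137) (tt N97624 D200725) (tt N32326 (iv3 D113371)) (tt N53901 F356138) (tt N45690 F356139) (tt N38171 F176567) (tt N93911 (iv7 F402400)))
theorem Q60551 : ∀ i, i < 60551 → P i := stepQ 60550 Q60550 (allL N60550 (tt N96819 (iv1 F414112)) (tt N96818 (iv0 F414106)) (tt N68083 (iv2 F209134)) (tt N45690 F357440) (tt N97625 D200726) (tt N32326 (iv5 D113372)) (tt N97626 D200727) (tt N93912 (iv7 F402406)))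
theorem Q60552 : ∀ i, i < 60552 → P i := stepQ 60551 Q60551 (allL N60551 (tt N97627 D200728) (tt N97628 D200729) (tt N59532 F176573) (tt N55589 (iv3 F350800)) (tt N71737 (iv4 F220436)) (tt N82015 F360224) (tt N32329 (iv6 D113376)) (tt N85667 (iv7 F373444)))
theorem Q60553 : ∀ i, i < 60553 → P i := stepQ 60552 Q60552 (allL N60552 (tt N46169 F327432) (tt N46173 F327433) (tt N59533 F176574) (tt N34659 F327434) (tt N79778 F327435) (tt N32330 (iv5 D113377)) (tt N82015 (iv6 F360225)) (tt N45807 F327436))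
theorem Q60554 : ∀ i, i < 60554 → P i := stepQ 60553 Q60553 (allL N60553 (tt N58681 F244987) (tt N65987 F358841) (tt N58265 F358836) (tt N32332 (iv3 D113381)) (tt N57917 F176585) (tt N97541 (iv5 F417316)) (tt N96343 (iv6 F412150)) (tt N58268 (iv7 F352261)))
theorem Q60555 : ∀ i, i < 60555 → P i := stepQ 60554 Q60554 (allL N60554 (tt N97629 D200730) (tt N97369 (iv0 F416549)) (tt N65948 F359768) (tt N97630 D200731) (tt N32332 (iv4 D113382)) (tt N81522 (iv5 F353638)) (tt N97395 F416693) (tt N65944 (iv7 F359769)))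
theorem Q60556 : ∀ i, i < 60556 → P i := stepQ 60555 Q60555 (allL N60555 (tt N97391 (iv1 F416679)) (tt N56220 (iv0 F395685)) (tt N97387 F416653) (tt N32333 (iv3 D113386)) (tt N60629 (iv4 F176670)) (tt N97544 (iv5 F417326)) (tt N67266 (iv6 F342144)) (tt N65947 F352266))
theorem Q60557 : ∀ i, i < 60557 → P i := stepQ 60556 Q60556 (allL N60556 (tt N97369 F416551) (tt N97629 F417678) (tt N65944 (iv2 F359770)) (tt N48356 F324586) (tt N32333 (iv4 D113387)) (tt N81523 F359773) (tt N68509 F359771) (tt N65948 F352267))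
theorem Q60558 : ∀ i, i < 60558 → P i := stepQ 60557 Q60557 (allL N60557 (tt N66015 F359780) (tt N97631 D200732) (tt N65946 F359777) (tt N67266 F359778) (tt N68509 (iv4 F359772)) (tt N67264 F359779) (tt N32333 (iv6 D113389)) (tt N97435 (iv7 F416899)))
theorem Q60559 : ∀ i, i < 60559 → P i := stepQ 60558 Q60558 (allL N60558 (tt N60487 (iv1 F338358)) (tt N60483 (iv0 F231076)) (tt N32335 F176587) (tt N65970 (iv3 F202992)) (tt N74915 (iv4 F229792)) (tt N32334 (iv5 D113390)) (tt N93093 (iv6 F399454)) (tt N65951 (iv7 F202951)))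
theorem Q60560 : ∀ i, i < 60560 → P i := stepQ 60559 Q60559 (allL N60559 (tt N65951 (iv1 F202953)) (tt N32335 (iv0 D113392)) (tt N60487 (iv2 F358948)) (tt N97632 D200733) (tt N70805 F359051) (tt N55622 (iv5 F231075)) (tt N70804 (iv6 F358955)) (tt N60483 (iv7 F358943)))
theorem Q60561 : ∀ i, i < 60561 → P i := stepQ 60560 Q60560 (allL N60560 (tt N32335 (iv1 D113393)) (tt N65951 F202952) (tt N60483 F358947) (tt N97633 D200734) (tt N97634 D200735) (tt N55623 F176589) (tt N97635 D200736) (tt N60487 (iv7 F358946)))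
theorem Q60562 : ∀ i, i < 60562 → P i := stepQ 60561 Q60561 (allL N60561 (tt N88248 F382345) (tt N88250 F382349) (tt N93093 (iv2 F399452)) (tt N32337 F176590) (tt N74917 (iv4 F229795)) (tt N97636 D200737) (tt N32335 (iv6 D113394)) (tt N97637 D200738))
theorem Q60563 : ∀ i, i < 60563 → P i := stepQ 60562 Q60562 (allL N60562 (tt N45883 F328085) (tt N32336 (iv0 D113395)) (tt N64144 F328086) (tt N80212 F328087) (tt N48361 F328088) (tt N88324 (iv5 F382597)) (tt N97638 D200739) (tt N80233 F328089))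
theorem Q60564 : ∀ i, i < 60564 → P i := stepQ 60563 Q60563 (allL N60563 (tt N32336 (iv1 D113396)) (tt N45883 F328090) (tt N80233 F328091) (tt N97639 D200740) (tt N45908 F328092) (tt N79699 F358959) (tt N78744 (iv6 F358956)) (tt N64144 F328093))
theorem Q60565 : ∀ i, i < 60565 → P i := stepQ 60564 Q60564 (allL N60564 (tt N97640 D200741) (tt N68797 (iv0 F358967)) (tt N80234 F328096) (tt N32340 F176591) (tt N97641 D200742) (tt N32336 (iv5 D113397)) (tt N97636 (iv6 F417716)) (tt N80236 F328097))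
theorem Q60566 : ∀ i, i < 60566 → P i := stepQ 60565 Q60565 (allL N60565 (tt N65978 (iv1 F203016)) (tt N32337 (iv0 D113399)) (tt N60810 F343628) (tt N97642 D200743) (tt N55706 F343647) (tt N37778 F341619) (tt N56404 F341620) (tt N60814 (iv7 F343641)))
theorem Q60567 : ∀ i, i < 60567 → P i := stepQ 60566 Q60566 (allL N60566 (tt N32337 (iv1 D113400)) (tt N65978 F203015) (tt N60814 (iv2 F343639)) (tt N93015 F399129) (tt N55707 (iv4 F343643)) (tt N88252 (iv5 F382352)) (tt N97643 D200744) (tt N60810 F343635))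
theorem Q60568 : ∀ i, i < 60568 → P i := stepQ 60567 Q60567 (allL N60567 (tt N97644 D200745) (tt N97645 D200746) (tt N65977 (iv2 F203009)) (tt N97636 (iv3 F417715)) (tt N92975 (iv4 F398987)) (tt N32337 (iv5 D113401)) (tt N32340 F176593) (tt N97646 D200747))
theorem Q60569 : ∀ i, i < 60569 → P i := stepQ 60568 Q60568 (allL N60568 (tt N60814 (iv1 F343638)) (tt N60810 (iv0 F343630)) (tt N65978 (iv2 F203011)) (tt N97637 (iv3 F417720)) (tt N32491 F176594) (tt N97646 (iv5 F417755)) (tt N65961 (iv6 F202977)) (tt N32337 (iv7 D113402)))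
theorem Q60570 : ∀ i, i < 60570 → P i := stepQ 60569 Q60569 (allL N60569 (tt N93249 (iv1 F400117)) (tt N56228 F364790) (tt N52351 F364788) (tt N32338 (iv3 D113403)) (tt N52364 (iv4 F364789)) (tt N97647 D200748) (tt N97648 D200749) (tt N65942 (iv7 F202938)))
theorem Q60571 : ∀ i, i < 60571 → P i := stepQ 60570 Q60570 (allL N60570 (tt N88302 (iv1 F382514)) (tt N65554 (iv0 F202015)) (tt N65941 (iv2 F202928)) (tt N97647 (iv3 F417758)) (tt N57284 F347538) (tt N32338 (iv5 D113404)) (tt N56471 (iv6 F347536)) (tt N65943 (iv7 F202940)))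
theorem Q60572 : ∀ i, i < 60572 → P i := stepQ 60571 Q60571 (allL N60571 (tt N66018 F203087) (tt N93420 (iv0 F400679)) (tt N65117 (iv2 F326808)) (tt N97648 (iv3 F417761)) (tt N41473 F176595) (tt N92063 F395594) (tt N32338 (iv6 D113405)) (tt N93868 (iv7 F402214)))
theorem Q60573 : ∀ i, i < 60573 → P i := stepQ 60572 Q60572 (allL N60572 (tt N65554 (iv1 F202016)) (tt N88302 (iv0 F382513)) (tt N65943 (iv2 F202939)) (tt N52692 F327063) (tt N95894 (iv4 F410127)) (tt N32339 (iv5 D113406)) (tt N85686 F373516) (tt N65941 (iv7 F202929)))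
theorem Q60574 : ∀ i, i < 60574 → P i := stepQ 60573 Q60573 (allL N60573 (tt N56546 (iv1 F328932)) (tt N60023 (iv0 F176599)) (tt N65979 (iv2 F203018)) (tt N80236 (iv3 F365683)) (tt N56612 (iv4 F343626)) (tt N32341 F176598) (tt N97649 D200750) (tt N32340 (iv7 D113409)))
theorem Q60575 : ∀ i, i < 60575 → P i := stepQ 60574 Q60574 (allL N60574 (tt N45866 F361882) (tt N32374 F361883) (tt N80214 F358050) (tt N32342 (iv3 D113410)) (tt N65875 (iv4 F202702)) (tt N88373 (iv5 F382780)) (tt N88665 F383791) (tt N80215 F358046))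
theorem Q60576 : ∀ i, i < 60576 → P i := stepQ 60575 Q60575 (allL N60575 (tt N65610 (iv1 F202091)) (tt N65505 (iv0 F201900)) (tt N65607 F202084) (tt N88373 F382781) (tt N56478 (iv4 F332817)) (tt N32342 (iv5 D113411)) (tt N56477 F332815) (tt N65608 (iv7 F202086)))
theorem Q60577 : ∀ i, i < 60577 → P i := stepQ 60576 Q60576 (allL N60576 (tt N65825 F202436) (tt N67390 F352199) (tt N92072 (iv2 F395623)) (tt N88665 (iv3 F383788)) (tt N32344 F176600) (tt N66604 F204685) (tt N32342 (iv6 D113412)) (tt N65683 (iv7 F202233)))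
theorem Q60578 : ∀ i, i < 60578 → P i := stepQ 60577 Q60577 (allL N60577 (tt N92096 F395718) (tt N80220 (iv0 F360324)) (tt N81607 (iv2 F361878)) (tt N32345 (iv3 D113413)) (tt N59929 F176601) (tt N93215 (iv5 F399998)) (tt N62667 (iv6 F346880)) (tt N81605 (iv7 F346869)))
theorem Q60579 : ∀ i, i < 60579 → P i := stepQ 60578 Q60578 (allL N60578 (tt N65505 (iv1 F201901)) (tt N65610 F202090) (tt N65608 F202088) (tt N93215 (iv3 F399996)) (tt N93195 (iv4 F399913)) (tt N32345 (iv5 D113414)) (tt N93214 F399994) (tt N65607 F202085))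
theorem Q60580 : ∀ i, i < 60580 → P i := stepQ 60579 Q60579 (allL N60579 (tt N32371 (iv1 F176606)) (tt N35906 (iv0 F176604)) (tt N59499 (iv2 F204651)) (tt N32347 (iv3 D113416)) (tt N59353 F176603) (tt N39808 F176605) (tt N78186 F348763) (tt N59502 F204626))
theorem Q60581 : ∀ i, i < 60581 → P i := stepQ 60580 Q60580 (allL N60580 (tt N58691 F176607) (tt N58688 F204666) (tt N58148 F204664) (tt N56860 (iv3 F361198)) (tt N32347 (iv4 D113417)) (tt N83269 (iv5 F361217)) (tt N56859 F361216) (tt N58687 F204627))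
theorem Q60582 : ∀ i, i < 60582 → P i := stepQ 60581 Q60581 (allL N60581 (tt N66589 (iv1 F204607)) (tt N32381 (iv0 F176610)) (tt N66592 (iv2 F204621)) (tt N39808 F176608) (tt N36078 F176609) (tt N32347 (iv5 D113418)) (tt N69321 (iv6 F347120)) (tt N66591 F204615))
theorem Q60583 : ∀ i, i < 60583 → P i := stepQ 60582 Q60582 (allL N60582 (tt N97650 D200751) (tt N65823 (iv0 F348764)) (tt N67242 (iv2 F343535)) (tt N78186 (iv3 F348762)) (tt N56859 (iv4 F343553)) (tt N67241 F348757) (tt N32347 (iv6 D113419)) (tt N65661 F343550))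
theorem Q60584 : ∀ i, i < 60584 → P i := stepQ 60583 Q60583 (allL N60583 (tt N65528 F201970) (tt N65533 F342906) (tt N92086 (iv2 F395683)) (tt N32348 (iv3 D113421)) (tt N97651 D200752) (tt N97652 D200753) (tt N65662 F343543) (tt N67244 F343539))
theorem Q60585 : ∀ i, i < 60585 → P i := stepQ 60584 Q60584 (allL N60584 (tt N58688 (iv1 F176614)) (tt N58691 (iv0 F176613)) (tt N58687 F204665) (tt N57904 F176612) (tt N32348 (iv4 D113422)) (tt N97653 D200754) (tt N65663 F343546) (tt N58148 F204631))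
theorem Q60586 : ∀ i, i < 60586 → P i := stepQ 60585 Q60585 (allL N60585 (tt N32381 F204622) (tt N66589 F204623) (tt N66591 F204619) (tt N97652 (iv3 F417782)) (tt N97654 D200755) (tt N32348 (iv5 D113423)) (tt N97655 D200756) (tt N66592 (iv7 F204620)))
theorem Q60587 : ∀ i, i < 60587 → P i := stepQ 60586 Q60586 (allL N60586 (tt N60707 (iv1 F203748)) (tt N60703 F176745) (tt N32350 F176615) (tt N66626 (iv3 F204747)) (tt N97656 D200757) (tt N32349 (iv5 D113425)) (tt N81743 (iv6 F331159)) (tt N92075 (iv7 F395639)))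
theorem Q60588 : ∀ i, i < 60588 → P i := stepQ 60587 Q60587 (allL N60587 (tt N92075 (iv1 F395640)) (tt N32350 (iv0 D113427)) (tt N60707 (iv2 F203745)) (tt N52256 (iv3 F329353)) (tt N66232 F203740) (tt N36257 (iv5 F203742)) (tt N52255 F338381) (tt N60703 (iv7 F203741)))
theorem Q60589 : ∀ i, i < 60589 → P i := stepQ 60588 Q60588 (allL N60588 (tt N32350 (iv1 D113428)) (tt N92075 (iv0 F395641)) (tt N60703 F203747) (tt N97657 D200758) (tt N66419 F204141) (tt N36258 (iv5 F203754)) (tt N67599 F359786) (tt N60707 F203746))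
theorem Q60590 : ∀ i, i < 60590 → P i := stepQ 60589 Q60589 (allL N60589 (tt N97658 D200759) (tt N97659 D200760) (tt N97656 (iv2 F417799)) (tt N32482 F176617) (tt N32350 (iv4 D113429)) (tt N71334 (iv5 F219850)) (tt N50897 (iv6 F176618)) (tt N92077 (iv7 F395651)))
theorem Q60591 : ∀ i, i < 60591 → P i := stepQ 60590 Q60590 (allL N60590 (tt N82566 F331162) (tt N82562 (iv0 F331166)) (tt N81743 F331163) (tt N32352 F176619) (tt N50897 F176620) (tt N35309 F331164) (tt N32350 (iv6 D113430)) (tt N87900 (iv7 F381030)))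
theorem Q60592 : ∀ i, i < 60592 → P i := stepQ 60591 Q60591 (allL N60591 (tt N81668 F331144) (tt N32351 (iv0 D113431)) (tt N81741 F331145) (tt N97660 D200761) (tt N93829 (iv4 F402054)) (tt N46463 F331146) (tt N97661 D200762) (tt N81742 F331147))
theorem Q60593 : ∀ i, i < 60593 → P i := stepQ 60592 Q60592 (allL N60592 (tt N32351 (iv1 D113432)) (tt N81668 F331148) (tt N81742 F331149) (tt N65963 F362296) (tt N97662 D200763) (tt N46460 F331150) (tt N97663 D200764) (tt N81741 F331151))
theorem Q60594 : ∀ i, i < 60594 → P i := stepQ 60593 Q60593 (allL N60593 (tt N66630 (iv1 F204774)) (tt N32352 (iv0 D113435)) (tt N66627 F204762) (tt N67582 (iv3 F363900)) (tt N32500 F204763) (tt N97664 D200765) (tt N97665 D200766) (tt N66628 F204764))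
theorem Q60595 : ∀ i, i < 60595 → P i := stepQ 60594 Q60594 (allL N60594 (tt N32352 (iv1 D113436)) (tt N66630 F204773) (tt N66628 F204756) (tt N97666 D200767) (tt N32501 F176623) (tt N93974 (iv5 F402670)) (tt N92240 (iv6 F396422)) (tt N66627 (iv7 F204761)))
theorem Q60596 : ∀ i, i < 60596 → P i := stepQ 60595 Q60595 (allL N60595 (tt N67364 (iv1 F362307)) (tt N65617 (iv0 F364828)) (tt N66629 (iv2 F204768)) (tt N35309 F331142) (tt N67337 (iv4 F341624)) (tt N32352 (iv5 D113437)) (tt N32353 F176624) (tt N67362 F362291))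
theorem Q60597 : ∀ i, i < 60597 → P i := stepQ 60596 Q60596 (allL N60596 (tt N66628 (iv1 F204754)) (tt N66627 F204765) (tt N66630 (iv2 F204770)) (tt N87900 (iv3 F381027)) (tt N32485 F176625) (tt N67362 (iv5 F362287)) (tt N37693 F362293) (tt N32352 (iv7 D113438)))
theorem Q60598 : ∀ i, i < 60598 → P i := stepQ 60597 Q60597 (allL N60597 (tt N65687 (iv1 F361393)) (tt N32353 (iv0 D113439)) (tt N65530 (iv2 F361376)) (tt N97667 D200768) (tt N92087 (iv4 F395687)) (tt N35611 F176626) (tt N65526 F361373) (tt N81744 F361391))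
theorem Q60599 : ∀ i, i < 60599 → P i := stepQ 60598 Q60598 (allL N60598 (tt N32353 (iv1 D113440)) (tt N65687 F332912) (tt N81744 F361390) (tt N81804 (iv3 F358037)) (tt N97611 (iv4 F417593)) (tt N60512 (iv5 F176627)) (tt N82523 F358040) (tt N65530 (iv7 F361378)))
theorem Q60600 : ∀ i, i < 60600 → P i := stepQ 60599 Q60599 (allL N60599 (tt N92678 F397856) (tt N92685 F397877) (tt N60534 (iv2 F343935)) (tt N46586 F331140) (tt N32353 (iv4 D113441)) (tt N97041 (iv5 F415178)) (tt N67337 F341626) (tt N46584 F331141))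
theorem Q60601 : ∀ i, i < 60601 → P i := stepQ 60600 Q60600 (allL N60600 (tt N92083 (iv1 F416553)) (tt N80219 (iv0 F416550)) (tt N92097 F395722) (tt N32355 (iv3 D113443)) (tt N65953 F202958) (tt N97668 D200769) (tt N65702 F358198) (tt N75409 (iv7 F231448)))
theorem Q60602 : ∀ i, i < 60602 → P i := stepQ 60601 Q60601 (allL N60601 (tt N96866 (iv1 F414346)) (tt N96864 (iv0 F414331)) (tt N58640 F176629) (tt N66640 F204810) (tt N32355 (iv4 D113444)) (tt N66639 (iv5 F204811)) (tt N65703 F358196) (tt N66671 (iv7 F204915)))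
theorem Q60603 : ∀ i, i < 60603 → P i := stepQ 60602 Q60602 (allL N60602 (tt N66617 F230611) (tt N32383 F230612) (tt N66616 F204920) (tt N97668 (iv3 F417854)) (tt N97669 D200770) (tt N32355 (iv5 D113445)) (tt N97670 D200771) (tt N66615 F204919))
theorem Q60604 : ∀ i, i < 60604 → P i := stepQ 60603 Q60603 (allL N60603 (tt N35797 (iv1 F176634)) (tt N32366 F176635) (tt N35904 (iv2 F176633)) (tt N32356 (iv3 D113447)) (tt N45817 F323930) (tt N92015 (iv5 F395365)) (tt N97671 D200772) (tt N35905 F176631))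
theorem Q60605 : ∀ i, i < 60605 → P i := stepQ 60604 Q60604 (allL N60604 (tt N32383 F230613) (tt N66617 F230614) (tt N66615 F204918) (tt N92015 F395368) (tt N97672 D200773) (tt N32356 (iv5 D113448)) (tt N97673 D200774) (tt N66616 (iv7 F204922)))
theorem Q60606 : ∀ i, i < 60606 → P i := stepQ 60605 Q60605 (allL N60605 (tt N65829 F377948) (tt N97674 D200775) (tt N92073 (iv2 F395627)) (tt N97671 (iv3 F417864)) (tt N96867 (iv4 F414353)) (tt N93978 (iv5 F402693)) (tt N32356 (iv6 D113449)) (tt N65705 (iv7 F358195)))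
theorem Q60607 : ∀ i, i < 60607 → P i := stepQ 60606 Q60606 (allL N60606 (tt N77786 F244964) (tt N77785 F244962) (tt N32358 F176636) (tt N77792 (iv3 F244977)) (tt N32357 (iv4 D113450)) (tt N51978 (iv5 F354591)) (tt N97675 D200776) (tt N77787 (iv7 F244967)))
theorem Q60608 : ∀ i, i < 60608 → P i := stepQ 60607 Q60607 (allL N60607 (tt N60762 (iv1 F357984)) (tt N60761 F176847) (tt N32359 F176637) (tt N92075 (iv3 F395638)) (tt N97676 D200777) (tt N32357 (iv5 D113451)) (tt N93002 (iv6 F399088)) (tt N66626 (iv7 F204749)))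
theorem Q60609 : ∀ i, i < 60609 → P i := stepQ 60608 Q60608 (allL N60608 (tt N45862 F358160) (tt N80205 F358161) (tt N32360 F176638) (tt N92076 (iv3 F395645)) (tt N97675 (iv4 F417871)) (tt N52673 F373522) (tt N32357 (iv6 D113452)) (tt N80204 (iv7 F358157)))
theorem Q60610 : ∀ i, i < 60610 → P i := stepQ 60609 Q60609 (allL N60609 (tt N77787 (iv1 F244968)) (tt N32358 (iv0 D113453)) (tt N77786 (iv2 F355938)) (tt N55217 (iv3 F321386)) (tt N92686 (iv4 F397879)) (tt N55211 F347820) (tt N65694 F349593) (tt N77785 (iv7 F355949)))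
theorem Q60611 : ∀ i, i < 60611 → P i := stepQ 60610 Q60610 (allL N60610 (tt N32358 (iv1 D113454)) (tt N77787 F244969) (tt N77785 F355950) (tt N96954 F416662) (tt N60516 (iv4 F176639)) (tt N97677 D200778) (tt N92002 (iv6 F395325)) (tt N77786 F355948))
theorem Q60612 : ∀ i, i < 60612 → P i := stepQ 60611 Q60611 (allL N60611 (tt N51981 F357965) (tt N51977 (iv0 F347818)) (tt N51978 F354590) (tt N35827 F176640) (tt N76033 (iv4 F347795)) (tt N32358 (iv5 D113455)) (tt N88223 F382248) (tt N51979 (iv7 F354589)))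
theorem Q60613 : ∀ i, i < 60613 → P i := stepQ 60612 Q60612 (allL N60612 (tt N91890 F394844) (tt N97678 D200779) (tt N97675 (iv2 F417870)) (tt N35828 F176641) (tt N32360 F176642) (tt N97679 D200780) (tt N32358 (iv6 D113456)) (tt N95659 (iv7 F409031)))
theorem Q60614 : ∀ i, i < 60614 → P i := stepQ 60613 Q60613 (allL N60613 (tt N66626 (iv1 F204750)) (tt N32359 (iv0 D113457)) (tt N60762 (iv2 F357993)) (tt N97680 D200781) (tt N97681 D200782) (tt N55690 F357994) (tt N97682 D200783) (tt N60761 F357995))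
theorem Q60615 : ∀ i, i < 60615 → P i := stepQ 60614 Q60614 (allL N60614 (tt N32359 (iv1 D113458)) (tt N66626 F204752) (tt N60761 (iv2 F357990)) (tt N97683 D200784) (tt N97684 D200785) (tt N55691 F357989) (tt N97685 D200786) (tt N60762 (iv7 F357991)))
theorem Q60616 : ∀ i, i < 60616 → P i := stepQ 60615 Q60615 (allL N60615 (tt N97686 D200787) (tt N97687 D200788) (tt N97676 (iv2 F417872)) (tt N32464 F176643) (tt N32359 (iv4 D113459)) (tt N97688 D200789) (tt N67511 (iv6 F365769)) (tt N41891 F176644))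
theorem Q60617 : ∀ i, i < 60617 → P i := stepQ 60616 Q60616 (allL N60616 (tt N97689 D200790) (tt N97690 D200791) (tt N93002 (iv2 F399086)) (tt N32361 F176645) (tt N67511 F327330) (tt N56662 F358221) (tt N32359 (iv6 D113460)) (tt N93003 (iv7 F399097)))
theorem Q60618 : ∀ i, i < 60618 → P i := stepQ 60617 Q60617 (allL N60617 (tt N80204 F358149) (tt N32360 (iv0 D113461)) (tt N45862 F358150) (tt N45870 F358151) (tt N80242 F358152) (tt N68605 (iv5 F358216)) (tt N67400 F358153) (tt N80205 F358154))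
theorem Q60619 : ∀ i, i < 60619 → P i := stepQ 60618 Q60618 (allL N60618 (tt N52674 (iv1 F359023)) (tt N50678 (iv0 F359019)) (tt N52673 (iv2 F373519)) (tt N32362 F176646) (tt N58934 F358220) (tt N32360 (iv5 D113463)) (tt N56662 (iv6 F358218)) (tt N52672 F362867))
theorem Q60620 : ∀ i, i < 60620 → P i := stepQ 60619 Q60619 (allL N60619 (tt N80205 F327624) (tt N45862 F327625) (tt N80204 F358158) (tt N32363 F176647) (tt N95659 (iv4 F409029)) (tt N52672 F362866) (tt N65688 (iv6 F332900)) (tt N32360 (iv7 D113464)))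
theorem Q60621 : ∀ i, i < 60621 → P i := stepQ 60620 Q60620 (allL N60620 (tt N68733 F327331) (tt N56511 F327332) (tt N68736 F327333) (tt N56662 F358219) (tt N86862 F377478) (tt N32361 (iv5 D113467)) (tt N32362 F176648) (tt N68735 F327334))
theorem Q60622 : ∀ i, i < 60622 → P i := stepQ 60621 Q60621 (allL N60621 (tt N68742 (iv1 F332840)) (tt N32362 (iv0 D113469)) (tt N68743 (iv2 F332811)) (tt N97691 D200792) (tt N56613 (iv4 F349630)) (tt N35623 F176650) (tt N68717 F349631) (tt N56528 F332841))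
theorem Q60623 : ∀ i, i < 60623 → P i := stepQ 60622 Q60622 (allL N60622 (tt N56528 F332826) (tt N68743 F332828) (tt N68742 (iv2 F332837)) (tt N52672 (iv3 F362865)) (tt N56430 (iv4 F332830)) (tt N32363 F176652) (tt N97692 D200793) (tt N32362 (iv7 D113472)))
theorem Q60624 : ∀ i, i < 60624 → P i := stepQ 60623 Q60623 (allL N60623 (tt N47439 F327543) (tt N97467 F416977) (tt N32380 F176653) (tt N92082 (iv3 F395668)) (tt N78563 F327544) (tt N97693 D200794) (tt N32364 (iv6 D113473)) (tt N80723 F327545))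
theorem Q60625 : ∀ i, i < 60625 → P i := stepQ 60624 Q60624 (allL N60624 (tt N59499 (iv1 F176656)) (tt N59502 F176657) (tt N35906 F176654) (tt N32365 (iv3 D113474)) (tt N95718 (iv4 F409290)) (tt N71914 (iv5 F220914)) (tt N97694 D200795) (tt N32371 F176655))
theorem Q60626 : ∀ i, i < 60626 → P i := stepQ 60625 Q60625 (allL N60625 (tt N95101 F407044) (tt N97695 D200796) (tt N32367 F176658) (tt N57300 (iv3 F176660)) (tt N32365 (iv4 D113475)) (tt N81248 (iv5 F360718)) (tt N79224 F360715) (tt N32372 F176659))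
theorem Q60627 : ∀ i, i < 60627 → P i := stepQ 60626 Q60626 (allL N60626 (tt N60051 (iv1 F228498)) (tt N67174 F345759) (tt N32368 F176661) (tt N71914 (iv3 F220913)) (tt N54260 (iv4 F352517)) (tt N32365 (iv5 D113476)) (tt N54259 F352515) (tt N32373 F176662))
theorem Q60628 : ∀ i, i < 60628 → P i := stepQ 60627 Q60627 (allL N60627 (tt N79762 F345761) (tt N80734 F345764) (tt N32369 F176663) (tt N97694 (iv3 F417931)) (tt N79224 F345503) (tt N81798 (iv5 F345504)) (tt N32365 (iv6 D113477)) (tt N81816 (iv7 F358031)))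
theorem Q60629 : ∀ i, i < 60629 → P i := stepQ 60628 Q60628 (allL N60628 (tt N97683 (iv1 F417894)) (tt N95849 (iv0 F409947)) (tt N35907 F176664) (tt N32368 F176665) (tt N97696 D200797) (tt N32366 (iv5 D113478)) (tt N97697 D200798) (tt N35911 F176666))
theorem Q60630 : ∀ i, i < 60630 → P i := stepQ 60629 Q60629 (allL N60629 (tt N32372 (iv1 F176676)) (tt N32367 (iv0 D113480)) (tt N95101 (iv2 F407043)) (tt N68535 (iv3 F342143)) (tt N60555 F176670) (tt N81238 F342141) (tt N47438 F342142) (tt N97695 (iv7 F417935)))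
theorem Q60631 : ∀ i, i < 60631 → P i := stepQ 60630 Q60630 (allL N60630 (tt N32367 (iv1 D113481)) (tt N32372 F176671) (tt N97695 (iv2 F417938)) (tt N94025 (iv3 F402863)) (tt N92679 (iv4 F397863)) (tt N97698 D200799) (tt N81829 F342151) (tt N95101 (iv7 F407042)))
theorem Q60632 : ∀ i, i < 60632 → P i := stepQ 60631 Q60631 (allL N60631 (tt N80835 (iv1 F339190)) (tt N67112 (iv0 F346497)) (tt N81248 (iv2 F360716)) (tt N44095 F344751) (tt N97699 D200800) (tt N32367 (iv5 D113482)) (tt N76145 F344752) (tt N81247 F360722))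
theorem Q60633 : ∀ i, i < 60633 → P i := stepQ 60632 Q60632 (allL N60632 (tt N97695 (iv1 F417934)) (tt N95101 (iv0 F407045)) (tt N32372 F176673) (tt N35910 F176674) (tt N32370 F176675) (tt N81247 (iv5 F360724)) (tt N46122 F323172) (tt N32367 (iv7 D113484)))
theorem Q60634 : ∀ i, i < 60634 → P i := stepQ 60633 Q60633 (allL N60633 (tt N32373 (iv1 F176681)) (tt N32368 (iv0 D113485)) (tt N60051 (iv2 F355850)) (tt N57029 (iv3 F355851)) (tt N73222 F355868) (tt N60441 F355849) (tt N67279 (iv6 F355852)) (tt N67174 (iv7 F355853)))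
theorem Q60635 : ∀ i, i < 60635 → P i := stepQ 60634 Q60634 (allL N60634 (tt N87667 F380046) (tt N89595 (iv0 F386884)) (tt N54260 F352518) (tt N77306 F352524) (tt N32368 (iv4 D113487)) (tt N53954 F352526) (tt N49589 (iv6 F352523)) (tt N97700 D200801))
theorem Q60636 : ∀ i, i < 60636 → P i := stepQ 60635 Q60635 (allL N60635 (tt N97701 D200802) (tt N97666 (iv0 F417848)) (tt N54259 (iv2 F352516)) (tt N97697 (iv3 F417944)) (tt N49589 F352525) (tt N81805 (iv5 F352529)) (tt N32368 (iv6 D113488)) (tt N54261 (iv7 F352528)))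
theorem Q60637 : ∀ i, i < 60637 → P i := stepQ 60636 Q60636 (allL N60636 (tt N67174 (iv1 F345758)) (tt N60051 (iv0 F228497)) (tt N32373 F176678) (tt N35911 F176679) (tt N97700 (iv4 F417960)) (tt N32370 F176680) (tt N37676 F352531) (tt N32368 (iv7 D113489)))
theorem Q60638 : ∀ i, i < 60638 → P i := stepQ 60637 Q60637 (allL N60637 (tt N81816 (iv1 F358032)) (tt N32369 (iv0 D113490)) (tt N79762 F355857) (tt N92093 (iv3 F395711)) (tt N54336 F355858) (tt N97702 D200803) (tt N44630 F355859) (tt N80734 F355860))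
theorem Q60639 : ∀ i, i < 60639 → P i := stepQ 60638 Q60638 (allL N60638 (tt N80734 F334680) (tt N79762 F345737) (tt N81816 F358029) (tt N44937 F327209) (tt N44938 F327210) (tt N81806 (iv5 F341713)) (tt N45866 F327211) (tt N32369 (iv7 D113493)))
theorem Q60640 : ∀ i, i < 60640 → P i := stepQ 60639 Q60639 (allL N60639 (tt N35906 (iv1 F176685)) (tt N32371 (iv0 D113495)) (tt N59502 (iv2 F204652)) (tt N92086 F395682) (tt N59352 F176684) (tt N97703 D200804) (tt N65890 F348807) (tt N59499 (iv7 F204648)))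
theorem Q60641 : ∀ i, i < 60641 → P i := stepQ 60640 Q60640 (allL N60640 (tt N71902 (iv1 F220846)) (tt N52256 (iv0 F329351)) (tt N71915 F220908) (tt N32373 F176686) (tt N70275 (iv4 F349661)) (tt N32371 (iv5 D113496)) (tt N70273 F352475) (tt N71914 (iv7 F220915)))
theorem Q60642 : ∀ i, i < 60642 → P i := stepQ 60641 Q60641 (allL N60641 (tt N80217 F327274) (tt N80216 F327275) (tt N45867 F327276) (tt N32374 F176687) (tt N79193 F327277) (tt N68810 F348769) (tt N32371 (iv6 D113497)) (tt N80218 F327278))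
theorem Q60643 : ∀ i, i < 60643 → P i := stepQ 60642 Q60642 (allL N60642 (tt N67112 (iv1 F346498)) (tt N80835 (iv0 F355855)) (tt N81247 F360721) (tt N81493 (iv3 F360711)) (tt N95862 (iv4 F410000)) (tt N32372 (iv5 D113498)) (tt N57138 (iv6 F342149)) (tt N81248 (iv7 F360720)))
theorem Q60644 : ∀ i, i < 60644 → P i := stepQ 60643 Q60643 (allL N60643 (tt N69228 (iv1 F337546)) (tt N69225 (iv0 F337539)) (tt N46122 F327281) (tt N80054 F327282) (tt N32374 F176688) (tt N69402 F342146) (tt N32372 (iv6 D113499)) (tt N69401 F327283))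
theorem Q60645 : ∀ i, i < 60645 → P i := stepQ 60644 Q60644 (allL N60644 (tt N89595 (iv1 F386883)) (tt N87667 F386665) (tt N97700 (iv2 F417959)) (tt N71988 F345914) (tt N32373 (iv4 D113500)) (tt N97704 D200805) (tt N87661 (iv6 F380027)) (tt N54260 F352520))
theorem Q60646 : ∀ i, i < 60646 → P i := stepQ 60645 Q60645 (allL N60645 (tt N32374 (iv1 D113503)) (tt N45866 F327272) (tt N80215 (iv2 F361879)) (tt N81607 F327273) (tt N97402 F416745) (tt N88372 (iv5 F382778)) (tt N81755 F361880) (tt N80214 F361881))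
theorem Q60647 : ∀ i, i < 60647 → P i := stepQ 60646 Q60646 (allL N60646 (tt N97691 (iv1 F417993)) (tt N97705 D200807) (tt N52670 F348772) (tt N68810 (iv3 F348771)) (tt N97706 D200808) (tt N32374 (iv5 D113504)) (tt N68703 F362895) (tt N97707 D200809))
theorem Q60648 : ∀ i, i < 60648 → P i := stepQ 60647 Q60647 (allL N60647 (tt N80215 F327284) (tt N80214 F327285) (tt N45866 F327286) (tt N80218 F327287) (tt N69401 F327288) (tt N97707 (iv5 F417997)) (tt N81816 (iv6 F358030)) (tt N32374 (iv7 D113505)))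
theorem Q60649 : ∀ i, i < 60649 → P i := stepQ 60648 Q60648 (allL N60648 (tt N49529 (iv1 F360364)) (tt N53026 F360365) (tt N32378 F176689) (tt N71004 F350311) (tt N32375 (iv4 D113506)) (tt N97708 D200810) (tt N71002 (iv6 F350312)) (tt N53024 (iv7 F383741)))
theorem Q60650 : ∀ i, i < 60650 → P i := stepQ 60649 Q60649 (allL N60649 (tt N97709 D200811) (tt N97710 D200812) (tt N32379 F176690) (tt N92099 (iv3 F395727)) (tt N71002 F350314) (tt N97453 (iv5 F416958)) (tt N32375 (iv6 D113507)) (tt N97711 D200813))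
theorem Q60651 : ∀ i, i < 60651 → P i := stepQ 60650 Q60650 (allL N60650 (tt N97703 (iv1 F417978)) (tt N39808 F352470) (tt N97712 D200814) (tt N32377 (iv3 D113514)) (tt N73824 F352471) (tt N97479 (iv5 F417019)) (tt N90239 (iv6 F389049)) (tt N92171 (iv7 F396080)))
theorem Q60652 : ∀ i, i < 60652 → P i := stepQ 60651 Q60651 (allL N60651 (tt N39554 F352461) (tt N82776 F352462) (tt N82777 F352463) (tt N73825 F352464) (tt N32377 (iv4 D113515)) (tt N53651 F352465) (tt N88804 (iv6 F384207)) (tt N49599 F352466))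
theorem Q60653 : ∀ i, i < 60653 → P i := stepQ 60652 Q60652 (allL N60652 (tt N68702 F352572) (tt N68709 F352573) (tt N68707 (iv2 F362897)) (tt N90239 (iv3 F389053)) (tt N88804 (iv4 F384206)) (tt N88726 (iv5 F384014)) (tt N32377 (iv6 D113517)) (tt N53028 F359715))
theorem Q60654 : ∀ i, i < 60654 → P i := stepQ 60653 Q60653 (allL N60653 (tt N32378 (iv1 D113519)) (tt N53024 F383742) (tt N53026 F383743) (tt N97713 D200815) (tt N92626 (iv4 F397676)) (tt N53604 F383744) (tt N53019 F383745) (tt N49529 F383746))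
theorem Q60655 : ∀ i, i < 60655 → P i := stepQ 60654 Q60654 (allL N60654 (tt N53586 F383819) (tt N96183 (iv0 F411379)) (tt N97708 (iv2 F418000)) (tt N92150 (iv3 F395979)) (tt N97714 D200816) (tt N32378 (iv5 D113520)) (tt N53629 (iv6 F383748)) (tt N92146 (iv7 F395960)))
theorem Q60656 : ∀ i, i < 60656 → P i := stepQ 60655 Q60655 (allL N60655 (tt N54787 (iv1 F383837)) (tt N52974 F383816) (tt N71002 F350313) (tt N92154 (iv3 F395991)) (tt N32379 F176693) (tt N97715 D200817) (tt N32378 (iv6 D113521)) (tt N97716 D200818))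
theorem Q60657 : ∀ i, i < 60657 → P i := stepQ 60656 Q60656 (allL N60656 (tt N97711 (iv1 F418023)) (tt N32379 (iv0 D113522)) (tt N97709 F418008) (tt N65998 F383817) (tt N39551 F383818) (tt N97448 (iv5 F416943)) (tt N97449 F416942) (tt N97710 (iv7 F418012)))
theorem Q60658 : ∀ i, i < 60658 → P i := stepQ 60657 Q60657 (allL N60657 (tt N32379 (iv1 D113523)) (tt N97711 F418022) (tt N97710 (iv2 F418014)) (tt N97717 D200819) (tt N39552 F395994) (tt N97718 D200820) (tt N52978 F395995) (tt N97709 F418010))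
theorem Q60659 : ∀ i, i < 60659 → P i := stepQ 60658 Q60658 (allL N60658 (tt N97710 (iv1 F418011)) (tt N97709 F418017) (tt N97711 (iv2 F418018)) (tt N32387 F176694) (tt N97716 (iv4 F418041)) (tt N97465 (iv5 F416970)) (tt N92174 (iv6 F396091)) (tt N32379 (iv7 D113524)))
theorem Q60660 : ∀ i, i < 60660 → P i := stepQ 60659 Q60659 (allL N60659 (tt N80723 F326203) (tt N32380 (iv0 D113525)) (tt N47439 F326204) (tt N48260 F326205) (tt N44769 F326206) (tt N70801 (iv5 F332707)) (tt N44772 F326207) (tt N97467 (iv7 F416978)))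
theorem Q60661 : ∀ i, i < 60661 → P i := stepQ 60660 Q60660 (allL N60660 (tt N32380 (iv1 D113526)) (tt N80723 F327540) (tt N97467 F416976) (tt N36852 F345746) (tt N47440 F327541) (tt N36850 F345747) (tt N54269 F361237) (tt N47439 F327542))
theorem Q60662 : ∀ i, i < 60662 → P i := stepQ 60661 Q60661 (allL N60661 (tt N97719 D200821) (tt N97720 D200822) (tt N97693 (iv2 F417927)) (tt N32390 F176695) (tt N67227 (iv4 F349613)) (tt N32380 (iv5 D113527)) (tt N92173 (iv6 F396087)) (tt N97468 (iv7 F416980)))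
theorem Q60663 : ∀ i, i < 60663 → P i := stepQ 60662 Q60662 (allL N60662 (tt N66592 (iv1 F204611)) (tt N66591 F204610) (tt N32381 (iv2 D113529)) (tt N66617 (iv3 F204714)) (tt N97721 D200823) (tt N32405 F176696) (tt N97722 D200824) (tt N66589 (iv7 F204605)))
theorem Q60664 : ∀ i, i < 60664 → P i := stepQ 60663 Q60663 (allL N60663 (tt N97723 D200825) (tt N97724 D200826) (tt N97721 (iv2 F418059)) (tt N32455 F176697) (tt N32381 (iv4 D113530)) (tt N71738 (iv5 F220437)) (tt N97725 D200827) (tt N66593 (iv7 F204613)))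
theorem Q60665 : ∀ i, i < 60665 → P i := stepQ 60664 Q60664 (allL N60664 (tt N97726 D200828) (tt N37203 F359788) (tt N97722 (iv2 F418066)) (tt N32382 F176698) (tt N97725 (iv4 F418080)) (tt N68643 (iv5 F364797)) (tt N32381 (iv6 D113531)) (tt N97727 D200829))
theorem Q60666 : ∀ i, i < 60666 → P i := stepQ 60665 Q60665 (allL N60665 (tt N36815 F332855) (tt N49532 (iv0 F332868)) (tt N66619 (iv2 F204724)) (tt N97727 (iv3 F418090)) (tt N32459 F176700) (tt N56408 (iv5 F332847)) (tt N66600 (iv6 F204677)) (tt N32382 (iv7 D113535)))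
theorem Q60667 : ∀ i, i < 60667 → P i := stepQ 60666 Q60666 (allL N60666 (tt N66616 (iv1 F204718)) (tt N66615 F204713) (tt N32383 (iv2 D113538)) (tt N66589 (iv3 F204604)) (tt N97728 D200830) (tt N32443 F176701) (tt N68838 F358249) (tt N66617 (iv7 F204716)))
theorem Q60668 : ∀ i, i < 60668 → P i := stepQ 60667 Q60667 (allL N60667 (tt N97729 D200831) (tt N97730 D200832) (tt N97728 (iv2 F418094)) (tt N32422 F176702) (tt N32383 (iv4 D113539)) (tt N97731 D200833) (tt N97732 D200834) (tt N66609 (iv7 F204704)))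
theorem Q60669 : ∀ i, i < 60669 → P i := stepQ 60668 Q60668 (allL N60668 (tt N56572 F399090) (tt N36873 F399091) (tt N68838 (iv2 F358250)) (tt N32384 F176703) (tt N97732 (iv4 F418102)) (tt N93251 (iv5 F400131)) (tt N32383 (iv6 D113540)) (tt N68837 (iv7 F358251)))
theorem Q60670 : ∀ i, i < 60670 → P i := stepQ 60669 Q60669 (allL N60669 (tt N66600 (iv1 F204680)) (tt N32384 (iv0 D113541)) (tt N56512 F391695) (tt N68702 F391696) (tt N32543 F391697) (tt N68751 F363271) (tt N56510 F391698) (tt N66598 F391699))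
theorem Q60671 : ∀ i, i < 60671 → P i := stepQ 60670 Q60670 (allL N60670 (tt N32384 (iv1 D113542)) (tt N66600 F204679) (tt N66598 F391700) (tt N56517 F391701) (tt N32544 F391702) (tt N97733 D200835) (tt N68741 F391703) (tt N56512 F391704))
theorem Q60672 : ∀ i, i < 60672 → P i := stepQ 60671 Q60671 (allL N60671 (tt N88724 F417234) (tt N97734 D200836) (tt N66599 (iv2 F204673)) (tt N93251 F400134) (tt N97735 D200837) (tt N32384 (iv5 D113543)) (tt N32445 F176704) (tt N97736 D200838))
theorem Q60673 : ∀ i, i < 60673 → P i := stepQ 60672 Q60672 (allL N60672 (tt N66598 (iv1 F204672)) (tt N56512 (iv0 F362100)) (tt N66600 (iv2 F204675)) (tt N68837 F358252) (tt N32430 F176705) (tt N97736 (iv5 F418113)) (tt N66619 (iv6 F204726)) (tt N32384 (iv7 D113544)))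
theorem Q60674 : ∀ i, i < 60674 → P i := stepQ 60673 Q60673 (allL N60673 (tt N97737 D200839) (tt N97655 (iv0 F417798)) (tt N97738 D200840) (tt N32385 (iv3 D113546)) (tt N97739 D200841) (tt N97740 D200842) (tt N69285 (iv6 F416710)) (tt N92107 (iv7 F395776)))
theorem Q60675 : ∀ i, i < 60675 → P i := stepQ 60674 Q60674 (allL N60674 (tt N68662 F365770) (tt N97741 D200843) (tt N92106 F395774) (tt N97740 (iv3 F418121)) (tt N97742 D200844) (tt N32385 (iv5 D113548)) (tt N92041 F395493) (tt N92108 (iv7 F395777)))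
theorem Q60676 : ∀ i, i < 60676 → P i := stepQ 60675 Q60675 (allL N60675 (tt N68741 F398244) (tt N68734 (iv0 F365771)) (tt N68739 (iv2 F395779)) (tt N69285 F416709) (tt N92790 (iv4 F398241)) (tt N87783 (iv5 F416707)) (tt N32385 (iv6 D113549)) (tt N68740 (iv7 F395778)))
theorem Q60677 : ∀ i, i < 60677 → P i := stepQ 60676 Q60676 (allL N60676 (tt N97670 F417859) (tt N97743 D200845) (tt N97002 (iv2 F414981)) (tt N32386 (iv3 D113551)) (tt N97744 D200846) (tt N65732 (iv5 F366365)) (tt N60774 F366364) (tt N92105 F395768))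
theorem Q60678 : ∀ i, i < 60678 → P i := stepQ 60677 Q60677 (allL N60677 (tt N97741 (iv1 F418122)) (tt N68662 F395782) (tt N92108 F395781) (tt N65732 F366361) (tt N97745 D200847) (tt N32386 (iv5 D113553)) (tt N65731 (iv6 F366360)) (tt N92106 F395770))
theorem Q60679 : ∀ i, i < 60679 → P i := stepQ 60678 Q60678 (allL N60678 (tt N97746 D200848) (tt N67363 (iv0 F377921)) (tt N92109 (iv2 F395763)) (tt N60774 (iv3 F366363)) (tt N92793 (iv4 F398257)) (tt N60773 F366362) (tt N32386 (iv6 D113554)) (tt N97562 (iv7 F417388)))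
theorem Q60680 : ∀ i, i < 60680 → P i := stepQ 60679 Q60679 (allL N60679 (tt N65661 F343554) (tt N67242 F343601) (tt N97650 F417773) (tt N32388 (iv3 D113555)) (tt N59665 F176708) (tt N36712 F358330) (tt N97747 D200849) (tt N65823 (iv7 F202431)))
theorem Q60681 : ∀ i, i < 60681 → P i := stepQ 60680 Q60680 (allL N60680 (tt N97748 D200850) (tt N97749 D200851) (tt N65830 (iv2 F202444)) (tt N36712 F358340) (tt N67771 F358341) (tt N32388 (iv5 D113556)) (tt N97750 D200852) (tt N65824 (iv7 F202433)))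
theorem Q60682 : ∀ i, i < 60682 → P i := stepQ 60681 Q60681 (allL N60681 (tt N92071 F395622) (tt N65714 F202298) (tt N65831 (iv2 F202446)) (tt N97747 (iv3 F418138)) (tt N35874 F176709) (tt N97751 D200853) (tt N32388 (iv6 D113557)) (tt N94448 (iv7 F404516)))
theorem Q60683 : ∀ i, i < 60683 → P i := stepQ 60682 Q60682 (allL N60682 (tt N92073 F395630) (tt N65705 (iv0 F333469)) (tt N97674 (iv2 F418789)) (tt N32389 (iv3 D113558)) (tt N92001 (iv4 F395323)) (tt N97516 (iv5 F417215)) (tt N67403 F352202) (tt N65829 (iv7 F202443)))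
theorem Q60684 : ∀ i, i < 60684 → P i := stepQ 60683 Q60683 (allL N60683 (tt N97749 (iv1 F418149)) (tt N97748 F418144) (tt N65824 (iv2 F202432)) (tt N97516 (iv3 F417213)) (tt N67770 (iv4 F349612)) (tt N32389 (iv5 D113559)) (tt N97515 F417209) (tt N65830 (iv7 F202445)))
theorem Q60685 : ∀ i, i < 60685 → P i := stepQ 60684 Q60684 (allL N60684 (tt N65683 F202235) (tt N92072 (iv0 F395626)) (tt N65825 (iv2 F202434)) (tt N67403 (iv3 F352196)) (tt N35877 F176710) (tt N67391 F352192) (tt N32389 (iv6 D113560)) (tt N67390 (iv7 F352197)))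
theorem Q60686 : ∀ i, i < 60686 → P i := stepQ 60685 Q60685 (allL N60685 (tt N65658 (iv1 F202201)) (tt N32390 (iv0 D113561)) (tt N92110 F395786) (tt N67239 (iv3 F349610)) (tt N69002 F349611) (tt N66024 (iv5 F203105)) (tt N93976 (iv6 F402677)) (tt N92111 (iv7 F395791)))
theorem Q60687 : ∀ i, i < 60687 → P i := stepQ 60686 Q60686 (allL N60686 (tt N32390 (iv1 D113562)) (tt N65658 F202200) (tt N92111 F395794) (tt N93979 (iv3 F402696)) (tt N69001 (iv4 F358342)) (tt N66027 (iv5 F203116)) (tt N97752 D200855) (tt N92110 F395789))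
theorem Q60688 : ∀ i, i < 60688 → P i := stepQ 60687 Q60687 (allL N60687 (tt N97753 D200856) (tt N97754 D200857) (tt N92112 (iv2 F395795)) (tt N70291 F358343) (tt N32390 (iv4 D113563)) (tt N97755 D200858) (tt N92181 (iv6 F396129)) (tt N97478 (iv7 F417011)))
theorem Q60689 : ∀ i, i < 60689 → P i := stepQ 60688 Q60688 (allL N60688 (tt N95024 F406703) (tt N65969 F355986) (tt N37186 F343564) (tt N32391 (iv3 D113564)) (tt N59669 F176711) (tt N37174 F343565) (tt N86935 (iv6 F377765)) (tt N37202 F343566))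
theorem Q60690 : ∀ i, i < 60690 → P i := stepQ 60689 Q60689 (allL N60689 (tt N65932 F202907) (tt N80413 (iv0 F362935)) (tt N66017 (iv2 F203077)) (tt N86935 (iv3 F377764)) (tt N32393 F176712) (tt N86934 F377762) (tt N32391 (iv6 D113566)) (tt N80412 (iv7 F362939)))
theorem Q60691 : ∀ i, i < 60691 → P i := stepQ 60690 Q60690 (allL N60690 (tt N60024 F176714) (tt N60469 F176713) (tt N92114 (iv2 F395803)) (tt N97756 D200859) (tt N32392 (iv4 D113567)) (tt N65819 (iv5 F202421)) (tt N65561 F202027) (tt N92115 (iv7 F395812)))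
theorem Q60692 : ∀ i, i < 60692 → P i := stepQ 60691 Q60691 (allL N60691 (tt N65946 (iv1 F358871)) (tt N97435 F416902) (tt N97631 (iv2 F417693)) (tt N32394 (iv3 D113568)) (tt N96963 (iv4 F414812)) (tt N93229 (iv5 F400041)) (tt N97757 D200860) (tt N66015 (iv7 F203074)))
theorem Q60693 : ∀ i, i < 60693 → P i := stepQ 60692 Q60692 (allL N60692 (tt N93868 (iv1 F402216)) (tt N65117 (iv0 F326807)) (tt N66018 (iv2 F203085)) (tt N97757 (iv3 F418189)) (tt N32396 F176715) (tt N95850 (iv5 F409949)) (tt N32394 (iv6 D113570)) (tt N93420 (iv7 F400678)))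
theorem Q60694 : ∀ i, i < 60694 → P i := stepQ 60693 Q60693 (allL N60693 (tt N60469 (iv1 F176718)) (tt N60024 F176717) (tt N92115 (iv2 F395810)) (tt N87853 (iv3 F380854)) (tt N32395 (iv4 D113571)) (tt N65818 (iv5 F202418)) (tt N41516 F176716) (tt N92114 (iv7 F395806)))
theorem Q60695 : ∀ i, i < 60695 → P i := stepQ 60694 Q60694 (allL N60694 (tt N32397 (iv1 D113572)) (tt N40323 F176719) (tt N40322 F176724) (tt N60063 (iv3 F176721)) (tt N57748 (iv4 F336684)) (tt N57965 (iv5 F176723)) (tt N58982 (iv6 F176722)) (tt N36064 F176720))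
theorem Q60696 : ∀ i, i < 60696 → P i := stepQ 60695 Q60695 (allL N60695 (tt N40332 (iv1 F176726)) (tt N32398 (iv0 D113573)) (tt N40331 F358902) (tt N94926 (iv3 F406365)) (tt N97758 D200861) (tt N58273 (iv5 F358906)) (tt N97759 D200862) (tt N40330 F358903))
theorem Q60697 : ∀ i, i < 60697 → P i := stepQ 60696 Q60696 (allL N60696 (tt N32398 (iv1 D113574)) (tt N40332 F176731) (tt N40330 F358896) (tt N81977 F358897) (tt N60481 (iv4 F176727)) (tt N58274 F203751) (tt N72992 (iv6 F345108)) (tt N40331 F358898))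
theorem Q60698 : ∀ i, i < 60698 → P i := stepQ 60697 Q60697 (allL N60697 (tt N40331 (iv1 F176732)) (tt N40330 F176730) (tt N32398 (iv2 D113575)) (tt N93253 (iv3 F400141)) (tt N32405 F176728) (tt N94775 (iv5 F405882)) (tt N97760 D200863) (tt N40332 F176729))
theorem Q60699 : ∀ i, i < 60699 → P i := stepQ 60698 Q60698 (allL N60698 (tt N97761 D200864) (tt N97762 D200865) (tt N97760 (iv2 F418200)) (tt N32399 F176733) (tt N32406 F176734) (tt N97763 D200866) (tt N32398 (iv6 D113576)) (tt N94905 (iv7 F406281)))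
theorem Q60700 : ∀ i, i < 60700 → P i := stepQ 60699 Q60699 (allL N60699 (tt N59557 F176735) (tt N59560 (iv0 F176736)) (tt N93255 (iv2 F400148)) (tt N97763 (iv3 F418206)) (tt N97764 D200867) (tt N32399 (iv5 D113577)) (tt N94777 (iv6 F405888)) (tt N94906 (iv7 F406285)))
theorem Q60701 : ∀ i, i < 60701 → P i := stepQ 60700 Q60700 (allL N60700 (tt N66022 F203096) (tt N72413 (iv0 F222461)) (tt N60014 F176737) (tt N92332 (iv3 F396731)) (tt N58028 F176738) (tt N65550 (iv5 F202003)) (tt N32401 (iv6 D113578)) (tt N65550 (iv7 F202004)))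
theorem Q60702 : ∀ i, i < 60702 → P i := stepQ 60701 Q60701 (allL N60701 (tt N97479 (iv1 F417022)) (tt N87828 F380723) (tt N59427 (iv2 F203771)) (tt N32403 (iv3 D113580)) (tt N59331 F176740) (tt N39715 F176743) (tt N97765 D200868) (tt N59431 F203752))
theorem Q60703 : ∀ i, i < 60703 → P i := stepQ 60702 Q60702 (allL N60702 (tt N59954 (iv1 F204599)) (tt N97766 D200869) (tt N57998 F203774) (tt N97767 D200870) (tt N32403 (iv4 D113581)) (tt N95682 F409124) (tt N97768 D200871) (tt N66585 (iv7 F204598)))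
theorem Q60704 : ∀ i, i < 60704 → P i := stepQ 60703 Q60703 (allL N60703 (tt N60586 (iv1 F176745)) (tt N55657 (iv0 F176744)) (tt N60588 (iv2 F203747)) (tt N39715 (iv3 F176742)) (tt N36117 F176741) (tt N32403 (iv5 D113582)) (tt N68943 (iv6 F359785)) (tt N60587 F203741))
theorem Q60705 : ∀ i, i < 60705 → P i := stepQ 60704 Q60704 (allL N60704 (tt N97769 D200872) (tt N93966 (iv0 F402635)) (tt N66588 (iv2 F204602)) (tt N97765 (iv3 F418215)) (tt N97768 (iv4 F418232)) (tt N97770 D200873) (tt N32403 (iv6 D113583)) (tt N97771 D200874))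
theorem Q60706 : ∀ i, i < 60706 → P i := stepQ 60705 Q60705 (allL N60705 (tt N97772 D200875) (tt N97046 (iv0 F418252)) (tt N97773 D200877) (tt N32404 (iv3 D113585)) (tt N97774 D200878) (tt N97775 D200879) (tt N97776 D200880) (tt N66587 (iv7 F204601)))
theorem Q60707 : ∀ i, i < 60707 → P i := stepQ 60706 Q60706 (allL N60706 (tt N97766 (iv1 F418219)) (tt N59954 (iv0 F176747)) (tt N66585 (iv2 F204597)) (tt N57882 (iv3 F176748)) (tt N32404 (iv4 D113586)) (tt N73132 F345626) (tt N73135 (iv6 F350092)) (tt N57998 F203756))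
theorem Q60708 : ∀ i, i < 60708 → P i := stepQ 60707 Q60707 (allL N60707 (tt N55657 (iv1 F203750)) (tt N60586 F203748) (tt N60587 F203745) (tt N97775 (iv3 F418263)) (tt N66520 (iv4 F345627)) (tt N32404 (iv5 D113587)) (tt N87786 (iv6 F380491)) (tt N60588 (iv7 F203746)))
theorem Q60709 : ∀ i, i < 60709 → P i := stepQ 60708 Q60708 (allL N60708 (tt N65510 F360413) (tt N97777 D200881) (tt N66586 (iv2 F204600)) (tt N97776 (iv3 F418268)) (tt N73135 F350091) (tt N80098 (iv5 F350090)) (tt N32404 (iv6 D113588)) (tt N97778 D200882))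
theorem Q60710 : ∀ i, i < 60710 → P i := stepQ 60709 Q60709 (allL N60709 (tt N93212 (iv1 F418280)) (tt N97779 D200884) (tt N32406 F176749) (tt N82757 (iv3 F359018)) (tt N97760 (iv4 F418201)) (tt N97780 D200885) (tt N32405 (iv6 D113589)) (tt N97781 D200886))
theorem Q60711 : ∀ i, i < 60711 → P i := stepQ 60710 Q60710 (allL N60710 (tt N97781 (iv1 F418288)) (tt N32406 (iv0 D113590)) (tt N93212 (iv2 F399984)) (tt N87826 (iv3 F380693)) (tt N79801 F365833) (tt N93208 F399974) (tt N65594 F405947) (tt N97779 F418279))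
theorem Q60712 : ∀ i, i < 60712 → P i := stepQ 60711 Q60711 (allL N60711 (tt N32406 (iv1 D113591)) (tt N97781 F418287) (tt N97779 (iv2 F418276)) (tt N36866 F341835) (tt N79800 F341836) (tt N93213 (iv5 F399989)) (tt N36865 F341837) (tt N93212 F399986))
theorem Q60713 : ∀ i, i < 60713 → P i := stepQ 60712 Q60712 (allL N60712 (tt N97782 D200887) (tt N97783 D200888) (tt N97780 (iv2 F418282)) (tt N32407 F176750) (tt N70611 F332784) (tt N32406 (iv5 D113592)) (tt N68643 F332785) (tt N97519 (iv7 F417228)))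
theorem Q60714 : ∀ i, i < 60714 → P i := stepQ 60713 Q60713 (allL N60713 (tt N97779 (iv1 F418274)) (tt N93212 (iv0 F399987)) (tt N97781 (iv2 F418285)) (tt N32408 F176751) (tt N94905 (iv4 F406279)) (tt N97519 (iv5 F417227)) (tt N66597 (iv6 F204671)) (tt N32406 (iv7 D113593)))
theorem Q60715 : ∀ i, i < 60715 → P i := stepQ 60714 Q60714 (allL N60714 (tt N36756 F332778) (tt N32407 (iv0 D113594)) (tt N36758 F332779) (tt N41305 F332780) (tt N35695 F332781) (tt N65523 F201950) (tt N36776 F332782) (tt N35694 F332783))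
theorem Q60716 : ∀ i, i < 60716 → P i := stepQ 60715 Q60715 (allL N60715 (tt N67488 (iv1 F341794)) (tt N67485 (iv0 F343670)) (tt N48287 F327406) (tt N32409 (iv3 D113598)) (tt N65611 (iv4 F202092)) (tt N56545 F343667) (tt N65611 (iv6 F202093)) (tt N60468 F176753))
theorem Q60717 : ∀ i, i < 60717 → P i := stepQ 60716 Q60716 (allL N60716 (tt N37792 F176764) (tt N37789 (iv0 F176765)) (tt N36760 F176760) (tt N56494 F176761) (tt N97517 (iv4 F417219)) (tt N56494 F176762) (tt N32410 (iv6 D113601)) (tt N56494 F176763))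
theorem Q60718 : ∀ i, i < 60718 → P i := stepQ 60717 Q60717 (allL N60717 (tt N34583 F176770) (tt N32434 (iv0 F176772)) (tt N41303 F176766) (tt N50092 F176767) (tt N41370 F176768) (tt N42937 F176771) (tt N32411 (iv6 D113602)) (tt N41439 F176769))
theorem Q60719 : ∀ i, i < 60719 → P i := stepQ 60718 Q60718 (allL N60718 (tt N60836 (iv1 F177011)) (tt N32414 (iv0 D113605)) (tt N60834 F364861) (tt N70590 F328469) (tt N74664 (iv4 F402689)) (tt N97784 D200889) (tt N97785 D200890) (tt N60835 (iv7 F364860)))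
theorem Q60720 : ∀ i, i < 60720 → P i := stepQ 60719 Q60719 (allL N60719 (tt N32414 (iv1 D113606)) (tt N60836 F177010) (tt N60835 (iv2 F364862)) (tt N97786 D200891) (tt N74665 F336927) (tt N97787 D200892) (tt N97788 D200893) (tt N60834 F364863))
theorem Q60721 : ∀ i, i < 60721 → P i := stepQ 60720 Q60720 (allL N60720 (tt N60835 (iv1 F177005)) (tt N60834 F177009) (tt N60836 (iv2 F177006)) (tt N35919 F328471) (tt N36696 F328472) (tt N42736 F176778) (tt N41308 F176779) (tt N32414 (iv7 D113607)))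
theorem Q60722 : ∀ i, i < 60722 → P i := stepQ 60721 Q60721 (allL N60721 (tt N60806 (iv1 F176941)) (tt N32415 (iv0 D113608)) (tt N60804 F343527) (tt N75080 (iv3 F355404)) (tt N36770 F343528) (tt N97789 D200894) (tt N97790 D200895) (tt N60805 F347578))
theorem Q60723 : ∀ i, i < 60723 → P i := stepQ 60722 Q60722 (allL N60722 (tt N32415 (iv1 D113609)) (tt N60806 F176940) (tt N60805 F355237) (tt N37316 F355238) (tt N36771 F355239) (tt N81506 (iv5 F355236)) (tt N97791 D200896) (tt N60804 F355240))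
theorem Q60724 : ∀ i, i < 60724 → P i := stepQ 60723 Q60723 (allL N60723 (tt N60805 (iv1 F176936)) (tt N60804 F176939) (tt N60806 (iv2 F176937)) (tt N45047 F176780) (tt N93979 (iv4 F402697)) (tt N45040 F176781) (tt N60808 (iv6 F176948)) (tt N32415 (iv7 D113610)))
theorem Q60725 : ∀ i, i < 60725 → P i := stepQ 60724 Q60724 (allL N60724 (tt N41863 F176784) (tt N41856 F176785) (tt N32422 F176782) (tt N97792 D200897) (tt N32418 (iv4 D113611)) (tt N42244 F176783) (tt N97793 D200898) (tt N66607 (iv7 F204698)))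
theorem Q60726 : ∀ i, i < 60726 → P i := stepQ 60725 Q60725 (allL N60725 (tt N39028 F363940) (tt N68323 F363941) (tt N32423 F176786) (tt N69195 (iv3 F366124)) (tt N97793 (iv4 F418326)) (tt N97794 D200899) (tt N32418 (iv6 D113612)) (tt N68321 (iv7 F366032)))
theorem Q60727 : ∀ i, i < 60727 → P i := stepQ 60726 Q60726 (allL N60726 (tt N34072 F176790) (tt N43203 F176789) (tt N32426 F176787) (tt N84795 (iv3 F370646)) (tt N97795 D200900) (tt N32419 (iv5 D113613)) (tt N97794 (iv6 F418330)) (tt N43276 F176788))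
theorem Q60728 : ∀ i, i < 60728 → P i := stepQ 60727 Q60727 (allL N60727 (tt N60883 (iv1 F177140)) (tt N75021 (iv0 F230131)) (tt N41882 F176791) (tt N97796 D200901) (tt N32420 (iv4 D113614)) (tt N97797 D200902) (tt N97798 D200903) (tt N41880 F176792))
theorem Q60729 : ∀ i, i < 60729 → P i := stepQ 60728 Q60728 (allL N60728 (tt N97799 D200904) (tt N92791 (iv0 F398250)) (tt N41883 F176793) (tt N84931 (iv3 F371119)) (tt N97798 (iv4 F418348)) (tt N97800 D200905) (tt N32420 (iv6 D113615)) (tt N97801 D200906))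
theorem Q60730 : ∀ i, i < 60730 → P i := stepQ 60729 Q60729 (allL N60729 (tt N75021 (iv1 F230132)) (tt N60883 (iv0 F177139)) (tt N41880 F176794) (tt N97802 D200907) (tt N32421 (iv4 D113616)) (tt N97803 D200908) (tt N70705 (iv6 F359194)) (tt N41882 F176795))
theorem Q60731 : ∀ i, i < 60731 → P i := stepQ 60730 Q60730 (allL N60730 (tt N56169 (iv1 F361695)) (tt N66080 (iv0 F359184)) (tt N41881 F176796) (tt N92565 (iv3 F397402)) (tt N70705 F359185) (tt N32595 F176797) (tt N32421 (iv6 D113617)) (tt N92785 (iv7 F398217)))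
theorem Q60732 : ∀ i, i < 60732 → P i := stepQ 60731 Q60731 (allL N60731 (tt N66607 (iv1 F204700)) (tt N32422 (iv0 D113618)) (tt N41863 (iv2 F176799)) (tt N97804 D200909) (tt N33599 F176798) (tt N97805 D200910) (tt N97806 D200911) (tt N41856 (iv7 F176800)))
theorem Q60733 : ∀ i, i < 60733 → P i := stepQ 60732 Q60732 (allL N60732 (tt N32422 (iv1 D113619)) (tt N66607 (iv0 F204699)) (tt N41856 F176803) (tt N97807 D200912) (tt N33602 (iv4 F176802)) (tt N97808 D200913) (tt N70830 (iv6 F364259)) (tt N41863 F176801))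
theorem Q60734 : ∀ i, i < 60734 → P i := stepQ 60733 Q60733 (allL N60733 (tt N75083 (iv1 F230261)) (tt N75086 (iv0 F230264)) (tt N42244 F176804) (tt N97731 (iv3 F418098)) (tt N42234 F176805) (tt N32422 (iv5 D113620)) (tt N67749 F357334) (tt N66610 (iv7 F204707)))
theorem Q60735 : ∀ i, i < 60735 → P i := stepQ 60734 Q60734 (allL N60734 (tt N66132 F365935) (tt N97809 D200914) (tt N97793 (iv2 F418325)) (tt N97732 (iv3 F418101)) (tt N32423 F176806) (tt N67750 (iv5 F357335)) (tt N32422 (iv6 D113621)) (tt N97810 D200915))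
theorem Q60736 : ∀ i, i < 60736 → P i := stepQ 60735 Q60735 (allL N60735 (tt N32423 (iv1 D113623)) (tt N68321 F366027) (tt N68323 F366028) (tt N97811 D200916) (tt N67558 F366029) (tt N97812 D200917) (tt N70603 F366030) (tt N39028 F366031))
theorem Q60737 : ∀ i, i < 60737 → P i := stepQ 60736 Q60736 (allL N60736 (tt N97813 D200918) (tt N86213 (iv0 F375397)) (tt N97794 (iv2 F418329)) (tt N32429 F176807) (tt N85661 (iv4 F391167)) (tt N32423 (iv5 D113624)) (tt N32426 F176808) (tt N97814 D200919))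
theorem Q60738 : ∀ i, i < 60738 → P i := stepQ 60737 Q60737 (allL N60737 (tt N68323 F363938) (tt N39028 F363939) (tt N68321 F366033) (tt N32430 F176809) (tt N97810 (iv4 F418386)) (tt N97814 (iv5 F418396)) (tt N66614 (iv6 F204712)) (tt N32423 (iv7 D113625)))
theorem Q60739 : ∀ i, i < 60739 → P i := stepQ 60738 Q60738 (allL N60738 (tt N32884 F176810) (tt N43357 F176811) (tt N97795 (iv2 F418333)) (tt N85663 F391163) (tt N32426 (iv4 D113626)) (tt N97815 D200920) (tt N85661 F391168) (tt N78297 (iv7 F247880)))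
theorem Q60740 : ∀ i, i < 60740 → P i := stepQ 60739 Q60739 (allL N60739 (tt N92743 F398051) (tt N92725 (iv0 F419058)) (tt N92741 F406147) (tt N32427 (iv3 D113628)) (tt N70718 F342938) (tt N86740 (iv5 F444490)) (tt N70717 (iv6 F342937)) (tt N92123 (iv7 F395861)))
theorem Q60741 : ∀ i, i < 60741 → P i := stepQ 60740 Q60740 (allL N60740 (tt N60502 F395858) (tt N35865 F395859) (tt N60499 F395848) (tt N93060 (iv3 F399330)) (tt N32427 (iv4 D113629)) (tt N97816 D200923) (tt N93059 F399326) (tt N60500 F395847))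
theorem Q60742 : ∀ i, i < 60742 → P i := stepQ 60741 Q60741 (allL N60741 (tt N97817 D200924) (tt N97818 D200925) (tt N92121 F395860) (tt N86740 (iv3 F444488)) (tt N94767 (iv4 F420130)) (tt N32427 (iv5 D113630)) (tt N94766 (iv6 F420129)) (tt N92124 (iv7 F395863)))
theorem Q60743 : ∀ i, i < 60743 → P i := stepQ 60742 Q60742 (allL N60742 (tt N56174 (iv1 F342936)) (tt N66134 (iv0 F342934)) (tt N92122 F395837) (tt N70717 F342935) (tt N93059 (iv4 F399324)) (tt N68309 (iv5 F326586)) (tt N32427 (iv6 D113631)) (tt N92786 (iv7 F398226)))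
theorem Q60744 : ∀ i, i < 60744 → P i := stepQ 60743 Q60743 (allL N60743 (tt N42388 F395851) (tt N79056 F395852) (tt N79055 F395853) (tt N32428 (iv3 D113633)) (tt N97819 D200928) (tt N97820 D200929) (tt N97821 D200930) (tt N79054 F395854))
theorem Q60745 : ∀ i, i < 60745 → P i := stepQ 60744 Q60744 (allL N60744 (tt N35865 F395856) (tt N60502 F395857) (tt N60500 F395849) (tt N60942 (iv3 F396109)) (tt N32428 (iv4 D113634)) (tt N60941 F396110) (tt N97822 D200931) (tt N60499 (iv7 F395850)))
theorem Q60746 : ∀ i, i < 60746 → P i := stepQ 60745 Q60745 (allL N60745 (tt N97818 (iv1 F418413)) (tt N97817 F418410) (tt N92124 (iv2 F395862)) (tt N97820 (iv3 F418414)) (tt N97823 D200932) (tt N32428 (iv5 D113635)) (tt N61226 (iv6 F178383)) (tt N92121 F395855))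
theorem Q60747 : ∀ i, i < 60747 → P i := stepQ 60746 Q60746 (allL N60746 (tt N97275 F418411) (tt N92790 F418412) (tt N92125 (iv2 F395869)) (tt N97821 (iv3 F418417)) (tt N97822 (iv4 F418421)) (tt N97824 D200933) (tt N32428 (iv6 D113636)) (tt N97825 D200934))
theorem Q60748 : ∀ i, i < 60748 → P i := stepQ 60747 Q60747 (allL N60747 (tt N92127 (iv1 F395875)) (tt N32429 (iv0 D113637)) (tt N66779 (iv2 F205534)) (tt N97826 D200935) (tt N97827 D200936) (tt N92662 (iv5 F397800)) (tt N32694 F176814) (tt N86187 (iv7 F375318)))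
theorem Q60749 : ∀ i, i < 60749 → P i := stepQ 60748 Q60748 (allL N60748 (tt N32429 (iv1 D113638)) (tt N92127 F395874) (tt N86187 (iv2 F375316)) (tt N92863 (iv3 F398566)) (tt N97828 D200937) (tt N60830 (iv5 F176999)) (tt N85903 F374391) (tt N66779 F205536))
theorem Q60750 : ∀ i, i < 60750 → P i := stepQ 60749 Q60749 (allL N60749 (tt N97829 D200938) (tt N93896 (iv0 F402328)) (tt N92126 (iv2 F395870)) (tt N85662 F391166) (tt N32429 (iv4 D113639)) (tt N97830 D200939) (tt N32433 F176815) (tt N97831 D200940))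
theorem Q60751 : ∀ i, i < 60751 → P i := stepQ 60750 Q60750 (allL N60750 (tt N86187 (iv1 F375320)) (tt N66779 F375321) (tt N92127 (iv2 F395872)) (tt N97814 (iv3 F418395)) (tt N97831 (iv4 F418445)) (tt N32430 F176816) (tt N93134 (iv6 F399630)) (tt N32429 (iv7 D113640)))
theorem Q60752 : ∀ i, i < 60752 → P i := stepQ 60751 Q60751 (allL N60751 (tt N97832 D200941) (tt N97833 D200942) (tt N97834 D200943) (tt N32433 (iv3 D113641)) (tt N85663 F391164) (tt N92128 (iv5 F395876)) (tt N85662 (iv6 F391165)) (tt N93135 (iv7 F399634)))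
theorem Q60753 : ∀ i, i < 60753 → P i := stepQ 60752 Q60752 (allL N60752 (tt N41303 (iv1 F176822)) (tt N41439 F176821) (tt N32434 (iv2 D113642)) (tt N41436 F176817) (tt N33508 F176818) (tt N61316 (iv5 F178579)) (tt N56033 F176819) (tt N34583 F176820))
theorem Q60754 : ∀ i, i < 60754 → P i := stepQ 60753 Q60753 (allL N60753 (tt N32436 (iv1 D113644)) (tt N71725 F220422) (tt N71723 F357979) (tt N71715 F357980) (tt N60450 (iv4 F176823)) (tt N71736 (iv5 F357978)) (tt N71711 F357981) (tt N71724 F357982))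
theorem Q60755 : ∀ i, i < 60755 → P i := stepQ 60754 Q60754 (allL N60754 (tt N71724 (iv1 F220421)) (tt N71723 F220417) (tt N32436 (iv2 D113645)) (tt N71718 (iv3 F220411)) (tt N32443 F176824) (tt N79956 (iv5 F357960)) (tt N87759 F380406) (tt N71725 (iv7 F220419)))
theorem Q60756 : ∀ i, i < 60756 → P i := stepQ 60755 Q60755 (allL N60755 (tt N55211 F340727) (tt N97677 (iv0 F417881)) (tt N79956 F354598) (tt N32437 F176825) (tt N61496 F354601) (tt N32436 (iv5 D113646)) (tt N61078 (iv6 F354597)) (tt N71726 (iv7 F220424)))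
theorem Q60757 : ∀ i, i < 60757 → P i := stepQ 60756 Q60756 (allL N60756 (tt N55428 F365881) (tt N87761 F394555) (tt N87759 F380405) (tt N32438 F176826) (tt N32444 F176827) (tt N97835 D200944) (tt N32436 (iv6 D113647)) (tt N87760 (iv7 F380407)))
theorem Q60758 : ∀ i, i < 60758 → P i := stepQ 60757 Q60757 (allL N60757 (tt N95606 (iv1 F408862)) (tt N95662 (iv0 F409037)) (tt N71722 (iv2 F220416)) (tt N97835 (iv3 F418450)) (tt N97836 D200945) (tt N32438 (iv5 D113649)) (tt N88094 (iv6 F381785)) (tt N95356 (iv7 F407980)))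
theorem Q60759 : ∀ i, i < 60759 → P i := stepQ 60758 Q60758 (allL N60758 (tt N57562 F176830) (tt N57561 F176833) (tt N57563 F176828) (tt N70149 (iv3 F216796)) (tt N39331 (iv4 F176831)) (tt N32439 (iv5 D113650)) (tt N70223 (iv6 F217029)) (tt N35544 F176829))
theorem Q60760 : ∀ i, i < 60760 → P i := stepQ 60759 Q60759 (allL N60759 (tt N59978 (iv1 F176840)) (tt N59977 F176841) (tt N59979 F176835) (tt N40329 F176836) (tt N58432 F176837) (tt N58989 F176839) (tt N32439 (iv6 D113651)) (tt N40324 F176838))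
theorem Q60761 : ∀ i, i < 60761 → P i := stepQ 60760 Q60760 (allL N60760 (tt N97047 (iv1 F415213)) (tt N97837 D200946) (tt N80156 (iv2 F356014)) (tt N32441 (iv3 D113652)) (tt N42101 F176842) (tt N93677 F401531) (tt N80154 F356013) (tt N92118 (iv7 F395826)))
theorem Q60762 : ∀ i, i < 60762 → P i := stepQ 60761 Q60761 (allL N60761 (tt N60607 (iv1 F176847)) (tt N36275 (iv0 F176846)) (tt N60614 F357990) (tt N93677 (iv3 F401532)) (tt N97838 D200947) (tt N32441 (iv5 D113654)) (tt N97839 D200948) (tt N60613 (iv7 F357995)))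
theorem Q60763 : ∀ i, i < 60763 → P i := stepQ 60762 Q60762 (allL N60762 (tt N36275 F357983) (tt N60607 F357984) (tt N60613 F357993) (tt N66054 F203221) (tt N97840 D200949) (tt N32442 (iv5 D113657)) (tt N97841 D200950) (tt N60614 F357991))
theorem Q60764 : ∀ i, i < 60764 → P i := stepQ 60763 Q60763 (allL N60763 (tt N93963 F402620) (tt N97842 D200951) (tt N92119 (iv2 F395828)) (tt N79535 (iv3 F347426)) (tt N96755 (iv4 F413787)) (tt N97843 D200952) (tt N32442 (iv6 D113658)) (tt N97844 D200953))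
theorem Q60765 : ∀ i, i < 60765 → P i := stepQ 60764 Q60764 (allL N60764 (tt N69137 F358174) (tt N65632 F358186) (tt N32444 F176852) (tt N66590 (iv3 F204609)) (tt N87759 (iv4 F380404)) (tt N68606 (iv5 F358175)) (tt N32443 (iv6 D113659)) (tt N97845 D200954))
theorem Q60766 : ∀ i, i < 60766 → P i := stepQ 60765 Q60765 (allL N60765 (tt N97845 (iv1 F418486)) (tt N32444 (iv0 D113660)) (tt N69137 F358207) (tt N97846 D200955) (tt N97847 D200956) (tt N36803 F358208) (tt N93614 (iv6 F401278)) (tt N65632 F358209))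
theorem Q60767 : ∀ i, i < 60767 → P i := stepQ 60766 Q60766 (allL N60766 (tt N32444 (iv1 D113661)) (tt N97845 F418485) (tt N65632 F358210) (tt N35312 F358211) (tt N47244 F358212) (tt N36805 F358213) (tt N65499 F358214) (tt N69137 F358215))
theorem Q60768 : ∀ i, i < 60768 → P i := stepQ 60767 Q60767 (allL N60767 (tt N68608 F358162) (tt N36914 F358163) (tt N68606 F358164) (tt N32445 F176853) (tt N56573 F358165) (tt N32444 (iv5 D113662)) (tt N93251 (iv6 F400129)) (tt N68607 F358166))
theorem Q60769 : ∀ i, i < 60769 → P i := stepQ 60768 Q60768 (allL N60768 (tt N65632 (iv1 F358185)) (tt N69137 F358169) (tt N97845 (iv2 F418481)) (tt N32446 F176854) (tt N87760 (iv4 F380408)) (tt N68607 (iv5 F358168)) (tt N82756 F359045) (tt N32444 (iv7 D113663)))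
theorem Q60770 : ∀ i, i < 60770 → P i := stepQ 60769 Q60769 (allL N60769 (tt N66606 (iv1 F204695)) (tt N32445 (iv0 D113664)) (tt N66603 F204687) (tt N83978 (iv3 F383700)) (tt N97566 (iv4 F417399)) (tt N65683 F202234) (tt N97848 D200957) (tt N66604 (iv7 F204686)))
theorem Q60771 : ∀ i, i < 60771 → P i := stepQ 60770 Q60770 (allL N60770 (tt N32445 (iv1 D113665)) (tt N66606 F204694) (tt N66604 (iv2 F204689)) (tt N97849 D200958) (tt N97567 (iv4 F417400)) (tt N92072 (iv5 F395625)) (tt N56587 F363270) (tt N66603 F204688))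
theorem Q60772 : ∀ i, i < 60772 → P i := stepQ 60771 Q60771 (allL N60771 (tt N97850 D200959) (tt N97851 D200960) (tt N66605 (iv2 F204691)) (tt N68996 (iv3 F358206)) (tt N32445 (iv4 D113666)) (tt N97852 D200961) (tt N97735 (iv6 F418111)) (tt N97853 D200962))
theorem Q60773 : ∀ i, i < 60773 → P i := stepQ 60772 Q60772 (allL N60772 (tt N66604 (iv1 F204684)) (tt N66603 F204690) (tt N66606 (iv2 F204692)) (tt N68607 (iv3 F358167)) (tt N97853 (iv4 F418516)) (tt N32446 F176855) (tt N97854 D200963) (tt N32445 (iv7 D113667)))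
theorem Q60774 : ∀ i, i < 60774 → P i := stepQ 60773 Q60773 (allL N60773 (tt N93974 F402672) (tt N97664 (iv0 F417841)) (tt N97855 D200964) (tt N32447 (iv3 D113668)) (tt N60447 F176856) (tt N60678 (iv5 F366362)) (tt N57951 F176857) (tt N60503 F176858))
theorem Q60775 : ∀ i, i < 60775 → P i := stepQ 60774 Q60774 (allL N60774 (tt N95851 (iv1 F409951)) (tt N95850 F409950) (tt N60020 F176859) (tt N60678 F366363) (tt N97856 D200965) (tt N32447 (iv5 D113669)) (tt N60676 (iv6 F366364)) (tt N60504 F176860))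
theorem Q60776 : ∀ i, i < 60776 → P i := stepQ 60775 Q60775 (allL N60775 (tt N92668 F397819) (tt N97857 D200966) (tt N60826 (iv2 F176982)) (tt N37325 (iv3 F326216)) (tt N37358 F325310) (tt N84442 F369274) (tt N32450 (iv6 D113673)) (tt N37319 F325311))
theorem Q60777 : ∀ i, i < 60777 → P i := stepQ 60776 Q60776 (allL N60776 (tt N36159 F176865) (tt N71338 F219857) (tt N32455 F176863) (tt N67909 F334335) (tt N32452 (iv4 D113674)) (tt N36141 F176864) (tt N67907 (iv6 F334334)) (tt N71339 (iv7 F219861)))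
theorem Q60778 : ∀ i, i < 60778 → P i := stepQ 60777 Q60777 (allL N60777 (tt N50889 F176867) (tt N54755 F176868) (tt N32456 F176866) (tt N66608 (iv3 F204702)) (tt N67907 (iv4 F334333)) (tt N86628 F376623) (tt N32452 (iv6 D113675)) (tt N54754 (iv7 F176884)))
theorem Q60779 : ∀ i, i < 60779 → P i := stepQ 60778 Q60778 (allL N60778 (tt N69206 (iv1 F342170)) (tt N69226 (iv0 F324722)) (tt N40656 F337548) (tt N78610 (iv3 F337562)) (tt N32453 (iv4 D113676)) (tt N81420 F337537) (tt N69183 F337549) (tt N85001 (iv7 F371326)))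
theorem Q60780 : ∀ i, i < 60780 → P i := stepQ 60779 Q60779 (allL N60779 (tt N69221 F337567) (tt N56172 (iv0 F339456)) (tt N69347 F337564) (tt N41734 F176869) (tt N69183 (iv4 F337563)) (tt N32627 F176870) (tt N32453 (iv6 D113677)) (tt N78608 F337566))
theorem Q60781 : ∀ i, i < 60781 → P i := stepQ 60780 Q60780 (allL N60780 (tt N41309 (iv1 F176874)) (tt N41310 F176875) (tt N33668 F176871) (tt N32454 (iv3 D113678)) (tt N33333 F325995) (tt N32466 F176872) (tt N40650 F325996) (tt N33669 F176873))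
theorem Q60782 : ∀ i, i < 60782 → P i := stepQ 60781 Q60781 (allL N60781 (tt N69226 (iv1 F324723)) (tt N69206 (iv0 F342169)) (tt N85001 (iv2 F371325)) (tt N33334 F323717) (tt N32454 (iv4 D113679)) (tt N72746 (iv5 F223088)) (tt N40651 F323718) (tt N40656 F323719))
theorem Q60783 : ∀ i, i < 60783 → P i := stepQ 60782 Q60782 (allL N60782 (tt N92788 F398234) (tt N54749 (iv0 F176876)) (tt N85002 (iv2 F371332)) (tt N40650 F354326) (tt N40651 F354327) (tt N97858 D200967) (tt N32454 (iv6 D113680)) (tt N97859 D200968))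
theorem Q60784 : ∀ i, i < 60784 → P i := stepQ 60783 Q60783 (allL N60783 (tt N71339 (iv1 F219860)) (tt N32455 (iv0 D113681)) (tt N36159 (iv2 F176878)) (tt N97860 D200969) (tt N50943 F176877) (tt N39531 F176879) (tt N54353 (iv6 F339463)) (tt N71338 (iv7 F219855)))
theorem Q60785 : ∀ i, i < 60785 → P i := stepQ 60784 Q60784 (allL N60784 (tt N83652 F288290) (tt N38620 F327765) (tt N67907 (iv2 F334332)) (tt N97725 (iv3 F418079)) (tt N32456 F176880) (tt N97402 (iv5 F416746)) (tt N32455 (iv6 D113682)) (tt N83672 F363982))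
theorem Q60786 : ∀ i, i < 60786 → P i := stepQ 60785 Q60785 (allL N60785 (tt N54755 (iv1 F176887)) (tt N50889 F176888) (tt N54754 F176885) (tt N32459 F176886) (tt N83672 (iv4 F363981)) (tt N93124 (iv5 F399585)) (tt N69194 F391694) (tt N32456 (iv7 D113684)))
theorem Q60787 : ∀ i, i < 60787 → P i := stepQ 60786 Q60786 (allL N60786 (tt N70468 F331438) (tt N42391 F331439) (tt N79057 F331440) (tt N32457 (iv3 D113686)) (tt N97861 D200970) (tt N83733 F331441) (tt N83734 F331442) (tt N66622 (iv7 F204735)))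
theorem Q60788 : ∀ i, i < 60788 → P i := stepQ 60787 Q60787 (allL N60787 (tt N60467 F288399) (tt N35863 F288400) (tt N36841 (iv2 F329576)) (tt N88744 F383994) (tt N32457 (iv4 D113687)) (tt N36711 F329261) (tt N97862 D200971) (tt N60466 (iv7 F332875)))
theorem Q60789 : ∀ i, i < 60789 → P i := stepQ 60788 Q60788 (allL N60788 (tt N93195 (iv1 F399917)) (tt N56478 (iv0 F251391)) (tt N66621 (iv2 F204733)) (tt N83733 F331452) (tt N88302 (iv4 F382511)) (tt N32457 (iv5 D113688)) (tt N51403 F205480) (tt N66623 (iv7 F204739)))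
theorem Q60790 : ∀ i, i < 60790 → P i := stepQ 60789 Q60789 (allL N60789 (tt N92793 (iv1 F398260)) (tt N54750 F288022) (tt N50881 (iv2 F176891)) (tt N83734 (iv3 F331437)) (tt N97862 (iv4 F418559)) (tt N49222 F176890) (tt N32457 (iv6 D113689)) (tt N50877 (iv7 F176892)))
theorem Q60791 : ∀ i, i < 60791 → P i := stepQ 60790 Q60790 (allL N60790 (tt N92727 F397998) (tt N92748 F398066) (tt N92746 F398064) (tt N32458 (iv3 D113690)) (tt N93208 (iv4 F399973)) (tt N97863 D200972) (tt N93205 (iv6 F399965)) (tt N66620 (iv7 F204730)))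
theorem Q60792 : ∀ i, i < 60792 → P i := stepQ 60791 Q60791 (allL N60791 (tt N35863 F288401) (tt N60467 F288402) (tt N60466 (iv2 F332872)) (tt N67210 (iv3 F342946)) (tt N32458 (iv4 D113691)) (tt N36842 F329262) (tt N67207 F342945) (tt N36841 (iv7 F329577)))
theorem Q60793 : ∀ i, i < 60793 → P i := stepQ 60792 Q60792 (allL N60792 (tt N56478 (iv1 F251392)) (tt N93195 F399916) (tt N66623 (iv2 F204738)) (tt N97863 (iv3 F418564)) (tt N65554 (iv4 F332821)) (tt N32458 (iv5 D113692)) (tt N56459 (iv6 F176897)) (tt N66621 (iv7 F204734)))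
theorem Q60794 : ∀ i, i < 60794 → P i := stepQ 60793 Q60793 (allL N60793 (tt N69219 (iv1 F342943)) (tt N56171 (iv0 F251393)) (tt N66624 (iv2 F204745)) (tt N93205 (iv3 F399962)) (tt N67207 (iv4 F342944)) (tt N97864 D200973) (tt N32458 (iv6 D113693)) (tt N92784 (iv7 F398210)))
theorem Q60795 : ∀ i, i < 60795 → P i := stepQ 60794 Q60794 (allL N60794 (tt N43241 (iv1 F176902)) (tt N43240 (iv0 F176901)) (tt N34133 F176898) (tt N32685 F176899) (tt N89313 (iv4 F386049)) (tt N32460 (iv5 D113694)) (tt N97800 (iv6 F418356)) (tt N32653 F176900))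
theorem Q60796 : ∀ i, i < 60796 → P i := stepQ 60795 Q60795 (allL N60795 (tt N41890 F176907) (tt N41889 F176908) (tt N32464 F176904) (tt N69042 F326342) (tt N32461 (iv4 D113695)) (tt N41917 F176906) (tt N37875 F326343) (tt N41869 F176905))
theorem Q60797 : ∀ i, i < 60797 → P i := stepQ 60796 Q60796 (allL N60796 (tt N60866 (iv1 F177080)) (tt N60865 (iv0 F177077)) (tt N41887 F176911) (tt N97865 D200974) (tt N32462 (iv4 D113697)) (tt N75581 (iv5 F231947)) (tt N68895 (iv6 F347374)) (tt N41885 F176912))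
theorem Q60798 : ∀ i, i < 60798 → P i := stepQ 60797 Q60797 (allL N60797 (tt N68194 (iv1 F347378)) (tt N97866 D200975) (tt N41888 F176913) (tt N61033 (iv3 F177707)) (tt N68895 F347372) (tt N34084 F176914) (tt N32462 (iv6 D113698)) (tt N97867 D200976))
theorem Q60799 : ∀ i, i < 60799 → P i := stepQ 60798 Q60798 (allL N60798 (tt N60865 (iv1 F177078)) (tt N60866 (iv0 F177079)) (tt N41885 F176915) (tt N97868 D200977) (tt N32463 (iv4 D113699)) (tt N75579 (iv5 F231942)) (tt N97869 D200978) (tt N41887 F176916))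
theorem Q60800 : ∀ i, i < 60800 → P i := stepQ 60799 Q60799 (allL N60799 (tt N92852 F398513) (tt N97870 D200979) (tt N41886 F176917) (tt N79085 (iv3 F252195)) (tt N97869 (iv4 F418598)) (tt N88077 (iv5 F381708)) (tt N32463 (iv6 D113700)) (tt N97871 D200980))
theorem Q60801 : ∀ i, i < 60801 → P i := stepQ 60800 Q60800 (allL N60800 (tt N32464 (iv1 D113701)) (tt N41869 F176918) (tt N41889 (iv2 F176921)) (tt N97872 D200981) (tt N36274 F176920) (tt N75583 (iv5 F231950)) (tt N97873 D200982) (tt N41890 F176919))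
theorem Q60802 : ∀ i, i < 60802 → P i := stepQ 60801 Q60801 (allL N60801 (tt N97805 (iv1 F418371)) (tt N97808 (iv0 F418379)) (tt N41917 F176922) (tt N97688 (iv3 F417909)) (tt N41871 F176924) (tt N32464 (iv5 D113702)) (tt N67515 (iv6 F365819)) (tt N41892 F176923))
theorem Q60803 : ∀ i, i < 60803 → P i := stepQ 60802 Q60802 (allL N60802 (tt N97874 D200983) (tt N60861 (iv0 F177052)) (tt N60982 (iv2 F177511)) (tt N74662 (iv3 F228494)) (tt N32468 (iv4 D113709)) (tt N97875 D200984) (tt N68617 F335828) (tt N57258 F176934))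
theorem Q60804 : ∀ i, i < 60804 → P i := stepQ 60803 Q60803 (allL N60803 (tt N97876 D200985) (tt N97877 D200986) (tt N60980 (iv2 F177506)) (tt N32469 F176935) (tt N68617 (iv4 F335827)) (tt N60978 (iv5 F177505)) (tt N32468 (iv6 D113710)) (tt N97878 D200987))
theorem Q60805 : ∀ i, i < 60805 → P i := stepQ 60804 Q60804 (allL N60804 (tt N60723 (iv1 F176939)) (tt N32469 (iv0 D113711)) (tt N60721 (iv2 F343527)) (tt N38230 F332631) (tt N67167 F332632) (tt N81438 F355241) (tt N97879 D200988) (tt N60722 (iv7 F355240)))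
theorem Q60806 : ∀ i, i < 60806 → P i := stepQ 60805 Q60805 (allL N60805 (tt N32469 (iv1 D113712)) (tt N60723 F176936) (tt N60722 (iv2 F355237)) (tt N97866 F418587) (tt N67166 F347576) (tt N78843 (iv5 F251089)) (tt N97880 D200989) (tt N60721 (iv7 F347578)))
theorem Q60807 : ∀ i, i < 60807 → P i := stepQ 60806 Q60806 (allL N60806 (tt N60722 (iv1 F176940)) (tt N60721 F176941) (tt N60723 F176937) (tt N97878 (iv3 F418633)) (tt N74666 (iv4 F228500)) (tt N61083 (iv5 F177942)) (tt N57263 F176938) (tt N32469 (iv7 D113713)))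
theorem Q60808 : ∀ i, i < 60808 → P i := stepQ 60807 Q60807 (allL N60807 (tt N32470 (iv1 D113714)) (tt N57263 F176942) (tt N57262 (iv2 F176944)) (tt N68197 (iv3 F365046)) (tt N74377 F365045) (tt N97257 (iv5 F416103)) (tt N92847 (iv6 F398486)) (tt N56207 F176943))
theorem Q60809 : ∀ i, i < 60809 → P i := stepQ 60808 Q60808 (allL N60808 (tt N57262 (iv1 F176949)) (tt N56207 F176950) (tt N57263 F176946) (tt N78902 (iv3 F251300)) (tt N97490 (iv4 F417071)) (tt N60275 F176947) (tt N60723 F176948) (tt N32470 (iv7 D113715)))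
theorem Q60810 : ∀ i, i < 60810 → P i := stepQ 60809 Q60809 (allL N60809 (tt N92721 F397972) (tt N70589 (iv0 F359585)) (tt N92720 F397966) (tt N32471 (iv3 D113717)) (tt N97881 D200990) (tt N70720 (iv5 F349621)) (tt N97882 D200991) (tt N92130 (iv7 F395884)))
theorem Q60811 : ∀ i, i < 60811 → P i := stepQ 60810 Q60810 (allL N60810 (tt N60568 F343630) (tt N35849 F343631) (tt N60565 (iv2 F343628)) (tt N68601 (iv3 F349616)) (tt N32471 (iv4 D113718)) (tt N56566 (iv5 F343629)) (tt N56580 F343625) (tt N60566 (iv7 F343635)))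
theorem Q60812 : ∀ i, i < 60812 → P i := stepQ 60811 Q60811 (allL N60811 (tt N66151 F349618) (tt N38588 F349619) (tt N66150 F364682) (tt N70720 F349620) (tt N97883 D200992) (tt N32471 (iv5 D113719)) (tt N97884 D200993) (tt N66149 F364676))
theorem Q60813 : ∀ i, i < 60813 → P i := stepQ 60812 Q60812 (allL N60812 (tt N92847 (iv1 F398488)) (tt N56200 (iv0 F176953)) (tt N92129 (iv2 F395878)) (tt N97882 (iv3 F418655)) (tt N56580 (iv4 F343624)) (tt N56612 F176952) (tt N32471 (iv6 D113720)) (tt N92846 (iv7 F398480)))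
theorem Q60814 : ∀ i, i < 60814 → P i := stepQ 60813 Q60813 (allL N60813 (tt N32473 F343655) (tt N68311 F343656) (tt N68309 F343653) (tt N32472 (iv3 D113722)) (tt N97885 D200994) (tt N92122 (iv5 F395836)) (tt N97886 D200995) (tt N68310 (iv7 F343652)))
theorem Q60815 : ∀ i, i < 60815 → P i := stepQ 60814 Q60814 (allL N60814 (tt N35849 F343637) (tt N60568 F343638) (tt N60566 F343639) (tt N97887 D200996) (tt N32472 (iv4 D113723)) (tt N68818 F343640) (tt N97888 D200997) (tt N60565 F343641))
theorem Q60816 : ∀ i, i < 60816 → P i := stepQ 60815 Q60815 (allL N60815 (tt N38588 F333537) (tt N66151 F333538) (tt N66149 F364675) (tt N92122 F395838) (tt N71082 F333539) (tt N32472 (iv5 D113724)) (tt N79054 (iv6 F252007)) (tt N66150 (iv7 F364684)))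
theorem Q60817 : ∀ i, i < 60817 → P i := stepQ 60816 Q60816 (allL N60816 (tt N97889 D200998) (tt N97879 (iv0 F418641)) (tt N92131 (iv2 F395888)) (tt N97886 (iv3 F418664)) (tt N97888 (iv4 F418673)) (tt N97890 D200999) (tt N32472 (iv6 D113725)) (tt N97891 D201000))
theorem Q60818 : ∀ i, i < 60818 → P i := stepQ 60817 Q60817 (allL N60817 (tt N68311 F325759) (tt N32473 (iv0 D113726)) (tt N68310 (iv2 F343658)) (tt N92720 (iv3 F397967)) (tt N97892 D201001) (tt N92786 (iv5 F398222)) (tt N97893 D201002) (tt N68309 F343657))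
theorem Q60819 : ∀ i, i < 60819 → P i := stepQ 60818 Q60818 (allL N60818 (tt N45059 F176960) (tt N45057 F176961) (tt N56158 F176957) (tt N92702 (iv3 F397916)) (tt N32475 (iv4 D113730)) (tt N56158 F176958) (tt N97894 D201003) (tt N56155 F176959))
theorem Q60820 : ∀ i, i < 60820 → P i := stepQ 60819 Q60819 (allL N60819 (tt N97895 D201004) (tt N97896 D201005) (tt N56162 F176962) (tt N92712 (iv3 F397940)) (tt N97894 (iv4 F418687)) (tt N32704 F176963) (tt N32475 (iv6 D113731)) (tt N97897 D201006))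
theorem Q60821 : ∀ i, i < 60821 → P i := stepQ 60820 Q60820 (allL N60820 (tt N42390 F176966) (tt N42387 F176967) (tt N41697 F176964) (tt N75039 F335968) (tt N32477 (iv4 D113733)) (tt N41697 F176965) (tt N75038 (iv6 F335967)) (tt N74897 (iv7 F229766)))
theorem Q60822 : ∀ i, i < 60822 → P i := stepQ 60821 Q60821 (allL N60821 (tt N94773 (iv1 F405870)) (tt N97898 D201007) (tt N41698 F176968) (tt N41749 F335947) (tt N75038 F335948) (tt N32723 F176969) (tt N32477 (iv6 D113734)) (tt N97899 D201008))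
theorem Q60823 : ∀ i, i < 60823 → P i := stepQ 60822 Q60822 (allL N60822 (tt N42387 F176971) (tt N42390 F176972) (tt N74897 (iv2 F229764)) (tt N97900 D201009) (tt N32478 (iv4 D113735)) (tt N74897 (iv5 F229765)) (tt N97901 D201010) (tt N41697 F176970))
theorem Q60824 : ∀ i, i < 60824 → P i := stepQ 60823 Q60823 (allL N60823 (tt N78946 F251496) (tt N97902 D201011) (tt N64198 (iv2 F193572)) (tt N39005 F329783) (tt N97901 (iv4 F418719)) (tt N42658 F176974) (tt N32478 (iv6 D113736)) (tt N70831 F362729))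
theorem Q60825 : ∀ i, i < 60825 → P i := stepQ 60824 Q60824 (allL N60824 (tt N45015 F176977) (tt N50967 F176978) (tt N78799 (iv2 F250898)) (tt N43203 F176975) (tt N85087 (iv4 F371594)) (tt N32479 (iv5 D113737)) (tt N97858 (iv6 F418541)) (tt N32668 F176976))
theorem Q60826 : ∀ i, i < 60826 → P i := stepQ 60825 Q60825 (allL N60825 (tt N38145 F322895) (tt N38251 (iv0 F324789)) (tt N38253 F324035) (tt N68247 (iv3 F330905)) (tt N32480 (iv4 D113738)) (tt N66554 (iv5 F204415)) (tt N68251 F324037) (tt N38250 (iv7 F324788)))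
theorem Q60827 : ∀ i, i < 60827 → P i := stepQ 60826 Q60826 (allL N60826 (tt N68198 (iv1 F366057)) (tt N68197 F366055) (tt N60775 F176982) (tt N92559 (iv3 F397373)) (tt N68251 F366056) (tt N51593 F176983) (tt N32480 (iv6 D113739)) (tt N68196 (iv7 F366054)))
theorem Q60828 : ∀ i, i < 60828 → P i := stepQ 60827 Q60827 (allL N60827 (tt N66470 (iv1 F204214)) (tt N32482 (iv0 D113742)) (tt N39602 (iv2 F176995)) (tt N66450 (iv3 F204186)) (tt N50945 F176994) (tt N39601 F176993) (tt N78634 (iv6 F365896)) (tt N66469 (iv7 F204208)))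
theorem Q60829 : ∀ i, i < 60829 → P i := stepQ 60828 Q60828 (allL N60828 (tt N60532 F176997) (tt N35841 F178283) (tt N60529 F178280) (tt N97903 D201012) (tt N32483 (iv4 D113745)) (tt N97904 D201013) (tt N97905 D201014) (tt N60530 F178275))
theorem Q60830 : ∀ i, i < 60830 → P i := stepQ 60829 Q60829 (allL N60829 (tt N97906 D201015) (tt N49846 (iv0 F290836)) (tt N66632 (iv2 F204776)) (tt N84918 (iv3 F371087)) (tt N84478 F369459) (tt N32483 (iv5 D113746)) (tt N74193 F350549) (tt N50013 F178276))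
theorem Q60831 : ∀ i, i < 60831 → P i := stepQ 60830 Q60830 (allL N60830 (tt N97880 F418648) (tt N97907 D201016) (tt N66633 (iv2 F204784)) (tt N84919 (iv3 F371092)) (tt N97905 (iv4 F418738)) (tt N60748 F176999) (tt N32483 (iv6 D113747)) (tt N92844 (iv7 F398477)))
theorem Q60832 : ∀ i, i < 60832 → P i := stepQ 60831 Q60831 (allL N60831 (tt N85847 F374843) (tt N92724 F397986) (tt N84920 (iv2 F371093)) (tt N32484 (iv3 D113749)) (tt N97908 D201017) (tt N97909 D201018) (tt N92814 (iv6 F398352)) (tt N66631 (iv7 F204775)))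
theorem Q60833 : ∀ i, i < 60833 → P i := stepQ 60832 Q60832 (allL N60832 (tt N35841 F177001) (tt N60532 F177002) (tt N60530 (iv2 F178279)) (tt N97910 D201019) (tt N32484 (iv4 D113750)) (tt N97911 D201020) (tt N61571 F179053) (tt N60529 (iv7 F178282)))
theorem Q60834 : ∀ i, i < 60834 → P i := stepQ 60833 Q60833 (allL N60833 (tt N49846 (iv1 F290837)) (tt N97906 F418748) (tt N50013 F178272) (tt N97909 (iv3 F418755)) (tt N51795 (iv4 F177004)) (tt N32484 (iv5 D113751)) (tt N32610 F177003) (tt N66632 (iv7 F204777)))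
theorem Q60835 : ∀ i, i < 60835 → P i := stepQ 60834 Q60834 (allL N60834 (tt N60720 (iv1 F177009)) (tt N32487 (iv0 D113753)) (tt N60718 (iv2 F364861)) (tt N97912 D201021) (tt N93977 (iv4 F402684)) (tt N97913 D201022) (tt N97914 D201023) (tt N60719 (iv7 F364863)))
theorem Q60836 : ∀ i, i < 60836 → P i := stepQ 60835 Q60835 (allL N60835 (tt N32487 (iv1 D113754)) (tt N60720 F177005) (tt N60719 F364862) (tt N70730 (iv3 F364859)) (tt N93978 (iv4 F402692)) (tt N97915 D201024) (tt N97916 D201025) (tt N60718 F364860))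
theorem Q60837 : ∀ i, i < 60837 → P i := stepQ 60836 Q60836 (allL N60836 (tt N60719 (iv1 F177010)) (tt N60718 F177011) (tt N60720 F177006) (tt N74412 (iv3 F227811)) (tt N67168 (iv4 F336929)) (tt N46119 F177007) (tt N60054 F177008) (tt N32487 (iv7 D113755)))
theorem Q60838 : ∀ i, i < 60838 → P i := stepQ 60837 Q60837 (allL N60837 (tt N74919 F363646) (tt N62849 F363647) (tt N66073 (iv2 F363644)) (tt N32488 (iv3 D113757)) (tt N91088 (iv4 F391874)) (tt N70689 (iv5 F363645)) (tt N91087 F391871) (tt N74918 F363642))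
theorem Q60839 : ∀ i, i < 60839 → P i := stepQ 60838 Q60838 (allL N60838 (tt N60968 F177492) (tt N70663 F326362) (tt N39000 F326363) (tt N70689 F326364) (tt N68849 F326365) (tt N32488 (iv5 D113759)) (tt N97917 D201026) (tt N70683 F326366))
theorem Q60840 : ∀ i, i < 60840 → P i := stepQ 60839 Q60839 (allL N60839 (tt N74385 (iv1 F227672)) (tt N32932 (iv0 F177014)) (tt N92133 (iv2 F395892)) (tt N91087 (iv3 F391869)) (tt N37683 F332832) (tt N56430 F177013) (tt N32488 (iv6 D113760)) (tt N91085 (iv7 F391865)))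
theorem Q60841 : ∀ i, i < 60841 → P i := stepQ 60840 Q60840 (allL N60840 (tt N97918 D201027) (tt N97914 (iv0 F418777)) (tt N92134 (iv2 F395899)) (tt N37689 F324335) (tt N37696 F324336) (tt N97919 D201028) (tt N32489 (iv6 D113765)) (tt N97920 D201029))
theorem Q60842 : ∀ i, i < 60842 → P i := stepQ 60841 Q60841 (allL N60841 (tt N69392 F321188) (tt N32490 (iv0 D113766)) (tt N39063 F321189) (tt N70667 F321190) (tt N67670 F321191) (tt N39062 F321192) (tt N97921 D201030) (tt N70652 F321193))
theorem Q60843 : ∀ i, i < 60843 → P i := stepQ 60842 Q60842 (allL N60842 (tt N97922 D201031) (tt N97923 D201032) (tt N68902 (iv2 F322889)) (tt N69821 F366213) (tt N32490 (iv4 D113768)) (tt N97924 D201033) (tt N32492 F177016) (tt N97925 D201034))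
theorem Q60844 : ∀ i, i < 60844 → P i := stepQ 60843 Q60843 (allL N60843 (tt N70652 (iv1 F322886)) (tt N39063 (iv0 F322887)) (tt N69392 F321194) (tt N74919 (iv3 F229800)) (tt N97925 (iv4 F418823)) (tt N32491 F177017) (tt N75721 (iv6 F233529)) (tt N32490 (iv7 D113769)))
theorem Q60845 : ∀ i, i < 60845 → P i := stepQ 60844 Q60844 (allL N60844 (tt N97926 D201035) (tt N97927 D201036) (tt N97928 D201037) (tt N32492 (iv3 D113770)) (tt N69823 (iv4 F366221)) (tt N78913 (iv5 F251339)) (tt N69821 (iv6 F366217)) (tt N75717 (iv7 F233522)))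
theorem Q60846 : ∀ i, i < 60846 → P i := stepQ 60845 Q60845 (allL N60845 (tt N81411 (iv1 F354895)) (tt N32565 F234987) (tt N78887 (iv2 F251205)) (tt N85059 (iv3 F371486)) (tt N39465 F177018) (tt N32739 F177019) (tt N32493 (iv6 D113771)) (tt N81409 F354879))
theorem Q60847 : ∀ i, i < 60847 → P i := stepQ 60846 Q60846 (allL N60846 (tt N93139 (iv1 F399647)) (tt N32523 (iv0 F177021)) (tt N85060 (iv2 F371493)) (tt N32495 F177020) (tt N92736 (iv4 F398032)) (tt N32494 (iv5 D113772)) (tt N97929 D201038) (tt N85029 (iv7 F371414)))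
theorem Q60848 : ∀ i, i < 60848 → P i := stepQ 60847 Q60847 (allL N60847 (tt N39464 (iv1 F177027)) (tt N39463 F177026) (tt N39139 F177022) (tt N39549 (iv3 F177029)) (tt N32495 (iv4 D113773)) (tt N39138 F177023) (tt N97930 D201039) (tt N39461 F177024))
theorem Q60849 : ∀ i, i < 60849 → P i := stepQ 60848 Q60848 (allL N60848 (tt N91787 (iv1 F394422)) (tt N51022 (iv0 F177030)) (tt N85030 (iv2 F371417)) (tt N97929 (iv3 F418835)) (tt N97930 (iv4 F418840)) (tt N86035 (iv5 F374970)) (tt N32495 (iv6 D113774)) (tt N91786 (iv7 F394413)))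
theorem Q60850 : ∀ i, i < 60850 → P i := stepQ 60849 Q60849 (allL N60849 (tt N97931 D201040) (tt N74382 (iv0 F364806)) (tt N85032 (iv2 F371426)) (tt N85061 (iv3 F371498)) (tt N70968 (iv4 F218982)) (tt N86437 (iv5 F376210)) (tt N32497 (iv6 D113775)) (tt N86583 (iv7 F376537)))
theorem Q60851 : ∀ i, i < 60851 → P i := stepQ 60850 Q60850 (allL N60850 (tt N75693 F233461) (tt N32506 (iv0 F177032)) (tt N85062 (iv2 F371503)) (tt N32498 (iv3 D113776)) (tt N92715 (iv4 F397951)) (tt N56153 F177031) (tt N69512 (iv6 F335833)) (tt N85031 (iv7 F371423)))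
theorem Q60852 : ∀ i, i < 60852 → P i := stepQ 60851 Q60851 (allL N60851 (tt N97912 (iv1 F418769)) (tt N97932 D201041) (tt N71779 (iv2 F220577)) (tt N69512 (iv3 F335832)) (tt N69789 (iv4 F364336)) (tt N78880 (iv5 F251178)) (tt N32498 (iv6 D113777)) (tt N97933 D201042))
theorem Q60853 : ∀ i, i < 60853 → P i := stepQ 60852 Q60852 (allL N60852 (tt N32499 (iv1 D113778)) (tt N72000 F221206) (tt N71963 (iv2 F221088)) (tt N71968 (iv3 F221110)) (tt N32622 F177033) (tt N71887 (iv5 F220811)) (tt N97934 D201043) (tt N71998 (iv7 F221197)))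
theorem Q60854 : ∀ i, i < 60854 → P i := stepQ 60853 Q60853 (allL N60853 (tt N95516 (iv1 F408437)) (tt N96127 (iv0 F411173)) (tt N71606 (iv2 F220269)) (tt N71910 (iv3 F220870)) (tt N39374 F177034) (tt N32499 (iv5 D113779)) (tt N97935 D201044) (tt N71608 (iv7 F220277)))
theorem Q60855 : ∀ i, i < 60855 → P i := stepQ 60854 Q60854 (allL N60854 (tt N37396 F363888) (tt N32517 F363889) (tt N69358 F363890) (tt N32500 (iv3 D113780)) (tt N67581 F363891) (tt N86574 (iv5 F376522)) (tt N69518 F363892) (tt N69357 F363893))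
theorem Q60856 : ∀ i, i < 60856 → P i := stepQ 60855 Q60855 (allL N60855 (tt N97916 F418794) (tt N97936 D201045) (tt N92135 (iv2 F395901)) (tt N69518 (iv3 F363899)) (tt N97665 (iv4 F417844)) (tt N60920 F177205) (tt N32500 (iv6 D113783)) (tt N92239 (iv7 F396420)))
theorem Q60857 : ∀ i, i < 60857 → P i := stepQ 60856 Q60856 (allL N60856 (tt N50932 (iv1 F177038)) (tt N49233 (iv0 F177037)) (tt N50941 F288087) (tt N32501 (iv3 D113784)) (tt N97937 D201046) (tt N51487 F177036) (tt N92226 (iv6 F396364)) (tt N50940 F204767))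
theorem Q60858 : ∀ i, i < 60858 → P i := stepQ 60857 Q60857 (allL N60857 (tt N32530 F177042) (tt N32529 F177043) (tt N32534 F177039) (tt N59002 F328266) (tt N32503 (iv4 D113786)) (tt N33732 F177041) (tt N97938 D201047) (tt N32521 F177040))
theorem Q60859 : ∀ i, i < 60859 → P i := stepQ 60858 Q60858 (allL N60858 (tt N70042 (iv1 F363780)) (tt N70025 F363781) (tt N32537 F177044) (tt N74921 (iv3 F229808)) (tt N97938 (iv4 F418878)) (tt N43358 F177045) (tt N32503 (iv6 D113787)) (tt N70712 (iv7 F363771)))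
theorem Q60860 : ∀ i, i < 60860 → P i := stepQ 60859 Q60859 (allL N60859 (tt N32523 F177051) (tt N93139 (iv0 F399646)) (tt N85029 (iv2 F371411)) (tt N50943 F177050) (tt N92737 F398037) (tt N32505 (iv5 D113790)) (tt N70820 F335836) (tt N85060 (iv7 F371495)))
theorem Q60861 : ∀ i, i < 60861 → P i := stepQ 60860 Q60860 (allL N60860 (tt N32506 (iv1 D113791)) (tt N75693 (iv0 F233460)) (tt N85031 (iv2 F371421)) (tt N50945 (iv3 F177053)) (tt N92716 (iv4 F397955)) (tt N74375 (iv5 F227634)) (tt N97939 D201048) (tt N85062 (iv7 F371506)))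
theorem Q60862 : ∀ i, i < 60862 → P i := stepQ 60861 Q60861 (allL N60861 (tt N60802 F177052) (tt N93172 (iv0 F399795)) (tt N92714 (iv2 F397944)) (tt N37699 F328040) (tt N32506 (iv4 D113792)) (tt N97940 D201049) (tt N67165 F328041) (tt N92722 (iv7 F397975)))
theorem Q60863 : ∀ i, i < 60863 → P i := stepQ 60862 Q60862 (allL N60862 (tt N33724 F177058) (tt N33720 F177059) (tt N33567 F177055) (tt N41385 F177056) (tt N62888 (iv4 F184021)) (tt N32507 (iv5 D113794)) (tt N97941 D201050) (tt N36284 F177057))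
theorem Q60864 : ∀ i, i < 60864 → P i := stepQ 60863 Q60863 (allL N60863 (tt N64426 F340880) (tt N41653 F243207) (tt N36287 F177060) (tt N45194 F177061) (tt N49724 (iv4 F329754)) (tt N74413 (iv5 F227827)) (tt N32508 (iv6 D113795)) (tt N97942 D201051))
theorem Q60865 : ∀ i, i < 60865 → P i := stepQ 60864 Q60864 (allL N60864 (tt N69358 F327038) (tt N69357 F327039) (tt N32517 F177074) (tt N50804 F177075) (tt N37398 F327040) (tt N48968 F177076) (tt N32510 (iv6 D113806)) (tt N37396 F327041))
theorem Q60866 : ∀ i, i < 60866 → P i := stepQ 60865 Q60865 (allL N60865 (tt N60796 F177077) (tt N60798 F177078) (tt N67535 F328049) (tt N97943 D201052) (tt N32511 (iv4 D113807)) (tt N97944 D201053) (tt N36892 F328050) (tt N75071 (iv7 F230252)))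
theorem Q60867 : ∀ i, i < 60867 → P i := stepQ 60866 Q60866 (allL N60866 (tt N60798 F177079) (tt N60796 F177080) (tt N75071 F230254) (tt N67538 F350887) (tt N32513 (iv4 D113808)) (tt N97945 D201054) (tt N97946 D201055) (tt N67535 (iv7 F327587)))
theorem Q60868 : ∀ i, i < 60868 → P i := stepQ 60867 Q60867 (allL N60867 (tt N85052 F371468) (tt N85021 F371391) (tt N75694 (iv2 F233463)) (tt N32517 F177081) (tt N97946 (iv4 F418912)) (tt N48965 F177082) (tt N32513 (iv6 D113809)) (tt N69356 F363897))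
theorem Q60869 : ∀ i, i < 60869 → P i := stepQ 60868 Q60868 (allL N60868 (tt N69969 F339492) (tt N69976 F346396) (tt N69972 (iv2 F331671)) (tt N36300 F177083) (tt N70960 (iv4 F328459)) (tt N75935 (iv5 F234633)) (tt N32515 (iv6 D113810)) (tt N69971 F352611))
theorem Q60870 : ∀ i, i < 60870 → P i := stepQ 60869 Q60869 (allL N60869 (tt N32517 (iv1 D113815)) (tt N37396 F328056) (tt N69357 F328057) (tt N50941 F363886) (tt N93011 (iv4 F399109)) (tt N88522 (iv5 F383387)) (tt N74803 (iv6 F338665)) (tt N69358 F328058))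
theorem Q60871 : ∀ i, i < 60871 → P i := stepQ 60870 Q60870 (allL N60870 (tt N33599 (iv1 F177090)) (tt N33602 (iv0 F177089)) (tt N41855 F177088) (tt N32519 (iv3 D113817)) (tt N75058 (iv4 F230229)) (tt N41302 F177086) (tt N70643 F339341) (tt N32526 F177087))
theorem Q60872 : ∀ i, i < 60872 → P i := stepQ 60871 Q60871 (allL N60871 (tt N85029 F371416) (tt N85060 (iv0 F371496)) (tt N93139 (iv2 F399643)) (tt N32520 (iv3 D113820)) (tt N56258 F177096) (tt N41301 F177094) (tt N97947 D201056) (tt N32523 F177095))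
theorem Q60873 : ∀ i, i < 60873 → P i := stepQ 60872 Q60872 (allL N60872 (tt N61707 F327970) (tt N33027 F327971) (tt N32528 F177099) (tt N97947 (iv3 F418916)) (tt N33019 F327972) (tt N58908 F177100) (tt N32520 (iv6 D113822)) (tt N38862 F327973))
theorem Q60874 : ∀ i, i < 60874 → P i := stepQ 60873 Q60873 (allL N60873 (tt N32534 (iv1 F177102)) (tt N32521 (iv0 D113823)) (tt N32529 F177104) (tt N69033 F336164) (tt N41310 F177101) (tt N69031 (iv5 F336165)) (tt N56506 (iv6 F336163)) (tt N32530 (iv7 F177103)))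
theorem Q60875 : ∀ i, i < 60875 → P i := stepQ 60874 Q60874 (allL N60874 (tt N32521 (iv1 D113824)) (tt N32534 F177105) (tt N32530 (iv2 F177108)) (tt N95903 (iv3 F410169)) (tt N41309 F177107) (tt N93950 (iv5 F402557)) (tt N36808 F327481) (tt N32529 F177106))
theorem Q60876 : ∀ i, i < 60876 → P i := stepQ 60875 Q60875 (allL N60875 (tt N68695 (iv1 F350321)) (tt N94483 (iv0 F404677)) (tt N59003 (iv2 F350319)) (tt N32521 (iv3 D113825)) (tt N69998 F350302) (tt N58962 F350318) (tt N57803 (iv6 F350322)) (tt N59002 (iv7 F350320)))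
theorem Q60877 : ∀ i, i < 60877 → P i := stepQ 60876 Q60876 (allL N60876 (tt N35926 F327839) (tt N35932 F327840) (tt N32533 F177112) (tt N57803 F327841) (tt N32522 F177113) (tt N97948 D201057) (tt N32521 (iv6 D113827)) (tt N66152 F327842))
theorem Q60878 : ∀ i, i < 60878 → P i := stepQ 60877 Q60877 (allL N60877 (tt N85060 (iv1 F371497)) (tt N85029 (iv0 F371415)) (tt N32523 (iv2 D113831)) (tt N41855 F177120) (tt N56257 (iv4 F177122)) (tt N42355 F177121) (tt N97949 D201058) (tt N93139 (iv7 F399645)))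
theorem Q60879 : ∀ i, i < 60879 → P i := stepQ 60878 Q60878 (allL N60878 (tt N56262 F177125) (tt N56250 F177126) (tt N56257 F177123) (tt N92102 F395737) (tt N32523 (iv4 D113832)) (tt N97950 D201059) (tt N97951 D201060) (tt N56258 F177124))
theorem Q60880 : ∀ i, i < 60880 → P i := stepQ 60879 Q60879 (allL N60879 (tt N39072 F371509) (tt N97952 D201061) (tt N97949 (iv2 F418926)) (tt N32525 F177127) (tt N97951 (iv4 F418941)) (tt N97953 D201062) (tt N32523 (iv6 D113833)) (tt N70640 F327990))
theorem Q60881 : ∀ i, i < 60881 → P i := stepQ 60880 Q60880 (allL N60880 (tt N57023 F326881) (tt N56697 F326882) (tt N69439 F326883) (tt N32524 (iv3 D113836)) (tt N92102 (iv4 F395735)) (tt N37252 F326884) (tt N38847 F326885) (tt N56679 F326886))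
theorem Q60882 : ∀ i, i < 60882 → P i := stepQ 60881 Q60881 (allL N60881 (tt N97954 D201063) (tt N97955 D201064) (tt N70644 F327991) (tt N97953 (iv3 F418950)) (tt N97956 D201065) (tt N32525 (iv5 D113841)) (tt N42937 F177134) (tt N70641 F327992))
theorem Q60883 : ∀ i, i < 60883 → P i := stepQ 60882 Q60882 (allL N60882 (tt N33602 (iv1 F177138)) (tt N33599 F177137) (tt N32526 (iv2 D113843)) (tt N93139 (iv3 F399644)) (tt N75059 (iv4 F230235)) (tt N38204 F177135) (tt N97957 D201066) (tt N41855 F177136))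
theorem Q60884 : ∀ i, i < 60884 → P i := stepQ 60883 Q60883 (allL N60883 (tt N60729 F177139) (tt N60727 F177140) (tt N75059 F230236) (tt N97958 D201067) (tt N32526 (iv4 D113844)) (tt N97959 D201068) (tt N97960 D201069) (tt N75058 F230232))
theorem Q60885 : ∀ i, i < 60885 → P i := stepQ 60884 Q60884 (allL N60884 (tt N97961 D201070) (tt N61715 (iv0 F355406)) (tt N97957 (iv2 F418960)) (tt N32528 F177141) (tt N97960 (iv4 F418974)) (tt N68144 (iv5 F209194)) (tt N32526 (iv6 D113845)) (tt N97962 D201071))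
theorem Q60886 : ∀ i, i < 60886 → P i := stepQ 60885 Q60885 (allL N60885 (tt N62364 F326871) (tt N57018 F326872) (tt N69886 F326873) (tt N32527 (iv3 D113846)) (tt N97958 (iv4 F418962)) (tt N69423 F326874) (tt N38861 F326875) (tt N70573 F326876))
theorem Q60887 : ∀ i, i < 60887 → P i := stepQ 60886 Q60886 (allL N60886 (tt N38862 F327974) (tt N32528 (iv0 D113849)) (tt N61707 F327975) (tt N32550 F349139) (tt N36810 F327976) (tt N97963 D201072) (tt N61700 F327977) (tt N33027 F327978))
theorem Q60888 : ∀ i, i < 60888 → P i := stepQ 60887 Q60887 (allL N60887 (tt N92959 F398923) (tt N97964 D201073) (tt N58908 F177144) (tt N68144 (iv3 F209193)) (tt N97965 D201074) (tt N32528 (iv5 D113851)) (tt N57701 F177145) (tt N97966 D201075))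
theorem Q60889 : ∀ i, i < 60889 → P i := stepQ 60888 Q60888 (allL N60888 (tt N33027 F327980) (tt N61707 F327981) (tt N38862 F327982) (tt N97962 (iv3 F418978)) (tt N33020 F327983) (tt N97966 (iv5 F418999)) (tt N38845 F327984) (tt N32528 (iv7 D113852)))
theorem Q60890 : ∀ i, i < 60890 → P i := stepQ 60889 Q60889 (allL N60889 (tt N71003 (iv1 F364302)) (tt N71001 (iv0 F345487)) (tt N69110 F336152) (tt N32529 (iv3 D113853)) (tt N70344 F336153) (tt N70205 F336154) (tt N36787 F336155) (tt N95903 (iv7 F410172)))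
theorem Q60891 : ∀ i, i < 60891 → P i := stepQ 60890 Q60890 (allL N60890 (tt N33668 (iv1 F177150)) (tt N33669 F177149) (tt N41310 F177146) (tt N79051 (iv3 F251997)) (tt N32529 (iv4 D113854)) (tt N32588 F177148) (tt N38970 F327348) (tt N41309 F177147))
theorem Q60892 : ∀ i, i < 60892 → P i := stepQ 60891 Q60891 (allL N60891 (tt N71670 F328474) (tt N36765 F328475) (tt N69031 F328476) (tt N70205 F328477) (tt N33715 F177151) (tt N32529 (iv5 D113855)) (tt N72122 F328478) (tt N93950 (iv7 F402562)))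
theorem Q60893 : ∀ i, i < 60893 → P i := stepQ 60892 Q60892 (allL N60892 (tt N35929 F336156) (tt N56507 F336157) (tt N56506 F336158) (tt N36787 F336159) (tt N38970 F336160) (tt N72123 F336161) (tt N32529 (iv6 D113856)) (tt N56505 F336162))
theorem Q60894 : ∀ i, i < 60894 → P i := stepQ 60893 Q60893 (allL N60893 (tt N36765 F328268) (tt N71670 F328269) (tt N93950 F402560) (tt N41574 F328270) (tt N33709 F177152) (tt N32530 (iv5 D113858)) (tt N41464 F328271) (tt N69031 F328272))
theorem Q60895 : ∀ i, i < 60895 → P i := stepQ 60894 Q60894 (allL N60894 (tt N32531 (iv1 D113861)) (tt N36177 F328772) (tt N36822 F328773) (tt N56532 F328774) (tt N65992 (iv4 F203032)) (tt N36780 F328775) (tt N35627 F328776) (tt N56519 F328777))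
theorem Q60896 : ∀ i, i < 60896 → P i := stepQ 60895 Q60895 (allL N60895 (tt N93031 F399184) (tt N92522 (iv0 F397229)) (tt N71808 F328412) (tt N36179 F328413) (tt N70962 F328414) (tt N67249 F328415) (tt N32532 (iv6 D113868)) (tt N97967 D201076))
theorem Q60897 : ∀ i, i < 60897 → P i := stepQ 60896 Q60896 (allL N60896 (tt N94047 F402969) (tt N93013 (iv0 F399121)) (tt N97948 (iv2 F418922)) (tt N36878 F328644) (tt N74804 (iv4 F338631)) (tt N32533 (iv5 D113872)) (tt N67249 F328645) (tt N68844 F328646))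
theorem Q60898 : ∀ i, i < 60898 → P i := stepQ 60897 Q60897 (allL N60897 (tt N68731 F328377) (tt N97968 D201077) (tt N97938 (iv2 F418876)) (tt N59126 F328378) (tt N32537 F177172) (tt N36086 F328379) (tt N32534 (iv6 D113874)) (tt N68845 F328380))
theorem Q60899 : ∀ i, i < 60899 → P i := stepQ 60898 Q60898 (allL N60898 (tt N70821 F328627) (tt N70820 F328628) (tt N70822 F328629) (tt N32535 (iv3 D113876)) (tt N56690 F328630) (tt N63715 (iv5 F339637)) (tt N33032 F328631) (tt N39080 F328632))
theorem Q60900 : ∀ i, i < 60900 → P i := stepQ 60899 Q60899 (allL N60899 (tt N61428 (iv1 F338644)) (tt N70713 F328635) (tt N61719 F328636) (tt N63715 (iv3 F363729)) (tt N36375 F338538) (tt N32535 (iv5 D113878)) (tt N36374 F338539) (tt N39086 F328637))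
theorem Q60901 : ∀ i, i < 60901 → P i := stepQ 60900 Q60900 (allL N60900 (tt N70025 F327846) (tt N70042 F327847) (tt N70712 F327848) (tt N32569 F177176) (tt N68845 F327849) (tt N97969 D201078) (tt N32536 (iv6 D113885)) (tt N32537 F177177))
theorem Q60902 : ∀ i, i < 60902 → P i := stepQ 60901 Q60901 (allL N60901 (tt N70712 F363757) (tt N32537 (iv0 D113886)) (tt N70042 F363758) (tt N97970 D201079) (tt N39051 F363759) (tt N97971 D201080) (tt N39050 F363760) (tt N70025 F363761))
theorem Q60903 : ∀ i, i < 60903 → P i := stepQ 60902 Q60902 (allL N60902 (tt N32537 (iv1 D113887)) (tt N70712 F363779) (tt N70025 (iv2 F363763)) (tt N97972 D201081) (tt N61695 (iv4 F363764)) (tt N97973 D201082) (tt N61694 (iv6 F363765)) (tt N70042 F363762))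
theorem Q60904 : ∀ i, i < 60904 → P i := stepQ 60903 Q60903 (allL N60903 (tt N70745 F363766) (tt N62002 F363767) (tt N43358 F177178) (tt N32572 F177179) (tt N95933 (iv4 F410330)) (tt N32537 (iv5 D113888)) (tt N32539 F177180) (tt N97969 (iv7 F419018)))
theorem Q60905 : ∀ i, i < 60905 → P i := stepQ 60904 Q60904 (allL N60904 (tt N45158 F177184) (tt N63315 F186820) (tt N32880 F177181) (tt N32831 F177182) (tt N76694 (iv4 F239731)) (tt N32538 (iv5 D113889)) (tt N95879 (iv6 F410069)) (tt N32817 F177183))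
theorem Q60906 : ∀ i, i < 60906 → P i := stepQ 60905 Q60905 (allL N60905 (tt N32788 (iv1 F177186)) (tt N32539 (iv0 D113890)) (tt N32883 (iv2 F177187)) (tt N85074 (iv3 F371537)) (tt N76681 (iv4 F239718)) (tt N42356 F177185) (tt N97974 D201083) (tt N32882 (iv7 F177188)))
theorem Q60907 : ∀ i, i < 60907 → P i := stepQ 60906 Q60906 (allL N60906 (tt N32539 (iv1 D113891)) (tt N32788 F177189) (tt N32882 (iv2 F177192)) (tt N42938 (iv3 F177193)) (tt N76680 (iv4 F239712)) (tt N38205 F177191) (tt N97975 D201084) (tt N32883 F177190))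
theorem Q60908 : ∀ i, i < 60908 → P i := stepQ 60907 Q60907 (allL N60907 (tt N97795 (iv1 F418336)) (tt N78297 (iv0 F247881)) (tt N43357 F177194) (tt N97976 D201085) (tt N32539 (iv4 D113892)) (tt N97977 D201086) (tt N95933 F410332) (tt N32884 F177195))
theorem Q60909 : ∀ i, i < 60909 → P i := stepQ 60908 Q60908 (allL N60908 (tt N62787 (iv1 F183676)) (tt N62782 (iv0 F183652)) (tt N32541 F177196) (tt N97978 D201087) (tt N32540 (iv4 D113893)) (tt N63017 (iv5 F184401)) (tt N85950 F374576) (tt N74859 (iv7 F229663)))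
theorem Q60910 : ∀ i, i < 60910 → P i := stepQ 60909 Q60909 (allL N60909 (tt N97979 D201088) (tt N97980 D201089) (tt N32542 F177197) (tt N92160 (iv3 F396021)) (tt N85950 (iv4 F374579)) (tt N78763 (iv5 F250829)) (tt N32540 (iv6 D113894)) (tt N91033 (iv7 F391674)))
theorem Q60911 : ∀ i, i < 60911 → P i := stepQ 60910 Q60910 (allL N60910 (tt N75544 (iv1 F231796)) (tt N75543 F231793) (tt N63017 (iv2 F184399)) (tt N97548 (iv3 F417344)) (tt N63013 (iv4 F184380)) (tt N32541 (iv5 D113895)) (tt N78809 (iv6 F335903)) (tt N75529 (iv7 F231744)))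
theorem Q60912 : ∀ i, i < 60912 → P i := stepQ 60911 Q60911 (allL N60911 (tt N91033 (iv1 F391676)) (tt N32542 (iv0 D113897)) (tt N97979 F419048) (tt N39003 F363812) (tt N50248 F349122) (tt N97981 D201090) (tt N39002 F363813) (tt N97980 (iv7 F419054)))
theorem Q60913 : ∀ i, i < 60913 → P i := stepQ 60912 Q60912 (allL N60912 (tt N32542 (iv1 D113898)) (tt N91033 F391678) (tt N97980 (iv2 F419056)) (tt N78915 (iv3 F419052)) (tt N50251 F391679) (tt N97982 D201091) (tt N97983 D201092) (tt N97979 F419051))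
theorem Q60914 : ∀ i, i < 60914 → P i := stepQ 60913 Q60913 (allL N60913 (tt N97984 D201093) (tt N97985 D201094) (tt N78763 (iv2 F250828)) (tt N32545 F177199) (tt N91064 (iv4 F391806)) (tt N32542 (iv5 D113899)) (tt N36245 F177200) (tt N97986 D201095))
theorem Q60915 : ∀ i, i < 60915 → P i := stepQ 60914 Q60914 (allL N60914 (tt N97980 (iv1 F419053)) (tt N97979 F419047) (tt N91033 (iv2 F391673)) (tt N32546 F177201) (tt N85949 (iv4 F374567)) (tt N97986 (iv5 F419070)) (tt N92170 (iv6 F396076)) (tt N32542 (iv7 D113900)))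
theorem Q60916 : ∀ i, i < 60916 → P i := stepQ 60915 Q60915 (allL N60915 (tt N92144 (iv1 F395947)) (tt N78955 F342164) (tt N39057 F326359) (tt N32543 (iv3 D113902)) (tt N69919 F326360) (tt N97987 D201096) (tt N39055 F326361) (tt N92143 (iv7 F395939)))
theorem Q60917 : ∀ i, i < 60917 → P i := stepQ 60916 Q60916 (allL N60916 (tt N97988 D201097) (tt N97989 D201098) (tt N70654 F365923) (tt N97987 (iv3 F419076)) (tt N97990 D201099) (tt N32543 (iv5 D113904)) (tt N97991 D201100) (tt N92164 (iv7 F396045)))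
theorem Q60918 : ∀ i, i < 60918 → P i := stepQ 60917 Q60917 (allL N60917 (tt N97989 (iv1 F419081)) (tt N97988 F419080) (tt N92164 (iv2 F396044)) (tt N70660 F365726) (tt N97992 D201101) (tt N32544 (iv5 D113909)) (tt N61327 (iv6 F178599)) (tt N70654 (iv7 F365727)))
theorem Q60919 : ∀ i, i < 60919 → P i := stepQ 60918 Q60918 (allL N60918 (tt N68161 (iv1 F364712)) (tt N68163 (iv0 F364711)) (tt N92165 (iv2 F396048)) (tt N39067 F327707) (tt N68741 F327708) (tt N97993 D201102) (tt N32544 (iv6 D113910)) (tt N39064 F327709))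
theorem Q60920 : ∀ i, i < 60920 → P i := stepQ 60919 Q60919 (allL N60919 (tt N92167 (iv1 F396062)) (tt N32545 (iv0 D113911)) (tt N78383 (iv2 F248586)) (tt N74865 (iv3 F366498)) (tt N97829 F418443) (tt N61567 (iv5 F179041)) (tt N32770 F177204) (tt N92166 (iv7 F396053)))
theorem Q60921 : ∀ i, i < 60921 → P i := stepQ 60920 Q60920 (allL N60920 (tt N32545 (iv1 D113912)) (tt N92167 F396061) (tt N92166 (iv2 F396056)) (tt N97955 F418957) (tt N93896 (iv4 F402327)) (tt N60855 (iv5 F177205)) (tt N50348 (iv6 F248589)) (tt N78383 F248588))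
theorem Q60922 : ∀ i, i < 60922 → P i := stepQ 60921 Q60921 (allL N60921 (tt N97994 D201103) (tt N93560 (iv0 F401135)) (tt N73514 (iv2 F362689)) (tt N97995 D201104) (tt N32545 (iv4 D113913)) (tt N97996 D201105) (tt N36246 F177206) (tt N97997 D201106))
theorem Q60923 : ∀ i, i < 60923 → P i := stepQ 60922 Q60922 (allL N60922 (tt N92166 (iv1 F396052)) (tt N78383 (iv0 F396047)) (tt N92167 (iv2 F396057)) (tt N97986 (iv3 F419068)) (tt N97997 (iv4 F419103)) (tt N32546 F177207) (tt N92970 (iv6 F398961)) (tt N32545 (iv7 D113914)))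
theorem Q60924 : ∀ i, i < 60924 → P i := stepQ 60923 Q60923 (allL N60923 (tt N75055 (iv1 F230214)) (tt N39792 F177210) (tt N32548 F177208) (tt N91073 (iv3 F391823)) (tt N32547 (iv4 D113915)) (tt N39774 F177209) (tt N84068 (iv6 F367978)) (tt N92159 (iv7 F396017)))
theorem Q60925 : ∀ i, i < 60925 → P i := stepQ 60924 Q60924 (allL N60924 (tt N50924 F177213) (tt N55416 F177214) (tt N32549 F177211) (tt N74893 (iv3 F229747)) (tt N84068 F367979) (tt N51512 F177212) (tt N32547 (iv6 D113916)) (tt N55415 (iv7 F177281)))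
theorem Q60926 : ∀ i, i < 60926 → P i := stepQ 60925 Q60925 (allL N60925 (tt N92159 (iv1 F396019)) (tt N32548 (iv0 D113917)) (tt N75055 (iv2 F230211)) (tt N39785 F177217) (tt N50181 F177215) (tt N95516 (iv5 F408433)) (tt N90634 F390330) (tt N39792 (iv7 F177216)))
theorem Q60927 : ∀ i, i < 60927 → P i := stepQ 60926 Q60926 (allL N60926 (tt N32548 (iv1 D113918)) (tt N92159 (iv0 F396018)) (tt N39792 F177264) (tt N96128 (iv3 F411178)) (tt N50182 (iv4 F177263)) (tt N96127 F411174) (tt N97998 D201107) (tt N75055 (iv7 F230212)))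
theorem Q60928 : ∀ i, i < 60928 → P i := stepQ 60927 Q60927 (allL N60927 (tt N39753 F204212) (tt N39775 (iv0 F177269)) (tt N39774 F177265) (tt N39183 F177266) (tt N39600 F177268) (tt N32548 (iv5 D113919)) (tt N97999 D201108) (tt N39699 F177267))
theorem Q60929 : ∀ i, i < 60929 → P i := stepQ 60928 Q60928 (allL N60928 (tt N85977 F374707) (tt N98000 D201109) (tt N84068 (iv2 F367977)) (tt N97508 (iv3 F417159)) (tt N32549 F177277) (tt N84043 (iv5 F367900)) (tt N32548 (iv6 D113920)) (tt N98001 D201110))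
theorem Q60930 : ∀ i, i < 60930 → P i := stepQ 60929 Q60929 (allL N60929 (tt N32549 (iv1 D113921)) (tt N55415 F177280) (tt N55416 (iv2 F177279)) (tt N98002 D201111) (tt N95905 (iv4 F410182)) (tt N81656 (iv5 F355647)) (tt N84972 (iv6 F371223)) (tt N50924 F177278))
theorem Q60931 : ∀ i, i < 60931 → P i := stepQ 60930 Q60930 (allL N60930 (tt N55416 (iv1 F177284)) (tt N50924 F177285) (tt N55415 F177282) (tt N32552 F177283) (tt N98001 (iv4 F419123)) (tt N84047 F367916) (tt N92163 (iv6 F396041)) (tt N32549 (iv7 D113922)))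
theorem Q60932 : ∀ i, i < 60932 → P i := stepQ 60931 Q60931 (allL N60931 (tt N94021 (iv1 F402848)) (tt N58936 (iv0 F258814)) (tt N86834 (iv2 F377367)) (tt N97963 (iv3 F418981)) (tt N65610 (iv4 F332834)) (tt N32550 (iv5 D113926)) (tt N84449 (iv6 F369323)) (tt N65609 (iv7 F342961)))
theorem Q60933 : ∀ i, i < 60933 → P i := stepQ 60932 Q60932 (allL N60932 (tt N91784 (iv1 F394405)) (tt N51354 (iv0 F283807)) (tt N50958 (iv2 F177288)) (tt N61700 F349138) (tt N67363 F362285) (tt N50953 F177287) (tt N32550 (iv6 D113927)) (tt N50956 (iv7 F177289)))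
theorem Q60934 : ∀ i, i < 60934 → P i := stepQ 60933 Q60933 (allL N60933 (tt N75751 (iv1 F364606)) (tt N83674 (iv0 F364605)) (tt N61704 F347560) (tt N32551 (iv3 D113928)) (tt N49505 F347561) (tt N98003 D201112) (tt N61702 (iv6 F347559)) (tt N49504 (iv7 F347562)))
theorem Q60935 : ∀ i, i < 60935 → P i := stepQ 60934 Q60934 (allL N60934 (tt N58936 F347541) (tt N94021 F402847) (tt N65609 (iv2 F342959)) (tt N98003 (iv3 F419133)) (tt N65505 F332867) (tt N32551 (iv5 D113930)) (tt N56583 (iv6 F177294)) (tt N86834 (iv7 F377370)))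
theorem Q60936 : ∀ i, i < 60936 → P i := stepQ 60935 Q60935 (allL N60935 (tt N61696 F347545) (tt N32564 F347546) (tt N33025 F347547) (tt N61702 F347548) (tt N36813 F347549) (tt N98004 D201113) (tt N32551 (iv6 D113931)) (tt N61697 F347550))
theorem Q60937 : ∀ i, i < 60937 → P i := stepQ 60936 Q60936 (allL N60936 (tt N97652 F417783) (tt N98005 D201114) (tt N98006 D201115) (tt N32553 (iv3 D113933)) (tt N92701 F397911) (tt N97046 (iv5 F415203)) (tt N68720 F365421) (tt N92100 (iv7 F395732)))
theorem Q60938 : ∀ i, i < 60938 → P i := stepQ 60937 Q60937 (allL N60937 (tt N98007 D201116) (tt N97668 (iv0 F417856)) (tt N98008 D201117) (tt N32554 (iv3 D113938)) (tt N97970 (iv4 F419021)) (tt N97047 (iv5 F415206)) (tt N98009 D201118) (tt N92101 (iv7 F395733)))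
theorem Q60939 : ∀ i, i < 60939 → P i := stepQ 60938 Q60938 (allL N60938 (tt N56375 F342857) (tt N56374 F342858) (tt N57021 F342859) (tt N39051 F342860) (tt N32554 (iv4 D113939)) (tt N56799 F342861) (tt N39015 F342862) (tt N56678 F342863))
theorem Q60940 : ∀ i, i < 60940 → P i := stepQ 60939 Q60939 (allL N60939 (tt N36820 F342916) (tt N35628 F342917) (tt N36817 F342918) (tt N98009 (iv3 F419152)) (tt N39015 F342919) (tt N68646 F342920) (tt N32554 (iv6 D113941)) (tt N36818 F342921))
theorem Q60941 : ∀ i, i < 60941 → P i := stepQ 60940 Q60940 (allL N60940 (tt N98010 D201119) (tt N98011 D201120) (tt N68842 F329387) (tt N32559 F177298) (tt N98012 D201121) (tt N32556 (iv5 D113945)) (tt N92104 (iv6 F395750)) (tt N68846 F329388))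
theorem Q60942 : ∀ i, i < 60942 → P i := stepQ 60941 Q60941 (allL N60941 (tt N98013 D201122) (tt N97673 (iv0 F417869)) (tt N97556 (iv2 F417371)) (tt N32557 (iv3 D113948)) (tt N98014 D201123) (tt N60744 (iv5 F396110)) (tt N98015 D201124) (tt N92177 (iv7 F396102)))
theorem Q60943 : ∀ i, i < 60943 → P i := stepQ 60942 Q60942 (allL N60942 (tt N92628 (iv1 F397685)) (tt N98016 D201125) (tt N92176 (iv2 F396099)) (tt N60744 F396109) (tt N98017 D201126) (tt N32557 (iv5 D113950)) (tt N98018 D201127) (tt N92178 (iv7 F396104)))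
theorem Q60944 : ∀ i, i < 60944 → P i := stepQ 60943 Q60943 (allL N60943 (tt N36813 F342939) (tt N36701 F342940) (tt N36812 F342941) (tt N98015 (iv3 F419171)) (tt N56171 (iv4 F177856)) (tt N98019 D201128) (tt N32557 (iv6 D113951)) (tt N36811 F342942))
theorem Q60945 : ∀ i, i < 60945 → P i := stepQ 60944 Q60944 (allL N60944 (tt N69321 F347108) (tt N69324 (iv0 F359266)) (tt N69248 (iv2 F359270)) (tt N32558 (iv3 D113953)) (tt N81058 F339477) (tt N56553 F396114) (tt N68732 F359271) (tt N92175 (iv7 F396095)))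
theorem Q60946 : ∀ i, i < 60946 → P i := stepQ 60945 Q60945 (allL N60945 (tt N98016 (iv1 F419175)) (tt N92628 (iv0 F397683)) (tt N92178 (iv2 F396103)) (tt N56553 (iv3 F396113)) (tt N98020 D201129) (tt N32558 (iv5 D113955)) (tt N56550 F396112) (tt N92176 (iv7 F396100)))
theorem Q60947 : ∀ i, i < 60947 → P i := stepQ 60946 Q60946 (allL N60946 (tt N92182 (iv1 F396135)) (tt N32559 (iv0 D113957)) (tt N92179 F396116) (tt N98021 D201130) (tt N98022 D201131) (tt N56199 (iv5 F177854)) (tt N93039 (iv6 F399236)) (tt N92180 (iv7 F396120)))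
theorem Q60948 : ∀ i, i < 60948 → P i := stepQ 60947 Q60947 (allL N60947 (tt N32559 (iv1 D113958)) (tt N92182 F396134) (tt N92180 F396121) (tt N98023 D201132) (tt N98024 D201133) (tt N56206 F179039) (tt N98025 D201134) (tt N92179 F396118))
theorem Q60949 : ∀ i, i < 60949 → P i := stepQ 60948 Q60948 (allL N60948 (tt N98026 D201135) (tt N98027 D201136) (tt N92181 (iv2 F396127)) (tt N98028 D201137) (tt N32559 (iv4 D113959)) (tt N61597 (iv5 F179085)) (tt N92112 (iv6 F395796)) (tt N61618 (iv7 F179142)))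
theorem Q60950 : ∀ i, i < 60950 → P i := stepQ 60949 Q60949 (allL N60949 (tt N92180 (iv1 F396119)) (tt N92179 F396125) (tt N92182 (iv2 F396131)) (tt N68846 (iv3 F365451)) (tt N61618 (iv4 F179143)) (tt N32560 F177302) (tt N98029 D201138) (tt N32559 (iv7 D113960)))
theorem Q60951 : ∀ i, i < 60951 → P i := stepQ 60950 Q60950 (allL N60950 (tt N74899 F336811) (tt N32561 (iv0 D113967)) (tt N74900 F336812) (tt N39006 F336813) (tt N41754 F336814) (tt N32921 F336815) (tt N41753 F336816) (tt N62802 F336817))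
theorem Q60952 : ∀ i, i < 60952 → P i := stepQ 60951 Q60951 (allL N60951 (tt N74900 (iv1 F349031)) (tt N62802 (iv0 F349028)) (tt N32561 (iv2 D113969)) (tt N81411 F354893) (tt N70617 F349026) (tt N81408 (iv5 F357754)) (tt N70616 (iv6 F349027)) (tt N74899 (iv7 F336810)))
theorem Q60953 : ∀ i, i < 60953 → P i := stepQ 60952 Q60952 (allL N60952 (tt N62783 F349044) (tt N74880 (iv0 F339458)) (tt N70617 (iv2 F349023)) (tt N56264 F336820) (tt N32561 (iv4 D113970)) (tt N83843 (iv5 F349055)) (tt N39041 F349021) (tt N74881 F349022))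
theorem Q60954 : ∀ i, i < 60954 → P i := stepQ 60953 Q60953 (allL N60953 (tt N81407 F349058) (tt N63307 (iv0 F361657)) (tt N81408 F339588) (tt N32563 F177311) (tt N83836 F336819) (tt N32561 (iv5 D113971)) (tt N76386 F335474) (tt N75697 F233478))
theorem Q60955 : ∀ i, i < 60955 → P i := stepQ 60954 Q60954 (allL N60954 (tt N61713 F333504) (tt N70701 F333505) (tt N70616 F333506) (tt N32564 F177312) (tt N39041 F333507) (tt N78935 (iv5 F336823)) (tt N32561 (iv6 D113972)) (tt N70619 F333508))
theorem Q60956 : ∀ i, i < 60956 → P i := stepQ 60955 Q60955 (allL N60955 (tt N98030 D201139) (tt N97546 (iv0 F417337)) (tt N98031 D201140) (tt N32562 (iv3 D113976)) (tt N56264 (iv4 F349025)) (tt N48787 F347555) (tt N70800 F347554) (tt N92186 (iv7 F396149)))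
theorem Q60957 : ∀ i, i < 60957 → P i := stepQ 60956 Q60956 (allL N60956 (tt N68720 F347558) (tt N93240 F400084) (tt N92184 (iv2 F396141)) (tt N48787 F347556) (tt N98032 D201141) (tt N32562 (iv5 D113977)) (tt N48803 F347557) (tt N92187 (iv7 F396154)))
theorem Q60958 : ∀ i, i < 60958 → P i := stepQ 60957 Q60957 (allL N60957 (tt N97516 F417217) (tt N98033 D201142) (tt N92185 (iv2 F396144)) (tt N70800 (iv3 F347552)) (tt N32564 F177315) (tt N82382 F347553) (tt N32562 (iv6 D113978)) (tt N98034 D201143))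
theorem Q60959 : ∀ i, i < 60959 → P i := stepQ 60958 Q60958 (allL N60958 (tt N32567 F177322) (tt N32563 (iv0 D113980)) (tt N61569 (iv2 F179044)) (tt N74868 (iv3 F356669)) (tt N61252 (iv4 F178445)) (tt N55825 (iv5 F177325)) (tt N45145 (iv6 F177320)) (tt N32771 F177321))
theorem Q60960 : ∀ i, i < 60960 → P i := stepQ 60959 Q60959 (allL N60959 (tt N61123 F178190) (tt N55780 F178184) (tt N61121 (iv2 F193506)) (tt N84391 (iv3 F369122)) (tt N32563 (iv4 D113981)) (tt N56320 (iv5 F177629)) (tt N61178 F178188) (tt N45067 (iv7 F193508)))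
theorem Q60961 : ∀ i, i < 60961 → P i := stepQ 60960 Q60960 (allL N60960 (tt N32726 F177479) (tt N61495 (iv0 F178927)) (tt N75701 (iv2 F233490)) (tt N76386 (iv3 F335473)) (tt N61178 (iv4 F178187)) (tt N64185 (iv5 F193532)) (tt N32563 (iv6 D113982)) (tt N45082 F177483))
theorem Q60962 : ∀ i, i < 60962 → P i := stepQ 60961 Q60961 (allL N60961 (tt N61697 F333234) (tt N33025 F333235) (tt N61696 (iv2 F333510)) (tt N70619 F333236) (tt N98034 (iv4 F419248)) (tt N42734 F193503) (tt N39061 F327705) (tt N32564 (iv7 D113986)))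
theorem Q60963 : ∀ i, i < 60963 → P i := stepQ 60962 Q60962 (allL N60962 (tt N32565 (iv1 D113989)) (tt N81411 F354896) (tt N81409 F354889) (tt N70821 F363736) (tt N90609 (iv4 F390258)) (tt N32935 F251208) (tt N91786 F394414) (tt N78887 F251209))
theorem Q60964 : ∀ i, i < 60964 → P i := stepQ 60963 Q60963 (allL N60963 (tt N90634 (iv1 F390328)) (tt N90633 F390327) (tt N81410 F357752) (tt N98035 D201144) (tt N32565 (iv4 D113991)) (tt N81392 F357753) (tt N98036 D201145) (tt N81391 (iv7 F354897)))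
theorem Q60965 : ∀ i, i < 60965 → P i := stepQ 60964 Q60964 (allL N60964 (tt N70500 F326350) (tt N39069 F326351) (tt N69186 F326352) (tt N32568 F177488) (tt N98036 (iv4 F419259)) (tt N37154 (iv5 F326370)) (tt N32565 (iv6 D113993)) (tt N69180 F326353))
theorem Q60966 : ∀ i, i < 60966 → P i := stepQ 60965 Q60965 (allL N60965 (tt N97507 F417157) (tt N68834 (iv0 F365454)) (tt N68767 F365925) (tt N32566 (iv3 D113994)) (tt N98035 (iv4 F419253)) (tt N69234 (iv5 F365926)) (tt N56533 (iv6 F365924)) (tt N92183 (iv7 F396137)))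
theorem Q60967 : ∀ i, i < 60967 → P i := stepQ 60966 Q60966 (allL N60966 (tt N56555 F377469) (tt N97554 F417363) (tt N70650 F326354) (tt N56533 F326355) (tt N32568 F177489) (tt N68817 (iv5 F363064)) (tt N32566 (iv6 D113996)) (tt N68761 F326356))
theorem Q60968 : ∀ i, i < 60968 → P i := stepQ 60967 Q60967 (allL N60967 (tt N55780 (iv1 F178230)) (tt N61123 (iv0 F178039)) (tt N45067 F193509) (tt N76637 (iv3 F239636)) (tt N32567 (iv4 D113997)) (tt N56321 F177634) (tt N32585 (iv6 F177635)) (tt N61121 F193504))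
theorem Q60969 : ∀ i, i < 60969 → P i := stepQ 60968 Q60968 (allL N60968 (tt N38996 F325503) (tt N60838 (iv0 F177492)) (tt N70651 (iv2 F326367)) (tt N37154 (iv3 F326369)) (tt N69083 F325504) (tt N32568 (iv5 D114000)) (tt N45079 F177491) (tt N69179 F325505))
theorem Q60970 : ∀ i, i < 60970 → P i := stepQ 60969 Q60969 (allL N60969 (tt N78798 (iv1 F250897)) (tt N78797 F250896) (tt N61540 (iv2 F179008)) (tt N97969 (iv3 F419015)) (tt N98037 D201146) (tt N32569 (iv5 D114002)) (tt N32948 F177494) (tt N32572 F177495))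
theorem Q60971 : ∀ i, i < 60971 → P i := stepQ 60970 Q60970 (allL N60970 (tt N41753 F335960) (tt N41749 F335961) (tt N74856 F335962) (tt N32570 (iv3 D114004)) (tt N45193 F335963) (tt N98038 D201147) (tt N98039 D201148) (tt N74858 F335964))
theorem Q60972 : ∀ i, i < 60972 → P i := stepQ 60971 Q60971 (allL N60971 (tt N98040 D201149) (tt N98041 D201150) (tt N92188 (iv2 F396156)) (tt N98038 (iv3 F419264)) (tt N98042 D201151) (tt N32570 (iv5 D114006)) (tt N98043 D201152) (tt N92189 (iv7 F396163)))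
theorem Q60973 : ∀ i, i < 60973 → P i := stepQ 60972 Q60972 (allL N60972 (tt N92165 (iv1 F396051)) (tt N39064 F364717) (tt N68163 (iv2 F209204)) (tt N98039 (iv3 F419269)) (tt N66011 (iv4 F377839)) (tt N60167 F177497) (tt N32570 (iv6 D114007)) (tt N68161 (iv7 F209203)))
theorem Q60974 : ∀ i, i < 60974 → P i := stepQ 60973 Q60973 (allL N60973 (tt N98041 (iv1 F419275)) (tt N98040 F419273) (tt N92189 (iv2 F396160)) (tt N50826 F251771) (tt N98044 D201153) (tt N32571 (iv5 D114011)) (tt N50824 (iv6 F251772)) (tt N92188 (iv7 F396159)))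
theorem Q60975 : ∀ i, i < 60975 → P i := stepQ 60974 Q60974 (allL N60974 (tt N61540 (iv1 F179012)) (tt N32572 (iv0 D114013)) (tt N78797 (iv2 F418782)) (tt N98045 D201154) (tt N98046 D201155) (tt N97918 (iv5 F418799)) (tt N98047 D201156) (tt N78798 F418781))
theorem Q60976 : ∀ i, i < 60976 → P i := stepQ 60975 Q60975 (allL N60975 (tt N32572 (iv1 D114014)) (tt N61540 F179011) (tt N78798 F418779) (tt N98048 D201157) (tt N98049 D201158) (tt N97914 (iv5 F418778)) (tt N98050 D201159) (tt N78797 (iv7 F418780)))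
theorem Q60977 : ∀ i, i < 60977 → P i := stepQ 60976 Q60976 (allL N60976 (tt N98051 D201160) (tt N98052 D201161) (tt N61653 (iv2 F179174)) (tt N98053 D201162) (tt N32572 (iv4 D114015)) (tt N98054 D201163) (tt N32573 F177499) (tt N98037 (iv7 F419262)))
theorem Q60978 : ∀ i, i < 60978 → P i := stepQ 60977 Q60977 (allL N60977 (tt N98055 D201164) (tt N98056 D201165) (tt N98057 D201166) (tt N32573 (iv3 D114016)) (tt N97976 (iv4 F419035)) (tt N44968 F177500) (tt N98053 (iv6 F419296)) (tt N32972 F177501))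
theorem Q60979 : ∀ i, i < 60979 → P i := stepQ 60978 Q60978 (allL N60978 (tt N88200 (iv1 F382149)) (tt N46620 F313244) (tt N32577 F177502) (tt N32648 F177503) (tt N42026 F177504) (tt N60803 F177505) (tt N32576 (iv6 D114017)) (tt N88198 (iv7 F382134)))
theorem Q60980 : ∀ i, i < 60980 → P i := stepQ 60979 Q60979 (allL N60979 (tt N88198 (iv1 F382133)) (tt N32577 (iv0 D114018)) (tt N88200 (iv2 F382145)) (tt N81458 F349082) (tt N46621 F308841) (tt N88256 (iv5 F382376)) (tt N66573 F361069) (tt N46620 (iv7 F311005)))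
theorem Q60981 : ∀ i, i < 60981 → P i := stepQ 60980 Q60980 (allL N60980 (tt N74917 F360948) (tt N98058 D201167) (tt N60803 F177506) (tt N32581 F177507) (tt N88242 (iv4 F382322)) (tt N32577 (iv5 D114020)) (tt N32578 F177508) (tt N98059 D201168))
theorem Q60982 : ∀ i, i < 60982 → P i := stepQ 60981 Q60981 (allL N60981 (tt N46620 F313245) (tt N88200 F382148) (tt N88198 (iv2 F382137)) (tt N32582 F177509) (tt N75247 (iv4 F230880)) (tt N98059 (iv5 F419314)) (tt N45064 F177510) (tt N32577 (iv7 D114021)))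
theorem Q60983 : ∀ i, i < 60983 → P i := stepQ 60982 Q60982 (allL N60982 (tt N92722 (iv1 F397977)) (tt N92714 (iv0 F397946)) (tt N60802 F177511) (tt N98060 D201169) (tt N32578 (iv4 D114022)) (tt N98061 D201170) (tt N88242 F382325) (tt N93172 (iv7 F399794)))
theorem Q60984 : ∀ i, i < 60984 → P i := stepQ 60983 Q60983 (allL N60983 (tt N61138 F336935) (tt N32620 F336936) (tt N61136 (iv2 F336955)) (tt N32579 (iv3 D114024)) (tt N77206 (iv4 F336932)) (tt N70461 F336942) (tt N85810 (iv6 F374053)) (tt N45042 (iv7 F177877)))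
theorem Q60985 : ∀ i, i < 60985 → P i := stepQ 60984 Q60984 (allL N60984 (tt N61019 (iv1 F177666)) (tt N70462 F332583) (tt N35924 F332584) (tt N70461 F332585) (tt N35951 F332586) (tt N32579 (iv5 D114026)) (tt N66151 F332587) (tt N45043 (iv7 F177878)))
theorem Q60986 : ∀ i, i < 60986 → P i := stepQ 60985 Q60985 (allL N60985 (tt N46049 F177668) (tt N46041 F290522) (tt N45044 F177772) (tt N69535 F346170) (tt N34405 (iv4 F177771)) (tt N61067 (iv5 F177769)) (tt N32580 (iv6 D114031)) (tt N61113 (iv7 F178017)))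
theorem Q60987 : ∀ i, i < 60987 → P i := stepQ 60986 Q60986 (allL N60986 (tt N45047 (iv1 F177521)) (tt N32581 (iv0 D114032)) (tt N37313 (iv2 F333203)) (tt N69523 F333199) (tt N68991 F333200) (tt N61564 (iv5 F179033)) (tt N98062 D201171) (tt N45045 F177860))
theorem Q60988 : ∀ i, i < 60988 → P i := stepQ 60987 Q60987 (allL N60987 (tt N75702 (iv1 F233497)) (tt N69010 (iv0 F326563)) (tt N45046 F177517) (tt N98063 D201172) (tt N32581 (iv4 D114034)) (tt N93209 (iv5 F399977)) (tt N32583 F177518) (tt N98064 D201173))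
theorem Q60989 : ∀ i, i < 60989 → P i := stepQ 60988 Q60988 (allL N60988 (tt N45045 (iv1 F177522)) (tt N37313 F333209) (tt N45047 F177519) (tt N98059 (iv3 F419312)) (tt N98064 (iv4 F419328)) (tt N32582 F177520) (tt N93196 (iv6 F399919)) (tt N32581 (iv7 D114035)))
theorem Q60990 : ∀ i, i < 60990 → P i := stepQ 60989 Q60989 (allL N60989 (tt N98065 D201174) (tt N98066 D201175) (tt N98067 D201176) (tt N32583 (iv3 D114036)) (tt N98060 (iv4 F419317)) (tt N78908 (iv5 F251333)) (tt N98063 (iv6 F419324)) (tt N78907 F251330))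
theorem Q60991 : ∀ i, i < 60991 → P i := stepQ 60990 Q60990 (allL N60990 (tt N46059 (iv1 F177529)) (tt N32584 (iv0 D114037)) (tt N46057 F288177) (tt N63406 (iv3 F261861)) (tt N52338 F261859) (tt N98068 D201177) (tt N97122 (iv6 F415546)) (tt N46058 F288178))
theorem Q60992 : ∀ i, i < 60992 → P i := stepQ 60991 Q60991 (allL N60991 (tt N32584 (iv1 D114038)) (tt N46059 F177524) (tt N46058 F288173) (tt N81450 (iv3 F326298)) (tt N52602 F288174) (tt N83746 F331422) (tt N83639 (iv6 F288136)) (tt N46057 F288175))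
theorem Q60993 : ∀ i, i < 60993 → P i := stepQ 60992 Q60992 (allL N60992 (tt N46058 (iv1 F177530)) (tt N46057 F177531) (tt N46059 F177525) (tt N32587 F177526) (tt N87713 (iv4 F380234)) (tt N56456 F177527) (tt N45040 F177528) (tt N32584 (iv7 D114039)))
theorem Q60994 : ∀ i, i < 60994 → P i := stepQ 60993 Q60993 (allL N60993 (tt N61076 F177915) (tt N79949 F259064) (tt N45066 F193517) (tt N76636 (iv3 F239635)) (tt N93034 (iv4 F399202)) (tt N32585 (iv5 D114043)) (tt N78292 (iv6 F364638)) (tt N45069 (iv7 F193522)))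
theorem Q60995 : ∀ i, i < 60995 → P i := stepQ 60994 Q60994 (allL N60994 (tt N79949 (iv1 F259065)) (tt N61076 (iv0 F178022)) (tt N45069 F193523) (tt N51425 F177536) (tt N93056 (iv4 F399310)) (tt N32586 (iv5 D114048)) (tt N51424 (iv6 F177535)) (tt N45066 F193516))
theorem Q60996 : ∀ i, i < 60996 → P i := stepQ 60995 Q60995 (allL N60995 (tt N32603 F177546) (tt N61661 F179192) (tt N36668 F177542) (tt N50016 F177543) (tt N33487 F177544) (tt N43241 F177547) (tt N32588 (iv6 D114050)) (tt N41442 F177545))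
theorem Q60997 : ∀ i, i < 60997 → P i := stepQ 60996 Q60996 (allL N60996 (tt N32812 F177549) (tt N61363 (iv0 F356877)) (tt N46004 F177548) (tt N92948 (iv3 F398871)) (tt N32589 (iv4 D114051)) (tt N98069 D201178) (tt N76642 (iv6 F239640)) (tt N63421 (iv7 F187372)))
theorem Q60998 : ∀ i, i < 60998 → P i := stepQ 60997 Q60997 (allL N60997 (tt N64037 F192349) (tt N64765 F198286) (tt N61466 (iv2 F178885)) (tt N32590 (iv3 D114052)) (tt N76948 (iv4 F240912)) (tt N43959 F177550) (tt N85802 (iv6 F374017)) (tt N46010 F177551))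
theorem Q60999 : ∀ i, i < 60999 → P i := stepQ 60998 Q60998 (allL N60998 (tt N81507 F346736) (tt N98070 D201179) (tt N85782 (iv2 F373910)) (tt N32593 F177552) (tt N61470 (iv4 F178895)) (tt N85906 F374403) (tt N32591 (iv6 D114053)) (tt N86222 (iv7 F375431)))
theorem Q61000 : ∀ i, i < 61000 → P i := stepQ 60999 Q60999 (allL N60999 (tt N74374 (iv1 F348644)) (tt N76554 (iv0 F339228)) (tt N43235 F177553) (tt N44733 F177554) (tt N32593 F177555) (tt N34279 F298221) (tt N32592 (iv6 D114054)) (tt N44027 F298222))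
theorem Q61001 : ∀ i, i < 61001 → P i := stepQ 61000 Q61000 (allL N61000 (tt N43239 (iv1 F177562)) (tt N32593 (iv0 D114055)) (tt N43236 F339740) (tt N61557 F339741) (tt N76549 F339742) (tt N98071 D201180) (tt N37311 F339743) (tt N43237 F339744))
theorem Q61002 : ∀ i, i < 61002 → P i := stepQ 61001 Q61001 (allL N61001 (tt N50452 F177559) (tt N92830 (iv0 F398407)) (tt N43238 F177557) (tt N85906 F374401) (tt N64795 F355576) (tt N32593 (iv5 D114057)) (tt N32653 F177558) (tt N86220 (iv7 F375418)))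
theorem Q61003 : ∀ i, i < 61003 → P i := stepQ 61002 Q61002 (allL N61002 (tt N43237 (iv1 F177563)) (tt N43236 F177564) (tt N43239 F177560) (tt N86222 (iv3 F375430)) (tt N44027 F348528) (tt N86220 (iv5 F375420)) (tt N43231 F177561) (tt N32593 (iv7 D114058)))
theorem Q61004 : ∀ i, i < 61004 → P i := stepQ 61003 Q61003 (allL N61003 (tt N43838 F306815) (tt N46891 F298393) (tt N45433 F177565) (tt N32594 (iv3 D114059)) (tt N81698 (iv4 F276479)) (tt N45432 F177566) (tt N98072 D201181) (tt N43233 F177567))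
theorem Q61005 : ∀ i, i < 61005 → P i := stepQ 61004 Q61004 (allL N61004 (tt N76543 F340168) (tt N41683 F340169) (tt N43229 F177569) (tt N98072 (iv3 F419350)) (tt N32595 F177570) (tt N65147 (iv5 F340174)) (tt N32594 (iv6 D114060)) (tt N81997 (iv7 F340171)))
theorem Q61006 : ∀ i, i < 61006 → P i := stepQ 61005 Q61005 (allL N61005 (tt N56194 F258993) (tt N92848 (iv0 F398494)) (tt N43174 F177579) (tt N49614 (iv3 F307557)) (tt N33925 F177580) (tt N55459 F352036) (tt N32597 (iv6 D114065)) (tt N77634 (iv7 F352034)))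
theorem Q61007 : ∀ i, i < 61007 → P i := stepQ 61006 Q61006 (allL N61006 (tt N47348 F319370) (tt N43306 F319371) (tt N43960 F177581) (tt N46951 (iv3 F321381)) (tt N43946 F177582) (tt N98073 D201182) (tt N32598 (iv6 D114066)) (tt N47346 F328953))
theorem Q61008 : ∀ i, i < 61008 → P i := stepQ 61007 Q61007 (allL N61007 (tt N85804 (iv1 F374024)) (tt N32599 (iv0 D114067)) (tt N78979 (iv2 F251642)) (tt N87355 (iv3 F379115)) (tt N78978 F251643) (tt N98074 D201183) (tt N74339 F331685) (tt N85801 (iv7 F374012)))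
theorem Q61009 : ∀ i, i < 61009 → P i := stepQ 61008 Q61008 (allL N61008 (tt N98075 D201184) (tt N98076 D201185) (tt N85803 (iv2 F374018)) (tt N61473 (iv3 F178898)) (tt N98077 D201186) (tt N32599 (iv5 D114069)) (tt N98073 (iv6 F419355)) (tt N98078 D201187))
theorem Q61010 : ∀ i, i < 61010 → P i := stepQ 61009 Q61009 (allL N61009 (tt N85801 (iv1 F374011)) (tt N78979 (iv0 F251640)) (tt N85804 (iv2 F374020)) (tt N61474 (iv3 F178899)) (tt N32602 F177583) (tt N98078 (iv5 F419365)) (tt N46019 F177584) (tt N32599 (iv7 D114070)))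
theorem Q61011 : ∀ i, i < 61011 → P i := stepQ 61010 Q61010 (allL N61010 (tt N98079 D201188) (tt N76536 (iv0 F335780)) (tt N85799 (iv2 F373999)) (tt N79435 F354962) (tt N32600 (iv4 D114071)) (tt N82195 (iv5 F355108)) (tt N41693 F355106) (tt N57397 (iv7 F354966)))
theorem Q61012 : ∀ i, i < 61012 → P i := stepQ 61011 Q61011 (allL N61011 (tt N92850 F398508) (tt N92854 F398525) (tt N85800 (iv2 F374004)) (tt N50077 F177585) (tt N41693 F330317) (tt N73670 F330318) (tt N32600 (iv6 D114072)) (tt N38856 F323568))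
theorem Q61013 : ∀ i, i < 61013 → P i := stepQ 61012 Q61012 (allL N61012 (tt N42448 F333302) (tt N34352 F333303) (tt N44007 F333304) (tt N32601 (iv3 D114073)) (tt N67053 F333305) (tt N54758 F177587) (tt N61687 (iv6 F349087)) (tt N44006 F333306))
theorem Q61014 : ∀ i, i < 61014 → P i := stepQ 61013 Q61013 (allL N61013 (tt N76536 F353776) (tt N98079 F419370) (tt N57397 F353772) (tt N43835 F353773) (tt N32601 (iv4 D114074)) (tt N77720 F353774) (tt N57313 F353775) (tt N85799 (iv7 F374001)))
theorem Q61015 : ∀ i, i < 61015 → P i := stepQ 61014 Q61014 (allL N61014 (tt N75625 F333333) (tt N84786 F370626) (tt N92808 (iv2 F398316)) (tt N32605 F177590) (tt N92808 (iv4 F398319)) (tt N32604 (iv5 D114080)) (tt N49327 F292582) (tt N92192 (iv7 F396178)))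
theorem Q61016 : ∀ i, i < 61016 → P i := stepQ 61015 Q61015 (allL N61015 (tt N32605 (iv1 D114082)) (tt N32608 F177593) (tt N49802 (iv2 F290556)) (tt N50448 F177597) (tt N55013 (iv4 F177595)) (tt N66774 (iv5 F205427)) (tt N45174 (iv6 F205432)) (tt N54830 (iv7 F290543)))
theorem Q61017 : ∀ i, i < 61017 → P i := stepQ 61016 Q61016 (allL N61016 (tt N45167 F177603) (tt N51793 F177604) (tt N51791 F177600) (tt N46040 F177601) (tt N32607 (iv4 D114084)) (tt N98080 D201189) (tt N98081 D201190) (tt N51790 F177602))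
theorem Q61018 : ∀ i, i < 61018 → P i := stepQ 61017 Q61017 (allL N61017 (tt N97789 (iv1 F418314)) (tt N81506 (iv0 F335164)) (tt N85778 (iv2 F373895)) (tt N32609 F177606) (tt N98081 (iv4 F419378)) (tt N85943 (iv5 F374535)) (tt N32607 (iv6 D114085)) (tt N98082 D201191))
theorem Q61019 : ∀ i, i < 61019 → P i := stepQ 61018 Q61018 (allL N61018 (tt N61563 (iv1 F179026)) (tt N32609 (iv0 D114086)) (tt N61564 (iv2 F179031)) (tt N37314 F333211) (tt N55829 (iv4 F177609)) (tt N37313 F333212) (tt N46038 F177608) (tt N45006 (iv7 F177785)))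
theorem Q61020 : ∀ i, i < 61020 → P i := stepQ 61019 Q61019 (allL N61019 (tt N38853 F332597) (tt N60984 F177666) (tt N66070 (iv2 F332577)) (tt N85943 (iv3 F374534)) (tt N70582 F332598) (tt N32609 (iv5 D114088)) (tt N50173 F177665) (tt N66071 (iv7 F332582)))
theorem Q61021 : ∀ i, i < 61021 → P i := stepQ 61020 Q61020 (allL N61020 (tt N45006 F177671) (tt N61564 F179035) (tt N61563 (iv2 F179030)) (tt N98082 (iv3 F419380)) (tt N46047 F177669) (tt N66071 (iv5 F332580)) (tt N56208 F177670) (tt N32609 (iv7 D114089)))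
theorem Q61022 : ∀ i, i < 61022 → P i := stepQ 61021 Q61021 (allL N61021 (tt N84729 F370388) (tt N51237 (iv0 F364729)) (tt N85765 (iv2 F373838)) (tt N32610 (iv3 D114091)) (tt N85765 (iv4 F373839)) (tt N98083 D201192) (tt N97909 (iv6 F418756)) (tt N50014 (iv7 F178292)))
theorem Q61023 : ∀ i, i < 61023 → P i := stepQ 61022 Q61022 (allL N61022 (tt N61178 (iv1 F178186)) (tt N45070 (iv0 F193468)) (tt N50012 (iv2 F178253)) (tt N98083 (iv3 F419386)) (tt N46049 F177679) (tt N32610 (iv5 D114092)) (tt N61182 (iv6 F178203)) (tt N36389 (iv7 F178226)))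
theorem Q61024 : ∀ i, i < 61024 → P i := stepQ 61023 Q61023 (allL N61023 (tt N32963 F177685) (tt N32960 F177686) (tt N45177 F177683) (tt N90105 (iv3 F388572)) (tt N32613 (iv4 D114095)) (tt N45177 F177684) (tt N85939 (iv6 F374521)) (tt N61205 (iv7 F178314)))
theorem Q61025 : ∀ i, i < 61025 → P i := stepQ 61024 Q61024 (allL N61024 (tt N81451 (iv1 F355325)) (tt N81450 (iv0 F326296)) (tt N46000 F177687) (tt N45226 F177688) (tt N76644 (iv4 F239652)) (tt N97262 (iv5 F416124)) (tt N32614 (iv6 D114096)) (tt N80899 F355326))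
theorem Q61026 : ∀ i, i < 61026 → P i := stepQ 61025 Q61025 (allL N61025 (tt N32616 (iv1 D114097)) (tt N32619 F177689) (tt N35065 (iv2 F177694)) (tt N43732 (iv3 F177693)) (tt N46112 F177692) (tt N34873 F177691) (tt N75577 (iv6 F347742)) (tt N35066 F177690))
theorem Q61027 : ∀ i, i < 61027 → P i := stepQ 61026 Q61026 (allL N61026 (tt N96222 F411574) (tt N96217 (iv0 F411550)) (tt N61139 (iv2 F178097)) (tt N34909 F177695) (tt N32617 F177696) (tt N44328 F329102) (tt N32616 (iv6 D114098)) (tt N72147 F329103))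
theorem Q61028 : ∀ i, i < 61028 → P i := stepQ 61027 Q61027 (allL N61027 (tt N61142 (iv1 F178112)) (tt N32617 (iv0 D114099)) (tt N45065 (iv2 F193483)) (tt N46002 F258959) (tt N81298 F349787) (tt N92034 (iv5 F395451)) (tt N85370 (iv6 F372383)) (tt N61140 F178111))
theorem Q61029 : ∀ i, i < 61029 → P i := stepQ 61028 Q61028 (allL N61028 (tt N93187 (iv1 F399869)) (tt N56476 (iv0 F357305)) (tt N61141 (iv2 F178102)) (tt N45235 F177697) (tt N98084 D201193) (tt N32617 (iv5 D114100)) (tt N32618 F177698) (tt N93186 (iv7 F399864)))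
theorem Q61030 : ∀ i, i < 61030 → P i := stepQ 61029 Q61029 (allL N61029 (tt N61140 (iv1 F178099)) (tt N45065 (iv0 F193481)) (tt N61142 (iv2 F178104)) (tt N45236 F177699) (tt N72147 F336380) (tt N93186 (iv5 F399861)) (tt N61138 (iv6 F178093)) (tt N32617 (iv7 D114101)))
theorem Q61031 : ∀ i, i < 61031 → P i := stepQ 61030 Q61030 (allL N61030 (tt N76308 (iv1 F238157)) (tt N69489 (iv0 F214515)) (tt N86491 F376379) (tt N86594 (iv3 F376553)) (tt N32618 (iv4 D114102)) (tt N98085 D201194) (tt N98084 (iv6 F419391)) (tt N86492 (iv7 F376381)))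
theorem Q61032 : ∀ i, i < 61032 → P i := stepQ 61031 Q61031 (allL N61031 (tt N98086 D201195) (tt N70074 F355305) (tt N35067 F177705) (tt N75587 (iv3 F347367)) (tt N32620 F177706) (tt N90404 (iv5 F389531)) (tt N32619 (iv6 D114104)) (tt N98087 D201196))
theorem Q61033 : ∀ i, i < 61033 → P i := stepQ 61032 Q61032 (allL N61032 (tt N32620 (iv1 D114106)) (tt N61138 F178095) (tt N45042 F336951) (tt N37320 F336952) (tt N77207 F336956) (tt N38573 F336953) (tt N98088 D201197) (tt N61136 F336954))
theorem Q61034 : ∀ i, i < 61034 → P i := stepQ 61033 Q61033 (allL N61033 (tt N69523 F347369) (tt N37310 F347370) (tt N61137 (iv2 F178090)) (tt N60797 F177707) (tt N97934 (iv4 F418855)) (tt N32620 (iv5 D114107)) (tt N32622 F177708) (tt N69522 (iv7 F355671)))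
theorem Q61035 : ∀ i, i < 61035 → P i := stepQ 61034 Q61034 (allL N61034 (tt N45042 F332619) (tt N61136 F178094) (tt N61138 (iv2 F178092)) (tt N63412 (iv3 F187345)) (tt N98087 (iv4 F419404)) (tt N69522 F355685) (tt N61142 (iv6 F178105)) (tt N32620 (iv7 D114108)))
theorem Q61036 : ∀ i, i < 61036 → P i := stepQ 61035 Q61035 (allL N61035 (tt N41878 F177711) (tt N50901 F177712) (tt N42389 F177709) (tt N41309 F177710) (tt N39464 F177713) (tt N32621 (iv5 D114109)) (tt N70467 F364210) (tt N79051 (iv7 F251998)))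
theorem Q61037 : ∀ i, i < 61037 → P i := stepQ 61036 Q61036 (allL N61036 (tt N78544 (iv1 F249093)) (tt N78542 (iv0 F249076)) (tt N45101 F177714) (tt N32623 (iv3 D114110)) (tt N46010 F177715) (tt N47073 F177716) (tt N98089 D201198) (tt N76948 (iv7 F240915)))
theorem Q61038 : ∀ i, i < 61038 → P i := stepQ 61037 Q61037 (allL N61037 (tt N98090 D201199) (tt N98091 D201200) (tt N32632 F177717) (tt N98089 (iv3 F419414)) (tt N32624 F177718) (tt N98092 D201201) (tt N32623 (iv6 D114111)) (tt N85828 (iv7 F374142)))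
theorem Q61039 : ∀ i, i < 61039 → P i := stepQ 61038 Q61038 (allL N61038 (tt N32636 (iv1 F177719)) (tt N32624 (iv0 D114112)) (tt N32633 F347660) (tt N46026 F347676) (tt N77655 (iv4 F347680)) (tt N81467 (iv5 F347659)) (tt N98093 D201202) (tt N32634 F347661))
theorem Q61040 : ∀ i, i < 61040 → P i := stepQ 61039 Q61039 (allL N61039 (tt N32624 (iv1 D114113)) (tt N32636 F177720) (tt N32634 F352377) (tt N92810 F398330) (tt N35137 F347685) (tt N81470 F352378) (tt N59265 F352395) (tt N32633 F352379))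
theorem Q61041 : ∀ i, i < 61041 → P i := stepQ 61040 Q61040 (allL N61040 (tt N46020 F337871) (tt N85790 F373950) (tt N32635 F177721) (tt N42392 F177722) (tt N77178 F352369) (tt N32624 (iv5 D114114)) (tt N32625 F177723) (tt N50080 F177724))
theorem Q61042 : ∀ i, i < 61042 → P i := stepQ 61041 Q61041 (allL N61041 (tt N32738 F177728) (tt N32743 F177729) (tt N32638 F177725) (tt N64054 (iv3 F192414)) (tt N32625 (iv4 D114115)) (tt N35059 F177726) (tt N77178 F352370) (tt N50072 F177727))
theorem Q61043 : ∀ i, i < 61043 → P i := stepQ 61042 Q61042 (allL N61042 (tt N98094 D201203) (tt N84275 (iv0 F369000)) (tt N92190 (iv2 F396164)) (tt N34501 F177730) (tt N32627 F177731) (tt N84171 F368413) (tt N32626 (iv6 D114116)) (tt N84176 (iv7 F368422)))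
theorem Q61044 : ∀ i, i < 61044 → P i := stepQ 61043 Q61043 (allL N61043 (tt N98095 D201204) (tt N91555 (iv0 F393629)) (tt N34071 F177733) (tt N32630 F177734) (tt N61408 (iv4 F178797)) (tt N43278 F177735) (tt N32628 (iv6 D114120)) (tt N98096 D201205))
theorem Q61045 : ∀ i, i < 61045 → P i := stepQ 61044 Q61044 (allL N61044 (tt N35038 F177739) (tt N35034 (iv0 F177740)) (tt N34496 F177736) (tt N32629 (iv3 D114121)) (tt N61407 (iv4 F178795)) (tt N34495 F177737) (tt N84038 (iv6 F367885)) (tt N35115 F177738))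
theorem Q61046 : ∀ i, i < 61046 → P i := stepQ 61045 Q61045 (allL N61045 (tt N32630 (iv1 D114124)) (tt N61556 F355673) (tt N45007 F355674) (tt N43237 F355675) (tt N76949 F355679) (tt N98097 D201206) (tt N98098 D201207) (tt N61557 F355676))
theorem Q61047 : ∀ i, i < 61047 → P i := stepQ 61046 Q61046 (allL N61046 (tt N50139 F178045) (tt N50461 F178046) (tt N50459 F177743) (tt N43278 F177744) (tt N85185 F372354) (tt N32630 (iv5 D114125)) (tt N32668 F177745) (tt N50458 (iv7 F251150)))
theorem Q61048 : ∀ i, i < 61048 → P i := stepQ 61047 Q61047 (allL N61047 (tt N45007 F356463) (tt N61557 F356464) (tt N61556 F355682) (tt N98096 (iv3 F419446)) (tt N54461 (iv4 F335755)) (tt N50458 F251152) (tt N56201 F340906) (tt N32630 (iv7 D114126)))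
theorem Q61049 : ∀ i, i < 61049 → P i := stepQ 61048 Q61048 (allL N61048 (tt N92835 (iv1 F398439)) (tt N56203 (iv0 F191341)) (tt N76951 (iv2 F240919)) (tt N56120 F177746) (tt N61265 (iv4 F178464)) (tt N88565 (iv5 F383504)) (tt N32631 (iv6 D114127)) (tt N92837 (iv7 F398447)))
theorem Q61050 : ∀ i, i < 61050 → P i := stepQ 61049 Q61049 (allL N61049 (tt N85828 F374144) (tt N32632 (iv0 D114128)) (tt N98090 F419420) (tt N73861 (iv3 F347668)) (tt N80483 F347667) (tt N98099 D201208) (tt N73859 F361681) (tt N98091 (iv7 F419423)))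
theorem Q61051 : ∀ i, i < 61051 → P i := stepQ 61050 Q61050 (allL N61050 (tt N32632 (iv1 D114129)) (tt N85828 F374143) (tt N98091 F419426) (tt N66999 (iv3 F352396)) (tt N86482 (iv4 F376345)) (tt N98100 D201209) (tt N98101 D201210) (tt N98090 F419421))
theorem Q61052 : ∀ i, i < 61052 → P i := stepQ 61051 Q61051 (allL N61051 (tt N98102 D201211) (tt N98103 D201212) (tt N98092 (iv2 F419427)) (tt N45110 F177747) (tt N98104 D201213) (tt N32632 (iv5 D114130)) (tt N77201 (iv6 F241965)) (tt N98105 D201214))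
theorem Q61053 : ∀ i, i < 61053 → P i := stepQ 61052 Q61052 (allL N61052 (tt N98091 (iv1 F419422)) (tt N98090 F419419) (tt N85828 (iv2 F374140)) (tt N45111 F177748) (tt N32636 F177749) (tt N98105 (iv5 F419467)) (tt N50040 F177750) (tt N32632 (iv7 D114131)))
theorem Q61054 : ∀ i, i < 61054 → P i := stepQ 61053 Q61053 (allL N61053 (tt N92811 (iv1 F398339)) (tt N42964 F377198) (tt N92809 F398323) (tt N32633 (iv3 D114133)) (tt N98106 D201215) (tt N98107 D201216) (tt N98108 D201217) (tt N92810 (iv7 F398329)))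
theorem Q61055 : ∀ i, i < 61055 → P i := stepQ 61054 Q61054 (allL N61054 (tt N86786 (iv1 F377197)) (tt N61483 F353816) (tt N77655 F352380) (tt N34934 F352381) (tt N32633 (iv4 D114134)) (tt N98109 D201218) (tt N98110 D201219) (tt N35137 F352382))
theorem Q61056 : ∀ i, i < 61056 → P i := stepQ 61055 Q61055 (allL N61055 (tt N75476 (iv1 F347652)) (tt N81449 (iv0 F347650)) (tt N81467 (iv2 F347653)) (tt N98107 (iv3 F419477)) (tt N80902 F347651) (tt N32633 (iv5 D114135)) (tt N82037 (iv6 F347654)) (tt N81470 (iv7 F347655)))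
theorem Q61057 : ∀ i, i < 61057 → P i := stepQ 61056 Q61056 (allL N61056 (tt N98098 (iv1 F419493)) (tt N98111 D201220) (tt N98093 (iv2 F419429)) (tt N98108 (iv3 F419481)) (tt N98110 (iv4 F419488)) (tt N98112 D201221) (tt N32633 (iv6 D114136)) (tt N98113 D201222))
theorem Q61058 : ∀ i, i < 61058 → P i := stepQ 61057 Q61057 (allL N61057 (tt N42392 F347669) (tt N46028 F347670) (tt N46027 F347671) (tt N32634 (iv3 D114138)) (tt N36642 F347672) (tt N61105 F347673) (tt N75238 F347674) (tt N46026 F347675))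
theorem Q61059 : ∀ i, i < 61059 → P i := stepQ 61058 Q61058 (allL N61058 (tt N61483 (iv1 F353814)) (tt N86786 F377196) (tt N35137 F352385) (tt N63753 F352386) (tt N32634 (iv4 D114139)) (tt N98114 D201223) (tt N59262 (iv6 F352391)) (tt N77655 F352387))
theorem Q61060 : ∀ i, i < 61060 → P i := stepQ 61059 Q61059 (allL N61059 (tt N81449 (iv1 F347665)) (tt N75476 F347666) (tt N81470 (iv2 F347663)) (tt N61105 F355805) (tt N80903 (iv4 F347664)) (tt N32634 (iv5 D114140)) (tt N61102 (iv6 F355804)) (tt N81467 F347662))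
theorem Q61061 : ∀ i, i < 61061 → P i := stepQ 61060 Q61060 (allL N61060 (tt N92842 F398467) (tt N92836 (iv0 F398442)) (tt N59265 (iv2 F352393)) (tt N75238 (iv3 F352394)) (tt N59262 F352392) (tt N86710 F376868) (tt N32634 (iv6 D114141)) (tt N92841 (iv7 F398460)))
theorem Q61062 : ∀ i, i < 61062 → P i := stepQ 61061 Q61061 (allL N61061 (tt N50080 (iv1 F177753)) (tt N32635 (iv0 D114142)) (tt N46020 F353806) (tt N41788 F353778) (tt N61471 (iv4 F353777)) (tt N98115 D201224) (tt N41786 F353779) (tt N85790 (iv7 F373951)))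
theorem Q61063 : ∀ i, i < 61063 → P i := stepQ 61062 Q61062 (allL N61062 (tt N32635 (iv1 D114143)) (tt N50080 F177754) (tt N85790 F373949) (tt N46013 F353810) (tt N61472 F353811) (tt N98116 D201225) (tt N98117 D201226) (tt N46020 F353812))
theorem Q61064 : ∀ i, i < 61064 → P i := stepQ 61063 Q61063 (allL N61063 (tt N77462 (iv1 F352367)) (tt N66998 (iv0 F354097)) (tt N77178 (iv2 F352366)) (tt N77447 F347847) (tt N32635 (iv4 D114144)) (tt N98118 D201227) (tt N32638 F177755) (tt N77463 F352365))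
theorem Q61065 : ∀ i, i < 61065 → P i := stepQ 61064 Q61064 (allL N61064 (tt N98119 D201228) (tt N56191 (iv0 F353426)) (tt N43225 F177756) (tt N42986 F177757) (tt N46996 F311745) (tt N84930 (iv5 F371116)) (tt N32637 (iv6 D114145)) (tt N47467 F311746))
theorem Q61066 : ∀ i, i < 61066 → P i := stepQ 61065 Q61065 (allL N61065 (tt N61113 F290505) (tt N45044 F290506) (tt N46049 F290507) (tt N32640 F177766) (tt N50012 F290508) (tt N32639 (iv5 D114150)) (tt N61123 F290509) (tt N46041 F177767))
theorem Q61067 : ∀ i, i < 61067 → P i := stepQ 61066 Q61066 (allL N61066 (tt N91556 F393633) (tt N98120 D201229) (tt N46050 F290510) (tt N32641 F177768) (tt N66668 (iv4 F366048)) (tt N66783 (iv5 F205550)) (tt N32639 (iv6 D114151)) (tt N98121 D201230))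
theorem Q61068 : ∀ i, i < 61068 → P i := stepQ 61067 Q61067 (allL N61067 (tt N32643 (iv1 F177770)) (tt N32640 (iv0 D114152)) (tt N46034 (iv2 F177883)) (tt N75473 (iv3 F346171)) (tt N87494 (iv4 F379545)) (tt N60985 F177769) (tt N90776 (iv6 F390801)) (tt N46035 (iv7 F177884)))
theorem Q61069 : ∀ i, i < 61069 → P i := stepQ 61068 Q61068 (allL N61068 (tt N32640 (iv1 D114153)) (tt N32643 F177885) (tt N46035 (iv2 F177887)) (tt N81449 F347626) (tt N87489 (iv4 F379536)) (tt N78898 (iv5 F251283)) (tt N45039 F178025) (tt N46034 F177886))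
theorem Q61070 : ∀ i, i < 61070 → P i := stepQ 61069 Q61069 (allL N61069 (tt N98122 D201231) (tt N98123 D201232) (tt N46036 F177888) (tt N85770 (iv3 F373863)) (tt N32640 (iv4 D114154)) (tt N87417 F379273) (tt N71832 F353125) (tt N46043 F177889))
theorem Q61071 : ∀ i, i < 61071 → P i := stepQ 61070 Q61070 (allL N61070 (tt N97122 (iv1 F415548)) (tt N93751 (iv0 F401769)) (tt N46037 F177890) (tt N61123 (iv3 F359295)) (tt N71832 (iv4 F353123)) (tt N66784 (iv5 F205553)) (tt N32640 (iv6 D114155)) (tt N61118 F353118))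
theorem Q61072 : ∀ i, i < 61072 → P i := stepQ 61071 Q61071 (allL N61071 (tt N32641 (iv1 D114157)) (tt N46039 F177891) (tt N46038 (iv2 F177893)) (tt N98111 F419498) (tt N45132 F177892) (tt N61176 (iv5 F178426)) (tt N61564 (iv6 F179034)) (tt N45009 (iv7 F177894)))
theorem Q61073 : ∀ i, i < 61073 → P i := stepQ 61072 Q61072 (allL N61072 (tt N46038 (iv1 F177900)) (tt N45009 F177901) (tt N46039 F177896) (tt N98121 (iv3 F419547)) (tt N56208 F177897) (tt N32696 F177898) (tt N46047 F177899) (tt N32641 (iv7 D114158)))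
theorem Q61074 : ∀ i, i < 61074 → P i := stepQ 61073 Q61073 (allL N61073 (tt N46563 F313073) (tt N46637 F313074) (tt N46634 F313075) (tt N32643 F177909) (tt N40858 F321779) (tt N32642 (iv5 D114163)) (tt N40857 F321780) (tt N46033 F177910))
theorem Q61075 : ∀ i, i < 61075 → P i := stepQ 61074 Q61074 (allL N61074 (tt N92818 (iv1 F398373)) (tt N92806 F398312) (tt N80496 F364499) (tt N32644 F177911) (tt N80440 (iv4 F364498)) (tt N98124 D201233) (tt N32642 (iv6 D114164)) (tt N92817 (iv7 F398362)))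
theorem Q61076 : ∀ i, i < 61076 → P i := stepQ 61075 Q61075 (allL N61075 (tt N98123 (iv1 F419557)) (tt N98122 F419554) (tt N46043 F177912) (tt N98125 D201234) (tt N32643 (iv4 D114165)) (tt N87416 (iv5 F379264)) (tt N87708 (iv6 F380213)) (tt N46036 F177913))
theorem Q61077 : ∀ i, i < 61077 → P i := stepQ 61076 Q61076 (allL N61076 (tt N60994 F178022) (tt N60993 (iv0 F177915)) (tt N46046 F177914) (tt N98124 (iv3 F419563)) (tt N98126 D201235) (tt N32644 (iv5 D114166)) (tt N92639 (iv6 F397719)) (tt N78926 (iv7 F251388)))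
theorem Q61078 : ∀ i, i < 61078 → P i := stepQ 61077 Q61077 (allL N61077 (tt N97276 F416171) (tt N56190 (iv0 F397762)) (tt N46042 (iv2 F290514)) (tt N80496 (iv3 F364500)) (tt N87942 (iv4 F381252)) (tt N61112 (iv5 F178012)) (tt N32645 (iv6 D114174)) (tt N98127 D201236))
theorem Q61079 : ∀ i, i < 61079 → P i := stepQ 61078 Q61078 (allL N61078 (tt N46054 (iv1 F177930)) (tt N32646 (iv0 D114175)) (tt N46051 F177934) (tt N52503 F348884) (tt N32900 F177933) (tt N98128 D201237) (tt N60755 F354597) (tt N46052 F177932))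
theorem Q61080 : ∀ i, i < 61080 → P i := stepQ 61079 Q61079 (allL N61079 (tt N32646 (iv1 D114176)) (tt N46054 F177920) (tt N46052 (iv2 F177922)) (tt N98129 D201238) (tt N32901 F177921) (tt N98130 D201239) (tt N98131 D201240) (tt N46051 (iv7 F177936)))
theorem Q61081 : ∀ i, i < 61081 → P i := stepQ 61080 Q61080 (allL N61080 (tt N98132 D201241) (tt N98133 D201242) (tt N46053 F177923) (tt N87352 (iv3 F379102)) (tt N49884 F177925) (tt N32646 (iv5 D114177)) (tt N52536 F177924) (tt N51801 (iv7 F177926)))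
theorem Q61082 : ∀ i, i < 61082 → P i := stepQ 61081 Q61081 (allL N61081 (tt N46052 (iv1 F177931)) (tt N46051 F177937) (tt N46054 F177927) (tt N87353 (iv3 F379107)) (tt N32647 F177928) (tt N51801 F177929) (tt N85781 (iv6 F373907)) (tt N32646 (iv7 D114178)))
theorem Q61083 : ∀ i, i < 61083 → P i := stepQ 61082 Q61082 (allL N61082 (tt N45040 (iv1 F177944)) (tt N32648 (iv0 D114179)) (tt N45038 F177947) (tt N47072 F332634) (tt N80027 F332627) (tt N69219 (iv5 F347551)) (tt N90768 (iv6 F390780)) (tt N45039 F177946))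
theorem Q61084 : ∀ i, i < 61084 → P i := stepQ 61083 Q61083 (allL N61083 (tt N45039 (iv1 F177945)) (tt N45038 F177949) (tt N45040 F177941) (tt N88198 F382136) (tt N87715 (iv4 F380243)) (tt N60806 F177942) (tt N46059 F177943) (tt N32648 (iv7 D114181)))
theorem Q61085 : ∀ i, i < 61085 → P i := stepQ 61084 Q61084 (allL N61084 (tt N45004 (iv1 F177953)) (tt N32649 (iv0 D114182)) (tt N45002 F350568) (tt N81507 F346737) (tt N36197 F346740) (tt N98134 D201243) (tt N81506 (iv6 F346738)) (tt N45003 F350569))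
theorem Q61086 : ∀ i, i < 61086 → P i := stepQ 61085 Q61085 (allL N61085 (tt N45003 (iv1 F177954)) (tt N45002 F177955) (tt N45004 F177951) (tt N75969 F234847) (tt N68115 F350593) (tt N66797 (iv5 F205601)) (tt N46065 F177952) (tt N32649 (iv7 D114184)))
theorem Q61087 : ∀ i, i < 61087 → P i := stepQ 61086 Q61086 (allL N61086 (tt N46074 (iv1 F177961)) (tt N32650 (iv0 D114185)) (tt N46072 F352654) (tt N42458 F352655) (tt N68112 F352656) (tt N98135 D201244) (tt N68117 (iv6 F335533)) (tt N46073 F352657))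
theorem Q61088 : ∀ i, i < 61088 → P i := stepQ 61087 Q61087 (allL N61087 (tt N32650 (iv1 D114186)) (tt N46074 F177956) (tt N46073 F352660) (tt N84486 (iv3 F369504)) (tt N79962 F259095) (tt N86439 (iv5 F376227)) (tt N84485 F369497) (tt N46072 F352661))
theorem Q61089 : ∀ i, i < 61089 → P i := stepQ 61088 Q61088 (allL N61088 (tt N46073 (iv1 F177962)) (tt N46072 F177963) (tt N46074 F177957) (tt N46081 F177958) (tt N52601 F259000) (tt N38215 F177959) (tt N42736 F177960) (tt N32650 (iv7 D114187)))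
theorem Q61090 : ∀ i, i < 61090 → P i := stepQ 61089 Q61089 (allL N61089 (tt N56447 F177967) (tt N84795 (iv0 F370648)) (tt N32684 F177964) (tt N32653 F177965) (tt N98136 D201245) (tt N32651 (iv5 D114188)) (tt N85906 F374402) (tt N32685 F177966))
theorem Q61091 : ∀ i, i < 61091 → P i := stepQ 61090 Q61090 (allL N61090 (tt N34133 (iv1 F177974)) (tt N32653 (iv0 D114190)) (tt N43240 (iv2 F177973)) (tt N50967 F177976) (tt N55307 (iv4 F352762)) (tt N41442 F177972) (tt N98137 D201246) (tt N43241 F177975))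
theorem Q61092 : ∀ i, i < 61092 → P i := stepQ 61091 Q61091 (allL N61091 (tt N76224 (iv1 F237954)) (tt N76223 (iv0 F237951)) (tt N43242 F177977) (tt N64798 (iv3 F355604)) (tt N32653 (iv4 D114191)) (tt N80612 F335348) (tt N64795 (iv6 F355601)) (tt N89313 (iv7 F386050)))
theorem Q61093 : ∀ i, i < 61093 → P i := stepQ 61092 Q61092 (allL N61092 (tt N47422 F332274) (tt N64465 (iv0 F230403)) (tt N61272 (iv2 F178471)) (tt N32654 (iv3 D114192)) (tt N76943 (iv4 F240895)) (tt N33949 F305816) (tt N98138 D201247) (tt N43196 F177979))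
theorem Q61094 : ∀ i, i < 61094 → P i := stepQ 61093 Q61093 (allL N61093 (tt N76380 (iv1 F346407)) (tt N98139 D201248) (tt N32657 F177980) (tt N98138 (iv3 F419641)) (tt N32655 F177981) (tt N74336 (iv5 F331683)) (tt N32654 (iv6 D114193)) (tt N98140 D201249))
theorem Q61095 : ∀ i, i < 61095 → P i := stepQ 61094 Q61094 (allL N61094 (tt N32660 (iv1 F177985)) (tt N32655 (iv0 D114194)) (tt N32658 F352129) (tt N75532 (iv3 F355801)) (tt N73700 (iv4 F330334)) (tt N73667 (iv5 F330339)) (tt N79923 (iv6 F258971)) (tt N32659 F352130))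
theorem Q61096 : ∀ i, i < 61096 → P i := stepQ 61095 Q61095 (allL N61095 (tt N32655 (iv1 D114195)) (tt N32660 F177982) (tt N32659 F352126) (tt N98141 D201250) (tt N73701 (iv4 F330335)) (tt N73663 (iv5 F330338)) (tt N98142 D201251) (tt N32658 F352127))
theorem Q61097 : ∀ i, i < 61097 → P i := stepQ 61096 Q61096 (allL N61096 (tt N32659 (iv1 F177986)) (tt N32658 F177987) (tt N32660 F177983) (tt N74459 (iv3 F343302)) (tt N98140 (iv4 F419656)) (tt N97181 (iv5 F415787)) (tt N43201 F177984) (tt N32655 (iv7 D114196)))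
theorem Q61098 : ∀ i, i < 61098 → P i := stepQ 61097 Q61097 (allL N61097 (tt N38635 F308845) (tt N38634 F308846) (tt N33962 F308847) (tt N61283 (iv3 F178516)) (tt N33972 F308848) (tt N81335 (iv5 F334153)) (tt N32656 (iv6 D114197)) (tt N38628 F308849))
theorem Q61099 : ∀ i, i < 61099 → P i := stepQ 61098 Q61098 (allL N61098 (tt N98140 (iv1 F419660)) (tt N32657 (iv0 D114198)) (tt N76380 (iv2 F346403)) (tt N88174 (iv3 F382020)) (tt N76379 (iv4 F338524)) (tt N40774 F330344) (tt N94580 F405041) (tt N98139 (iv7 F419647)))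
theorem Q61100 : ∀ i, i < 61100 → P i := stepQ 61099 Q61099 (allL N61099 (tt N32657 (iv1 D114199)) (tt N98140 F419659) (tt N98139 (iv2 F419653)) (tt N75019 (iv3 F350763)) (tt N76314 (iv4 F238180)) (tt N40780 F330347) (tt N98143 D201252) (tt N76380 (iv7 F346405)))
theorem Q61101 : ∀ i, i < 61101 → P i := stepQ 61100 Q61100 (allL N61100 (tt N40804 F324237) (tt N40806 F324238) (tt N74336 F324239) (tt N61284 (iv3 F178520)) (tt N73102 F324240) (tt N32657 (iv5 D114200)) (tt N81335 (iv6 F334154)) (tt N74337 F324241))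
theorem Q61102 : ∀ i, i < 61102 → P i := stepQ 61101 Q61101 (allL N61101 (tt N98139 (iv1 F419646)) (tt N76380 (iv0 F238492)) (tt N98140 (iv2 F419654)) (tt N61285 (iv3 F178521)) (tt N32660 F177990) (tt N74337 F331686) (tt N43263 F177991) (tt N32657 (iv7 D114201)))
theorem Q61103 : ∀ i, i < 61103 → P i := stepQ 61102 Q61102 (allL N61102 (tt N95838 F409876) (tt N34078 F355803) (tt N75553 F355802) (tt N32658 (iv3 D114203)) (tt N98144 D201253) (tt N98145 D201254) (tt N61059 F355804) (tt N98141 (iv7 F419665)))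
theorem Q61104 : ∀ i, i < 61104 → P i := stepQ 61103 Q61103 (allL N61103 (tt N44602 F352068) (tt N73655 F352069) (tt N73700 F352070) (tt N79280 (iv3 F359836)) (tt N32658 (iv4 D114204)) (tt N62554 F352071) (tt N57403 F352072) (tt N73701 F352073))
theorem Q61105 : ∀ i, i < 61105 → P i := stepQ 61104 Q61104 (allL N61104 (tt N98146 D201255) (tt N98147 D201256) (tt N73667 F352141) (tt N98145 (iv3 F419688)) (tt N62487 (iv4 F352140)) (tt N32658 (iv5 D114205)) (tt N91201 F392243) (tt N73663 F352128))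
theorem Q61106 : ∀ i, i < 61106 → P i := stepQ 61105 Q61105 (allL N61105 (tt N68199 F338695) (tt N98148 D201257) (tt N79923 F359852) (tt N61059 (iv3 F355805)) (tt N57403 (iv4 F338696)) (tt N61057 (iv5 F347673)) (tt N32658 (iv6 D114206)) (tt N79921 (iv7 F347677)))
theorem Q61107 : ∀ i, i < 61107 → P i := stepQ 61106 Q61106 (allL N61106 (tt N73655 F352131) (tt N44602 F352132) (tt N73701 F352133) (tt N75275 (iv3 F352142)) (tt N32659 (iv4 D114209)) (tt N62553 F352134) (tt N44028 F352135) (tt N73700 F352136))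
theorem Q61108 : ∀ i, i < 61108 → P i := stepQ 61107 Q61107 (allL N61107 (tt N98147 (iv1 F419695)) (tt N98146 F419693) (tt N73663 F352139) (tt N43059 F355190) (tt N61255 F355191) (tt N32659 (iv5 D114210)) (tt N43072 F355192) (tt N73667 F352137))
theorem Q61109 : ∀ i, i < 61109 → P i := stepQ 61108 Q61108 (allL N61108 (tt N98149 D201258) (tt N79900 F419674) (tt N98142 (iv2 F419669)) (tt N75552 F356296) (tt N44028 F356297) (tt N98150 D201259) (tt N32659 (iv6 D114211)) (tt N98151 D201260))
theorem Q61110 : ∀ i, i < 61110 → P i := stepQ 61109 Q61109 (allL N61109 (tt N98152 D201261) (tt N52124 (iv0 F350240)) (tt N73749 F331568) (tt N32662 F178002) (tt N52054 (iv4 F331567)) (tt N32661 (iv5 D114221)) (tt N98153 D201262) (tt N73734 F331569))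
theorem Q61111 : ∀ i, i < 61111 → P i := stepQ 61110 Q61110 (allL N61110 (tt N32662 (iv1 D114224)) (tt N32665 F178006) (tt N92200 (iv2 F396217)) (tt N98147 (iv3 F419700)) (tt N98154 D201263) (tt N56344 (iv5 F178008)) (tt N60255 F178009) (tt N56343 F178007))
theorem Q61112 : ∀ i, i < 61112 → P i := stepQ 61111 Q61111 (allL N61111 (tt N73672 F340495) (tt N98155 D201264) (tt N88241 (iv2 F382314)) (tt N98156 D201265) (tt N32662 (iv4 D114225)) (tt N73666 F340496) (tt N88239 F382309) (tt N92201 (iv7 F396220)))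
theorem Q61113 : ∀ i, i < 61113 → P i := stepQ 61112 Q61112 (allL N61112 (tt N83746 F331425) (tt N98068 (iv0 F419337)) (tt N79943 (iv2 F290529)) (tt N98153 (iv3 F419736)) (tt N88239 (iv4 F382308)) (tt N61077 F178012) (tt N32662 (iv6 D114226)) (tt N98157 D201266))
theorem Q61114 : ∀ i, i < 61114 → P i := stepQ 61113 Q61113 (allL N61113 (tt N32663 (iv1 D114228)) (tt N61065 (iv0 F290505)) (tt N78898 (iv2 F251281)) (tt N98148 F419705) (tt N51006 F178018) (tt N46035 (iv5 F178020)) (tt N56170 (iv6 F178019)) (tt N60985 F178017))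
theorem Q61115 : ∀ i, i < 61115 → P i := stepQ 61114 Q61114 (allL N61114 (tt N32664 (iv1 D114232)) (tt N56178 F290559) (tt N56179 F290560) (tt N95838 (iv3 F409872)) (tt N39595 F321241) (tt N56653 F290561) (tt N56183 F290562) (tt N45000 F290563))
theorem Q61116 : ∀ i, i < 61116 → P i := stepQ 61115 Q61115 (allL N61115 (tt N45000 F290564) (tt N56179 F290565) (tt N32664 (iv2 D114233)) (tt N62452 (iv3 F318238)) (tt N52200 (iv4 F359244)) (tt N93130 (iv5 F399613)) (tt N79938 F290567) (tt N56178 F290568))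
theorem Q61117 : ∀ i, i < 61117 → P i := stepQ 61116 Q61116 (allL N61116 (tt N52194 F353143) (tt N52202 F353145) (tt N52200 F359246) (tt N66775 (iv3 F205527)) (tt N32664 (iv4 D114234)) (tt N92037 (iv5 F395480)) (tt N66538 (iv6 F353122)) (tt N52199 F353128))
theorem Q61118 : ∀ i, i < 61118 → P i := stepQ 61117 Q61117 (allL N61117 (tt N98158 D201267) (tt N92657 (iv0 F397788)) (tt N93130 (iv2 F399610)) (tt N32665 F178029) (tt N94011 (iv4 F402817)) (tt N32664 (iv5 D114235)) (tt N56448 F364647) (tt N79947 (iv7 F364649)))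
theorem Q61119 : ∀ i, i < 61119 → P i := stepQ 61118 Q61118 (allL N61118 (tt N79937 (iv1 F353124)) (tt N79936 F353119) (tt N79938 F353117) (tt N32666 F178030) (tt N66538 F353120) (tt N93717 (iv5 F401653)) (tt N32664 (iv6 D114236)) (tt N61070 (iv7 F353118)))
theorem Q61120 : ∀ i, i < 61120 → P i := stepQ 61119 Q61119 (allL N61119 (tt N98155 (iv1 F419748)) (tt N73672 F340491) (tt N92201 (iv2 F396218)) (tt N88247 (iv3 F382341)) (tt N32665 (iv4 D114237)) (tt N73665 (iv5 F331558)) (tt N98159 D201268) (tt N88241 (iv7 F382318)))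
theorem Q61121 : ∀ i, i < 61121 → P i := stepQ 61120 Q61120 (allL N61120 (tt N68125 (iv1 F214481)) (tt N38201 (iv0 F178031)) (tt N68123 F209168) (tt N56448 (iv3 F364646)) (tt N98159 (iv4 F419772)) (tt N98160 D201269) (tt N32665 (iv6 D114238)) (tt N68124 (iv7 F209169)))
theorem Q61122 : ∀ i, i < 61122 → P i := stepQ 61121 Q61121 (allL N61121 (tt N78928 (iv1 F251395)) (tt N32666 (iv0 D114239)) (tt N60959 F193506) (tt N98149 (iv3 F419711)) (tt N55756 (iv4 F178035)) (tt N45010 F178032) (tt N66774 F205425) (tt N60967 (iv7 F193504)))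
theorem Q61123 : ∀ i, i < 61123 → P i := stepQ 61122 Q61122 (allL N61122 (tt N32941 F178037) (tt N32927 F178036) (tt N78847 F251105) (tt N93717 F401657) (tt N98161 D201270) (tt N32666 (iv5 D114241)) (tt N98160 (iv6 F419776)) (tt N78848 (iv7 F251108)))
theorem Q61124 : ∀ i, i < 61124 → P i := stepQ 61123 Q61123 (allL N61123 (tt N60967 F178039) (tt N60959 (iv0 F178190)) (tt N78928 (iv2 F251399)) (tt N61070 F359295) (tt N66780 (iv4 F205538)) (tt N78848 (iv5 F251109)) (tt N61065 (iv6 F290509)) (tt N32666 (iv7 D114242)))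
theorem Q61125 : ∀ i, i < 61125 → P i := stepQ 61124 Q61124 (allL N61124 (tt N43282 F178044) (tt N50742 F178043) (tt N32979 F178041) (tt N34094 F178042) (tt N84800 (iv4 F370663)) (tt N32667 (iv5 D114243)) (tt N98162 D201271) (tt N78800 (iv7 F250905)))
theorem Q61126 : ∀ i, i < 61126 → P i := stepQ 61125 Q61125 (allL N61125 (tt N32668 (iv1 D114244)) (tt N78799 (iv0 F250901)) (tt N45015 F178049) (tt N43241 F178050) (tt N85652 (iv4 F373394)) (tt N50016 (iv5 F178048)) (tt N89864 (iv6 F387783)) (tt N50967 F178047))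
theorem Q61127 : ∀ i, i < 61127 → P i := stepQ 61126 Q61126 (allL N61126 (tt N76229 (iv1 F237966)) (tt N84796 (iv0 F370652)) (tt N85088 F371599) (tt N98163 D201272) (tt N32668 (iv4 D114245)) (tt N98164 D201273) (tt N85185 F372355) (tt N85087 F371596))
theorem Q61128 : ∀ i, i < 61128 → P i := stepQ 61127 Q61127 (allL N61127 (tt N46970 F178056) (tt N46962 (iv0 F178057)) (tt N43000 F178053) (tt N32669 (iv3 D114246)) (tt N43196 F178054) (tt N46821 F178055) (tt N98165 D201274) (tt N76943 (iv7 F240896)))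
theorem Q61129 : ∀ i, i < 61129 → P i := stepQ 61128 Q61128 (allL N61128 (tt N84492 F369531) (tt N98166 D201275) (tt N32679 F178058) (tt N98165 (iv3 F419796)) (tt N32670 F178059) (tt N98167 D201276) (tt N32669 (iv6 D114247)) (tt N98168 D201277))
theorem Q61130 : ∀ i, i < 61130 → P i := stepQ 61129 Q61129 (allL N61129 (tt N32670 (iv1 D114248)) (tt N32683 F178060) (tt N32681 (iv2 F178062)) (tt N75527 (iv3 F347722)) (tt N71786 (iv4 F347720)) (tt N86197 (iv5 F375345)) (tt N84718 (iv6 F370326)) (tt N32680 F178061))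
theorem Q61131 : ∀ i, i < 61131 → P i := stepQ 61130 Q61130 (allL N61130 (tt N98169 D201278) (tt N98112 (iv0 F419502)) (tt N32682 F178064) (tt N43200 F178065) (tt N95720 (iv4 F409298)) (tt N32670 (iv5 D114249)) (tt N32672 F178066) (tt N96672 (iv7 F413382)))
theorem Q61132 : ∀ i, i < 61132 → P i := stepQ 61131 Q61131 (allL N61131 (tt N32681 (iv1 F178069)) (tt N32680 F178070) (tt N32683 F178067) (tt N43201 F178068) (tt N98168 (iv4 F419811)) (tt N96672 (iv5 F413383)) (tt N74459 (iv6 F343303)) (tt N32670 (iv7 D114250)))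
theorem Q61133 : ∀ i, i < 61133 → P i := stepQ 61132 Q61132 (allL N61132 (tt N84795 (iv1 F370649)) (tt N56447 (iv0 F178074)) (tt N32685 F178071) (tt N34031 F178072) (tt N98170 D201279) (tt N32671 (iv5 D114251)) (tt N98171 D201280) (tt N32684 F178073))
theorem Q61134 : ∀ i, i < 61134 → P i := stepQ 61133 Q61133 (allL N61133 (tt N32689 (iv1 F178078)) (tt N32672 (iv0 D114252)) (tt N32686 (iv2 F178076)) (tt N34134 F178140) (tt N86049 (iv4 F375007)) (tt N50299 F178075) (tt N98172 D201281) (tt N32687 F178077))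
theorem Q61135 : ∀ i, i < 61135 → P i := stepQ 61134 Q61134 (allL N61134 (tt N50980 F178080) (tt N50296 F178081) (tt N32688 F178079) (tt N95721 (iv3 F409304)) (tt N32672 (iv4 D114253)) (tt N98173 D201282) (tt N95720 F409302) (tt N50979 (iv7 F178082)))
theorem Q61136 : ∀ i, i < 61136 → P i := stepQ 61135 Q61135 (allL N61135 (tt N32687 (iv1 F178087)) (tt N32686 F178088) (tt N32689 F178083) (tt N34261 F178084) (tt N50979 F178085) (tt N32673 F178086) (tt N96706 (iv6 F413540)) (tt N32672 (iv7 D114254)))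
theorem Q61137 : ∀ i, i < 61137 → P i := stepQ 61136 Q61136 (allL N61136 (tt N61034 (iv1 F178094)) (tt N32674 (iv0 D114255)) (tt N60983 F336955) (tt N38234 F332255) (tt N98174 D201283) (tt N38852 F332256) (tt N84716 (iv6 F370318)) (tt N61032 (iv7 F336954)))
theorem Q61138 : ∀ i, i < 61138 → P i := stepQ 61137 Q61137 (allL N61137 (tt N38224 F355669) (tt N68186 F355670) (tt N61033 F178090) (tt N64210 (iv3 F193600)) (tt N98175 D201284) (tt N32674 (iv5 D114257)) (tt N50902 F178091) (tt N68185 (iv7 F347371)))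
theorem Q61139 : ∀ i, i < 61139 → P i := stepQ 61138 Q61138 (allL N61138 (tt N61032 (iv1 F178095)) (tt N60983 (iv0 F336935)) (tt N61034 F178092) (tt N64211 (iv3 F193603)) (tt N64671 (iv4 F198027)) (tt N68185 F347381) (tt N61029 F178093) (tt N32674 (iv7 D114258)))
theorem Q61140 : ∀ i, i < 61140 → P i := stepQ 61139 Q61139 (allL N61139 (tt N59261 F347686) (tt N59257 (iv0 F352979)) (tt N61026 F178097) (tt N64632 (iv3 F197942)) (tt N32676 F178098) (tt N78096 F356544) (tt N32675 (iv6 D114259)) (tt N98176 D201285))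
theorem Q61141 : ∀ i, i < 61141 → P i := stepQ 61140 Q61140 (allL N61140 (tt N32676 (iv1 D114261)) (tt N61029 F178099) (tt N54832 (iv2 F290593)) (tt N43251 F239630) (tt N97297 (iv4 F416270)) (tt N55608 F362430) (tt N50463 (iv6 F178100)) (tt N61027 (iv7 F178111)))
theorem Q61142 : ∀ i, i < 61142 → P i := stepQ 61141 Q61141 (allL N61141 (tt N56666 F398466) (tt N93007 (iv0 F399104)) (tt N61028 F178102) (tt N79926 (iv3 F259003)) (tt N98177 D201286) (tt N32676 (iv5 D114262)) (tt N55763 F178103) (tt N86722 (iv7 F376906)))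
theorem Q61143 : ∀ i, i < 61143 → P i := stepQ 61142 Q61142 (allL N61142 (tt N54832 (iv1 F290592)) (tt N61027 F178112) (tt N61029 F178104) (tt N79927 (iv3 F259006)) (tt N98176 (iv4 F419859)) (tt N86722 (iv5 F376905)) (tt N61034 F178105) (tt N32676 (iv7 D114263)))
theorem Q61144 : ∀ i, i < 61144 → P i := stepQ 61143 Q61143 (allL N61143 (tt N98174 (iv1 F419852)) (tt N78895 (iv0 F251274)) (tt N43654 F178113) (tt N69921 (iv3 F335176)) (tt N78880 (iv4 F251177)) (tt N98178 D201287) (tt N32677 (iv6 D114264)) (tt N98179 D201288))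
theorem Q61145 : ∀ i, i < 61145 → P i := stepQ 61144 Q61144 (allL N61144 (tt N78923 F251382) (tt N97297 (iv0 F416271)) (tt N92194 (iv2 F396186)) (tt N35342 F178114) (tt N78882 (iv4 F251185)) (tt N98180 D201289) (tt N32678 (iv6 D114265)) (tt N98181 D201290))
theorem Q61146 : ∀ i, i < 61146 → P i := stepQ 61145 Q61145 (allL N61145 (tt N98168 (iv1 F419813)) (tt N32679 (iv0 D114266)) (tt N84492 (iv2 F369528)) (tt N40979 F361672) (tt N50790 F361673) (tt N98182 D201291) (tt N50789 F361671) (tt N98166 (iv7 F419802)))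
theorem Q61147 : ∀ i, i < 61147 → P i := stepQ 61146 Q61146 (allL N61146 (tt N32679 (iv1 D114267)) (tt N98168 F419812) (tt N98166 (iv2 F419805)) (tt N76929 (iv3 F355542)) (tt N84493 (iv4 F369537)) (tt N91749 (iv5 F394292)) (tt N98183 D201292) (tt N84492 F369535))
theorem Q61148 : ∀ i, i < 61148 → P i := stepQ 61147 Q61147 (allL N61147 (tt N98184 D201293) (tt N98185 D201294) (tt N98167 (iv2 F419806)) (tt N43047 F178115) (tt N47808 F339097) (tt N32679 (iv5 D114268)) (tt N47807 F339098) (tt N98186 D201295))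
theorem Q61149 : ∀ i, i < 61149 → P i := stepQ 61148 Q61148 (allL N61148 (tt N98166 (iv1 F419801)) (tt N84492 (iv0 F369533)) (tt N98168 (iv2 F419809)) (tt N43048 F178116) (tt N32683 F178117) (tt N98186 (iv5 F419894)) (tt N92197 (iv6 F396205)) (tt N32679 (iv7 D114269)))
theorem Q61150 : ∀ i, i < 61150 → P i := stepQ 61149 Q61149 (allL N61149 (tt N73145 F349953) (tt N36466 F349954) (tt N74498 (iv2 F347730)) (tt N32680 (iv3 D114270)) (tt N98187 D201296) (tt N86192 (iv5 F375336)) (tt N50778 F178118) (tt N75527 F347724))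
theorem Q61151 : ∀ i, i < 61151 → P i := stepQ 61150 Q61150 (allL N61150 (tt N33719 F349952) (tt N64667 (iv0 F349944)) (tt N71783 F347717) (tt N63950 F355543) (tt N32680 (iv4 D114271)) (tt N71775 (iv5 F349939)) (tt N50780 F178119) (tt N71786 F347719))
theorem Q61152 : ∀ i, i < 61152 → P i := stepQ 61151 Q61151 (allL N61151 (tt N64667 F259562) (tt N33719 F349956) (tt N71786 (iv2 F349947)) (tt N74490 (iv3 F349948)) (tt N32681 (iv4 D114273)) (tt N71776 (iv5 F349949)) (tt N98188 D201297) (tt N71783 F349946))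
theorem Q61153 : ∀ i, i < 61153 → P i := stepQ 61152 Q61152 (allL N61152 (tt N86196 (iv1 F375343)) (tt N86195 F375346) (tt N86197 (iv2 F375344)) (tt N72507 F357968) (tt N59416 (iv4 F349941)) (tt N32681 (iv5 D114274)) (tt N86203 (iv6 F375360)) (tt N84721 (iv7 F370334)))
theorem Q61154 : ∀ i, i < 61154 → P i := stepQ 61153 Q61153 (allL N61153 (tt N84717 (iv1 F370322)) (tt N84716 F370321) (tt N84718 (iv2 F370325)) (tt N74493 (iv3 F340917)) (tt N98188 (iv4 F419903)) (tt N78605 F340913) (tt N32681 (iv6 D114275)) (tt N50775 F178121))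
theorem Q61155 : ∀ i, i < 61155 → P i := stepQ 61154 Q61154 (allL N61154 (tt N96672 (iv1 F413386)) (tt N32682 (iv0 D114276)) (tt N98169 F419816) (tt N76510 F386973) (tt N98189 D201298) (tt N98113 (iv5 F419507)) (tt N76509 (iv6 F386975)) (tt N98112 F419504))
theorem Q61156 : ∀ i, i < 61156 → P i := stepQ 61155 Q61155 (allL N61155 (tt N32682 (iv1 D114277)) (tt N96672 (iv0 F413384)) (tt N98112 (iv2 F419500)) (tt N69717 (iv3 F353544)) (tt N59444 F353545) (tt N98093 (iv5 F419432)) (tt N98190 D201299) (tt N98169 (iv7 F419818)))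
theorem Q61157 : ∀ i, i < 61157 → P i := stepQ 61156 Q61156 (allL N61156 (tt N96667 F413371) (tt N96637 F413277) (tt N95720 (iv2 F409301)) (tt N96675 (iv3 F413404)) (tt N32682 (iv4 D114278)) (tt N97075 (iv5 F415350)) (tt N32688 F178122) (tt N96671 (iv7 F413379)))
theorem Q61158 : ∀ i, i < 61158 → P i := stepQ 61157 Q61157 (allL N61157 (tt N98112 F419503) (tt N98169 F419817) (tt N96672 (iv2 F413381)) (tt N32699 F178123) (tt N96671 F413380) (tt N32683 F178124) (tt N98191 D201300) (tt N32682 (iv7 D114279)))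
theorem Q61159 : ∀ i, i < 61159 → P i := stepQ 61158 Q61158 (allL N61158 (tt N50970 F178125) (tt N50973 F178126) (tt N98136 (iv2 F419629)) (tt N77527 (iv3 F392911)) (tt N32684 (iv4 D114280)) (tt N77525 F392910) (tt N86225 (iv6 F375448)) (tt N98170 (iv7 F419821)))
theorem Q61160 : ∀ i, i < 61160 → P i := stepQ 61159 Q61159 (allL N61159 (tt N50973 F178127) (tt N50970 F178128) (tt N98170 (iv2 F419820)) (tt N72305 F364769) (tt N32685 (iv4 D114281)) (tt N72304 (iv5 F364768)) (tt N96554 (iv6 F412963)) (tt N98136 (iv7 F419632)))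
theorem Q61161 : ∀ i, i < 61161 → P i := stepQ 61160 Q61160 (allL N61160 (tt N98192 D201301) (tt N59582 (iv0 F371121)) (tt N98171 (iv2 F419826)) (tt N97800 (iv3 F418355)) (tt N96554 F412964) (tt N84931 (iv5 F371120)) (tt N32685 (iv6 D114282)) (tt N86223 (iv7 F375442)))
theorem Q61162 : ∀ i, i < 61162 → P i := stepQ 61161 Q61161 (allL N61161 (tt N78810 (iv1 F250962)) (tt N36467 (iv0 F178131)) (tt N78813 (iv2 F250987)) (tt N32686 (iv3 D114283)) (tt N98193 D201302) (tt N36254 F178129) (tt N86309 F375776) (tt N53665 F178130))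
theorem Q61163 : ∀ i, i < 61163 → P i := stepQ 61162 Q61162 (allL N61162 (tt N85079 (iv1 F371565)) (tt N61627 (iv0 F179160)) (tt N86049 F375009) (tt N77531 F243424) (tt N32686 (iv4 D114284)) (tt N89083 (iv5 F385094)) (tt N98194 D201303) (tt N53672 F178132))
theorem Q61164 : ∀ i, i < 61164 → P i := stepQ 61163 Q61163 (allL N61163 (tt N98195 D201304) (tt N98196 D201305) (tt N98172 (iv2 F419835)) (tt N86309 (iv3 F375777)) (tt N98194 (iv4 F419929)) (tt N85279 (iv5 F372150)) (tt N32686 (iv6 D114285)) (tt N51058 F178133))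
theorem Q61165 : ∀ i, i < 61165 → P i := stepQ 61164 Q61164 (allL N61164 (tt N34094 (iv1 F178137)) (tt N32974 (iv0 F178138)) (tt N34135 F178134) (tt N32687 (iv3 D114286)) (tt N61391 (iv4 F178746)) (tt N50744 F178135) (tt N50870 F178136) (tt N34134 (iv7 F178139)))
theorem Q61166 : ∀ i, i < 61166 → P i := stepQ 61165 Q61165 (allL N61165 (tt N61627 (iv1 F179161)) (tt N85079 (iv0 F371564)) (tt N53672 F178141) (tt N59485 F349168) (tt N32687 (iv4 D114287)) (tt N72608 (iv5 F349169)) (tt N50873 F178142) (tt N86049 (iv7 F375011)))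
theorem Q61167 : ∀ i, i < 61167 → P i := stepQ 61166 Q61166 (allL N61166 (tt N50979 (iv1 F178146)) (tt N32688 (iv0 D114288)) (tt N50980 (iv2 F178144)) (tt N98197 D201306) (tt N50297 F178143) (tt N77041 (iv5 F241516)) (tt N98198 D201307) (tt N50296 F178145))
theorem Q61168 : ∀ i, i < 61168 → P i := stepQ 61167 Q61167 (allL N61167 (tt N51045 F365728) (tt N51043 (iv0 F362364)) (tt N51041 F365817) (tt N32688 (iv3 D114289)) (tt N32713 F178147) (tt N89588 (iv5 F386847)) (tt N96675 (iv6 F413406)) (tt N51042 (iv7 F365816)))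
theorem Q61169 : ∀ i, i < 61169 → P i := stepQ 61168 Q61168 (allL N61168 (tt N98199 D201308) (tt N43873 (iv0 F178148)) (tt N98173 (iv2 F419841)) (tt N89588 F386849) (tt N98200 D201309) (tt N32688 (iv5 D114290)) (tt N98201 D201310) (tt N98202 D201311))
theorem Q61170 : ∀ i, i < 61170 → P i := stepQ 61169 Q61169 (allL N61169 (tt N50296 (iv1 F178151)) (tt N50980 F178152) (tt N50979 F178149) (tt N51042 (iv3 F365815)) (tt N32689 F178150) (tt N98202 (iv5 F419972)) (tt N96705 (iv6 F413536)) (tt N32688 (iv7 D114291)))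
theorem Q61171 : ∀ i, i < 61171 → P i := stepQ 61170 Q61170 (allL N61170 (tt N83752 F352893) (tt N83754 (iv0 F387438)) (tt N96706 (iv2 F413539)) (tt N32716 F178153) (tt N96705 (iv4 F413537)) (tt N60272 F178154) (tt N32689 (iv6 D114292)) (tt N98191 (iv7 F419919)))
theorem Q61172 : ∀ i, i < 61172 → P i := stepQ 61171 Q61171 (allL N61171 (tt N56182 (iv1 F178173)) (tt N32690 (iv0 D114298)) (tt N56183 (iv2 F178168)) (tt N34132 (iv3 F178170)) (tt N51981 (iv4 F178171)) (tt N67122 (iv5 F206692)) (tt N56179 (iv6 F178172)) (tt N34127 F178169))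
theorem Q61173 : ∀ i, i < 61173 → P i := stepQ 61172 Q61172 (allL N61172 (tt N56183 (iv1 F178288)) (tt N34127 (iv0 F178286)) (tt N32690 (iv2 D114300)) (tt N62244 (iv3 F316765)) (tt N86967 (iv4 F377878)) (tt N98203 D201312) (tt N50736 F178285) (tt N56182 (iv7 F178167)))
theorem Q61174 : ∀ i, i < 61174 → P i := stepQ 61173 Q61173 (allL N61173 (tt N98204 D201313) (tt N98205 D201314) (tt N98203 (iv2 F419977)) (tt N32691 F178163) (tt N98206 D201315) (tt N32690 (iv5 D114302)) (tt N50412 F251139) (tt N66776 (iv7 F205530)))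
theorem Q61175 : ∀ i, i < 61175 → P i := stepQ 61174 Q61174 (allL N61174 (tt N79968 (iv1 F288219)) (tt N83643 (iv0 F288218)) (tt N50736 (iv2 F178284)) (tt N32692 F178164) (tt N79945 (iv4 F353131)) (tt N50729 (iv5 F178165)) (tt N32690 (iv6 D114303)) (tt N50732 F178257))
theorem Q61176 : ∀ i, i < 61176 → P i := stepQ 61175 Q61175 (allL N61175 (tt N32694 (iv1 F178181)) (tt N32691 (iv0 D114305)) (tt N66770 F205410) (tt N98207 D201316) (tt N73112 F339977) (tt N32942 F178176) (tt N82919 F365000) (tt N66771 (iv7 F205413)))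
theorem Q61177 : ∀ i, i < 61177 → P i := stepQ 61176 Q61176 (allL N61176 (tt N32691 (iv1 D114306)) (tt N32694 F178177) (tt N66771 F205415) (tt N86196 F413183) (tt N98208 D201317) (tt N61071 F178426) (tt N66800 F205611) (tt N66770 F205411))
theorem Q61178 : ∀ i, i < 61178 → P i := stepQ 61177 Q61177 (allL N61177 (tt N40699 F331544) (tt N72971 F331545) (tt N66772 (iv2 F205417)) (tt N98209 D201318) (tt N32691 (iv4 D114307)) (tt N40681 F331546) (tt N56928 F339930) (tt N66778 (iv7 F205533)))
theorem Q61179 : ∀ i, i < 61179 → P i := stepQ 61178 Q61178 (allL N61178 (tt N32692 (iv1 D114311)) (tt N61022 F178186) (tt N66774 (iv2 F205426)) (tt N49803 (iv3 F290597)) (tt N60960 F178187) (tt N49802 (iv5 F290557)) (tt N60959 (iv6 F178188)) (tt N54831 (iv7 F290552)))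
theorem Q61180 : ∀ i, i < 61180 → P i := stepQ 61179 Q61179 (allL N61179 (tt N62383 F364979) (tt N50581 (iv0 F356662)) (tt N73159 F366366) (tt N32694 F178201) (tt N82914 (iv4 F358479)) (tt N32693 (iv5 D114318)) (tt N97826 (iv6 F418432)) (tt N66768 (iv7 F205405)))
theorem Q61181 : ∀ i, i < 61181 → P i := stepQ 61180 Q61180 (allL N61180 (tt N75667 F356668) (tt N92767 (iv0 F398140)) (tt N73160 (iv2 F366156)) (tt N32695 F178202) (tt N43672 F290375) (tt N92661 (iv5 F397799)) (tt N32693 (iv6 D114319)) (tt N98210 D201319))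
theorem Q61182 : ∀ i, i < 61182 → P i := stepQ 61181 Q61181 (allL N61181 (tt N72971 F331549) (tt N40699 F331550) (tt N66778 (iv2 F205532)) (tt N98211 D201320) (tt N32694 (iv4 D114320)) (tt N40680 F331551) (tt N97827 (iv6 F418435)) (tt N66772 (iv7 F205418)))
theorem Q61183 : ∀ i, i < 61183 → P i := stepQ 61182 Q61182 (allL N61182 (tt N56173 F178208) (tt N56170 (iv0 F178207)) (tt N66780 (iv2 F205537)) (tt N98210 (iv3 F420003)) (tt N78928 (iv4 F251397)) (tt N56330 (iv5 F178205)) (tt N61022 F178203) (tt N32695 (iv7 D114321)))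
theorem Q61184 : ∀ i, i < 61184 → P i := stepQ 61183 Q61183 (allL N61183 (tt N67122 F290531) (tt N32981 F290532) (tt N67121 F290533) (tt N32696 (iv3 D114322)) (tt N98212 D201321) (tt N98121 (iv5 F419548)) (tt N98213 D201322) (tt N66783 (iv7 F205551)))
theorem Q61185 : ∀ i, i < 61185 → P i := stepQ 61184 Q61184 (allL N61184 (tt N40392 F331522) (tt N44614 (iv0 F178552)) (tt N61313 F178570) (tt N98214 D201323) (tt N32696 (iv4 D114323)) (tt N40368 F339978) (tt N98215 D201324) (tt N61314 F178569))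
theorem Q61186 : ∀ i, i < 61186 → P i := stepQ 61185 Q61185 (allL N61185 (tt N98216 D201325) (tt N98217 D201326) (tt N66782 (iv2 F205544)) (tt N98213 (iv3 F420013)) (tt N98215 (iv4 F420018)) (tt N56615 F178299) (tt N32696 (iv6 D114324)) (tt N92985 (iv7 F399025)))
theorem Q61187 : ∀ i, i < 61187 → P i := stepQ 61186 Q61186 (allL N61186 (tt N62245 F324161) (tt N73146 F324162) (tt N73161 F324163) (tt N32697 (iv3 D114325)) (tt N98218 D201327) (tt N40746 F324164) (tt N86311 (iv6 F375793)) (tt N66781 (iv7 F205543)))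
theorem Q61188 : ∀ i, i < 61188 → P i := stepQ 61187 Q61187 (allL N61187 (tt N44614 F178301) (tt N40392 F331521) (tt N61314 F178568) (tt N98219 D201328) (tt N32697 (iv4 D114326)) (tt N40367 F339987) (tt N57054 (iv6 F339928)) (tt N61313 (iv7 F178572)))
theorem Q61189 : ∀ i, i < 61189 → P i := stepQ 61188 Q61188 (allL N61188 (tt N98134 (iv1 F419623)) (tt N78242 (iv0 F350577)) (tt N66784 (iv2 F205552)) (tt N86311 F375794) (tt N57054 F339929) (tt N46037 F178302) (tt N32697 (iv6 D114327)) (tt N98220 D201329))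
theorem Q61190 : ∀ i, i < 61190 → P i := stepQ 61189 Q61189 (allL N61189 (tt N66787 (iv1 F205567)) (tt N32698 (iv0 D114328)) (tt N66785 F205555) (tt N89833 (iv3 F387683)) (tt N32772 F178564) (tt N90016 F388305) (tt N98221 D201330) (tt N66786 (iv7 F205559)))
theorem Q61191 : ∀ i, i < 61191 → P i := stepQ 61190 Q61190 (allL N61190 (tt N32698 (iv1 D114329)) (tt N66787 F205566) (tt N66786 F205561) (tt N85207 F371891) (tt N32773 F178303) (tt N93944 (iv5 F402521)) (tt N59154 (iv6 F339967)) (tt N66785 F205556))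
theorem Q61192 : ∀ i, i < 61192 → P i := stepQ 61191 Q61191 (allL N61191 (tt N70141 F363659) (tt N93348 F400490) (tt N93303 (iv2 F400315)) (tt N32698 (iv3 D114330)) (tt N96675 (iv4 F413405)) (tt N39710 F363660) (tt N32713 F178304) (tt N93305 (iv7 F400332)))
theorem Q61193 : ∀ i, i < 61193 → P i := stepQ 61192 Q61192 (allL N61192 (tt N67137 F340001) (tt N67140 F340002) (tt N40729 (iv2 F340005)) (tt N39710 F340003) (tt N71836 F340004) (tt N32698 (iv5 D114331)) (tt N94608 (iv6 F405177)) (tt N93304 (iv7 F400325)))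
theorem Q61194 : ∀ i, i < 61194 → P i := stepQ 61193 Q61193 (allL N61193 (tt N66786 (iv1 F205558)) (tt N66785 F205557) (tt N66787 (iv2 F205564)) (tt N93305 (iv3 F400330)) (tt N32699 F178305) (tt N93304 (iv5 F400328)) (tt N98222 D201331) (tt N32698 (iv7 D114332)))
theorem Q61195 : ∀ i, i < 61195 → P i := stepQ 61194 Q61194 (allL N61194 (tt N66814 (iv1 F205648)) (tt N66813 F205647) (tt N66788 (iv2 F205568)) (tt N98191 (iv3 F419917)) (tt N98222 (iv4 F420046)) (tt N60287 F178306) (tt N32699 (iv6 D114333)) (tt N32716 F178307))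
theorem Q61196 : ∀ i, i < 61196 → P i := stepQ 61195 Q61195 (allL N61195 (tt N50424 F365267) (tt N98223 D201332) (tt N89827 (iv2 F387664)) (tt N32700 (iv3 D114334)) (tt N45017 F178308) (tt N61214 (iv5 F178323)) (tt N93720 (iv6 F401664)) (tt N66798 (iv7 F205607)))
theorem Q61197 : ∀ i, i < 61197 → P i := stepQ 61196 Q61196 (allL N61196 (tt N32701 (iv1 D114337)) (tt N66797 F205604) (tt N66796 (iv2 F360288)) (tt N85907 (iv3 F374407)) (tt N57095 F350588) (tt N79936 (iv5 F259036)) (tt N86190 (iv6 F375329)) (tt N57094 (iv7 F350589)))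
theorem Q61198 : ∀ i, i < 61198 → P i := stepQ 61197 Q61197 (allL N61197 (tt N66796 (iv1 F205599)) (tt N57094 (iv0 F339908)) (tt N66797 (iv2 F205600)) (tt N45013 F178310) (tt N78247 F350592) (tt N45004 F178311) (tt N66801 (iv6 F205614)) (tt N32701 (iv7 D114338)))
theorem Q61199 : ∀ i, i < 61199 → P i := stepQ 61198 Q61198 (allL N61198 (tt N92827 (iv1 F398400)) (tt N92826 F398397) (tt N92771 (iv2 F398152)) (tt N98224 D201333) (tt N32702 (iv4 D114339)) (tt N98225 D201334) (tt N82910 (iv6 F416557)) (tt N66792 (iv7 F205589)))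
theorem Q61200 : ∀ i, i < 61200 → P i := stepQ 61199 Q61199 (allL N61199 (tt N82917 F356663) (tt N98226 D201335) (tt N92770 (iv2 F398147)) (tt N32704 F178312) (tt N82910 F416556) (tt N92712 (iv5 F397941)) (tt N32702 (iv6 D114340)) (tt N98227 D201336))
theorem Q61201 : ∀ i, i < 61201 → P i := stepQ 61200 Q61200 (allL N61200 (tt N91698 F394084) (tt N98228 D201337) (tt N98229 D201338) (tt N32703 (iv3 D114341)) (tt N98224 (iv4 F420054)) (tt N61207 (iv5 F178319)) (tt N98230 D201339) (tt N66794 (iv7 F205594)))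
theorem Q61202 : ∀ i, i < 61202 → P i := stepQ 61201 Q61201 (allL N61201 (tt N76241 (iv1 F363679)) (tt N58254 (iv0 F339986)) (tt N57938 (iv2 F356725)) (tt N98230 (iv3 F420069)) (tt N32704 F178313) (tt N57935 (iv5 F356733)) (tt N32703 (iv6 D114342)) (tt N57933 F356734))
theorem Q61203 : ∀ i, i < 61203 → P i := stepQ 61202 Q61202 (allL N61202 (tt N66801 (iv1 F205620)) (tt N32704 (iv0 D114343)) (tt N66799 (iv2 F205618)) (tt N98192 F419924) (tt N95051 F406845) (tt N98231 D201340) (tt N82918 (iv6 F420090)) (tt N66800 F205619))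
theorem Q61204 : ∀ i, i < 61204 → P i := stepQ 61203 Q61203 (allL N61203 (tt N32704 (iv1 D114344)) (tt N66801 F205616) (tt N66800 (iv2 F205612)) (tt N68192 (iv3 F354427)) (tt N98232 D201342) (tt N68190 (iv5 F333213)) (tt N66771 (iv6 F205416)) (tt N66799 (iv7 F205617)))
theorem Q61205 : ∀ i, i < 61205 → P i := stepQ 61204 Q61204 (allL N61204 (tt N66800 (iv1 F205610)) (tt N66799 F205615) (tt N66801 (iv2 F205613)) (tt N98227 (iv3 F420062)) (tt N57933 (iv4 F356735)) (tt N97897 (iv5 F418699)) (tt N66797 (iv6 F205602)) (tt N32704 (iv7 D114345)))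
theorem Q61206 : ∀ i, i < 61206 → P i := stepQ 61205 Q61205 (allL N61205 (tt N44957 F178315) (tt N44959 F178316) (tt N61621 F179155) (tt N98233 D201343) (tt N32705 (iv4 D114346)) (tt N61621 (iv5 F179153)) (tt N98234 D201344) (tt N61023 F178314))
theorem Q61207 : ∀ i, i < 61207 → P i := stepQ 61206 Q61206 (allL N61206 (tt N61590 F179073) (tt N98235 D201345) (tt N66806 (iv2 F205629)) (tt N32707 F178317) (tt N98234 (iv4 F420086)) (tt N32707 F178318) (tt N32705 (iv6 D114347)) (tt N85283 (iv7 F372171)))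
theorem Q61208 : ∀ i, i < 61208 → P i := stepQ 61207 Q61207 (allL N61207 (tt N84833 F370792) (tt N85233 F387663) (tt N85232 F371979) (tt N32706 (iv3 D114348)) (tt N98233 (iv4 F420080)) (tt N61200 F178319) (tt N98236 D201346) (tt N61323 (iv7 F178589)))
theorem Q61209 : ∀ i, i < 61209 → P i := stepQ 61208 Q61208 (allL N61208 (tt N78454 F360112) (tt N95201 F407392) (tt N61322 (iv2 F178587)) (tt N98236 (iv3 F420091)) (tt N32707 F178320) (tt N82438 F363330) (tt N32706 (iv6 D114349)) (tt N93557 (iv7 F401126)))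
theorem Q61210 : ∀ i, i < 61210 → P i := stepQ 61209 Q61209 (allL N61209 (tt N66807 (iv1 F205635)) (tt N32707 (iv0 D114350)) (tt N66804 (iv2 F350583)) (tt N98237 D201347) (tt N78237 F350587) (tt N98238 D201348) (tt N78242 (iv6 F350578)) (tt N66805 (iv7 F350585)))
theorem Q61211 : ∀ i, i < 61211 → P i := stepQ 61210 Q61210 (allL N61210 (tt N32707 (iv1 D114351)) (tt N66807 F205634) (tt N66805 F350586) (tt N98196 (iv3 F471638)) (tt N98239 D201350) (tt N98240 D201351) (tt N98241 D201352) (tt N66804 F350584))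
theorem Q61212 : ∀ i, i < 61212 → P i := stepQ 61211 Q61211 (allL N61211 (tt N66805 (iv1 F205628)) (tt N66804 F205633) (tt N66807 (iv2 F205631)) (tt N85283 (iv3 F372169)) (tt N93557 (iv4 F401125)) (tt N85283 (iv5 F372170)) (tt N51059 (iv6 F205459)) (tt N32707 (iv7 D114352)))
theorem Q61213 : ∀ i, i < 61213 → P i := stepQ 61212 Q61212 (allL N61212 (tt N85710 (iv1 F373611)) (tt N82874 F356708) (tt N79045 (iv2 F251983)) (tt N98242 D201353) (tt N32708 (iv4 D114353)) (tt N83516 F356712) (tt N85704 (iv6 F373592)) (tt N66803 (iv7 F205626)))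
theorem Q61214 : ∀ i, i < 61214 → P i := stepQ 61213 Q61213 (allL N61213 (tt N98243 D201354) (tt N98244 D201355) (tt N79043 (iv2 F251977)) (tt N32710 F178321) (tt N85704 (iv4 F373590)) (tt N50875 F178322) (tt N32708 (iv6 D114354)) (tt N85701 (iv7 F373580)))
theorem Q61215 : ∀ i, i < 61215 → P i := stepQ 61214 Q61214 (allL N61214 (tt N53816 F365246) (tt N53815 (iv0 F372032)) (tt N53813 F365261) (tt N32709 (iv3 D114355)) (tt N98242 (iv4 F420108)) (tt N61195 F178323) (tt N93555 F401115) (tt N53814 (iv7 F365260)))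
theorem Q61216 : ∀ i, i < 61216 → P i := stepQ 61215 Q61215 (allL N61215 (tt N51059 (iv1 F205457)) (tt N32710 (iv0 D114357)) (tt N66808 F205636) (tt N50871 (iv3 F205512)) (tt N41196 F339945) (tt N51096 (iv5 F205513)) (tt N98245 D201356) (tt N51409 F205511))
theorem Q61217 : ∀ i, i < 61217 → P i := stepQ 61216 Q61216 (allL N61216 (tt N32710 (iv1 D114358)) (tt N51059 F205460) (tt N51409 (iv2 F205510)) (tt N48992 F345132) (tt N49005 F345133) (tt N41176 F305029) (tt N98216 (iv6 F420024)) (tt N66808 (iv7 F205638)))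
theorem Q61218 : ∀ i, i < 61218 → P i := stepQ 61217 Q61217 (allL N61217 (tt N51409 (iv1 F178326)) (tt N66808 F205637) (tt N51059 (iv2 F205455)) (tt N85701 (iv3 F373577)) (tt N57205 (iv4 F345199)) (tt N50842 F178325) (tt N66807 (iv6 F205632)) (tt N32710 (iv7 D114359)))
theorem Q61219 : ∀ i, i < 61219 → P i := stepQ 61218 Q61218 (allL N61218 (tt N78237 F363664) (tt N98239 F420098) (tt N66809 (iv2 F205641)) (tt N54064 (iv3 F365245)) (tt N32777 F178374) (tt N96380 (iv5 F412312)) (tt N32711 (iv6 D114361)) (tt N96063 (iv7 F410871)))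
theorem Q61220 : ∀ i, i < 61220 → P i := stepQ 61219 Q61219 (allL N61219 (tt N98246 D201357) (tt N32713 (iv0 D114364)) (tt N98247 D201358) (tt N70145 F372029) (tt N66899 F206038) (tt N98248 D201359) (tt N80574 (iv6 F372030)) (tt N93356 (iv7 F400511)))
theorem Q61221 : ∀ i, i < 61221 → P i := stepQ 61220 Q61220 (allL N61220 (tt N32713 (iv1 D114365)) (tt N98246 F420133) (tt N93356 (iv2 F400510)) (tt N54065 (iv3 F372026)) (tt N77535 F363662) (tt N98249 D201360) (tt N66876 (iv6 F363661)) (tt N98247 (iv7 F420140)))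
theorem Q61222 : ∀ i, i < 61222 → P i := stepQ 61221 Q61221 (allL N61221 (tt N98247 (iv1 F420141)) (tt N93356 F400514) (tt N32713 (iv2 D114366)) (tt N66812 (iv3 F205646)) (tt N51041 (iv4 F365818)) (tt N98250 D201361) (tt N93303 F400320) (tt N98246 (iv7 F420134)))
theorem Q61223 : ∀ i, i < 61223 → P i := stepQ 61222 Q61222 (allL N61222 (tt N83266 (iv1 F358550)) (tt N98251 D201362) (tt N98250 (iv2 F420172)) (tt N32714 F178376) (tt N76717 (iv4 F239765)) (tt N32713 (iv5 D114367)) (tt N94609 (iv6 F405184)) (tt N36408 (iv7 F178377)))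
theorem Q61224 : ∀ i, i < 61224 → P i := stepQ 61223 Q61223 (allL N61223 (tt N93356 F400513) (tt N98247 F420142) (tt N98246 F420132) (tt N32715 F178378) (tt N51042 F365813) (tt N36408 F178379) (tt N65275 (iv6 F340012)) (tt N32713 (iv7 D114368)))
theorem Q61225 : ∀ i, i < 61225 → P i := stepQ 61224 Q61224 (allL N61224 (tt N98252 D201363) (tt N90128 F388625) (tt N61225 (iv2 F178381)) (tt N94609 (iv3 F405183)) (tt N36409 F178380) (tt N94608 F405180) (tt N32714 (iv6 D114369)) (tt N98253 D201364))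
theorem Q61226 : ∀ i, i < 61226 → P i := stepQ 61225 Q61225 (allL N61225 (tt N89753 F387437) (tt N98254 D201365) (tt N61224 F178381) (tt N65275 F340013) (tt N32716 F178382) (tt N65274 (iv5 F340014)) (tt N32715 (iv6 D114370)) (tt N98222 (iv7 F420047)))
theorem Q61227 : ∀ i, i < 61227 → P i := stepQ 61226 Q61226 (allL N61226 (tt N66788 (iv1 F205572)) (tt N32716 (iv0 D114371)) (tt N66813 (iv2 F395865)) (tt N78805 F364998) (tt N70236 (iv4 F364997)) (tt N83743 (iv5 F367231)) (tt N60745 F178383) (tt N66814 (iv7 F395867)))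
theorem Q61228 : ∀ i, i < 61228 → P i := stepQ 61227 Q61227 (allL N61227 (tt N32716 (iv1 D114372)) (tt N66788 F205571) (tt N66814 F395868) (tt N76935 F366743) (tt N70237 F351257) (tt N83744 F367248) (tt N98255 D201366) (tt N66813 F395866))
theorem Q61229 : ∀ i, i < 61229 → P i := stepQ 61228 Q61228 (allL N61228 (tt N32829 F178386) (tt N32776 F178387) (tt N32831 F178384) (tt N84776 F370586) (tt N91284 (iv4 F392544)) (tt N32717 (iv5 D114373)) (tt N98256 D201367) (tt N32814 F178385))
theorem Q61230 : ∀ i, i < 61230 → P i := stepQ 61229 Q61229 (allL N61229 (tt N32828 (iv1 F178389)) (tt N32718 (iv0 D114374)) (tt N42938 (iv2 F178390)) (tt N85073 (iv3 F371532)) (tt N76629 (iv4 F239587)) (tt N41439 F178388) (tt N98257 D201368) (tt N42937 (iv7 F178391)))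
theorem Q61231 : ∀ i, i < 61231 → P i := stepQ 61230 Q61230 (allL N61230 (tt N32718 (iv1 D114375)) (tt N32828 F178392) (tt N42937 (iv2 F178395)) (tt N32883 (iv3 F178396)) (tt N76630 (iv4 F239591)) (tt N41303 F178394) (tt N70644 (iv6 F339338)) (tt N42938 F178393))
theorem Q61232 : ∀ i, i < 61232 → P i := stepQ 61231 Q61231 (allL N61231 (tt N77663 (iv1 F355590)) (tt N77646 F339357) (tt N43186 F178399) (tt N32720 F178400) (tt N75639 (iv4 F355593)) (tt N33922 F178401) (tt N32718 (iv6 D114377)) (tt N98258 D201369))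
theorem Q61233 : ∀ i, i < 61233 → P i := stepQ 61232 Q61232 (allL N61232 (tt N66816 (iv1 F205660)) (tt N32720 (iv0 D114380)) (tt N50350 (iv2 F178406)) (tt N61509 (iv3 F352669)) (tt N56385 F352667) (tt N98259 D201370) (tt N50344 F178405) (tt N66815 (iv7 F205654)))
theorem Q61234 : ∀ i, i < 61234 → P i := stepQ 61233 Q61233 (allL N61233 (tt N32720 (iv1 D114381)) (tt N66816 F205659) (tt N66815 F205655) (tt N50360 (iv3 F178408)) (tt N57060 (iv4 F352666)) (tt N79984 (iv5 F259233)) (tt N98260 D201371) (tt N50350 F178407))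
theorem Q61235 : ∀ i, i < 61235 → P i := stepQ 61234 Q61234 (allL N61234 (tt N66815 (iv1 F205653)) (tt N50350 F205656) (tt N66816 (iv2 F205657)) (tt N98258 (iv3 F420211)) (tt N57092 F346744) (tt N64200 (iv5 F193577)) (tt N42947 F178409) (tt N32720 (iv7 D114382)))
theorem Q61236 : ∀ i, i < 61236 → P i := stepQ 61235 Q61235 (allL N61235 (tt N98045 F419287) (tt N98261 D201372) (tt N74895 (iv2 F229759)) (tt N32723 F178411) (tt N41790 F335949) (tt N41749 F335950) (tt N32721 (iv6 D114384)) (tt N98262 D201373))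
theorem Q61237 : ∀ i, i < 61237 → P i := stepQ 61236 Q61236 (allL N61236 (tt N95051 (iv1 F406847)) (tt N98232 F420079) (tt N42944 F178413) (tt N85300 (iv3 F372213)) (tt N32723 F178414) (tt N59383 F363667) (tt N32722 (iv6 D114386)) (tt N96105 (iv7 F411077)))
theorem Q61238 : ∀ i, i < 61238 → P i := stepQ 61237 Q61237 (allL N61237 (tt N42947 (iv1 F178417)) (tt N32723 (iv0 D114387)) (tt N42945 F237982) (tt N72933 F363671) (tt N57978 (iv4 F363669)) (tt N98263 D201374) (tt N98264 D201375) (tt N42946 F237983))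
theorem Q61239 : ∀ i, i < 61239 → P i := stepQ 61238 Q61238 (allL N61238 (tt N32723 (iv1 D114388)) (tt N42947 F178415) (tt N42946 F237979) (tt N98265 D201376) (tt N94757 (iv4 F405823)) (tt N75703 (iv5 F233498)) (tt N78378 F248564) (tt N42945 F237980))
theorem Q61240 : ∀ i, i < 61240 → P i := stepQ 61239 Q61239 (allL N61239 (tt N42946 (iv1 F178418)) (tt N42945 F178419) (tt N42947 F178416) (tt N98262 (iv3 F420228)) (tt N96105 (iv4 F411075)) (tt N97899 (iv5 F418713)) (tt N66816 (iv6 F205658)) (tt N32723 (iv7 D114389)))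
theorem Q61241 : ∀ i, i < 61241 → P i := stepQ 61240 Q61240 (allL N61240 (tt N76398 (iv1 F341583)) (tt N76395 F355699) (tt N75566 (iv2 F341580)) (tt N32725 F178420) (tt N98266 D201377) (tt N32724 (iv5 D114394)) (tt N98267 D201378) (tt N75561 F341581))
theorem Q61242 : ∀ i, i < 61242 → P i := stepQ 61241 Q61241 (allL N61241 (tt N98268 D201379) (tt N98269 D201380) (tt N75567 F354914) (tt N32726 F178421) (tt N75534 (iv4 F354915)) (tt N34688 (iv5 F321363)) (tt N32724 (iv6 D114395)) (tt N98270 D201381))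
theorem Q61243 : ∀ i, i < 61243 → P i := stepQ 61242 Q61242 (allL N61242 (tt N32725 (iv1 D114396)) (tt N32728 F178422) (tt N61596 (iv2 F179078)) (tt N76385 (iv3 F355728)) (tt N74160 (iv4 F331566)) (tt N45132 (iv5 F178424)) (tt N58746 F178425) (tt N55834 F178423))
theorem Q61244 : ∀ i, i < 61244 → P i := stepQ 61243 Q61243 (allL N61243 (tt N41106 F331561) (tt N98154 (iv0 F419745)) (tt N74021 F331513) (tt N98271 D201382) (tt N32725 (iv4 D114397)) (tt N36678 F331514) (tt N98272 D201383) (tt N74024 F331515))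
theorem Q61245 : ∀ i, i < 61245 → P i := stepQ 61244 Q61244 (allL N61244 (tt N86439 F376228) (tt N98135 (iv0 F419628)) (tt N92205 (iv2 F396234)) (tt N98267 (iv3 F420247)) (tt N98272 (iv4 F420276)) (tt N61497 (iv5 F178930)) (tt N32725 (iv6 D114398)) (tt N98273 D201384))
theorem Q61246 : ∀ i, i < 61246 → P i := stepQ 61245 Q61245 (allL N61245 (tt N75701 (iv1 F233495)) (tt N45082 (iv0 F178432)) (tt N61495 (iv2 F178923)) (tt N98270 (iv3 F420265)) (tt N51501 F178430) (tt N34696 F178431) (tt N79895 F258824) (tt N32726 (iv7 D114400)))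
theorem Q61247 : ∀ i, i < 61247 → P i := stepQ 61246 Q61246 (allL N61246 (tt N33587 F318217) (tt N41623 F318218) (tt N41399 F318219) (tt N32728 F178433) (tt N62703 F318220) (tt N32727 (iv5 D114405)) (tt N98274 D201385) (tt N41401 F318221))
theorem Q61248 : ∀ i, i < 61248 → P i := stepQ 61247 Q61247 (allL N61247 (tt N92586 F397506) (tt N72743 (iv0 F334434)) (tt N41400 F318222) (tt N32729 F178434) (tt N41716 F318223) (tt N98275 D201386) (tt N32727 (iv6 D114406)) (tt N98276 D201387))
theorem Q61249 : ∀ i, i < 61249 → P i := stepQ 61248 Q61248 (allL N61248 (tt N98154 (iv1 F419746)) (tt N41106 F331565) (tt N74024 F331510) (tt N98277 D201388) (tt N32728 (iv4 D114407)) (tt N36677 F331511) (tt N98278 D201389) (tt N74021 F331512))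
theorem Q61250 : ∀ i, i < 61250 → P i := stepQ 61249 Q61249 (allL N61249 (tt N68134 (iv1 F210029)) (tt N37462 (iv0 F178435)) (tt N68132 F209179) (tt N98274 (iv3 F420283)) (tt N98278 (iv4 F420298)) (tt N86133 F375198) (tt N32728 (iv6 D114408)) (tt N68133 (iv7 F209180)))
theorem Q61251 : ∀ i, i < 61251 → P i := stepQ 61250 Q61250 (allL N61250 (tt N79895 (iv1 F258821)) (tt N32729 (iv0 D114409)) (tt N61531 (iv2 F178995)) (tt N76392 F238513) (tt N56275 (iv4 F178439)) (tt N32955 F178436) (tt N78380 F248570) (tt N34402 (iv7 F178438)))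
theorem Q61252 : ∀ i, i < 61252 → P i := stepQ 61251 Q61251 (allL N61251 (tt N32915 (iv1 F178443)) (tt N32912 F178442) (tt N61601 F179101) (tt N98275 (iv3 F420286)) (tt N98279 D201390) (tt N32729 (iv5 D114411)) (tt N86133 (iv6 F375197)) (tt N61602 (iv7 F179104)))
theorem Q61253 : ∀ i, i < 61253 → P i := stepQ 61252 Q61252 (allL N61252 (tt N34402 (iv1 F178446)) (tt N61531 F179002) (tt N79895 (iv2 F258825)) (tt N98276 (iv3 F420288)) (tt N60958 F178445) (tt N61602 (iv5 F179105)) (tt N61495 (iv6 F178928)) (tt N32729 (iv7 D114412)))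
theorem Q61254 : ∀ i, i < 61254 → P i := stepQ 61253 Q61253 (allL N61253 (tt N76390 F355729) (tt N54901 (iv0 F355824)) (tt N74796 (iv2 F355826)) (tt N32730 (iv3 D114413)) (tt N98280 D201391) (tt N40943 F324996) (tt N98281 D201392) (tt N79002 F251729))
theorem Q61255 : ∀ i, i < 61255 → P i := stepQ 61254 Q61254 (allL N61254 (tt N69507 F396239) (tt N98282 D201393) (tt N92206 (iv2 F396245)) (tt N98281 (iv3 F420305)) (tt N97199 (iv4 F415852)) (tt N75715 F233519) (tt N32730 (iv6 D114414)) (tt N86571 (iv7 F376510)))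
theorem Q61256 : ∀ i, i < 61256 → P i := stepQ 61255 Q61255 (allL N61255 (tt N33530 F355185) (tt N41153 F355186) (tt N40791 F355187) (tt N32732 (iv3 D114417)) (tt N61107 (iv4 F355191)) (tt N33401 F355188) (tt N32734 F178448) (tt N40794 F355189))
theorem Q61257 : ∀ i, i < 61257 → P i := stepQ 61256 Q61256 (allL N61256 (tt N73464 F339990) (tt N73467 F339991) (tt N92208 (iv2 F396258)) (tt N33401 F339992) (tt N62371 F339993) (tt N32732 (iv5 D114418)) (tt N60348 F178449) (tt N40793 F339994))
theorem Q61258 : ∀ i, i < 61258 → P i := stepQ 61257 Q61257 (allL N61257 (tt N60202 (iv1 F178452)) (tt N60200 F178453) (tt N92209 (iv2 F396264)) (tt N40794 F331559) (tt N32733 F178450) (tt N40793 F331560) (tt N60347 F178451) (tt N32732 (iv7 D114419)))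
theorem Q61259 : ∀ i, i < 61259 → P i := stepQ 61258 Q61258 (allL N61258 (tt N69492 (iv1 F214519)) (tt N69491 F214524) (tt N69493 (iv2 F214520)) (tt N76404 (iv3 F238522)) (tt N60347 F178454) (tt N78387 (iv5 F248608)) (tt N32733 (iv6 D114420)) (tt N32735 F178455))
theorem Q61260 : ∀ i, i < 61260 → P i := stepQ 61259 Q61259 (allL N61259 (tt N60339 (iv1 F178456)) (tt N32734 (iv0 D114421)) (tt N60341 F379512) (tt N98283 D201394) (tt N98284 D201395) (tt N69435 (iv5 F361841)) (tt N98285 D201396) (tt N60340 (iv7 F379513)))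
theorem Q61261 : ∀ i, i < 61261 → P i := stepQ 61260 Q61260 (allL N61260 (tt N32734 (iv1 D114422)) (tt N60339 F178460) (tt N60340 (iv2 F379514)) (tt N52011 F361787) (tt N58910 F361788) (tt N69436 (iv5 F379501)) (tt N52004 (iv6 F361786)) (tt N60341 (iv7 F379504)))
theorem Q61262 : ∀ i, i < 61262 → P i := stepQ 61261 Q61261 (allL N61261 (tt N60341 (iv1 F178461)) (tt N60340 F178459) (tt N32734 (iv2 D114423)) (tt N92212 (iv3 F396282)) (tt N76432 (iv4 F238579)) (tt N60330 F178457) (tt N40791 F355184) (tt N60339 F178458))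
theorem Q61263 : ∀ i, i < 61263 → P i := stepQ 61262 Q61262 (allL N61262 (tt N69493 (iv1 F214526)) (tt N32735 (iv0 D114424)) (tt N69491 (iv2 F365003)) (tt N94138 F403392) (tt N60244 (iv4 F365008)) (tt N98286 D201397) (tt N94137 (iv6 F403393)) (tt N69492 (iv7 F365005)))
theorem Q61264 : ∀ i, i < 61264 → P i := stepQ 61263 Q61263 (allL N61263 (tt N32735 (iv1 D114425)) (tt N69493 F214525) (tt N69492 F365004) (tt N61359 (iv3 F364980)) (tt N60245 (iv4 F340030)) (tt N98287 D201398) (tt N98288 D201399) (tt N69491 F364981))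
theorem Q61265 : ∀ i, i < 61265 → P i := stepQ 61264 Q61264 (allL N61264 (tt N92214 F396297) (tt N92229 F396375) (tt N61265 (iv2 F178463)) (tt N32739 F178462) (tt N76951 (iv4 F240921)) (tt N85059 (iv5 F371488)) (tt N32736 (iv6 D114426)) (tt N92228 (iv7 F396366)))
theorem Q61266 : ∀ i, i < 61266 → P i := stepQ 61265 Q61265 (allL N61265 (tt N98289 D201400) (tt N55816 (iv0 F371522)) (tt N61264 F178463) (tt N61335 (iv3 F178625)) (tt N61048 F178464) (tt N78612 (iv5 F339464)) (tt N32737 (iv6 D114427)) (tt N98290 D201401))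
theorem Q61267 : ∀ i, i < 61267 → P i := stepQ 61266 Q61266 (allL N61266 (tt N85073 (iv1 F371534)) (tt N85074 (iv0 F371540)) (tt N92797 (iv2 F398269)) (tt N32745 F178467) (tt N98291 D201402) (tt N32741 (iv5 D114432)) (tt N66952 (iv6 F206226)) (tt N86033 (iv7 F374964)))
theorem Q61268 : ∀ i, i < 61268 → P i := stepQ 61267 Q61267 (allL N61267 (tt N84246 F368668) (tt N54462 F335754) (tt N84249 (iv2 F368686)) (tt N45029 F178468) (tt N43480 F178469) (tt N61293 (iv5 F178532)) (tt N32742 (iv6 D114433)) (tt N84248 F368678))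
theorem Q61269 : ∀ i, i < 61269 → P i := stepQ 61268 Q61268 (allL N61268 (tt N80341 (iv1 F358939)) (tt N80181 (iv0 F358937)) (tt N66994 (iv2 F206338)) (tt N66930 (iv3 F206158)) (tt N32744 F178470) (tt N98292 D201403) (tt N32743 (iv6 D114434)) (tt N81508 F346735))
theorem Q61270 : ∀ i, i < 61270 → P i := stepQ 61269 Q61269 (allL N61269 (tt N32744 (iv1 D114436)) (tt N61513 F190360) (tt N32952 F190361) (tt N61523 F190362) (tt N47925 F353307) (tt N98293 D201404) (tt N98294 D201405) (tt N61514 F190363))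
theorem Q61271 : ∀ i, i < 61271 → P i := stepQ 61270 Q61270 (allL N61270 (tt N32952 F206230) (tt N61514 F206231) (tt N61513 F191127) (tt N66953 (iv3 F206227)) (tt N81508 (iv4 F346726)) (tt N85873 (iv5 F374288)) (tt N32935 F206243) (tt N32744 (iv7 D114437)))
theorem Q61272 : ∀ i, i < 61272 → P i := stepQ 61271 Q61271 (allL N61271 (tt N85085 (iv1 F371592)) (tt N85097 (iv0 F371619)) (tt N86036 (iv2 F374971)) (tt N98295 D201406) (tt N32745 (iv4 D114438)) (tt N98199 (iv5 F419945)) (tt N86109 (iv6 F375135)) (tt N86034 (iv7 F374968)))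
theorem Q61273 : ∀ i, i < 61273 → P i := stepQ 61272 Q61272 (allL N61272 (tt N75369 (iv1 F334540)) (tt N75054 (iv0 F230208)) (tt N61092 F178471) (tt N32746 (iv3 D114439)) (tt N63276 (iv4 F186694)) (tt N63206 (iv5 F305796)) (tt N98296 D201407) (tt N75292 (iv7 F343329)))
theorem Q61274 : ∀ i, i < 61274 → P i := stepQ 61273 Q61273 (allL N61273 (tt N74752 F322755) (tt N62595 F322756) (tt N32757 F178472) (tt N98296 (iv3 F420379)) (tt N32747 F178473) (tt N42445 F322757) (tt N32746 (iv6 D114440)) (tt N74751 F322758))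
theorem Q61275 : ∀ i, i < 61275 → P i := stepQ 61274 Q61274 (allL N61274 (tt N32747 (iv1 D114441)) (tt N32761 F178474) (tt N32759 (iv2 F178476)) (tt N84493 (iv3 F369536)) (tt N98297 D201408) (tt N89855 (iv5 F387739)) (tt N80885 (iv6 F326539)) (tt N32758 F178475))
theorem Q61276 : ∀ i, i < 61276 → P i := stepQ 61275 Q61275 (allL N61275 (tt N32759 (iv1 F178479)) (tt N32758 F178480) (tt N32761 F178478) (tt N63281 (iv3 F186706)) (tt N74751 F361649) (tt N85109 (iv5 F371658)) (tt N76307 (iv6 F238151)) (tt N32747 (iv7 D114442)))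
theorem Q61277 : ∀ i, i < 61277 → P i := stepQ 61276 Q61276 (allL N61276 (tt N42940 F178483) (tt N50107 F178484) (tt N32762 F178481) (tt N92797 (iv3 F398270)) (tt N98298 D201409) (tt N32748 (iv5 D114443)) (tt N50359 F178485) (tt N32765 F178482))
theorem Q61278 : ∀ i, i < 61278 → P i := stepQ 61277 Q61277 (allL N61277 (tt N50107 F178489) (tt N42940 F178488) (tt N32765 F178486) (tt N61295 (iv3 F178537)) (tt N93767 (iv4 F401826)) (tt N32749 (iv5 D114444)) (tt N93766 (iv6 F401822)) (tt N32762 F178487))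
theorem Q61279 : ∀ i, i < 61279 → P i := stepQ 61278 Q61278 (allL N61278 (tt N32753 (iv1 F178495)) (tt N32751 (iv0 D114446)) (tt N34077 F178497) (tt N51971 F178494) (tt N34075 F178493) (tt N43414 F178492) (tt N42088 F308680) (tt N56180 (iv7 F178496)))
theorem Q61280 : ∀ i, i < 61280 → P i := stepQ 61279 Q61279 (allL N61279 (tt N32751 (iv1 D114447)) (tt N32753 F178498) (tt N56180 (iv2 F178502)) (tt N42093 F307689) (tt N34079 F178501) (tt N43415 F178500) (tt N98299 D201410) (tt N34077 F178499))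
theorem Q61281 : ∀ i, i < 61281 → P i := stepQ 61280 Q61280 (allL N61280 (tt N79992 F259270) (tt N98300 D201411) (tt N75976 (iv2 F235004)) (tt N32754 F178506) (tt N45323 F178507) (tt N98301 D201412) (tt N32752 (iv6 D114453)) (tt N81460 (iv7 F335821)))
theorem Q61282 : ∀ i, i < 61282 → P i := stepQ 61281 Q61281 (allL N61281 (tt N98302 D201413) (tt N82202 (iv0 F350633)) (tt N77185 (iv2 F241886)) (tt N75996 (iv3 F235311)) (tt N32754 F178508) (tt N98303 D201414) (tt N32753 (iv6 D114454)) (tt N78623 (iv7 F355843)))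
theorem Q61283 : ∀ i, i < 61283 → P i := stepQ 61282 Q61282 (allL N61282 (tt N57281 F396410) (tt N95893 F410124) (tt N92202 (iv2 F396224)) (tt N98301 (iv3 F420407)) (tt N98304 D201415) (tt N32754 (iv5 D114456)) (tt N45027 F178509) (tt N81461 (iv7 F365894)))
theorem Q61284 : ∀ i, i < 61284 → P i := stepQ 61283 Q61283 (allL N61283 (tt N80342 (iv1 F344943)) (tt N63973 (iv0 F344938)) (tt N63210 (iv2 F311483)) (tt N61097 F178516) (tt N43477 F178517) (tt N47496 F334147) (tt N32756 (iv6 D114461)) (tt N70085 (iv7 F344794)))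
theorem Q61285 : ∀ i, i < 61285 → P i := stepQ 61284 Q61284 (allL N61284 (tt N41591 F322759) (tt N42447 F322760) (tt N42445 F322761) (tt N61100 F178520) (tt N94179 (iv4 F403574)) (tt N32757 (iv5 D114464)) (tt N47496 F344941) (tt N42446 F322762))
theorem Q61286 : ∀ i, i < 61286 → P i := stepQ 61285 Q61285 (allL N61285 (tt N62595 F322751) (tt N74752 F322752) (tt N74751 F322753) (tt N61101 F178521) (tt N32761 F178522) (tt N42446 F322754) (tt N76647 (iv6 F239657)) (tt N32757 (iv7 D114465)))
theorem Q61287 : ∀ i, i < 61287 → P i := stepQ 61286 Q61286 (allL N61286 (tt N95839 F409884) (tt N98299 (iv0 F420398)) (tt N84772 (iv2 F370566)) (tt N78334 (iv3 F359840)) (tt N32758 (iv4 D114466)) (tt N46432 F359839) (tt N48626 F178523) (tt N98297 (iv7 F420386)))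
theorem Q61288 : ∀ i, i < 61288 → P i := stepQ 61287 Q61287 (allL N61287 (tt N98299 F420399) (tt N95839 (iv0 F409883)) (tt N98297 (iv2 F420382)) (tt N41018 F321310) (tt N32759 (iv4 D114469)) (tt N46433 F359835) (tt N80712 (iv6 F359838)) (tt N84772 (iv7 F370571)))
theorem Q61289 : ∀ i, i < 61289 → P i := stepQ 61288 Q61288 (allL N61288 (tt N89854 (iv1 F387731)) (tt N89853 (iv0 F387729)) (tt N89855 (iv2 F387738)) (tt N73154 (iv3 F366475)) (tt N58295 (iv4 F359837)) (tt N32759 (iv5 D114470)) (tt N89859 (iv6 F387754)) (tt N50329 F178526))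
theorem Q61290 : ∀ i, i < 61290 → P i := stepQ 61289 Q61289 (allL N61289 (tt N85109 (iv1 F371666)) (tt N32760 (iv0 D114472)) (tt N85107 (iv2 F371664)) (tt N98305 D201416) (tt N98306 D201417) (tt N98307 D201418) (tt N84829 F371975) (tt N85108 F371665))
theorem Q61291 : ∀ i, i < 61291 → P i := stepQ 61290 Q61290 (allL N61290 (tt N32760 (iv1 D114473)) (tt N85109 F371660) (tt N85108 F371656) (tt N73120 F352412) (tt N58311 (iv4 F361664)) (tt N73119 (iv5 F352411)) (tt N98308 D201419) (tt N85107 (iv7 F371661)))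
theorem Q61292 : ∀ i, i < 61292 → P i := stepQ 61291 Q61291 (allL N61291 (tt N85108 (iv1 F371654)) (tt N85107 F371659) (tt N85109 (iv2 F371657)) (tt N32775 F178529) (tt N70202 F361663) (tt N32761 F178530) (tt N85115 (iv6 F371673)) (tt N32760 (iv7 D114475)))
theorem Q61293 : ∀ i, i < 61293 → P i := stepQ 61292 Q61292 (allL N61292 (tt N92857 (iv1 F398538)) (tt N85652 (iv0 F373397)) (tt N98298 (iv2 F420389)) (tt N76213 F241265) (tt N32762 (iv4 D114476)) (tt N76212 (iv5 F241266)) (tt N98309 D201420) (tt N93767 F401829))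
theorem Q61294 : ∀ i, i < 61294 → P i := stepQ 61293 Q61293 (allL N61293 (tt N50119 F178533) (tt N50360 F178534) (tt N50359 F178531) (tt N78885 (iv3 F251198)) (tt N98309 (iv4 F420446)) (tt N61267 F178532) (tt N32762 (iv6 D114477)) (tt N50358 F368682))
theorem Q61295 : ∀ i, i < 61295 → P i := stepQ 61294 Q61294 (allL N61294 (tt N85074 (iv1 F371539)) (tt N85073 (iv0 F371535)) (tt N86033 (iv2 F374962)) (tt N32765 F178535) (tt N98310 D201421) (tt N32763 (iv5 D114478)) (tt N98311 D201422) (tt N92797 (iv7 F398272)))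
theorem Q61296 : ∀ i, i < 61296 → P i := stepQ 61295 Q61295 (allL N61295 (tt N50294 F178540) (tt N44961 F178539) (tt N50968 F178536) (tt N61277 F178537) (tt N77488 (iv4 F242889)) (tt N32764 (iv5 D114479)) (tt N96620 (iv6 F413211)) (tt N50969 F178538))
theorem Q61297 : ∀ i, i < 61297 → P i := stepQ 61296 Q61296 (allL N61296 (tt N85652 F373399) (tt N92857 (iv0 F398537)) (tt N93767 (iv2 F401824)) (tt N98312 D201423) (tt N32765 (iv4 D114480)) (tt N91644 (iv5 F398539)) (tt N93755 (iv6 F401788)) (tt N98298 (iv7 F420391)))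
theorem Q61298 : ∀ i, i < 61298 → P i := stepQ 61297 Q61297 (allL N61297 (tt N72933 F346552) (tt N98313 D201424) (tt N93766 (iv2 F401819)) (tt N98311 (iv3 F420451)) (tt N93755 (iv4 F401786)) (tt N83664 (iv5 F288345)) (tt N32765 (iv6 D114481)) (tt N93787 (iv7 F401884)))
theorem Q61299 : ∀ i, i < 61299 → P i := stepQ 61298 Q61298 (allL N61298 (tt N84798 (iv1 F370659)) (tt N32766 (iv0 D114482)) (tt N76692 (iv2 F239726)) (tt N56934 (iv3 F349171)) (tt N61662 F179197) (tt N56933 F349170) (tt N80577 F372144) (tt N85103 (iv7 F371633)))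
theorem Q61300 : ∀ i, i < 61300 → P i := stepQ 61299 Q61299 (allL N61299 (tt N32766 (iv1 D114483)) (tt N84798 (iv0 F370658)) (tt N85103 F371635) (tt N54063 F361016) (tt N50017 (iv4 F178541)) (tt N96061 (iv5 F410858)) (tt N50170 F178542) (tt N76692 (iv7 F239727)))
theorem Q61301 : ∀ i, i < 61301 → P i := stepQ 61300 Q61300 (allL N61300 (tt N42027 F315235) (tt N34128 (iv0 F178545)) (tt N74877 F349961) (tt N42206 F315236) (tt N32767 (iv4 D114489)) (tt N98314 D201425) (tt N81312 F335208) (tt N42219 F315237))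
theorem Q61302 : ∀ i, i < 61302 → P i := stepQ 61301 Q61301 (allL N61301 (tt N98315 D201426) (tt N98316 D201427) (tt N74882 (iv2 F366489)) (tt N32768 F178546) (tt N98317 D201428) (tt N32767 (iv5 D114490)) (tt N98318 D201429) (tt N78381 (iv7 F248582)))
theorem Q61303 : ∀ i, i < 61303 → P i := stepQ 61302 Q61302 (allL N61302 (tt N98319 D201430) (tt N98320 D201431) (tt N74883 (iv2 F339775)) (tt N32769 F178547) (tt N81312 (iv4 F335207)) (tt N45147 (iv5 F178548)) (tt N32767 (iv6 D114491)) (tt N81311 F335209))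
theorem Q61304 : ∀ i, i < 61304 → P i := stepQ 61303 Q61303 (allL N61303 (tt N32770 (iv1 F178550)) (tt N32768 (iv0 D114492)) (tt N61610 (iv2 F179124)) (tt N98321 D201432) (tt N73508 (iv4 F339989)) (tt N32916 F178549) (tt N98322 D201433) (tt N78378 (iv7 F248561)))
theorem Q61305 : ∀ i, i < 61305 → P i := stepQ 61304 Q61304 (allL N61304 (tt N32768 (iv1 D114493)) (tt N32770 F178553) (tt N78378 F248563) (tt N89854 (iv3 F387735)) (tt N40370 F326282) (tt N61488 F178915) (tt N42946 F178988) (tt N61610 (iv7 F179125)))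
theorem Q61306 : ∀ i, i < 61306 → P i := stepQ 61305 Q61305 (allL N61305 (tt N73112 (iv1 F340037)) (tt N98208 (iv0 F419996)) (tt N78379 (iv2 F248565)) (tt N98323 D201434) (tt N32768 (iv4 D114494)) (tt N67137 F340035) (tt N59108 F340038) (tt N78382 (iv7 F248585)))
theorem Q61307 : ∀ i, i < 61307 → P i := stepQ 61306 Q61306 (allL N61306 (tt N50344 F178556) (tt N50111 F178557) (tt N50349 F178554) (tt N98318 (iv3 F420478)) (tt N59108 (iv4 F340040)) (tt N45149 F178555) (tt N32768 (iv6 D114495)) (tt N50348 (iv7 F235274)))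
theorem Q61308 : ∀ i, i < 61308 → P i := stepQ 61307 Q61307 (allL N61307 (tt N98208 (iv1 F419997)) (tt N73112 (iv0 F340036)) (tt N78382 (iv2 F248584)) (tt N72931 (iv3 F340034)) (tt N32770 (iv4 D114502)) (tt N67140 F340033) (tt N97829 (iv6 F418442)) (tt N78379 (iv7 F248566)))
theorem Q61309 : ∀ i, i < 61309 → P i := stepQ 61308 Q61308 (allL N61308 (tt N41407 F349968) (tt N32826 F349970) (tt N98324 D201435) (tt N32772 (iv3 D114503)) (tt N89832 F387681) (tt N73822 F349969) (tt N98325 D201436) (tt N78385 (iv7 F248598)))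
theorem Q61310 : ∀ i, i < 61310 → P i := stepQ 61309 Q61309 (allL N61309 (tt N61529 (iv1 F178993)) (tt N32954 F178563) (tt N41770 F325418) (tt N73822 F349967) (tt N45134 F178562) (tt N32772 (iv5 D114505)) (tt N32933 F178565) (tt N32896 F178561))
theorem Q61311 : ∀ i, i < 61311 → P i := stepQ 61310 Q61310 (allL N61310 (tt N85217 F371935) (tt N85221 F371949) (tt N78384 (iv2 F248591)) (tt N98325 (iv3 F420506)) (tt N98221 (iv4 F420042)) (tt N56433 F178566) (tt N32772 (iv6 D114506)) (tt N85220 (iv7 F398945)))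
theorem Q61312 : ∀ i, i < 61312 → P i := stepQ 61311 Q61311 (allL N61311 (tt N63767 F322801) (tt N74862 F322802) (tt N41778 F322803) (tt N32773 (iv3 D114507)) (tt N75543 F322804) (tt N33643 F322805) (tt N98326 D201437) (tt N41771 (iv7 F324273)))
theorem Q61313 : ∀ i, i < 61313 → P i := stepQ 61312 Q61312 (allL N61312 (tt N98327 D201438) (tt N93389 (iv0 F400621)) (tt N78386 (iv2 F248599)) (tt N98326 (iv3 F420509)) (tt N59154 F339969) (tt N64187 (iv5 F193539)) (tt N32773 (iv6 D114508)) (tt N93727 (iv7 F401691)))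
theorem Q61314 : ∀ i, i < 61314 → P i := stepQ 61313 Q61313 (allL N61313 (tt N73024 (iv1 F331524)) (tt N32774 (iv0 D114509)) (tt N61184 (iv2 F178570)) (tt N98328 D201439) (tt N36393 F178571) (tt N62188 F331455) (tt N94774 (iv6 F405878)) (tt N61187 F178572))
theorem Q61315 : ∀ i, i < 61315 → P i := stepQ 61314 Q61314 (allL N61314 (tt N32774 (iv1 D114510)) (tt N73024 (iv0 F331523)) (tt N61187 (iv2 F178568)) (tt N98329 D201440) (tt N36394 F178567) (tt N62189 (iv5 F340478)) (tt N92903 (iv6 F398713)) (tt N61184 (iv7 F178569)))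
theorem Q61316 : ∀ i, i < 61316 → P i := stepQ 61315 Q61315 (allL N61315 (tt N78393 (iv1 F248623)) (tt N78392 F248622) (tt N78387 (iv2 F248607)) (tt N85115 (iv3 F371672)) (tt N73025 F351254) (tt N69493 (iv5 F214522)) (tt N32775 (iv6 D114514)) (tt N32785 F178578))
theorem Q61317 : ∀ i, i < 61317 → P i := stepQ 61316 Q61316 (allL N61316 (tt N32831 (iv1 F178582)) (tt N32814 F178581) (tt N32776 (iv2 D114515)) (tt N63766 F189434) (tt N82964 (iv4 F352776)) (tt N60752 F178579) (tt N98330 D201441) (tt N32829 F178580))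
theorem Q61318 : ∀ i, i < 61318 → P i := stepQ 61317 Q61317 (allL N61317 (tt N98331 D201442) (tt N98332 D201443) (tt N98330 (iv2 F420523)) (tt N32777 F178584) (tt N89060 (iv4 F385010)) (tt N98333 D201444) (tt N32776 (iv6 D114517)) (tt N98334 D201445))
theorem Q61319 : ∀ i, i < 61319 → P i := stepQ 61318 Q61318 (allL N61318 (tt N78391 (iv1 F248620)) (tt N32777 (iv0 D114518)) (tt N78388 (iv2 F376983)) (tt N98335 D201446) (tt N93386 F400608) (tt N98336 D201447) (tt N93389 (iv6 F400619)) (tt N78389 F376988))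
theorem Q61320 : ∀ i, i < 61320 → P i := stepQ 61319 Q61319 (allL N61319 (tt N32777 (iv1 D114519)) (tt N78391 F248619) (tt N78389 F376987) (tt N84836 F370802) (tt N82411 (iv4 F365247)) (tt N98337 D201448) (tt N98338 D201449) (tt N78388 (iv7 F376986)))
theorem Q61321 : ∀ i, i < 61321 → P i := stepQ 61320 Q61320 (allL N61320 (tt N61528 F178981) (tt N98339 D201450) (tt N78390 (iv2 F248613)) (tt N98333 (iv3 F420529)) (tt N98340 D201451) (tt N32777 (iv5 D114520)) (tt N32959 F178585) (tt N98341 D201452))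
theorem Q61322 : ∀ i, i < 61322 → P i := stepQ 61321 Q61321 (allL N61321 (tt N78389 (iv1 F248612)) (tt N78388 F248618) (tt N78391 (iv2 F248616)) (tt N98334 (iv3 F420533)) (tt N96063 (iv4 F410870)) (tt N98341 (iv5 F420554)) (tt N74523 (iv6 F228247)) (tt N32777 (iv7 D114521)))
theorem Q61323 : ∀ i, i < 61323 → P i := stepQ 61322 Q61322 (allL N61322 (tt N93386 F400607) (tt N82411 (iv0 F370803)) (tt N61208 F178587) (tt N89830 (iv3 F387675)) (tt N36404 F178588) (tt N57939 (iv5 F356730)) (tt N32780 (iv6 D114526)) (tt N93900 (iv7 F402345)))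
theorem Q61324 : ∀ i, i < 61324 → P i := stepQ 61323 Q61323 (allL N61323 (tt N50382 F365814) (tt N98342 D201453) (tt N89826 (iv2 F387659)) (tt N32781 (iv3 D114527)) (tt N90105 (iv4 F388571)) (tt N66794 (iv5 F205593)) (tt N83139 F362356) (tt N61207 F178589))
theorem Q61325 : ∀ i, i < 61325 → P i := stepQ 61324 Q61324 (allL N61324 (tt N73023 (iv1 F351118)) (tt N32782 (iv0 D114529)) (tt N48336 F351120) (tt N89821 (iv3 F387631)) (tt N48400 F351121) (tt N58307 (iv5 F351119)) (tt N46706 F351122) (tt N73022 F351123))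
theorem Q61326 : ∀ i, i < 61326 → P i := stepQ 61325 Q61325 (allL N61325 (tt N73022 F351181) (tt N48336 F349735) (tt N73023 (iv2 F351115)) (tt N32784 F178594) (tt N85110 (iv4 F371667)) (tt N44617 F178595) (tt N73027 F351207) (tt N32782 (iv7 D114533)))
theorem Q61327 : ∀ i, i < 61327 → P i := stepQ 61326 Q61326 (allL N61326 (tt N98343 D201454) (tt N94770 (iv0 F405850)) (tt N38713 F331541) (tt N73027 F351205) (tt N32785 F178598) (tt N38712 F331542) (tt N32784 (iv6 D114535)) (tt N73025 (iv7 F351252)))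
theorem Q61328 : ∀ i, i < 61328 → P i := stepQ 61327 Q61327 (allL N61327 (tt N78387 (iv1 F248611)) (tt N32785 (iv0 D114536)) (tt N78392 F388626) (tt N89751 F387425) (tt N89753 (iv4 F387436)) (tt N86606 (iv5 F376587)) (tt N60917 F178599) (tt N78393 (iv7 F388624)))
theorem Q61329 : ∀ i, i < 61329 → P i := stepQ 61328 Q61328 (allL N61328 (tt N32785 (iv1 D114537)) (tt N78387 F248610) (tt N78393 (iv2 F388627)) (tt N77673 (iv3 F421587)) (tt N98254 (iv4 F420197)) (tt N86607 F376588) (tt N94772 F419088) (tt N78392 F388628))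
theorem Q61330 : ∀ i, i < 61330 → P i := stepQ 61329 Q61329 (allL N61329 (tt N91472 F393273) (tt N91560 F393654) (tt N32869 F178600) (tt N53333 F178601) (tt N32787 F178602) (tt N95521 (iv5 F408465)) (tt N32786 (iv6 D114538)) (tt N91559 (iv7 F393644)))
theorem Q61331 : ∀ i, i < 61331 → P i := stepQ 61330 Q61330 (allL N61330 (tt N32875 (iv1 F178608)) (tt N32787 (iv0 D114539)) (tt N32876 F206223) (tt N43184 F339326) (tt N65394 (iv4 F333649)) (tt N98344 D201456) (tt N65393 F355270) (tt N32877 F206224))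
theorem Q61332 : ∀ i, i < 61332 → P i := stepQ 61331 Q61331 (allL N61331 (tt N32787 (iv1 D114540)) (tt N32875 F178603) (tt N32877 F206221) (tt N66951 F206220) (tt N74810 (iv4 F313876)) (tt N98345 D201457) (tt N98346 D201458) (tt N32876 F206222))
theorem Q61333 : ∀ i, i < 61333 → P i := stepQ 61332 Q61332 (allL N61332 (tt N98347 D201459) (tt N98348 D201460) (tt N32878 F178604) (tt N61503 (iv3 F178950)) (tt N98349 D201461) (tt N32787 (iv5 D114541)) (tt N32788 F178605) (tt N98350 D201462))
theorem Q61334 : ∀ i, i < 61334 → P i := stepQ 61333 Q61333 (allL N61333 (tt N32877 (iv1 F178609)) (tt N32876 F178610) (tt N32875 F178606) (tt N41799 F319421) (tt N91559 F393645) (tt N98350 (iv5 F420601)) (tt N32840 F178607) (tt N32787 (iv7 D114542)))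
theorem Q61335 : ∀ i, i < 61335 → P i := stepQ 61334 Q61334 (allL N61334 (tt N78297 (iv1 F247882)) (tt N97795 (iv0 F418335)) (tt N32884 F178611) (tt N98351 D201463) (tt N32788 (iv4 D114543)) (tt N98352 D201464) (tt N98349 (iv6 F420598)) (tt N43357 F178612))
theorem Q61336 : ∀ i, i < 61336 → P i := stepQ 61335 Q61335 (allL N61335 (tt N32870 F191340) (tt N65207 (iv0 F199569)) (tt N73785 (iv2 F320226)) (tt N61265 F178625) (tt N45320 F178626) (tt N70820 (iv5 F363730)) (tt N32793 (iv6 D114550)) (tt N73786 (iv7 F320233)))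
theorem Q61337 : ∀ i, i < 61337 → P i := stepQ 61336 Q61336 (allL N61336 (tt N61752 (iv1 F325782)) (tt N61757 (iv0 F332571)) (tt N61754 (iv2 F335813)) (tt N78880 (iv3 F251176)) (tt N36314 F178627) (tt N69512 F335831) (tt N32794 (iv6 D114551)) (tt N61753 (iv7 F335823)))
theorem Q61338 : ∀ i, i < 61338 → P i := stepQ 61337 Q61337 (allL N61337 (tt N41020 F318190) (tt N32795 (iv0 D114552)) (tt N41022 F318191) (tt N76305 (iv3 F343313)) (tt N45324 F320376) (tt N87520 (iv5 F379639)) (tt N80387 (iv6 F333385)) (tt N41021 F318192))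
theorem Q61339 : ∀ i, i < 61339 → P i := stepQ 61338 Q61338 (allL N61338 (tt N32795 (iv1 D114553)) (tt N41020 F318193) (tt N41021 F318194) (tt N98353 D201465) (tt N45325 (iv4 F253014)) (tt N87521 (iv5 F379646)) (tt N75953 F253015) (tt N41022 F318195))
theorem Q61340 : ∀ i, i < 61340 → P i := stepQ 61339 Q61339 (allL N61339 (tt N73781 F318200) (tt N52751 (iv0 F333380)) (tt N92798 (iv2 F398275)) (tt N32808 F178628) (tt N73646 F318202) (tt N32795 (iv5 D114554)) (tt N32797 F178629) (tt N41023 F318203))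
theorem Q61341 : ∀ i, i < 61341 → P i := stepQ 61340 Q61340 (allL N61340 (tt N68140 (iv1 F209191)) (tt N58906 (iv0 F178633)) (tt N86406 (iv2 F376129)) (tt N51305 F178631) (tt N52119 (iv4 F363517)) (tt N32796 (iv5 D114556)) (tt N52118 F363518) (tt N51303 F178632))
theorem Q61342 : ∀ i, i < 61342 → P i := stepQ 61341 Q61341 (allL N61341 (tt N86404 (iv1 F376123)) (tt N32797 (iv0 D114557)) (tt N92799 F398284) (tt N69483 (iv3 F376125)) (tt N92801 (iv4 F398290)) (tt N56621 F376124) (tt N86585 (iv6 F376538)) (tt N86487 (iv7 F376369)))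
theorem Q61343 : ∀ i, i < 61343 → P i := stepQ 61342 Q61342 (allL N61342 (tt N32797 (iv1 D114558)) (tt N86404 (iv0 F376122)) (tt N86487 (iv2 F376367)) (tt N45027 (iv3 F178635)) (tt N92802 (iv4 F398293)) (tt N45025 F178634) (tt N98301 (iv6 F420408)) (tt N92799 (iv7 F398286)))
theorem Q61344 : ∀ i, i < 61344 → P i := stepQ 61343 Q61343 (allL N61343 (tt N86487 F376370) (tt N92799 F398285) (tt N86404 (iv2 F376118)) (tt N32813 F178636) (tt N52029 (iv4 F340310)) (tt N32798 F178637) (tt N52027 F340311) (tt N32797 (iv7 D114559)))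
theorem Q61345 : ∀ i, i < 61345 → P i := stepQ 61344 Q61344 (allL N61344 (tt N36423 (iv1 F178644)) (tt N32799 (iv0 D114560)) (tt N36420 (iv2 F191019)) (tt N42796 (iv3 F190979)) (tt N51974 F301483) (tt N52933 F301484) (tt N95843 (iv6 F409907)) (tt N36421 (iv7 F191018)))
theorem Q61346 : ∀ i, i < 61346 → P i := stepQ 61345 Q61345 (allL N61345 (tt N36430 (iv1 F178650)) (tt N32801 (iv0 D114564)) (tt N36427 (iv2 F178649)) (tt N37573 (iv3 F178652)) (tt N53734 (iv4 F307753)) (tt N44488 F178647) (tt N98354 D201466) (tt N36428 F178651))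
theorem Q61347 : ∀ i, i < 61347 → P i := stepQ 61346 Q61346 (allL N61346 (tt N87886 F380967) (tt N88227 F382270) (tt N34396 F178653) (tt N89957 (iv3 F388101)) (tt N32804 F178654) (tt N87092 (iv5 F378349)) (tt N32803 (iv6 D114565)) (tt N88226 (iv7 F382257)))
theorem Q61348 : ∀ i, i < 61348 → P i := stepQ 61347 Q61347 (allL N61347 (tt N34399 (iv1 F178657)) (tt N32804 (iv0 D114566)) (tt N34397 F283760) (tt N64032 F283761) (tt N72736 (iv4 F334445)) (tt N98355 D201467) (tt N72743 F334443) (tt N34398 F283762))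
theorem Q61349 : ∀ i, i < 61349 → P i := stepQ 61348 Q61348 (allL N61348 (tt N32804 (iv1 D114567)) (tt N34399 F178655) (tt N34398 F283763) (tt N98300 F420402) (tt N74849 (iv4 F317837)) (tt N98356 D201468) (tt N98319 F420488) (tt N34397 F283765))
theorem Q61350 : ∀ i, i < 61350 → P i := stepQ 61349 Q61349 (allL N61349 (tt N34398 (iv1 F178658)) (tt N34397 F178659) (tt N34399 F178656) (tt N75630 (iv3 F313234)) (tt N88226 F382258) (tt N95877 (iv5 F410059)) (tt N75688 (iv6 F233437)) (tt N32804 (iv7 D114568)))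
theorem Q61351 : ∀ i, i < 61351 → P i := stepQ 61350 Q61350 (allL N61350 (tt N52573 F178662) (tt N77217 (iv0 F241991)) (tt N35047 F178660) (tt N32805 (iv3 D114569)) (tt N35041 F178661) (tt N76142 (iv5 F236881)) (tt N98357 D201469) (tt N63409 (iv7 F187340)))
theorem Q61352 : ∀ i, i < 61352 → P i := stepQ 61351 Q61351 (allL N61351 (tt N72736 F333615) (tt N74849 (iv0 F317835)) (tt N63405 (iv2 F187337)) (tt N98357 (iv3 F420630)) (tt N46029 F178663) (tt N75913 F311523) (tt N32805 (iv6 D114570)) (tt N75912 F311524))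
theorem Q61353 : ∀ i, i < 61353 → P i := stepQ 61352 Q61352 (allL N61352 (tt N41623 (iv1 F320377)) (tt N33587 F318207) (tt N41401 F318208) (tt N75566 F341579) (tt N62707 F318209) (tt N32807 (iv5 D114579)) (tt N98358 D201470) (tt N41399 F318210))
theorem Q61354 : ∀ i, i < 61354 → P i := stepQ 61353 Q61353 (allL N61353 (tt N75691 F318211) (tt N36374 F318212) (tt N41402 F318213) (tt N75567 (iv3 F354913)) (tt N41991 F318214) (tt N61415 F178807) (tt N32807 (iv6 D114580)) (tt N92585 (iv7 F397499)))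
theorem Q61355 : ∀ i, i < 61355 → P i := stepQ 61354 Q61354 (allL N61354 (tt N98324 (iv1 F420504)) (tt N78385 F338610) (tt N32826 F178676) (tt N76001 (iv3 F235473)) (tt N95019 (iv4 F406668)) (tt N32809 (iv5 D114593)) (tt N32814 F178677) (tt N41407 F316459))
theorem Q61356 : ∀ i, i < 61356 → P i := stepQ 61355 Q61355 (allL N61355 (tt N56437 F178679) (tt N68269 (iv0 F209446)) (tt N37457 F178678) (tt N98359 D201471) (tt N32810 (iv4 D114594)) (tt N69613 (iv5 F215101)) (tt N98360 D201472) (tt N69583 (iv7 F215036)))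
theorem Q61357 : ∀ i, i < 61357 → P i := stepQ 61356 Q61356 (allL N61356 (tt N98361 D201473) (tt N86421 F376166) (tt N37458 F178680) (tt N51482 F178681) (tt N98360 (iv4 F420637)) (tt N51481 F178682) (tt N32810 (iv6 D114595)) (tt N88685 (iv7 F383887)))
theorem Q61358 : ∀ i, i < 61358 → P i := stepQ 61357 Q61357 (allL N61357 (tt N56654 F178684) (tt N34092 F178685) (tt N37293 F178683) (tt N98362 D201474) (tt N32811 (iv4 D114596)) (tt N69569 (iv5 F214907)) (tt N98363 D201475) (tt N64035 (iv7 F192341)))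
theorem Q61359 : ∀ i, i < 61359 → P i := stepQ 61358 Q61358 (allL N61358 (tt N70775 F363753) (tt N70774 F363755) (tt N37294 F178686) (tt N78283 (iv3 F247669)) (tt N98363 (iv4 F420649)) (tt N71816 (iv5 F327581)) (tt N32811 (iv6 D114597)) (tt N94046 (iv7 F402965)))
theorem Q61360 : ∀ i, i < 61360 → P i := stepQ 61359 Q61359 (allL N61359 (tt N61363 (iv1 F356878)) (tt N32812 (iv0 D114598)) (tt N63421 (iv2 F187371)) (tt N61263 F364980) (tt N46005 F178687) (tt N98364 D201476) (tt N87548 F379729) (tt N46004 (iv7 F178688)))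
theorem Q61361 : ∀ i, i < 61361 → P i := stepQ 61360 Q61360 (allL N61360 (tt N92955 F398909) (tt N98365 D201477) (tt N73679 (iv2 F356884)) (tt N32812 (iv3 D114599)) (tt N73649 (iv4 F356885)) (tt N98366 D201478) (tt N73648 F356883) (tt N58917 (iv7 F356882)))
theorem Q61362 : ∀ i, i < 61362 → P i := stepQ 61361 Q61361 (allL N61361 (tt N98367 D201479) (tt N98368 D201480) (tt N74488 F356870) (tt N98366 (iv3 F420657)) (tt N69567 (iv4 F214900)) (tt N32812 (iv5 D114600)) (tt N61387 (iv6 F356871)) (tt N61395 F356872))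
theorem Q61363 : ∀ i, i < 61363 → P i := stepQ 61362 Q61362 (allL N61362 (tt N46004 (iv1 F178690)) (tt N63421 (iv0 F187373)) (tt N61363 (iv2 F356879)) (tt N58917 F356874) (tt N32813 F178689) (tt N61395 F356875) (tt N38206 F356876) (tt N32812 (iv7 D114601)))
theorem Q61364 : ∀ i, i < 61364 → P i := stepQ 61363 Q61363 (allL N61363 (tt N60996 F356877) (tt N61359 F356878) (tt N61362 F356879) (tt N52027 F356947) (tt N38206 F356880) (tt N98256 (iv5 F420206)) (tt N32813 (iv6 D114602)) (tt N41406 F356881))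
theorem Q61365 : ∀ i, i < 61365 → P i := stepQ 61364 Q61364 (allL N61364 (tt N63472 F187587) (tt N63474 (iv0 F187591)) (tt N32830 F178691) (tt N85122 (iv3 F371694)) (tt N32814 (iv4 D114603)) (tt N55229 (iv5 F335351)) (tt N95019 (iv6 F406669)) (tt N91284 (iv7 F392546)))
theorem Q61366 : ∀ i, i < 61366 → P i := stepQ 61365 Q61365 (allL N61365 (tt N41609 F306218) (tt N41608 (iv0 F308144)) (tt N41611 (iv2 F307773)) (tt N32815 (iv3 D114604)) (tt N32822 F178692) (tt N63435 (iv5 F298218)) (tt N45933 F317962) (tt N41595 (iv7 F307772)))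
theorem Q61367 : ∀ i, i < 61367 → P i := stepQ 61366 Q61366 (allL N61366 (tt N42068 F334756) (tt N65446 (iv0 F352158)) (tt N42262 (iv2 F321011)) (tt N45933 F319481) (tt N32816 F178695) (tt N59472 F320842) (tt N32815 (iv6 D114605)) (tt N76655 F290473))
theorem Q61368 : ∀ i, i < 61368 → P i := stepQ 61367 Q61367 (allL N61367 (tt N79989 (iv1 F259243)) (tt N32816 (iv0 D114606)) (tt N63301 F347802) (tt N76033 F347803) (tt N43260 F347804) (tt N98369 D201481) (tt N98370 D201482) (tt N79987 F347805))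
theorem Q61369 : ∀ i, i < 61369 → P i := stepQ 61368 Q61368 (allL N61368 (tt N32816 (iv1 D114607)) (tt N79989 F259242) (tt N79987 F347806) (tt N63279 F347807) (tt N43261 F347808) (tt N98371 D201483) (tt N61761 F356622) (tt N63301 F347809))
theorem Q61370 : ∀ i, i < 61370 → P i := stepQ 61369 Q61369 (allL N61369 (tt N98372 D201484) (tt N98373 D201485) (tt N79988 (iv2 F259237)) (tt N32826 F178696) (tt N98374 D201486) (tt N32816 (iv5 D114608)) (tt N32817 F178697) (tt N98375 D201487))
theorem Q61371 : ∀ i, i < 61371 → P i := stepQ 61370 Q61370 (allL N61370 (tt N79987 (iv1 F259236)) (tt N63301 (iv0 F290483)) (tt N79989 (iv2 F259239)) (tt N32827 F178698) (tt N76655 (iv4 F290472)) (tt N98375 (iv5 F420685)) (tt N41378 (iv6 F316734)) (tt N32816 (iv7 D114609)))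
theorem Q61372 : ∀ i, i < 61372 → P i := stepQ 61371 Q61371 (allL N61371 (tt N32880 (iv1 F178700)) (tt N32817 (iv0 D114610)) (tt N63315 (iv2 F186817)) (tt N32959 (iv3 F178701)) (tt N43289 (iv4 F178703)) (tt N43369 F178699) (tt N98333 (iv6 F420530)) (tt N45158 (iv7 F178702)))
theorem Q61373 : ∀ i, i < 61373 → P i := stepQ 61372 Q61372 (allL N61372 (tt N32817 (iv1 D114611)) (tt N32880 F178704) (tt N45158 F178706) (tt N45123 F178707) (tt N43290 F178708) (tt N43372 (iv5 F178705)) (tt N85010 (iv6 F371367)) (tt N63315 (iv7 F186819)))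
theorem Q61374 : ∀ i, i < 61374 → P i := stepQ 61373 Q61373 (allL N61373 (tt N76578 (iv1 F239375)) (tt N76580 (iv0 F239379)) (tt N76695 F239738) (tt N98376 D201488) (tt N32817 (iv4 D114612)) (tt N98377 D201489) (tt N98374 (iv6 F420681)) (tt N76694 F239734))
theorem Q61375 : ∀ i, i < 61375 → P i := stepQ 61374 Q61374 (allL N61374 (tt N66864 (iv1 F300970)) (tt N32818 (iv0 D114613)) (tt N63479 F190302) (tt N33869 F190303) (tt N63443 F190304) (tt N56022 (iv5 F317374)) (tt N75924 F234610) (tt N33883 F190305))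
theorem Q61376 : ∀ i, i < 61376 → P i := stepQ 61375 Q61375 (allL N61375 (tt N32818 (iv1 D114614)) (tt N66864 (iv0 F300969)) (tt N33883 F190306) (tt N75808 F234145) (tt N63444 F190307) (tt N98378 D201490) (tt N98379 D201491) (tt N63479 F190308))
theorem Q61377 : ∀ i, i < 61377 → P i := stepQ 61376 Q61376 (allL N61376 (tt N89194 (iv1 F385521)) (tt N89193 F385518) (tt N75816 (iv2 F234189)) (tt N36456 F178709) (tt N84270 (iv4 F368756)) (tt N32818 (iv5 D114615)) (tt N32820 F178710) (tt N80382 (iv7 F264232)))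
theorem Q61378 : ∀ i, i < 61378 → P i := stepQ 61377 Q61377 (allL N61377 (tt N42745 (iv1 F178716)) (tt N42744 F178717) (tt N33891 F178714) (tt N76576 (iv3 F239363)) (tt N63774 (iv4 F189492)) (tt N32819 (iv5 D114617)) (tt N98380 D201492) (tt N42742 F178715))
theorem Q61379 : ∀ i, i < 61379 → P i := stepQ 61378 Q61378 (allL N61378 (tt N32820 (iv1 D114618)) (tt N42743 F178720) (tt N33897 (iv2 F178721)) (tt N72777 (iv3 F323308)) (tt N63458 (iv4 F187546)) (tt N74436 (iv5 F227897)) (tt N62222 (iv6 F330009)) (tt N63496 (iv7 F187725)))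
theorem Q61380 : ∀ i, i < 61380 → P i := stepQ 61379 Q61379 (allL N61379 (tt N33897 (iv1 F178730)) (tt N63496 (iv0 F187730)) (tt N42743 F178726) (tt N33906 F178727) (tt N41157 F322550) (tt N32821 F178729) (tt N98381 D201493) (tt N32820 (iv7 D114620)))
theorem Q61381 : ∀ i, i < 61381 → P i := stepQ 61380 Q61380 (allL N61380 (tt N41448 F307722) (tt N41447 F307723) (tt N41449 (iv2 F308885)) (tt N37506 F307724) (tt N34218 F178733) (tt N77783 F307725) (tt N32823 (iv6 D114622)) (tt N37504 F307726))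
theorem Q61382 : ∀ i, i < 61382 → P i := stepQ 61381 Q61381 (allL N61381 (tt N40583 F319611) (tt N40640 (iv0 F317973)) (tt N33326 F315680) (tt N36656 F311537) (tt N73810 F349976) (tt N32824 (iv5 D114625)) (tt N77783 F311538) (tt N36654 F311539))
theorem Q61383 : ∀ i, i < 61383 → P i := stepQ 61382 Q61382 (allL N61382 (tt N34128 F290486) (tt N42027 F316465) (tt N42219 F316466) (tt N56062 F316467) (tt N32825 (iv4 D114634)) (tt N98382 D201494) (tt N61429 F338647) (tt N74877 (iv7 F349963)))
theorem Q61384 : ∀ i, i < 61384 → P i := stepQ 61383 Q61383 (allL N61383 (tt N98316 (iv1 F420471)) (tt N98315 F420469) (tt N78381 F366604) (tt N62788 F366605) (tt N98383 D201495) (tt N32825 (iv5 D114635)) (tt N97954 (iv6 F418953)) (tt N74882 (iv7 F366603)))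
theorem Q61385 : ∀ i, i < 61385 → P i := stepQ 61384 Q61384 (allL N61384 (tt N61719 F338671) (tt N39086 F338672) (tt N70713 F338668) (tt N62789 F338669) (tt N61429 (iv4 F338667)) (tt N61436 (iv5 F178862)) (tt N32825 (iv6 D114636)) (tt N61428 F338670))
theorem Q61386 : ∀ i, i < 61386 → P i := stepQ 61385 Q61385 (allL N61385 (tt N32826 (iv1 D114638)) (tt N41407 F360659) (tt N78385 F360660) (tt N41778 F360661) (tt N98384 D201496) (tt N41777 F360662) (tt N98385 D201497) (tt N98324 (iv7 F420503)))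
theorem Q61387 : ∀ i, i < 61387 → P i := stepQ 61386 Q61386 (allL N61386 (tt N98386 D201498) (tt N38403 F353534) (tt N95019 (iv2 F406666)) (tt N98387 D201499) (tt N32826 (iv4 D114639)) (tt N40088 F349983) (tt N32830 F178737) (tt N95018 (iv7 F406660)))
theorem Q61388 : ∀ i, i < 61388 → P i := stepQ 61387 Q61387 (allL N61387 (tt N78385 F338609) (tt N98324 F420505) (tt N41407 F316468) (tt N98375 (iv3 F420684)) (tt N95018 (iv4 F406661)) (tt N32827 F178738) (tt N61361 F356871) (tt N32826 (iv7 D114640)))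
theorem Q61389 : ∀ i, i < 61389 → P i := stepQ 61388 Q61388 (allL N61388 (tt N98388 D201500) (tt N98389 D201501) (tt N42939 F178741) (tt N74895 (iv3 F229760)) (tt N89772 (iv4 F387507)) (tt N41864 F178742) (tt N32828 (iv6 D114642)) (tt N98390 D201502))
theorem Q61390 : ∀ i, i < 61390 → P i := stepQ 61389 Q61389 (allL N61389 (tt N98391 D201503) (tt N84790 (iv0 F376139)) (tt N74521 (iv2 F228238)) (tt N50931 F178744) (tt N76703 (iv4 F361005)) (tt N50928 F178745) (tt N32829 (iv6 D114644)) (tt N89485 (iv7 F386626)))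
theorem Q61391 : ∀ i, i < 61391 → P i := stepQ 61390 Q61390 (allL N61390 (tt N91284 (iv1 F392547)) (tt N32830 (iv0 D114645)) (tt N63472 (iv2 F187584)) (tt N53267 F365230) (tt N61654 F179179) (tt N98392 D201504) (tt N98393 D201505) (tt N63474 (iv7 F187590)))
theorem Q61392 : ∀ i, i < 61392 → P i := stepQ 61391 Q61391 (allL N61391 (tt N32830 (iv1 D114646)) (tt N91284 (iv0 F392548)) (tt N63474 (iv2 F187589)) (tt N53471 (iv3 F349167)) (tt N61164 F178746) (tt N98394 D201506) (tt N85934 (iv6 F374502)) (tt N63472 (iv7 F187585)))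
theorem Q61393 : ∀ i, i < 61393 → P i := stepQ 61392 Q61392 (allL N61392 (tt N53305 F335408) (tt N53276 (iv0 F335409)) (tt N53307 F335406) (tt N32830 (iv3 D114647)) (tt N98376 (iv4 F420687)) (tt N50140 (iv5 F335403)) (tt N98387 (iv6 F420732)) (tt N52716 F335407))
theorem Q61394 : ∀ i, i < 61394 → P i := stepQ 61393 Q61393 (allL N61393 (tt N53262 (iv1 F335343)) (tt N53467 F335368) (tt N55229 F335353) (tt N50140 F335402) (tt N55133 (iv4 F335367)) (tt N32830 (iv5 D114648)) (tt N53284 (iv6 F335404)) (tt N52713 (iv7 F335405)))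
theorem Q61395 : ∀ i, i < 61395 → P i := stepQ 61394 Q61394 (allL N61394 (tt N63474 (iv1 F187592)) (tt N63472 (iv0 F187586)) (tt N91284 (iv2 F392542)) (tt N52716 F352777) (tt N32831 F178747) (tt N52713 (iv5 F335350)) (tt N64818 (iv6 F356969)) (tt N32830 (iv7 D114649)))
theorem Q61396 : ∀ i, i < 61396 → P i := stepQ 61395 Q61395 (allL N61395 (tt N89751 (iv1 F387423)) (tt N98395 D201507) (tt N98256 (iv2 F420203)) (tt N95879 (iv3 F410068)) (tt N64818 F356873) (tt N61362 (iv5 F356875)) (tt N32831 (iv6 D114650)) (tt N61361 (iv7 F356872)))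
theorem Q61397 : ∀ i, i < 61397 → P i := stepQ 61396 Q61396 (allL N61396 (tt N78978 (iv1 F363830)) (tt N61738 F363829) (tt N43171 F178748) (tt N32834 F178749) (tt N76618 (iv4 F239557)) (tt N79026 (iv5 F251901)) (tt N32832 (iv6 D114651)) (tt N78977 (iv7 F342997)))
theorem Q61398 : ∀ i, i < 61398 → P i := stepQ 61397 Q61397 (allL N61397 (tt N51500 (iv1 F339777)) (tt N51488 F339773) (tt N32847 F178753) (tt N79026 (iv3 F251899)) (tt N48561 (iv4 F178755)) (tt N32834 (iv5 D114655)) (tt N42347 F178754) (tt N79004 (iv7 F343006)))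
theorem Q61399 : ∀ i, i < 61399 → P i := stepQ 61398 Q61398 (allL N61398 (tt N32857 (iv1 F178766)) (tt N32835 (iv0 D114657)) (tt N32855 F337867) (tt N41779 F337868) (tt N77168 (iv4 F338595)) (tt N98396 D201508) (tt N41777 F337869) (tt N32856 F337870))
theorem Q61400 : ∀ i, i < 61400 → P i := stepQ 61399 Q61399 (allL N61399 (tt N64177 F338594) (tt N64193 (iv0 F338599)) (tt N32851 F178762) (tt N75269 (iv3 F230945)) (tt N70496 (iv4 F334118)) (tt N32835 (iv5 D114659)) (tt N32849 F178763) (tt N67098 (iv7 F338607)))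
theorem Q61401 : ∀ i, i < 61401 → P i := stepQ 61400 Q61400 (allL N61400 (tt N32868 F178773) (tt N32838 (iv0 D114663)) (tt N32865 F317662) (tt N41965 (iv3 F319380)) (tt N56188 F178772) (tt N32865 F317649) (tt N75232 F317647) (tt N32866 F317663))
theorem Q61402 : ∀ i, i < 61402 → P i := stepQ 61401 Q61401 (allL N61401 (tt N75480 F338677) (tt N75475 (iv0 F338676)) (tt N32867 F178775) (tt N63062 F338649) (tt N70834 F338651) (tt N32838 (iv5 D114665)) (tt N47383 F178776) (tt N75479 (iv7 F338648)))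
theorem Q61403 : ∀ i, i < 61403 → P i := stepQ 61402 Q61402 (allL N61402 (tt N32866 (iv1 F178779)) (tt N32865 F178780) (tt N32868 F178777) (tt N62854 F317645) (tt N32840 F178778) (tt N75479 F317646) (tt N91559 F393647) (tt N32838 (iv7 D114666)))
theorem Q61404 : ∀ i, i < 61404 → P i := stepQ 61403 Q61403 (allL N61403 (tt N43176 F258997) (tt N33925 F258998) (tt N43175 F259174) (tt N32839 (iv3 D114667)) (tt N64248 (iv4 F336452)) (tt N98397 D201509) (tt N98398 D201510) (tt N32873 F178781))
theorem Q61405 : ∀ i, i < 61405 → P i := stepQ 61404 Q61404 (allL N61404 (tt N74804 (iv1 F338632)) (tt N74803 F339565) (tt N32871 F178784) (tt N98397 (iv3 F420779)) (tt N38962 F329474) (tt N32839 (iv5 D114669)) (tt N38961 F329475) (tt N32874 F178785))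
theorem Q61406 : ∀ i, i < 61406 → P i := stepQ 61405 Q61405 (allL N61405 (tt N62724 (iv1 F331606)) (tt N62723 (iv0 F331608)) (tt N32872 F178786) (tt N98398 (iv3 F420783)) (tt N62720 F331605) (tt N58925 F178787) (tt N32839 (iv6 D114670)) (tt N62717 (iv7 F331604)))
theorem Q61407 : ∀ i, i < 61407 → P i := stepQ 61406 Q61406 (allL N61406 (tt N51504 (iv1 F335781)) (tt N51492 (iv0 F333373)) (tt N85792 (iv2 F373959)) (tt N32848 F178793) (tt N64053 (iv4 F192398)) (tt N50041 (iv5 F333355)) (tt N67097 (iv6 F318183)) (tt N32842 (iv7 D114676)))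
theorem Q61408 : ∀ i, i < 61408 → P i := stepQ 61407 Q61407 (allL N61407 (tt N55177 F178796) (tt N64747 F198257) (tt N63921 (iv2 F191798)) (tt N32843 (iv3 D114677)) (tt N61044 F178795) (tt N76014 (iv5 F235687)) (tt N98399 D201511) (tt N63397 (iv7 F187312)))
theorem Q61409 : ∀ i, i < 61409 → P i := stepQ 61408 Q61408 (allL N61408 (tt N65394 F333624) (tt N74810 (iv0 F333620)) (tt N63391 (iv2 F187300)) (tt N98399 (iv3 F420786)) (tt N61043 F178797) (tt N72719 F333622) (tt N32843 (iv6 D114678)) (tt N72742 (iv7 F333641)))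
theorem Q61410 : ∀ i, i < 61410 → P i := stepQ 61409 Q61409 (allL N61409 (tt N76015 (iv1 F343399)) (tt N74501 F313479) (tt N47388 F312773) (tt N37527 F313480) (tt N47358 F334567) (tt N32845 (iv5 D114682)) (tt N37526 F313481) (tt N47385 F312775))
theorem Q61411 : ∀ i, i < 61411 → P i := stepQ 61410 Q61410 (allL N61410 (tt N79007 (iv1 F339762)) (tt N79006 F363719) (tt N74801 (iv2 F339760)) (tt N54833 (iv3 F339761)) (tt N53787 (iv4 F339758)) (tt N32846 (iv5 D114687)) (tt N54866 F339778) (tt N79005 F339759))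
theorem Q61412 : ∀ i, i < 61412 → P i := stepQ 61411 Q61411 (allL N61411 (tt N51488 (iv1 F339772)) (tt N51500 (iv0 F339771)) (tt N79004 F343007) (tt N50041 (iv3 F333354)) (tt N84101 (iv4 F368109)) (tt N32848 F178804) (tt N85791 (iv6 F373954)) (tt N32847 (iv7 D114696)))
theorem Q61413 : ∀ i, i < 61413 → P i := stepQ 61412 Q61412 (allL N61412 (tt N74825 (iv1 F310160)) (tt N63436 (iv0 F303492)) (tt N63088 (iv2 F185400)) (tt N32850 (iv3 D114697)) (tt N32852 F178805) (tt N36942 F307836) (tt N36943 F307837) (tt N75987 (iv7 F235212)))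
theorem Q61414 : ∀ i, i < 61414 → P i := stepQ 61413 Q61413 (allL N61413 (tt N70497 F338149) (tt N70478 F334120) (tt N70496 F334121) (tt N36943 F334122) (tt N32851 F178806) (tt N36941 F334123) (tt N32850 (iv6 D114698)) (tt N67837 F334124))
theorem Q61415 : ∀ i, i < 61415 → P i := stepQ 61414 Q61414 (allL N61414 (tt N67098 F338543) (tt N32851 (iv0 D114699)) (tt N64177 F338593) (tt N32900 F338603) (tt N46016 F338544) (tt N66759 (iv5 F338541)) (tt N98400 D201512) (tt N64193 F338604))
theorem Q61416 : ∀ i, i < 61416 → P i := stepQ 61415 Q61415 (allL N61415 (tt N32851 (iv1 D114700)) (tt N67098 F338606) (tt N64193 (iv2 F338605)) (tt N64171 F338553) (tt N46017 F338554) (tt N61353 (iv5 F178807)) (tt N98401 D201513) (tt N64177 F338588))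
theorem Q61417 : ∀ i, i < 61417 → P i := stepQ 61416 Q61416 (allL N61416 (tt N64193 (iv1 F338600)) (tt N64177 (iv0 F355077)) (tt N67098 (iv2 F355079)) (tt N32857 F178808) (tt N67837 (iv4 F337863)) (tt N32857 F178809) (tt N78977 (iv6 F342991)) (tt N32851 (iv7 D114701)))
theorem Q61418 : ∀ i, i < 61418 → P i := stepQ 61417 Q61417 (allL N61417 (tt N88440 F383063) (tt N57401 (iv0 F363826)) (tt N98396 (iv2 F420771)) (tt N32895 F325988) (tt N97363 (iv4 F416512)) (tt N32855 (iv5 D114711)) (tt N98402 D201514) (tt N64188 F325989))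
theorem Q61419 : ∀ i, i < 61419 → P i := stepQ 61418 Q61418 (allL N61418 (tt N98346 (iv1 F420585)) (tt N82335 F338611) (tt N41777 F360655) (tt N32896 F325990) (tt N73823 F349964) (tt N78385 F325991) (tt N32855 (iv6 D114712)) (tt N73822 (iv7 F349965)))
theorem Q61420 : ∀ i, i < 61420 → P i := stepQ 61419 Q61419 (allL N61419 (tt N57401 F363906) (tt N88440 (iv0 F383062)) (tt N64188 F338528) (tt N43052 F338529) (tt N97364 (iv4 F416519)) (tt N32856 (iv5 D114716)) (tt N43049 F338530) (tt N98396 (iv7 F420775)))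
theorem Q61421 : ∀ i, i < 61421 → P i := stepQ 61420 Q61420 (allL N61420 (tt N62717 (iv1 F363909)) (tt N32872 F363907) (tt N62724 (iv2 F363908)) (tt N92219 (iv3 F396320)) (tt N75230 F363910) (tt N98403 D201515) (tt N32856 (iv6 D114717)) (tt N62723 (iv7 F363911)))
theorem Q61422 : ∀ i, i < 61422 → P i := stepQ 61421 Q61421 (allL N61421 (tt N32864 F312732) (tt N47384 F312733) (tt N47382 (iv2 F314848)) (tt N35291 F312734) (tt N34722 F312735) (tt N32859 (iv5 D114721)) (tt N48133 F312736) (tt N35304 F312737))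
theorem Q61423 : ∀ i, i < 61423 → P i := stepQ 61422 Q61422 (allL N61422 (tt N47384 (iv1 F178846)) (tt N32864 (iv0 D114734)) (tt N35304 F309812) (tt N78309 F309813) (tt N45568 F309814) (tt N74426 (iv5 F335212)) (tt N45567 F309815) (tt N47382 F314406))
theorem Q61424 : ∀ i, i < 61424 → P i := stepQ 61423 Q61423 (allL N61423 (tt N98404 D201516) (tt N80494 F344378) (tt N47383 F178842) (tt N56141 F355219) (tt N88521 (iv4 F383381)) (tt N32864 (iv5 D114736)) (tt N32867 F178843) (tt N98405 D201517))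
theorem Q61425 : ∀ i, i < 61425 → P i := stepQ 61424 Q61424 (allL N61424 (tt N47382 (iv1 F178847)) (tt N35304 (iv0 F312020)) (tt N47384 F178844) (tt N56113 F309820) (tt N47360 F178845) (tt N98405 (iv5 F420824)) (tt N47738 F360996) (tt N32864 (iv7 D114737)))
theorem Q61426 : ∀ i, i < 61426 → P i := stepQ 61425 Q61425 (allL N61425 (tt N41654 F316447) (tt N34074 F317648) (tt N56188 F338683) (tt N98119 (iv3 F419535)) (tt N32865 (iv4 D114740)) (tt N70606 (iv5 F338686)) (tt N75240 F316448) (tt N74430 F316449))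
theorem Q61427 : ∀ i, i < 61427 → P i := stepQ 61426 Q61426 (allL N61426 (tt N34074 F317652) (tt N41654 F316450) (tt N74430 F316451) (tt N46063 F178851) (tt N32866 (iv4 D114745)) (tt N68205 F362420) (tt N41629 F316452) (tt N56188 (iv7 F362423)))
theorem Q61428 : ∀ i, i < 61428 → P i := stepQ 61427 Q61427 (allL N61427 (tt N75479 F317667) (tt N32867 (iv0 D114748)) (tt N75480 F317668) (tt N42178 F317669) (tt N70030 (iv4 F338679)) (tt N42172 F317670) (tt N79068 F317671) (tt N75475 F317672))
theorem Q61429 : ∀ i, i < 61429 → P i := stepQ 61428 Q61428 (allL N61428 (tt N39009 F338643) (tt N60899 F338644) (tt N70834 (iv2 F338652)) (tt N98406 D201518) (tt N32867 (iv4 D114750)) (tt N74803 (iv5 F338664)) (tt N88521 (iv6 F383383)) (tt N61384 (iv7 F338670)))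
theorem Q61430 : ∀ i, i < 61430 → P i := stepQ 61429 Q61429 (allL N61429 (tt N75475 F338674) (tt N75480 (iv0 F338673)) (tt N75479 F338645) (tt N74892 (iv3 F338646)) (tt N61384 F338667) (tt N32868 F178852) (tt N61382 (iv6 F338647)) (tt N32867 (iv7 D114751)))
theorem Q61431 : ∀ i, i < 61431 → P i := stepQ 61430 Q61430 (allL N61430 (tt N91560 (iv1 F393653)) (tt N91472 (iv0 F393272)) (tt N91559 (iv2 F393648)) (tt N55812 F178853) (tt N32875 F178854) (tt N98407 D201519) (tt N32868 (iv6 D114752)) (tt N32869 F178855))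
theorem Q61432 : ∀ i, i < 61432 → P i := stepQ 61431 Q61431 (allL N61431 (tt N91559 F393650) (tt N32869 (iv0 D114753)) (tt N91472 (iv2 F393267)) (tt N75004 (iv3 F357841)) (tt N98095 (iv4 F419439)) (tt N75502 (iv5 F357845)) (tt N74441 F357840) (tt N91560 (iv7 F393652)))
theorem Q61433 : ∀ i, i < 61433 → P i := stepQ 61432 Q61432 (allL N61432 (tt N98408 D201520) (tt N41542 F334441) (tt N95521 (iv2 F408464)) (tt N55811 F178856) (tt N72728 (iv4 F364628)) (tt N32869 (iv5 D114755)) (tt N87899 (iv6 F381020)) (tt N98407 (iv7 F420838)))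
theorem Q61434 : ∀ i, i < 61434 → P i := stepQ 61433 Q61433 (allL N61433 (tt N65207 (iv1 F199571)) (tt N32870 (iv0 D114756)) (tt N73786 (iv2 F320232)) (tt N32935 F206241) (tt N66954 F206237) (tt N70821 (iv5 F363734)) (tt N66953 (iv6 F206242)) (tt N73785 (iv7 F320230)))
theorem Q61435 : ∀ i, i < 61435 → P i := stepQ 61434 Q61434 (allL N61434 (tt N98409 D201521) (tt N85066 F371517) (tt N77244 (iv2 F242084)) (tt N32871 F178857) (tt N98410 D201522) (tt N32870 (iv5 D114758)) (tt N69383 F365417) (tt N73787 (iv7 F320234)))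
theorem Q61436 : ∀ i, i < 61436 → P i := stepQ 61435 Q61435 (allL N61435 (tt N80480 F355438) (tt N73139 F339810) (tt N75262 (iv2 F230915)) (tt N32872 F178858) (tt N62461 (iv4 F317990)) (tt N87570 (iv5 F379780)) (tt N32870 (iv6 D114759)) (tt N62459 (iv7 F318651)))
theorem Q61437 : ∀ i, i < 61437 → P i := stepQ 61436 Q61436 (allL N61436 (tt N32874 (iv1 F178863)) (tt N32871 (iv0 D114765)) (tt N74804 (iv2 F338662)) (tt N92225 F396356) (tt N97948 (iv4 F418924)) (tt N61384 F178862) (tt N69517 F363883) (tt N74803 (iv7 F338666)))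
theorem Q61438 : ∀ i, i < 61438 → P i := stepQ 61437 Q61437 (allL N61437 (tt N32871 (iv1 D114766)) (tt N32874 F178864) (tt N74803 F338663) (tt N32930 F338661) (tt N68844 (iv4 F338657)) (tt N70834 (iv5 F338655)) (tt N69357 F338658) (tt N74804 F338659))
theorem Q61439 : ∀ i, i < 61439 → P i := stepQ 61438 Q61438 (allL N61438 (tt N32872 (iv1 D114770)) (tt N62717 (iv0 F331602)) (tt N62723 (iv2 F331609)) (tt N32933 F331598) (tt N62825 F331599) (tt N98411 D201523) (tt N73822 F331600) (tt N62724 F331601))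
theorem Q61440 : ∀ i, i < 61440 → P i := stepQ 61439 Q61439 (allL N61439 (tt N58914 F178866) (tt N58926 F178867) (tt N58925 F178865) (tt N87570 (iv3 F379778)) (tt N98412 D201524) (tt N32872 (iv5 D114771)) (tt N69384 F365418) (tt N58924 F333592))
theorem Q61441 : ∀ i, i < 61441 → P i := stepQ 61440 Q61440 (allL N61440 (tt N32873 (iv1 D114774)) (tt N43175 (iv0 F259171)) (tt N43176 F259167) (tt N32921 F259168) (tt N77634 F352031) (tt N39006 F335975) (tt N43187 F259169) (tt N33925 F259170))
theorem Q61442 : ∀ i, i < 61442 → P i := stepQ 61441 Q61441 (allL N61441 (tt N33925 F258995) (tt N43176 F258996) (tt N32873 (iv2 D114775)) (tt N65207 F199570) (tt N74828 (iv4 F323416)) (tt N98413 D201525) (tt N73755 (iv6 F330342)) (tt N43175 F259173))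
theorem Q61443 : ∀ i, i < 61443 → P i := stepQ 61442 Q61442 (allL N61442 (tt N98414 D201526) (tt N98415 D201527) (tt N98413 (iv2 F420861)) (tt N32874 F178868) (tt N98416 D201528) (tt N32873 (iv5 D114777)) (tt N87515 (iv6 F379621)) (tt N98397 (iv7 F420780)))
theorem Q61444 : ∀ i, i < 61444 → P i := stepQ 61443 Q61443 (allL N61443 (tt N98348 (iv1 F420592)) (tt N98347 (iv0 F420591)) (tt N98350 (iv2 F420599)) (tt N32948 F178872) (tt N98417 D201529) (tt N32875 (iv5 D114788)) (tt N97969 (iv6 F419017)) (tt N32878 F178873))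
theorem Q61445 : ∀ i, i < 61445 → P i := stepQ 61444 Q61444 (allL N61444 (tt N66953 F206229) (tt N66908 (iv0 F206062)) (tt N66950 F206217) (tt N32876 (iv3 D114790)) (tt N64056 F192426) (tt N98418 D201530) (tt N81509 (iv6 F335142)) (tt N66951 (iv7 F206218)))
theorem Q61446 : ∀ i, i < 61446 → P i := stepQ 61445 Q61445 (allL N61445 (tt N72742 (iv1 F333638)) (tt N63391 (iv0 F333626)) (tt N65394 F315695) (tt N41354 F315696) (tt N32876 (iv4 D114791)) (tt N57679 (iv5 F315152)) (tt N41353 F315697) (tt N74810 F315698))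
theorem Q61447 : ∀ i, i < 61447 → P i := stepQ 61446 Q61446 (allL N61446 (tt N74481 F357846) (tt N98419 D201531) (tt N98344 (iv2 F420570)) (tt N98418 (iv3 F420873)) (tt N98420 D201532) (tt N32876 (iv5 D114792)) (tt N98421 D201533) (tt N98345 (iv7 F420576)))
theorem Q61448 : ∀ i, i < 61448 → P i := stepQ 61447 Q61447 (allL N61447 (tt N74799 F335143) (tt N62722 F335144) (tt N65393 F335145) (tt N81509 F335146) (tt N41353 F335147) (tt N68169 (iv5 F335150)) (tt N32876 (iv6 D114793)) (tt N74782 F335148))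
theorem Q61449 : ∀ i, i < 61449 → P i := stepQ 61448 Q61448 (allL N61448 (tt N33922 F339321) (tt N43187 F339322) (tt N43185 F339323) (tt N32877 (iv3 D114795)) (tt N75661 F339324) (tt N98422 D201534) (tt N98423 D201535) (tt N43184 F339325))
theorem Q61450 : ∀ i, i < 61450 → P i := stepQ 61449 Q61449 (allL N61449 (tt N63391 F333644) (tt N72742 F333645) (tt N74810 (iv2 F313875)) (tt N44378 F333646) (tt N32877 (iv4 D114796)) (tt N44377 F333647) (tt N82336 (iv6 F333650)) (tt N65394 F333648))
theorem Q61451 : ∀ i, i < 61451 → P i := stepQ 61450 Q61450 (allL N61450 (tt N98419 (iv1 F420876)) (tt N74481 (iv0 F349972)) (tt N98345 (iv2 F420574)) (tt N98422 (iv3 F420882)) (tt N98424 D201536) (tt N32877 (iv5 D114797)) (tt N98425 D201537) (tt N98344 (iv7 F420572)))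
theorem Q61452 : ∀ i, i < 61452 → P i := stepQ 61451 Q61451 (allL N61451 (tt N73822 (iv1 F349971)) (tt N41777 F360658) (tt N98346 (iv2 F420579)) (tt N98423 (iv3 F420885)) (tt N82336 F333652) (tt N98426 D201538) (tt N32877 (iv6 D114798)) (tt N82335 (iv7 F355396)))
theorem Q61453 : ∀ i, i < 61453 → P i := stepQ 61452 Q61452 (allL N61452 (tt N98350 (iv1 F420604)) (tt N32878 (iv0 D114799)) (tt N98347 F420588) (tt N85856 (iv3 F374232)) (tt N89791 (iv4 F387587)) (tt N92586 (iv5 F397504)) (tt N83246 F371370) (tt N98348 (iv7 F420593)))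
theorem Q61454 : ∀ i, i < 61454 → P i := stepQ 61453 Q61453 (allL N61453 (tt N32878 (iv1 D114800)) (tt N98350 F420603) (tt N98348 F420595) (tt N77646 (iv3 F363836)) (tt N98427 D201539) (tt N72743 (iv5 F334442)) (tt N98428 D201540) (tt N98347 F420590))
theorem Q61455 : ∀ i, i < 61455 → P i := stepQ 61454 Q61454 (allL N61454 (tt N86214 F375400) (tt N98429 D201541) (tt N98349 (iv2 F420597)) (tt N98430 D201542) (tt N32878 (iv4 D114801)) (tt N98431 D201543) (tt N32884 F178876) (tt N98417 (iv7 F420871)))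
theorem Q61456 : ∀ i, i < 61456 → P i := stepQ 61455 Q61455 (allL N61455 (tt N50292 F178878) (tt N84778 F370597) (tt N84776 F370585) (tt N32880 F178877) (tt N98432 D201544) (tt N32879 (iv5 D114802)) (tt N98433 D201545) (tt N84775 F370582))
theorem Q61457 : ∀ i, i < 61457 → P i := stepQ 61456 Q61456 (allL N61456 (tt N76580 (iv1 F239380)) (tt N76578 (iv0 F239374)) (tt N76694 F239733) (tt N98434 D201546) (tt N32880 (iv4 D114803)) (tt N98435 D201547) (tt N98436 D201548) (tt N76695 (iv7 F239736)))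
theorem Q61458 : ∀ i, i < 61458 → P i := stepQ 61457 Q61457 (allL N61457 (tt N98437 D201549) (tt N98438 D201550) (tt N95879 (iv2 F410067)) (tt N98433 (iv3 F420908)) (tt N98436 (iv4 F420916)) (tt N95871 (iv5 F410028)) (tt N32880 (iv6 D114804)) (tt N98439 D201551))
theorem Q61459 : ∀ i, i < 61459 → P i := stepQ 61458 Q61458 (allL N61458 (tt N86033 F374965) (tt N92797 (iv0 F398273)) (tt N85073 (iv2 F371531)) (tt N32882 (iv3 D114805)) (tt N98440 D201552) (tt N50091 F178879) (tt N98441 D201553) (tt N85074 (iv7 F371538)))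
theorem Q61460 : ∀ i, i < 61460 → P i := stepQ 61459 Q61459 (allL N61459 (tt N76577 (iv1 F239370)) (tt N63396 (iv0 F187308)) (tt N76680 F239714) (tt N98442 D201554) (tt N32882 (iv4 D114806)) (tt N98443 D201555) (tt N89740 F420935) (tt N76681 (iv7 F239717)))
theorem Q61461 : ∀ i, i < 61461 → P i := stepQ 61460 Q61460 (allL N61460 (tt N98444 D201556) (tt N98445 D201557) (tt N97975 (iv2 F419032)) (tt N98441 (iv3 F420929)) (tt N89740 (iv4 F420936)) (tt N68142 (iv5 F209192)) (tt N32882 (iv6 D114807)) (tt N98446 D201558))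
theorem Q61462 : ∀ i, i < 61462 → P i := stepQ 61461 Q61461 (allL N61461 (tt N63396 (iv1 F187309)) (tt N76577 (iv0 F239369)) (tt N76681 F239719) (tt N98447 D201559) (tt N32883 (iv4 D114808)) (tt N98448 D201560) (tt N89792 (iv6 F418400)) (tt N76680 F239715))
theorem Q61463 : ∀ i, i < 61463 → P i := stepQ 61462 Q61462 (allL N61462 (tt N98449 D201561) (tt N98450 D201562) (tt N97974 (iv2 F419030)) (tt N70644 F339339) (tt N89792 F418399) (tt N70643 (iv5 F339340)) (tt N32883 (iv6 D114809)) (tt N98451 D201563))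
theorem Q61464 : ∀ i, i < 61464 → P i := stepQ 61463 Q61463 (allL N61463 (tt N43357 (iv1 F178881)) (tt N32884 (iv0 D114810)) (tt N78297 (iv2 F247879)) (tt N64510 (iv3 F364654)) (tt N43276 F178880) (tt N81944 (iv5 F364655)) (tt N64489 F364652) (tt N97795 (iv7 F418334)))
theorem Q61465 : ∀ i, i < 61465 → P i := stepQ 61464 Q61464 (allL N61464 (tt N98452 D201564) (tt N98453 D201565) (tt N98454 D201566) (tt N32884 (iv3 D114811)) (tt N32972 F178882) (tt N98455 D201567) (tt N98430 (iv6 F420899)) (tt N97976 (iv7 F419037)))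
theorem Q61466 : ∀ i, i < 61466 → P i := stepQ 61465 Q61465 (allL N61465 (tt N43381 (iv1 F188646)) (tt N43292 F178884) (tt N98352 (iv2 F420606)) (tt N98455 (iv3 F420949)) (tt N43360 F178883) (tt N32884 (iv5 D114812)) (tt N98456 D201568) (tt N97977 (iv7 F419039)))
theorem Q61467 : ∀ i, i < 61467 → P i := stepQ 61466 Q61466 (allL N61466 (tt N64474 F197300) (tt N63852 F189845) (tt N60997 F178885) (tt N32885 (iv3 D114813)) (tt N64168 (iv4 F193432)) (tt N64662 (iv5 F198015)) (tt N98457 D201569) (tt N78884 (iv7 F251194)))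
theorem Q61468 : ∀ i, i < 61468 → P i := stepQ 61467 Q61467 (allL N61467 (tt N79917 F258930) (tt N98458 D201570) (tt N32890 F178886) (tt N98457 (iv3 F420955)) (tt N32886 F178887) (tt N98459 D201571) (tt N32885 (iv6 D114814)) (tt N81440 (iv7 F353787)))
theorem Q61469 : ∀ i, i < 61469 → P i := stepQ 61468 Q61468 (allL N61468 (tt N32894 (iv1 F178888)) (tt N32886 (iv0 D114815)) (tt N32891 F352404) (tt N73121 (iv3 F352407)) (tt N77462 F352405) (tt N98460 D201572) (tt N73119 F352409) (tt N32892 F352406))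
theorem Q61470 : ∀ i, i < 61470 → P i := stepQ 61469 Q61469 (allL N61469 (tt N32886 (iv1 D114816)) (tt N32894 F178889) (tt N32892 F352401) (tt N86482 (iv3 F376346)) (tt N66998 (iv4 F354100)) (tt N98461 D201573) (tt N86855 (iv6 F377454)) (tt N32891 F352402))
theorem Q61471 : ∀ i, i < 61471 → P i := stepQ 61470 Q61470 (allL N61470 (tt N47929 F334688) (tt N47925 F334689) (tt N75009 (iv2 F334691)) (tt N45429 F178894) (tt N60998 F178895) (tt N81994 F334690) (tt N32888 (iv6 D114819)) (tt N80881 F334693))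
theorem Q61472 : ∀ i, i < 61472 → P i := stepQ 61471 Q61471 (allL N61471 (tt N81440 F353783) (tt N32890 (iv0 D114821)) (tt N79917 (iv2 F353807)) (tt N41687 F353780) (tt N61061 F353777) (tt N81473 F353781) (tt N41686 F353782) (tt N98458 (iv7 F420959)))
theorem Q61473 : ∀ i, i < 61473 → P i := stepQ 61472 Q61472 (allL N61472 (tt N32890 (iv1 D114822)) (tt N81440 F353788) (tt N98458 (iv2 F420964)) (tt N80535 F353815) (tt N61062 (iv4 F353811)) (tt N81472 F353789) (tt N97362 (iv6 F416507)) (tt N79917 (iv7 F353813)))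
theorem Q61474 : ∀ i, i < 61474 → P i := stepQ 61473 Q61473 (allL N61473 (tt N98462 D201574) (tt N98463 D201575) (tt N98459 (iv2 F420965)) (tt N61008 F178898) (tt N71467 (iv4 F220082)) (tt N32890 (iv5 D114823)) (tt N80825 F337535) (tt N71465 F220081))
theorem Q61475 : ∀ i, i < 61475 → P i := stepQ 61474 Q61474 (allL N61474 (tt N98458 (iv1 F420958)) (tt N79917 (iv0 F258929)) (tt N81440 F353786) (tt N61009 F178899) (tt N32894 F178900) (tt N71465 (iv5 F220080)) (tt N50952 F178901) (tt N32890 (iv7 D114824)))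
theorem Q61476 : ∀ i, i < 61476 → P i := stepQ 61475 Q61475 (allL N61475 (tt N51498 F352419) (tt N32893 F352420) (tt N80483 F352408) (tt N32891 (iv3 D114826)) (tt N98090 (iv4 F419418)) (tt N98464 D201576) (tt N98465 D201577) (tt N86482 (iv7 F376350)))
theorem Q61477 : ∀ i, i < 61477 → P i := stepQ 61476 Q61476 (allL N61476 (tt N77463 (iv1 F352418)) (tt N77178 F352417) (tt N77462 (iv2 F352416)) (tt N64711 (iv3 F354960)) (tt N32891 (iv4 D114827)) (tt N98466 D201578) (tt N80333 F420375) (tt N66998 (iv7 F354101)))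
theorem Q61478 : ∀ i, i < 61478 → P i := stepQ 61477 Q61477 (allL N61477 (tt N81465 (iv1 F353803)) (tt N98467 D201579) (tt N98460 (iv2 F420970)) (tt N98464 (iv3 F420987)) (tt N98468 D201580) (tt N32891 (iv5 D114828)) (tt N84188 (iv6 F368460)) (tt N98461 (iv7 F420976)))
theorem Q61479 : ∀ i, i < 61479 → P i := stepQ 61478 Q61478 (allL N61478 (tt N98294 F420373) (tt N81437 (iv0 F353804)) (tt N73119 (iv2 F352410)) (tt N98465 (iv3 F420995)) (tt N80333 (iv4 F420374)) (tt N85108 (iv5 F371655)) (tt N32891 (iv6 D114829)) (tt N98307 (iv7 F420441)))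
theorem Q61480 : ∀ i, i < 61480 → P i := stepQ 61479 Q61479 (allL N61479 (tt N77178 F352373) (tt N77463 F352375) (tt N66998 (iv2 F354099)) (tt N79124 (iv3 F352374)) (tt N32892 (iv4 D114832)) (tt N98469 D201581) (tt N75251 (iv6 F366623)) (tt N77462 F352398))
theorem Q61481 : ∀ i, i < 61481 → P i := stepQ 61480 Q61480 (allL N61480 (tt N98467 (iv1 F421005)) (tt N81465 (iv0 F371492)) (tt N98461 (iv2 F420973)) (tt N46633 F318648) (tt N98470 D201582) (tt N32892 (iv5 D114833)) (tt N73962 (iv6 F355614)) (tt N98460 (iv7 F420972)))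
theorem Q61482 : ∀ i, i < 61482 → P i := stepQ 61481 Q61481 (allL N61481 (tt N92237 (iv1 F396409)) (tt N92235 (iv0 F396398)) (tt N86855 (iv2 F377451)) (tt N80480 (iv3 F366620)) (tt N75251 F366621) (tt N54883 F367181) (tt N32892 (iv6 D114834)) (tt N86853 F377443))
theorem Q61483 : ∀ i, i < 61483 → P i := stepQ 61482 Q61482 (allL N61482 (tt N32893 (iv1 D114836)) (tt N51498 F178905) (tt N86482 F376348) (tt N46495 F352422) (tt N98091 (iv4 F419424)) (tt N98471 D201583) (tt N98472 D201584) (tt N80483 F352421))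
theorem Q61484 : ∀ i, i < 61484 → P i := stepQ 61483 Q61483 (allL N61483 (tt N61054 (iv1 F353816)) (tt N61058 F353814) (tt N64660 (iv2 F197998)) (tt N49653 (iv3 F308360)) (tt N32893 (iv4 D114837)) (tt N89851 (iv5 F387719)) (tt N49652 (iv6 F308357)) (tt N64791 (iv7 F347684)))
theorem Q61485 : ∀ i, i < 61485 → P i := stepQ 61484 Q61484 (allL N61484 (tt N32898 (iv1 F178911)) (tt N32895 (iv0 D114844)) (tt N64184 F193528) (tt N98473 D201585) (tt N79932 (iv4 F259028)) (tt N45082 F178910) (tt N98474 D201586) (tt N64185 (iv7 F193531)))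
theorem Q61486 : ∀ i, i < 61486 → P i := stepQ 61485 Q61485 (allL N61485 (tt N32895 (iv1 D114845)) (tt N32898 F178912) (tt N64185 F193534) (tt N98467 F421006) (tt N79933 (iv4 F259031)) (tt N75701 (iv5 F233492)) (tt N42735 (iv6 F193535)) (tt N64184 F193529))
theorem Q61487 : ∀ i, i < 61487 → P i := stepQ 61486 Q61486 (allL N61486 (tt N87494 (iv1 F379548)) (tt N87489 F379539) (tt N64186 (iv2 F193536)) (tt N98475 D201587) (tt N32895 (iv4 D114846)) (tt N98132 (iv5 F419604)) (tt N93729 (iv6 F401702)) (tt N64189 (iv7 F193552)))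
theorem Q61488 : ∀ i, i < 61488 → P i := stepQ 61487 Q61487 (allL N61487 (tt N68117 F335537) (tt N84190 F368466) (tt N64187 (iv2 F193538)) (tt N98402 (iv3 F420803)) (tt N93729 (iv4 F401699)) (tt N78386 (iv5 F248600)) (tt N32895 (iv6 D114847)) (tt N98476 D201588))
theorem Q61489 : ∀ i, i < 61489 → P i := stepQ 61488 Q61488 (allL N61488 (tt N32896 (iv1 D114848)) (tt N41770 F325416) (tt N61529 (iv2 F178989)) (tt N81437 (iv3 F335161)) (tt N56344 F178914) (tt N61304 (iv5 F178915)) (tt N61521 (iv6 F178975)) (tt N32954 F178913))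
theorem Q61490 : ∀ i, i < 61490 → P i := stepQ 61489 Q61489 (allL N61489 (tt N41780 F314143) (tt N34353 (iv0 F314749)) (tt N41782 F314144) (tt N45137 F178916) (tt N32897 (iv4 D114852)) (tt N43126 F314145) (tt N41774 F314146) (tt N33644 (iv7 F316587)))
theorem Q61491 : ∀ i, i < 61491 → P i := stepQ 61490 Q61490 (allL N61490 (tt N78944 (iv1 F364430)) (tt N98477 D201589) (tt N43052 F335463) (tt N32898 F178917) (tt N84212 F368530) (tt N32897 (iv5 D114853)) (tt N43002 F325409) (tt N64183 (iv7 F193460)))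
theorem Q61492 : ∀ i, i < 61492 → P i := stepQ 61491 Q61491 (allL N61491 (tt N82577 F340675) (tt N92216 F396308) (tt N92219 (iv2 F396319)) (tt N32899 F178918) (tt N41774 F340676) (tt N55796 F340677) (tt N32897 (iv6 D114854)) (tt N41772 F340678))
theorem Q61493 : ∀ i, i < 61493 → P i := stepQ 61492 Q61492 (allL N61492 (tt N87489 F379538) (tt N87494 F379547) (tt N64189 (iv2 F193551)) (tt N84213 (iv3 F368532)) (tt N32898 (iv4 D114855)) (tt N98133 (iv5 F419613)) (tt N52569 F361668) (tt N64186 (iv7 F193537)))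
theorem Q61494 : ∀ i, i < 61494 → P i := stepQ 61493 Q61493 (allL N61493 (tt N80023 (iv1 F259545)) (tt N42730 (iv0 F178919)) (tt N64190 (iv2 F193553)) (tt N43002 F338510) (tt N52569 F338511) (tt N98478 D201590) (tt N32898 (iv6 D114856)) (tt N43053 F338512))
theorem Q61495 : ∀ i, i < 61495 → P i := stepQ 61494 Q61494 (allL N61494 (tt N34404 F178921) (tt N34401 F178920) (tt N64191 (iv2 F193555)) (tt N55796 F341604) (tt N56567 F341605) (tt N32899 (iv5 D114857)) (tt N98478 (iv6 F421061)) (tt N68816 (iv7 F341601)))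
theorem Q61496 : ∀ i, i < 61496 → P i := stepQ 61495 Q61495 (allL N61495 (tt N60960 F178927) (tt N42365 (iv0 F193465)) (tt N61245 F178923) (tt N66759 (iv3 F346177)) (tt N45145 F178925) (tt N32900 (iv5 D114859)) (tt N61252 F178928) (tt N55787 F178924))
theorem Q61497 : ∀ i, i < 61497 → P i := stepQ 61496 Q61496 (allL N61496 (tt N92569 F397416) (tt N98479 D201591) (tt N64192 (iv2 F193560)) (tt N98400 (iv3 F420789)) (tt N60755 (iv4 F354601)) (tt N78776 F250850) (tt N32900 (iv6 D114860)) (tt N98480 D201592))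
theorem Q61498 : ∀ i, i < 61498 → P i := stepQ 61497 Q61497 (allL N61497 (tt N97254 F416095) (tt N92224 (iv0 F396350)) (tt N64194 (iv2 F193563)) (tt N64182 (iv3 F366196)) (tt N98131 (iv4 F419600)) (tt N61244 F178930) (tt N32901 (iv6 D114862)) (tt N98481 D201593))
theorem Q61499 : ∀ i, i < 61499 → P i := stepQ 61498 Q61498 (allL N61498 (tt N79935 (iv1 F259034)) (tt N79946 (iv0 F259052)) (tt N52405 F178931) (tt N87257 (iv3 F378916)) (tt N51955 F178933) (tt N32902 (iv5 D114863)) (tt N52401 F178932) (tt N51954 (iv7 F178934)))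
theorem Q61500 : ∀ i, i < 61500 → P i := stepQ 61499 Q61499 (allL N61499 (tt N52404 (iv1 F178938)) (tt N52403 F178939) (tt N52406 F178935) (tt N87204 F378753) (tt N32903 F178936) (tt N51954 F178937) (tt N79038 (iv6 F251963)) (tt N32902 (iv7 D114864)))
theorem Q61501 : ∀ i, i < 61501 → P i := stepQ 61500 Q61500 (allL N61500 (tt N55806 (iv1 F178946)) (tt N34690 (iv0 F335469)) (tt N55807 F178941) (tt N34698 F178942) (tt N67055 (iv4 F317067)) (tt N34689 F178943) (tt N45125 F178944) (tt N32904 (iv7 D114867)))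
theorem Q61502 : ∀ i, i < 61502 → P i := stepQ 61501 Q61501 (allL N61501 (tt N32910 (iv1 F178955)) (tt N32906 (iv0 D114868)) (tt N32907 F332532) (tt N84246 (iv3 F368667)) (tt N74818 F332531) (tt N98482 D201594) (tt N98483 D201595) (tt N32908 F332533))
theorem Q61503 : ∀ i, i < 61503 → P i := stepQ 61502 Q61502 (allL N61502 (tt N32906 (iv1 D114869)) (tt N32910 F178948) (tt N32908 F359581) (tt N92796 F398266) (tt N56044 (iv4 F318007)) (tt N98484 D201596) (tt N56046 F359582) (tt N32907 F359583))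
theorem Q61504 : ∀ i, i < 61504 → P i := stepQ 61503 Q61503 (allL N61503 (tt N84814 F370716) (tt N98485 D201597) (tt N32909 F178949) (tt N61332 F178950) (tt N98486 D201598) (tt N32906 (iv5 D114870)) (tt N34008 F178951) (tt N74967 (iv7 F363436)))
theorem Q61505 : ∀ i, i < 61505 → P i := stepQ 61504 Q61504 (allL N61504 (tt N90780 (iv1 F390816)) (tt N34700 F339737) (tt N71833 (iv2 F357128)) (tt N32907 (iv3 D114873)) (tt N67134 F339726) (tt N98487 D201599) (tt N97915 (iv6 F418787)) (tt N92796 (iv7 F398264)))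
theorem Q61506 : ∀ i, i < 61506 → P i := stepQ 61505 Q61505 (allL N61505 (tt N98488 D201600) (tt N98489 D201601) (tt N98482 (iv2 F421076)) (tt N98487 (iv3 F421096)) (tt N98490 D201602) (tt N32907 (iv5 D114875)) (tt N98491 D201603) (tt N98484 (iv7 F421085)))
theorem Q61507 : ∀ i, i < 61507 → P i := stepQ 61506 Q61506 (allL N61506 (tt N62828 F335883) (tt N62826 (iv0 F355825)) (tt N98483 (iv2 F421078)) (tt N97915 (iv3 F418784)) (tt N66664 (iv4 F336869)) (tt N70730 (iv5 F355832)) (tt N32907 (iv6 D114876)) (tt N66661 (iv7 F359579)))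
theorem Q61508 : ∀ i, i < 61508 → P i := stepQ 61507 Q61507 (allL N61507 (tt N84249 (iv1 F368683)) (tt N84248 F368677) (tt N54462 F363410) (tt N32908 (iv3 D114878)) (tt N54448 (iv4 F363409)) (tt N98492 D201604) (tt N74923 F363411) (tt N84246 (iv7 F368666)))
theorem Q61509 : ∀ i, i < 61509 → P i := stepQ 61508 Q61508 (allL N61508 (tt N98489 (iv1 F421106)) (tt N98488 F421103) (tt N98484 (iv2 F421083)) (tt N98492 (iv3 F421108)) (tt N98493 D201605) (tt N32908 (iv5 D114880)) (tt N98494 D201606) (tt N98482 (iv7 F421077)))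
theorem Q61510 : ∀ i, i < 61510 → P i := stepQ 61509 Q61509 (allL N61509 (tt N74967 (iv1 F363439)) (tt N32909 (iv0 D114882)) (tt N84814 (iv2 F370714)) (tt N61232 F352669) (tt N98495 D201607) (tt N98496 D201608) (tt N84810 F370702) (tt N98485 (iv7 F421088)))
theorem Q61511 : ∀ i, i < 61511 → P i := stepQ 61510 Q61510 (allL N61510 (tt N32909 (iv1 D114883)) (tt N74967 F363438) (tt N98485 (iv2 F421091)) (tt N84818 (iv3 F370726)) (tt N95512 F421129) (tt N98497 D201609) (tt N85142 (iv6 F371727)) (tt N84814 F370718))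
theorem Q61512 : ∀ i, i < 61512 → P i := stepQ 61511 Q61511 (allL N61511 (tt N98498 D201610) (tt N98499 D201611) (tt N98486 (iv2 F421092)) (tt N98500 D201612) (tt N32909 (iv4 D114884)) (tt N72372 F363435) (tt N44955 F178960) (tt N72371 (iv7 F363434)))
theorem Q61513 : ∀ i, i < 61513 → P i := stepQ 61512 Q61512 (allL N61512 (tt N98485 (iv1 F421087)) (tt N84814 F370717) (tt N74967 F363437) (tt N32920 F178961) (tt N72371 F363432) (tt N32910 F178962) (tt N98501 D201613) (tt N32909 (iv7 D114885)))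
theorem Q61514 : ∀ i, i < 61514 → P i := stepQ 61513 Q61513 (allL N61513 (tt N61269 (iv1 F190360)) (tt N32911 (iv0 D114886)) (tt N61270 (iv2 F191127)) (tt N84248 F368680) (tt N98502 D201614) (tt N51009 (iv5 F364518)) (tt N55820 (iv6 F234966)) (tt N45029 F191126))
theorem Q61515 : ∀ i, i < 61515 → P i := stepQ 61514 Q61514 (allL N61514 (tt N61270 (iv1 F206231)) (tt N45029 (iv0 F206232)) (tt N32911 (iv2 D114888)) (tt N43024 (iv3 F335496)) (tt N47505 F335494) (tt N98503 D201615) (tt N47503 F335495) (tt N61269 (iv7 F190363)))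
theorem Q61516 : ∀ i, i < 61516 → P i := stepQ 61515 Q61515 (allL N61515 (tt N86145 (iv1 F420367)) (tt N98504 D201616) (tt N98503 (iv2 F421151)) (tt N32912 F178964) (tt N74587 F353306) (tt N32911 (iv5 D114890)) (tt N98505 D201617) (tt N61606 (iv7 F179119)))
theorem Q61517 : ∀ i, i < 61517 → P i := stepQ 61516 Q61516 (allL N61516 (tt N47025 F325731) (tt N47032 F325732) (tt N47503 F325733) (tt N32913 F178965) (tt N47005 F325734) (tt N37349 F325735) (tt N32911 (iv6 D114891)) (tt N47501 F325736))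
theorem Q61518 : ∀ i, i < 61518 → P i := stepQ 61517 Q61517 (allL N61517 (tt N32912 (iv1 D114892)) (tt N32915 F178966) (tt N61602 F179106) (tt N98489 (iv3 F421160)) (tt N98506 D201619) (tt N79895 (iv5 F258826)) (tt N61632 (iv6 F250852)) (tt N61601 F179102))
theorem Q61519 : ∀ i, i < 61519 → P i := stepQ 61518 Q61518 (allL N61518 (tt N98507 D201620) (tt N98508 D201621) (tt N61603 (iv2 F179107)) (tt N74590 (iv3 F353315)) (tt N32912 (iv4 D114893)) (tt N98024 (iv5 F419207)) (tt N98509 D201622) (tt N61608 (iv7 F179122)))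
theorem Q61520 : ∀ i, i < 61520 → P i := stepQ 61519 Q61519 (allL N61519 (tt N98510 D201623) (tt N98511 D201624) (tt N61604 (iv2 F179109)) (tt N98505 (iv3 F421155)) (tt N98509 (iv4 F421171)) (tt N75704 (iv5 F233502)) (tt N32912 (iv6 D114894)) (tt N98512 D201625))
theorem Q61521 : ∀ i, i < 61521 → P i := stepQ 61520 Q61520 (allL N61520 (tt N32913 (iv1 D114895)) (tt N45141 F178967) (tt N45143 F178971) (tt N62826 F331592) (tt N32933 F178969) (tt N78942 F251474) (tt N45134 (iv6 F178970)) (tt N45036 F178968))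
theorem Q61522 : ∀ i, i < 61522 → P i := stepQ 61521 Q61521 (allL N61521 (tt N45143 (iv1 F178976)) (tt N45036 F178977) (tt N45141 F178972) (tt N47501 F335160) (tt N46045 F178973) (tt N45083 F178974) (tt N61488 F178975) (tt N32913 (iv7 D114896)))
theorem Q61523 : ∀ i, i < 61523 → P i := stepQ 61522 Q61522 (allL N61522 (tt N32914 (iv1 D114898)) (tt N43024 F335497) (tt N43026 F335498) (tt N90780 (iv3 F390811)) (tt N83845 (iv4 F357208)) (tt N76186 F335499) (tt N43031 F335500) (tt N34002 F335501))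
theorem Q61524 : ∀ i, i < 61524 → P i := stepQ 61523 Q61523 (allL N61523 (tt N34002 (iv1 F343522)) (tt N43026 F343519) (tt N32914 (iv2 D114899)) (tt N61269 (iv3 F190362)) (tt N64389 (iv4 F357118)) (tt N98513 D201626) (tt N98514 D201627) (tt N43024 F335503))
theorem Q61525 : ∀ i, i < 61525 → P i := stepQ 61524 Q61524 (allL N61524 (tt N42968 F340893) (tt N64391 F340894) (tt N64389 F357117) (tt N56203 F178978) (tt N32914 (iv4 D114900)) (tt N98515 D201628) (tt N98516 D201629) (tt N61598 (iv7 F179095)))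
theorem Q61526 : ∀ i, i < 61526 → P i := stepQ 61525 Q61525 (allL N61525 (tt N74932 (iv1 F420513)) (tt N76393 (iv0 F401695)) (tt N98513 (iv2 F421177)) (tt N32915 F178979) (tt N98517 D201630) (tt N32914 (iv5 D114901)) (tt N98518 D201631) (tt N61599 (iv7 F179097)))
theorem Q61527 : ∀ i, i < 61527 → P i := stepQ 61526 Q61526 (allL N61526 (tt N98519 D201632) (tt N98520 D201633) (tt N98514 (iv2 F421181)) (tt N32916 F178980) (tt N98516 (iv4 F421186)) (tt N98321 (iv5 F420495)) (tt N32914 (iv6 D114902)) (tt N98521 D201634))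
theorem Q61528 : ∀ i, i < 61528 → P i := stepQ 61527 Q61527 (allL N61527 (tt N98508 (iv1 F421167)) (tt N98507 F421165) (tt N61608 (iv2 F179121)) (tt N98522 D201635) (tt N32915 (iv4 D114903)) (tt N98022 (iv5 F419200)) (tt N98523 D201636) (tt N61603 (iv7 F179108)))
theorem Q61529 : ∀ i, i < 61529 → P i := stepQ 61528 Q61528 (allL N61528 (tt N86088 F375080) (tt N61320 (iv0 F178981)) (tt N61609 (iv2 F179123)) (tt N98518 (iv3 F421187)) (tt N98523 (iv4 F421198)) (tt N98322 (iv5 F420497)) (tt N32915 (iv6 D114904)) (tt N98524 D201637))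
theorem Q61530 : ∀ i, i < 61530 → P i := stepQ 61529 Q61529 (allL N61529 (tt N34692 (iv1 F178992)) (tt N61309 F178993) (tt N61488 F178989) (tt N98521 (iv3 F421195)) (tt N56210 F178990) (tt N78378 (iv5 F248562)) (tt N45141 F178991) (tt N32916 (iv7 D114906)))
theorem Q61531 : ∀ i, i < 61531 → P i := stepQ 61530 Q61530 (allL N61530 (tt N92834 (iv1 F398435)) (tt N45012 (iv0 F179001)) (tt N61612 (iv2 F179129)) (tt N98525 D201638) (tt N32917 (iv4 D114907)) (tt N98020 (iv5 F419191)) (tt N51005 F178994) (tt N61613 (iv7 F179133)))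
theorem Q61532 : ∀ i, i < 61532 → P i := stepQ 61531 Q61531 (allL N61531 (tt N61252 (iv1 F179002)) (tt N55789 F179000) (tt N61250 F178995) (tt N51011 F178996) (tt N56170 F178999) (tt N32917 (iv5 D114908)) (tt N51006 F178997) (tt N45997 F178998))
theorem Q61533 : ∀ i, i < 61533 → P i := stepQ 61532 Q61532 (allL N61532 (tt N43025 F189732) (tt N76186 F237337) (tt N76185 (iv2 F238458)) (tt N32918 (iv3 D114909)) (tt N98526 D201639) (tt N63815 F189731) (tt N98527 D201640) (tt N61611 (iv7 F179128)))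
theorem Q61534 : ∀ i, i < 61534 → P i := stepQ 61533 Q61533 (allL N61533 (tt N45012 F179003) (tt N92834 F398434) (tt N61613 (iv2 F179132)) (tt N98528 D201641) (tt N32918 (iv4 D114910)) (tt N98017 (iv5 F419183)) (tt N98529 D201642) (tt N61612 (iv7 F179130)))
theorem Q61535 : ∀ i, i < 61535 → P i := stepQ 61534 Q61534 (allL N61534 (tt N92953 (iv1 F398901)) (tt N92270 F396530) (tt N61614 (iv2 F179135)) (tt N98527 (iv3 F421213)) (tt N98529 (iv4 F421220)) (tt N63817 (iv5 F189733)) (tt N32918 (iv6 D114911)) (tt N98530 D201643))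
theorem Q61536 : ∀ i, i < 61536 → P i := stepQ 61535 Q61535 (allL N61535 (tt N61597 (iv1 F179087)) (tt N32919 (iv0 D114912)) (tt N61615 F193513) (tt N98531 D201644) (tt N56320 F179004) (tt N93239 F400081) (tt N84848 (iv6 F370836)) (tt N61616 (iv7 F193512)))
theorem Q61537 : ∀ i, i < 61537 → P i := stepQ 61536 Q61536 (allL N61536 (tt N32919 (iv1 D114913)) (tt N61597 (iv0 F179086)) (tt N61616 (iv2 F193514)) (tt N98532 D201645) (tt N56321 F179005) (tt N98032 (iv5 F419239)) (tt N92269 (iv6 F396526)) (tt N61615 F193515))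
theorem Q61538 : ∀ i, i < 61538 → P i := stepQ 61537 Q61537 (allL N61537 (tt N98533 D201646) (tt N98534 D201647) (tt N98535 D201648) (tt N32919 (iv3 D114914)) (tt N98500 (iv4 F421137)) (tt N98536 D201649) (tt N44968 F179006) (tt N98537 D201650))
theorem Q61539 : ∀ i, i < 61539 → P i := stepQ 61538 Q61538 (allL N61538 (tt N98027 (iv1 F419219)) (tt N98026 F419218) (tt N61618 (iv2 F179141)) (tt N98536 (iv3 F421231)) (tt N92182 (iv4 F396132)) (tt N32919 (iv5 D114915)) (tt N98054 (iv6 F419297)) (tt N92181 F396130))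
theorem Q61540 : ∀ i, i < 61540 → P i := stepQ 61539 Q61539 (allL N61539 (tt N61616 (iv1 F179138)) (tt N61615 F179137) (tt N61597 (iv2 F179083)) (tt N98537 (iv3 F421232)) (tt N32920 F179007) (tt N92181 (iv5 F396128)) (tt N98538 D201651) (tt N32919 (iv7 D114916)))
theorem Q61541 : ∀ i, i < 61541 → P i := stepQ 61540 Q61540 (allL N61540 (tt N60975 (iv1 F179011)) (tt N60974 F179012) (tt N60969 F179008) (tt N98501 (iv3 F421139)) (tt N98538 (iv4 F421234)) (tt N55760 F179009) (tt N32920 (iv6 D114917)) (tt N44969 F179010))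
theorem Q61542 : ∀ i, i < 61542 → P i := stepQ 61541 Q61541 (allL N61541 (tt N49400 F309260) (tt N49399 F309261) (tt N49401 F309262) (tt N49615 F309263) (tt N32921 (iv4 D114920)) (tt N49386 F309264) (tt N76342 F259161) (tt N49385 F309265))
theorem Q61543 : ∀ i, i < 61543 → P i := stepQ 61542 Q61542 (allL N61542 (tt N76300 (iv1 F349029)) (tt N63259 F349049) (tt N32923 F179015) (tt N52864 (iv3 F366793)) (tt N32922 (iv4 D114928)) (tt N89795 (iv5 F387591)) (tt N96240 F411683) (tt N76299 (iv7 F336783)))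
theorem Q61544 : ∀ i, i < 61544 → P i := stepQ 61543 Q61543 (allL N61543 (tt N92246 (iv1 F396451)) (tt N85023 F371395) (tt N32924 F179016) (tt N85038 (iv3 F371435)) (tt N76304 (iv4 F349043)) (tt N32922 (iv5 D114929)) (tt N98539 D201652) (tt N76352 (iv7 F259188)))
theorem Q61545 : ∀ i, i < 61545 → P i := stepQ 61544 Q61544 (allL N61544 (tt N64182 F411695) (tt N98540 D201653) (tt N32925 F179017) (tt N92235 (iv3 F396396)) (tt N96240 (iv4 F411690)) (tt N78960 (iv5 F258988)) (tt N32922 (iv6 D114930)) (tt N98541 D201654))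
theorem Q61546 : ∀ i, i < 61546 → P i := stepQ 61545 Q61545 (allL N61545 (tt N76299 (iv1 F336780)) (tt N32923 (iv0 D114931)) (tt N76300 (iv2 F349047)) (tt N74808 F336785) (tt N63261 (iv4 F349042)) (tt N82844 (iv5 F336784)) (tt N76270 F349048) (tt N63259 F336786))
theorem Q61547 : ∀ i, i < 61547 → P i := stepQ 61546 Q61546 (allL N61546 (tt N98542 D201655) (tt N43480 (iv0 F206234)) (tt N98543 D201656) (tt N32923 (iv3 D114933)) (tt N32926 F179018) (tt N87821 F380669) (tt N90870 F391107) (tt N78851 (iv7 F251123)))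
theorem Q61548 : ∀ i, i < 61548 → P i := stepQ 61547 Q61547 (allL N61547 (tt N90946 (iv1 F391334)) (tt N54734 (iv0 F356346)) (tt N89795 (iv2 F387589)) (tt N87821 (iv3 F380664)) (tt N53352 (iv4 F356335)) (tt N32923 (iv5 D114934)) (tt N82751 F356334) (tt N53350 (iv7 F356336)))
theorem Q61549 : ∀ i, i < 61549 → P i := stepQ 61548 Q61548 (allL N61548 (tt N96241 (iv1 F411702)) (tt N38424 F377405) (tt N96240 F411681) (tt N90870 (iv3 F391108)) (tt N32925 F179019) (tt N98544 D201657) (tt N32923 (iv6 D114935)) (tt N96239 F411662))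
theorem Q61550 : ∀ i, i < 61550 → P i := stepQ 61549 Q61549 (allL N61549 (tt N76352 (iv1 F259189)) (tt N32924 (iv0 D114936)) (tt N92246 F396455) (tt N98415 F420867) (tt N61550 F357316) (tt N98545 D201658) (tt N98546 D201659) (tt N85023 F371396))
theorem Q61551 : ∀ i, i < 61551 → P i := stepQ 61550 Q61550 (allL N61550 (tt N32924 (iv1 D114937)) (tt N76352 F259190) (tt N85023 (iv2 F371392)) (tt N85054 (iv3 F371472)) (tt N61549 (iv4 F357316)) (tt N84196 (iv5 F368485)) (tt N62811 F368488) (tt N92246 (iv7 F396452)))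
theorem Q61552 : ∀ i, i < 61552 → P i := stepQ 61551 Q61551 (allL N61551 (tt N98547 D201660) (tt N98548 D201661) (tt N76304 (iv2 F357314)) (tt N56312 (iv3 F357315)) (tt N32924 (iv4 D114938)) (tt N56310 F357312) (tt N98549 D201662) (tt N76302 F357313))
theorem Q61553 : ∀ i, i < 61553 → P i := stepQ 61552 Q61552 (allL N61552 (tt N70671 F336809) (tt N98550 D201663) (tt N98539 (iv2 F421238)) (tt N32932 F179020) (tt N98549 (iv4 F421289)) (tt N94020 (iv5 F402843)) (tt N32924 (iv6 D114939)) (tt N98551 D201664))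
theorem Q61554 : ∀ i, i < 61554 → P i := stepQ 61553 Q61553 (allL N61553 (tt N98541 (iv1 F421249)) (tt N32925 (iv0 D114940)) (tt N64182 F377403) (tt N98401 (iv3 F420795)) (tt N77358 F377404) (tt N86845 F377400) (tt N64171 (iv6 F377402)) (tt N98540 (iv7 F421241)))
theorem Q61555 : ∀ i, i < 61555 → P i := stepQ 61554 Q61554 (allL N61554 (tt N32925 (iv1 D114941)) (tt N98541 F421248) (tt N98540 F421242) (tt N98481 (iv3 F421072)) (tt N98552 D201665) (tt N86844 (iv5 F420252)) (tt N98553 D201666) (tt N64182 F377406))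
theorem Q61556 : ∀ i, i < 61556 → P i := stepQ 61555 Q61555 (allL N61555 (tt N98540 (iv1 F421240)) (tt N64182 (iv0 F380089)) (tt N98541 (iv2 F421244)) (tt N32934 F179021) (tt N96239 (iv4 F411659)) (tt N58933 F179022) (tt N78985 (iv6 F258982)) (tt N32925 (iv7 D114942)))
theorem Q61557 : ∀ i, i < 61557 → P i := stepQ 61556 Q61556 (allL N61556 (tt N61045 (iv1 F355673)) (tt N32926 (iv0 D114943)) (tt N61047 (iv2 F355682)) (tt N63268 F340895) (tt N49668 F336778) (tt N84851 F370845) (tt N56324 (iv6 F356350)) (tt N55764 F355678))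
theorem Q61558 : ∀ i, i < 61558 → P i := stepQ 61557 Q61557 (allL N61557 (tt N61047 (iv1 F356464)) (tt N55764 (iv0 F356461)) (tt N32926 (iv2 D114945)) (tt N61000 (iv3 F339741)) (tt N98543 (iv4 F421260)) (tt N98554 D201667) (tt N68187 (iv6 F357122)) (tt N61045 (iv7 F355676)))
theorem Q61559 : ∀ i, i < 61559 → P i := stepQ 61558 Q61558 (allL N61558 (tt N98555 D201668) (tt N98556 D201669) (tt N98554 (iv2 F421312)) (tt N32927 F179023) (tt N98557 D201670) (tt N32926 (iv5 D114946)) (tt N98558 D201671) (tt N78852 (iv7 F251125)))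
theorem Q61560 : ∀ i, i < 61560 → P i := stepQ 61559 Q61559 (allL N61559 (tt N50784 (iv1 F355355)) (tt N74776 (iv0 F355276)) (tt N68187 F357123) (tt N32928 F179024) (tt N90870 (iv4 F391106)) (tt N68186 (iv5 F333215)) (tt N32926 (iv6 D114947)) (tt N84725 (iv7 F370364)))
theorem Q61561 : ∀ i, i < 61561 → P i := stepQ 61560 Q61560 (allL N61560 (tt N32927 (iv1 D114948)) (tt N32941 F179025) (tt N78848 F251111) (tt N98559 D201672) (tt N98560 D201673) (tt N78928 (iv5 F251400)) (tt N61666 (iv6 F251112)) (tt N78847 F251106))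
theorem Q61562 : ∀ i, i < 61562 → P i := stepQ 61561 Q61561 (allL N61561 (tt N98279 (iv1 F420301)) (tt N98506 (iv0 F421158)) (tt N78849 (iv2 F251113)) (tt N98561 D201674) (tt N32927 (iv4 D114949)) (tt N98027 F419221) (tt N98562 D201675) (tt N78854 (iv7 F251128)))
theorem Q61563 : ∀ i, i < 61563 → P i := stepQ 61562 Q61562 (allL N61562 (tt N97820 F418416) (tt N98563 D201676) (tt N78850 (iv2 F251115)) (tt N98558 (iv3 F421324)) (tt N98562 (iv4 F421341)) (tt N78899 (iv5 F251289)) (tt N32927 (iv6 D114950)) (tt N98564 D201677))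
theorem Q61564 : ∀ i, i < 61564 → P i := stepQ 61563 Q61563 (allL N61563 (tt N32928 (iv1 D114951)) (tt N61018 F179026) (tt N61020 F179030) (tt N73772 F348980) (tt N56333 F179028) (tt N70462 F358366) (tt N56342 (iv6 F179029)) (tt N55771 F179027))
theorem Q61565 : ∀ i, i < 61565 → P i := stepQ 61564 Q61564 (allL N61564 (tt N61020 (iv1 F179035)) (tt N55771 F179036) (tt N61018 F179031) (tt N84725 (iv3 F370362)) (tt N32934 F179032) (tt N60986 F179033) (tt N61071 F179034) (tt N32928 (iv7 D114952)))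
theorem Q61566 : ∀ i, i < 61566 → P i := stepQ 61565 Q61565 (allL N61565 (tt N92217 (iv1 F396311)) (tt N92215 (iv0 F396302)) (tt N92225 F396355) (tt N32929 (iv3 D114953)) (tt N98565 D201678) (tt N41725 F318943) (tt N98566 D201679) (tt N92226 (iv7 F396361)))
theorem Q61567 : ∀ i, i < 61567 → P i := stepQ 61566 Q61566 (allL N61566 (tt N56206 F179038) (tt N56199 F179040) (tt N92238 (iv2 F396412)) (tt N88749 (iv3 F384019)) (tt N32929 (iv4 D114954)) (tt N88746 F384035) (tt N98567 D201680) (tt N92240 (iv7 F396423)))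
theorem Q61568 : ∀ i, i < 61568 → P i := stepQ 61567 Q61567 (allL N61567 (tt N97936 (iv1 F418861)) (tt N97916 (iv0 F418793)) (tt N92239 (iv2 F396417)) (tt N98566 (iv3 F421347)) (tt N98567 (iv4 F421351)) (tt N60919 F179041) (tt N32929 (iv6 D114955)) (tt N92135 (iv7 F395903)))
theorem Q61569 : ∀ i, i < 61569 → P i := stepQ 61568 Q61568 (allL N61568 (tt N56199 F179042) (tt N56206 F179043) (tt N92240 (iv2 F396421)) (tt N68848 F363884) (tt N32930 (iv4 D114957)) (tt N92699 F397904) (tt N66628 F204757) (tt N92238 (iv7 F396414)))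
theorem Q61570 : ∀ i, i < 61570 → P i := stepQ 61569 Q61569 (allL N61569 (tt N42362 (iv1 F179048)) (tt N55756 (iv0 F179047)) (tt N60958 F179044) (tt N70834 (iv3 F339578)) (tt N79895 (iv4 F258823)) (tt N32930 (iv5 D114958)) (tt N51501 F179045) (tt N44611 F179046))
theorem Q61571 : ∀ i, i < 61571 → P i := stepQ 61570 Q61570 (allL N61570 (tt N32943 (iv1 F179050)) (tt N32931 (iv0 D114959)) (tt N92241 F396430) (tt N93039 (iv3 F399235)) (tt N56329 F179049) (tt N93038 (iv5 F399231)) (tt N98021 (iv6 F419195)) (tt N92242 (iv7 F396433)))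
theorem Q61572 : ∀ i, i < 61572 → P i := stepQ 61571 Q61571 (allL N61571 (tt N32931 (iv1 D114960)) (tt N32943 F179051) (tt N92242 F396435) (tt N98568 D201681) (tt N56330 F179052) (tt N98569 D201682) (tt N60832 (iv6 F179053)) (tt N92241 F396431))
theorem Q61573 : ∀ i, i < 61573 → P i := stepQ 61572 Q61572 (allL N61572 (tt N98570 D201683) (tt N98571 D201684) (tt N98572 D201685) (tt N32931 (iv3 D114961)) (tt N56312 F357317) (tt N77228 (iv5 F357318)) (tt N98573 D201686) (tt N92248 (iv7 F396462)))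
theorem Q61574 : ∀ i, i < 61574 → P i := stepQ 61573 Q61573 (allL N61573 (tt N92632 (iv1 F397697)) (tt N56272 F179054) (tt N92244 (iv2 F396441)) (tt N77228 F357319) (tt N98026 (iv4 F419217)) (tt N32931 (iv5 D114962)) (tt N67839 F362877) (tt N92249 (iv7 F396466)))
theorem Q61575 : ∀ i, i < 61575 → P i := stepQ 61574 Q61574 (allL N61574 (tt N56404 F342962) (tt N93098 F399490) (tt N67373 F342963) (tt N98573 (iv3 F421370)) (tt N32932 F179055) (tt N37993 F342964) (tt N32931 (iv6 D114963)) (tt N67370 F342965))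
theorem Q61576 : ∀ i, i < 61576 → P i := stepQ 61575 Q61575 (allL N61575 (tt N32932 (iv1 D114964)) (tt N74385 F227671) (tt N91085 (iv2 F391864)) (tt N69380 F391866) (tt N91112 (iv4 F391978)) (tt N56429 (iv5 F179056)) (tt N97920 (iv6 F418808)) (tt N92133 (iv7 F395898)))
theorem Q61577 : ∀ i, i < 61577 → P i := stepQ 61576 Q61576 (allL N61576 (tt N91085 (iv1 F391863)) (tt N92133 F395897) (tt N74385 (iv2 F227669)) (tt N98551 (iv3 F421297)) (tt N67370 F347543) (tt N94021 (iv5 F402845)) (tt N60053 F179057) (tt N32932 (iv7 D114965)))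
theorem Q61578 : ∀ i, i < 61578 → P i := stepQ 61577 Q61577 (allL N61577 (tt N34401 (iv1 F179060)) (tt N34404 (iv0 F179059)) (tt N68816 (iv2 F341598)) (tt N98411 (iv3 F420852)) (tt N68815 F341606) (tt N32933 (iv5 D114967)) (tt N56433 F179058) (tt N64191 (iv7 F193556)))
theorem Q61579 : ∀ i, i < 61579 → P i := stepQ 61578 Q61578 (allL N61578 (tt N50961 F364517) (tt N85039 F371440) (tt N32938 F179064) (tt N76352 (iv3 F259186)) (tt N98574 D201687) (tt N32936 (iv5 D114979)) (tt N97931 (iv6 F418844)) (tt N85038 (iv7 F371436)))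
theorem Q61580 : ∀ i, i < 61580 → P i := stepQ 61579 Q61579 (allL N61579 (tt N73780 F334782) (tt N49247 F334783) (tt N32939 F179065) (tt N76353 (iv3 F259144)) (tt N80895 F334784) (tt N98575 D201688) (tt N32936 (iv6 D114980)) (tt N81444 F334785))
theorem Q61581 : ∀ i, i < 61581 → P i := stepQ 61580 Q61580 (allL N61580 (tt N43182 F335509) (tt N44022 F335510) (tt N76551 F335515) (tt N32937 (iv3 D114983)) (tt N32940 F179066) (tt N80005 F335511) (tt N81446 F342075) (tt N76550 (iv7 F335508)))
theorem Q61582 : ∀ i, i < 61582 → P i := stepQ 61581 Q61581 (allL N61581 (tt N46419 F334792) (tt N47472 F334793) (tt N78604 F334794) (tt N80005 F334795) (tt N53950 F334796) (tt N32937 (iv5 D114984)) (tt N47271 F334797) (tt N47314 F334798))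
theorem Q61583 : ∀ i, i < 61583 → P i := stepQ 61582 Q61582 (allL N61582 (tt N32938 (iv1 D114987)) (tt N85038 F371437) (tt N85039 (iv2 F371438)) (tt N98409 F420848) (tt N98576 D201689) (tt N47476 F353840) (tt N85037 (iv6 F371432)) (tt N50961 (iv7 F353841)))
theorem Q61584 : ∀ i, i < 61584 → P i := stepQ 61583 Q61583 (allL N61583 (tt N85042 F371448) (tt N98577 D201690) (tt N98574 (iv2 F421374)) (tt N48796 F364807) (tt N32938 (iv4 D114988)) (tt N83487 F364808) (tt N48794 F364809) (tt N92236 (iv7 F396400)))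
theorem Q61585 : ∀ i, i < 61585 → P i := stepQ 61584 Q61584 (allL N61584 (tt N86583 F380119) (tt N85032 (iv0 F371429)) (tt N97931 F418845) (tt N32944 F179068) (tt N48794 F364805) (tt N98578 D201691) (tt N32938 (iv6 D114989)) (tt N74382 (iv7 F227664)))
theorem Q61586 : ∀ i, i < 61586 → P i := stepQ 61585 Q61585 (allL N61585 (tt N98579 D201692) (tt N98580 D201693) (tt N98575 (iv2 F421407)) (tt N32946 F179069) (tt N98581 D201694) (tt N32939 (iv5 D114992)) (tt N98578 (iv6 F421431)) (tt N98582 D201695))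
theorem Q61587 : ∀ i, i < 61587 → P i := stepQ 61586 Q61586 (allL N61586 (tt N49247 F334778) (tt N73780 F334779) (tt N81444 F334780) (tt N32947 F179070) (tt N80894 F334781) (tt N98582 (iv5 F421449)) (tt N92237 (iv6 F396407)) (tt N32939 (iv7 D114993)))
theorem Q61588 : ∀ i, i < 61588 → P i := stepQ 61587 Q61587 (allL N61587 (tt N98583 D201696) (tt N98150 (iv0 F419717)) (tt N76624 F364733) (tt N32941 F179071) (tt N98584 D201697) (tt N32940 (iv5 D114997)) (tt N98585 D201698) (tt N76623 (iv7 F333224)))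
theorem Q61589 : ∀ i, i < 61589 → P i := stepQ 61588 Q61588 (allL N61588 (tt N74937 (iv1 F353832)) (tt N62818 (iv0 F342077)) (tt N74936 F353823) (tt N32942 F179072) (tt N81446 (iv4 F342076)) (tt N98207 (iv5 F419989)) (tt N32940 (iv6 D114998)) (tt N68191 (iv7 F353826)))
theorem Q61590 : ∀ i, i < 61590 → P i := stepQ 61589 Q61589 (allL N61589 (tt N98506 (iv1 F421159)) (tt N98279 (iv0 F420300)) (tt N78854 (iv2 F251127)) (tt N98586 D201699) (tt N32941 (iv4 D114999)) (tt N98026 (iv5 F419216)) (tt N98587 D201700) (tt N78849 (iv7 F251114)))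
theorem Q61591 : ∀ i, i < 61591 → P i := stepQ 61590 Q61590 (allL N61590 (tt N83560 F356720) (tt N61206 (iv0 F179073)) (tt N78855 (iv2 F251129)) (tt N98585 (iv3 F421461)) (tt N98587 (iv4 F421467)) (tt N82919 (iv5 F365001)) (tt N32941 (iv6 D115000)) (tt N98588 D201701))
theorem Q61592 : ∀ i, i < 61592 → P i := stepQ 61591 Q61591 (allL N61591 (tt N86927 F377735) (tt N86929 (iv0 F377746)) (tt N86946 (iv2 F377801)) (tt N32943 (iv3 D115001)) (tt N48796 F364817) (tt N98589 D201702) (tt N46547 F364818) (tt N92243 (iv7 F396440)))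
theorem Q61593 : ∀ i, i < 61593 → P i := stepQ 61592 Q61592 (allL N61592 (tt N56272 F179074) (tt N92632 F397696) (tt N92249 (iv2 F396464)) (tt N98589 (iv3 F421472)) (tt N98027 (iv4 F419220)) (tt N32943 (iv5 D115002)) (tt N98590 D201703) (tt N92244 (iv7 F396443)))
theorem Q61594 : ∀ i, i < 61594 → P i := stepQ 61593 Q61593 (allL N61593 (tt N93987 F402720) (tt N60448 (iv0 F179076)) (tt N74380 (iv2 F227659)) (tt N46547 F364800) (tt N32944 F179075) (tt N52248 F364801) (tt N32943 (iv6 D115003)) (tt N74383 (iv7 F227665)))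
theorem Q61595 : ∀ i, i < 61595 → P i := stepQ 61594 Q61594 (allL N61594 (tt N97993 F419096) (tt N98591 D201704) (tt N74381 (iv2 F227661)) (tt N98578 (iv3 F421430)) (tt N98592 D201705) (tt N32944 (iv5 D115004)) (tt N32946 F179077) (tt N74384 (iv7 F227667)))
theorem Q61596 : ∀ i, i < 61596 → P i := stepQ 61595 Q61595 (allL N61595 (tt N92201 (iv1 F396222)) (tt N88241 (iv0 F382320)) (tt N73672 F340494) (tt N91094 (iv3 F391900)) (tt N32946 (iv4 D115006)) (tt N91402 (iv5 F392994)) (tt N98592 (iv6 F421482)) (tt N98155 (iv7 F419749)))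
theorem Q61597 : ∀ i, i < 61597 → P i := stepQ 61596 Q61596 (allL N61596 (tt N55786 (iv1 F179080)) (tt N55788 F179081) (tt N61242 F179078) (tt N98582 (iv3 F421448)) (tt N98155 (iv4 F419751)) (tt N32947 F179079) (tt N38290 (iv6 F179082)) (tt N32946 (iv7 D115007)))
theorem Q61598 : ∀ i, i < 61598 → P i := stepQ 61597 Q61597 (allL N61597 (tt N61536 F179086) (tt N61535 F179087) (tt N61539 F179083) (tt N98593 D201706) (tt N32948 (iv4 D115008)) (tt N60948 F179085) (tt N98037 (iv6 F419261)) (tt N32957 F179084))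
theorem Q61599 : ∀ i, i < 61599 → P i := stepQ 61598 Q61598 (allL N61598 (tt N76270 F356465) (tt N34859 F356466) (tt N76268 F357120) (tt N56326 F179094) (tt N32949 (iv4 D115012)) (tt N98594 D201707) (tt N98595 D201708) (tt N61524 F179095))
theorem Q61600 : ∀ i, i < 61600 → P i := stepQ 61599 Q61599 (allL N61599 (tt N98596 D201709) (tt N98326 (iv0 F420512)) (tt N76343 (iv2 F364427)) (tt N32950 F179096) (tt N98597 D201710) (tt N32949 (iv5 D115013)) (tt N98597 (iv6 F421528)) (tt N61525 F179097))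
theorem Q61601 : ∀ i, i < 61601 → P i := stepQ 61600 Q61600 (allL N61600 (tt N61736 F364734) (tt N78993 F364735) (tt N76344 F335491) (tt N32951 F179098) (tt N98595 (iv4 F421494)) (tt N78947 (iv5 F251498)) (tt N32949 (iv6 D115014)) (tt N78992 (iv7 F347570)))
theorem Q61602 : ∀ i, i < 61602 → P i := stepQ 61601 Q61601 (allL N61601 (tt N32953 (iv1 F179100)) (tt N32950 (iv0 D115015)) (tt N61251 (iv2 F179101)) (tt N98598 D201712) (tt N98599 D201713) (tt N55789 F179099) (tt N98600 D201714) (tt N61517 (iv7 F179102)))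
theorem Q61603 : ∀ i, i < 61603 → P i := stepQ 61602 Q61602 (allL N61602 (tt N32950 (iv1 D115016)) (tt N32953 F179103) (tt N61517 (iv2 F179106)) (tt N98419 F420879) (tt N98601 D201715) (tt N61252 F179105) (tt N78776 F250849) (tt N61251 F179104))
theorem Q61604 : ∀ i, i < 61604 → P i := stepQ 61603 Q61603 (allL N61603 (tt N98161 (iv1 F419779)) (tt N98560 (iv0 F421337)) (tt N61518 F179107) (tt N98602 D201716) (tt N32950 (iv4 D115017)) (tt N98603 D201717) (tt N98602 F421525) (tt N61527 F179108))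
theorem Q61605 : ∀ i, i < 61605 → P i := stepQ 61604 Q61604 (allL N61604 (tt N98604 D201718) (tt N98605 D201719) (tt N61519 F179109) (tt N98597 (iv3 F421527)) (tt N98602 F421524) (tt N78948 (iv5 F251501)) (tt N32950 (iv6 D115018)) (tt N98606 D201720))
theorem Q61606 : ∀ i, i < 61606 → P i := stepQ 61605 Q61605 (allL N61605 (tt N75009 (iv1 F334722)) (tt N80881 F334723) (tt N47925 F334718) (tt N56337 F179116) (tt N32952 (iv4 D115022)) (tt N47923 F334719) (tt N45197 F334721) (tt N47929 F334720))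
theorem Q61607 : ∀ i, i < 61607 → P i := stepQ 61606 Q61606 (allL N61606 (tt N98607 D201721) (tt N98608 D201722) (tt N98293 (iv2 F420364)) (tt N32953 F179118) (tt N98609 D201723) (tt N32952 (iv5 D115023)) (tt N51050 (iv6 F371577)) (tt N61515 F179119))
theorem Q61608 : ∀ i, i < 61608 → P i := stepQ 61607 Q61607 (allL N61607 (tt N98307 (iv1 F420443)) (tt N73119 F353829) (tt N98294 (iv2 F420368)) (tt N32954 F179120) (tt N45197 F353830) (tt N85147 (iv5 F371745)) (tt N32952 (iv6 D115024)) (tt N81437 (iv7 F353831)))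
theorem Q61609 : ∀ i, i < 61609 → P i := stepQ 61608 Q61608 (allL N61608 (tt N98560 (iv1 F421338)) (tt N98161 (iv0 F419778)) (tt N61527 F179121) (tt N97569 (iv3 F417407)) (tt N32953 (iv4 D115025)) (tt N97568 (iv5 F417405)) (tt N98610 D201724) (tt N61518 F179122))
theorem Q61610 : ∀ i, i < 61610 → P i := stepQ 61609 Q61609 (allL N61609 (tt N98341 F420556) (tt N78390 (iv0 F248615)) (tt N61528 F179123) (tt N51050 F371578) (tt N98610 (iv4 F421569)) (tt N98611 D201725) (tt N32953 (iv6 D115026)) (tt N98339 (iv7 F420549)))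
theorem Q61611 : ∀ i, i < 61611 → P i := stepQ 61610 Q61610 (allL N61610 (tt N44610 F179126) (tt N44607 F179127) (tt N61303 F179124) (tt N85147 F371746) (tt N40699 F327105) (tt N32954 (iv5 D115027)) (tt N98611 (iv6 F421573)) (tt N61304 F179125))
theorem Q61612 : ∀ i, i < 61612 → P i := stepQ 61611 Q61611 (allL N61611 (tt N76347 F238460) (tt N42911 F238461) (tt N76345 F238394) (tt N32955 (iv3 D115028)) (tt N76349 F360959) (tt N76392 (iv5 F238512)) (tt N76282 (iv6 F360958)) (tt N61532 F179128))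
theorem Q61613 : ∀ i, i < 61613 → P i := stepQ 61612 Q61612 (allL N61612 (tt N78861 (iv1 F251158)) (tt N56322 F179131) (tt N61530 F179129) (tt N78786 (iv3 F360961)) (tt N32955 (iv4 D115029)) (tt N71085 (iv5 F360965)) (tt N78785 F360962) (tt N61533 F179130))
theorem Q61614 : ∀ i, i < 61614 → P i := stepQ 61613 Q61613 (allL N61613 (tt N56322 F179134) (tt N78861 F251157) (tt N61533 F179132) (tt N98612 D201726) (tt N32956 (iv4 D115030)) (tt N98613 D201727) (tt N98614 D201728) (tt N61530 F179133))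
theorem Q61615 : ∀ i, i < 61615 → P i := stepQ 61614 Q61614 (allL N61614 (tt N93115 F399550) (tt N93117 F399568) (tt N61534 F179135) (tt N85870 (iv3 F374275)) (tt N98614 (iv4 F421582)) (tt N79894 (iv5 F258819)) (tt N32956 (iv6 D115031)) (tt N85865 (iv7 F374264)))
theorem Q61616 : ∀ i, i < 61616 → P i := stepQ 61615 Q61615 (allL N61615 (tt N61539 (iv1 F179137)) (tt N32957 (iv0 D115032)) (tt N61535 (iv2 F193513)) (tt N98615 D201729) (tt N45010 F179136) (tt N98616 D201730) (tt N98617 D201731) (tt N61536 (iv7 F193515)))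
theorem Q61617 : ∀ i, i < 61617 → P i := stepQ 61616 Q61616 (allL N61616 (tt N32957 (iv1 D115033)) (tt N61539 F179138) (tt N61536 F193514) (tt N98618 D201732) (tt N45011 F179139) (tt N98619 D201733) (tt N98620 D201734) (tt N61535 F193512))
theorem Q61618 : ∀ i, i < 61618 → P i := stepQ 61617 Q61617 (allL N61617 (tt N98621 D201735) (tt N71073 (iv0 F421856)) (tt N98622 D201737) (tt N32957 (iv3 D115034)) (tt N98430 (iv4 F420898)) (tt N98623 D201738) (tt N32972 F179140) (tt N98593 (iv7 F421484)))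
theorem Q61619 : ∀ i, i < 61619 → P i := stepQ 61618 Q61618 (allL N61618 (tt N98624 D201739) (tt N98625 D201740) (tt N61538 F179141) (tt N98623 (iv3 F421625)) (tt N60949 F179143) (tt N32957 (iv5 D115035)) (tt N98626 D201741) (tt N60948 F179142))
theorem Q61620 : ∀ i, i < 61620 → P i := stepQ 61619 Q61619 (allL N61619 (tt N32980 F179146) (tt N32975 F179147) (tt N45162 F179144) (tt N98627 D201742) (tt N32958 (iv4 D115036)) (tt N45162 F179145) (tt N85049 (iv6 F371460)) (tt N67118 (iv7 F206682)))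
theorem Q61621 : ∀ i, i < 61621 → P i := stepQ 61620 Q61620 (allL N61620 (tt N32975 F179149) (tt N32980 F179150) (tt N67118 F206680) (tt N98628 D201743) (tt N32959 (iv4 D115037)) (tt N67118 (iv5 F206678)) (tt N98340 (iv6 F420552)) (tt N45162 F179148))
theorem Q61622 : ∀ i, i < 61622 → P i := stepQ 61621 Q61621 (allL N61621 (tt N32960 (iv1 D115038)) (tt N32963 F179151) (tt N61205 (iv2 F179155)) (tt N98629 D201744) (tt N36665 F179154) (tt N61205 F179153) (tt N98630 D201745) (tt N45177 F179152))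
theorem Q61623 : ∀ i, i < 61623 → P i := stepQ 61622 Q61622 (allL N61622 (tt N85939 (iv1 F374524)) (tt N98631 D201746) (tt N51025 F365411) (tt N32960 (iv3 D115039)) (tt N51024 (iv4 F365410)) (tt N61640 (iv5 F179168)) (tt N98632 D201747) (tt N78773 (iv7 F250845)))
theorem Q61624 : ∀ i, i < 61624 → P i := stepQ 61623 Q61623 (allL N61623 (tt N97924 F421586) (tt N98633 D201748) (tt N78769 (iv2 F250836)) (tt N98632 (iv3 F421659)) (tt N32961 F179156) (tt N98634 D201749) (tt N32960 (iv6 D115040)) (tt N98635 D201750))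
theorem Q61625 : ∀ i, i < 61625 → P i := stepQ 61624 Q61624 (allL N61624 (tt N78772 (iv1 F250844)) (tt N32961 (iv0 D115041)) (tt N78770 (iv2 F398914)) (tt N98636 D201751) (tt N98637 D201752) (tt N98638 D201753) (tt N98604 F421539) (tt N78771 F398915))
theorem Q61626 : ∀ i, i < 61626 → P i := stepQ 61625 Q61625 (allL N61625 (tt N32961 (iv1 D115042)) (tt N78772 F250843) (tt N78771 F398913) (tt N98438 (iv3 F420918)) (tt N68871 F398911) (tt N92960 (iv5 F398927)) (tt N98041 F419277) (tt N78770 (iv7 F398912)))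
theorem Q61627 : ∀ i, i < 61627 → P i := stepQ 61626 Q61626 (allL N61626 (tt N78771 (iv1 F250838)) (tt N78770 F250842) (tt N78772 (iv2 F250839)) (tt N77674 (iv3 F244597)) (tt N98635 (iv4 F421669)) (tt N56426 F179157) (tt N78777 (iv6 F250854)) (tt N32961 (iv7 D115043)))
theorem Q61628 : ∀ i, i < 61628 → P i := stepQ 61627 Q61627 (allL N61627 (tt N61162 F179160) (tt N61165 F179161) (tt N50975 F179158) (tt N98639 D201754) (tt N32962 (iv4 D115044)) (tt N98640 D201755) (tt N96421 F412453) (tt N50977 F179159))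
theorem Q61629 : ∀ i, i < 61629 → P i := stepQ 61628 Q61628 (allL N61628 (tt N98305 (iv1 F421704)) (tt N98641 D201757) (tt N50976 F179162) (tt N32964 F179163) (tt N96421 (iv4 F412454)) (tt N76032 (iv5 F235979)) (tt N32962 (iv6 D115045)) (tt N98642 D201758))
theorem Q61630 : ∀ i, i < 61630 → P i := stepQ 61629 Q61629 (allL N61629 (tt N90102 F388566) (tt N98643 D201759) (tt N98644 D201760) (tt N32963 (iv3 D115046)) (tt N98639 (iv4 F421686)) (tt N61635 (iv5 F179166)) (tt N96392 (iv6 F421740)) (tt N78768 (iv7 F250835)))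
theorem Q61631 : ∀ i, i < 61631 → P i := stepQ 61630 Q61630 (allL N61630 (tt N98645 D201762) (tt N98646 D201763) (tt N78774 (iv2 F250846)) (tt N96392 (iv3 F421739)) (tt N32964 F179164) (tt N97681 (iv5 F417889)) (tt N32963 (iv6 D115047)) (tt N98647 D201764))
theorem Q61632 : ∀ i, i < 61632 → P i := stepQ 61631 Q61631 (allL N61631 (tt N78777 (iv1 F250860)) (tt N32964 (iv0 D115048)) (tt N78775 (iv2 F250858)) (tt N98372 F420679) (tt N98648 D201765) (tt N98480 (iv5 F421070)) (tt N98649 D201766) (tt N78776 F250859))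
theorem Q61633 : ∀ i, i < 61633 → P i := stepQ 61632 Q61632 (allL N61632 (tt N32964 (iv1 D115049)) (tt N78777 F250856) (tt N78776 (iv2 F250851)) (tt N63309 (iv3 F421193)) (tt N98650 D201767) (tt N64192 (iv5 F193561)) (tt N61517 F250852) (tt N78775 (iv7 F250857)))
theorem Q61634 : ∀ i, i < 61634 → P i := stepQ 61633 Q61633 (allL N61633 (tt N78776 (iv1 F250848)) (tt N78775 F250855) (tt N78777 (iv2 F250853)) (tt N98642 (iv3 F421706)) (tt N98647 (iv4 F421723)) (tt N76034 (iv5 F235981)) (tt N78772 (iv6 F250841)) (tt N32964 (iv7 D115050)))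
theorem Q61635 : ∀ i, i < 61635 → P i := stepQ 61634 Q61634 (allL N61634 (tt N98651 D201768) (tt N98652 D201769) (tt N76348 (iv2 F238403)) (tt N32967 F179165) (tt N86063 (iv4 F375042)) (tt N68131 (iv5 F209177)) (tt N32965 (iv6 D115052)) (tt N98653 D201770))
theorem Q61636 : ∀ i, i < 61636 → P i := stepQ 61635 Q61635 (allL N61635 (tt N85287 F372184) (tt N85289 (iv0 F372185)) (tt N85864 (iv2 F374260)) (tt N32966 (iv3 D115053)) (tt N79028 (iv4 F360966)) (tt N61629 F179166) (tt N98654 D201771) (tt N78785 (iv7 F250878)))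
theorem Q61637 : ∀ i, i < 61637 → P i := stepQ 61636 Q61636 (allL N61636 (tt N98655 D201772) (tt N98656 D201773) (tt N78781 (iv2 F250868)) (tt N98654 (iv3 F421749)) (tt N32967 F179167) (tt N98657 D201774) (tt N32966 (iv6 D115054)) (tt N98658 D201775))
theorem Q61638 : ∀ i, i < 61638 → P i := stepQ 61637 Q61637 (allL N61637 (tt N78784 (iv1 F250876)) (tt N32967 (iv0 D115055)) (tt N78782 (iv2 F399564)) (tt N98659 D201776) (tt N98660 D201777) (tt N98661 D201778) (tt N93117 F399563) (tt N78783 (iv7 F399566)))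
theorem Q61639 : ∀ i, i < 61639 → P i := stepQ 61638 Q61638 (allL N61638 (tt N32967 (iv1 D115056)) (tt N78784 F250875) (tt N78783 F399567) (tt N98445 (iv3 F421784)) (tt N98662 D201780) (tt N98663 D201781) (tt N98664 D201782) (tt N78782 F399565))
theorem Q61640 : ∀ i, i < 61640 → P i := stepQ 61639 Q61639 (allL N61639 (tt N78783 (iv1 F250870)) (tt N78782 F250874) (tt N78784 (iv2 F250871)) (tt N98653 (iv3 F421746)) (tt N98658 (iv4 F421761)) (tt N68134 (iv5 F209181)) (tt N78789 (iv6 F250884)) (tt N32967 (iv7 D115057)))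
theorem Q61641 : ∀ i, i < 61641 → P i := stepQ 61640 Q61640 (allL N61640 (tt N98665 D201783) (tt N98666 D201784) (tt N86098 (iv2 F375119)) (tt N32968 (iv3 D115058)) (tt N86044 (iv4 F374989)) (tt N61622 F179168) (tt N98667 D201785) (tt N78780 (iv7 F250867)))
theorem Q61642 : ∀ i, i < 61642 → P i := stepQ 61641 Q61641 (allL N61641 (tt N98668 D201786) (tt N98669 D201787) (tt N78786 (iv2 F250879)) (tt N98667 (iv3 F421798)) (tt N32969 F179169) (tt N98670 D201788) (tt N32968 (iv6 D115059)) (tt N98671 D201789))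
theorem Q61643 : ∀ i, i < 61643 → P i := stepQ 61642 Q61642 (allL N61642 (tt N78789 (iv1 F250887)) (tt N32969 (iv0 D115060)) (tt N78787 F375203) (tt N98449 (iv3 F431379)) (tt N98672 D201791) (tt N98673 D201792) (tt N98674 D201793) (tt N78788 F375201))
theorem Q61644 : ∀ i, i < 61644 → P i := stepQ 61643 Q61643 (allL N61643 (tt N32969 (iv1 D115061)) (tt N78789 F250886) (tt N78788 (iv2 F375200)) (tt N97985 (iv3 F419066)) (tt N98675 D201794) (tt N98676 D201795) (tt N85863 F375199) (tt N78787 (iv7 F375202)))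
theorem Q61645 : ∀ i, i < 61645 → P i := stepQ 61644 Q61644 (allL N61644 (tt N78788 (iv1 F250881)) (tt N78787 F250885) (tt N78789 (iv2 F250882)) (tt N86048 (iv3 F375003)) (tt N98671 (iv4 F421807)) (tt N78916 (iv5 F251346)) (tt N78784 (iv6 F250873)) (tt N32969 (iv7 D115062)))
theorem Q61646 : ∀ i, i < 61646 → P i := stepQ 61645 Q61645 (allL N61645 (tt N90033 (iv1 F388358)) (tt N90035 (iv0 F388366)) (tt N69809 (iv2 F343922)) (tt N32970 (iv3 D115063)) (tt N70881 F343920) (tt N61664 (iv5 F179200)) (tt N55846 (iv6 F343924)) (tt N78792 (iv7 F250892)))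
theorem Q61647 : ∀ i, i < 61647 → P i := stepQ 61646 Q61646 (allL N61646 (tt N98660 F421774) (tt N98662 F421783) (tt N78791 (iv2 F250890)) (tt N55846 F343925) (tt N45014 F179170) (tt N61669 (iv5 F343927)) (tt N32970 (iv6 D115064)) (tt N71071 (iv7 F343928)))
theorem Q61648 : ∀ i, i < 61648 → P i := stepQ 61647 Q61647 (allL N61647 (tt N98677 D201796) (tt N98678 D201797) (tt N83097 (iv2 F361000)) (tt N32971 (iv3 D115065)) (tt N98679 D201798) (tt N61656 (iv5 F179184)) (tt N98680 D201799) (tt N78790 (iv7 F250889)))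
theorem Q61649 : ∀ i, i < 61649 → P i := stepQ 61648 Q61648 (allL N61648 (tt N98672 F421835) (tt N98675 (iv0 F426361)) (tt N78793 (iv2 F250893)) (tt N98680 (iv3 F421833)) (tt N45016 F179171) (tt N92264 (iv5 F396517)) (tt N32971 (iv6 D115066)) (tt N98681 D201801))
theorem Q61650 : ∀ i, i < 61650 → P i := stepQ 61649 Q61649 (allL N61649 (tt N98057 (iv1 F419302)) (tt N32972 (iv0 D115067)) (tt N98056 (iv2 F421607)) (tt N98682 D201802) (tt N98683 D201803) (tt N98684 D201804) (tt N92287 F421610) (tt N98055 (iv7 F421609)))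
theorem Q61651 : ∀ i, i < 61651 → P i := stepQ 61650 Q61650 (allL N61650 (tt N32972 (iv1 D115068)) (tt N98057 F419304) (tt N98055 F421608) (tt N98617 (iv3 F421603)) (tt N98685 D201805) (tt N98686 D201806) (tt N98615 F421604) (tt N98056 F421605))
theorem Q61652 : ∀ i, i < 61652 → P i := stepQ 61651 Q61651 (allL N61651 (tt N98056 (iv1 F419303)) (tt N98055 F419298) (tt N32972 (iv2 D115069)) (tt N78796 (iv3 F250895)) (tt N98454 (iv4 F420948)) (tt N98687 D201807) (tt N98622 (iv6 F421623)) (tt N98057 (iv7 F419301)))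
theorem Q61653 : ∀ i, i < 61653 → P i := stepQ 61652 Q61652 (allL N61652 (tt N98688 D201808) (tt N98689 D201809) (tt N98687 (iv2 F421848)) (tt N32973 F179172) (tt N98690 D201810) (tt N32972 (iv5 D115070)) (tt N98691 D201811) (tt N44968 F179173))
theorem Q61654 : ∀ i, i < 61654 → P i := stepQ 61653 Q61653 (allL N61653 (tt N98692 D201812) (tt N98693 D201813) (tt N60976 F179174) (tt N98691 (iv3 F421866)) (tt N44969 F179175) (tt N98626 (iv5 F421639)) (tt N32973 (iv6 D115071)) (tt N98538 (iv7 F421235)))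
theorem Q61655 : ∀ i, i < 61655 → P i := stepQ 61654 Q61654 (allL N61654 (tt N32974 (iv1 D115072)) (tt N34094 F179176) (tt N34134 (iv2 F179180)) (tt N78813 F250986) (tt N61390 (iv4 F179179)) (tt N41423 F179178) (tt N98694 D201814) (tt N34135 F179177))
theorem Q61656 : ∀ i, i < 61656 → P i := stepQ 61655 Q61655 (allL N61655 (tt N69586 F333552) (tt N69613 F333553) (tt N91723 (iv2 F394179)) (tt N32976 F179182) (tt N34118 F333554) (tt N56654 F333555) (tt N32974 (iv6 D115074)) (tt N92995 (iv7 F399056)))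
theorem Q61657 : ∀ i, i < 61657 → P i := stepQ 61656 Q61656 (allL N61656 (tt N90037 (iv1 F388372)) (tt N90039 (iv0 F388385)) (tt N48870 F360997) (tt N32975 (iv3 D115075)) (tt N48859 F360998) (tt N61647 F179184) (tt N98695 D201815) (tt N67119 (iv7 F206684)))
theorem Q61658 : ∀ i, i < 61658 → P i := stepQ 61657 Q61657 (allL N61657 (tt N98637 F421678) (tt N68871 F364673) (tt N78804 (iv2 F250917)) (tt N98695 (iv3 F421882)) (tt N32976 F179185) (tt N55841 (iv5 F333530)) (tt N32975 (iv6 D115076)) (tt N98696 D201816))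
theorem Q61659 : ∀ i, i < 61659 → P i := stepQ 61658 Q61658 (allL N61658 (tt N78807 (iv1 F250925)) (tt N32976 (iv0 D115077)) (tt N78805 (iv2 F399596)) (tt N98697 D201817) (tt N98698 D201818) (tt N98699 D201819) (tt N98700 D201820) (tt N78806 F399595))
theorem Q61660 : ∀ i, i < 61660 → P i := stepQ 61659 Q61659 (allL N61659 (tt N32976 (iv1 D115078)) (tt N78807 F250924) (tt N78806 F399593) (tt N66814 F399597) (tt N98701 D201821) (tt N93125 (iv5 F399591)) (tt N98702 D201822) (tt N78805 (iv7 F399594)))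
theorem Q61661 : ∀ i, i < 61661 → P i := stepQ 61660 Q61660 (allL N61660 (tt N78806 (iv1 F250919)) (tt N78805 F250923) (tt N78807 (iv2 F250920)) (tt N92995 (iv3 F399053)) (tt N98696 (iv4 F421888)) (tt N56657 F179186) (tt N67122 (iv6 F206693)) (tt N32976 (iv7 D115079)))
theorem Q61662 : ∀ i, i < 61662 → P i := stepQ 61661 Q61661 (allL N61661 (tt N60995 (iv1 F179192)) (tt N32978 (iv0 D115080)) (tt N41423 (iv2 F179191)) (tt N50299 F179189) (tt N41422 F179188) (tt N34134 F179187) (tt N43284 F179190) (tt N50744 F179193))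
theorem Q61663 : ∀ i, i < 61663 → P i := stepQ 61662 Q61662 (allL N61662 (tt N78800 (iv1 F250907)) (tt N32979 (iv0 D115081)) (tt N43282 (iv2 F179195)) (tt N78808 F250941) (tt N61298 (iv4 F179197)) (tt N50743 F179194) (tt N85279 (iv6 F372151)) (tt N50742 F179196))
theorem Q61664 : ∀ i, i < 61664 → P i := stepQ 61663 Q61663 (allL N61663 (tt N75540 (iv1 F362020)) (tt N98703 D201823) (tt N98162 (iv2 F419780)) (tt N32981 F179198) (tt N85118 (iv4 F371685)) (tt N56181 F179199) (tt N32979 (iv6 D115082)) (tt N98704 D201824))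
theorem Q61665 : ∀ i, i < 61665 → P i := stepQ 61664 Q61664 (allL N61664 (tt N90095 (iv1 F388549)) (tt N90088 (iv0 F388529)) (tt N98705 D201825) (tt N32980 (iv3 D115083)) (tt N85116 (iv4 F371675)) (tt N61645 F179200) (tt N98706 D201826) (tt N78803 (iv7 F250916)))
theorem Q61666 : ∀ i, i < 61666 → P i := stepQ 61665 Q61665 (allL N61665 (tt N98648 (iv1 F421728)) (tt N98650 (iv0 F421737)) (tt N67120 (iv2 F206685)) (tt N98706 (iv3 F421936)) (tt N32981 F179201) (tt N97686 (iv5 F417898)) (tt N32980 (iv6 D115084)) (tt N98707 D201827))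
theorem Q61667 : ∀ i, i < 61667 → P i := stepQ 61666 Q61666 (allL N61666 (tt N32981 (iv1 D115086)) (tt N67122 F206695) (tt N66783 (iv2 F290517)) (tt N73161 F366045) (tt N98708 D201828) (tt N46050 (iv5 F179202)) (tt N61560 F251112) (tt N67121 (iv7 F206697)))
theorem Q61668 : ∀ i, i < 61668 → P i := stepQ 61667 Q61667 (allL N61667 (tt N66783 (iv1 F290516)) (tt N67121 F206694) (tt N67122 (iv2 F206690)) (tt N98704 (iv3 F421925)) (tt N98707 (iv4 F421942)) (tt N56183 F179203) (tt N78807 (iv6 F250922)) (tt N32981 (iv7 D115087)))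
theorem Q61669 : ∀ i, i < 61669 → P i := stepQ 61668 Q61668 (allL N61668 (tt N98709 D201829) (tt N98710 D201830) (tt N98711 D201831) (tt N32982 (iv3 D115088)) (tt N38408 F179204) (tt N92272 (iv5 F396545)) (tt N95107 (iv6 F407074)) (tt N38458 F179205))
theorem Q61670 : ∀ i, i < 61670 → P i := stepQ 61669 Q61669 (allL N61669 (tt N68969 F212223) (tt N98712 D201832) (tt N98713 D201833) (tt N32983 (iv3 D115089)) (tt N56698 F179206) (tt N61646 F343927) (tt N97686 F417901) (tt N39240 F179207))
theorem Q61671 : ∀ i, i < 61671 → P i := stepQ 61670 Q61670 (allL N61670 (tt N37005 F179211) (tt N36888 (iv0 F179210)) (tt N38460 F179208) (tt N97686 (iv3 F417899)) (tt N32984 F179209) (tt N98706 (iv5 F421937)) (tt N32983 (iv6 D115090)) (tt N66406 (iv7 F204110)))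
theorem Q61672 : ∀ i, i < 61672 → P i := stepQ 61671 Q61671 (allL N61671 (tt N32985 (iv1 D115091)) (tt N39248 F179215) (tt N39247 (iv2 F179217)) (tt N32997 (iv3 F179218)) (tt N37929 F179219) (tt N62161 (iv5 F180048)) (tt N98714 D201834) (tt N38579 F179216))
theorem Q61673 : ∀ i, i < 61673 → P i := stepQ 61672 Q61672 (allL N61672 (tt N39247 (iv1 F179224)) (tt N38579 F179225) (tt N39248 F179220) (tt N38417 F179221) (tt N69105 (iv4 F212787)) (tt N40087 F179222) (tt N38510 F179223) (tt N32985 (iv7 D115092)))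
theorem Q61674 : ∀ i, i < 61674 → P i := stepQ 61673 Q61673 (allL N61673 (tt N67858 (iv1 F208176)) (tt N32986 (iv0 D115093)) (tt N67857 F355368) (tt N98715 D201835) (tt N84994 (iv4 F371307)) (tt N76089 (iv5 F355366)) (tt N84993 F371313) (tt N67856 F355365))
theorem Q61675 : ∀ i, i < 61675 → P i := stepQ 61674 Q61674 (allL N61674 (tt N32986 (iv1 D115094)) (tt N67858 F208178) (tt N67856 (iv2 F355297)) (tt N98716 D201836) (tt N74780 F355275) (tt N90067 (iv5 F388473)) (tt N98717 D201837) (tt N67857 (iv7 F355367)))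
theorem Q61676 : ∀ i, i < 61676 → P i := stepQ 61675 Q61675 (allL N61675 (tt N98718 D201838) (tt N98719 D201839) (tt N39253 F179226) (tt N32987 F179227) (tt N39365 (iv4 F179230)) (tt N32986 (iv5 D115095)) (tt N32987 F179228) (tt N39360 F179229))
theorem Q61677 : ∀ i, i < 61677 → P i := stepQ 61676 Q61676 (allL N61676 (tt N61722 (iv1 F179310)) (tt N32989 (iv0 D115096)) (tt N61721 (iv2 F339430)) (tt N98720 D201840) (tt N70669 (iv4 F218085)) (tt N98721 D201841) (tt N85028 (iv6 F371409)) (tt N61720 F339431))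
theorem Q61678 : ∀ i, i < 61678 → P i := stepQ 61677 Q61677 (allL N61677 (tt N61721 (iv1 F179311)) (tt N61720 F179306) (tt N32989 (iv2 D115098)) (tt N37318 F179231) (tt N38952 F179232) (tt N80898 (iv5 F336870)) (tt N98722 D201842) (tt N61722 (iv7 F179309)))
theorem Q61679 : ∀ i, i < 61679 → P i := stepQ 61678 Q61678 (allL N61678 (tt N81459 (iv1 F349085)) (tt N81458 (iv0 F349083)) (tt N80898 F335190) (tt N32990 F179233) (tt N88192 (iv4 F382103)) (tt N32989 (iv5 D115099)) (tt N76631 F327108) (tt N46007 F327109))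
theorem Q61680 : ∀ i, i < 61680 → P i := stepQ 61679 Q61679 (allL N61679 (tt N98723 D201843) (tt N98549 (iv0 F421291)) (tt N98722 (iv2 F422016)) (tt N32991 F179234) (tt N38954 F179235) (tt N98724 D201844) (tt N32989 (iv6 D115100)) (tt N66580 (iv7 F365705)))
theorem Q61681 : ∀ i, i < 61681 → P i := stepQ 61680 Q61680 (allL N61680 (tt N37325 (iv1 F179240)) (tt N32991 (iv0 D115102)) (tt N37322 F179241) (tt N93199 F399937) (tt N36907 F179237) (tt N70039 (iv5 F216454)) (tt N38956 (iv6 F179238)) (tt N37323 (iv7 F179239)))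
theorem Q61682 : ∀ i, i < 61682 → P i := stepQ 61681 Q61681 (allL N61681 (tt N32991 (iv1 D115103)) (tt N37325 F179243) (tt N37323 (iv2 F179245)) (tt N98725 D201845) (tt N57325 F179246) (tt N70038 (iv5 F216450)) (tt N98726 D201846) (tt N37322 F179244))
theorem Q61683 : ∀ i, i < 61683 → P i := stepQ 61682 Q61682 (allL N61682 (tt N70769 (iv1 F218308)) (tt N51430 (iv0 F327566)) (tt N37324 F179247) (tt N98724 (iv3 F422021)) (tt N87547 (iv4 F379724)) (tt N32991 (iv5 D115104)) (tt N76643 F345011) (tt N63422 (iv7 F345012)))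
theorem Q61684 : ∀ i, i < 61684 → P i := stepQ 61683 Q61683 (allL N61683 (tt N37323 (iv1 F179250)) (tt N37322 F179251) (tt N37325 F179248) (tt N66580 F327026) (tt N32992 F179249) (tt N63422 F327027) (tt N46009 F327028) (tt N32991 (iv7 D115105)))
theorem Q61685 : ∀ i, i < 61685 → P i := stepQ 61684 Q61684 (allL N61684 (tt N61725 (iv1 F179337)) (tt N32993 (iv0 D115106)) (tt N61724 (iv2 F218077)) (tt N98727 D201847) (tt N70662 F218078) (tt N81459 (iv5 F335034)) (tt N98728 D201848) (tt N61723 F218079))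
theorem Q61686 : ∀ i, i < 61686 → P i := stepQ 61685 Q61685 (allL N61685 (tt N32993 (iv1 D115107)) (tt N61725 F179339) (tt N61723 F218076) (tt N88256 (iv3 F382375)) (tt N70665 F218074) (tt N81458 (iv5 F349080)) (tt N38964 F333240) (tt N61724 (iv7 F218075)))
theorem Q61687 : ∀ i, i < 61687 → P i := stepQ 61686 Q61686 (allL N61686 (tt N61724 (iv1 F179338)) (tt N61723 F179333) (tt N32993 (iv2 D115108)) (tt N37134 F179252) (tt N38965 F179253) (tt N62823 (iv5 F323489)) (tt N50885 (iv6 F349017)) (tt N61725 (iv7 F179336)))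
theorem Q61688 : ∀ i, i < 61688 → P i := stepQ 61687 Q61687 (allL N61687 (tt N62797 F349118) (tt N62824 F349123) (tt N62823 (iv2 F349124)) (tt N32994 F179254) (tt N98729 D201849) (tt N32993 (iv5 D115109)) (tt N61012 F349087) (tt N61726 (iv7 F179341)))
theorem Q61689 : ∀ i, i < 61689 → P i := stepQ 61688 Q61688 (allL N61688 (tt N54743 (iv1 F361066)) (tt N54742 (iv0 F349119)) (tt N50885 (iv2 F349114)) (tt N32995 F179255) (tt N38967 F179256) (tt N50884 F349113) (tt N32993 (iv6 D115110)) (tt N54740 (iv7 F349115)))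
theorem Q61690 : ∀ i, i < 61690 → P i := stepQ 61689 Q61689 (allL N61689 (tt N38578 (iv1 F179262)) (tt N32995 (iv0 D115112)) (tt N38576 F203391) (tt N84913 (iv3 F371077)) (tt N37049 F179264) (tt N51427 (iv5 F344371)) (tt N38592 (iv6 F179265)) (tt N38577 (iv7 F203390)))
theorem Q61691 : ∀ i, i < 61691 → P i := stepQ 61690 Q61690 (allL N61690 (tt N32995 (iv1 D115113)) (tt N38578 F179258) (tt N38577 (iv2 F203392)) (tt N50906 (iv3 F349134)) (tt N68693 (iv4 F211407)) (tt N51432 F349136) (tt N98730 D201850) (tt N38576 F203393))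
theorem Q61692 : ∀ i, i < 61692 → P i := stepQ 61691 Q61691 (allL N61691 (tt N38577 (iv1 F179263)) (tt N38576 F179266) (tt N38578 F179260) (tt N54740 F359553) (tt N32998 F179261) (tt N50888 (iv5 F359535)) (tt N61732 (iv6 F179356)) (tt N32995 (iv7 D115115)))
theorem Q61693 : ∀ i, i < 61693 → P i := stepQ 61692 Q61692 (allL N61692 (tt N61739 (iv1 F179387)) (tt N33001 (iv0 F179270)) (tt N38580 F179267) (tt N83616 F349137) (tt N32996 (iv4 D115116)) (tt N86414 (iv5 F376152)) (tt N38598 F179268) (tt N38582 F179269))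
theorem Q61694 : ∀ i, i < 61694 → P i := stepQ 61693 Q61693 (allL N61693 (tt N44246 F179276) (tt N56998 (iv0 F179277)) (tt N38581 F179272) (tt N56709 F179273) (tt N98731 D201851) (tt N32996 (iv5 D115117)) (tt N59840 F179274) (tt N38583 F179275))
theorem Q61695 : ∀ i, i < 61695 → P i := stepQ 61694 Q61694 (allL N61694 (tt N33001 F179280) (tt N61739 F179386) (tt N38582 F179278) (tt N98732 D201852) (tt N32997 (iv4 D115118)) (tt N98733 D201853) (tt N60902 F363765) (tt N38580 F179279))
theorem Q61696 : ∀ i, i < 61696 → P i := stepQ 61695 Q61695 (allL N61695 (tt N33138 F179284) (tt N33140 (iv0 F179285)) (tt N38584 F179281) (tt N98714 (iv3 F421979)) (tt N60902 F363764) (tt N37415 F179282) (tt N32997 (iv6 D115119)) (tt N38597 F179283))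
theorem Q61697 : ∀ i, i < 61697 → P i := stepQ 61696 Q61696 (allL N61696 (tt N32999 (iv1 D115121)) (tt N60935 (iv0 F347545)) (tt N60961 F333510) (tt N55407 (iv3 F364192)) (tt N67404 (iv4 F207170)) (tt N46117 F333511) (tt N38981 F333512) (tt N55757 F333513))
theorem Q61698 : ∀ i, i < 61698 → P i := stepQ 61697 Q61697 (allL N61697 (tt N55757 (iv1 F342953)) (tt N60961 (iv0 F333234)) (tt N32999 (iv2 D115122)) (tt N61735 (iv3 F179371)) (tt N67177 (iv4 F206842)) (tt N78987 (iv5 F342954)) (tt N85998 (iv6 F374832)) (tt N60935 (iv7 F347550)))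
theorem Q61699 : ∀ i, i < 61699 → P i := stepQ 61698 Q61698 (allL N61698 (tt N97784 F418295) (tt N97787 (iv0 F418305)) (tt N78987 F342955) (tt N33000 F179286) (tt N87403 (iv4 F379251)) (tt N32999 (iv5 D115123)) (tt N64202 F333518) (tt N61740 (iv7 F179396)))
theorem Q61700 : ∀ i, i < 61700 → P i := stepQ 61699 Q61699 (allL N61699 (tt N43171 F343002) (tt N78977 F343003) (tt N61738 (iv2 F179381)) (tt N64202 (iv3 F343005)) (tt N85801 (iv4 F374013)) (tt N86016 (iv5 F374899)) (tt N33000 (iv6 D115125)) (tt N78978 F343004))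
theorem Q61701 : ∀ i, i < 61701 → P i := stepQ 61700 Q61700 (allL N61700 (tt N38582 (iv1 F179288)) (tt N38580 F179289) (tt N61739 (iv2 F179384)) (tt N60932 (iv3 F349138)) (tt N66067 (iv4 F203286)) (tt N53493 (iv5 F339548)) (tt N60886 (iv6 F327977)) (tt N33001 (iv7 D115127)))
theorem Q61702 : ∀ i, i < 61702 → P i := stepQ 61701 Q61701 (allL N61701 (tt N33002 (iv1 D115129)) (tt N61735 F179376) (tt N61733 (iv2 F208442)) (tt N45081 F327305) (tt N98734 D201854) (tt N45080 F327306) (tt N55731 F336802) (tt N61734 (iv7 F208444)))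
theorem Q61703 : ∀ i, i < 61703 → P i := stepQ 61702 Q61702 (allL N61702 (tt N61734 (iv1 F179375)) (tt N61733 F179370) (tt N33002 (iv2 D115130)) (tt N60935 (iv3 F347548)) (tt N70171 (iv4 F216883)) (tt N78993 F347574) (tt N60933 F347559) (tt N61735 (iv7 F179373)))
theorem Q61704 : ∀ i, i < 61704 → P i := stepQ 61703 Q61703 (allL N61703 (tt N76344 F335488) (tt N78992 (iv0 F347568)) (tt N78993 (iv2 F347573)) (tt N33003 F179291) (tt N98735 D201855) (tt N33002 (iv5 D115131)) (tt N76396 (iv6 F335485)) (tt N61736 (iv7 F179378)))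
theorem Q61705 : ∀ i, i < 61705 → P i := stepQ 61704 Q61704 (allL N61704 (tt N55724 F347567) (tt N83973 F367675) (tt N60933 (iv2 F347560)) (tt N33004 F179292) (tt N70173 (iv4 F216891)) (tt N76397 F335487) (tt N33002 (iv6 D115132)) (tt N83962 (iv7 F367632)))
theorem Q61706 : ∀ i, i < 61706 → P i := stepQ 61705 Q61705 (allL N61705 (tt N62716 (iv1 F332297)) (tt N73755 F363060) (tt N61741 (iv2 F179399)) (tt N76396 F335486) (tt N74353 F331693) (tt N74330 (iv5 F363058)) (tt N33003 (iv6 D115133)) (tt N74766 F342990))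
theorem Q61707 : ∀ i, i < 61707 → P i := stepQ 61706 Q61706 (allL N61706 (tt N70614 (iv1 F217962)) (tt N70612 (iv0 F217957)) (tt N61742 (iv2 F179401)) (tt N76397 (iv3 F363062)) (tt N74331 (iv4 F363063)) (tt N33004 (iv5 D115135)) (tt N74330 F363059) (tt N98736 D201856))
theorem Q61708 : ∀ i, i < 61708 → P i := stepQ 61707 Q61707 (allL N61707 (tt N60888 (iv1 F327981)) (tt N60872 (iv0 F327970)) (tt N60886 (iv2 F327975)) (tt N83962 (iv3 F367630)) (tt N66069 (iv4 F203300)) (tt N98736 (iv5 F422084)) (tt N61739 (iv6 F179385)) (tt N33004 (iv7 D115136)))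
theorem Q61709 : ∀ i, i < 61709 → P i := stepQ 61708 Q61708 (allL N61708 (tt N33006 (iv1 F179296)) (tt N33005 (iv0 D115137)) (tt N33009 (iv2 F179293)) (tt N61743 (iv3 F179408)) (tt N67858 (iv4 F208174)) (tt N75687 F338617) (tt N39085 F179294) (tt N33007 F179295))
theorem Q61710 : ∀ i, i < 61710 → P i := stepQ 61709 Q61709 (allL N61709 (tt N33009 F203440) (tt N33007 F203441) (tt N33005 (iv2 D115138)) (tt N98737 D201857) (tt N66208 (iv4 F355358)) (tt N74799 F335155) (tt N98738 D201858) (tt N33006 (iv7 F179297)))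
theorem Q61711 : ∀ i, i < 61711 → P i := stepQ 61710 Q61710 (allL N61710 (tt N66210 F326946) (tt N35957 F326947) (tt N66208 F355359) (tt N98739 D201859) (tt N33005 (iv4 D115140)) (tt N76096 F338629) (tt N98740 D201860) (tt N66209 (iv7 F355364)))
theorem Q61712 : ∀ i, i < 61712 → P i := stepQ 61711 Q61711 (allL N61711 (tt N98741 D201861) (tt N98732 (iv0 F422067)) (tt N98738 (iv2 F422094)) (tt N50271 F363916) (tt N98740 (iv4 F422099)) (tt N50270 (iv5 F338623)) (tt N33005 (iv6 D115142)) (tt N98742 D201862))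
theorem Q61713 : ∀ i, i < 61713 → P i := stepQ 61712 Q61712 (allL N61712 (tt N33007 F203437) (tt N33009 F203438) (tt N33006 F179298) (tt N66125 F203439) (tt N66209 (iv4 F355363)) (tt N62722 (iv5 F338625)) (tt N98743 D201863) (tt N33005 (iv7 D115143)))
theorem Q61714 : ∀ i, i < 61714 → P i := stepQ 61713 Q61713 (allL N61713 (tt N70754 F218272) (tt N60954 (iv0 F333504)) (tt N70690 (iv2 F218117)) (tt N33006 (iv3 D115144)) (tt N70689 (iv4 F218116)) (tt N74797 (iv5 F338626)) (tt N98744 D201864) (tt N98737 (iv7 F422090)))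
theorem Q61715 : ∀ i, i < 61715 → P i := stepQ 61714 Q61714 (allL N61714 (tt N35957 F326944) (tt N66210 F326945) (tt N66209 F355362) (tt N68849 (iv3 F211711)) (tt N33006 (iv4 D115145)) (tt N98745 D201865) (tt N98746 D201866) (tt N66208 F355360))
theorem Q61716 : ∀ i, i < 61716 → P i := stepQ 61715 Q61715 (allL N61715 (tt N60884 F355406) (tt N98747 D201867) (tt N98743 (iv2 F422112)) (tt N98744 (iv3 F422119)) (tt N98746 (iv4 F422128)) (tt N74798 (iv5 F338627)) (tt N33006 (iv6 D115147)) (tt N98748 D201868))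
theorem Q61717 : ∀ i, i < 61717 → P i := stepQ 61716 Q61716 (allL N61716 (tt N61763 (iv1 F179444)) (tt N33011 (iv0 D115158)) (tt N61761 F413008) (tt N98749 D201869) (tt N96562 (iv4 F413007)) (tt N98750 D201870) (tt N79987 F413009) (tt N61762 (iv7 F413010)))
theorem Q61718 : ∀ i, i < 61718 → P i := stepQ 61717 Q61717 (allL N61717 (tt N33011 (iv1 D115159)) (tt N61763 F179443) (tt N61762 (iv2 F413012)) (tt N81407 (iv3 F357772)) (tt N98751 D201871) (tt N98752 D201872) (tt N98753 D201873) (tt N61761 F413011))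
theorem Q61719 : ∀ i, i < 61719 → P i := stepQ 61718 Q61718 (allL N61718 (tt N61762 (iv1 F179439)) (tt N61761 F179442) (tt N61763 (iv2 F179440)) (tt N61719 (iv3 F179304)) (tt N46278 F335980) (tt N39007 F179303) (tt N94105 (iv6 F403229)) (tt N33011 (iv7 D115160)))
theorem Q61720 : ∀ i, i < 61720 → P i := stepQ 61719 Q61719 (allL N61719 (tt N70834 (iv1 F218533)) (tt N61384 (iv0 F338671)) (tt N60899 (iv2 F328636)) (tt N61718 F179304) (tt N66758 F338656) (tt N33012 (iv5 D115161)) (tt N66757 (iv6 F363905)) (tt N39009 F179305))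
theorem Q61721 : ∀ i, i < 61721 → P i := stepQ 61720 Q61720 (allL N61720 (tt N61677 (iv1 F179306)) (tt N33013 (iv0 D115162)) (tt N41763 F339419) (tt N79078 (iv3 F355292)) (tt N41740 (iv4 F339422)) (tt N62797 F339420) (tt N41739 F339421) (tt N61676 (iv7 F339431)))
theorem Q61722 : ∀ i, i < 61722 → P i := stepQ 61721 Q61721 (allL N61721 (tt N33013 (iv1 D115163)) (tt N61677 F179311) (tt N61676 F339430) (tt N97877 F418631) (tt N41766 F339427) (tt N62824 F339428) (tt N98754 D201874) (tt N41763 F339429))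
theorem Q61723 : ∀ i, i < 61723 → P i := stepQ 61722 Q61722 (allL N61722 (tt N41763 F325875) (tt N61676 F179310) (tt N33013 (iv2 D115164)) (tt N38232 F179307) (tt N39025 F179308) (tt N47531 F319756) (tt N36252 F324716) (tt N61677 F179309))
theorem Q61724 : ∀ i, i < 61724 → P i := stepQ 61723 Q61723 (allL N61723 (tt N61686 (iv1 F179333)) (tt N33016 (iv0 D115172)) (tt N61685 (iv2 F218076)) (tt N70366 (iv3 F217296)) (tt N70688 (iv4 F218108)) (tt N79075 F336874) (tt N39040 F335885) (tt N61684 (iv7 F218079)))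
theorem Q61725 : ∀ i, i < 61725 → P i := stepQ 61724 Q61724 (allL N61724 (tt N33016 (iv1 D115173)) (tt N61686 F179338) (tt N61684 F218077) (tt N80475 F349015) (tt N70649 (iv4 F218039)) (tt N79905 (iv5 F349011)) (tt N74881 (iv6 F349018)) (tt N61685 F218075))
theorem Q61726 : ∀ i, i < 61726 → P i := stepQ 61725 Q61725 (allL N61725 (tt N61685 (iv1 F179339)) (tt N61684 F179337) (tt N33016 (iv2 D115174)) (tt N38021 F179334) (tt N39042 F179335) (tt N47513 F317535) (tt N91039 (iv6 F391715)) (tt N61686 F179336))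
theorem Q61727 : ∀ i, i < 61727 → P i := stepQ 61726 Q61726 (allL N61726 (tt N98721 (iv1 F422014)) (tt N33649 F339802) (tt N47513 F339803) (tt N33017 F179340) (tt N66662 F339804) (tt N33016 (iv5 D115175)) (tt N98755 D201875) (tt N61687 F179341))
theorem Q61728 : ∀ i, i < 61728 → P i := stepQ 61727 Q61727 (allL N61727 (tt N74857 F363718) (tt N91038 F391716) (tt N91039 (iv2 F391712)) (tt N33018 F179342) (tt N39044 F179343) (tt N98756 D201876) (tt N33016 (iv6 D115176)) (tt N91030 (iv7 F391663)))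
theorem Q61729 : ∀ i, i < 61729 → P i := stepQ 61728 Q61728 (allL N61728 (tt N92854 (iv1 F398526)) (tt N92850 (iv0 F398507)) (tt N38856 F179344) (tt N98755 (iv3 F422169)) (tt N41692 F330330) (tt N73673 F330331) (tt N33017 (iv6 D115177)) (tt N85800 (iv7 F374008)))
theorem Q61730 : ∀ i, i < 61730 → P i := stepQ 61729 Q61729 (allL N61729 (tt N38860 F179347) (tt N33018 (iv0 D115178)) (tt N38857 (iv2 F202492)) (tt N45184 F327858) (tt N37975 F179346) (tt N69411 (iv5 F328276)) (tt N44594 F327859) (tt N38858 (iv7 F202488)))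
theorem Q61731 : ∀ i, i < 61731 → P i := stepQ 61730 Q61730 (allL N61730 (tt N33018 (iv1 D115179)) (tt N38860 F179352) (tt N38858 F202540) (tt N85978 F374716) (tt N66068 F203297) (tt N70607 (iv5 F217941)) (tt N38840 F202593) (tt N38857 F202539))
theorem Q61732 : ∀ i, i < 61732 → P i := stepQ 61731 Q61731 (allL N61731 (tt N69375 (iv1 F214062)) (tt N69373 (iv0 F214061)) (tt N38859 F179353) (tt N98756 (iv3 F422174)) (tt N73674 F357485) (tt N33018 (iv5 D115180)) (tt N73673 (iv6 F357484)) (tt N83794 (iv7 F359556)))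
theorem Q61733 : ∀ i, i < 61733 → P i := stepQ 61732 Q61732 (allL N61732 (tt N38858 (iv1 F179357)) (tt N38857 (iv0 F179358)) (tt N38860 F179354) (tt N91030 (iv3 F391661)) (tt N33021 F179355) (tt N83794 F359554) (tt N61691 F179356) (tt N33018 (iv7 D115181)))
theorem Q61734 : ∀ i, i < 61734 → P i := stepQ 61733 Q61733 (allL N61733 (tt N61702 (iv1 F179370)) (tt N33022 (iv0 D115184)) (tt N61701 F208442) (tt N38019 F179369) (tt N70483 (iv4 F217528)) (tt N43041 F332647) (tt N92140 (iv6 F395929)) (tt N47536 (iv7 F318978)))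
theorem Q61735 : ∀ i, i < 61735 → P i := stepQ 61734 Q61734 (allL N61734 (tt N33022 (iv1 D115185)) (tt N61702 F179375) (tt N47536 F321109) (tt N42361 F327769) (tt N70347 (iv4 F217258)) (tt N42360 F327770) (tt N39054 F326617) (tt N61701 F208444))
theorem Q61736 : ∀ i, i < 61736 → P i := stepQ 61735 Q61735 (allL N61735 (tt N61701 (iv1 F179376)) (tt N47536 F321107) (tt N33022 (iv2 D115186)) (tt N61697 F179371) (tt N38796 F179372) (tt N45119 F336798) (tt N50935 F336799) (tt N61702 F179373))
theorem Q61737 : ∀ i, i < 61737 → P i := stepQ 61736 Q61736 (allL N61736 (tt N98757 D201877) (tt N61600 (iv0 F364734)) (tt N45119 F335479) (tt N33023 F179377) (tt N98758 D201878) (tt N33022 (iv5 D115187)) (tt N45104 F335480) (tt N61703 F179378))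
theorem Q61738 : ∀ i, i < 61738 → P i := stepQ 61737 Q61737 (allL N61737 (tt N49234 F332650) (tt N83661 F332651) (tt N50935 F332652) (tt N33024 F179379) (tt N38798 F179380) (tt N49231 F332653) (tt N33022 (iv6 D115188)) (tt N50938 F332654))
theorem Q61739 : ∀ i, i < 61739 → P i := stepQ 61738 Q61738 (allL N61738 (tt N61396 (iv1 F363829)) (tt N76537 (iv0 F363827)) (tt N61699 F179381) (tt N45104 F335481) (tt N57381 F179382) (tt N89337 (iv5 F386174)) (tt N33023 (iv6 D115189)) (tt N45112 F335482))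
theorem Q61740 : ∀ i, i < 61740 → P i := stepQ 61739 Q61739 (allL N61739 (tt N61694 (iv1 F179386)) (tt N61692 F179387) (tt N61700 F179384) (tt N50938 (iv3 F332655)) (tt N94481 (iv4 F404662)) (tt N50936 F363751) (tt N61707 F179385) (tt N33024 (iv7 D115191)))
theorem Q61741 : ∀ i, i < 61741 → P i := stepQ 61740 Q61740 (allL N61740 (tt N97915 F418788) (tt N97913 (iv0 F418773)) (tt N98004 (iv2 F419136)) (tt N33026 F179395) (tt N98759 D201879) (tt N33025 (iv5 D115195)) (tt N92934 (iv6 F398823)) (tt N61698 F179396))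
theorem Q61742 : ∀ i, i < 61742 → P i := stepQ 61741 Q61741 (allL N61741 (tt N98760 D201880) (tt N41622 F331691) (tt N61705 F179399) (tt N92934 (iv3 F398822)) (tt N57368 F179400) (tt N73676 F331692) (tt N33026 (iv6 D115197)) (tt N98761 D201881))
theorem Q61743 : ∀ i, i < 61743 → P i := stepQ 61742 Q61742 (allL N61742 (tt N69384 (iv1 F214073)) (tt N69382 (iv0 F214072)) (tt N61706 F179401) (tt N65609 (iv3 F342960)) (tt N98762 D201882) (tt N33027 (iv5 D115198)) (tt N73676 (iv6 F363061)) (tt N97963 (iv7 F418982)))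
theorem Q61744 : ∀ i, i < 61744 → P i := stepQ 61743 Q61743 (allL N61743 (tt N33029 (iv1 F179411)) (tt N33028 (iv0 D115200)) (tt N33032 (iv2 F179407)) (tt N61708 F179408) (tt N56680 F179409) (tt N75615 (iv5 F338620)) (tt N70822 (iv6 F218499)) (tt N33030 F179410))
theorem Q61745 : ∀ i, i < 61745 → P i := stepQ 61744 Q61744 (allL N61744 (tt N33032 F211589) (tt N33030 F211590) (tt N33028 (iv2 D115201)) (tt N44806 F321098) (tt N37762 F211592) (tt N47568 F321099) (tt N49227 F326532) (tt N33029 (iv7 F179412)))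
theorem Q61746 : ∀ i, i < 61746 → P i := stepQ 61745 Q61745 (allL N61745 (tt N88257 (iv1 F382386)) (tt N79704 (iv0 F363962)) (tt N37762 F211593) (tt N98763 D201883) (tt N33028 (iv4 D115203)) (tt N98764 D201884) (tt N84969 (iv6 F371205)) (tt N88255 (iv7 F382371)))
theorem Q61747 : ∀ i, i < 61747 → P i := stepQ 61746 Q61746 (allL N61746 (tt N98765 D201885) (tt N69515 (iv0 F348979)) (tt N47568 F335810) (tt N51299 (iv3 F335811)) (tt N46617 F339805) (tt N33028 (iv5 D115204)) (tt N51298 F335809) (tt N88193 (iv7 F382111)))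
theorem Q61748 : ∀ i, i < 61748 → P i := stepQ 61747 Q61747 (allL N61747 (tt N33030 F211603) (tt N33032 F211604) (tt N33029 F179413) (tt N84972 (iv3 F371220)) (tt N88255 (iv4 F382372)) (tt N88193 (iv5 F382112)) (tt N98002 (iv6 F419129)) (tt N33028 (iv7 D115206)))
theorem Q61749 : ∀ i, i < 61749 → P i := stepQ 61748 Q61748 (allL N61748 (tt N38017 F208713) (tt N38019 F208714) (tt N38619 F211596) (tt N33029 (iv3 D115207)) (tt N38618 (iv4 F211599)) (tt N47032 F317499) (tt N83655 F326534) (tt N44806 (iv7 F318973)))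
theorem Q61750 : ∀ i, i < 61750 → P i := stepQ 61749 Q61749 (allL N61749 (tt N79704 F363963) (tt N88257 F382385) (tt N88255 F382373) (tt N37766 F211587) (tt N33029 (iv4 D115208)) (tt N98766 D201886) (tt N98767 D201887) (tt N37762 F211588))
theorem Q61751 : ∀ i, i < 61751 → P i := stepQ 61750 Q61750 (allL N61750 (tt N69515 F348992) (tt N98765 F422217) (tt N88193 (iv2 F382109)) (tt N47032 F348993) (tt N46613 F348994) (tt N33029 (iv5 D115209)) (tt N40876 F348995) (tt N47568 F348996))
theorem Q61752 : ∀ i, i < 61752 → P i := stepQ 61751 Q61751 (allL N61751 (tt N97947 (iv1 F418921)) (tt N98768 D201888) (tt N98002 (iv2 F419128)) (tt N83655 (iv3 F365902)) (tt N98767 (iv4 F422226)) (tt N87551 F379739) (tt N33029 (iv6 D115210)) (tt N83651 F365903))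
theorem Q61753 : ∀ i, i < 61753 → P i := stepQ 61752 Q61752 (allL N61752 (tt N47533 F335825) (tt N61336 F325782) (tt N33031 F179418) (tt N42351 F325783) (tt N43675 F325784) (tt N33030 (iv5 D115213)) (tt N43674 (iv6 F326598)) (tt N75615 F332622))
theorem Q61754 : ∀ i, i < 61754 → P i := stepQ 61753 Q61753 (allL N61753 (tt N75615 F348998) (tt N33031 (iv0 D115214)) (tt N47533 F335822) (tt N98769 D201889) (tt N46619 F348999) (tt N68177 (iv5 F335834)) (tt N98770 D201890) (tt N61336 F335823))
theorem Q61755 : ∀ i, i < 61755 → P i := stepQ 61754 Q61754 (allL N61754 (tt N33031 (iv1 D115215)) (tt N75615 F349000) (tt N61336 F335813) (tt N47018 F335814) (tt N42622 F335815) (tt N68178 (iv5 F335820)) (tt N42621 F335816) (tt N47533 F335817))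
theorem Q61756 : ∀ i, i < 61756 → P i := stepQ 61755 Q61755 (allL N61755 (tt N75268 F332559) (tt N42006 F332560) (tt N43675 F332561) (tt N47976 F332562) (tt N33031 (iv4 D115216)) (tt N52591 (iv5 F334462)) (tt N35361 F332564) (tt N75157 F332565))
theorem Q61757 : ∀ i, i < 61757 → P i := stepQ 61756 Q61756 (allL N61756 (tt N98771 D201891) (tt N85794 (iv0 F373974)) (tt N43674 F327336) (tt N33036 F179420) (tt N35361 F327337) (tt N39079 F179421) (tt N33031 (iv6 D115217)) (tt N43673 F327338))
theorem Q61758 : ∀ i, i < 61758 → P i := stepQ 61757 Q61757 (allL N61757 (tt N61336 F332571) (tt N47533 F335824) (tt N75615 F332569) (tt N33037 F179422) (tt N75157 (iv4 F332566)) (tt N33032 F179423) (tt N75614 F332570) (tt N33031 (iv7 D115218)))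
theorem Q61759 : ∀ i, i < 61759 → P i := stepQ 61758 Q61758 (allL N61758 (tt N46080 F329177) (tt N46079 F329178) (tt N46081 F329179) (tt N43038 F329180) (tt N57352 F179430) (tt N98772 D201892) (tt N33033 (iv6 D115221)) (tt N34579 F329181))
theorem Q61760 : ∀ i, i < 61760 → P i := stepQ 61759 Q61759 (allL N61759 (tt N82327 F350987) (tt N66976 F330643) (tt N44914 F320635) (tt N33035 (iv3 D115224)) (tt N47976 F320636) (tt N48111 F320637) (tt N47975 F320638) (tt N57314 F179436))
theorem Q61761 : ∀ i, i < 61761 → P i := stepQ 61760 Q61760 (allL N61760 (tt N79882 F340153) (tt N80166 (iv0 F340160)) (tt N57405 F179437) (tt N47975 F335985) (tt N33036 F179438) (tt N65149 F335984) (tt N33035 (iv6 D115225)) (tt N80203 (iv7 F335979)))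
theorem Q61762 : ∀ i, i < 61762 → P i := stepQ 61761 Q61761 (allL N61761 (tt N61718 (iv1 F179442)) (tt N33036 (iv0 D115226)) (tt N61716 (iv2 F413008)) (tt N98545 (iv3 F421271)) (tt N76650 F356621) (tt N98415 (iv5 F420866)) (tt N61368 (iv6 F356622)) (tt N61717 (iv7 F413011)))
theorem Q61763 : ∀ i, i < 61763 → P i := stepQ 61762 Q61762 (allL N61762 (tt N33036 (iv1 D115227)) (tt N61718 F179439) (tt N61717 F413012) (tt N86479 (iv3 F376340)) (tt N98773 D201893) (tt N98414 (iv5 F420863)) (tt N86476 (iv6 F376337)) (tt N61716 F413010))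
theorem Q61764 : ∀ i, i < 61764 → P i := stepQ 61763 Q61763 (allL N61763 (tt N61717 (iv1 F179443)) (tt N61716 F179444) (tt N61718 F179440) (tt N43673 F339638) (tt N80203 (iv4 F348626)) (tt N39085 F179441) (tt N88440 (iv6 F383060)) (tt N33036 (iv7 D115228)))
theorem Q61765 : ∀ i, i < 61765 → P i := stepQ 61764 Q61764 (allL N61764 (tt N98396 (iv1 F420777)) (tt N64188 (iv0 F338533)) (tt N57401 F179445) (tt N75614 F338535) (tt N57315 F179446) (tt N36374 F338534) (tt N33037 (iv6 D115229)) (tt N88440 (iv7 F383061)))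
theorem Q61766 : ∀ i, i < 61766 → P i := stepQ 61765 Q61765 (allL N61765 (tt N33084 (iv1 F179449)) (tt N33038 (iv0 D115231)) (tt N33083 F203960) (tt N66305 F203959) (tt N98774 D201894) (tt N61973 F349432) (tt N77899 F349436) (tt N33082 F203961))
theorem Q61767 : ∀ i, i < 61767 → P i := stepQ 61766 Q61766 (allL N61766 (tt N33038 (iv1 D115232)) (tt N33084 F179453) (tt N33082 F203962) (tt N98775 D201895) (tt N92357 (iv4 F396816)) (tt N61974 (iv5 F360639)) (tt N98776 D201896) (tt N33083 F203963))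
theorem Q61768 : ∀ i, i < 61768 → P i := stepQ 61767 Q61767 (allL N61767 (tt N33083 (iv1 F179454)) (tt N33082 F179452) (tt N33038 (iv2 D115233)) (tt N33105 F179450) (tt N74271 (iv4 F227208)) (tt N82093 F341180) (tt N97212 (iv6 F415921)) (tt N33084 F179451))
theorem Q61769 : ∀ i, i < 61769 → P i := stepQ 61768 Q61768 (allL N61768 (tt N97214 F415930) (tt N77876 F404300) (tt N97212 F415922) (tt N33039 F179455) (tt N74272 (iv4 F227214)) (tt N98777 D201897) (tt N33038 (iv6 D115234)) (tt N97213 (iv7 F415923)))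
theorem Q61770 : ∀ i, i < 61770 → P i := stepQ 61769 Q61769 (allL N61769 (tt N33112 (iv1 F179459)) (tt N33039 (iv0 D115235)) (tt N33109 (iv2 F179457)) (tt N98778 D201898) (tt N57220 F179456) (tt N76832 (iv5 F351446)) (tt N77870 (iv6 F245180)) (tt N33110 F179458))
theorem Q61771 : ∀ i, i < 61771 → P i := stepQ 61770 Q61770 (allL N61770 (tt N98779 D201899) (tt N98780 D201900) (tt N33111 F179460) (tt N98777 (iv3 F422277)) (tt N78221 F359942) (tt N33039 (iv5 D115236)) (tt N78220 (iv6 F351455)) (tt N98781 D201901))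
theorem Q61772 : ∀ i, i < 61772 → P i := stepQ 61771 Q61771 (allL N61771 (tt N33110 (iv1 F179464)) (tt N33109 F179465) (tt N33112 F179461) (tt N97213 F415924) (tt N33041 F179462) (tt N98781 (iv5 F422297)) (tt N33093 F179463) (tt N33039 (iv7 D115237)))
theorem Q61773 : ∀ i, i < 61773 → P i := stepQ 61772 Q61772 (allL N61772 (tt N40498 F179468) (tt N40157 F179469) (tt N33113 F179466) (tt N98782 D201902) (tt N33040 (iv4 D115238)) (tt N73203 (iv5 F339857)) (tt N62035 (iv6 F330537)) (tt N33115 F179467))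
theorem Q61774 : ∀ i, i < 61774 → P i := stepQ 61773 Q61773 (allL N61773 (tt N33127 (iv1 F179470)) (tt N33042 (iv0 D115239)) (tt N33126 F218820) (tt N66385 (iv3 F204078)) (tt N92541 (iv4 F397309)) (tt N95797 (iv5 F409700)) (tt N39507 F336207) (tt N33125 F218821))
theorem Q61775 : ∀ i, i < 61775 → P i := stepQ 61774 Q61774 (allL N61774 (tt N33042 (iv1 D115240)) (tt N33127 F179475) (tt N33125 F218822) (tt N98783 D201903) (tt N92415 (iv4 F396942)) (tt N95798 (iv5 F409707)) (tt N98784 D201904) (tt N33126 F218823))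
theorem Q61776 : ∀ i, i < 61776 → P i := stepQ 61775 Q61775 (allL N61775 (tt N33126 (iv1 F179476)) (tt N33125 F179474) (tt N33042 (iv2 D115241)) (tt N33145 F179471) (tt N55967 F179472) (tt N76789 (iv5 F336244)) (tt N98785 D201905) (tt N33127 F179473))
theorem Q61777 : ∀ i, i < 61777 → P i := stepQ 61776 Q61776 (allL N61776 (tt N61865 (iv1 F330606)) (tt N61869 F360641) (tt N76789 F336245) (tt N33043 F179477) (tt N33425 F327621) (tt N33042 (iv5 D115242)) (tt N76593 F336257) (tt N33128 F179478))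
theorem Q61778 : ∀ i, i < 61778 → P i := stepQ 61777 Q61777 (allL N61777 (tt N98786 D201906) (tt N90928 (iv0 F391293)) (tt N98785 (iv2 F422311)) (tt N33044 F179479) (tt N55969 F179480) (tt N98787 D201907) (tt N33042 (iv6 D115243)) (tt N98788 D201908))
theorem Q61779 : ∀ i, i < 61779 → P i := stepQ 61778 Q61778 (allL N61778 (tt N98789 D201909) (tt N34234 F348377) (tt N33148 F179481) (tt N76593 (iv3 F336255)) (tt N35881 F179482) (tt N98790 D201910) (tt N33043 (iv6 D115244)) (tt N76778 F336258))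
theorem Q61780 : ∀ i, i < 61780 → P i := stepQ 61779 Q61779 (allL N61779 (tt N33152 (iv1 F179488)) (tt N33044 (iv0 D115245)) (tt N33149 F179914) (tt N90934 F391298) (tt N62063 (iv4 F179908)) (tt N77884 (iv5 F245209)) (tt N96891 (iv6 F414471)) (tt N33150 F179915))
theorem Q61781 : ∀ i, i < 61781 → P i := stepQ 61780 Q61780 (allL N61780 (tt N33044 (iv1 D115246)) (tt N33152 F179483) (tt N33150 F179916) (tt N98791 D201911) (tt N62064 F179924) (tt N77885 (iv5 F245215)) (tt N77819 F245060) (tt N33149 F179917))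
theorem Q61782 : ∀ i, i < 61782 → P i := stepQ 61781 Q61781 (allL N61781 (tt N71878 (iv1 F220805)) (tt N71876 (iv0 F220799)) (tt N33151 F179484) (tt N98787 (iv3 F422315)) (tt N75867 F346021) (tt N33044 (iv5 D115247)) (tt N98790 (iv6 F422328)) (tt N90030 (iv7 F388347)))
theorem Q61783 : ∀ i, i < 61783 → P i := stepQ 61782 Q61782 (allL N61782 (tt N33150 (iv1 F179489)) (tt N33149 (iv0 F179490)) (tt N33152 F179485) (tt N98788 (iv3 F422318)) (tt N33046 F179486) (tt N90030 (iv5 F388343)) (tt N33136 F179487) (tt N33044 (iv7 D115248)))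
theorem Q61784 : ∀ i, i < 61784 → P i := stepQ 61783 Q61783 (allL N61783 (tt N33174 (iv1 F179494)) (tt N33052 F179493) (tt N33153 F179491) (tt N89295 (iv3 F385964)) (tt N33045 (iv4 D115249)) (tt N83475 F357607) (tt N96824 (iv6 F414135)) (tt N33155 F179492))
theorem Q61785 : ∀ i, i < 61785 → P i := stepQ 61784 Q61784 (allL N61784 (tt N33167 (iv1 F179495)) (tt N33047 (iv0 D115250)) (tt N33166 F351375) (tt N92896 (iv3 F398693)) (tt N65873 F351376) (tt N98792 D201912) (tt N98793 D201913) (tt N33165 F351377))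
theorem Q61786 : ∀ i, i < 61786 → P i := stepQ 61785 Q61785 (allL N61785 (tt N33047 (iv1 D115251)) (tt N33167 F179500) (tt N33165 F351366) (tt N98794 D201914) (tt N65874 (iv4 F350851)) (tt N98795 D201915) (tt N77825 F359972) (tt N33166 F351367))
theorem Q61787 : ∀ i, i < 61787 → P i := stepQ 61786 Q61786 (allL N61786 (tt N33166 (iv1 F179501)) (tt N33165 F179499) (tt N33047 (iv2 D115252)) (tt N33159 F179496) (tt N36094 F179497) (tt N33161 F330520) (tt N33048 F330514) (tt N33167 F179498))
theorem Q61788 : ∀ i, i < 61788 → P i := stepQ 61787 Q61787 (allL N61787 (tt N89495 (iv1 F386647)) (tt N98796 D201916) (tt N33161 F330516) (tt N33048 F179502) (tt N98797 D201917) (tt N33047 (iv5 D115253)) (tt N33159 F330517) (tt N33169 F179503))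
theorem Q61789 : ∀ i, i < 61789 → P i := stepQ 61788 Q61788 (allL N61788 (tt N33139 (iv1 F179511)) (tt N33137 F179512) (tt N33164 F179508) (tt N33051 F330512) (tt N36089 F179509) (tt N33050 F330513) (tt N33174 F179510) (tt N33049 (iv7 D115257)))
theorem Q61790 : ∀ i, i < 61790 → P i := stepQ 61789 Q61789 (allL N61789 (tt N33159 (iv1 F179513)) (tt N33050 (iv0 D115258)) (tt N33158 F330525) (tt N71559 (iv3 F360867)) (tt N98798 D201918) (tt N61946 F330519) (tt N48017 F339878) (tt N33157 F330526))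
theorem Q61791 : ∀ i, i < 61791 → P i := stepQ 61790 Q61790 (allL N61790 (tt N33050 (iv1 D115259)) (tt N33159 F179518) (tt N33157 F330522) (tt N98799 D201919) (tt N73211 (iv4 F224101)) (tt N39035 F330518) (tt N98800 D201920) (tt N33158 F330523))
theorem Q61792 : ∀ i, i < 61792 → P i := stepQ 61791 Q61791 (allL N61791 (tt N33158 (iv1 F179519)) (tt N33157 F179517) (tt N33050 (iv2 D115260)) (tt N33167 F179514) (tt N59008 F179515) (tt N33164 F330521) (tt N98801 D201921) (tt N33159 F179516))
theorem Q61793 : ∀ i, i < 61793 → P i := stepQ 61792 Q61792 (allL N61792 (tt N98802 D201922) (tt N98803 D201923) (tt N98801 (iv2 F422381)) (tt N33052 F179522) (tt N59010 F179523) (tt N98804 D201924) (tt N33050 (iv6 D115262)) (tt N98805 D201925))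
theorem Q61794 : ∀ i, i < 61794 → P i := stepQ 61793 Q61793 (allL N61793 (tt N98806 D201926) (tt N98807 D201927) (tt N33172 F179524) (tt N33174 F350935) (tt N63514 F350936) (tt N98808 D201928) (tt N33051 (iv6 D115263)) (tt N33170 F350937))
theorem Q61795 : ∀ i, i < 61795 → P i := stepQ 61794 Q61794 (allL N61794 (tt N71874 (iv1 F220794)) (tt N71873 (iv0 F220789)) (tt N33173 F179525) (tt N98804 (iv3 F422386)) (tt N53984 (iv4 F356796)) (tt N33052 (iv5 D115264)) (tt N98808 (iv6 F422404)) (tt N98809 D201929))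
theorem Q61796 : ∀ i, i < 61796 → P i := stepQ 61795 Q61795 (allL N61795 (tt N33155 (iv1 F179529)) (tt N33153 F179530) (tt N33174 F179526) (tt N98805 (iv3 F422390)) (tt N59006 F179527) (tt N98809 (iv5 F422409)) (tt N33164 F179528) (tt N33052 (iv7 D115265)))
theorem Q61797 : ∀ i, i < 61797 → P i := stepQ 61796 Q61796 (allL N61796 (tt N33054 (iv1 F179535)) (tt N33053 (iv0 D115266)) (tt N33057 (iv2 F179531)) (tt N33175 F179532) (tt N39188 F179533) (tt N97415 (iv5 F416791)) (tt N98810 D201930) (tt N33055 F179534))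
theorem Q61798 : ∀ i, i < 61798 → P i := stepQ 61797 Q61797 (allL N61797 (tt N33057 F362203) (tt N33055 F362204) (tt N33053 (iv2 D115267)) (tt N93643 F401410) (tt N38478 F362205) (tt N98811 D201931) (tt N98812 D201932) (tt N33054 (iv7 F179536)))
theorem Q61799 : ∀ i, i < 61799 → P i := stepQ 61798 Q61798 (allL N61798 (tt N98799 F422375) (tt N98813 D201933) (tt N73458 (iv2 F360818)) (tt N33053 (iv3 D115268)) (tt N62333 F180852) (tt N98812 (iv5 F422426)) (tt N98814 D201934) (tt N73461 (iv7 F349724)))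
theorem Q61800 : ∀ i, i < 61800 → P i := stepQ 61799 Q61799 (allL N61799 (tt N98815 D201935) (tt N39625 (iv0 F179537)) (tt N38478 F331017) (tt N54200 (iv3 F349706)) (tt N33053 (iv4 D115269)) (tt N38412 F331018) (tt N98816 D201936) (tt N54197 (iv7 F345481)))
theorem Q61801 : ∀ i, i < 61801 → P i := stepQ 61800 Q61800 (allL N61800 (tt N62358 F331831) (tt N61830 F364948) (tt N98811 (iv2 F422417)) (tt N98812 (iv3 F422424)) (tt N98817 D201937) (tt N33053 (iv5 D115270)) (tt N93643 F422422) (tt N98818 D201938))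
theorem Q61802 : ∀ i, i < 61802 → P i := stepQ 61801 Q61801 (allL N61801 (tt N90944 (iv1 F422453)) (tt N90942 (iv0 F422452)) (tt N98812 (iv2 F422423)) (tt N98814 (iv3 F422434)) (tt N98816 (iv4 F422447)) (tt N73458 (iv5 F422427)) (tt N33053 (iv6 D115271)) (tt N98819 D201939))
theorem Q61803 : ∀ i, i < 61803 → P i := stepQ 61802 Q61802 (allL N61802 (tt N33055 F345476) (tt N33057 F345477) (tt N33054 F179538) (tt N73461 F345478) (tt N54197 F345479) (tt N98818 (iv5 F422463)) (tt N54196 (iv6 F345480)) (tt N33053 (iv7 D115272)))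
theorem Q61804 : ∀ i, i < 61804 → P i := stepQ 61803 Q61803 (allL N61803 (tt N92894 (iv1 F398695)) (tt N92896 (iv0 F398694)) (tt N57119 (iv2 F220503)) (tt N33054 (iv3 D115273)) (tt N57118 F220501) (tt N98820 D201940) (tt N98821 D201941) (tt N93643 (iv7 F401409)))
theorem Q61805 : ∀ i, i < 61805 → P i := stepQ 61804 Q61804 (allL N61804 (tt N39625 F220548) (tt N98815 F422442) (tt N54197 (iv2 F345449)) (tt N39614 F179539) (tt N33054 (iv4 D115274)) (tt N38479 F331020) (tt N54193 F336763) (tt N38478 F331021))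
theorem Q61806 : ∀ i, i < 61806 → P i := stepQ 61805 Q61805 (allL N61805 (tt N61830 (iv1 F364942)) (tt N62358 F331022) (tt N98818 (iv2 F422461)) (tt N98820 (iv3 F422471)) (tt N72632 (iv4 F331019)) (tt N33054 (iv5 D115275)) (tt N98822 D201942) (tt N98811 (iv7 F422418)))
theorem Q61807 : ∀ i, i < 61807 → P i := stepQ 61806 Q61806 (allL N61806 (tt N89295 F385966) (tt N89296 (iv0 F385970)) (tt N54196 F362201) (tt N98821 (iv3 F422475)) (tt N54193 (iv4 F362202)) (tt N98823 D201943) (tt N33054 (iv6 D115276)) (tt N90918 (iv7 F391270)))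
theorem Q61808 : ∀ i, i < 61808 → P i := stepQ 61807 Q61807 (allL N61807 (tt N97414 F416787) (tt N97413 F416781) (tt N33056 F179542) (tt N33186 F179543) (tt N97028 (iv4 F415104)) (tt N33055 (iv5 D115279)) (tt N97026 F415097) (tt N97415 (iv7 F416793)))
theorem Q61809 : ∀ i, i < 61809 → P i := stepQ 61808 Q61808 (allL N61808 (tt N97415 (iv1 F416794)) (tt N33056 (iv0 D115280)) (tt N97414 F416786) (tt N98824 D201944) (tt N93277 (iv4 F400266)) (tt N93487 F400891) (tt N98825 D201945) (tt N97413 F416783))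
theorem Q61810 : ∀ i, i < 61810 → P i := stepQ 61809 Q61809 (allL N61809 (tt N33056 (iv1 D115281)) (tt N97415 F416795) (tt N97413 F416782) (tt N98826 D201946) (tt N93280 F400895) (tt N93488 (iv5 F400894)) (tt N98827 D201947) (tt N97414 (iv7 F416784)))
theorem Q61811 : ∀ i, i < 61811 → P i := stepQ 61810 Q61810 (allL N61810 (tt N93273 (iv1 F400246)) (tt N93275 (iv0 F400257)) (tt N97028 (iv2 F415103)) (tt N95796 (iv3 F409696)) (tt N33056 (iv4 D115282)) (tt N72633 (iv5 F331023)) (tt N97023 (iv6 F415077)) (tt N95275 F407687))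
theorem Q61812 : ∀ i, i < 61812 → P i := stepQ 61811 Q61811 (allL N61811 (tt N98828 D201948) (tt N98829 D201949) (tt N97026 (iv2 F415095)) (tt N33060 F179544) (tt N97023 F415079) (tt N77849 (iv5 F245126)) (tt N33056 (iv6 D115283)) (tt N97029 (iv7 F415111)))
theorem Q61813 : ∀ i, i < 61813 → P i := stepQ 61812 Q61812 (allL N61812 (tt N65032 (iv1 F346599)) (tt N65041 (iv0 F351830)) (tt N98810 (iv2 F422412)) (tt N33061 F179545) (tt N39200 F179546) (tt N98830 D201950) (tt N33057 (iv6 D115284)) (tt N77850 (iv7 F245129)))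
theorem Q61814 : ∀ i, i < 61814 → P i := stepQ 61813 Q61813 (allL N61813 (tt N98792 (iv1 F422337)) (tt N98795 (iv0 F422352)) (tt N98831 D201951) (tt N33058 (iv3 D115285)) (tt N98832 D201952) (tt N36023 F179547) (tt N98833 D201953) (tt N33195 F179548))
theorem Q61815 : ∀ i, i < 61815 → P i := stepQ 61814 Q61814 (allL N61814 (tt N98834 D201954) (tt N98835 D201955) (tt N33194 F179549) (tt N98833 (iv3 F422500)) (tt N94037 (iv4 F402918)) (tt N98836 D201956) (tt N33058 (iv6 D115286)) (tt N98837 D201957))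
theorem Q61816 : ∀ i, i < 61816 → P i := stepQ 61815 Q61815 (allL N61815 (tt N61946 F330575) (tt N39035 F330576) (tt N68335 F330577) (tt N33059 (iv3 D115287)) (tt N67732 F330578) (tt N40156 F179550) (tt N98838 D201958) (tt N33193 F179551))
theorem Q61817 : ∀ i, i < 61817 → P i := stepQ 61816 Q61816 (allL N61816 (tt N95803 (iv1 F409731)) (tt N76864 F351506) (tt N33196 F179552) (tt N98838 (iv3 F422519)) (tt N94035 (iv4 F402907)) (tt N78016 (iv5 F339870)) (tt N33059 (iv6 D115288)) (tt N98839 D201959))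
theorem Q61818 : ∀ i, i < 61818 → P i := stepQ 61817 Q61817 (allL N61817 (tt N33201 (iv1 F179555)) (tt N33060 (iv0 D115289)) (tt N33199 F357070) (tt N90180 F388803) (tt N90194 (iv4 F388839)) (tt N98840 D201960) (tt N90192 (iv6 F388833)) (tt N33200 F357071))
theorem Q61819 : ∀ i, i < 61819 → P i := stepQ 61818 Q61818 (allL N61818 (tt N33060 (iv1 D115290)) (tt N33201 F179553) (tt N33200 F357065) (tt N58058 F357066) (tt N66228 F357067) (tt N98841 D201961) (tt N58057 F357068) (tt N33199 F357069))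
theorem Q61820 : ∀ i, i < 61820 → P i := stepQ 61819 Q61819 (allL N61819 (tt N33200 (iv1 F179556)) (tt N33199 F179557) (tt N33201 F179554) (tt N97029 (iv3 F415109)) (tt N79415 F357023) (tt N77856 (iv5 F245148)) (tt N94254 F403854) (tt N33060 (iv7 D115291)))
theorem Q61821 : ∀ i, i < 61821 → P i := stepQ 61820 Q61820 (allL N61820 (tt N78048 (iv1 F245600)) (tt N78047 F245598) (tt N33205 F179558) (tt N98830 (iv3 F422485)) (tt N98842 D201962) (tt N33061 (iv5 D115292)) (tt N77982 (iv6 F347955)) (tt N77857 (iv7 F245153)))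
theorem Q61822 : ∀ i, i < 61822 → P i := stepQ 61821 Q61821 (allL N61821 (tt N74271 (iv1 F227210)) (tt N33062 (iv0 D115293)) (tt N74270 (iv2 F422546)) (tt N98843 D201964) (tt N98844 D201965) (tt N92477 F397124) (tt N98845 D201966) (tt N74269 F422543))
theorem Q61823 : ∀ i, i < 61823 → P i := stepQ 61822 Q61822 (allL N61822 (tt N33062 (iv1 D115294)) (tt N74271 F227212) (tt N74269 (iv2 F422544)) (tt N98846 D201967) (tt N73409 F330602) (tt N92478 (iv5 F397120)) (tt N98847 D201968) (tt N74270 (iv7 F422547)))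
theorem Q61824 : ∀ i, i < 61824 → P i := stepQ 61823 Q61823 (allL N61823 (tt N74270 (iv1 F227211)) (tt N74269 F227206) (tt N33062 (iv2 D115295)) (tt N58397 F179559) (tt N33084 F179560) (tt N96842 (iv5 F414220)) (tt N98848 D201969) (tt N74271 (iv7 F227209)))
theorem Q61825 : ∀ i, i < 61825 → P i := stepQ 61824 Q61824 (allL N61824 (tt N98849 D201970) (tt N98850 D201971) (tt N98848 (iv2 F422558)) (tt N33063 F179561) (tt N33086 F179562) (tt N98851 D201972) (tt N33062 (iv6 D115296)) (tt N74362 (iv7 F227548)))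
theorem Q61826 : ∀ i, i < 61826 → P i := stepQ 61825 Q61825 (allL N61825 (tt N74372 (iv1 F227608)) (tt N94328 (iv0 F404058)) (tt N58399 F179563) (tt N98851 (iv3 F422564)) (tt N98852 D201973) (tt N33063 (iv5 D115297)) (tt N96845 (iv6 F414232)) (tt N74363 (iv7 F227549)))
theorem Q61827 : ∀ i, i < 61827 → P i := stepQ 61826 Q61826 (allL N61826 (tt N62160 F180046) (tt N57168 (iv0 F209165)) (tt N40145 F179564) (tt N56932 F179565) (tt N92371 (iv4 F396844)) (tt N68120 (iv5 F209163)) (tt N33065 (iv6 D115298)) (tt N68120 (iv7 F209164)))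
theorem Q61828 : ∀ i, i < 61828 → P i := stepQ 61827 Q61827 (allL N61827 (tt N93489 (iv1 F400900)) (tt N33067 (iv0 D115299)) (tt N93488 (iv2 F415019)) (tt N72959 F223657) (tt N98853 D201974) (tt N97413 (iv5 F416779)) (tt N98854 D201975) (tt N93487 (iv7 F415021)))
theorem Q61829 : ∀ i, i < 61829 → P i := stepQ 61828 Q61828 (allL N61828 (tt N33067 (iv1 D115300)) (tt N93489 F400901) (tt N93487 F415020) (tt N93542 F402270) (tt N98855 D201976) (tt N97414 (iv5 F416785)) (tt N98856 D201977) (tt N93488 F415018))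
theorem Q61830 : ∀ i, i < 61830 → P i := stepQ 61829 Q61829 (allL N61829 (tt N93488 F400893) (tt N93487 F400888) (tt N33067 (iv2 D115301)) (tt N40160 F179566) (tt N39419 F179567) (tt N98857 D201978) (tt N98858 D201979) (tt N93489 (iv7 F400899)))
theorem Q61831 : ∀ i, i < 61831 → P i := stepQ 61830 Q61830 (allL N61830 (tt N61800 (iv1 F364948)) (tt N61805 F364942) (tt N98857 (iv2 F422593)) (tt N33068 F179568) (tt N57005 (iv4 F364941)) (tt N33067 (iv5 D115302)) (tt N98859 D201980) (tt N62046 (iv7 F179879)))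
theorem Q61832 : ∀ i, i < 61832 → P i := stepQ 61831 Q61831 (allL N61831 (tt N98860 D201981) (tt N98861 D201982) (tt N98858 (iv2 F422599)) (tt N33069 F179569) (tt N39420 F179570) (tt N81935 (iv5 F383972)) (tt N33067 (iv6 D115303)) (tt N98862 D201983))
theorem Q61833 : ∀ i, i < 61833 → P i := stepQ 61832 Q61832 (allL N61832 (tt N98863 D201984) (tt N98864 D201985) (tt N40163 F179571) (tt N98859 (iv3 F422602)) (tt N60088 F179572) (tt N98865 D201986) (tt N33068 (iv6 D115304)) (tt N81119 (iv7 F350651)))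
theorem Q61834 : ∀ i, i < 61834 → P i := stepQ 61833 Q61833 (allL N61833 (tt N40167 (iv1 F179578)) (tt N33069 (iv0 D115305)) (tt N40164 F182851) (tt N62128 F362476) (tt N41214 (iv4 F179580)) (tt N83540 (iv5 F359522)) (tt N98866 D201987) (tt N40165 (iv7 F182852)))
theorem Q61835 : ∀ i, i < 61835 → P i := stepQ 61834 Q61834 (allL N61834 (tt N33069 (iv1 D115306)) (tt N40167 F179573) (tt N40165 (iv2 F182854)) (tt N98867 D201988) (tt N72920 (iv4 F223588)) (tt N83539 (iv5 F359526)) (tt N62123 (iv6 F330584)) (tt N40164 F182853))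
theorem Q61836 : ∀ i, i < 61836 → P i := stepQ 61835 Q61835 (allL N61835 (tt N98868 D201989) (tt N44254 F179575) (tt N40166 F179574) (tt N81935 F383970) (tt N88720 (iv4 F383966)) (tt N33069 (iv5 D115307)) (tt N98865 (iv6 F422618)) (tt N98869 D201990))
theorem Q61837 : ∀ i, i < 61837 → P i := stepQ 61836 Q61836 (allL N61836 (tt N40165 (iv1 F179579)) (tt N40164 F179582) (tt N40167 F179576) (tt N98862 (iv3 F422604)) (tt N33072 F179577) (tt N98869 (iv5 F422638)) (tt N77815 (iv6 F245048)) (tt N33069 (iv7 D115308)))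
theorem Q61838 : ∀ i, i < 61838 → P i := stepQ 61837 Q61837 (allL N61837 (tt N77904 (iv1 F245262)) (tt N33078 (iv0 F179585)) (tt N40169 F179583) (tt N98870 D201991) (tt N33070 (iv4 D115309)) (tt N83537 F359528) (tt N62168 (iv6 F180051)) (tt N40172 F179584))
theorem Q61839 : ∀ i, i < 61839 → P i := stepQ 61838 Q61838 (allL N61838 (tt N33078 F179589) (tt N77904 F245261) (tt N40172 F179587) (tt N98871 D201992) (tt N33071 (iv4 D115310)) (tt N83534 F359521) (tt N70747 (iv6 F218246)) (tt N40169 F179588))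
theorem Q61840 : ∀ i, i < 61840 → P i := stepQ 61839 Q61839 (allL N61839 (tt N40160 (iv1 F179590)) (tt N33073 (iv0 D115311)) (tt N40159 (iv2 F179596)) (tt N98872 D201993) (tt N40264 (iv4 F179591)) (tt N33187 (iv5 F179940)) (tt N43221 F322284) (tt N40158 (iv7 F179598)))
theorem Q61841 : ∀ i, i < 61841 → P i := stepQ 61840 Q61840 (allL N61840 (tt N33073 (iv1 D115312)) (tt N40160 F179594) (tt N40158 F179597) (tt N78036 (iv3 F404277)) (tt N40214 (iv4 F179592)) (tt N33188 (iv5 F179595)) (tt N73204 (iv6 F339862)) (tt N40159 F179593))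
theorem Q61842 : ∀ i, i < 61842 → P i := stepQ 61841 Q61841 (allL N61841 (tt N40159 (iv1 F179604)) (tt N40158 F179603) (tt N33073 (iv2 D115313)) (tt N93489 (iv3 F400896)) (tt N33240 F179601) (tt N62085 (iv5 F179989)) (tt N98873 D201994) (tt N40160 F179602))
theorem Q61843 : ∀ i, i < 61843 → P i := stepQ 61842 Q61842 (allL N61842 (tt N62086 (iv1 F181964)) (tt N62073 F181963) (tt N62085 F179990) (tt N33074 F179605) (tt N98874 D201995) (tt N33073 (iv5 D115314)) (tt N98875 D201996) (tt N40161 F179606))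
theorem Q61844 : ∀ i, i < 61844 → P i := stepQ 61843 Q61843 (allL N61843 (tt N98876 D201997) (tt N98877 D201998) (tt N98873 (iv2 F422653)) (tt N33075 F179607) (tt N33241 F179608) (tt N98878 D201999) (tt N33073 (iv6 D115315)) (tt N77909 (iv7 F245275)))
theorem Q61845 : ∀ i, i < 61845 → P i := stepQ 61844 Q61844 (allL N61844 (tt N44261 F347956) (tt N98879 D202000) (tt N62047 (iv2 F179880)) (tt N98875 (iv3 F422664)) (tt N34386 F347896) (tt N98880 D202001) (tt N33074 (iv6 D115316)) (tt N77752 (iv7 F350659)))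
theorem Q61846 : ∀ i, i < 61846 → P i := stepQ 61845 Q61845 (allL N61845 (tt N77815 (iv1 F245051)) (tt N33075 (iv0 D115317)) (tt N57552 (iv2 F179612)) (tt N78007 (iv3 F245556)) (tt N38463 F179610) (tt N83387 F359543) (tt N37418 F179611) (tt N77908 (iv7 F245271)))
theorem Q61847 : ∀ i, i < 61847 → P i := stepQ 61846 Q61846 (allL N61846 (tt N33075 (iv1 D115318)) (tt N77815 (iv0 F245050)) (tt N77908 F245269) (tt N98881 D202002) (tt N41119 (iv4 F179614)) (tt N83386 F359545) (tt N77886 F245231) (tt N57552 F179613))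
theorem Q61848 : ∀ i, i < 61848 → P i := stepQ 61847 Q61847 (allL N61847 (tt N76845 (iv1 F361010)) (tt N83327 F359539) (tt N77912 (iv2 F245279)) (tt N98878 (iv3 F422677)) (tt N83042 F359536) (tt N33075 (iv5 D115319)) (tt N98880 (iv6 F422683)) (tt N77910 (iv7 F245276)))
theorem Q61849 : ∀ i, i < 61849 → P i := stepQ 61848 Q61848 (allL N61848 (tt N74081 (iv1 F226787)) (tt N33076 (iv0 D115320)) (tt N74080 (iv2 F392462)) (tt N98882 D202003) (tt N98883 D202004) (tt N94393 F404258) (tt N98884 D202005) (tt N74079 F392461))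
theorem Q61850 : ∀ i, i < 61850 → P i := stepQ 61849 Q61849 (allL N61849 (tt N33076 (iv1 D115321)) (tt N74081 F226789) (tt N74079 F392457) (tt N98885 D202006) (tt N74137 (iv4 F226852)) (tt N94396 F404265) (tt N91466 (iv6 F393248)) (tt N74080 (iv7 F392460)))
theorem Q61851 : ∀ i, i < 61851 → P i := stepQ 61850 Q61850 (allL N61850 (tt N74080 (iv1 F226788)) (tt N74079 F226783) (tt N33076 (iv2 D115322)) (tt N93492 (iv3 F400905)) (tt N62626 (iv4 F182865)) (tt N61976 (iv5 F423188)) (tt N98886 D202008) (tt N74081 (iv7 F226786)))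
theorem Q61852 : ∀ i, i < 61852 → P i := stepQ 61851 Q61851 (allL N61851 (tt N61972 (iv1 F355427)) (tt N61977 (iv0 F355425)) (tt N61976 (iv2 F423186)) (tt N33077 F179615) (tt N98887 D202009) (tt N33076 (iv5 D115323)) (tt N98888 D202010) (tt N61975 (iv7 F365077)))
theorem Q61853 : ∀ i, i < 61853 → P i := stepQ 61852 Q61852 (allL N61852 (tt N98889 D202011) (tt N98890 D202012) (tt N98886 (iv2 F422697)) (tt N33078 F179616) (tt N62628 (iv4 F182873)) (tt N98891 D202013) (tt N33076 (iv6 D115324)) (tt N98892 D202014))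
theorem Q61854 : ∀ i, i < 61854 → P i := stepQ 61853 Q61853 (allL N61853 (tt N82044 F415321) (tt N98893 D202015) (tt N61980 (iv2 F179774)) (tt N98888 (iv3 F422704)) (tt N60069 F179617) (tt N98894 D202016) (tt N33077 (iv6 D115325)) (tt N98895 D202017))
theorem Q61855 : ∀ i, i < 61855 → P i := stepQ 61854 Q61854 (allL N61854 (tt N88990 (iv1 F384693)) (tt N44226 F179618) (tt N93494 (iv2 F400922)) (tt N98891 (iv3 F422708)) (tt N83033 F369580) (tt N33078 (iv5 D115326)) (tt N98894 (iv6 F422712)) (tt N98896 D202018))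
theorem Q61856 : ∀ i, i < 61856 → P i := stepQ 61855 Q61855 (allL N61855 (tt N40172 (iv1 F179619)) (tt N40169 F179620) (tt N77904 (iv2 F245259)) (tt N98892 (iv3 F422709)) (tt N62623 (iv4 F182859)) (tt N98896 (iv5 F422717)) (tt N74085 (iv6 F226800)) (tt N33078 (iv7 D115327)))
theorem Q61857 : ∀ i, i < 61857 → P i := stepQ 61856 Q61856 (allL N61856 (tt N93492 (iv1 F400909)) (tt N33079 (iv0 D115328)) (tt N93491 F400911) (tt N40176 F179621) (tt N73107 (iv4 F223818)) (tt N98897 D202019) (tt N43370 F322283) (tt N93490 F400904))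
theorem Q61858 : ∀ i, i < 61858 → P i := stepQ 61857 Q61857 (allL N61857 (tt N33079 (iv1 D115329)) (tt N93492 F400915) (tt N93490 (iv2 F400914)) (tt N98898 D202020) (tt N72939 (iv4 F223640)) (tt N98899 D202021) (tt N98900 D202022) (tt N93491 F400913))
theorem Q61859 : ∀ i, i < 61859 → P i := stepQ 61858 Q61858 (allL N61858 (tt N93491 (iv1 F400910)) (tt N93490 F400903) (tt N33079 (iv2 D115330)) (tt N74081 (iv3 F226784)) (tt N40362 F179622) (tt N98901 D202023) (tt N94988 (iv6 F406590)) (tt N93492 (iv7 F400908)))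
theorem Q61860 : ∀ i, i < 61860 → P i := stepQ 61859 Q61859 (allL N61859 (tt N54676 (iv1 F360845)) (tt N70997 F391261) (tt N98901 (iv2 F422728)) (tt N33080 F179623) (tt N98902 D202024) (tt N33079 (iv5 D115331)) (tt N98903 D202025) (tt N61979 (iv7 F179773)))
theorem Q61861 : ∀ i, i < 61861 → P i := stepQ 61860 Q61860 (allL N61860 (tt N94696 (iv1 F405575)) (tt N94991 F406579) (tt N94988 (iv2 F406589)) (tt N33081 F179624) (tt N40364 F179625) (tt N98904 D202026) (tt N33079 (iv6 D115332)) (tt N77902 (iv7 F245257)))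
theorem Q61862 : ∀ i, i < 61862 → P i := stepQ 61861 Q61861 (allL N61861 (tt N34269 F346465) (tt N77749 F346466) (tt N61978 (iv2 F179770)) (tt N98903 (iv3 F422739)) (tt N60078 F179626) (tt N98905 D202027) (tt N33080 (iv6 D115333)) (tt N77754 (iv7 F354575)))
theorem Q61863 : ∀ i, i < 61863 → P i := stepQ 61862 Q61862 (allL N61862 (tt N76831 F359529) (tt N83323 (iv0 F339545)) (tt N74084 (iv2 F226797)) (tt N98904 (iv3 F422740)) (tt N53494 F363752) (tt N33081 (iv5 D115334)) (tt N98905 (iv6 F422742)) (tt N77903 (iv7 F245258)))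
theorem Q61864 : ∀ i, i < 61864 → P i := stepQ 61863 Q61863 (allL N61863 (tt N98898 (iv1 F422751)) (tt N98906 D202029) (tt N66301 (iv2 F203954)) (tt N33082 (iv3 D115337)) (tt N66225 F203713) (tt N98907 D202030) (tt N61884 (iv6 F422755)) (tt N66305 (iv7 F203958)))
theorem Q61865 : ∀ i, i < 61865 → P i := stepQ 61864 Q61864 (allL N61864 (tt N72710 F396954) (tt N98908 D202031) (tt N92357 F396817) (tt N98909 D202032) (tt N33082 (iv4 D115338)) (tt N98910 D202033) (tt N98911 D202034) (tt N98774 (iv7 F422266)))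
theorem Q61866 : ∀ i, i < 61866 → P i := stepQ 61865 Q61865 (allL N61865 (tt N61971 (iv1 F330603)) (tt N61776 F330606) (tt N61974 F360637) (tt N98907 (iv3 F422752)) (tt N40627 F330607) (tt N33082 (iv5 D115339)) (tt N98912 D202035) (tt N61973 (iv7 F349434)))
theorem Q61867 : ∀ i, i < 61867 → P i := stepQ 61866 Q61866 (allL N61866 (tt N98913 D202036) (tt N98871 (iv0 F422838)) (tt N98776 (iv2 F422276)) (tt N61884 F422757) (tt N98911 (iv4 F422764)) (tt N98914 D202038) (tt N33082 (iv6 D115340)) (tt N98915 D202039))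
theorem Q61868 : ∀ i, i < 61868 → P i := stepQ 61867 Q61867 (allL N61867 (tt N98916 D202040) (tt N98882 F422688) (tt N71470 F422272) (tt N33083 (iv3 D115342)) (tt N71469 (iv4 F422273)) (tt N98917 D202041) (tt N98918 D202042) (tt N98775 (iv7 F422269)))
theorem Q61869 : ∀ i, i < 61869 → P i := stepQ 61868 Q61868 (allL N61868 (tt N98908 (iv1 F422761)) (tt N72710 (iv0 F222997)) (tt N98774 (iv2 F422265)) (tt N92293 (iv3 F396604)) (tt N33083 (iv4 D115343)) (tt N98919 D202043) (tt N94242 F422785) (tt N92357 (iv7 F396815)))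
theorem Q61870 : ∀ i, i < 61870 → P i := stepQ 61869 Q61869 (allL N61869 (tt N61776 (iv1 F360641)) (tt N61971 F360642) (tt N61973 (iv2 F349433)) (tt N98917 (iv3 F422775)) (tt N98920 D202044) (tt N33083 (iv5 D115344)) (tt N34268 F349439) (tt N61974 (iv7 F360640)))
theorem Q61871 : ∀ i, i < 61871 → P i := stepQ 61870 Q61870 (allL N61870 (tt N77813 F360643) (tt N77901 F360644) (tt N77899 (iv2 F349437)) (tt N98918 (iv3 F422781)) (tt N94242 (iv4 F422786)) (tt N98921 D202045) (tt N33083 (iv6 D115345)) (tt N77898 (iv7 F463007)))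
theorem Q61872 : ∀ i, i < 61872 → P i := stepQ 61871 Q61871 (allL N61871 (tt N95798 (iv1 F409705)) (tt N95797 F409701) (tt N33085 F179629) (tt N93497 (iv3 F400934)) (tt N68352 (iv4 F349430)) (tt N33084 (iv5 D115346)) (tt N72684 F349429) (tt N82093 F349431))
theorem Q61873 : ∀ i, i < 61873 → P i := stepQ 61872 Q61872 (allL N61872 (tt N98922 D202047) (tt N98923 D202048) (tt N33086 F179630) (tt N93498 (iv3 F400939)) (tt N98848 (iv4 F422560)) (tt N98924 D202049) (tt N33084 (iv6 D115347)) (tt N98925 D202050))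
theorem Q61874 : ∀ i, i < 61874 → P i := stepQ 61873 Q61873 (allL N61873 (tt N82093 F349440) (tt N33085 (iv0 D115348)) (tt N95798 (iv2 F409710)) (tt N98926 D202051) (tt N78126 F336249) (tt N33125 F336248) (tt N78125 F336250) (tt N95797 F409704))
theorem Q61875 : ∀ i, i < 61875 → P i := stepQ 61874 Q61874 (allL N61874 (tt N33085 (iv1 D115349)) (tt N82093 F360855) (tt N95797 F409702) (tt N98927 D202052) (tt N98928 D202053) (tt N33126 F360856) (tt N76833 F360857) (tt N95798 (iv7 F409706)))
theorem Q61876 : ∀ i, i < 61876 → P i := stepQ 61875 Q61875 (allL N61875 (tt N98929 D202054) (tt N98930 D202055) (tt N72684 (iv2 F349399)) (tt N33089 F179632) (tt N72679 F349398) (tt N98931 D202056) (tt N33085 (iv6 D115351)) (tt N72682 (iv7 F349400)))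
theorem Q61877 : ∀ i, i < 61877 → P i := stepQ 61876 Q61876 (allL N61876 (tt N98925 (iv1 F422802)) (tt N33086 (iv0 D115352)) (tt N98922 (iv2 F438324)) (tt N98932 D202058) (tt N98933 D202059) (tt N98934 D202060) (tt N77877 (iv6 F455214)) (tt N98923 (iv7 F438323)))
theorem Q61878 : ∀ i, i < 61878 → P i := stepQ 61877 Q61877 (allL N61877 (tt N33086 (iv1 D115353)) (tt N98925 F422801) (tt N98923 (iv2 F438322)) (tt N98935 D202063) (tt N98936 D202064) (tt N98937 D202065) (tt N98938 D202066) (tt N98922 (iv7 F438325)))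
theorem Q61879 : ∀ i, i < 61879 → P i := stepQ 61878 Q61878 (allL N61878 (tt N98939 D202067) (tt N98940 D202068) (tt N98924 (iv2 F422798)) (tt N33092 F179633) (tt N98941 D202069) (tt N33086 (iv5 D115354)) (tt N98931 (iv6 F422815)) (tt N98942 D202070))
theorem Q61880 : ∀ i, i < 61880 → P i := stepQ 61879 Q61879 (allL N61879 (tt N98923 (iv1 F422796)) (tt N98922 F422800) (tt N98925 (iv2 F422799)) (tt N33093 F179634) (tt N74362 (iv4 F227547)) (tt N98942 (iv5 F422823)) (tt N97213 (iv6 F415926)) (tt N33086 (iv7 D115355)))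
theorem Q61881 : ∀ i, i < 61881 → P i := stepQ 61880 Q61880 (allL N61880 (tt N94393 F404259) (tt N94396 (iv0 F404264)) (tt N71564 F336194) (tt N33087 (iv3 D115356)) (tt N59282 F336195) (tt N33122 F179635) (tt N44196 F336196) (tt N67148 (iv7 F206787)))
theorem Q61882 : ∀ i, i < 61882 → P i := stepQ 61881 Q61881 (allL N61881 (tt N97416 (iv1 F416800)) (tt N82080 F351353) (tt N93508 (iv2 F400975)) (tt N44196 F336198) (tt N57299 F179636) (tt N44221 F336199) (tt N33087 (iv6 D115357)) (tt N60214 F336200))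
theorem Q61883 : ∀ i, i < 61883 → P i := stepQ 61882 Q61882 (allL N61882 (tt N98897 (iv1 F422723)) (tt N98899 (iv0 F422726)) (tt N98943 D202071) (tt N33088 (iv3 D115358)) (tt N96242 (iv4 F411708)) (tt N33124 F179637) (tt N96248 (iv6 F411733)) (tt N93507 (iv7 F400974)))
theorem Q61884 : ∀ i, i < 61884 → P i := stepQ 61883 Q61883 (allL N61883 (tt N76828 (iv1 F365960)) (tt N98944 D202072) (tt N67149 (iv2 F206788)) (tt N96248 (iv3 F411732)) (tt N60059 F179638) (tt N77876 (iv5 F245197)) (tt N33088 (iv6 D115359)) (tt N98945 D202073))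
theorem Q61885 : ∀ i, i < 61885 → P i := stepQ 61884 Q61884 (allL N61884 (tt N93512 (iv1 F400988)) (tt N33089 (iv0 D115360)) (tt N93509 (iv2 F422756)) (tt N61866 (iv3 F422757)) (tt N98946 D202074) (tt N98947 D202075) (tt N61863 F422755) (tt N93510 (iv7 F422759)))
theorem Q61886 : ∀ i, i < 61886 → P i := stepQ 61885 Q61885 (allL N61885 (tt N33089 (iv1 D115361)) (tt N93512 F400985) (tt N93510 F422760) (tt N98948 D202076) (tt N98949 D202077) (tt N98950 D202078) (tt N98951 D202079) (tt N93509 F422758))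
theorem Q61887 : ∀ i, i < 61887 → P i := stepQ 61886 Q61886 (allL N61886 (tt N98952 D202080) (tt N98953 D202081) (tt N93511 (iv2 F400979)) (tt N98931 (iv3 F422814)) (tt N98954 D202082) (tt N33089 (iv5 D115362)) (tt N33092 F179639) (tt N98955 D202083))
theorem Q61888 : ∀ i, i < 61888 → P i := stepQ 61887 Q61887 (allL N61887 (tt N93510 (iv1 F400978)) (tt N93509 F400984) (tt N93512 (iv2 F400982)) (tt N72682 F349401) (tt N60099 F179640) (tt N98955 (iv5 F422852)) (tt N95801 (iv6 F409723)) (tt N33089 (iv7 D115363)))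
theorem Q61889 : ∀ i, i < 61889 → P i := stepQ 61888 Q61888 (allL N61888 (tt N91464 F393244) (tt N91466 (iv0 F393250)) (tt N98956 D202084) (tt N33090 (iv3 D115364)) (tt N74051 (iv4 F226726)) (tt N98957 D202085) (tt N77881 (iv6 F245202)) (tt N74199 (iv7 F226969)))
theorem Q61890 : ∀ i, i < 61890 → P i := stepQ 61889 Q61889 (allL N61889 (tt N44243 F179641) (tt N71558 F220182) (tt N71555 F220178) (tt N98957 (iv3 F422858)) (tt N98958 D202086) (tt N33090 (iv5 D115365)) (tt N98958 (iv6 F423450)) (tt N71554 F220175))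
theorem Q61891 : ∀ i, i < 61891 → P i := stepQ 61890 Q61890 (allL N61890 (tt N43370 F366268) (tt N98959 D202088) (tt N98960 D202089) (tt N33091 (iv3 D115366)) (tt N93262 (iv4 F400181)) (tt N98961 D202090) (tt N98962 D202091) (tt N93513 (iv7 F400991)))
theorem Q61892 : ∀ i, i < 61892 → P i := stepQ 61891 Q61891 (allL N61891 (tt N71558 (iv1 F220183)) (tt N44243 F179642) (tt N71554 F220174) (tt N98961 (iv3 F422867)) (tt N98963 D202092) (tt N33091 (iv5 D115367)) (tt N98964 D202093) (tt N71555 (iv7 F220176)))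
theorem Q61893 : ∀ i, i < 61893 → P i := stepQ 61892 Q61892 (allL N61892 (tt N62165 (iv1 F245208)) (tt N62168 F226988) (tt N74200 (iv2 F226970)) (tt N98962 (iv3 F422868)) (tt N66269 (iv4 F203873)) (tt N98965 D202094) (tt N33091 (iv6 D115368)) (tt N77883 (iv7 F245206)))
theorem Q61894 : ∀ i, i < 61894 → P i := stepQ 61893 Q61893 (allL N61893 (tt N93515 (iv1 F400999)) (tt N33092 (iv0 D115369)) (tt N77949 (iv2 F245399)) (tt N98966 D202095) (tt N98967 D202096) (tt N39498 F201768) (tt N98968 D202097) (tt N77952 (iv7 F245409)))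
theorem Q61895 : ∀ i, i < 61895 → P i := stepQ 61894 Q61894 (allL N61894 (tt N33092 (iv1 D115370)) (tt N93515 F400998) (tt N77952 (iv2 F245408)) (tt N98969 D202098) (tt N98970 D202099) (tt N39499 F179643) (tt N98971 D202100) (tt N77949 (iv7 F245400)))
theorem Q61896 : ∀ i, i < 61896 → P i := stepQ 61895 Q61895 (allL N61895 (tt N98972 D202101) (tt N98973 D202102) (tt N93514 (iv2 F400995)) (tt N98974 D202103) (tt N33092 (iv4 D115371)) (tt N98975 D202104) (tt N98954 (iv6 F422851)) (tt N98976 D202105))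
theorem Q61897 : ∀ i, i < 61897 → P i := stepQ 61896 Q61896 (allL N61896 (tt N77952 (iv1 F245411)) (tt N77949 (iv0 F245401)) (tt N93515 (iv2 F400996)) (tt N98942 (iv3 F422822)) (tt N98976 (iv4 F422887)) (tt N33093 F179644) (tt N98977 D202106) (tt N33092 (iv7 D115372)))
theorem Q61898 : ∀ i, i < 61898 → P i := stepQ 61897 Q61897 (allL N61897 (tt N33095 (iv1 F179647)) (tt N33094 (iv0 D115373)) (tt N40291 (iv2 F179646)) (tt N62144 (iv3 F357057)) (tt N36027 F179645) (tt N98978 D202107) (tt N40498 (iv6 F179649)) (tt N36024 F179648))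
theorem Q61899 : ∀ i, i < 61899 → P i := stepQ 61898 Q61898 (allL N61898 (tt N98979 D202108) (tt N98856 (iv0 F422590)) (tt N43222 F325052) (tt N33094 (iv3 D115374)) (tt N39489 F179650) (tt N98980 D202109) (tt N54662 (iv6 F327687)) (tt N71537 (iv7 F220151)))
theorem Q61900 : ∀ i, i < 61900 → P i := stepQ 61899 Q61899 (allL N61899 (tt N44263 F179652) (tt N98981 D202110) (tt N40292 F179651) (tt N98980 (iv3 F422897)) (tt N72832 (iv4 F362131)) (tt N33094 (iv5 D115375)) (tt N72831 F362129) (tt N71538 (iv7 F220153)))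
theorem Q61901 : ∀ i, i < 61901 → P i := stepQ 61900 Q61900 (allL N61900 (tt N98981 (iv1 F422898)) (tt N44263 F179656) (tt N71538 (iv2 F220152)) (tt N43383 F323322) (tt N98982 D202111) (tt N33095 (iv5 D115377)) (tt N98983 D202112) (tt N40292 F179655))
theorem Q61902 : ∀ i, i < 61902 → P i := stepQ 61901 Q61901 (allL N61901 (tt N98984 D202113) (tt N98866 F422626) (tt N71539 (iv2 F220154)) (tt N43384 F321403) (tt N33096 F179657) (tt N98985 D202114) (tt N33095 (iv6 D115378)) (tt N74002 (iv7 F226556)))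
theorem Q61903 : ∀ i, i < 61903 → P i := stepQ 61902 Q61902 (allL N61902 (tt N39339 (iv1 F179661)) (tt N39102 F179660) (tt N39320 F179658) (tt N98986 D202115) (tt N33097 (iv4 D115379)) (tt N98987 D202116) (tt N98988 D202117) (tt N39322 F179659))
theorem Q61904 : ∀ i, i < 61904 → P i := stepQ 61903 Q61903 (allL N61903 (tt N38848 F179666) (tt N38846 (iv0 F179667)) (tt N39321 F179662) (tt N39496 F179663) (tt N98988 (iv4 F422938)) (tt N38222 F179664) (tt N33097 (iv6 D115380)) (tt N39163 F179665))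
theorem Q61905 : ∀ i, i < 61905 → P i := stepQ 61904 Q61904 (allL N61904 (tt N39319 (iv1 F179678)) (tt N33098 (iv0 D115381)) (tt N39316 F179681) (tt N98989 D202118) (tt N65455 (iv4 F201763)) (tt N39484 (iv5 F201767)) (tt N98990 D202119) (tt N39317 F179680))
theorem Q61906 : ∀ i, i < 61906 → P i := stepQ 61905 Q61905 (allL N61905 (tt N98991 D202120) (tt N98992 D202121) (tt N98993 D202122) (tt N33098 (iv3 D115383)) (tt N57396 F179672) (tt N98994 D202123) (tt N33101 F179673) (tt N98995 D202124))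
theorem Q61907 : ∀ i, i < 61907 → P i := stepQ 61906 Q61906 (allL N61906 (tt N70919 (iv1 F218764)) (tt N70917 (iv0 F218759)) (tt N39318 F179674) (tt N98994 (iv3 F422973)) (tt N98996 D202125) (tt N33098 (iv5 D115384)) (tt N98997 D202126) (tt N71511 (iv7 F220130)))
theorem Q61908 : ∀ i, i < 61908 → P i := stepQ 61907 Q61907 (allL N61907 (tt N39317 (iv1 F179679)) (tt N39316 F179683) (tt N39319 F179675) (tt N98995 (iv3 F422976)) (tt N33099 F179676) (tt N71511 (iv5 F220131)) (tt N39305 F179677) (tt N33098 (iv7 D115385)))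
theorem Q61909 : ∀ i, i < 61909 → P i := stepQ 61908 Q61908 (allL N61908 (tt N40021 F179686) (tt N96286 (iv0 F411884)) (tt N98998 D202127) (tt N33100 (iv3 D115386)) (tt N39923 F179684) (tt N92285 (iv5 F396574)) (tt N98999 D202128) (tt N39293 F179685))
theorem Q61910 : ∀ i, i < 61910 → P i := stepQ 61909 Q61909 (allL N61909 (tt N39213 (iv1 F179690)) (tt N39210 F179691) (tt N39292 F179687) (tt N98999 (iv3 F422989)) (tt N37794 F179688) (tt N76086 (iv5 F362714)) (tt N33100 (iv6 D115387)) (tt N39152 F179689))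
theorem Q61911 : ∀ i, i < 61911 → P i := stepQ 61910 Q61910 (allL N61910 (tt N39296 (iv1 F179692)) (tt N33101 (iv0 D115388)) (tt N39295 F344843) (tt N94286 (iv3 F403964)) (tt N82223 F344844) (tt N90701 (iv5 F390561)) (tt N39166 F344845) (tt N39294 F344846))
theorem Q61912 : ∀ i, i < 61912 → P i := stepQ 61911 Q61911 (allL N61911 (tt N33101 (iv1 D115389)) (tt N39296 F179697) (tt N39294 F344848) (tt N64859 F344849) (tt N81807 F344850) (tt N64854 F344851) (tt N54338 (iv6 F354495)) (tt N39295 F344852))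
theorem Q61913 : ∀ i, i < 61913 → P i := stepQ 61912 Q61912 (allL N61912 (tt N39295 (iv1 F179698)) (tt N39294 F179696) (tt N33101 (iv2 D115390)) (tt N39312 F179693) (tt N57395 F179694) (tt N99000 D202129) (tt N98993 (iv6 F422964)) (tt N39296 F179695))
theorem Q61914 : ∀ i, i < 61914 → P i := stepQ 61913 Q61913 (allL N61913 (tt N71123 F346458) (tt N71127 F354217) (tt N99000 (iv2 F422994)) (tt N33102 F179699) (tt N84049 (iv4 F367922)) (tt N33101 (iv5 D115391)) (tt N99001 D202130) (tt N39297 F179700))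
theorem Q61915 : ∀ i, i < 61915 → P i := stepQ 61914 Q61914 (allL N61914 (tt N90038 F388378) (tt N90092 F388541) (tt N39315 F179701) (tt N99001 (iv3 F423000)) (tt N37927 F179702) (tt N98997 (iv5 F422983)) (tt N33102 (iv6 D115392)) (tt N90090 (iv7 F388535)))
theorem Q61916 : ∀ i, i < 61916 → P i := stepQ 61915 Q61915 (allL N61915 (tt N98885 F422693) (tt N99002 D202131) (tt N61985 (iv2 F330563)) (tt N33103 (iv3 D115394)) (tt N72460 F222566) (tt N56993 (iv5 F330597)) (tt N99003 D202132) (tt N61987 F330599))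
theorem Q61917 : ∀ i, i < 61917 → P i := stepQ 61916 Q61916 (allL N61916 (tt N93883 (iv1 F402266)) (tt N93530 F401055) (tt N41486 F180679) (tt N93887 (iv3 F402283)) (tt N33103 (iv4 D115395)) (tt N93572 (iv5 F401189)) (tt N99004 D202133) (tt N93495 (iv7 F400929)))
theorem Q61918 : ∀ i, i < 61918 → P i := stepQ 61917 Q61917 (allL N61917 (tt N62005 F180737) (tt N56990 F180738) (tt N62007 (iv2 F182526)) (tt N56993 F330598) (tt N62351 F364943) (tt N33103 (iv5 D115396)) (tt N71548 (iv6 F365193)) (tt N61986 (iv7 F365192)))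
theorem Q61919 : ∀ i, i < 61919 → P i := stepQ 61918 Q61918 (allL N61918 (tt N77893 F351549) (tt N77897 F351550) (tt N77895 F366112) (tt N99003 (iv3 F423004)) (tt N99004 (iv4 F423007)) (tt N99005 D202134) (tt N33103 (iv6 D115397)) (tt N77894 (iv7 F472737)))
theorem Q61920 : ∀ i, i < 61920 → P i := stepQ 61919 Q61919 (allL N61919 (tt N40174 F180705) (tt N40176 F180706) (tt N62302 (iv2 F180746)) (tt N33104 (iv3 D115399)) (tt N62301 (iv4 F180703)) (tt N62504 (iv5 F181936)) (tt N99006 D202136) (tt N72778 (iv7 F223191)))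
theorem Q61921 : ∀ i, i < 61921 → P i := stepQ 61920 Q61920 (allL N61920 (tt N56990 F180741) (tt N62005 F182531) (tt N61986 (iv2 F365190)) (tt N62504 F181937) (tt N99007 D202137) (tt N33104 (iv5 D115400)) (tt N99008 D202138) (tt N62007 (iv7 F182527)))
theorem Q61922 : ∀ i, i < 61922 → P i := stepQ 61921 Q61921 (allL N61921 (tt N98870 F422643) (tt N99009 D202139) (tt N93496 (iv2 F400932)) (tt N99006 (iv3 F423011)) (tt N93884 (iv4 F402273)) (tt N99010 D202140) (tt N33104 (iv6 D115401)) (tt N99011 D202141))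
theorem Q61923 : ∀ i, i < 61923 → P i := stepQ 61922 Q61922 (allL N61922 (tt N93500 (iv1 F400948)) (tt N93499 F400942) (tt N33106 F179705) (tt N82093 (iv3 F349442)) (tt N99012 D202142) (tt N33105 (iv5 D115402)) (tt N99013 D202143) (tt N93497 (iv7 F400935)))
theorem Q61924 : ∀ i, i < 61924 → P i := stepQ 61923 Q61923 (allL N61923 (tt N99014 D202144) (tt N77890 (iv0 F400954)) (tt N33107 F179706) (tt N97212 (iv3 F415920)) (tt N60032 F179707) (tt N99015 D202145) (tt N33105 (iv6 D115403)) (tt N99016 D202146))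
theorem Q61925 : ∀ i, i < 61925 → P i := stepQ 61924 Q61924 (allL N61924 (tt N93497 (iv1 F400936)) (tt N33106 (iv0 D115404)) (tt N93500 F400951) (tt N61938 (iv3 F359953)) (tt N73039 (iv4 F359954)) (tt N33143 F359951) (tt N61936 F359952) (tt N93499 F400945))
theorem Q61926 : ∀ i, i < 61926 → P i := stepQ 61925 Q61925 (allL N61925 (tt N33106 (iv1 D115405)) (tt N93497 F400937) (tt N93499 F400944) (tt N99017 D202147) (tt N99018 D202148) (tt N33144 F179708) (tt N99019 D202149) (tt N93500 (iv7 F400949)))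
theorem Q61927 : ∀ i, i < 61927 → P i := stepQ 61926 Q61926 (allL N61926 (tt N99020 D202150) (tt N99021 D202151) (tt N99012 (iv2 F423025)) (tt N95759 (iv3 F409496)) (tt N33106 (iv4 D115406)) (tt N99022 D202152) (tt N72845 F351863) (tt N93501 (iv7 F400956)))
theorem Q61928 : ∀ i, i < 61928 → P i := stepQ 61927 Q61927 (allL N61927 (tt N99023 D202153) (tt N99024 D202154) (tt N99013 (iv2 F423031)) (tt N33108 F179709) (tt N72845 (iv4 F351862)) (tt N99025 D202155) (tt N33106 (iv6 D115407)) (tt N99026 D202156))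
theorem Q61929 : ∀ i, i < 61929 → P i := stepQ 61928 Q61928 (allL N61928 (tt N99016 (iv1 F423045)) (tt N33107 (iv0 D115408)) (tt N99014 (iv2 F423038)) (tt N99027 D202157) (tt N99028 D202158) (tt N99029 D202159) (tt N99030 D202160) (tt N77890 (iv7 F423039)))
theorem Q61930 : ∀ i, i < 61930 → P i := stepQ 61929 Q61929 (allL N61929 (tt N33107 (iv1 D115409)) (tt N99016 F423044) (tt N77890 (iv2 F359949)) (tt N61937 (iv3 F351415)) (tt N96729 (iv4 F413643)) (tt N61936 F351416) (tt N77810 F359948) (tt N99014 F423037))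
theorem Q61931 : ∀ i, i < 61931 → P i := stepQ 61930 Q61930 (allL N61930 (tt N99031 D202161) (tt N99032 D202162) (tt N99015 (iv2 F423041)) (tt N33111 F179710) (tt N99033 D202163) (tt N33107 (iv5 D115410)) (tt N99025 (iv6 F423075)) (tt N99034 D202164))
theorem Q61932 : ∀ i, i < 61932 → P i := stepQ 61931 Q61931 (allL N61931 (tt N77890 (iv1 F400955)) (tt N99014 F423040) (tt N99016 (iv2 F423042)) (tt N33112 F179711) (tt N60036 F179712) (tt N99034 (iv5 F423097)) (tt N93506 (iv6 F400970)) (tt N33107 (iv7 D115411)))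
theorem Q61933 : ∀ i, i < 61933 → P i := stepQ 61932 Q61932 (allL N61932 (tt N95801 (iv1 F409725)) (tt N33108 (iv0 D115412)) (tt N95799 F409715) (tt N83717 F409582) (tt N81821 (iv4 F409581)) (tt N99035 D202165) (tt N99036 D202166) (tt N95800 (iv7 F409714)))
theorem Q61934 : ∀ i, i < 61934 → P i := stepQ 61933 Q61933 (allL N61933 (tt N33108 (iv1 D115413)) (tt N95801 F409724) (tt N95800 (iv2 F409717)) (tt N99037 D202167) (tt N99038 D202168) (tt N76822 (iv5 F359508)) (tt N76824 F423110) (tt N95799 F409716))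
theorem Q61935 : ∀ i, i < 61935 → P i := stepQ 61934 Q61934 (allL N61934 (tt N81715 F351561) (tt N78201 F351562) (tt N78220 (iv2 F351453)) (tt N99025 (iv3 F423074)) (tt N33449 F351563) (tt N33108 (iv5 D115414)) (tt N33111 F179713) (tt N78222 (iv7 F351564)))
theorem Q61936 : ∀ i, i < 61936 → P i := stepQ 61935 Q61935 (allL N61935 (tt N95800 (iv1 F409711)) (tt N95799 F409718) (tt N95801 (iv2 F409719)) (tt N99026 (iv3 F423081)) (tt N95762 (iv4 F409516)) (tt N78222 F351565) (tt N93512 (iv6 F400983)) (tt N33108 (iv7 D115415)))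
theorem Q61937 : ∀ i, i < 61937 → P i := stepQ 61936 Q61936 (allL N61936 (tt N99039 D202169) (tt N98900 (iv0 F423877)) (tt N97033 (iv2 F415117)) (tt N33109 (iv3 D115416)) (tt N40398 F179714) (tt N61929 (iv5 F351416)) (tt N61924 (iv6 F359952)) (tt N77874 F245187))
theorem Q61938 : ∀ i, i < 61938 → P i := stepQ 61937 Q61937 (allL N61937 (tt N62692 F351423) (tt N73206 (iv0 F351424)) (tt N76832 F351443) (tt N61929 F351415) (tt N81339 F351414) (tt N33109 (iv5 D115417)) (tt N81338 (iv6 F351417)) (tt N76833 (iv7 F351442)))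
theorem Q61939 : ∀ i, i < 61939 → P i := stepQ 61938 Q61938 (allL N61938 (tt N70747 (iv1 F218249)) (tt N70746 (iv0 F218243)) (tt N77870 (iv2 F245178)) (tt N61924 F359953) (tt N94217 (iv4 F403738)) (tt N61990 F179781) (tt N33109 (iv6 D115418)) (tt N77808 (iv7 F245029)))
theorem Q61940 : ∀ i, i < 61940 → P i := stepQ 61939 Q61939 (allL N61939 (tt N98884 (iv1 F423793)) (tt N99040 D202172) (tt N99041 D202173) (tt N33110 (iv3 D115419)) (tt N62670 (iv4 F182967)) (tt N99042 D202174) (tt N68094 (iv6 F209141)) (tt N98778 (iv7 F422285)))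
theorem Q61941 : ∀ i, i < 61941 → P i := stepQ 61940 Q61940 (allL N61940 (tt N73206 (iv1 F351426)) (tt N62692 F351425) (tt N76833 (iv2 F351438)) (tt N99042 (iv3 F423122)) (tt N76203 F351431) (tt N33110 (iv5 D115420)) (tt N95797 F409703) (tt N76832 F351444))
theorem Q61942 : ∀ i, i < 61942 → P i := stepQ 61941 Q61941 (allL N61941 (tt N98781 (iv1 F422299)) (tt N33111 (iv0 D115421)) (tt N98779 F422291) (tt N99043 D202175) (tt N73168 (iv4 F359947)) (tt N77928 F245335) (tt N76816 (iv6 F359509)) (tt N98780 F422289))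
theorem Q61943 : ∀ i, i < 61943 → P i := stepQ 61942 Q61942 (allL N61942 (tt N33111 (iv1 D115422)) (tt N98781 F422298) (tt N98780 F422288) (tt N99044 D202176) (tt N99045 D202177) (tt N96891 (iv5 F414468)) (tt N76776 F414470) (tt N98779 (iv7 F422292)))
theorem Q61944 : ∀ i, i < 61944 → P i := stepQ 61943 Q61943 (allL N61943 (tt N76256 F351427) (tt N76775 F351428) (tt N78221 (iv2 F359943)) (tt N99046 D202178) (tt N33111 (iv4 D115423)) (tt N73207 F351429) (tt N33449 F351430) (tt N99047 D202179))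
theorem Q61945 : ∀ i, i < 61945 → P i := stepQ 61944 Q61944 (allL N61944 (tt N98780 (iv1 F422286)) (tt N98779 F422293) (tt N98781 (iv2 F422294)) (tt N99034 (iv3 F423096)) (tt N99047 (iv4 F423136)) (tt N33112 F179715) (tt N99048 D202180) (tt N33111 (iv7 D115424)))
theorem Q61946 : ∀ i, i < 61946 → P i := stepQ 61945 Q61945 (allL N61945 (tt N33115 (iv1 F179718)) (tt N33113 (iv0 D115425)) (tt N40498 (iv2 F179717)) (tt N78014 F339884) (tt N58989 F179716) (tt N99049 D202181) (tt N40291 (iv6 F179720)) (tt N40157 F179719))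
theorem Q61947 : ∀ i, i < 61947 → P i := stepQ 61946 Q61946 (allL N61946 (tt N62123 (iv1 F330582)) (tt N61815 (iv0 F330575)) (tt N62035 (iv2 F330535)) (tt N73205 F360887) (tt N33114 F179724) (tt N61789 (iv5 F330519)) (tt N33113 (iv6 D115428)) (tt N37417 F179725))
theorem Q61948 : ∀ i, i < 61948 → P i := stepQ 61947 Q61947 (allL N61947 (tt N98854 F422582) (tt N99050 D202182) (tt N73244 F359211) (tt N33115 (iv3 D115429)) (tt N39577 F179726) (tt N99051 D202183) (tt N70752 F218268) (tt N98782 (iv7 F422302)))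
theorem Q61949 : ∀ i, i < 61949 → P i := stepQ 61948 Q61948 (allL N61948 (tt N73202 (iv1 F339859)) (tt N72644 (iv0 F351407)) (tt N40500 F179727) (tt N99051 (iv3 F423147)) (tt N62330 (iv4 F339854)) (tt N33115 (iv5 D115430)) (tt N82092 (iv6 F339858)) (tt N73203 F339856))
theorem Q61950 : ∀ i, i < 61950 → P i := stepQ 61949 Q61949 (allL N61949 (tt N55967 (iv1 F179728)) (tt N33116 (iv0 D115431)) (tt N55966 F360880) (tt N99052 D202184) (tt N82091 (iv4 F336242)) (tt N96841 (iv5 F414212)) (tt N99053 D202185) (tt N55965 (iv7 F360879)))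
theorem Q61951 : ∀ i, i < 61951 → P i := stepQ 61950 Q61950 (allL N61950 (tt N33116 (iv1 D115432)) (tt N55967 F179733) (tt N55965 (iv2 F360877)) (tt N73811 (iv3 F360859)) (tt N71559 F360862) (tt N73808 F360858) (tt N57527 (iv6 F360860)) (tt N55966 F360881))
theorem Q61952 : ∀ i, i < 61952 → P i := stepQ 61951 Q61951 (allL N61951 (tt N55966 (iv1 F179734)) (tt N55965 F179732) (tt N33116 (iv2 D115433)) (tt N55959 F179729) (tt N33127 F179730) (tt N96923 (iv5 F414630)) (tt N99054 D202186) (tt N55967 F179731))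
theorem Q61953 : ∀ i, i < 61953 → P i := stepQ 61952 Q61952 (allL N61952 (tt N99055 D202187) (tt N99056 D202188) (tt N99054 (iv2 F423160)) (tt N33117 F179735) (tt N33129 F179736) (tt N55990 (iv5 F360864)) (tt N33116 (iv6 D115434)) (tt N99057 D202189))
theorem Q61954 : ∀ i, i < 61954 → P i := stepQ 61953 Q61953 (allL N61953 (tt N33117 (iv1 D115435)) (tt N55964 F179737) (tt N55940 F179740) (tt N55981 (iv3 F336174)) (tt N55863 (iv4 F179739)) (tt N74275 F364301) (tt N99058 D202190) (tt N55938 F179738))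
theorem Q61955 : ∀ i, i < 61955 → P i := stepQ 61954 Q61954 (allL N61954 (tt N55940 (iv1 F179745)) (tt N55938 F179746) (tt N55964 F179742) (tt N99057 (iv3 F423169)) (tt N33121 F179743) (tt N70975 (iv5 F347219)) (tt N55972 F179744) (tt N33117 (iv7 D115437)))
theorem Q61956 : ∀ i, i < 61956 → P i := stepQ 61955 Q61955 (allL N61955 (tt N70346 F217255) (tt N98714 (iv0 F421983)) (tt N92884 (iv2 F398641)) (tt N40522 F179747) (tt N72082 (iv4 F360486)) (tt N33118 (iv5 D115438)) (tt N39609 F179748) (tt N40569 F179749))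
theorem Q61957 : ∀ i, i < 61957 → P i := stepQ 61956 Q61956 (allL N61956 (tt N98714 F421984) (tt N70346 (iv0 F217254)) (tt N40569 F179750) (tt N56730 F179751) (tt N99059 D202191) (tt N33119 (iv5 D115439)) (tt N38938 F179752) (tt N92884 (iv7 F398644)))
theorem Q61958 : ∀ i, i < 61958 → P i := stepQ 61957 Q61957 (allL N61957 (tt N70019 F217256) (tt N71080 (iv0 F219411)) (tt N40570 F179753) (tt N93090 (iv3 F399436)) (tt N92426 (iv4 F396981)) (tt N70563 (iv5 F217834)) (tt N33119 (iv6 D115440)) (tt N71372 (iv7 F219985)))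
theorem Q61959 : ∀ i, i < 61959 → P i := stepQ 61958 Q61958 (allL N61958 (tt N67147 (iv1 F206783)) (tt N33122 (iv0 D115441)) (tt N67146 F224182) (tt N39195 F179754) (tt N89304 (iv4 F386002)) (tt N99060 D202192) (tt N89300 (iv6 F385987)) (tt N67145 (iv7 F224181)))
theorem Q61960 : ∀ i, i < 61960 → P i := stepQ 61959 Q61959 (allL N61959 (tt N33122 (iv1 D115442)) (tt N67147 F206785) (tt N67145 (iv2 F224183)) (tt N33135 F330552) (tt N97286 (iv4 F416218)) (tt N33129 F330553) (tt N33417 F330556) (tt N67146 F224184))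
theorem Q61961 : ∀ i, i < 61961 → P i := stepQ 61960 Q61960 (allL N61960 (tt N67146 (iv1 F206784)) (tt N67145 F206778) (tt N33122 (iv2 D115443)) (tt N93625 (iv3 F401323)) (tt N62610 (iv4 F182822)) (tt N71564 F336217) (tt N71565 (iv6 F336218)) (tt N67147 (iv7 F206782)))
theorem Q61962 : ∀ i, i < 61962 → P i := stepQ 61961 Q61961 (allL N61961 (tt N99061 D202193) (tt N99062 D202194) (tt N71565 F336201) (tt N33123 F179755) (tt N62612 (iv4 F182829)) (tt N44222 F336202) (tt N33122 (iv6 D115444)) (tt N61962 (iv7 F336206)))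
theorem Q61963 : ∀ i, i < 61963 → P i := stepQ 61962 Q61962 (allL N61962 (tt N99063 D202195) (tt N99064 D202196) (tt N93627 (iv2 F401332)) (tt N44222 F336203) (tt N60243 F336204) (tt N33123 (iv5 D115445)) (tt N44221 F336205) (tt N61961 F336206))
theorem Q61964 : ∀ i, i < 61964 → P i := stepQ 61963 Q61963 (allL N61963 (tt N93625 (iv1 F401326)) (tt N33124 (iv0 D115446)) (tt N93624 (iv2 F401319)) (tt N33410 (iv3 F181466)) (tt N73566 (iv4 F225036)) (tt N90941 (iv5 F391315)) (tt N93631 F401362) (tt N33431 F181469))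
theorem Q61965 : ∀ i, i < 61965 → P i := stepQ 61964 Q61964 (allL N61964 (tt N33124 (iv1 D115447)) (tt N93625 F401327) (tt N33431 F223430) (tt N93637 (iv3 F401381)) (tt N72833 (iv4 F223429)) (tt N90916 F391263) (tt N99065 D202197) (tt N93624 (iv7 F401316)))
theorem Q61966 : ∀ i, i < 61966 → P i := stepQ 61965 Q61965 (allL N61965 (tt N93624 F401320) (tt N33431 F179758) (tt N33124 (iv2 D115448)) (tt N67147 (iv3 F206779)) (tt N40679 F179757) (tt N98943 (iv5 F422825)) (tt N77923 (iv6 F245325)) (tt N93625 (iv7 F401325)))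
theorem Q61967 : ∀ i, i < 61967 → P i := stepQ 61966 Q61966 (allL N61966 (tt N93637 (iv1 F401385)) (tt N33132 F326813) (tt N66382 (iv2 F218824)) (tt N33125 (iv3 D115450)) (tt N62056 F179899) (tt N98926 (iv5 F422803)) (tt N99066 D202198) (tt N66385 (iv7 F218819)))
theorem Q61968 : ∀ i, i < 61968 → P i := stepQ 61967 Q61967 (allL N61967 (tt N62092 F179999) (tt N92542 F397315) (tt N92415 F396944) (tt N99067 D202199) (tt N33125 (iv4 D115451)) (tt N99068 D202200) (tt N99069 D202201) (tt N92541 (iv7 F397308)))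
theorem Q61969 : ∀ i, i < 61969 → P i := stepQ 61968 Q61968 (allL N61968 (tt N99070 D202202) (tt N78051 F422310) (tt N98784 (iv2 F422308)) (tt N99066 (iv3 F423212)) (tt N99069 (iv4 F423224)) (tt N82108 (iv5 F336251)) (tt N33125 (iv6 D115453)) (tt N71569 (iv7 F336216)))
theorem Q61970 : ∀ i, i < 61970 → P i := stepQ 61969 Q61969 (allL N61969 (tt N39191 F180001) (tt N39195 F219188) (tt N71773 (iv2 F220545)) (tt N33126 (iv3 D115455)) (tt N69836 (iv4 F331007)) (tt N98927 (iv5 F422806)) (tt N71570 F336209) (tt N98783 (iv7 F422305)))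
theorem Q61971 : ∀ i, i < 61971 → P i := stepQ 61970 Q61970 (allL N61970 (tt N92542 (iv1 F397314)) (tt N62092 (iv0 F180000)) (tt N92541 F397310) (tt N39734 F179761) (tt N33126 (iv4 D115456)) (tt N55932 (iv5 F344610)) (tt N57572 F336210) (tt N92415 (iv7 F396941)))
theorem Q61972 : ∀ i, i < 61972 → P i := stepQ 61971 Q61971 (allL N61971 (tt N61869 (iv1 F360642)) (tt N61865 F330603) (tt N33128 F179762) (tt N93631 (iv3 F401358)) (tt N33412 F327618) (tt N33127 (iv5 D115459)) (tt N33410 F327619) (tt N76789 F336247))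
theorem Q61973 : ∀ i, i < 61973 → P i := stepQ 61972 Q61972 (allL N61972 (tt N99071 D202203) (tt N61851 F355427) (tt N33129 F179763) (tt N93632 (iv3 F401364)) (tt N99054 (iv4 F423162)) (tt N67145 F330555) (tt N33127 (iv6 D115460)) (tt N99060 (iv7 F423183)))
theorem Q61974 : ∀ i, i < 61974 → P i := stepQ 61973 Q61973 (allL N61973 (tt N76789 F350024) (tt N33128 (iv0 D115461)) (tt N61869 F349433) (tt N99072 D202204) (tt N73357 F349435) (tt N61765 (iv5 F349432)) (tt N62988 (iv6 F349438)) (tt N61865 F349434))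
theorem Q61975 : ∀ i, i < 61975 → P i := stepQ 61974 Q61974 (allL N61974 (tt N33128 (iv1 D115462)) (tt N76789 F336252) (tt N61865 (iv2 F360637)) (tt N93634 F422274) (tt N73392 F360638) (tt N61766 F360639) (tt N99073 D202205) (tt N61869 F360640))
theorem Q61976 : ∀ i, i < 61976 → P i := stepQ 61975 Q61975 (allL N61975 (tt N99060 (iv1 F423189)) (tt N33129 (iv0 D115465)) (tt N99071 F423229) (tt N33130 F365075) (tt N99074 D202206) (tt N41117 F365076) (tt N99075 D202207) (tt N61851 F365077))
theorem Q61977 : ∀ i, i < 61977 → P i := stepQ 61976 Q61976 (allL N61976 (tt N33129 (iv1 D115466)) (tt N99060 F423185) (tt N61851 F423186) (tt N90940 F423187) (tt N99076 D202208) (tt N61850 F423188) (tt N99077 D202209) (tt N99071 (iv7 F423231)))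
theorem Q61978 : ∀ i, i < 61978 → P i := stepQ 61977 Q61977 (allL N61977 (tt N61851 F355425) (tt N99071 F423230) (tt N99060 (iv2 F423181)) (tt N33136 F179767) (tt N99057 (iv4 F423170)) (tt N67146 F330557) (tt N98788 (iv6 F422321)) (tt N33129 (iv7 D115468)))
theorem Q61979 : ∀ i, i < 61979 → P i := stepQ 61978 Q61978 (allL N61978 (tt N63685 F354573) (tt N44121 F354574) (tt N61861 F179770) (tt N99075 (iv3 F423245)) (tt N58775 F179771) (tt N99078 D202210) (tt N33130 (iv6 D115470)) (tt N63684 (iv7 F346467)))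
theorem Q61980 : ∀ i, i < 61980 → P i := stepQ 61979 Q61979 (allL N61979 (tt N90941 F391318) (tt N90916 F391262) (tt N90940 F391311) (tt N33131 (iv3 D115471)) (tt N71785 (iv4 F355558)) (tt N56887 F179772) (tt N99079 D202211) (tt N61859 F179773))
theorem Q61981 : ∀ i, i < 61981 → P i := stepQ 61980 Q61980 (allL N61980 (tt N99080 D202212) (tt N99081 D202213) (tt N61853 F179774) (tt N99079 (iv3 F423257)) (tt N58786 F179775) (tt N99082 D202214) (tt N33131 (iv6 D115472)) (tt N99083 D202215))
theorem Q61982 : ∀ i, i < 61982 → P i := stepQ 61981 Q61981 (allL N61981 (tt N33132 (iv1 D115474)) (tt N93637 F401384) (tt N66385 F326814) (tt N71773 F326815) (tt N62055 F326816) (tt N99084 D202216) (tt N78202 (iv6 F351555)) (tt N66382 F326817))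
theorem Q61983 : ∀ i, i < 61983 → P i := stepQ 61982 Q61982 (allL N61982 (tt N99072 F423237) (tt N99085 D202217) (tt N93636 (iv2 F401377)) (tt N33417 F326821) (tt N89497 F423279) (tt N33132 (iv5 D115475)) (tt N33135 F179776) (tt N99086 D202218))
theorem Q61984 : ∀ i, i < 61984 → P i := stepQ 61983 Q61983 (allL N61983 (tt N66385 F326822) (tt N66382 F326823) (tt N93637 (iv2 F401380)) (tt N33418 F326824) (tt N36151 F326825) (tt N99086 (iv5 F423282)) (tt N76778 (iv6 F336261)) (tt N33132 (iv7 D115476)))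
theorem Q61985 : ∀ i, i < 61985 → P i := stepQ 61984 Q61984 (allL N61984 (tt N33432 F362574) (tt N33417 F362575) (tt N99087 D202219) (tt N33133 (iv3 D115477)) (tt N95378 (iv4 F408043)) (tt N40266 F362576) (tt N77951 (iv6 F245406)) (tt N93638 (iv7 F401388)))
theorem Q61986 : ∀ i, i < 61986 → P i := stepQ 61985 Q61985 (allL N61985 (tt N99088 D202220) (tt N99089 D202221) (tt N61915 F330563) (tt N40266 F330564) (tt N40269 F330565) (tt N33133 (iv5 D115478)) (tt N99090 D202222) (tt N93639 (iv7 F401394)))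
theorem Q61987 : ∀ i, i < 61987 → P i := stepQ 61986 Q61986 (allL N61986 (tt N93631 (iv1 F401360)) (tt N33146 F365189) (tt N61920 F365190) (tt N33134 (iv3 D115479)) (tt N93274 (iv4 F400249)) (tt N56889 F365191) (tt N94997 (iv6 F406595)) (tt N61917 F365192))
theorem Q61988 : ∀ i, i < 61988 → P i := stepQ 61987 Q61987 (allL N61987 (tt N99089 (iv1 F423298)) (tt N99088 F423293) (tt N93639 (iv2 F401392)) (tt N56889 F330600) (tt N58992 F330601) (tt N33134 (iv5 D115481)) (tt N99091 D202223) (tt N61915 (iv7 F330599)))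
theorem Q61989 : ∀ i, i < 61989 → P i := stepQ 61988 Q61988 (allL N61988 (tt N70022 (iv1 F245405)) (tt N70026 F387035) (tt N93640 (iv2 F401396)) (tt N94997 (iv3 F406596)) (tt N66377 (iv4 F204068)) (tt N77905 (iv5 F245263)) (tt N33134 (iv6 D115482)) (tt N77950 (iv7 F245404)))
theorem Q61990 : ∀ i, i < 61990 → P i := stepQ 61989 Q61989 (allL N61989 (tt N93641 (iv1 F401405)) (tt N33135 (iv0 D115483)) (tt N93628 (iv2 F401336)) (tt N33415 F330539) (tt N62037 F330540) (tt N44193 F179778) (tt N99092 D202224) (tt N73347 F330541))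
theorem Q61991 : ∀ i, i < 61991 → P i := stepQ 61990 Q61990 (allL N61990 (tt N33135 (iv1 D115484)) (tt N93641 F401404) (tt N73347 F330543) (tt N33143 F330544) (tt N62038 F330545) (tt N61938 (iv5 F179781)) (tt N48029 F351551) (tt N93628 (iv7 F401338)))
theorem Q61992 : ∀ i, i < 61992 → P i := stepQ 61991 Q61991 (allL N61991 (tt N73211 F365196) (tt N98798 (iv0 F422369)) (tt N73235 (iv2 F330551)) (tt N73250 (iv3 F365195)) (tt N33135 (iv4 D115485)) (tt N99093 D202225) (tt N89497 (iv6 F423280)) (tt N99094 D202226))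
theorem Q61993 : ∀ i, i < 61993 → P i := stepQ 61992 Q61992 (allL N61992 (tt N73347 F330547) (tt N93628 F401341) (tt N93641 (iv2 F401401)) (tt N67146 (iv3 F330558)) (tt N99094 (iv4 F423314)) (tt N33136 F179782) (tt N99095 D202227) (tt N33135 (iv7 D115486)))
theorem Q61994 : ∀ i, i < 61994 → P i := stepQ 61993 Q61993 (allL N61993 (tt N98819 F422469) (tt N98812 F422428) (tt N90944 (iv2 F391323)) (tt N33137 (iv3 D115487)) (tt N39651 F179783) (tt N99096 D202228) (tt N77957 (iv6 F245431)) (tt N90942 (iv7 F391320)))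
theorem Q61995 : ∀ i, i < 61995 → P i := stepQ 61994 Q61994 (allL N61994 (tt N60362 (iv1 F330595)) (tt N72640 F330593) (tt N40649 F179784) (tt N99096 (iv3 F423317)) (tt N96493 (iv4 F412751)) (tt N33137 (iv5 D115488)) (tt N99097 D202229) (tt N72639 F330568))
theorem Q61996 : ∀ i, i < 61996 → P i := stepQ 61995 Q61995 (allL N61995 (tt N70770 F218315) (tt N98730 (iv0 F422057)) (tt N40650 F179785) (tt N41721 F335898) (tt N33138 (iv4 D115489)) (tt N43281 F327479) (tt N33668 F327480) (tt N70836 (iv7 F218541)))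
theorem Q61997 : ∀ i, i < 61997 → P i := stepQ 61996 Q61996 (allL N61996 (tt N33180 F336240) (tt N99098 D202230) (tt N99099 D202231) (tt N33139 (iv3 D115490)) (tt N33335 F179787) (tt N99100 D202232) (tt N99101 D202233) (tt N40648 F179788))
theorem Q61998 : ∀ i, i < 61998 → P i := stepQ 61997 Q61997 (allL N61997 (tt N72640 (iv1 F330594)) (tt N60362 F330596) (tt N72639 F330567) (tt N99100 (iv3 F423337)) (tt N99102 D202234) (tt N33139 (iv5 D115491)) (tt N99103 D202235) (tt N40649 F179789))
theorem Q61999 : ∀ i, i < 61999 → P i := stepQ 61998 Q61998 (allL N61998 (tt N99104 D202236) (tt N78046 (iv0 F245597)) (tt N83389 (iv2 F359540)) (tt N99101 (iv3 F423341)) (tt N33141 F179790) (tt N83383 F359538) (tt N33139 (iv6 D115492)) (tt N77956 (iv7 F245429)))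
theorem Q62000 : ∀ i, i < 62000 → P i := stepQ 61999 Q61999 (allL N61999 (tt N98730 F422058) (tt N70770 (iv0 F218319)) (tt N70836 (iv2 F218539)) (tt N97859 (iv3 F418545)) (tt N33140 (iv4 D115493)) (tt N99105 D202237) (tt N38646 F179791) (tt N40650 F179792))
theorem Q62001 : ∀ i, i < 62001 → P i := stepQ 62000 Q62000 (allL N62000 (tt N33142 (iv1 D115494)) (tt N39032 F179793) (tt N68183 F209231) (tt N99106 D202238) (tt N66146 (iv4 F203479)) (tt N99107 D202239) (tt N70610 F217952) (tt N66145 F203476))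
theorem Q62002 : ∀ i, i < 62002 → P i := stepQ 62001 Q62001 (allL N62001 (tt N38985 F364474) (tt N70781 F364475) (tt N70779 (iv2 F355294)) (tt N33142 (iv3 D115495)) (tt N68897 (iv4 F211850)) (tt N76227 F338618) (tt N38217 F179794) (tt N68330 (iv7 F209561)))
theorem Q62003 : ∀ i, i < 62003 → P i := stepQ 62002 Q62002 (allL N62002 (tt N60903 (iv1 F363767)) (tt N76809 F363768) (tt N68184 (iv2 F209232)) (tt N76227 (iv3 F338619)) (tt N99108 D202240) (tt N33142 (iv5 D115496)) (tt N99109 D202241) (tt N68331 (iv7 F209562)))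
theorem Q62004 : ∀ i, i < 62004 → P i := stepQ 62003 Q62003 (allL N62003 (tt N33418 (iv1 F181458)) (tt N33410 (iv0 F181464)) (tt N33415 (iv2 F179796)) (tt N33144 (iv3 D115500)) (tt N62080 (iv4 F179959)) (tt N99017 (iv5 F423047)) (tt N81715 F351520) (tt N33416 F179795))
theorem Q62005 : ∀ i, i < 62005 → P i := stepQ 62004 Q62004 (allL N62004 (tt N78054 F351526) (tt N99110 D202242) (tt N93630 (iv2 F401353)) (tt N81715 (iv3 F351523)) (tt N81719 F351524) (tt N99111 D202243) (tt N33144 (iv6 D115501)) (tt N77939 F351525))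
theorem Q62006 : ∀ i, i < 62006 → P i := stepQ 62005 Q62005 (allL N62005 (tt N61920 (iv1 F182531)) (tt N61917 (iv0 F180737)) (tt N33146 F179798) (tt N76789 F336246) (tt N99112 D202244) (tt N33145 (iv5 D115502)) (tt N76787 (iv6 F336253)) (tt N93631 (iv7 F401359)))
theorem Q62007 : ∀ i, i < 62007 → P i := stepQ 62006 Q62006 (allL N62006 (tt N99113 D202245) (tt N99114 D202246) (tt N33147 F179799) (tt N98785 (iv3 F422312)) (tt N92897 (iv4 F398698)) (tt N99115 D202247) (tt N33145 (iv6 D115503)) (tt N99116 D202248))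
theorem Q62008 : ∀ i, i < 62008 → P i := stepQ 62007 Q62007 (allL N62007 (tt N33146 (iv1 D115505)) (tt N93631 (iv0 F401361)) (tt N61917 F182526) (tt N99087 (iv3 F423284)) (tt N99117 D202249) (tt N56890 (iv5 F182525)) (tt N76810 (iv6 F366404)) (tt N61920 F182527))
theorem Q62009 : ∀ i, i < 62009 → P i := stepQ 62008 Q62008 (allL N62008 (tt N94980 (iv1 F423027)) (tt N89500 (iv0 F400252)) (tt N99112 (iv2 F423380)) (tt N97381 (iv3 F416615)) (tt N33146 (iv4 D115506)) (tt N99118 D202250) (tt N99119 D202251) (tt N93633 (iv7 F401370)))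
theorem Q62010 : ∀ i, i < 62010 → P i := stepQ 62009 Q62009 (allL N62009 (tt N98791 F422334) (tt N99120 D202252) (tt N76787 F336254) (tt N33148 F179800) (tt N99119 (iv4 F423405)) (tt N99121 D202253) (tt N33146 (iv6 D115507)) (tt N99065 (iv7 F423209)))
theorem Q62011 : ∀ i, i < 62011 → P i := stepQ 62010 Q62010 (allL N62010 (tt N99116 (iv1 F423397)) (tt N33147 (iv0 D115508)) (tt N99113 (iv2 F423388)) (tt N99122 D202254) (tt N93783 F423389) (tt N99123 D202255) (tt N99124 D202256) (tt N99114 (iv7 F423391)))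
theorem Q62012 : ∀ i, i < 62012 → P i := stepQ 62011 Q62011 (allL N62011 (tt N33147 (iv1 D115509)) (tt N99116 F423396) (tt N99114 F423392) (tt N76777 (iv3 F423387)) (tt N93784 (iv4 F401874)) (tt N99125 D202257) (tt N99126 D202258) (tt N99113 F423383))
theorem Q62013 : ∀ i, i < 62013 → P i := stepQ 62012 Q62012 (allL N62012 (tt N99127 D202259) (tt N99128 D202260) (tt N99115 (iv2 F423393)) (tt N33151 F179801) (tt N81935 (iv4 F383971)) (tt N33147 (iv5 D115510)) (tt N99121 (iv6 F423410)) (tt N99129 D202261))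
theorem Q62014 : ∀ i, i < 62014 → P i := stepQ 62013 Q62013 (allL N62013 (tt N99114 (iv1 F423390)) (tt N99113 (iv0 F423384)) (tt N99116 (iv2 F423394)) (tt N33152 F179802) (tt N92901 (iv4 F398704)) (tt N99129 (iv5 F423412)) (tt N93635 (iv6 F401376)) (tt N33147 (iv7 D115511)))
theorem Q62015 : ∀ i, i < 62015 → P i := stepQ 62014 Q62014 (allL N62014 (tt N76778 F336265) (tt N33148 (iv0 D115512)) (tt N98789 F422323) (tt N89299 F385984) (tt N34235 F336266) (tt N99130 D202262) (tt N99131 D202263) (tt N34234 F336267))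
theorem Q62016 : ∀ i, i < 62016 → P i := stepQ 62015 Q62015 (allL N62015 (tt N33148 (iv1 D115513)) (tt N76778 F336262) (tt N34234 F336268) (tt N98786 (iv3 F422314)) (tt N34161 F336269) (tt N99132 D202264) (tt N99133 D202265) (tt N98789 (iv7 F422325)))
theorem Q62017 : ∀ i, i < 62017 → P i := stepQ 62016 Q62016 (allL N62016 (tt N99134 D202266) (tt N99135 D202267) (tt N98790 (iv2 F422327)) (tt N99121 (iv3 F423409)) (tt N99136 D202268) (tt N33148 (iv5 D115514)) (tt N33151 F179803) (tt N99137 D202269))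
theorem Q62018 : ∀ i, i < 62018 → P i := stepQ 62017 Q62017 (allL N62017 (tt N34234 F348378) (tt N98789 F422324) (tt N76778 (iv2 F336259)) (tt N99065 (iv3 F423208)) (tt N97384 (iv4 F416635)) (tt N99137 (iv5 F423430)) (tt N93637 (iv6 F401383)) (tt N33148 (iv7 D115515)))
theorem Q62019 : ∀ i, i < 62019 → P i := stepQ 62018 Q62018 (allL N62018 (tt N76787 F366261) (tt N99065 F423210) (tt N99120 F423407) (tt N33149 (iv3 D115517)) (tt N40705 F179805) (tt N99138 D202270) (tt N99032 (iv6 F461443)) (tt N98791 (iv7 F422332)))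
theorem Q62020 : ∀ i, i < 62020 → P i := stepQ 62019 Q62019 (allL N62019 (tt N54501 (iv1 F328982)) (tt N39697 F179806) (tt N77884 F245210) (tt N99138 (iv3 F423431)) (tt N54603 (iv4 F357602)) (tt N33149 (iv5 D115518)) (tt N99139 D202272) (tt N77885 (iv7 F245214)))
theorem Q62021 : ∀ i, i < 62021 → P i := stepQ 62020 Q62020 (allL N62020 (tt N78053 F351432) (tt N96857 (iv0 F414291)) (tt N96891 F414472) (tt N99032 (iv3 F461441)) (tt N95941 (iv4 F410364)) (tt N98780 (iv5 F422287)) (tt N33149 (iv6 D115519)) (tt N77928 (iv7 F245334)))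
theorem Q62022 : ∀ i, i < 62022 → P i := stepQ 62021 Q62021 (allL N62021 (tt N89300 F385989) (tt N90935 (iv0 F391304)) (tt N90933 F391301) (tt N33150 (iv3 D115521)) (tt N66540 (iv4 F204377)) (tt N99140 D202273) (tt N77924 (iv6 F245330)) (tt N90934 (iv7 F391300)))
theorem Q62023 : ∀ i, i < 62023 → P i := stepQ 62022 Q62022 (allL N62022 (tt N39697 F179808) (tt N54501 (iv0 F328981)) (tt N77885 F245216) (tt N99140 (iv3 F423438)) (tt N54602 (iv4 F357611)) (tt N33150 (iv5 D115522)) (tt N99141 D202274) (tt N77884 F245211))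
theorem Q62024 : ∀ i, i < 62024 → P i := stepQ 62023 Q62023 (allL N62023 (tt N33151 (iv1 D115524)) (tt N90030 F388346) (tt N71876 (iv2 F220797)) (tt N99142 D202275) (tt N88402 (iv4 F382884)) (tt N44199 F179809) (tt N99143 D202276) (tt N71878 (iv7 F220803)))
theorem Q62025 : ∀ i, i < 62025 → P i := stepQ 62024 Q62024 (allL N62024 (tt N48856 F346034) (tt N49137 F346035) (tt N75867 (iv2 F346022)) (tt N88720 (iv3 F383965)) (tt N33151 (iv4 D115525)) (tt N76101 F346036) (tt N99136 (iv6 F423426)) (tt N75866 (iv7 F346032)))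
theorem Q62026 : ∀ i, i < 62026 → P i := stepQ 62025 Q62025 (allL N62025 (tt N71876 (iv1 F220800)) (tt N71878 (iv0 F220804)) (tt N90030 F388345) (tt N99129 (iv3 F423411)) (tt N75866 (iv4 F335560)) (tt N33152 F179810) (tt N99144 D202277) (tt N33151 (iv7 D115526)))
theorem Q62027 : ∀ i, i < 62027 → P i := stepQ 62026 Q62026 (allL N62026 (tt N99145 D202278) (tt N33185 F348351) (tt N76774 F318567) (tt N33153 (iv3 D115527)) (tt N33366 F179811) (tt N99146 D202279) (tt N99147 D202280) (tt N40764 F179812))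
theorem Q62028 : ∀ i, i < 62028 → P i := stepQ 62027 Q62027 (allL N62027 (tt N90028 (iv1 F388341)) (tt N88406 (iv0 F382910)) (tt N83475 (iv2 F357608)) (tt N99146 (iv3 F423458)) (tt N54500 F357614) (tt N33153 (iv5 D115528)) (tt N99146 (iv6 F423462)) (tt N40765 F179813))
theorem Q62029 : ∀ i, i < 62029 → P i := stepQ 62028 Q62028 (allL N62028 (tt N78043 (iv1 F351408)) (tt N99148 D202281) (tt N96824 (iv2 F414134)) (tt N99147 (iv3 F423464)) (tt N33154 F179814) (tt N99147 (iv5 F423466)) (tt N33153 (iv6 D115529)) (tt N77935 (iv7 F245353)))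
theorem Q62030 : ∀ i, i < 62030 → P i := stepQ 62029 Q62029 (allL N62029 (tt N88406 (iv1 F382911)) (tt N90028 (iv0 F388340)) (tt N40765 F179816) (tt N90919 (iv3 F391273)) (tt N54499 F346047) (tt N33155 (iv5 D115531)) (tt N99149 D202282) (tt N83475 (iv7 F357609)))
theorem Q62031 : ∀ i, i < 62031 → P i := stepQ 62030 Q62030 (allL N62030 (tt N33182 F181516) (tt N99150 D202283) (tt N82091 (iv2 F360883)) (tt N33157 (iv3 D115539)) (tt N55966 F179841) (tt N68336 (iv5 F360884)) (tt N99151 D202284) (tt N71559 F360882))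
theorem Q62032 : ∀ i, i < 62032 → P i := stepQ 62031 Q62031 (allL N62031 (tt N99094 (iv1 F423316)) (tt N73235 (iv0 F224189)) (tt N73211 (iv2 F361318)) (tt N99152 D202285) (tt N33157 (iv4 D115540)) (tt N99153 D202286) (tt N99154 D202287) (tt N98798 (iv7 F422367)))
theorem Q62033 : ∀ i, i < 62033 → P i := stepQ 62032 Q62032 (allL N62032 (tt N99155 D202288) (tt N78041 (iv0 F423807)) (tt N98800 (iv2 F422377)) (tt N99151 (iv3 F423483)) (tt N99154 (iv4 F423495)) (tt N68338 F365197) (tt N33157 (iv6 D115542)) (tt N77960 (iv7 F363691)))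
theorem Q62034 : ∀ i, i < 62034 → P i := stepQ 62033 Q62033 (allL N62033 (tt N73458 (iv1 F360819)) (tt N73461 (iv0 F345485)) (tt N98813 F422433) (tt N33158 (iv3 D115544)) (tt N99156 D202290) (tt N99157 D202291) (tt N77961 F339879) (tt N98799 (iv7 F422373)))
theorem Q62035 : ∀ i, i < 62035 → P i := stepQ 62034 Q62034 (allL N62034 (tt N73235 F224188) (tt N99094 F423315) (tt N98798 (iv2 F422364)) (tt N59020 (iv3 F179843)) (tt N33158 (iv4 D115545)) (tt N68328 F330532) (tt N77962 F339880) (tt N73211 (iv7 F361309)))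
theorem Q62036 : ∀ i, i < 62036 → P i := stepQ 62035 Q62035 (allL N62035 (tt N33193 F330580) (tt N68335 F330534) (tt N61946 F330535) (tt N99157 (iv3 F423505)) (tt N39036 F330536) (tt N33158 (iv5 D115546)) (tt N61772 F330537) (tt N39035 F330538))
theorem Q62037 : ∀ i, i < 62037 → P i := stepQ 62036 Q62036 (allL N62036 (tt N59007 (iv1 F179846)) (tt N40605 F179848) (tt N33160 F179844) (tt N58998 (iv3 F179847)) (tt N33159 (iv4 D115548)) (tt N99158 D202292) (tt N98797 (iv6 F422361)) (tt N59008 F179845))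
theorem Q62038 : ∀ i, i < 62038 → P i := stepQ 62037 Q62037 (allL N62037 (tt N59008 (iv1 F179852)) (tt N33160 (iv0 D115551)) (tt N59007 F179854) (tt N33358 F179851) (tt N61989 (iv4 F330540)) (tt N99159 D202293) (tt N99160 D202294) (tt N40605 (iv7 F179853)))
theorem Q62039 : ∀ i, i < 62039 → P i := stepQ 62038 Q62038 (allL N62038 (tt N33160 (iv1 D115552)) (tt N59008 F179855) (tt N40605 (iv2 F179858)) (tt N59168 (iv3 F181261)) (tt N61990 (iv4 F330545)) (tt N99161 D202295) (tt N59292 (iv6 F351553)) (tt N59007 F179856))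
theorem Q62040 : ∀ i, i < 62040 → P i := stepQ 62039 Q62039 (allL N62039 (tt N72788 F223210) (tt N95933 (iv0 F410331)) (tt N99158 (iv2 F423508)) (tt N38398 F179859) (tt N68325 F349535) (tt N33160 (iv5 D115553)) (tt N99162 D202296) (tt N59009 F179860))
theorem Q62041 : ∀ i, i < 62041 → P i := stepQ 62040 Q62040 (allL N62040 (tt N99163 D202297) (tt N99164 D202298) (tt N98797 (iv2 F422359)) (tt N38399 F179861) (tt N33161 F179862) (tt N70313 (iv5 F360208)) (tt N33160 (iv6 D115554)) (tt N70312 F360206))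
theorem Q62042 : ∀ i, i < 62042 → P i := stepQ 62041 Q62041 (allL N62041 (tt N33169 F359762) (tt N33161 (iv0 D115559)) (tt N89495 (iv2 F386651)) (tt N99165 D202299) (tt N89488 F386652) (tt N66265 F359763) (tt N89487 F386653) (tt N98796 (iv7 F422356)))
theorem Q62043 : ∀ i, i < 62043 → P i := stepQ 62042 Q62042 (allL N62042 (tt N33161 (iv1 D115560)) (tt N33169 F357046) (tt N98796 F422358) (tt N97019 (iv3 F415059)) (tt N89498 F386649) (tt N66264 F357047) (tt N99166 D202300) (tt N89495 (iv7 F386650)))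
theorem Q62044 : ∀ i, i < 62044 → P i := stepQ 62043 Q62043 (allL N62043 (tt N98796 (iv1 F422355)) (tt N89495 (iv0 F386646)) (tt N33169 F359764) (tt N33164 F179865) (tt N70312 (iv4 F360202)) (tt N33167 F359765) (tt N98805 (iv6 F422392)) (tt N33161 (iv7 D115562)))
theorem Q62045 : ∀ i, i < 62045 → P i := stepQ 62044 Q62044 (allL N62044 (tt N36089 (iv1 F179870)) (tt N33162 (iv0 D115563)) (tt N36086 (iv2 F179867)) (tt N62352 (iv3 F180899)) (tt N56993 F179866) (tt N97938 (iv5 F418879)) (tt N60209 F179868) (tt N36087 F179869))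
theorem Q62046 : ∀ i, i < 62046 → P i := stepQ 62045 Q62045 (allL N62045 (tt N36087 (iv1 F179876)) (tt N36086 F179877) (tt N36089 F179871) (tt N58963 F179872) (tt N33164 F179873) (tt N37690 F179874) (tt N59006 F179875) (tt N33162 (iv7 D115564)))
theorem Q62047 : ∀ i, i < 62047 → P i := stepQ 62046 Q62046 (allL N62046 (tt N98818 F422464) (tt N98811 (iv0 F422420)) (tt N62358 (iv2 F364946)) (tt N33163 (iv3 D115565)) (tt N56749 F364945) (tt N56886 F179878) (tt N99167 D202301) (tt N61830 F179879))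
theorem Q62048 : ∀ i, i < 62048 → P i := stepQ 62047 Q62047 (allL N62047 (tt N77977 F359959) (tt N77986 F359961) (tt N61844 F179880) (tt N99167 (iv3 F423550)) (tt N44119 F347895) (tt N99168 D202302) (tt N33163 (iv6 D115566)) (tt N63796 F350653))
theorem Q62049 : ∀ i, i < 62049 → P i := stepQ 62048 Q62048 (allL N62048 (tt N98831 (iv1 F422494)) (tt N33195 F357072) (tt N98795 (iv2 F422349)) (tt N93648 (iv3 F401429)) (tt N99169 D202303) (tt N33165 (iv5 D115577)) (tt N99170 D202304) (tt N98792 (iv7 F422336)))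
theorem Q62050 : ∀ i, i < 62050 → P i := stepQ 62049 Q62049 (allL N62049 (tt N99171 D202305) (tt N33177 F224450) (tt N93644 (iv2 F401411)) (tt N33166 (iv3 D115580)) (tt N99172 D202306) (tt N44290 F351405) (tt N44293 F351406) (tt N98794 (iv7 F422345)))
theorem Q62051 : ∀ i, i < 62051 → P i := stepQ 62050 Q62050 (allL N62050 (tt N36151 F224449) (tt N65867 F350849) (tt N65873 (iv2 F351369)) (tt N36130 (iv3 F179888)) (tt N33166 (iv4 D115581)) (tt N99173 D202307) (tt N64115 (iv6 F351382)) (tt N65874 (iv7 F351364)))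
theorem Q62052 : ∀ i, i < 62052 → P i := stepQ 62051 Q62051 (allL N62051 (tt N33195 F357073) (tt N98831 F422495) (tt N98792 (iv2 F422335)) (tt N44290 F339875) (tt N99174 D202308) (tt N33166 (iv5 D115582)) (tt N44279 F339876) (tt N98795 (iv7 F422351)))
theorem Q62053 : ∀ i, i < 62053 → P i := stepQ 62052 Q62052 (allL N62052 (tt N78044 F354528) (tt N99175 D202309) (tt N98793 (iv2 F422340)) (tt N44293 F339872) (tt N64115 (iv4 F351381)) (tt N44280 F339873) (tt N33166 (iv6 D115583)) (tt N62122 F339874))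
theorem Q62054 : ∀ i, i < 62054 → P i := stepQ 62053 Q62053 (allL N62053 (tt N36093 (iv1 F179891)) (tt N36092 F179893) (tt N33168 F179889) (tt N36116 (iv3 F179892)) (tt N33167 (iv4 D115584)) (tt N78600 F347030) (tt N63515 (iv6 F336276)) (tt N36094 F179890))
theorem Q62055 : ∀ i, i < 62055 → P i := stepQ 62054 Q62054 (allL N62054 (tt N98807 (iv1 F422398)) (tt N98806 F422395) (tt N33170 F179895) (tt N98801 (iv3 F422382)) (tt N63515 (iv4 F360178)) (tt N99176 D202310) (tt N33167 (iv6 D115586)) (tt N33172 F360168))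
theorem Q62056 : ∀ i, i < 62056 → P i := stepQ 62055 Q62055 (allL N62055 (tt N36094 (iv1 F179897)) (tt N33168 (iv0 D115587)) (tt N36093 F218814) (tt N39626 F179896) (tt N61981 (iv4 F326816)) (tt N99177 D202311) (tt N77978 F351556) (tt N36092 F218815))
theorem Q62057 : ∀ i, i < 62057 → P i := stepQ 62056 Q62056 (allL N62056 (tt N33168 (iv1 D115588)) (tt N36094 F179898) (tt N36092 F218817) (tt N99178 D202312) (tt N61966 (iv4 F179899)) (tt N99179 D202313) (tt N99180 D202314) (tt N36093 F218818))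
theorem Q62058 : ∀ i, i < 62058 → P i := stepQ 62057 Q62057 (allL N62057 (tt N66302 F203957) (tt N66306 F220099) (tt N78600 F347028) (tt N36007 F179901) (tt N99181 D202315) (tt N33168 (iv5 D115589)) (tt N69541 (iv6 F336277)) (tt N36095 F179902))
theorem Q62059 : ∀ i, i < 62059 → P i := stepQ 62058 Q62058 (allL N62058 (tt N99164 (iv1 F423544)) (tt N99163 F423541) (tt N70312 F360201) (tt N51211 F354215) (tt N33169 (iv4 D115593)) (tt N70305 (iv5 F360203)) (tt N99182 D202316) (tt N98797 (iv7 F422362)))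
theorem Q62060 : ∀ i, i < 62060 → P i := stepQ 62059 Q62059 (allL N62059 (tt N98803 (iv1 F422385)) (tt N98802 F422393) (tt N98805 (iv2 F422389)) (tt N33172 F179905) (tt N99182 (iv4 F423613)) (tt N99183 D202317) (tt N33169 (iv6 D115594)) (tt N98801 (iv7 F422384)))
theorem Q62061 : ∀ i, i < 62061 → P i := stepQ 62060 Q62060 (allL N62060 (tt N33172 F360169) (tt N33170 (iv0 D115595)) (tt N98807 (iv2 F422401)) (tt N99184 D202318) (tt N47944 F336275) (tt N99185 D202319) (tt N99186 D202320) (tt N98806 F422397))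
theorem Q62062 : ∀ i, i < 62062 → P i := stepQ 62061 Q62061 (allL N62061 (tt N33170 (iv1 D115596)) (tt N33172 F360179) (tt N98806 F422396) (tt N90989 (iv3 F391490)) (tt N97382 (iv4 F416625)) (tt N99187 D202321) (tt N99188 D202322) (tt N98807 (iv7 F422399)))
theorem Q62063 : ∀ i, i < 62063 → P i := stepQ 62062 Q62062 (allL N62062 (tt N99189 D202323) (tt N99190 D202324) (tt N99176 (iv2 F423579)) (tt N33173 F179906) (tt N54617 F352986) (tt N33170 (iv5 D115597)) (tt N99183 (iv6 F423618)) (tt N98808 (iv7 F422405)))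
theorem Q62064 : ∀ i, i < 62064 → P i := stepQ 62063 Q62063 (allL N62063 (tt N59006 F179913) (tt N33171 (iv0 D115599)) (tt N59005 F179911) (tt N36189 (iv3 F179910)) (tt N61779 F179908) (tt N39744 (iv5 F179909)) (tt N95819 (iv6 F409789)) (tt N36202 F179912))
theorem Q62065 : ∀ i, i < 62065 → P i := stepQ 62064 Q62064 (allL N62064 (tt N33171 (iv1 D115600)) (tt N59006 F179918) (tt N36202 F179922) (tt N59017 (iv3 F179921)) (tt N61780 (iv4 F179924)) (tt N39745 F179920) (tt N60207 F179923) (tt N59005 F179919))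
theorem Q62066 : ∀ i, i < 62066 → P i := stepQ 62065 Q62065 (allL N62065 (tt N36202 (iv1 F179930)) (tt N59005 F179931) (tt N59006 F179925) (tt N36010 F179926) (tt N33174 F179927) (tt N57518 F179928) (tt N36089 F179929) (tt N33171 (iv7 D115601)))
theorem Q62067 : ∀ i, i < 62067 → P i := stepQ 62066 Q62066 (allL N62066 (tt N99190 (iv1 F423624)) (tt N99189 F423623) (tt N98808 (iv2 F422402)) (tt N99183 (iv3 F423617)) (tt N54616 (iv4 F360180)) (tt N33172 (iv5 D115604)) (tt N33173 F179932) (tt N99176 (iv7 F423580)))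
theorem Q62068 : ∀ i, i < 62068 → P i := stepQ 62067 Q62067 (allL N62067 (tt N98809 (iv1 F422411)) (tt N33173 (iv0 D115606)) (tt N71874 (iv2 F220791)) (tt N76803 (iv3 F366269)) (tt N48856 F346025) (tt N44204 F179933) (tt N75850 F346026) (tt N71873 (iv7 F220788)))
theorem Q62069 : ∀ i, i < 62069 → P i := stepQ 62068 Q62068 (allL N62068 (tt N33173 (iv1 D115607)) (tt N98809 F422410) (tt N71873 (iv2 F220787)) (tt N90913 (iv3 F391253)) (tt N49137 F346027) (tt N44203 F179934) (tt N71536 (iv6 F362128)) (tt N71874 (iv7 F220792)))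
theorem Q62070 : ∀ i, i < 62070 → P i := stepQ 62069 Q62069 (allL N62069 (tt N71873 (iv1 F220790)) (tt N71874 (iv0 F220793)) (tt N98809 (iv2 F422407)) (tt N98808 (iv3 F422403)) (tt N52734 F346053) (tt N33174 F179935) (tt N98804 (iv6 F422387)) (tt N33173 (iv7 D115609)))
theorem Q62071 : ∀ i, i < 62071 → P i := stepQ 62070 Q62070 (allL N62070 (tt N33188 (iv1 F179938)) (tt N33187 F179939) (tt N33191 F179936) (tt N97415 (iv3 F416789)) (tt N81628 (iv4 F349837)) (tt N33175 (iv5 D115610)) (tt N99191 D202325) (tt N33186 F179937))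
theorem Q62072 : ∀ i, i < 62072 → P i := stepQ 62071 Q62071 (allL N62071 (tt N78017 (iv1 F245565)) (tt N78016 F245564) (tt N33192 F179942) (tt N98810 (iv3 F422413)) (tt N33408 F179943) (tt N99192 D202326) (tt N33175 (iv6 D115611)) (tt N77993 (iv7 F245487)))
theorem Q62073 : ∀ i, i < 62073 → P i := stepQ 62072 Q62072 (allL N62072 (tt N82091 F336241) (tt N71559 (iv0 F339868)) (tt N99150 (iv2 F423482)) (tt N33176 (iv3 D115612)) (tt N56015 F179944) (tt N33180 F336232) (tt N99193 D202327) (tt N33182 F179945))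
theorem Q62074 : ∀ i, i < 62074 → P i := stepQ 62073 Q62073 (allL N62073 (tt N61842 (iv1 F181963)) (tt N72646 F222804) (tt N33179 F179946) (tt N33180 F336230) (tt N96839 (iv4 F414200)) (tt N33176 (iv5 D115613)) (tt N33177 F336231) (tt N33184 F179947))
theorem Q62075 : ∀ i, i < 62075 → P i := stepQ 62074 Q62074 (allL N62074 (tt N40648 F366264) (tt N99099 F423334) (tt N33180 F179949) (tt N99193 (iv3 F423644)) (tt N56014 F179950) (tt N99150 (iv5 F423478)) (tt N33176 (iv6 D115614)) (tt N99098 (iv7 F423325)))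
theorem Q62076 : ∀ i, i < 62076 → P i := stepQ 62075 Q62075 (allL N62075 (tt N33177 (iv1 D115616)) (tt N99171 F423565) (tt N98794 (iv2 F422343)) (tt N92894 (iv3 F398685)) (tt N96072 (iv4 F410911)) (tt N94392 (iv5 F404236)) (tt N77995 F401416) (tt N93644 (iv7 F401412)))
theorem Q62077 : ∀ i, i < 62077 → P i := stepQ 62076 Q62076 (allL N62076 (tt N93644 F401417) (tt N98794 (iv0 F422346)) (tt N33177 (iv2 D115617)) (tt N99150 F423480) (tt N36688 (iv4 F179958)) (tt N99193 (iv5 F423646)) (tt N33179 F336229) (tt N99171 (iv7 F423566)))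
theorem Q62078 : ∀ i, i < 62078 → P i := stepQ 62077 Q62077 (allL N62077 (tt N33509 F179951) (tt N36690 F182820) (tt N36688 F179957) (tt N40770 F179973) (tt N33177 (iv4 D115618)) (tt N74093 (iv5 F365078)) (tt N96839 (iv6 F414202)) (tt N36689 (iv7 F179956)))
theorem Q62079 : ∀ i, i < 62079 → P i := stepQ 62078 Q62078 (allL N62078 (tt N99165 (iv1 F438129)) (tt N99194 D202329) (tt N99193 (iv2 F423643)) (tt N33179 F179952) (tt N71067 F219380) (tt N33177 (iv5 D115619)) (tt N99150 F423481) (tt N99195 D202330))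
theorem Q62080 : ∀ i, i < 62080 → P i := stepQ 62079 Q62079 (allL N62079 (tt N98794 F422347) (tt N93644 (iv0 F401413)) (tt N99171 F423564) (tt N33181 F179954) (tt N36689 F179955) (tt N99195 (iv5 F423651)) (tt N99196 D202331) (tt N33177 (iv7 D115621)))
theorem Q62081 : ∀ i, i < 62081 → P i := stepQ 62080 Q62080 (allL N62080 (tt N33183 (iv1 F179966)) (tt N33178 (iv0 D115622)) (tt N33357 (iv2 F179960)) (tt N40595 F179961) (tt N62003 F179959) (tt N66737 (iv5 F205292)) (tt N47722 F321208) (tt N40603 F179962))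
theorem Q62082 : ∀ i, i < 62082 → P i := stepQ 62081 Q62081 (allL N62081 (tt N33313 F179971) (tt N40726 (iv0 F179974)) (tt N40580 F179970) (tt N33178 (iv3 D115623)) (tt N40770 F179972) (tt N73102 (iv5 F223813)) (tt N99197 D202332) (tt N40725 (iv7 F179986)))
theorem Q62083 : ∀ i, i < 62083 → P i := stepQ 62082 Q62082 (allL N62082 (tt N72779 (iv1 F223196)) (tt N40616 (iv0 F181548)) (tt N56013 F179976) (tt N73102 F223814) (tt N72680 (iv4 F222863)) (tt N33178 (iv5 D115624)) (tt N99198 D202333) (tt N72782 (iv7 F223203)))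
theorem Q62084 : ∀ i, i < 62084 → P i := stepQ 62083 Q62083 (allL N62083 (tt N98920 F422792) (tt N40627 F336235) (tt N56014 F179977) (tt N99197 (iv3 F423657)) (tt N33180 F179978) (tt N99199 D202334) (tt N33178 (iv6 D115625)) (tt N99200 D202335))
theorem Q62085 : ∀ i, i < 62085 → P i := stepQ 62084 Q62084 (allL N62084 (tt N40603 (iv1 F179982)) (tt N33357 F179983) (tt N33183 F179979) (tt N40725 (iv3 F179985)) (tt N33181 F179981) (tt N72782 (iv5 F223201)) (tt N76755 F348372) (tt N33178 (iv7 D115626)))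
theorem Q62086 : ∀ i, i < 62086 → P i := stepQ 62085 Q62085 (allL N62085 (tt N33184 (iv1 F179994)) (tt N33179 (iv0 D115627)) (tt N61842 (iv2 F179990)) (tt N62358 F364947) (tt N90994 (iv4 F391499)) (tt N61841 F179989) (tt N99201 D202336) (tt N72646 (iv7 F222802)))
theorem Q62087 : ∀ i, i < 62087 → P i := stepQ 62086 Q62086 (allL N62086 (tt N72646 (iv1 F222803)) (tt N61842 F181964) (tt N33184 F179991) (tt N99195 (iv3 F423649)) (tt N58448 F179992) (tt N33181 F179993) (tt N99202 D202337) (tt N33179 (iv7 D115629)))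
theorem Q62088 : ∀ i, i < 62088 → P i := stepQ 62087 Q62087 (allL N62087 (tt N99098 F423329) (tt N33180 (iv0 D115630)) (tt N40648 F336237) (tt N90944 (iv3 F391324)) (tt N33423 F336238) (tt N99203 D202338) (tt N62987 (iv6 F336239)) (tt N99099 (iv7 F423332)))
theorem Q62089 : ∀ i, i < 62089 → P i := stepQ 62088 Q62088 (allL N62088 (tt N99099 (iv1 F423333)) (tt N40648 F360885) (tt N99098 F423328) (tt N33184 F336233) (tt N99200 (iv4 F423673)) (tt N33182 F336234) (tt N99145 F423457) (tt N33180 (iv7 D115633)))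
theorem Q62090 : ∀ i, i < 62090 → P i := stepQ 62089 Q62089 (allL N62089 (tt N76774 (iv1 F348374)) (tt N40764 F348373) (tt N33185 F179995) (tt N99196 (iv3 F423652)) (tt N76755 F348367) (tt N76800 (iv5 F348366)) (tt N33181 (iv6 D115634)) (tt N99145 (iv7 F423456)))
theorem Q62091 : ∀ i, i < 62091 → P i := stepQ 62090 Q62090 (allL N62090 (tt N99150 (iv1 F423476)) (tt N33182 (iv0 D115635)) (tt N71559 F360873) (tt N98813 F422430) (tt N55965 F179996) (tt N82092 F360874) (tt N44252 F360875) (tt N82091 F360876))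
theorem Q62092 : ∀ i, i < 62092 → P i := stepQ 62091 Q62091 (allL N62091 (tt N71559 (iv1 F360871)) (tt N82091 F336243) (tt N33182 (iv2 D115637)) (tt N99171 F423567) (tt N99204 D202339) (tt N99098 (iv5 F423327)) (tt N99205 D202340) (tt N99150 (iv7 F423477)))
theorem Q62093 : ∀ i, i < 62093 → P i := stepQ 62092 Q62092 (allL N62092 (tt N61970 F180000) (tt N61967 (iv0 F179999)) (tt N99204 (iv2 F423689)) (tt N40578 F179997) (tt N33182 (iv4 D115638)) (tt N99206 D202341) (tt N99207 D202342) (tt N56015 F179998))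
theorem Q62094 : ∀ i, i < 62094 → P i := stepQ 62093 Q62093 (allL N62093 (tt N99208 D202343) (tt N99209 D202344) (tt N99205 (iv2 F423694)) (tt N33185 F180003) (tt N99207 (iv4 F423698)) (tt N99210 D202345) (tt N33182 (iv6 D115640)) (tt N99211 D202346))
theorem Q62095 : ∀ i, i < 62095 → P i := stepQ 62094 Q62094 (allL N62094 (tt N40616 (iv1 F181549)) (tt N72779 (iv0 F223195)) (tt N72782 F223202) (tt N40579 F180004) (tt N59966 F180006) (tt N33183 (iv5 D115641)) (tt N75857 (iv6 F361273)) (tt N56013 F180005))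
theorem Q62096 : ∀ i, i < 62096 → P i := stepQ 62095 Q62095 (allL N62095 (tt N80393 F319615) (tt N99212 D202347) (tt N76755 F319616) (tt N33881 F319617) (tt N33185 F180008) (tt N33879 F319618) (tt N33183 (iv6 D115642)) (tt N76763 F319619))
theorem Q62097 : ∀ i, i < 62097 → P i := stepQ 62096 Q62096 (allL N62096 (tt N92535 (iv1 F397291)) (tt N96830 (iv0 F414165)) (tt N58448 F180009) (tt N77714 (iv3 F361868)) (tt N33184 (iv4 D115643)) (tt N58572 F180010) (tt N75926 (iv6 F366574)) (tt N96839 (iv7 F414203)))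
theorem Q62098 : ∀ i, i < 62098 → P i := stepQ 62097 Q62097 (allL N62097 (tt N90989 F391491) (tt N90991 (iv0 F391493)) (tt N99202 (iv2 F423680)) (tt N99145 (iv3 F423453)) (tt N75926 F366576) (tt N75882 (iv5 F366577)) (tt N33184 (iv6 D115644)) (tt N99196 (iv7 F423654)))
theorem Q62099 : ∀ i, i < 62099 → P i := stepQ 62098 Q62098 (allL N62098 (tt N33185 (iv1 D115646)) (tt N99145 F423455) (tt N40764 F348345) (tt N89296 (iv3 F385968)) (tt N33436 F348346) (tt N99213 D202348) (tt N76820 (iv6 F348347)) (tt N76774 (iv7 F348348)))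
theorem Q62100 : ∀ i, i < 62100 → P i := stepQ 62099 Q62099 (allL N62099 (tt N76803 (iv1 F348349)) (tt N76599 (iv0 F366263)) (tt N76800 F348365) (tt N99210 (iv3 F423699)) (tt N99214 D202349) (tt N33185 (iv5 D115647)) (tt N75882 F366578) (tt N76801 (iv7 F348364)))
theorem Q62101 : ∀ i, i < 62101 → P i := stepQ 62100 Q62100 (allL N62100 (tt N40764 F348360) (tt N76774 F348361) (tt N99145 F423454) (tt N99211 (iv3 F423700)) (tt N76763 F348362) (tt N76801 F348363) (tt N99098 (iv6 F423330)) (tt N33185 (iv7 D115648)))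
theorem Q62102 : ∀ i, i < 62102 → P i := stepQ 62101 Q62101 (allL N62101 (tt N33191 (iv1 F180011)) (tt N33186 (iv0 D115649)) (tt N33187 (iv2 F180013)) (tt N82090 (iv3 F408057)) (tt N95380 (iv4 F408054)) (tt N40159 F180012) (tt N99215 D202350) (tt N33188 (iv7 F180014)))
theorem Q62103 : ∀ i, i < 62103 → P i := stepQ 62102 Q62102 (allL N62102 (tt N33186 (iv1 D115650)) (tt N33191 F180015) (tt N33188 (iv2 F180018)) (tt N94390 F404231) (tt N58584 (iv4 F180019)) (tt N40158 F180017) (tt N78042 F351403) (tt N33187 F180016))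
theorem Q62104 : ∀ i, i < 62104 → P i := stepQ 62103 Q62103 (allL N62103 (tt N96851 (iv1 F414257)) (tt N99216 D202351) (tt N33189 F180020) (tt N99217 D202352) (tt N33186 (iv4 D115651)) (tt N42123 F180021) (tt N99218 D202353) (tt N81628 F349839))
theorem Q62105 : ∀ i, i < 62105 → P i := stepQ 62104 Q62104 (allL N62104 (tt N76841 F415098) (tt N99219 D202354) (tt N33190 F180022) (tt N97026 F415096) (tt N99218 (iv4 F423732)) (tt N78004 (iv5 F245548)) (tt N33186 (iv6 D115652)) (tt N99220 D202355))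
theorem Q62106 : ∀ i, i < 62106 → P i := stepQ 62105 Q62105 (allL N62105 (tt N44290 F404240) (tt N94392 F404241) (tt N94391 F404254) (tt N33187 (iv3 D115653)) (tt N74121 F226834) (tt N98872 (iv5 F422648)) (tt N99221 D202356) (tt N94390 F404232))
theorem Q62107 : ∀ i, i < 62107 → P i := stepQ 62106 Q62106 (allL N62106 (tt N99222 D202357) (tt N99223 D202358) (tt N99215 (iv2 F423716)) (tt N99221 (iv3 F423748)) (tt N95384 (iv4 F408079)) (tt N99224 D202359) (tt N33187 (iv6 D115654)) (tt N99225 D202360))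
theorem Q62108 : ∀ i, i < 62108 → P i := stepQ 62107 Q62107 (allL N62107 (tt N82092 F404291) (tt N68336 (iv0 F404292)) (tt N82089 F408060) (tt N33188 (iv3 D115655)) (tt N99226 D202361) (tt N78036 (iv5 F404286)) (tt N76862 (iv6 F403255)) (tt N82090 F408059))
theorem Q62109 : ∀ i, i < 62109 → P i := stepQ 62108 Q62108 (allL N62108 (tt N95383 (iv1 F408071)) (tt N95382 F408068) (tt N58584 F180023) (tt N82129 F347161) (tt N33188 (iv4 D115656)) (tt N59805 F180024) (tt N99227 D202362) (tt N95380 (iv7 F408055)))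
theorem Q62110 : ∀ i, i < 62110 → P i := stepQ 62109 Q62109 (allL N62109 (tt N99228 D202363) (tt N99229 D202364) (tt N78042 F339864) (tt N76862 F403254) (tt N99227 (iv4 F423758)) (tt N33204 F339865) (tt N33188 (iv6 D115657)) (tt N78045 F339866))
theorem Q62111 : ∀ i, i < 62111 → P i := stepQ 62110 Q62110 (allL N62110 (tt N81628 (iv1 F349844)) (tt N33189 (iv0 D115658)) (tt N96851 (iv2 F414252)) (tt N99230 D202365) (tt N99231 D202366) (tt N96850 F414251) (tt N99232 D202367) (tt N99216 (iv7 F423719)))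
theorem Q62112 : ∀ i, i < 62112 → P i := stepQ 62111 Q62111 (allL N62111 (tt N33189 (iv1 D115659)) (tt N81628 F349840) (tt N99216 F423722) (tt N58480 F349842) (tt N99233 D202368) (tt N58479 (iv5 F349841)) (tt N89227 (iv6 F385678)) (tt N96851 (iv7 F414254)))
theorem Q62113 : ∀ i, i < 62113 → P i := stepQ 62112 Q62112 (allL N62112 (tt N96807 (iv1 F414053)) (tt N58406 (iv0 F180026)) (tt N91400 (iv2 F392989)) (tt N33189 (iv3 D115660)) (tt N33197 F180025) (tt N39222 (iv5 F180027)) (tt N91278 F392510) (tt N95293 (iv7 F407758)))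
theorem Q62114 : ∀ i, i < 62114 → P i := stepQ 62113 Q62113 (allL N62113 (tt N81627 (iv1 F349851)) (tt N59931 (iv0 F180031)) (tt N42123 F180028) (tt N39222 F180029) (tt N42120 F180030) (tt N33189 (iv5 D115661)) (tt N81622 (iv6 F349850)) (tt N78668 F349845))
theorem Q62115 : ∀ i, i < 62115 → P i := stepQ 62114 Q62114 (allL N62114 (tt N91264 F392450) (tt N99234 D202369) (tt N99218 (iv2 F423730)) (tt N91278 (iv3 F392511)) (tt N33190 F180032) (tt N99235 D202370) (tt N33189 (iv6 D115662)) (tt N91397 (iv7 F392980)))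
theorem Q62116 : ∀ i, i < 62116 → P i := stepQ 62115 Q62115 (allL N62115 (tt N99216 (iv1 F423718)) (tt N96851 (iv0 F414256)) (tt N81628 F349838) (tt N95293 (iv3 F407756)) (tt N33191 F180033) (tt N78668 (iv5 F349843)) (tt N90741 F390707) (tt N33189 (iv7 D115663)))
theorem Q62117 : ∀ i, i < 62117 → P i := stepQ 62116 Q62116 (allL N62116 (tt N99220 (iv1 F423747)) (tt N33190 (iv0 D115664)) (tt N76841 (iv2 F404229)) (tt N44288 F404293) (tt N99236 D202371) (tt N99237 D202372) (tt N76839 F404230) (tt N99219 (iv7 F423738)))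
theorem Q62118 : ∀ i, i < 62118 → P i := stepQ 62117 Q62117 (allL N62117 (tt N33190 (iv1 D115665)) (tt N99220 F423746) (tt N99219 (iv2 F423740)) (tt N72644 F404226) (tt N74089 F404227) (tt N99238 D202373) (tt N72643 (iv6 F404225)) (tt N76841 (iv7 F404228)))
theorem Q62119 : ∀ i, i < 62119 → P i := stepQ 62118 Q62118 (allL N62118 (tt N99219 (iv1 F423737)) (tt N76841 (iv0 F415148)) (tt N99220 (iv2 F423742)) (tt N33201 F180034) (tt N91397 (iv4 F392979)) (tt N78015 (iv5 F245562)) (tt N99239 D202374) (tt N33190 (iv7 D115666)))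
theorem Q62120 : ∀ i, i < 62120 → P i := stepQ 62119 Q62119 (allL N62119 (tt N44283 F355490) (tt N82083 (iv0 F355475)) (tt N99191 (iv2 F423625)) (tt N33202 F180035) (tt N90741 (iv4 F390706)) (tt N44257 F351402) (tt N33191 (iv6 D115667)) (tt N99239 (iv7 F423816)))
theorem Q62121 : ∀ i, i < 62121 → P i := stepQ 62120 Q62120 (allL N62120 (tt N77993 (iv1 F245489)) (tt N33192 (iv0 D115668)) (tt N78017 (iv2 F359987)) (tt N62158 F416052) (tt N99240 D202375) (tt N98839 (iv5 F422525)) (tt N99241 D202376) (tt N78016 (iv7 F359988)))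
theorem Q62122 : ∀ i, i < 62122 → P i := stepQ 62121 Q62121 (allL N62121 (tt N33192 (iv1 D115669)) (tt N77993 F245488) (tt N78016 F359984) (tt N99242 D202377) (tt N94469 (iv4 F404599)) (tt N33196 F359985) (tt N94924 (iv6 F406359)) (tt N78017 F359986))
theorem Q62123 : ∀ i, i < 62123 → P i := stepQ 62122 Q62122 (allL N62122 (tt N62155 F404287) (tt N99243 D202378) (tt N99192 (iv2 F423633)) (tt N33205 F180036) (tt N48121 F351385) (tt N33192 (iv5 D115670)) (tt N44257 F351386) (tt N62052 (iv7 F339874)))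
theorem Q62124 : ∀ i, i < 62124 → P i := stepQ 62123 Q62123 (allL N62123 (tt N39035 F330581) (tt N61946 F330582) (tt N33193 (iv2 D115673)) (tt N98831 (iv3 F422491)) (tt N94216 (iv4 F403731)) (tt N73410 F330583) (tt N61834 F330584) (tt N68335 F330585))
theorem Q62125 : ∀ i, i < 62125 → P i := stepQ 62124 Q62124 (allL N62124 (tt N37691 F330586) (tt N94217 F403741) (tt N94216 (iv2 F403735)) (tt N57331 F330587) (tt N33193 (iv4 D115674)) (tt N67888 F330588) (tt N62622 F330589) (tt N67732 F330590))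
theorem Q62126 : ∀ i, i < 62126 → P i := stepQ 62125 Q62125 (allL N62125 (tt N98837 (iv1 F422518)) (tt N33194 (iv0 D115676)) (tt N98834 F422503) (tt N97020 (iv3 F415063)) (tt N60096 (iv4 F357049)) (tt N99244 D202379) (tt N66264 F357048) (tt N98835 (iv7 F422508)))
theorem Q62127 : ∀ i, i < 62127 → P i := stepQ 62126 Q62126 (allL N62126 (tt N33194 (iv1 D115677)) (tt N98837 F422517) (tt N98835 (iv2 F422510)) (tt N99223 (iv3 F433003)) (tt N60097 (iv4 F415295)) (tt N99245 D202381) (tt N99246 D202382) (tt N98834 (iv7 F422505)))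
theorem Q62128 : ∀ i, i < 62128 → P i := stepQ 62127 Q62127 (allL N62127 (tt N99247 D202383) (tt N99248 D202384) (tt N98836 (iv2 F422512)) (tt N72661 (iv3 F365194)) (tt N99249 D202385) (tt N33194 (iv5 D115678)) (tt N97371 (iv6 F416566)) (tt N99250 D202386))
theorem Q62129 : ∀ i, i < 62129 → P i := stepQ 62128 Q62128 (allL N62128 (tt N98835 (iv1 F422507)) (tt N98834 (iv0 F422506)) (tt N98837 (iv2 F422514)) (tt N61833 (iv3 F362476)) (tt N74249 F362475) (tt N99250 (iv5 F423840)) (tt N98839 (iv6 F422526)) (tt N33194 (iv7 D115679)))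
theorem Q62130 : ∀ i, i < 62130 → P i := stepQ 62129 Q62129 (allL N62129 (tt N98795 F422354) (tt N98792 (iv0 F422338)) (tt N33195 (iv2 D115682)) (tt N68335 (iv3 F357061)) (tt N99251 D202387) (tt N62148 F357060) (tt N99252 D202388) (tt N98831 (iv7 F422493)))
theorem Q62131 : ∀ i, i < 62131 → P i := stepQ 62130 Q62130 (allL N62130 (tt N99253 D202389) (tt N99254 D202390) (tt N99251 (iv2 F423841)) (tt N97374 (iv3 F416581)) (tt N33195 (iv4 D115683)) (tt N99255 D202391) (tt N99256 D202392) (tt N98832 (iv7 F422497)))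
theorem Q62132 : ∀ i, i < 62132 → P i := stepQ 62131 Q62131 (allL N62131 (tt N99257 D202393) (tt N99258 D202394) (tt N99252 (iv2 F423843)) (tt N33196 F180038) (tt N99256 (iv4 F423855)) (tt N99242 (iv5 F423825)) (tt N33195 (iv6 D115684)) (tt N99259 D202395))
theorem Q62133 : ∀ i, i < 62133 → P i := stepQ 62132 Q62132 (allL N62132 (tt N98839 (iv1 F422528)) (tt N33196 (iv0 D115685)) (tt N95803 (iv2 F409727)) (tt N99228 F423762) (tt N95760 (iv4 F409503)) (tt N76804 F359989) (tt N99260 D202396) (tt N76864 (iv7 F359990)))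
theorem Q62134 : ∀ i, i < 62134 → P i := stepQ 62133 Q62133 (allL N62133 (tt N33196 (iv1 D115686)) (tt N98839 F422527) (tt N76864 (iv2 F409512)) (tt N65057 (iv3 F404600)) (tt N95761 (iv4 F409508)) (tt N63667 F409513) (tt N99261 D202397) (tt N95803 (iv7 F409729)))
theorem Q62135 : ∀ i, i < 62135 → P i := stepQ 62134 Q62134 (allL N62134 (tt N76864 (iv1 F351508)) (tt N95803 (iv0 F409730)) (tt N98839 (iv2 F422524)) (tt N99259 (iv3 F423856)) (tt N97377 (iv4 F416593)) (tt N78017 F351509) (tt N98837 (iv6 F422516)) (tt N33196 (iv7 D115688)))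
theorem Q62136 : ∀ i, i < 62136 → P i := stepQ 62135 Q62135 (allL N62135 (tt N75254 (iv1 F230899)) (tt N33197 (iv0 D115689)) (tt N95794 (iv2 F409685)) (tt N99262 D202398) (tt N95394 (iv4 F408100)) (tt N60089 (iv5 F344703)) (tt N99263 D202399) (tt N95793 (iv7 F409681)))
theorem Q62137 : ∀ i, i < 62137 → P i := stepQ 62136 Q62136 (allL N62136 (tt N33197 (iv1 D115690)) (tt N75254 F230898) (tt N95793 (iv2 F409680)) (tt N67736 (iv3 F344732)) (tt N99264 D202400) (tt N60090 F344730) (tt N82469 (iv6 F344733)) (tt N95794 (iv7 F409687)))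
theorem Q62138 : ∀ i, i < 62138 → P i := stepQ 62137 Q62137 (allL N62137 (tt N95794 (iv1 F409689)) (tt N95793 (iv0 F409683)) (tt N33197 (iv2 D115691)) (tt N89434 (iv3 F386500)) (tt N91400 (iv4 F392990)) (tt N65871 (iv5 F202690)) (tt N89431 (iv6 F386469)) (tt N75254 (iv7 F230897)))
theorem Q62139 : ∀ i, i < 62139 → P i := stepQ 62138 Q62138 (allL N62138 (tt N89204 (iv1 F385577)) (tt N70928 (iv0 F359937)) (tt N89431 (iv2 F386467)) (tt N33198 F180039) (tt N91278 (iv4 F392512)) (tt N68589 F359936) (tt N33197 (iv6 D115692)) (tt N90515 (iv7 F389911)))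
theorem Q62140 : ∀ i, i < 62140 → P i := stepQ 62139 Q62139 (allL N62139 (tt N33198 (iv1 D115694)) (tt N79415 (iv0 F357025)) (tt N62693 F350925) (tt N74714 F350926) (tt N98944 (iv4 F422829)) (tt N79384 (iv5 F350924)) (tt N99265 D202401) (tt N79414 F350927))
theorem Q62141 : ∀ i, i < 62141 → P i := stepQ 62140 Q62140 (allL N62140 (tt N64274 F351485) (tt N47961 F351486) (tt N47198 F351487) (tt N68589 (iv3 F351477)) (tt N57704 (iv4 F343405)) (tt N33198 (iv5 D115695)) (tt N47949 F333679) (tt N64273 F351488))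
theorem Q62142 : ∀ i, i < 62142 → P i := stepQ 62141 Q62141 (allL N62141 (tt N62693 (iv1 F357064)) (tt N79414 F357063) (tt N79415 (iv2 F357031)) (tt N90515 F389912) (tt N33201 F180040) (tt N64273 F357062) (tt N82143 (iv6 F351343)) (tt N33198 (iv7 D115696)))
theorem Q62143 : ∀ i, i < 62143 → P i := stepQ 62142 Q62142 (allL N62142 (tt N97060 (iv1 F415272)) (tt N58755 (iv0 F350932)) (tt N90194 (iv2 F388838)) (tt N62694 (iv3 F350929)) (tt N33199 (iv4 D115699)) (tt N34221 F350928) (tt N66317 (iv6 F357059)) (tt N66228 (iv7 F350930)))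
theorem Q62144 : ∀ i, i < 62144 → P i := stepQ 62143 Q62143 (allL N62143 (tt N99266 D202402) (tt N99267 D202403) (tt N98840 (iv2 F422529)) (tt N73201 (iv3 F357085)) (tt N73332 (iv4 F350931)) (tt N33199 (iv5 D115700)) (tt N99268 D202404) (tt N98841 (iv7 F422533)))
theorem Q62145 : ∀ i, i < 62145 → P i := stepQ 62144 Q62144 (allL N62144 (tt N99261 F423861) (tt N91267 (iv0 F392465)) (tt N90192 (iv2 F388831)) (tt N61897 F357057) (tt N66317 F357058) (tt N99269 D202405) (tt N33199 (iv6 D115701)) (tt N66267 (iv7 F357056)))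
theorem Q62146 : ∀ i, i < 62146 → P i := stepQ 62145 Q62145 (allL N62145 (tt N99170 F423561) (tt N44278 F357050) (tt N72641 F357051) (tt N33200 (iv3 D115703)) (tt N90181 (iv4 F388807)) (tt N99270 D202406) (tt N72640 F357052) (tt N90180 (iv7 F388802)))
theorem Q62147 : ∀ i, i < 62147 → P i := stepQ 62146 Q62146 (allL N62146 (tt N58755 F357032) (tt N97060 F415271) (tt N66228 F357033) (tt N66359 F357034) (tt N33200 (iv4 D115704)) (tt N34220 F357035) (tt N66226 F357036) (tt N90194 (iv7 F388842)))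
theorem Q62148 : ∀ i, i < 62148 → P i := stepQ 62147 Q62147 (allL N62147 (tt N99267 (iv1 F423882)) (tt N99266 F423881) (tt N98841 (iv2 F422531)) (tt N99270 (iv3 F423885)) (tt N99271 D202407) (tt N33200 (iv5 D115705)) (tt N99272 D202408) (tt N98840 (iv7 F422530)))
theorem Q62149 : ∀ i, i < 62149 → P i := stepQ 62148 Q62148 (allL N62148 (tt N66265 F357041) (tt N66264 (iv0 F357043)) (tt N58057 F357038) (tt N72640 F357039) (tt N66226 (iv4 F357037)) (tt N62129 (iv5 F357060)) (tt N33200 (iv6 D115706)) (tt N66266 F357040))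
theorem Q62150 : ∀ i, i < 62150 → P i := stepQ 62149 Q62149 (allL N62149 (tt N57318 F347950) (tt N94255 F403860) (tt N94254 F403851) (tt N99239 (iv3 F423814)) (tt N82143 (iv4 F351341)) (tt N77983 F347949) (tt N33201 (iv6 D115707)) (tt N33202 F180043))
theorem Q62151 : ∀ i, i < 62151 → P i := stepQ 62150 Q62150 (allL N62150 (tt N33202 (iv1 D115709)) (tt N94254 F403852) (tt N57318 F355509) (tt N44275 F355510) (tt N57339 F355511) (tt N82083 F355512) (tt N99273 D202409) (tt N94255 (iv7 F403858)))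
theorem Q62152 : ∀ i, i < 62152 → P i := stepQ 62151 Q62151 (allL N62151 (tt N77827 F351399) (tt N44267 F351400) (tt N77982 F347953) (tt N44257 F351401) (tt N99274 D202410) (tt N33202 (iv5 D115710)) (tt N33205 F180044) (tt N77983 (iv7 F347952)))
theorem Q62153 : ∀ i, i < 62153 → P i := stepQ 62152 Q62152 (allL N62152 (tt N77960 (iv1 F423079)) (tt N98800 (iv0 F423078)) (tt N99155 F423811) (tt N33203 (iv3 D115711)) (tt N96243 (iv4 F411711)) (tt N99275 D202411) (tt N99276 D202412) (tt N78041 (iv7 F245586)))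
theorem Q62154 : ∀ i, i < 62154 → P i := stepQ 62153 Q62153 (allL N62153 (tt N99229 (iv1 F423764)) (tt N99228 F423761) (tt N78045 (iv2 F245592)) (tt N99275 (iv3 F423904)) (tt N99277 D202413) (tt N33203 (iv5 D115712)) (tt N99225 (iv6 F423753)) (tt N78042 (iv7 F245588)))
theorem Q62155 : ∀ i, i < 62155 → P i := stepQ 62154 Q62154 (allL N62154 (tt N83389 F415248) (tt N77956 F415249) (tt N78046 (iv2 F245594)) (tt N99276 (iv3 F423905)) (tt N97056 (iv4 F415244)) (tt N99278 D202414) (tt N33203 (iv6 D115713)) (tt N99104 (iv7 F423352)))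
theorem Q62156 : ∀ i, i < 62156 → P i := stepQ 62155 Q62155 (allL N62155 (tt N98793 F422342) (tt N62122 (iv0 F404287)) (tt N99175 F423642) (tt N33204 (iv3 D115714)) (tt N94110 (iv4 F403250)) (tt N76862 (iv5 F403253)) (tt N78035 F404285) (tt N78044 (iv7 F245591)))
theorem Q62157 : ∀ i, i < 62157 → P i := stepQ 62156 Q62156 (allL N62156 (tt N77935 F359506) (tt N96824 (iv0 F414137)) (tt N78043 (iv2 F245589)) (tt N78035 (iv3 F404284)) (tt N92674 (iv4 F397844)) (tt N73204 F224073) (tt N33204 (iv6 D115716)) (tt N99148 (iv7 F423470)))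
theorem Q62158 : ∀ i, i < 62158 → P i := stepQ 62157 Q62157 (allL N62157 (tt N77857 (iv1 F245155)) (tt N33205 (iv0 D115717)) (tt N78048 (iv2 F416054)) (tt N99272 (iv3 F423890)) (tt N97245 (iv4 F416064)) (tt N98984 (iv5 F422911)) (tt N99270 (iv6 F423886)) (tt N78047 (iv7 F416056)))
theorem Q62159 : ∀ i, i < 62159 → P i := stepQ 62158 Q62158 (allL N62158 (tt N33205 (iv1 D115718)) (tt N77857 F245154) (tt N78047 F416055) (tt N62120 (iv3 F416052)) (tt N97246 (iv4 F416051)) (tt N98866 (iv5 F422624)) (tt N99279 D202415) (tt N78048 F416053))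
theorem Q62160 : ∀ i, i < 62160 → P i := stepQ 62159 Q62159 (allL N62159 (tt N99280 D202416) (tt N99281 D202417) (tt N98842 (iv2 F422535)) (tt N99282 D202418) (tt N33205 (iv4 D115719)) (tt N99283 D202419) (tt N99274 (iv6 F423900)) (tt N78049 (iv7 F245601)))
theorem Q62161 : ∀ i, i < 62161 → P i := stepQ 62160 Q62160 (allL N62160 (tt N72179 F221538) (tt N61826 (iv0 F180046)) (tt N72613 F222747) (tt N33208 F180045) (tt N99284 D202420) (tt N33206 (iv5 D115720)) (tt N68332 (iv6 F209563)) (tt N72614 (iv7 F222753)))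
theorem Q62162 : ∀ i, i < 62162 → P i := stepQ 62161 Q62161 (allL N62161 (tt N40570 F216199) (tt N71372 (iv0 F219987)) (tt N71080 (iv2 F219409)) (tt N33209 F180047) (tt N94405 (iv4 F404323)) (tt N61671 F180048) (tt N33206 (iv6 D115721)) (tt N70019 (iv7 F216428)))
theorem Q62163 : ∀ i, i < 62163 → P i := stepQ 62162 Q62162 (allL N62162 (tt N71569 (iv1 F433595)) (tt N98784 (iv0 F433593)) (tt N99070 F423226) (tt N33207 (iv3 D115722)) (tt N94403 (iv4 F404316)) (tt N99285 D202423) (tt N99286 D202424) (tt N78051 (iv7 F245608)))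
theorem Q62164 : ∀ i, i < 62164 → P i := stepQ 62163 Q62163 (allL N62163 (tt N99287 D202425) (tt N99288 D202426) (tt N78055 (iv2 F245616)) (tt N99285 (iv3 F423941)) (tt N90584 (iv4 F390170)) (tt N33207 (iv5 D115723)) (tt N99289 D202427) (tt N78052 (iv7 F245610)))
theorem Q62165 : ∀ i, i < 62165 → P i := stepQ 62164 Q62164 (allL N62164 (tt N93640 F401400) (tt N77950 (iv0 F386207)) (tt N70026 (iv2 F216432)) (tt N99286 (iv3 F423943)) (tt N33209 F180049) (tt N99290 D202428) (tt N33207 (iv6 D115724)) (tt N70022 (iv7 F216430)))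
theorem Q62166 : ∀ i, i < 62166 → P i := stepQ 62165 Q62165 (allL N62165 (tt N71879 F226986) (tt N61892 F245208) (tt N78056 (iv2 F245618)) (tt N99291 D202429) (tt N33208 (iv4 D115725)) (tt N99062 (iv5 F423194)) (tt N68333 (iv6 F209565)) (tt N72670 (iv7 F222834)))
theorem Q62167 : ∀ i, i < 62167 → P i := stepQ 62166 Q62166 (allL N62166 (tt N93630 F401356) (tt N77939 (iv0 F351462)) (tt N99110 F423371) (tt N33210 (iv3 D115726)) (tt N59204 F180050) (tt N65025 (iv5 F351086)) (tt N96897 (iv6 F414500)) (tt N78054 (iv7 F245615)))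
theorem Q62168 : ∀ i, i < 62168 → P i := stepQ 62167 Q62167 (allL N62167 (tt N99288 (iv1 F423950)) (tt N99287 F423946) (tt N78052 (iv2 F245609)) (tt N65025 F351087) (tt N89227 (iv4 F385677)) (tt N33210 (iv5 D115727)) (tt N99233 (iv6 F423783)) (tt N78055 (iv7 F245617)))
theorem Q62169 : ∀ i, i < 62169 → P i := stepQ 62168 Q62168 (allL N62168 (tt N61892 (iv1 F226988)) (tt N71879 F226987) (tt N72670 (iv2 F222832)) (tt N99292 D202430) (tt N33211 (iv4 D115728)) (tt N99061 (iv5 F423190)) (tt N61837 F180051) (tt N78056 (iv7 F245620)))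
theorem Q62170 : ∀ i, i < 62170 → P i := stepQ 62169 Q62169 (allL N62169 (tt N40345 (iv1 F180052)) (tt N33212 (iv0 D115729)) (tt N40344 F228320) (tt N93944 (iv3 F402519)) (tt N74669 F228518) (tt N85207 (iv5 F371889)) (tt N93943 (iv6 F402512)) (tt N40343 F228321))
theorem Q62171 : ∀ i, i < 62171 → P i := stepQ 62170 Q62170 (allL N62170 (tt N33212 (iv1 D115730)) (tt N40345 F180057) (tt N40343 F228317) (tt N86077 (iv3 F375059)) (tt N74534 (iv4 F228314)) (tt N85206 (iv5 F371883)) (tt N86037 F374979) (tt N40344 F228318))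
theorem Q62172 : ∀ i, i < 62172 → P i := stepQ 62171 Q62171 (allL N62171 (tt N40344 (iv1 F180058)) (tt N40343 F180056) (tt N33212 (iv2 D115731)) (tt N40352 F180053) (tt N41482 F180054) (tt N99293 D202431) (tt N99294 D202432) (tt N40345 F180055))
theorem Q62173 : ∀ i, i < 62173 → P i := stepQ 62172 Q62172 (allL N62172 (tt N56772 (iv1 F223624)) (tt N56777 F180534) (tt N99293 (iv2 F423965)) (tt N33213 F180059) (tt N76244 (iv4 F363673)) (tt N33212 (iv5 D115732)) (tt N58163 F353304) (tt N40346 F180060))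
theorem Q62174 : ∀ i, i < 62174 → P i := stepQ 62173 Q62173 (allL N62173 (tt N99295 D202433) (tt N99296 D202434) (tt N99294 (iv2 F423972)) (tt N33214 F180061) (tt N41483 F180062) (tt N47924 F353305) (tt N33212 (iv6 D115733)) (tt N99297 D202435))
theorem Q62175 : ∀ i, i < 62175 → P i := stepQ 62174 Q62174 (allL N62174 (tt N40357 (iv1 F180072)) (tt N33214 (iv0 D115735)) (tt N40355 F202606) (tt N99298 D202436) (tt N41100 F180075) (tt N73563 (iv5 F364137)) (tt N99299 D202437) (tt N40356 F202600))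
theorem Q62176 : ∀ i, i < 62176 → P i := stepQ 62175 Q62175 (allL N62175 (tt N33214 (iv1 D115736)) (tt N40357 F180065) (tt N40356 F202603) (tt N99300 D202438) (tt N41101 F180066) (tt N58358 F364139) (tt N72631 (iv6 F226752)) (tt N40355 (iv7 F202605)))
theorem Q62177 : ∀ i, i < 62177 → P i := stepQ 62176 Q62176 (allL N62176 (tt N40356 (iv1 F180073)) (tt N40355 F180077) (tt N40357 F180069) (tt N99297 (iv3 F423979)) (tt N33216 F180070) (tt N59336 (iv5 F362636)) (tt N39909 F180071) (tt N33214 (iv7 D115738)))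
theorem Q62178 : ∀ i, i < 62178 → P i := stepQ 62177 Q62177 (allL N62177 (tt N40372 F180081) (tt N33221 F180082) (tt N40193 F180079) (tt N99301 D202439) (tt N33215 (iv4 D115739)) (tt N95096 (iv5 F407015)) (tt N72853 (iv6 F223456)) (tt N40358 F180080))
theorem Q62179 : ∀ i, i < 62179 → P i := stepQ 62178 Q62178 (allL N62178 (tt N40352 (iv1 F180083)) (tt N33217 (iv0 D115740)) (tt N40351 (iv2 F182467)) (tt N99302 D202440) (tt N99303 D202441) (tt N70137 (iv5 F404831)) (tt N99304 D202442) (tt N40350 F182468))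
theorem Q62180 : ∀ i, i < 62180 → P i := stepQ 62179 Q62179 (allL N62179 (tt N33217 (iv1 D115741)) (tt N40352 F180087) (tt N40350 F182466) (tt N40436 (iv3 F180221)) (tt N73426 (iv4 F322101)) (tt N70138 (iv5 F404824)) (tt N74712 (iv6 F354204)) (tt N40351 (iv7 F182465)))
theorem Q62181 : ∀ i, i < 62181 → P i := stepQ 62180 Q62180 (allL N62180 (tt N40351 (iv1 F180088)) (tt N40350 F180086) (tt N33217 (iv2 D115742)) (tt N40345 F180084) (tt N71357 (iv4 F219936)) (tt N99305 D202443) (tt N99306 D202444) (tt N40352 F180085))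
theorem Q62182 : ∀ i, i < 62182 → P i := stepQ 62181 Q62181 (allL N62181 (tt N72834 (iv1 F350889)) (tt N72836 F350891) (tt N99305 (iv2 F424015)) (tt N33218 F180089) (tt N99307 D202445) (tt N33217 (iv5 D115743)) (tt N64287 (iv6 F341400)) (tt N40353 F180090))
theorem Q62183 : ∀ i, i < 62183 → P i := stepQ 62182 Q62182 (allL N62182 (tt N58103 (iv1 F353059)) (tt N99308 D202446) (tt N99306 (iv2 F424023)) (tt N33219 F180091) (tt N47352 F330962) (tt N64284 F341269) (tt N33217 (iv6 D115744)) (tt N82002 (iv7 F341401)))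
theorem Q62184 : ∀ i, i < 62184 → P i := stepQ 62183 Q62183 (allL N62183 (tt N33219 (iv1 D115746)) (tt N39909 F180094) (tt N40349 F180097) (tt N99309 D202447) (tt N41248 (iv4 F180096)) (tt N63882 (iv5 F344441)) (tt N70212 (iv6 F216979)) (tt N40348 F180095))
theorem Q62185 : ∀ i, i < 62185 → P i := stepQ 62184 Q62184 (allL N62184 (tt N40362 (iv1 F180099)) (tt N33220 (iv0 D115748)) (tt N40361 F349743) (tt N93531 (iv3 F401060)) (tt N99310 D202448) (tt N70416 (iv5 F349747)) (tt N97032 F415115) (tt N40360 F349744))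
theorem Q62186 : ∀ i, i < 62186 → P i := stepQ 62185 Q62185 (allL N62185 (tt N33220 (iv1 D115749)) (tt N40362 F180103) (tt N40360 F349740) (tt N99311 D202449) (tt N99312 D202450) (tt N70417 (iv5 F349736)) (tt N99313 D202451) (tt N40361 F349741))
theorem Q62187 : ∀ i, i < 62187 → P i := stepQ 62186 Q62186 (allL N62186 (tt N40361 (iv1 F180104)) (tt N40360 F180102) (tt N33220 (iv2 D115750)) (tt N40369 F180100) (tt N93492 (iv4 F400906)) (tt N73506 (iv5 F224960)) (tt N47887 F345323) (tt N40362 F180101))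
theorem Q62188 : ∀ i, i < 62188 → P i := stepQ 62187 Q62187 (allL N62187 (tt N64941 F345324) (tt N64938 F345325) (tt N47887 F345326) (tt N33221 F180105) (tt N93493 (iv4 F400919)) (tt N47829 F345327) (tt N33220 (iv6 D115751)) (tt N47889 F345328))
theorem Q62189 : ∀ i, i < 62189 → P i := stepQ 62188 Q62188 (allL N62188 (tt N40369 (iv1 F180113)) (tt N33222 (iv0 D115754)) (tt N40368 F339979) (tt N99314 D202452) (tt N55038 (iv4 F367003)) (tt N61313 (iv5 F331455)) (tt N55037 F367010) (tt N40367 F339980))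
theorem Q62190 : ∀ i, i < 62190 → P i := stepQ 62189 Q62189 (allL N62189 (tt N33222 (iv1 D115755)) (tt N40369 F180117) (tt N40367 F340477) (tt N99315 D202453) (tt N74111 (iv4 F226824)) (tt N61314 F340478) (tt N56967 F340481) (tt N40368 F340479))
theorem Q62191 : ∀ i, i < 62191 → P i := stepQ 62190 Q62190 (allL N62190 (tt N40368 (iv1 F180118)) (tt N40367 F180116) (tt N33222 (iv2 D115756)) (tt N40362 F180114) (tt N62616 (iv4 F182837)) (tt N73508 (iv5 F224977)) (tt N99316 D202454) (tt N40369 F180115))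
theorem Q62192 : ∀ i, i < 62192 → P i := stepQ 62191 Q62191 (allL N62191 (tt N99317 D202455) (tt N99318 D202456) (tt N99316 (iv2 F424073)) (tt N33223 F180119) (tt N62618 (iv4 F182845)) (tt N82357 (iv5 F363321)) (tt N33222 (iv6 D115757)) (tt N94599 (iv7 F405129)))
theorem Q62193 : ∀ i, i < 62193 → P i := stepQ 62192 Q62192 (allL N62192 (tt N99315 F424072) (tt N99319 D202457) (tt N99320 D202458) (tt N33224 (iv3 D115760)) (tt N55915 F180123) (tt N73486 (iv5 F224932)) (tt N99321 D202459) (tt N40373 F182536))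
theorem Q62194 : ∀ i, i < 62194 → P i := stepQ 62193 Q62193 (allL N62193 (tt N41026 F322076) (tt N40175 (iv0 F180186)) (tt N33476 F182509) (tt N41539 (iv3 F180125)) (tt N33224 (iv4 D115761)) (tt N62520 (iv5 F181997)) (tt N42186 F320882) (tt N40374 (iv7 F182511)))
theorem Q62195 : ∀ i, i < 62195 → P i := stepQ 62194 Q62194 (allL N62194 (tt N99322 D202460) (tt N74258 (iv0 F359814)) (tt N40379 (iv2 F182553)) (tt N99321 (iv3 F424088)) (tt N42186 F352245) (tt N72904 F352246) (tt N33224 (iv6 D115763)) (tt N99323 D202461))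
theorem Q62196 : ∀ i, i < 62196 → P i := stepQ 62195 Q62195 (allL N62195 (tt N93528 F401044) (tt N93531 (iv0 F401058)) (tt N99324 D202462) (tt N33225 (iv3 D115765)) (tt N41530 F180134) (tt N73488 (iv5 F224937)) (tt N99325 D202463) (tt N40377 (iv7 F182554)))
theorem Q62197 : ∀ i, i < 62197 → P i := stepQ 62196 Q62196 (allL N62196 (tt N39905 F324146) (tt N80410 F324147) (tt N40376 F182541) (tt N99325 (iv3 F424107)) (tt N41527 F180135) (tt N99326 D202464) (tt N33225 (iv6 D115767)) (tt N82341 F324148))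
theorem Q62198 : ∀ i, i < 62198 → P i := stepQ 62197 Q62197 (allL N62197 (tt N40383 (iv1 F180141)) (tt N40382 (iv0 F180139)) (tt N33227 F180136) (tt N93260 (iv3 F400168)) (tt N89319 (iv4 F386075)) (tt N33226 (iv5 D115768)) (tt N89318 (iv6 F386073)) (tt N40380 F180137))
theorem Q62199 : ∀ i, i < 62199 → P i := stepQ 62198 Q62198 (allL N62198 (tt N40380 (iv1 F180144)) (tt N33227 (iv0 D115770)) (tt N40383 (iv2 F180362)) (tt N99327 D202465) (tt N71235 F358531) (tt N33296 F180363) (tt N71234 (iv6 F338954)) (tt N40382 F180364))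
theorem Q62200 : ∀ i, i < 62200 → P i := stepQ 62199 Q62199 (allL N62199 (tt N33227 (iv1 D115771)) (tt N40380 F180145) (tt N40382 (iv2 F180360)) (tt N84832 (iv3 F370786)) (tt N99328 D202466) (tt N33297 F180359) (tt N84831 (iv6 F370783)) (tt N40383 (iv7 F180361)))
theorem Q62201 : ∀ i, i < 62201 → P i := stepQ 62200 Q62200 (allL N62200 (tt N85550 (iv1 F373040)) (tt N85552 (iv0 F373047)) (tt N89319 (iv2 F386074)) (tt N85586 (iv3 F373148)) (tt N33227 (iv4 D115772)) (tt N88453 (iv5 F383108)) (tt N35106 F331050) (tt N40384 F180146))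
theorem Q62202 : ∀ i, i < 62202 → P i := stepQ 62201 Q62201 (allL N62201 (tt N48878 F331046) (tt N91728 F394212) (tt N89318 (iv2 F386067)) (tt N33230 F180147) (tt N35106 F331047) (tt N76207 F331048) (tt N33227 (iv6 D115773)) (tt N58343 (iv7 F351231)))
theorem Q62203 : ∀ i, i < 62203 → P i := stepQ 62202 Q62202 (allL N62202 (tt N99329 D202467) (tt N70879 F405904) (tt N58342 F351228) (tt N76207 (iv3 F331049)) (tt N85610 (iv4 F373202)) (tt N33230 (iv5 D115784)) (tt N33233 F180161) (tt N58345 (iv7 F351232)))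
theorem Q62204 : ∀ i, i < 62204 → P i := stepQ 62203 Q62203 (allL N62203 (tt N99330 D202468) (tt N99313 (iv0 F424062)) (tt N99331 D202469) (tt N33231 (iv3 D115786)) (tt N93513 (iv4 F400989)) (tt N96677 (iv5 F413412)) (tt N78074 (iv6 F245674)) (tt N93262 (iv7 F400182)))
theorem Q62205 : ∀ i, i < 62205 → P i := stepQ 62204 Q62204 (allL N62204 (tt N55037 F359401) (tt N97036 F415137) (tt N99332 D202470) (tt N33232 (iv3 D115788)) (tt N55272 (iv4 F331287)) (tt N96695 (iv5 F413505)) (tt N99333 D202471) (tt N74196 (iv7 F226959)))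
theorem Q62206 : ∀ i, i < 62206 → P i := stepQ 62205 Q62205 (allL N62205 (tt N62568 F182410) (tt N72853 (iv0 F226566)) (tt N74010 F226576) (tt N99333 (iv3 F424139)) (tt N57974 F180165) (tt N74006 F226565) (tt N33232 (iv6 D115790)) (tt N74011 F226575))
theorem Q62207 : ∀ i, i < 62207 → P i := stepQ 62206 Q62206 (allL N62206 (tt N51085 F358822) (tt N33233 (iv0 D115791)) (tt N89033 (iv2 F384889)) (tt N59411 (iv3 F345427)) (tt N53522 F345090) (tt N39967 F180166) (tt N59409 F345426) (tt N89036 (iv7 F384906)))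
theorem Q62208 : ∀ i, i < 62208 → P i := stepQ 62207 Q62207 (allL N62207 (tt N33233 (iv1 D115792)) (tt N51085 F362359) (tt N89036 (iv2 F384904)) (tt N99334 D202472) (tt N53529 F345080) (tt N39968 F180167) (tt N99335 D202473) (tt N89033 (iv7 F384890)))
theorem Q62209 : ∀ i, i < 62209 → P i := stepQ 62208 Q62208 (allL N62208 (tt N89036 (iv1 F384908)) (tt N89033 (iv0 F384892)) (tt N51085 (iv2 F339905)) (tt N63189 F322386) (tt N50647 F345164) (tt N33234 F180168) (tt N73096 (iv6 F363144)) (tt N33233 (iv7 D115794)))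
theorem Q62210 : ∀ i, i < 62210 → P i := stepQ 62209 Q62209 (allL N62209 (tt N86045 F374997) (tt N86037 (iv0 F374978)) (tt N89083 F385095) (tt N33235 (iv3 D115795)) (tt N59102 F180169) (tt N86049 (iv5 F375006)) (tt N78077 (iv6 F245681)) (tt N72608 (iv7 F222736)))
theorem Q62211 : ∀ i, i < 62211 → P i := stepQ 62210 Q62210 (allL N62210 (tt N57835 F180170) (tt N59335 F345069) (tt N59484 (iv2 F343797)) (tt N86049 (iv3 F375008)) (tt N80615 (iv4 F343858)) (tt N33235 (iv5 D115796)) (tt N99336 D202474) (tt N59485 (iv7 F345074)))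
theorem Q62212 : ∀ i, i < 62212 → P i := stepQ 62211 Q62211 (allL N62211 (tt N99304 F424014) (tt N66892 F357017) (tt N99337 D202475) (tt N33236 (iv3 D115797)) (tt N71369 (iv4 F219977)) (tt N77530 F362386) (tt N95772 (iv6 F409564)) (tt N72623 (iv7 F222762)))
theorem Q62213 : ∀ i, i < 62213 → P i := stepQ 62212 Q62212 (allL N62212 (tt N59335 (iv1 F345051)) (tt N57835 F180171) (tt N59485 (iv2 F345071)) (tt N77530 (iv3 F345052)) (tt N80614 F345049) (tt N33236 (iv5 D115798)) (tt N99338 D202476) (tt N59484 (iv7 F343799)))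
theorem Q62214 : ∀ i, i < 62214 → P i := stepQ 62213 Q62213 (allL N62213 (tt N99339 D202477) (tt N99299 (iv0 F423989)) (tt N72609 (iv2 F222740)) (tt N95772 (iv3 F409563)) (tt N33237 F180172) (tt N99340 D202478) (tt N33236 (iv6 D115799)) (tt N74009 (iv7 F226572)))
theorem Q62215 : ∀ i, i < 62215 → P i := stepQ 62214 Q62214 (allL N62214 (tt N62302 F180748) (tt N72778 (iv0 F223192)) (tt N40176 F180182) (tt N98906 F422748) (tt N33238 (iv4 D115801)) (tt N99231 (iv5 F423776)) (tt N43219 F318386) (tt N40174 F180183))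
theorem Q62216 : ∀ i, i < 62216 → P i := stepQ 62215 Q62215 (allL N62215 (tt N40374 F180750) (tt N33476 (iv0 F180282)) (tt N41026 F320537) (tt N33239 (iv3 D115803)) (tt N62224 (iv4 F180217)) (tt N33440 F180189) (tt N41552 F320538) (tt N40175 F180190))
theorem Q62217 : ∀ i, i < 62217 → P i := stepQ 62216 Q62216 (allL N62216 (tt N72778 F223193) (tt N62302 F180749) (tt N40174 F180192) (tt N93490 (iv3 F400902)) (tt N33239 (iv4 D115804)) (tt N99233 (iv5 F423782)) (tt N96898 F414506) (tt N40176 F180193))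
theorem Q62218 : ∀ i, i < 62218 → P i := stepQ 62217 Q62217 (allL N62217 (tt N33290 F180845) (tt N40502 (iv0 F180195)) (tt N33550 F318320) (tt N41552 (iv3 F320489)) (tt N96898 (iv4 F414502)) (tt N33547 F318321) (tt N33239 (iv6 D115805)) (tt N40501 (iv7 F220218)))
theorem Q62219 : ∀ i, i < 62219 → P i := stepQ 62218 Q62218 (allL N62218 (tt N47998 F318275) (tt N43348 F318276) (tt N33241 F180196) (tt N40203 F180197) (tt N98873 (iv4 F422654)) (tt N99341 D202479) (tt N33240 (iv6 D115806)) (tt N78132 (iv7 F246202)))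
theorem Q62220 : ∀ i, i < 62220 → P i := stepQ 62219 Q62219 (allL N62219 (tt N78132 (iv1 F246203)) (tt N33241 (iv0 D115807)) (tt N47998 F313689) (tt N35424 F313690) (tt N99342 D202480) (tt N44505 F313691) (tt N35422 F313692) (tt N43348 F313693))
theorem Q62221 : ∀ i, i < 62221 → P i := stepQ 62220 Q62220 (allL N62220 (tt N33241 (iv1 D115808)) (tt N78132 F246204) (tt N43348 F341167) (tt N48447 F341168) (tt N99343 D202481) (tt N44506 F341169) (tt N43214 F341170) (tt N47998 F341171))
theorem Q62222 : ∀ i, i < 62222 → P i := stepQ 62221 Q62221 (allL N62221 (tt N76535 F361625) (tt N87922 (iv0 F381143)) (tt N99341 (iv2 F424185)) (tt N33242 F180198) (tt N77067 F311564) (tt N33241 (iv5 D115809)) (tt N42869 F311565) (tt N68289 (iv7 F313919)))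
theorem Q62223 : ∀ i, i < 62223 → P i := stepQ 62222 Q62222 (allL N62222 (tt N33243 (iv1 D115819)) (tt N40432 F180264) (tt N40217 F180213) (tt N40264 (iv3 F180212)) (tt N41269 (iv4 F180704)) (tt N66741 (iv5 F205310)) (tt N61378 F330009) (tt N40431 (iv7 F180637)))
theorem Q62224 : ∀ i, i < 62224 → P i := stepQ 62223 Q62223 (allL N62223 (tt N99344 D202482) (tt N99345 D202483) (tt N74156 (iv2 F226863)) (tt N33245 F180215) (tt N62654 (iv4 F182943)) (tt N74457 F330013) (tt N33243 (iv6 D115822)) (tt N99346 D202484))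
theorem Q62225 : ∀ i, i < 62225 → P i := stepQ 62224 Q62224 (allL N62224 (tt N33247 (iv1 F180225)) (tt N33244 (iv0 D115824)) (tt N40436 F180219) (tt N99347 D202485) (tt N62215 F180217) (tt N99348 D202486) (tt N74702 (iv6 F348836)) (tt N40435 (iv7 F180218)))
theorem Q62226 : ∀ i, i < 62226 → P i := stepQ 62225 Q62225 (allL N62225 (tt N33244 (iv1 D115825)) (tt N33247 F180222) (tt N40435 (iv2 F180224)) (tt N40351 F182464) (tt N42674 F322668) (tt N95261 (iv5 F407618)) (tt N42676 F322669) (tt N40436 F180223))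
theorem Q62227 : ∀ i, i < 62227 → P i := stepQ 62226 Q62226 (allL N62226 (tt N93944 (iv1 F402524)) (tt N90016 (iv0 F388307)) (tt N94941 (iv2 F406434)) (tt N33244 (iv3 D115826)) (tt N62653 (iv4 F182940)) (tt N99349 D202487) (tt N99350 D202488) (tt N40437 F180267))
theorem Q62228 : ∀ i, i < 62228 → P i := stepQ 62227 Q62227 (allL N62227 (tt N73567 (iv1 F225041)) (tt N73569 (iv0 F225046)) (tt N40449 (iv2 F180279)) (tt N99349 (iv3 F424216)) (tt N73491 (iv4 F224942)) (tt N33244 (iv5 D115827)) (tt N99351 D202489) (tt N40438 F180268))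
theorem Q62229 : ∀ i, i < 62229 → P i := stepQ 62228 Q62228 (allL N62228 (tt N99352 D202490) (tt N99353 D202491) (tt N40450 (iv2 F180270)) (tt N99350 (iv3 F424222)) (tt N33245 F180226) (tt N99354 D202492) (tt N33244 (iv6 D115828)) (tt N99355 D202493))
theorem Q62230 : ∀ i, i < 62230 → P i := stepQ 62229 Q62229 (allL N62229 (tt N40455 (iv1 F180276)) (tt N33245 (iv0 D115835)) (tt N40194 F350161) (tt N40261 F350162) (tt N99322 (iv4 F424093)) (tt N99356 D202494) (tt N66906 F350163) (tt N40453 F350164))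
theorem Q62231 : ∀ i, i < 62231 → P i := stepQ 62230 Q62230 (allL N62230 (tt N66646 (iv1 F330020)) (tt N44374 F330018) (tt N40454 (iv2 F180271)) (tt N74457 (iv3 F330015)) (tt N75176 (iv4 F330016)) (tt N33245 (iv5 D115837)) (tt N73590 (iv6 F225114)) (tt N65108 (iv7 F335057)))
theorem Q62232 : ∀ i, i < 62232 → P i := stepQ 62231 Q62231 (allL N62231 (tt N40453 (iv1 F180273)) (tt N40194 F337757) (tt N40455 (iv2 F180272)) (tt N99346 (iv3 F424200)) (tt N99355 (iv4 F424245)) (tt N65108 F335054) (tt N39918 F324371) (tt N33245 (iv7 D115838)))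
theorem Q62233 : ∀ i, i < 62233 → P i := stepQ 62232 Q62232 (allL N62232 (tt N40444 F180239) (tt N33246 (iv0 D115840)) (tt N40236 (iv2 F180235)) (tt N40250 (iv3 F180236)) (tt N39428 F180234) (tt N40987 (iv5 F180238)) (tt N42627 F321919) (tt N40443 (iv7 F180237)))
theorem Q62234 : ∀ i, i < 62234 → P i := stepQ 62233 Q62233 (allL N62233 (tt N40236 (iv1 F180298)) (tt N40443 F180297) (tt N33246 (iv2 D115841)) (tt N40432 F180295) (tt N70906 (iv4 F218721)) (tt N71979 (iv5 F221137)) (tt N82228 F322629) (tt N40444 F180296))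
theorem Q62235 : ∀ i, i < 62235 → P i := stepQ 62234 Q62234 (allL N62234 (tt N58553 (iv1 F180640)) (tt N58551 (iv0 F180300)) (tt N70906 F218723) (tt N71618 (iv3 F220312)) (tt N33246 (iv4 D115842)) (tt N40921 F180301) (tt N99357 D202495) (tt N40445 F180299))
theorem Q62236 : ∀ i, i < 62236 → P i := stepQ 62235 Q62235 (allL N62235 (tt N56127 F322673) (tt N75959 F322674) (tt N82228 F322675) (tt N33248 F180319) (tt N99357 (iv4 F424258)) (tt N42893 F322676) (tt N33246 (iv6 D115843)) (tt N82227 F322677))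
theorem Q62237 : ∀ i, i < 62237 → P i := stepQ 62236 Q62236 (allL N62236 (tt N73569 (iv1 F225047)) (tt N73567 (iv0 F225040)) (tt N40438 F180320) (tt N71905 (iv3 F220865)) (tt N73492 F224946) (tt N33247 (iv5 D115844)) (tt N96471 (iv6 F412661)) (tt N40449 F180321))
theorem Q62238 : ∀ i, i < 62238 → P i := stepQ 62237 Q62237 (allL N62237 (tt N82138 F341136) (tt N82546 F341164) (tt N40439 F180322) (tt N94940 (iv3 F406429)) (tt N33248 F180323) (tt N99358 D202496) (tt N33247 (iv6 D115845)) (tt N82340 F322678))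
theorem Q62239 : ∀ i, i < 62239 → P i := stepQ 62238 Q62238 (allL N62238 (tt N56027 (iv1 F223805)) (tt N66741 F205311) (tt N66740 F205307) (tt N33250 (iv3 D115857)) (tt N62554 F182177) (tt N33313 (iv5 F180376)) (tt N99359 D202497) (tt N40461 F180371))
theorem Q62240 : ∀ i, i < 62240 → P i := stepQ 62239 Q62239 (allL N62239 (tt N62537 (iv1 F182062)) (tt N42671 F322667) (tt N40465 (iv2 F180373)) (tt N50084 F318760) (tt N33250 (iv4 D115858)) (tt N85146 (iv5 F371740)) (tt N50081 F318761) (tt N40462 F180372))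
theorem Q62241 : ∀ i, i < 62241 → P i := stepQ 62240 Q62240 (allL N62240 (tt N42298 F318762) (tt N33802 F318763) (tt N40466 F180377) (tt N99359 (iv3 F424265)) (tt N50081 F317798) (tt N66852 F317799) (tt N33250 (iv6 D115860)) (tt N42297 F317821))
theorem Q62242 : ∀ i, i < 62242 → P i := stepQ 62241 Q62241 (allL N62241 (tt N40987 (iv1 F180366)) (tt N33286 (iv0 F320906)) (tt N42633 (iv2 F320901)) (tt N33251 (iv3 D115862)) (tt N63023 (iv4 F184463)) (tt N33316 F180358) (tt N42607 F318764) (tt N40464 (iv7 F180365)))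
theorem Q62243 : ∀ i, i < 62243 → P i := stepQ 62242 Q62242 (allL N62242 (tt N42671 (iv1 F320904)) (tt N62537 (iv0 F182061)) (tt N40462 (iv2 F180369)) (tt N85830 (iv3 F374152)) (tt N33251 (iv4 D115863)) (tt N85549 (iv5 F373035)) (tt N98771 F422253) (tt N40465 (iv7 F180368)))
theorem Q62244 : ∀ i, i < 62244 → P i := stepQ 62243 Q62243 (allL N62243 (tt N42325 F339623) (tt N66572 F339624) (tt N40463 (iv2 F180370)) (tt N42607 F318765) (tt N98771 (iv4 F422248)) (tt N78089 F339625) (tt N33251 (iv6 D115865)) (tt N66571 F318766))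
theorem Q62245 : ∀ i, i < 62245 → P i := stepQ 62244 Q62244 (allL N62244 (tt N40456 (iv1 F180348)) (tt N33252 (iv0 D115866)) (tt N36387 (iv2 F319134)) (tt N61172 F316765) (tt N41025 F321182) (tt N85545 (iv5 F373020)) (tt N85772 (iv6 F373876)) (tt N40467 F181489))
theorem Q62246 : ∀ i, i < 62246 → P i := stepQ 62245 Q62245 (allL N62245 (tt N73594 (iv1 F225138)) (tt N61186 (iv0 F324161)) (tt N56296 F316770) (tt N33771 F180378) (tt N99360 D202498) (tt N33252 (iv5 D115868)) (tt N56098 F316771) (tt N40468 F180379))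
theorem Q62247 : ∀ i, i < 62247 → P i := stepQ 62246 Q62246 (allL N62246 (tt N39131 (iv1 F180437)) (tt N33253 (iv0 D115902)) (tt N39488 (iv2 F180436)) (tt N99361 D202499) (tt N36034 F180435) (tt N99362 D202500) (tt N39573 (iv6 F180439)) (tt N36031 F180438))
theorem Q62248 : ∀ i, i < 62248 → P i := stepQ 62247 Q62247 (allL N62247 (tt N70865 (iv1 F218624)) (tt N71267 F219672) (tt N39490 F180442) (tt N34040 F322398) (tt N99363 D202501) (tt N33253 (iv5 D115904)) (tt N54498 F363006) (tt N39493 F180443))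
theorem Q62249 : ∀ i, i < 62249 → P i := stepQ 62248 Q62248 (allL N62248 (tt N38402 (iv1 F180473)) (tt N33255 (iv0 D115918)) (tt N38401 (iv2 F180477)) (tt N71765 F220533) (tt N99364 D202502) (tt N72505 (iv5 F372573)) (tt N99365 D202503) (tt N38400 (iv7 F180479)))
theorem Q62250 : ∀ i, i < 62250 → P i := stepQ 62249 Q62249 (allL N62249 (tt N33255 (iv1 D115919)) (tt N38402 F180480) (tt N38400 F180478) (tt N40597 (iv3 F180474)) (tt N55973 (iv4 F180475)) (tt N72506 (iv5 F372570)) (tt N99366 D202504) (tt N38401 F180476))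
theorem Q62251 : ∀ i, i < 62251 → P i := stepQ 62250 Q62250 (allL N62250 (tt N38401 (iv1 F180484)) (tt N38400 F180483) (tt N33255 (iv2 D115920)) (tt N40047 F180481) (tt N92412 (iv4 F396932)) (tt N98386 (iv5 F420725)) (tt N99367 D202505) (tt N38402 F180482))
theorem Q62252 : ∀ i, i < 62252 → P i := stepQ 62251 Q62251 (allL N62251 (tt N95018 (iv1 F406663)) (tt N95019 (iv0 F406671)) (tt N98386 F420726) (tt N33256 F180485) (tt N63466 (iv4 F363999)) (tt N33255 (iv5 D115921)) (tt N99368 D202506) (tt N38403 F180486))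
theorem Q62253 : ∀ i, i < 62253 → P i := stepQ 62252 Q62252 (allL N62252 (tt N99369 D202507) (tt N99370 D202508) (tt N99367 (iv2 F424313)) (tt N33257 F180487) (tt N92413 (iv4 F396938)) (tt N99371 D202509) (tt N33255 (iv6 D115922)) (tt N59311 F180488))
theorem Q62254 : ∀ i, i < 62254 → P i := stepQ 62253 Q62253 (allL N62253 (tt N59653 (iv1 F362242)) (tt N59657 F345275) (tt N40050 F180489) (tt N99368 (iv3 F424318)) (tt N69688 (iv4 F215902)) (tt N99372 D202510) (tt N33256 (iv6 D115923)) (tt N64788 (iv7 F363102)))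
theorem Q62255 : ∀ i, i < 62255 → P i := stepQ 62254 Q62254 (allL N62254 (tt N96247 (iv1 F411726)) (tt N96246 F411723) (tt N40053 F180490) (tt N99371 (iv3 F424325)) (tt N99373 D202511) (tt N33257 (iv5 D115924)) (tt N99372 (iv6 F424328)) (tt N59316 F180491))
theorem Q62256 : ∀ i, i < 62256 → P i := stepQ 62255 Q62255 (allL N62255 (tt N40071 (iv1 F180492)) (tt N33258 (iv0 D115925)) (tt N40070 F357521) (tt N93857 (iv3 F402178)) (tt N74324 F227342) (tt N69697 F357530) (tt N53883 F357522) (tt N40069 F357523))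
theorem Q62257 : ∀ i, i < 62257 → P i := stepQ 62256 Q62256 (allL N62256 (tt N33258 (iv1 D115926)) (tt N40071 F180497) (tt N40069 F357515) (tt N53960 F357516) (tt N74055 (iv4 F226757)) (tt N69698 F357459) (tt N53904 F357517) (tt N40070 F357518))
theorem Q62258 : ∀ i, i < 62258 → P i := stepQ 62257 Q62257 (allL N62257 (tt N40070 (iv1 F180498)) (tt N40069 F180496) (tt N33258 (iv2 D115927)) (tt N40090 F180493) (tt N41142 F180494) (tt N99374 D202512) (tt N99375 D202513) (tt N40071 F180495))
theorem Q62259 : ∀ i, i < 62259 → P i := stepQ 62258 Q62258 (allL N62258 (tt N72416 (iv1 F386894)) (tt N72419 F386895) (tt N99374 (iv2 F424335)) (tt N33259 F180499) (tt N99376 D202514) (tt N33258 (iv5 D115928)) (tt N99377 D202515) (tt N40072 F180500))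
theorem Q62260 : ∀ i, i < 62260 → P i := stepQ 62259 Q62259 (allL N62259 (tt N99378 D202516) (tt N99379 D202517) (tt N99375 (iv2 F424341)) (tt N33260 F180501) (tt N41144 F180502) (tt N99380 D202518) (tt N33258 (iv6 D115929)) (tt N78121 (iv7 F246046)))
theorem Q62261 : ∀ i, i < 62261 → P i := stepQ 62260 Q62260 (allL N62260 (tt N99381 D202519) (tt N99382 D202520) (tt N40093 F180503) (tt N99377 (iv3 F424347)) (tt N59516 F180504) (tt N99383 D202521) (tt N33259 (iv6 D115930)) (tt N99384 D202522))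
theorem Q62262 : ∀ i, i < 62262 → P i := stepQ 62261 Q62261 (allL N62261 (tt N33260 (iv1 D115931)) (tt N40096 F180505) (tt N40094 (iv2 F180507)) (tt N99385 D202523) (tt N38468 (iv4 F180508)) (tt N99386 D202524) (tt N96190 F411414) (tt N38465 F180506))
theorem Q62263 : ∀ i, i < 62263 → P i := stepQ 62262 Q62262 (allL N62262 (tt N81768 (iv1 F362323)) (tt N99387 D202525) (tt N40095 F180510) (tt N99380 (iv3 F424350)) (tt N99388 D202526) (tt N33260 (iv5 D115932)) (tt N99383 (iv6 F424357)) (tt N78122 (iv7 F246048)))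
theorem Q62264 : ∀ i, i < 62264 → P i := stepQ 62263 Q62263 (allL N62263 (tt N40100 (iv1 F180511)) (tt N33261 (iv0 D115933)) (tt N40099 F360380) (tt N99389 D202527) (tt N99390 D202528) (tt N95910 (iv5 F410211)) (tt N89119 (iv6 F385230)) (tt N40098 F360381))
theorem Q62265 : ∀ i, i < 62265 → P i := stepQ 62264 Q62264 (allL N62264 (tt N33261 (iv1 D115934)) (tt N40100 F180516) (tt N40098 F360378) (tt N99391 D202529) (tt N71381 (iv4 F220009)) (tt N95911 (iv5 F410217)) (tt N94161 (iv6 F403485)) (tt N40099 F360379))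
theorem Q62266 : ∀ i, i < 62266 → P i := stepQ 62265 Q62265 (allL N62265 (tt N40099 (iv1 F180517)) (tt N40098 F180515) (tt N33261 (iv2 D115935)) (tt N40108 F180512) (tt N39447 F180513) (tt N73271 (iv5 F224244)) (tt N99392 D202530) (tt N40100 F180514))
theorem Q62267 : ∀ i, i < 62267 → P i := stepQ 62266 Q62266 (allL N62266 (tt N99393 D202531) (tt N99394 D202532) (tt N99392 (iv2 F424395)) (tt N33262 F180518) (tt N39449 F180519) (tt N99395 D202533) (tt N33261 (iv6 D115936)) (tt N78115 (iv7 F246030)))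
theorem Q62268 : ∀ i, i < 62268 → P i := stepQ 62267 Q62267 (allL N62267 (tt N99396 D202534) (tt N73997 (iv0 F226505)) (tt N40112 F180520) (tt N99395 (iv3 F424398)) (tt N99397 D202535) (tt N33262 (iv5 D115937)) (tt N73276 (iv6 F224254)) (tt N78116 (iv7 F246032)))
theorem Q62269 : ∀ i, i < 62269 → P i := stepQ 62268 Q62268 (allL N62268 (tt N40108 (iv1 F180521)) (tt N33263 (iv0 D115938)) (tt N40107 F362368) (tt N99398 D202536) (tt N74598 (iv4 F228408)) (tt N95980 (iv5 F410509)) (tt N76094 F362369) (tt N40106 F362370))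
theorem Q62270 : ∀ i, i < 62270 → P i := stepQ 62269 Q62269 (allL N62269 (tt N33263 (iv1 D115939)) (tt N40108 F180526) (tt N40106 F345098) (tt N51192 F345099) (tt N74568 (iv4 F228374)) (tt N83099 F345100) (tt N51190 (iv6 F362367)) (tt N40107 F345101))
theorem Q62271 : ∀ i, i < 62271 → P i := stepQ 62270 Q62270 (allL N62270 (tt N40107 (iv1 F180527)) (tt N40106 F180525) (tt N33263 (iv2 D115940)) (tt N40100 F180522) (tt N57176 F180523) (tt N73278 (iv5 F224262)) (tt N99399 D202537) (tt N40108 F180524))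
theorem Q62272 : ∀ i, i < 62272 → P i := stepQ 62271 Q62271 (allL N62271 (tt N99400 D202538) (tt N99401 D202539) (tt N99399 (iv2 F424410)) (tt N33264 F180535) (tt N57177 F180536) (tt N99402 D202540) (tt N33263 (iv6 D115941)) (tt N99403 D202541))
theorem Q62273 : ∀ i, i < 62273 → P i := stepQ 62272 Q62272 (allL N62272 (tt N72267 F221806) (tt N59232 (iv0 F180538)) (tt N40104 F180537) (tt N99402 (iv3 F424415)) (tt N99404 D202542) (tt N33264 (iv5 D115942)) (tt N73282 (iv6 F224272)) (tt N72265 (iv7 F221803)))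
theorem Q62274 : ∀ i, i < 62274 → P i := stepQ 62273 Q62273 (allL N62273 (tt N40082 (iv1 F180542)) (tt N40079 F180543) (tt N40105 F180539) (tt N99403 (iv3 F424416)) (tt N40342 F180540) (tt N72265 (iv5 F221804)) (tt N40113 F180541) (tt N33264 (iv7 D115943)))
theorem Q62275 : ∀ i, i < 62275 → P i := stepQ 62274 Q62274 (allL N62274 (tt N51192 F362377) (tt N83192 F362378) (tt N66355 (iv2 F204040)) (tt N33265 (iv3 D115945)) (tt N66219 F203693) (tt N73256 (iv5 F224218)) (tt N99405 D202543) (tt N40114 F183035))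
theorem Q62276 : ∀ i, i < 62276 → P i := stepQ 62275 Q62275 (allL N62275 (tt N41265 (iv1 F180550)) (tt N40200 (iv0 F180707)) (tt N33541 F183028) (tt N41028 F320392) (tt N33265 (iv4 D115946)) (tt N73378 (iv5 F224540)) (tt N99406 D202544) (tt N40115 (iv7 F183030)))
theorem Q62277 : ∀ i, i < 62277 → P i := stepQ 62276 Q62276 (allL N62276 (tt N78106 (iv1 F363483)) (tt N74318 F363484) (tt N40120 (iv2 F183041)) (tt N99405 (iv3 F424421)) (tt N99406 (iv4 F424427)) (tt N99407 D202545) (tt N33265 (iv6 D115948)) (tt N78109 (iv7 F341122)))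
theorem Q62278 : ∀ i, i < 62278 → P i := stepQ 62277 Q62277 (allL N62277 (tt N99408 D202546) (tt N99389 (iv0 F424386)) (tt N99409 D202547) (tt N33266 (iv3 D115950)) (tt N41270 F180554) (tt N73259 (iv5 F224223)) (tt N99410 D202548) (tt N40118 (iv7 F183042)))
theorem Q62279 : ∀ i, i < 62279 → P i := stepQ 62278 Q62278 (allL N62278 (tt N74256 F366325) (tt N92149 (iv0 F395975)) (tt N40117 F183040) (tt N99410 (iv3 F424445)) (tt N41267 F180555) (tt N99411 D202549) (tt N33266 (iv6 D115952)) (tt N99412 D202550))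
theorem Q62280 : ∀ i, i < 62280 → P i := stepQ 62279 Q62279 (allL N62279 (tt N40124 (iv1 F180561)) (tt N40123 (iv0 F180559)) (tt N33268 F180556) (tt N53769 (iv3 F350398)) (tt N99413 D202551) (tt N33267 (iv5 D115953)) (tt N53715 F334425) (tt N40121 F180557))
theorem Q62281 : ∀ i, i < 62281 → P i := stepQ 62280 Q62280 (allL N62280 (tt N76200 F320755) (tt N43697 F327042) (tt N33269 F180562) (tt N53191 F331776) (tt N33282 F180563) (tt N53181 (iv5 F334424)) (tt N33267 (iv6 D115954)) (tt N53180 (iv7 F327595)))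
theorem Q62282 : ∀ i, i < 62282 → P i := stepQ 62281 Q62281 (allL N62281 (tt N40121 (iv1 F180564)) (tt N33268 (iv0 D115955)) (tt N40124 F181691) (tt N83145 (iv3 F369484)) (tt N95242 F407558) (tt N33342 F181692) (tt N99414 D202552) (tt N40123 F181693))
theorem Q62283 : ∀ i, i < 62283 → P i := stepQ 62282 Q62282 (allL N62282 (tt N33268 (iv1 D115956)) (tt N40121 F180565) (tt N40123 F181703) (tt N99415 D202553) (tt N99416 D202554) (tt N33343 F181704) (tt N99417 D202555) (tt N40124 F181705))
theorem Q62284 : ∀ i, i < 62284 → P i := stepQ 62283 Q62283 (allL N62283 (tt N99418 D202556) (tt N99419 D202557) (tt N99413 (iv2 F424459)) (tt N96312 (iv3 F411971)) (tt N33268 (iv4 D115957)) (tt N99420 D202558) (tt N99421 D202559) (tt N40125 F180566))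
theorem Q62285 : ∀ i, i < 62285 → P i := stepQ 62284 Q62284 (allL N62284 (tt N53713 (iv1 F364539)) (tt N53712 F364537) (tt N53715 (iv2 F364534)) (tt N33270 F180567) (tt N99421 (iv4 F424493)) (tt N53692 F364535) (tt N33268 (iv6 D115958)) (tt N53691 F364536))
theorem Q62286 : ∀ i, i < 62286 → P i := stepQ 62285 Q62285 (allL N62285 (tt N53180 (iv1 F327592)) (tt N33269 (iv0 D115959)) (tt N76200 F320759) (tt N43712 F327049) (tt N41563 F322236) (tt N43698 F327050) (tt N92148 F395971) (tt N43697 F327051))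
theorem Q62287 : ∀ i, i < 62287 → P i := stepQ 62286 Q62286 (allL N62286 (tt N33269 (iv1 D115960)) (tt N53180 (iv0 F327591)) (tt N43697 F327044) (tt N99422 D202560) (tt N48072 F320763) (tt N43694 F327045) (tt N39866 F320764) (tt N76200 F320765))
theorem Q62288 : ∀ i, i < 62288 → P i := stepQ 62287 Q62287 (allL N62287 (tt N80590 (iv1 F351965)) (tt N94161 (iv0 F403483)) (tt N99423 D202561) (tt N33271 (iv3 D115967)) (tt N39563 F180574) (tt N34971 F328882) (tt N99424 D202562) (tt N34970 F328883))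
theorem Q62289 : ∀ i, i < 62289 → P i := stepQ 62288 Q62288 (allL N62288 (tt N70319 (iv1 F217184)) (tt N69557 (iv0 F214868)) (tt N69556 (iv2 F328656)) (tt N99424 (iv3 F424511)) (tt N66348 (iv4 F204034)) (tt N69555 (iv5 F328801)) (tt N33271 (iv6 D115969)) (tt N39864 F180575))
theorem Q62290 : ∀ i, i < 62290 → P i := stepQ 62289 Q62289 (allL N62289 (tt N76094 F364470) (tt N53994 F364471) (tt N76093 F361447) (tt N33272 (iv3 D115970)) (tt N57242 F180576) (tt N34891 F328876) (tt N39865 F180577) (tt N74630 (iv7 F228446)))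
theorem Q62291 : ∀ i, i < 62291 → P i := stepQ 62290 Q62290 (allL N62290 (tt N53874 F329505) (tt N53904 F329506) (tt N53902 (iv2 F356152)) (tt N33273 (iv3 D115977)) (tt N93911 (iv4 F402399)) (tt N54246 F329507) (tt N99425 D202563) (tt N53901 (iv7 F356135)))
theorem Q62292 : ∀ i, i < 62292 → P i := stepQ 62291 Q62291 (allL N62291 (tt N70321 (iv1 F217185)) (tt N70320 F217193) (tt N64657 (iv2 F329232)) (tt N99425 (iv3 F424516)) (tt N33274 F180586) (tt N38754 F329509) (tt N33273 (iv6 D115979)) (tt N39860 F180587))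
theorem Q62293 : ∀ i, i < 62293 → P i := stepQ 62292 Q62292 (allL N62292 (tt N33275 (iv1 D115989)) (tt N40251 (iv0 F180663)) (tt N40238 F180599) (tt N40443 (iv3 F180598)) (tt N41529 F180601) (tt N40457 F321031) (tt N40459 F321032) (tt N40250 F180600))
theorem Q62294 : ∀ i, i < 62294 → P i := stepQ 62293 Q62293 (allL N62293 (tt N65385 (iv1 F333344)) (tt N99426 D202564) (tt N74594 (iv2 F228405)) (tt N33277 F180614) (tt N57195 F180615) (tt N68566 F333343) (tt N33275 (iv6 D115992)) (tt N78129 (iv7 F363151)))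
theorem Q62295 : ∀ i, i < 62295 → P i := stepQ 62294 Q62294 (allL N62294 (tt N33279 (iv1 F180625)) (tt N33276 (iv0 D115994)) (tt N40255 (iv2 F205136)) (tt N71437 (iv3 F220058)) (tt N45267 F322920) (tt N99427 D202565) (tt N45268 F322921) (tt N40254 (iv7 F205138)))
theorem Q62296 : ∀ i, i < 62296 → P i := stepQ 62295 Q62295 (allL N62295 (tt N33276 (iv1 D115995)) (tt N33279 F180620) (tt N40254 F205133) (tt N40089 F182982) (tt N62672 (iv4 F182976)) (tt N99428 D202566) (tt N82168 (iv6 F366208)) (tt N40255 F205137))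
theorem Q62297 : ∀ i, i < 62297 → P i := stepQ 62296 Q62296 (allL N62296 (tt N93857 (iv1 F402181)) (tt N93855 (iv0 F402168)) (tt N99429 D202567) (tt N33276 (iv3 D115996)) (tt N57194 F180621) (tt N96119 (iv5 F411134)) (tt N99430 D202568) (tt N40256 (iv7 F180683)))
theorem Q62298 : ∀ i, i < 62298 → P i := stepQ 62297 Q62297 (allL N62297 (tt N40950 (iv1 F181558)) (tt N73342 (iv0 F224428)) (tt N40270 (iv2 F180696)) (tt N96119 F411135) (tt N73262 (iv4 F224228)) (tt N33276 (iv5 D115997)) (tt N99431 D202569) (tt N40257 F180686))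
theorem Q62299 : ∀ i, i < 62299 → P i := stepQ 62298 Q62298 (allL N62298 (tt N82167 F330624) (tt N99432 D202570) (tt N40271 (iv2 F180687)) (tt N99430 (iv3 F424546)) (tt N33277 F180622) (tt N99433 D202571) (tt N33276 (iv6 D115998)) (tt N78130 (iv7 F361513)))
theorem Q62300 : ∀ i, i < 62300 → P i := stepQ 62299 Q62299 (allL N62299 (tt N80350 (iv1 F357373)) (tt N74001 F332421) (tt N40275 (iv2 F180688)) (tt N68566 F332422) (tt N99434 D202572) (tt N33277 (iv5 D116007)) (tt N46559 F332433) (tt N78131 (iv7 F342389)))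
theorem Q62301 : ∀ i, i < 62301 → P i := stepQ 62300 Q62300 (allL N62300 (tt N40265 (iv1 F180645)) (tt N33278 (iv0 D116010)) (tt N40214 (iv2 F180632)) (tt N40431 F180635) (tt N40158 F180631) (tt N42116 (iv5 F180634)) (tt N99435 D202573) (tt N40264 (iv7 F180633)))
theorem Q62302 : ∀ i, i < 62302 → P i := stepQ 62301 Q62301 (allL N62301 (tt N40214 (iv1 F180702)) (tt N40264 F180701) (tt N33278 (iv2 D116011)) (tt N40251 F180699) (tt N61919 F180703) (tt N73368 (iv5 F224514)) (tt N91543 (iv6 F393579)) (tt N40265 F180700))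
theorem Q62303 : ∀ i, i < 62303 → P i := stepQ 62302 Q62302 (allL N62302 (tt N62216 (iv1 F180749)) (tt N62214 (iv0 F180748)) (tt N61919 F180746) (tt N93639 (iv3 F401393)) (tt N33278 (iv4 D116012)) (tt N93638 F401390) (tt N98929 (iv6 F422812)) (tt N40266 F180747))
theorem Q62304 : ∀ i, i < 62304 → P i := stepQ 62303 Q62303 (allL N62303 (tt N99436 D202574) (tt N99437 D202575) (tt N91543 (iv2 F393577)) (tt N33280 F180755) (tt N98929 (iv4 F422811)) (tt N99438 D202576) (tt N33278 (iv6 D116014)) (tt N99439 D202577))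
theorem Q62305 : ∀ i, i < 62305 → P i := stepQ 62304 Q62304 (allL N62304 (tt N58993 (iv1 F180758)) (tt N40067 (iv0 F180757)) (tt N58992 F222573) (tt N33279 (iv3 D116015)) (tt N93639 (iv4 F401395)) (tt N76808 F363775) (tt N99440 D202578) (tt N40269 F180756))
theorem Q62306 : ∀ i, i < 62306 → P i := stepQ 62305 Q62305 (allL N62305 (tt N73342 (iv1 F224429)) (tt N40950 (iv0 F181557)) (tt N40257 F180759) (tt N76808 F363774) (tt N73263 (iv4 F224232)) (tt N33279 (iv5 D116016)) (tt N76807 (iv6 F363776)) (tt N40270 F180760))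
theorem Q62307 : ∀ i, i < 62307 → P i := stepQ 62306 Q62306 (allL N62306 (tt N92222 (iv1 F396341)) (tt N99441 D202579) (tt N40258 F180761) (tt N99440 (iv3 F424588)) (tt N33280 F180762) (tt N99442 D202580) (tt N33279 (iv6 D116017)) (tt N99443 D202581))
theorem Q62308 : ∀ i, i < 62308 → P i := stepQ 62307 Q62307 (allL N62307 (tt N33280 (iv1 D116021)) (tt N40263 F180766) (tt N40196 F341083) (tt N40453 F341084) (tt N92149 (iv4 F395974)) (tt N91534 (iv5 F393524)) (tt N74978 F341085) (tt N40261 F341086))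
theorem Q62309 : ∀ i, i < 62309 → P i := stepQ 62308 Q62308 (allL N62308 (tt N62594 F341088) (tt N72276 F341090) (tt N40262 F180767) (tt N99438 (iv3 F424579)) (tt N74867 (iv4 F339442)) (tt N33280 (iv5 D116022)) (tt N73375 (iv6 F224532)) (tt N72281 (iv7 F359205)))
theorem Q62310 : ∀ i, i < 62310 → P i := stepQ 62309 Q62309 (allL N62309 (tt N40196 (iv1 F335044)) (tt N40261 F180772) (tt N40263 F180768) (tt N99439 (iv3 F424584)) (tt N99443 (iv4 F424600)) (tt N72281 F332417) (tt N40276 F180769) (tt N33280 (iv7 D116023)))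
theorem Q62311 : ∀ i, i < 62311 → P i := stepQ 62310 Q62310 (allL N62310 (tt N40285 (iv1 F180775)) (tt N40284 F180776) (tt N33285 F180773) (tt N99444 D202582) (tt N33281 (iv4 D116024)) (tt N99445 D202583) (tt N33727 F322682) (tt N40277 F180774))
theorem Q62312 : ∀ i, i < 62312 → P i := stepQ 62311 Q62311 (allL N62311 (tt N42633 F318768) (tt N40464 F320914) (tt N33286 F180777) (tt N40457 F180778) (tt N33727 F320915) (tt N40443 F320916) (tt N33281 (iv6 D116025)) (tt N40987 F320917))
theorem Q62313 : ∀ i, i < 62313 → P i := stepQ 62312 Q62312 (allL N62312 (tt N76152 (iv1 F348041)) (tt N40475 F342393) (tt N33289 F180780) (tt N40459 F180781) (tt N95515 (iv4 F408428)) (tt N33282 (iv5 D116028)) (tt N40443 F320749) (tt N66869 F348042))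
theorem Q62314 : ∀ i, i < 62314 → P i := stepQ 62313 Q62313 (allL N62313 (tt N45265 (iv1 F320214)) (tt N63027 (iv0 F321942)) (tt N40282 F181687) (tt N99446 D202584) (tt N33283 (iv4 D116032)) (tt N53105 F359688) (tt N49810 (iv6 F359687)) (tt N40279 F181688))
theorem Q62315 : ∀ i, i < 62315 → P i := stepQ 62314 Q62314 (allL N62314 (tt N63264 F317432) (tt N42333 F317433) (tt N40283 F181690) (tt N42599 F317434) (tt N49810 (iv4 F337122)) (tt N76442 F317435) (tt N33283 (iv6 D116034)) (tt N66568 F317436))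
theorem Q62316 : ∀ i, i < 62316 → P i := stepQ 62315 Q62315 (allL N62315 (tt N42116 F181674) (tt N42119 F181675) (tt N66737 F205293) (tt N33284 (iv3 D116036)) (tt N62536 (iv4 F182039)) (tt N33357 F181676) (tt N99447 D202585) (tt N40281 F181677))
theorem Q62317 : ∀ i, i < 62317 → P i := stepQ 62316 Q62316 (allL N62316 (tt N63027 (iv1 F321943)) (tt N45265 (iv0 F320213)) (tt N40279 F181678) (tt N77218 (iv3 F348001)) (tt N33284 (iv4 D116037)) (tt N99448 D202586) (tt N99449 D202587) (tt N40282 F181679))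
theorem Q62318 : ∀ i, i < 62318 → P i := stepQ 62317 Q62317 (allL N62317 (tt N33792 F317918) (tt N42320 F317919) (tt N40280 F181680) (tt N99447 (iv3 F424623)) (tt N99449 (iv4 F424635)) (tt N38325 F317920) (tt N33284 (iv6 D116039)) (tt N42319 F320086))
theorem Q62319 : ∀ i, i < 62319 → P i := stepQ 62318 Q62318 (allL N62318 (tt N40277 (iv1 F180790)) (tt N33285 (iv0 D116040)) (tt N40285 F181671) (tt N42228 F322082) (tt N40945 (iv4 F181670)) (tt N99450 D202588) (tt N77554 F356789) (tt N40284 (iv7 F181702)))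
theorem Q62320 : ∀ i, i < 62320 → P i := stepQ 62319 Q62319 (allL N62319 (tt N33285 (iv1 D116041)) (tt N40277 F180792) (tt N40284 F181701) (tt N99451 D202589) (tt N40767 (iv4 F181694)) (tt N99452 D202590) (tt N99453 D202591) (tt N40285 F181700))
theorem Q62321 : ∀ i, i < 62321 → P i := stepQ 62320 Q62320 (allL N62320 (tt N73379 (iv1 F224546)) (tt N73382 (iv0 F224549)) (tt N99445 (iv2 F424610)) (tt N33757 F180794) (tt N99454 D202592) (tt N33285 (iv5 D116042)) (tt N99455 D202593) (tt N40286 F180795))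
theorem Q62322 : ∀ i, i < 62322 → P i := stepQ 62321 Q62321 (allL N62321 (tt N33286 (iv1 D116045)) (tt N40987 F320909) (tt N40464 F320910) (tt N66740 F320911) (tt N63024 F320912) (tt N39761 F320913) (tt N99456 D202594) (tt N42633 F318767))
theorem Q62323 : ∀ i, i < 62323 → P i := stepQ 62322 Q62322 (allL N62322 (tt N40481 F348843) (tt N40459 F348844) (tt N40478 F348823) (tt N33287 (iv3 D116049)) (tt N74604 (iv4 F228415)) (tt N78159 F348845) (tt N74977 F348846) (tt N40479 F348824))
theorem Q62324 : ∀ i, i < 62324 → P i := stepQ 62323 Q62323 (allL N62323 (tt N77676 (iv1 F362448)) (tt N82168 (iv0 F361194)) (tt N76204 F362449) (tt N75833 F342380) (tt N33287 (iv4 D116050)) (tt N99457 D202595) (tt N74979 (iv6 F362452)) (tt N76201 F362447))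
theorem Q62325 : ∀ i, i < 62325 → P i := stepQ 62324 Q62324 (allL N62324 (tt N99458 D202596) (tt N74737 (iv0 F342379)) (tt N76205 (iv2 F361192)) (tt N78159 (iv3 F361190)) (tt N99459 D202597) (tt N33287 (iv5 D116051)) (tt N74971 F342381) (tt N76202 F361191))
theorem Q62326 : ∀ i, i < 62326 → P i := stepQ 62325 Q62325 (allL N62325 (tt N99435 F424566) (tt N63163 (iv0 F351448)) (tt N81339 (iv2 F351421)) (tt N33288 (iv3 D116054)) (tt N76832 (iv4 F351445)) (tt N99460 D202598) (tt N39886 F327175) (tt N76203 (iv7 F351436)))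
theorem Q62327 : ∀ i, i < 62327 → P i := stepQ 62326 Q62326 (allL N62326 (tt N82168 (iv1 F362451)) (tt N77676 (iv0 F356809)) (tt N76201 F327176) (tt N64460 (iv3 F351775)) (tt N33288 (iv4 D116055)) (tt N53081 F351773) (tt N39887 F327177) (tt N76204 (iv7 F362450)))
theorem Q62328 : ∀ i, i < 62328 → P i := stepQ 62327 Q62327 (allL N62327 (tt N74737 (iv1 F361193)) (tt N99458 F424678) (tt N76202 F327178) (tt N99460 (iv3 F424682)) (tt N73887 F363125) (tt N33288 (iv5 D116056)) (tt N73886 (iv6 F342520)) (tt N76205 (iv7 F342375)))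
theorem Q62329 : ∀ i, i < 62329 → P i := stepQ 62328 Q62328 (allL N62328 (tt N66869 F348036) (tt N33289 (iv0 D116058)) (tt N76152 (iv2 F348039)) (tt N40458 F348037) (tt N99461 D202599) (tt N96905 (iv5 F414537)) (tt N82232 F348035) (tt N40475 F348038))
theorem Q62330 : ∀ i, i < 62330 → P i := stepQ 62329 Q62329 (allL N62329 (tt N39574 F320750) (tt N73241 (iv0 F353367)) (tt N95515 (iv2 F408427)) (tt N54318 (iv3 F353386)) (tt N33289 (iv4 D116060)) (tt N99462 D202600) (tt N39429 F320751) (tt N76151 F353381))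
theorem Q62331 : ∀ i, i < 62331 → P i := stepQ 62330 Q62330 (allL N62330 (tt N40501 (iv1 F180846)) (tt N33550 F318319) (tt N33290 (iv2 D116077)) (tt N40492 F180842) (tt N61948 F339854) (tt N76254 F316908) (tt N48008 F316909) (tt N40502 F180843))
theorem Q62332 : ∀ i, i < 62332 → P i := stepQ 62331 Q62331 (allL N62331 (tt N65863 F348136) (tt N95345 (iv0 F407936)) (tt N76254 F318334) (tt N33291 F180847) (tt N95372 (iv4 F408020)) (tt N33290 (iv5 D116078)) (tt N39987 F318397) (tt N40503 F180848))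
theorem Q62333 : ∀ i, i < 62333 → P i := stepQ 62332 Q62332 (allL N62332 (tt N48006 F313725) (tt N48005 F313726) (tt N48008 F313727) (tt N33292 F180849) (tt N73205 (iv4 F360865)) (tt N62471 (iv5 F181648)) (tt N33290 (iv6 D116079)) (tt N37437 F180850))
theorem Q62334 : ∀ i, i < 62334 → P i := stepQ 62333 Q62333 (allL N62333 (tt N33293 (iv1 D116081)) (tt N40679 (iv0 F180853)) (tt N40677 F349722) (tt N71890 (iv3 F349719)) (tt N61798 (iv4 F180852)) (tt N72964 (iv5 F345332)) (tt N99463 D202601) (tt N40678 F349723))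
theorem Q62335 : ∀ i, i < 62335 → P i := stepQ 62334 Q62334 (allL N62334 (tt N40678 (iv1 F180857)) (tt N40677 F180856) (tt N33293 (iv2 D116082)) (tt N40682 F180854) (tt N93625 (iv4 F401324)) (tt N70194 F345311) (tt N70241 (iv6 F345310)) (tt N40679 F180855))
theorem Q62336 : ∀ i, i < 62336 → P i := stepQ 62335 Q62335 (allL N62335 (tt N73473 F345290) (tt N73472 F345291) (tt N70241 F345292) (tt N33294 F180858) (tt N93626 (iv4 F401329)) (tt N44351 F345293) (tt N33293 (iv6 D116083)) (tt N62336 (iv7 F345298)))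
theorem Q62337 : ∀ i, i < 62337 → P i := stepQ 62336 Q62336 (allL N62336 (tt N99464 D202602) (tt N74013 (iv0 F226582)) (tt N40684 F180859) (tt N44351 F345295) (tt N71563 F345296) (tt N33294 (iv5 D116084)) (tt N44350 F345297) (tt N62335 F345298))
theorem Q62338 : ∀ i, i < 62338 → P i := stepQ 62337 Q62337 (allL N62337 (tt N40682 (iv1 F180860)) (tt N33295 (iv0 D116085)) (tt N40681 F331555) (tt N99465 D202603) (tt N73665 (iv4 F225384)) (tt N66772 F331556) (tt N57009 F339933) (tt N40680 F331557))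
theorem Q62339 : ∀ i, i < 62339 → P i := stepQ 62338 Q62338 (allL N62338 (tt N33295 (iv1 D116086)) (tt N40682 F180866) (tt N40680 F331552) (tt N99466 D202604) (tt N73666 (iv4 F340497)) (tt N66778 F331553) (tt N99467 D202605) (tt N40681 F331554))
theorem Q62340 : ∀ i, i < 62340 → P i := stepQ 62339 Q62339 (allL N62339 (tt N40681 (iv1 F180867)) (tt N40680 F180865) (tt N33295 (iv2 D116087)) (tt N40679 F180861) (tt N36679 F180862) (tt N44614 F331532) (tt N38712 F180863) (tt N40682 F180864))
theorem Q62341 : ∀ i, i < 62341 → P i := stepQ 62340 Q62340 (allL N62340 (tt N99466 F424712) (tt N99468 D202606) (tt N93762 (iv2 F401808)) (tt N33296 (iv3 D116088)) (tt N55944 F180869) (tt N99327 (iv5 F424113)) (tt N99469 D202607) (tt N40685 F180868))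
theorem Q62342 : ∀ i, i < 62342 → P i := stepQ 62341 Q62341 (allL N62341 (tt N33427 (iv1 F181476)) (tt N33409 (iv0 F181461)) (tt N33370 F180870) (tt N40850 F180873) (tt N33296 (iv4 D116089)) (tt N41025 F321183) (tt N65273 F338950) (tt N33426 F180871))
theorem Q62343 : ∀ i, i < 62343 → P i := stepQ 62342 Q62342 (allL N62342 (tt N78320 (iv1 F344007)) (tt N41067 F338957) (tt N40687 F180876) (tt N99469 (iv3 F424723)) (tt N65273 F338949) (tt N78356 F338953) (tt N33296 (iv6 D116090)) (tt N65270 (iv7 F338955)))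
theorem Q62344 : ∀ i, i < 62344 → P i := stepQ 62343 Q62343 (allL N62343 (tt N40691 (iv1 F180884)) (tt N40690 (iv0 F180882)) (tt N33299 F180879) (tt N93267 (iv3 F400205)) (tt N48899 F331051) (tt N33298 (iv5 D116092)) (tt N48898 F331052) (tt N40688 F180880))
theorem Q62345 : ∀ i, i < 62345 → P i := stepQ 62344 Q62344 (allL N62344 (tt N75328 (iv1 F350026)) (tt N77507 (iv0 F350020)) (tt N33300 F180885) (tt N91445 F393152) (tt N33319 F180886) (tt N85670 (iv5 F373458)) (tt N33298 (iv6 D116093)) (tt N77505 F330611))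
theorem Q62346 : ∀ i, i < 62346 → P i := stepQ 62345 Q62345 (allL N62345 (tt N33300 (iv1 D116099)) (tt N77505 F350003) (tt N77507 (iv2 F350000)) (tt N93770 F401839) (tt N52355 (iv4 F350001)) (tt N99470 D202608) (tt N52358 (iv6 F350002)) (tt N75328 F349999))
theorem Q62347 : ∀ i, i < 62347 → P i := stepQ 62346 Q62346 (allL N62346 (tt N99471 D202609) (tt N99472 D202610) (tt N85670 (iv2 F373456)) (tt N33304 F180891) (tt N85638 (iv4 F373309)) (tt N33300 (iv5 D116100)) (tt N50620 F365134) (tt N99473 D202611))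
theorem Q62348 : ∀ i, i < 62348 → P i := stepQ 62347 Q62347 (allL N62347 (tt N77507 F316880) (tt N75328 F316881) (tt N77505 F330609) (tt N33305 F180892) (tt N33325 F180893) (tt N99473 (iv5 F424740)) (tt N40697 F180894) (tt N33300 (iv7 D116101)))
theorem Q62349 : ∀ i, i < 62349 → P i := stepQ 62348 Q62348 (allL N62348 (tt N85655 (iv1 F373417)) (tt N33301 (iv0 D116102)) (tt N56920 (iv2 F351296)) (tt N99474 D202612) (tt N58211 (iv4 F351299)) (tt N56918 F351297) (tt N58257 F342495) (tt N85654 (iv7 F373409)))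
theorem Q62350 : ∀ i, i < 62350 → P i := stepQ 62349 Q62349 (allL N62349 (tt N33301 (iv1 D116103)) (tt N85655 F373418) (tt N85654 F373407) (tt N56929 (iv3 F351292)) (tt N58212 (iv4 F351285)) (tt N56921 F351293) (tt N78465 (iv6 F357952)) (tt N56920 F351294))
theorem Q62351 : ∀ i, i < 62351 → P i := stepQ 62350 Q62350 (allL N62350 (tt N58348 F345412) (tt N99475 D202613) (tt N93271 (iv2 F400233)) (tt N50620 (iv3 F365133)) (tt N99476 D202614) (tt N33301 (iv5 D116104)) (tt N33304 F180895) (tt N85656 (iv7 F373420)))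
theorem Q62352 : ∀ i, i < 62352 → P i := stepQ 62351 Q62351 (allL N62351 (tt N99477 D202615) (tt N99463 (iv0 F424694)) (tt N99117 (iv2 F423398)) (tt N33302 (iv3 D116106)) (tt N61917 (iv4 F364943)) (tt N99478 D202616) (tt N94604 (iv6 F405156)) (tt N93274 (iv7 F400251)))
theorem Q62353 : ∀ i, i < 62353 → P i := stepQ 62352 Q62352 (allL N62352 (tt N71923 (iv1 F220939)) (tt N36669 (iv0 F180900)) (tt N56005 F180897) (tt N62044 F180899) (tt N33302 (iv4 D116107)) (tt N95940 (iv5 F410358)) (tt N38708 F180898) (tt N66375 (iv7 F204064)))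
theorem Q62354 : ∀ i, i < 62354 → P i := stepQ 62353 Q62353 (allL N62353 (tt N95275 (iv1 F407686)) (tt N97028 F415108) (tt N93273 (iv2 F400243)) (tt N99478 (iv3 F424764)) (tt N99479 D202617) (tt N33302 (iv5 D116108)) (tt N97021 F415068) (tt N93275 (iv7 F400256)))
theorem Q62355 : ∀ i, i < 62355 → P i := stepQ 62354 Q62354 (allL N62354 (tt N57009 F353086) (tt N57011 F353087) (tt N99480 D202618) (tt N33303 (iv3 D116109)) (tt N96078 (iv4 F410938)) (tt N74225 (iv5 F353085)) (tt N99481 D202619) (tt N93272 (iv7 F400239)))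
theorem Q62356 : ∀ i, i < 62356 → P i := stepQ 62355 Q62355 (allL N62355 (tt N97028 F415107) (tt N95275 (iv0 F407685)) (tt N93275 (iv2 F400254)) (tt N74225 F353084) (tt N99482 D202620) (tt N33303 (iv5 D116110)) (tt N65055 (iv6 F344459)) (tt N93273 (iv7 F400245)))
theorem Q62357 : ∀ i, i < 62357 → P i := stepQ 62356 Q62356 (allL N62356 (tt N70027 (iv1 F344461)) (tt N48265 F344455) (tt N64616 F344456) (tt N99481 (iv3 F424780)) (tt N96077 (iv4 F410933)) (tt N64445 F344457) (tt N33303 (iv6 D116111)) (tt N64615 F344458))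
theorem Q62358 : ∀ i, i < 62358 → P i := stepQ 62357 Q62357 (allL N62357 (tt N57005 (iv1 F364937)) (tt N33304 (iv0 D116112)) (tt N57007 (iv2 F331823)) (tt N99483 D202621) (tt N70999 F331830) (tt N44300 F180902) (tt N99484 D202622) (tt N57004 (iv7 F331820)))
theorem Q62359 : ∀ i, i < 62359 → P i := stepQ 62358 Q62358 (allL N62358 (tt N61805 (iv1 F331022)) (tt N61800 (iv0 F331831)) (tt N62046 F364946) (tt N62085 (iv3 F364947)) (tt N33304 (iv4 D116114)) (tt N93489 (iv5 F400898)) (tt N99476 (iv6 F424755)) (tt N98857 (iv7 F422596)))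
theorem Q62360 : ∀ i, i < 62360 → P i := stepQ 62359 Q62359 (allL N62359 (tt N57004 (iv1 F331818)) (tt N57007 (iv0 F331821)) (tt N57005 F364938) (tt N99473 (iv3 F424738)) (tt N98857 (iv4 F422595)) (tt N33305 F180903) (tt N99485 D202623) (tt N33304 (iv7 D116115)))
theorem Q62361 : ∀ i, i < 62361 → P i := stepQ 62360 Q62360 (allL N62360 (tt N93324 F410942) (tt N93317 (iv0 F400372)) (tt N93323 F400401) (tt N33306 (iv3 D116116)) (tt N59140 F180904) (tt N99486 D202624) (tt N94606 (iv6 F405166)) (tt N93279 (iv7 F400274)))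
theorem Q62362 : ∀ i, i < 62362 → P i := stepQ 62361 Q62361 (allL N62361 (tt N96731 (iv1 F413651)) (tt N99487 D202625) (tt N93277 (iv2 F400264)) (tt N99486 (iv3 F424806)) (tt N97414 (iv4 F416788)) (tt N33306 (iv5 D116117)) (tt N99488 D202626) (tt N93280 (iv7 F400277)))
theorem Q62363 : ∀ i, i < 62363 → P i := stepQ 62362 Q62362 (allL N62362 (tt N94912 F406301) (tt N70344 F345486) (tt N93278 (iv2 F400267)) (tt N82790 (iv3 F360188)) (tt N33307 (iv4 D116118)) (tt N98853 (iv5 F422569)) (tt N40567 F180905) (tt N70435 (iv7 F217394)))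
theorem Q62364 : ∀ i, i < 62364 → P i := stepQ 62363 Q62363 (allL N62363 (tt N36004 F180908) (tt N36101 (iv0 F180909)) (tt N36100 F180906) (tt N81278 (iv3 F344430)) (tt N33308 (iv4 D116119)) (tt N58062 F344738) (tt N80854 F344429) (tt N36099 F180907))
theorem Q62365 : ∀ i, i < 62365 → P i := stepQ 62364 Q62364 (allL N62364 (tt N70581 (iv1 F217898)) (tt N60885 (iv0 F326871)) (tt N39611 F180910) (tt N33310 F180911) (tt N99489 D202627) (tt N33308 (iv5 D116120)) (tt N38570 F180913) (tt N39609 F180912))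
theorem Q62366 : ∀ i, i < 62366 → P i := stepQ 62365 Q62365 (allL N62365 (tt N70572 F217854) (tt N39847 F217855) (tt N39612 F180914) (tt N33311 F180915) (tt N80854 (iv4 F344425)) (tt N68165 (iv5 F209210)) (tt N33308 (iv6 D116121)) (tt N94569 (iv7 F405004)))
theorem Q62367 : ∀ i, i < 62367 → P i := stepQ 62366 Q62366 (allL N62366 (tt N70133 F360185) (tt N99490 D202628) (tt N99491 D202629) (tt N33309 (iv3 D116122)) (tt N81278 F344431) (tt N99492 D202630) (tt N80174 (iv6 F344433)) (tt N93276 (iv7 F400260)))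
theorem Q62368 : ∀ i, i < 62368 → P i := stepQ 62367 Q62367 (allL N62367 (tt N99487 (iv1 F424811)) (tt N96731 (iv0 F413650)) (tt N93280 (iv2 F400276)) (tt N99492 (iv3 F424835)) (tt N97413 (iv4 F416780)) (tt N33309 (iv5 D116123)) (tt N65037 (iv6 F344435)) (tt N93277 (iv7 F400265)))
theorem Q62369 : ∀ i, i < 62369 → P i := stepQ 62368 Q62368 (allL N62368 (tt N70344 F217238) (tt N94912 F406303) (tt N70435 (iv2 F217392)) (tt N95856 (iv3 F409970)) (tt N33310 (iv4 D116125)) (tt N98855 (iv5 F422585)) (tt N38571 F180917) (tt N93278 (iv7 F400269)))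
theorem Q62370 : ∀ i, i < 62370 → P i := stepQ 62369 Q62369 (allL N62369 (tt N94470 F404606) (tt N99493 D202631) (tt N73662 (iv2 F225381)) (tt N33315 F180922) (tt N62488 (iv4 F181805)) (tt N64646 F344014) (tt N33313 (iv6 D116129)) (tt N78150 (iv7 F361943)))
theorem Q62371 : ∀ i, i < 62371 → P i := stepQ 62370 Q62370 (allL N62370 (tt N33314 (iv1 D116130)) (tt N33317 F180923) (tt N40727 (iv2 F181470)) (tt N40294 (iv3 F181445)) (tt N48097 F322867) (tt N73114 (iv5 F223832)) (tt N99494 D202632) (tt N40728 F181473))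
theorem Q62372 : ∀ i, i < 62372 → P i := stepQ 62371 Q62371 (allL N62371 (tt N67140 F206762) (tt N67137 (iv0 F206755)) (tt N93304 (iv2 F400323)) (tt N33314 (iv3 D116131)) (tt N61256 (iv4 F339993)) (tt N66787 F340032) (tt N97359 (iv6 F416488)) (tt N40729 F180924))
theorem Q62373 : ∀ i, i < 62373 → P i := stepQ 62372 Q62372 (allL N62372 (tt N99348 (iv1 F424214)) (tt N95261 F407623) (tt N40732 F180925) (tt N66787 (iv3 F340031)) (tt N85550 (iv4 F373039)) (tt N33314 (iv5 D116132)) (tt N94530 (iv6 F404860)) (tt N40730 F180926))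
theorem Q62374 : ∀ i, i < 62374 → P i := stepQ 62373 Q62373 (allL N62373 (tt N90274 (iv1 F389183)) (tt N90276 (iv0 F389188)) (tt N40733 F180927) (tt N97359 (iv3 F416487)) (tt N33315 F180928) (tt N78344 F345683) (tt N33314 (iv6 D116133)) (tt N78153 F345686))
theorem Q62375 : ∀ i, i < 62375 → P i := stepQ 62374 Q62374 (allL N62374 (tt N77450 F344011) (tt N66574 (iv0 F344016)) (tt N40735 F180930) (tt N64646 (iv3 F344013)) (tt N76140 (iv4 F344012)) (tt N33315 (iv5 D116136)) (tt N66852 F344017) (tt N78154 F345685))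
theorem Q62376 : ∀ i, i < 62376 → P i := stepQ 62375 Q62375 (allL N62375 (tt N95261 F407622) (tt N99348 (iv0 F424213)) (tt N40730 F180937) (tt N93303 (iv3 F400316)) (tt N85552 (iv4 F373044)) (tt N33317 (iv5 D116139)) (tt N66812 F340011) (tt N40732 F180938))
theorem Q62377 : ∀ i, i < 62377 → P i := stepQ 62376 Q62376 (allL N62376 (tt N40746 F180950) (tt N40745 F180951) (tt N33320 F180948) (tt N99495 D202633) (tt N33318 (iv4 D116145)) (tt N85546 (iv5 F373025)) (tt N99496 D202634) (tt N40736 F180949))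
theorem Q62378 : ∀ i, i < 62378 → P i := stepQ 62377 Q62377 (allL N62377 (tt N52580 F330071) (tt N52582 (iv0 F350181)) (tt N33321 F180952) (tt N40608 F180953) (tt N99496 (iv4 F424857)) (tt N62733 F350182) (tt N33318 (iv6 D116146)) (tt N66677 (iv7 F350185)))
theorem Q62379 : ∀ i, i < 62379 → P i := stepQ 62378 Q62378 (allL N62378 (tt N33325 (iv1 F180960)) (tt N33319 (iv0 D116147)) (tt N33322 F319224) (tt N66548 (iv3 F321572)) (tt N43891 F316876) (tt N36316 F316877) (tt N33909 F316878) (tt N33323 F319225))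
theorem Q62380 : ∀ i, i < 62380 → P i := stepQ 62379 Q62379 (allL N62379 (tt N72232 F340692) (tt N55191 (iv0 F341059)) (tt N33324 F180955) (tt N40611 F180956) (tt N55216 (iv4 F350022)) (tt N33319 (iv5 D116149)) (tt N62733 (iv6 F350184)) (tt N67051 (iv7 F340695)))
theorem Q62381 : ∀ i, i < 62381 → P i := stepQ 62380 Q62380 (allL N62380 (tt N33323 (iv1 F180961)) (tt N33322 F180962) (tt N33325 F180957) (tt N40612 F180958) (tt N77505 (iv4 F330608)) (tt N67051 F316879) (tt N36491 (iv6 F317017)) (tt N33319 (iv7 D116150)))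
theorem Q62382 : ∀ i, i < 62382 → P i := stepQ 62381 Q62381 (allL N62381 (tt N40736 (iv1 F180965)) (tt N33320 (iv0 D116161)) (tt N40746 (iv2 F182560)) (tt N46050 F324158) (tt N72981 (iv4 F223691)) (tt N73161 (iv5 F223917)) (tt N46032 F324159) (tt N40745 (iv7 F182561)))
theorem Q62383 : ∀ i, i < 62383 → P i := stepQ 62382 Q62382 (allL N62382 (tt N33320 (iv1 D116162)) (tt N40736 F180966) (tt N40745 (iv2 F182557)) (tt N46039 F324166) (tt N40870 (iv4 F180967)) (tt N66781 (iv5 F325370)) (tt N92817 F398365) (tt N40746 F182559))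
theorem Q62384 : ∀ i, i < 62384 → P i := stepQ 62383 Q62383 (allL N62383 (tt N85545 (iv1 F373018)) (tt N61179 (iv0 F364979)) (tt N85546 (iv2 F373023)) (tt N33648 F180976) (tt N85538 (iv4 F372997)) (tt N33320 (iv5 D116163)) (tt N74916 F356759) (tt N40747 F180977))
theorem Q62385 : ∀ i, i < 62385 → P i := stepQ 62384 Q62384 (allL N62384 (tt N74695 F339792) (tt N92193 F396185) (tt N99496 (iv2 F424856)) (tt N33649 F180978) (tt N33321 F180979) (tt N74917 (iv5 F335879)) (tt N33320 (iv6 D116164)) (tt N74848 F361086))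
theorem Q62386 : ∀ i, i < 62386 → P i := stepQ 62385 Q62385 (allL N62385 (tt N96837 (iv1 F414190)) (tt N99197 (iv0 F423660)) (tt N73685 (iv2 F344491)) (tt N33322 (iv3 D116170)) (tt N73650 (iv4 F225346)) (tt N36322 F319283) (tt N42745 F319284) (tt N73687 (iv7 F344476)))
theorem Q62387 : ∀ i, i < 62387 → P i := stepQ 62386 Q62386 (allL N62386 (tt N99497 D202635) (tt N99494 (iv0 F424847)) (tt N43891 F319285) (tt N93666 (iv3 F401493)) (tt N33322 (iv4 D116171)) (tt N99498 D202636) (tt N42198 F319286) (tt N80463 F362629))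
theorem Q62388 : ∀ i, i < 62388 → P i := stepQ 62387 Q62387 (allL N62387 (tt N39764 F333287) (tt N66551 F333288) (tt N66549 (iv2 F333289)) (tt N33323 (iv3 D116175)) (tt N73800 F333290) (tt N52220 F333291) (tt N46180 F323350) (tt N66548 F335433))
theorem Q62389 : ∀ i, i < 62389 → P i := stepQ 62388 Q62388 (allL N62388 (tt N99494 F424848) (tt N99497 F424866) (tt N80463 F362627) (tt N90306 (iv3 F389293)) (tt N33323 (iv4 D116176)) (tt N99499 D202637) (tt N46183 F323351) (tt N43891 F362628))
theorem Q62390 : ∀ i, i < 62390 → P i := stepQ 62389 Q62389 (allL N62389 (tt N67051 F341068) (tt N33324 (iv0 D116179)) (tt N72232 F341069) (tt N99500 D202638) (tt N88048 (iv4 F381578)) (tt N44316 F341070) (tt N66650 F341071) (tt N55191 F341072))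
theorem Q62391 : ∀ i, i < 62391 → P i := stepQ 62390 Q62390 (allL N62390 (tt N55218 (iv1 F358013)) (tt N55129 F358021) (tt N55216 (iv2 F358012)) (tt N72718 (iv3 F358016)) (tt N33324 (iv4 D116181)) (tt N52564 F358011) (tt N62734 (iv6 F358014)) (tt N51924 F340734))
theorem Q62392 : ∀ i, i < 62392 → P i := stepQ 62391 Q62391 (allL N62391 (tt N55191 (iv1 F341060)) (tt N72232 F315940) (tt N67051 F315941) (tt N33331 F180986) (tt N51924 (iv4 F340733)) (tt N33325 F180987) (tt N42900 F315942) (tt N33324 (iv7 D116182)))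
theorem Q62393 : ∀ i, i < 62393 → P i := stepQ 62392 Q62392 (allL N62392 (tt N33326 (iv1 D116197)) (tt N36654 (iv0 F317974)) (tt N40640 F317978) (tt N96837 (iv3 F414188)) (tt N92365 (iv4 F396826)) (tt N67096 F315681) (tt N33885 F315682) (tt N40583 F317979))
theorem Q62394 : ∀ i, i < 62394 → P i := stepQ 62393 Q62393 (allL N62393 (tt N55975 (iv1 F349997)) (tt N73812 F349996) (tt N73810 (iv2 F349977)) (tt N55940 F181083) (tt N33326 (iv4 D116199)) (tt N95017 (iv5 F406654)) (tt N99501 D202639) (tt N40641 F181084))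
theorem Q62395 : ∀ i, i < 62395 → P i := stepQ 62394 Q62394 (allL N62394 (tt N77782 F311036) (tt N77781 F311037) (tt N77783 F311038) (tt N33327 F181087) (tt N99501 (iv4 F424882)) (tt N41449 (iv5 F312217)) (tt N33326 (iv6 D116201)) (tt N41431 (iv7 F313282)))
theorem Q62396 : ∀ i, i < 62396 → P i := stepQ 62395 Q62395 (allL N62395 (tt N56020 F181097) (tt N67096 (iv0 F333621)) (tt N82336 F333651) (tt N33329 (iv3 D116206)) (tt N98346 (iv4 F420581)) (tt N41578 F181095) (tt N74810 (iv6 F333619)) (tt N40643 F181096))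
theorem Q62397 : ∀ i, i < 62397 → P i := stepQ 62396 Q62396 (allL N62396 (tt N33412 F320930) (tt N33425 F320931) (tt N33335 (iv2 D116229)) (tt N40654 F181153) (tt N99099 (iv4 F423331)) (tt N62996 (iv5 F341179)) (tt N63677 F341177) (tt N33423 F321240))
theorem Q62398 : ∀ i, i < 62398 → P i := stepQ 62397 Q62397 (allL N62397 (tt N63676 F312468) (tt N63675 F312469) (tt N63677 F312470) (tt N33336 F181160) (tt N99101 (iv4 F423342)) (tt N44508 F312471) (tt N33335 (iv6 D116231)) (tt N44507 F312472))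
theorem Q62399 : ∀ i, i < 62399 → P i := stepQ 62398 Q62398 (allL N62398 (tt N83631 F336042) (tt N57139 (iv0 F336046)) (tt N78610 (iv2 F336044)) (tt N33337 (iv3 D116234)) (tt N97859 (iv4 F418546)) (tt N71349 F336043) (tt N37236 F181164) (tt N40651 F181165))
theorem Q62400 : ∀ i, i < 62400 → P i := stepQ 62399 Q62399 (allL N62399 (tt N59013 F181189) (tt N36110 F181188) (tt N33352 F181186) (tt N99502 D202640) (tt N33339 (iv4 D116244)) (tt N99503 D202641) (tt N46730 F336655) (tt N33354 F181187))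
theorem Q62401 : ∀ i, i < 62401 → P i := stepQ 62400 Q62400 (allL N62400 (tt N36110 F181193) (tt N59013 (iv0 F181194)) (tt N33354 F181190) (tt N99504 D202642) (tt N33340 (iv4 D116245)) (tt N99505 D202643) (tt N39935 F181191) (tt N33352 F181192))
theorem Q62402 : ∀ i, i < 62402 → P i := stepQ 62401 Q62401 (allL N62401 (tt N95960 F410446) (tt N95972 F410485) (tt N66418 (iv2 F204133)) (tt N33342 (iv3 D116246)) (tt N65328 (iv4 F321557)) (tt N83145 F369483) (tt N65326 (iv6 F366092)) (tt N40530 F181195))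
theorem Q62403 : ∀ i, i < 62403 → P i := stepQ 62402 Q62402 (allL N62402 (tt N99506 D202644) (tt N95907 (iv0 F410197)) (tt N99507 D202645) (tt N33343 (iv3 D116249)) (tt N40771 F181200) (tt N99415 (iv5 F424469)) (tt N99508 D202646) (tt N40533 F181201))
theorem Q62404 : ∀ i, i < 62404 → P i := stepQ 62403 Q62403 (allL N62403 (tt N41058 F342362) (tt N82187 F361956) (tt N40532 F181204) (tt N99508 (iv3 F424915)) (tt N40768 F181205) (tt N77319 F342359) (tt N33343 (iv6 D116251)) (tt N78170 F342361))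
theorem Q62405 : ∀ i, i < 62405 → P i := stepQ 62404 Q62404 (allL N62404 (tt N40537 (iv1 F181208)) (tt N40536 F181209) (tt N33345 F181206) (tt N89787 (iv3 F387570)) (tt N99509 D202647) (tt N33344 (iv5 D116252)) (tt N89687 F387215) (tt N40534 F181207))
theorem Q62406 : ∀ i, i < 62406 → P i := stepQ 62405 Q62405 (allL N62405 (tt N80396 F319295) (tt N80395 F319296) (tt N33346 F181210) (tt N95957 (iv3 F410425)) (tt N33361 F181211) (tt N99510 D202648) (tt N33344 (iv6 D116253)) (tt N80391 F319297))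
theorem Q62407 : ∀ i, i < 62407 → P i := stepQ 62406 Q62406 (allL N62406 (tt N72761 (iv1 F223176)) (tt N72790 (iv0 F223209)) (tt N99509 (iv2 F424920)) (tt N96325 (iv3 F412043)) (tt N33345 (iv4 D116256)) (tt N99511 D202649) (tt N99452 F424652) (tt N40538 F181214))
theorem Q62408 : ∀ i, i < 62408 → P i := stepQ 62407 Q62407 (allL N62407 (tt N85129 F371710) (tt N89688 F387221) (tt N89687 (iv2 F387216)) (tt N33347 F181215) (tt N99452 (iv4 F424649)) (tt N95242 (iv5 F407555)) (tt N33345 (iv6 D116257)) (tt N88894 (iv7 F384461)))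
theorem Q62409 : ∀ i, i < 62409 → P i := stepQ 62408 Q62408 (allL N62408 (tt N80391 F319673) (tt N33346 (iv0 D116258)) (tt N80396 F319674) (tt N83185 (iv3 F364532)) (tt N40954 F348335) (tt N88866 (iv5 F384387)) (tt N80617 F334427) (tt N80395 F319675))
theorem Q62410 : ∀ i, i < 62410 → P i := stepQ 62409 Q62409 (allL N62409 (tt N33346 (iv1 D116259)) (tt N80391 F319676) (tt N80395 F319677) (tt N99512 D202650) (tt N40955 F348316) (tt N99513 D202651) (tt N99514 D202652) (tt N80396 F319679))
theorem Q62411 : ∀ i, i < 62411 → P i := stepQ 62410 Q62410 (allL N62410 (tt N99515 D202653) (tt N53100 (iv0 F365646)) (tt N99510 (iv2 F424926)) (tt N33350 F181216) (tt N99414 (iv4 F424467)) (tt N33346 (iv5 D116260)) (tt N95242 (iv6 F407556)) (tt N80397 F319680))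
theorem Q62412 : ∀ i, i < 62412 → P i := stepQ 62411 Q62411 (allL N62411 (tt N89784 (iv1 F387547)) (tt N33347 (iv0 D116262)) (tt N89034 (iv2 F384895)) (tt N72534 F365336) (tt N59409 (iv4 F365335)) (tt N83913 (iv5 F367475)) (tt N53522 F365334) (tt N73093 F365337))
theorem Q62413 : ∀ i, i < 62413 → P i := stepQ 62412 Q62412 (allL N62412 (tt N33347 (iv1 D116263)) (tt N89784 (iv0 F387545)) (tt N73093 (iv2 F363317)) (tt N99516 D202654) (tt N73092 F363316) (tt N94817 (iv5 F406056)) (tt N99517 D202655) (tt N89034 (iv7 F384901)))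
theorem Q62414 : ∀ i, i < 62414 → P i := stepQ 62413 Q62413 (allL N62413 (tt N53438 F365512) (tt N54761 (iv0 F331223)) (tt N54769 F362216) (tt N33348 (iv3 D116266)) (tt N39680 F181222) (tt N94149 (iv5 F403440)) (tt N80599 F360986) (tt N54770 (iv7 F362217)))
theorem Q62415 : ∀ i, i < 62415 → P i := stepQ 62414 Q62414 (allL N62414 (tt N96189 (iv1 F411409)) (tt N39873 F181223) (tt N63993 (iv2 F363035)) (tt N94149 (iv3 F403439)) (tt N99518 D202656) (tt N33348 (iv5 D116267)) (tt N63906 F343173) (tt N95953 (iv7 F410408)))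
theorem Q62416 : ∀ i, i < 62416 → P i := stepQ 62415 Q62415 (allL N62415 (tt N95971 (iv1 F410481)) (tt N95979 F410503) (tt N95977 (iv2 F410500)) (tt N33349 (iv3 D116269)) (tt N92904 (iv4 F398717)) (tt N99519 D202657) (tt N96198 (iv6 F411455)) (tt N93711 (iv7 F401636)))
theorem Q62417 : ∀ i, i < 62417 → P i := stepQ 62416 Q62416 (allL N62416 (tt N39873 F181224) (tt N96189 F411408) (tt N95953 (iv2 F410406)) (tt N99519 (iv3 F424962)) (tt N99520 D202658) (tt N33349 (iv5 D116270)) (tt N99521 D202659) (tt N63993 F363036))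
theorem Q62418 : ∀ i, i < 62418 → P i := stepQ 62417 Q62417 (allL N62417 (tt N38821 F343175) (tt N33350 (iv0 D116271)) (tt N72174 (iv2 F221522)) (tt N99522 D202660) (tt N78071 F343833) (tt N59219 F215966) (tt N99523 D202661) (tt N72172 (iv7 F221519)))
theorem Q62419 : ∀ i, i < 62419 → P i := stepQ 62418 Q62418 (allL N62418 (tt N33350 (iv1 D116272)) (tt N38821 F343174) (tt N72172 (iv2 F221518)) (tt N82857 F343172) (tt N78070 F343818) (tt N59218 F181225) (tt N49448 (iv6 F343170)) (tt N72174 (iv7 F221523)))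
theorem Q62420 : ∀ i, i < 62420 → P i := stepQ 62419 Q62419 (allL N62419 (tt N94548 (iv1 F404923)) (tt N94547 F404922) (tt N94549 (iv2 F404924)) (tt N99524 D202662) (tt N33350 (iv4 D116273)) (tt N79214 F343180) (tt N94555 (iv6 F404958)) (tt N57851 F343195))
theorem Q62421 : ∀ i, i < 62421 → P i := stepQ 62420 Q62420 (allL N62420 (tt N72172 (iv1 F221521)) (tt N72174 (iv0 F221524)) (tt N38821 F343166) (tt N80397 F365570) (tt N57851 F343167) (tt N33351 F181226) (tt N38683 F343168) (tt N33350 (iv7 D116274)))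
theorem Q62422 : ∀ i, i < 62422 → P i := stepQ 62421 Q62421 (allL N62421 (tt N33354 (iv1 F181229)) (tt N33352 (iv0 D116275)) (tt N59013 (iv2 F181228)) (tt N86318 (iv3 F375810)) (tt N36113 F181227) (tt N70162 (iv5 F343813)) (tt N40562 (iv6 F181231)) (tt N36110 F181230))
theorem Q62423 : ∀ i, i < 62423 → P i := stepQ 62422 Q62422 (allL N62422 (tt N99525 D202663) (tt N69695 (iv0 F424340)) (tt N99526 D202664) (tt N33352 (iv3 D116276)) (tt N54780 (iv4 F362228)) (tt N99527 D202665) (tt N53897 (iv6 F364234)) (tt N99504 (iv7 F424898)))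
theorem Q62424 : ∀ i, i < 62424 → P i := stepQ 62423 Q62423 (allL N62423 (tt N99528 D202666) (tt N99529 D202667) (tt N99503 (iv2 F424891)) (tt N99527 (iv3 F424991)) (tt N99530 D202668) (tt N33352 (iv5 D116277)) (tt N34522 F362808) (tt N99505 (iv7 F424902)))
theorem Q62425 : ∀ i, i < 62425 → P i := stepQ 62424 Q62424 (allL N62424 (tt N34986 F336656) (tt N34983 F336657) (tt N46730 F336658) (tt N53897 F336659) (tt N33353 F181232) (tt N34523 F336660) (tt N33352 (iv6 D116278)) (tt N46732 F336661))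
theorem Q62426 : ∀ i, i < 62426 → P i := stepQ 62425 Q62425 (allL N62425 (tt N99365 F424305) (tt N99531 D202669) (tt N99532 D202670) (tt N33354 (iv3 D116279)) (tt N92447 (iv4 F397020)) (tt N69102 F397025) (tt N96202 (iv6 F411470)) (tt N99502 (iv7 F424886)))
theorem Q62427 : ∀ i, i < 62427 → P i := stepQ 62426 Q62426 (allL N62426 (tt N99529 (iv1 F424996)) (tt N99528 F424994) (tt N99505 (iv2 F424901)) (tt N69102 (iv3 F397026)) (tt N99533 D202671) (tt N33354 (iv5 D116280)) (tt N99534 D202672) (tt N99503 (iv7 F424894)))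
theorem Q62428 : ∀ i, i < 62428 → P i := stepQ 62427 Q62427 (allL N62427 (tt N59164 (iv1 F181243)) (tt N59172 F181249) (tt N59168 F181260) (tt N33356 (iv3 D116283)) (tt N57072 F181238) (tt N99535 D202673) (tt N78174 F361557) (tt N40598 F181239))
theorem Q62429 : ∀ i, i < 62429 → P i := stepQ 62428 Q62428 (allL N62428 (tt N99427 (iv1 F424535)) (tt N99428 (iv0 F424539)) (tt N40606 F181262) (tt N99535 (iv3 F425024)) (tt N99418 (iv4 F424478)) (tt N33356 (iv5 D116284)) (tt N99536 D202674) (tt N40599 F181263))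
theorem Q62430 : ∀ i, i < 62430 → P i := stepQ 62429 Q62429 (allL N62429 (tt N99240 (iv1 F423822)) (tt N94469 (iv0 F404598)) (tt N47722 F351496) (tt N33359 F181284) (tt N62502 (iv4 F181929)) (tt N47721 F351497) (tt N33357 (iv6 D116295)) (tt N78176 F351498))
theorem Q62431 : ∀ i, i < 62431 → P i := stepQ 62430 Q62430 (allL N62430 (tt N99428 (iv1 F424540)) (tt N99427 (iv0 F424534)) (tt N40599 F181285) (tt N99159 (iv3 F423517)) (tt N99419 F424484) (tt N33358 (iv5 D116296)) (tt N99537 D202675) (tt N40606 F181286))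
theorem Q62432 : ∀ i, i < 62432 → P i := stepQ 62431 Q62431 (allL N62431 (tt N99538 D202676) (tt N73949 F361543) (tt N40600 F181287) (tt N99160 (iv3 F423523)) (tt N33359 F181288) (tt N99539 D202677) (tt N33358 (iv6 D116297)) (tt N78178 F361538))
theorem Q62433 : ∀ i, i < 62433 → P i := stepQ 62432 Q62432 (allL N62432 (tt N33359 (iv1 D116301)) (tt N39941 (iv0 F320216)) (tt N33473 F326016) (tt N40734 F328203) (tt N82187 (iv4 F361952)) (tt N69624 F361955) (tt N96906 (iv6 F414545)) (tt N40601 F326018))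
theorem Q62434 : ∀ i, i < 62434 → P i := stepQ 62433 Q62433 (allL N62433 (tt N47728 F323433) (tt N47703 F323434) (tt N40602 F181293) (tt N47721 F323435) (tt N48464 F323436) (tt N33359 (iv5 D116302)) (tt N38325 F323437) (tt N47729 F323438))
theorem Q62435 : ∀ i, i < 62435 → P i := stepQ 62434 Q62434 (allL N62434 (tt N40620 (iv1 F181301)) (tt N40619 F181302) (tt N33362 F181299) (tt N99540 D202678) (tt N33360 (iv4 D116304)) (tt N99541 D202679) (tt N75972 (iv6 F349354)) (tt N40607 F181300))
theorem Q62436 : ∀ i, i < 62436 → P i := stepQ 62435 Q62435 (allL N62435 (tt N40607 (iv1 F181316)) (tt N33362 (iv0 D116320)) (tt N40620 F183046) (tt N40822 F323723) (tt N40839 F323724) (tt N72817 (iv5 F223265)) (tt N99542 D202680) (tt N40619 F183050))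
theorem Q62437 : ∀ i, i < 62437 → P i := stepQ 62436 Q62436 (allL N62436 (tt N33362 (iv1 D116321)) (tt N40607 F181318) (tt N40619 F183049) (tt N99543 D202681) (tt N40803 (iv4 F181319)) (tt N72818 (iv5 F223266)) (tt N99544 D202682) (tt N40620 (iv7 F183048)))
theorem Q62438 : ∀ i, i < 62438 → P i := stepQ 62437 Q62437 (allL N62437 (tt N99450 (iv1 F424643)) (tt N99452 (iv0 F424650)) (tt N99541 (iv2 F425060)) (tt N33611 F181320) (tt N90071 F388485) (tt N33362 (iv5 D116322)) (tt N90070 (iv6 F388486)) (tt N40621 F181321))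
theorem Q62439 : ∀ i, i < 62439 → P i := stepQ 62438 Q62438 (allL N62438 (tt N42867 F319687) (tt N66557 F319688) (tt N66563 (iv2 F350101)) (tt N33363 (iv3 D116329)) (tt N73752 (iv4 F225666)) (tt N64731 F319689) (tt N40477 F341031) (tt N66564 F319690))
theorem Q62440 : ∀ i, i < 62440 → P i := stepQ 62439 Q62439 (allL N62439 (tt N73879 (iv1 F348334)) (tt N73868 F348331) (tt N73876 (iv2 F361410)) (tt N99545 D202683) (tt N33363 (iv4 D116330)) (tt N99546 D202684) (tt N99547 D202685) (tt N73877 (iv7 F361415)))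
theorem Q62441 : ∀ i, i < 62441 → P i := stepQ 62440 Q62440 (allL N62440 (tt N96906 (iv1 F414547)) (tt N58619 (iv0 F342378)) (tt N80394 F319694) (tt N40477 F327727) (tt N99547 (iv4 F425092)) (tt N40475 F327728) (tt N33363 (iv6 D116332)) (tt N96905 (iv7 F414541)))
theorem Q62442 : ∀ i, i < 62442 → P i := stepQ 62441 Q62441 (allL N62441 (tt N76755 F319698) (tt N76763 F319699) (tt N99212 (iv2 F423702)) (tt N33364 (iv3 D116334)) (tt N62527 F366197) (tt N76025 F319700) (tt N94455 F404540) (tt N80393 F319701))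
theorem Q62443 : ∀ i, i < 62443 → P i := stepQ 62442 Q62442 (allL N62442 (tt N73868 (iv1 F348332)) (tt N73879 F348333) (tt N73877 (iv2 F361413)) (tt N99548 D202686) (tt N33364 (iv4 D116335)) (tt N99549 D202687) (tt N99550 D202688) (tt N73876 (iv7 F361412)))
theorem Q62444 : ∀ i, i < 62444 → P i := stepQ 62443 Q62443 (allL N62443 (tt N33913 F319705) (tt N39945 F319541) (tt N39947 F319536) (tt N94455 (iv3 F404536)) (tt N99550 (iv4 F425100)) (tt N91535 (iv5 F393532)) (tt N33364 (iv6 D116337)) (tt N39948 F319537))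
theorem Q62445 : ∀ i, i < 62445 → P i := stepQ 62444 Q62444 (allL N62444 (tt N78221 (iv1 F316176)) (tt N99047 F423139) (tt N76775 F318376) (tt N33367 F181414) (tt N99147 (iv4 F423465)) (tt N33549 (iv5 F320588)) (tt N33366 (iv6 D116375)) (tt N76256 (iv7 F319187)))
theorem Q62446 : ∀ i, i < 62446 → P i := stepQ 62445 Q62445 (allL N62445 (tt N39773 F342513) (tt N39784 F342514) (tt N39782 F323835) (tt N33368 (iv3 D116378)) (tt N33369 F181423) (tt N82859 (iv5 F356218)) (tt N76257 (iv6 F320468)) (tt N39686 F181424))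
theorem Q62447 : ∀ i, i < 62447 → P i := stepQ 62446 Q62446 (allL N62446 (tt N65272 F359321) (tt N65271 F338951) (tt N65273 (iv2 F338947)) (tt N33373 F181490) (tt N40687 F181491) (tt N47680 F322070) (tt N33370 (iv6 D116388)) (tt N47748 F322071))
theorem Q62448 : ∀ i, i < 62448 → P i := stepQ 62447 Q62447 (allL N62447 (tt N56776 F181495) (tt N56771 (iv0 F181498)) (tt N57046 F181492) (tt N33371 (iv3 D116389)) (tt N40686 F181493) (tt N93647 (iv5 F401425)) (tt N99551 D202689) (tt N40845 F181494))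
theorem Q62449 : ∀ i, i < 62449 → P i := stepQ 62448 Q62448 (allL N62448 (tt N80348 (iv1 F360015)) (tt N80351 F347185) (tt N40856 F181499) (tt N99551 (iv3 F425107)) (tt N33373 F181500) (tt N99552 D202690) (tt N33371 (iv6 D116390)) (tt N47749 F322072))
theorem Q62450 : ∀ i, i < 62450 → P i := stepQ 62449 Q62449 (allL N62449 (tt N39994 F321158) (tt N33373 (iv0 D116393)) (tt N33458 F322212) (tt N40776 F323791) (tt N81718 F322213) (tt N46451 F322214) (tt N68563 (iv6 F340817)) (tt N40859 F322206))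
theorem Q62451 : ∀ i, i < 62451 → P i := stepQ 62450 Q62450 (allL N62450 (tt N40581 F181514) (tt N40578 (iv0 F181515)) (tt N40896 F181511) (tt N57045 F181512) (tt N33374 (iv4 D116397)) (tt N99553 D202691) (tt N78182 F366082) (tt N40851 F181513))
theorem Q62452 : ∀ i, i < 62452 → P i := stepQ 62451 Q62451 (allL N62451 (tt N40978 (iv1 F205120)) (tt N33775 F184459) (tt N40897 F181517) (tt N33376 F181518) (tt N66738 (iv4 F205297)) (tt N33374 (iv5 D116398)) (tt N77549 F346212) (tt N40852 F181519))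
theorem Q62453 : ∀ i, i < 62453 → P i := stepQ 62452 Q62452 (allL N62452 (tt N45061 F318237) (tt N40469 (iv0 F320520)) (tt N40847 F181525) (tt N61115 F318238) (tt N33376 (iv4 D116401)) (tt N87523 (iv5 F379650)) (tt N80143 (iv6 F353114)) (tt N40857 F181526))
theorem Q62454 : ∀ i, i < 62454 → P i := stepQ 62453 Q62453 (allL N62453 (tt N33454 F346256) (tt N41039 F346257) (tt N40848 F181527) (tt N77549 F346211) (tt N80143 F346253) (tt N68023 (iv5 F353869)) (tt N33376 (iv6 D116402)) (tt N41038 F320144))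
theorem Q62455 : ∀ i, i < 62455 → P i := stepQ 62454 Q62454 (allL N62454 (tt N40877 F181537) (tt N40876 F181570) (tt N33379 F181535) (tt N98760 (iv3 F422191)) (tt N33377 (iv4 D116407)) (tt N74045 (iv5 F226688)) (tt N99554 D202692) (tt N40861 F181536))
theorem Q62456 : ∀ i, i < 62456 → P i := stepQ 62455 Q62455 (allL N62455 (tt N75500 F318656) (tt N80440 F364496) (tt N33380 F181571) (tt N40786 F181572) (tt N99554 (iv4 F425130)) (tt N41935 F318657) (tt N33377 (iv6 D116408)) (tt N42019 F318658))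
theorem Q62457 : ∀ i, i < 62457 → P i := stepQ 62456 Q62456 (allL N62456 (tt N74399 F318123) (tt N74708 (iv0 F228621)) (tt N33382 F181574) (tt N40788 F181575) (tt N75015 F355125) (tt N33378 (iv5 D116411)) (tt N41935 F318124) (tt N43831 F318125))
theorem Q62458 : ∀ i, i < 62458 → P i := stepQ 62457 Q62457 (allL N62457 (tt N40861 (iv1 F181582)) (tt N33379 (iv0 D116413)) (tt N40877 (iv2 F181609)) (tt N51288 F353835) (tt N73361 (iv4 F224491)) (tt N73963 (iv5 F226339)) (tt N51287 F333377) (tt N40876 (iv7 F181611)))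
theorem Q62459 : ∀ i, i < 62459 → P i := stepQ 62458 Q62458 (allL N62458 (tt N33379 (iv1 D116414)) (tt N40861 F181583) (tt N40876 F181610) (tt N86783 (iv3 F377174)) (tt N40252 (iv4 F181585)) (tt N73964 (iv5 F226343)) (tt N88193 (iv6 F382110)) (tt N40877 F181608))
theorem Q62460 : ∀ i, i < 62460 → P i := stepQ 62459 Q62459 (allL N62459 (tt N73588 (iv1 F363634)) (tt N80388 (iv0 F364872)) (tt N99554 (iv2 F425129)) (tt N33588 F181614) (tt N33380 F181615) (tt N52086 F333591) (tt N33379 (iv6 D116416)) (tt N61435 F318651))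
theorem Q62461 : ∀ i, i < 62461 → P i := stepQ 62460 Q62460 (allL N62460 (tt N42019 F318652) (tt N33380 (iv0 D116417)) (tt N75500 F318653) (tt N40872 F334989) (tt N92817 (iv4 F398363)) (tt N52592 F318654) (tt N40870 F334990) (tt N80440 (iv7 F364494)))
theorem Q62462 : ∀ i, i < 62462 → P i := stepQ 62461 Q62461 (allL N62461 (tt N80440 (iv1 F364497)) (tt N75500 F317988) (tt N42019 F317989) (tt N33386 F181618) (tt N61435 F317990) (tt N33657 F317991) (tt N34298 F317992) (tt N33380 (iv7 D116420)))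
theorem Q62463 : ∀ i, i < 62463 → P i := stepQ 62462 Q62462 (allL N62462 (tt N40899 F340760) (tt N40910 F340761) (tt N40908 F340762) (tt N33381 (iv3 D116427)) (tt N99555 D202693) (tt N63413 (iv5 F340765)) (tt N80403 F340763) (tt N40907 F340764))
theorem Q62464 : ∀ i, i < 62464 → P i := stepQ 62463 Q62463 (allL N62463 (tt N75355 (iv1 F360683)) (tt N75354 (iv0 F360680)) (tt N75358 (iv2 F360681)) (tt N99556 D202694) (tt N33381 (iv4 D116428)) (tt N88149 (iv5 F381936)) (tt N88134 (iv6 F381881)) (tt N75282 F360682))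
theorem Q62465 : ∀ i, i < 62465 → P i := stepQ 62464 Q62464 (allL N62464 (tt N67842 F321223) (tt N68563 F321224) (tt N52354 F321225) (tt N80403 (iv3 F340767)) (tt N88134 (iv4 F381878)) (tt N44518 F321226) (tt N33381 (iv6 D116430)) (tt N44517 F321227))
theorem Q62466 : ∀ i, i < 62466 → P i := stepQ 62465 Q62465 (allL N62465 (tt N43831 F318116) (tt N33382 (iv0 D116431)) (tt N74399 F318117) (tt N65237 F318118) (tt N78336 F355122) (tt N44459 F318119) (tt N41971 F318120) (tt N74708 F335072))
theorem Q62467 : ∀ i, i < 62467 → P i := stepQ 62466 Q62466 (allL N62466 (tt N33382 (iv1 D116432)) (tt N43831 F318121) (tt N74708 (iv2 F335073)) (tt N99557 D202695) (tt N99558 D202696) (tt N74701 (iv5 F228592)) (tt N99559 D202697) (tt N74399 F318122))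
theorem Q62468 : ∀ i, i < 62468 → P i := stepQ 62467 Q62467 (allL N62467 (tt N74708 F228622) (tt N74399 F316214) (tt N43831 F316215) (tt N33390 F181622) (tt N74352 (iv4 F350789)) (tt N33383 F181623) (tt N34344 F316216) (tt N33382 (iv7 D116434)))
theorem Q62469 : ∀ i, i < 62469 → P i := stepQ 62468 Q62468 (allL N62468 (tt N40940 F327182) (tt N40894 F327183) (tt N40939 F325022) (tt N33384 (iv3 D116435)) (tt N99542 (iv4 F425068)) (tt N63073 F318644) (tt N40839 F318645) (tt N40833 F181624))
theorem Q62470 : ∀ i, i < 62470 → P i := stepQ 62469 Q62469 (allL N62469 (tt N33421 (iv1 F323541)) (tt N41925 F317642) (tt N74342 F321856) (tt N33385 (iv3 D116438)) (tt N99560 D202698) (tt N75170 F317643) (tt N44016 F181630) (tt N40807 F321857))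
theorem Q62471 : ∀ i, i < 62471 → P i := stepQ 62470 Q62470 (allL N62470 (tt N40944 (iv1 F225554)) (tt N40895 (iv0 F210315)) (tt N40942 F208261) (tt N33387 (iv3 D116444)) (tt N99561 D202699) (tt N38260 F181644) (tt N41773 F313463) (tt N40836 F181645))
theorem Q62472 : ∀ i, i < 62472 → P i := stepQ 62471 Q62471 (allL N62471 (tt N33424 F181650) (tt N44035 F316211) (tt N82094 F316212) (tt N33388 (iv3 D116446)) (tt N99562 D202700) (tt N62332 F181648) (tt N72331 (iv6 F346823)) (tt N40835 F181649))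
theorem Q62473 : ∀ i, i < 62473 → P i := stepQ 62472 Q62472 (allL N62472 (tt N33394 (iv1 F181710)) (tt N33392 (iv0 D116454)) (tt N40770 (iv2 F181711)) (tt N58447 F336226) (tt N40580 F181709) (tt N74328 (iv5 F227347)) (tt N58446 (iv6 F347152)) (tt N40769 (iv7 F181712)))
theorem Q62474 : ∀ i, i < 62474 → P i := stepQ 62473 Q62473 (allL N62473 (tt N33392 (iv1 D116455)) (tt N33394 F181713) (tt N40769 F181716) (tt N36689 F181717) (tt N40725 (iv4 F181715)) (tt N74329 (iv5 F227353)) (tt N96878 F414409) (tt N40770 F181714))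
theorem Q62475 : ∀ i, i < 62475 → P i := stepQ 62474 Q62474 (allL N62474 (tt N67136 F206754) (tt N72415 (iv0 F222474)) (tt N99563 D202701) (tt N33392 (iv3 D116456)) (tt N40533 F181718) (tt N54902 (iv5 F355630)) (tt N78190 F366290) (tt N40771 F181719))
theorem Q62476 : ∀ i, i < 62476 → P i := stepQ 62475 Q62475 (allL N62475 (tt N99564 D202702) (tt N96772 (iv0 F413859)) (tt N40779 F181720) (tt N54902 F355631) (tt N76381 (iv4 F346406)) (tt N33392 (iv5 D116457)) (tt N99565 D202703) (tt N40772 F181721))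
theorem Q62477 : ∀ i, i < 62477 → P i := stepQ 62476 Q62476 (allL N62476 (tt N66742 (iv1 F205313)) (tt N42118 F346417) (tt N40780 F181724) (tt N99566 D202704) (tt N33393 (iv4 D116459)) (tt N98139 (iv5 F419648)) (tt N99567 D202705) (tt N40774 F181725))
theorem Q62478 : ∀ i, i < 62478 → P i := stepQ 62477 Q62477 (allL N62477 (tt N41030 F349363) (tt N33456 F349364) (tt N40781 F181726) (tt N77541 F349365) (tt N99567 (iv4 F425203)) (tt N76591 (iv5 F349366)) (tt N33393 (iv6 D116460)) (tt N41029 F318074))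
theorem Q62479 : ∀ i, i < 62479 → P i := stepQ 62478 Q62478 (allL N62478 (tt N67130 (iv1 F206736)) (tt N36133 (iv0 F181751)) (tt N67129 F206738) (tt N33394 (iv3 D116469)) (tt N66552 (iv4 F204410)) (tt N52696 (iv5 F355424)) (tt N79579 (iv6 F366319)) (tt N40778 F181750))
theorem Q62480 : ∀ i, i < 62480 → P i := stepQ 62479 Q62479 (allL N62479 (tt N96772 (iv1 F413860)) (tt N99564 F425186) (tt N40772 F181752) (tt N52696 (iv3 F355423)) (tt N99568 D202706) (tt N33394 (iv5 D116470)) (tt N99569 D202707) (tt N40779 F181753))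
theorem Q62481 : ∀ i, i < 62481 → P i := stepQ 62480 Q62480 (allL N62480 (tt N99570 D202708) (tt N95370 (iv0 F408014)) (tt N40773 F181754) (tt N79579 F366320) (tt N33396 F181755) (tt N99571 D202709) (tt N33394 (iv6 D116471)) (tt N65331 F366285))
theorem Q62482 : ∀ i, i < 62482 → P i := stepQ 62481 Q62481 (allL N62481 (tt N42118 F346408) (tt N66742 (iv0 F205312)) (tt N40774 F181756) (tt N42080 F316674) (tt N33395 (iv4 D116472)) (tt N76380 F346402) (tt N99572 D202710) (tt N40780 F181757))
theorem Q62483 : ∀ i, i < 62483 → P i := stepQ 62482 Q62482 (allL N62482 (tt N33784 F317781) (tt N42281 F317782) (tt N40775 F181758) (tt N41027 F315548) (tt N99572 (iv4 F425228)) (tt N37473 F315549) (tt N33395 (iv6 D116473)) (tt N42280 F319986))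
theorem Q62484 : ∀ i, i < 62484 → P i := stepQ 62483 Q62483 (allL N62483 (tt N33396 (iv1 D116475)) (tt N39979 F320421) (tt N33460 F322208) (tt N40859 F322202) (tt N95340 (iv4 F407918)) (tt N46461 F318265) (tt N95345 (iv6 F407935)) (tt N40776 F323794))
theorem Q62485 : ∀ i, i < 62485 → P i := stepQ 62484 Q62484 (allL N62484 (tt N40796 (iv1 F181769)) (tt N40795 F181768) (tt N33402 F181766) (tt N73965 F226348) (tt N74487 (iv4 F227976)) (tt N33397 (iv5 D116478)) (tt N87129 (iv6 F378466)) (tt N40783 F181767))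
theorem Q62486 : ∀ i, i < 62486 → P i := stepQ 62485 Q62485 (allL N62485 (tt N40809 F181774) (tt N40808 F181777) (tt N33404 F181772) (tt N41694 (iv3 F181776)) (tt N33398 (iv4 D116480)) (tt N78376 (iv5 F248517)) (tt N47977 F320893) (tt N40785 F181773))
theorem Q62487 : ∀ i, i < 62487 → P i := stepQ 62486 Q62486 (allL N62486 (tt N54785 (iv1 F345455)) (tt N53459 (iv0 F333110)) (tt N39669 (iv2 F181791)) (tt N33400 (iv3 D116486)) (tt N39154 F181789) (tt N99573 D202711) (tt N78192 (iv6 F359928)) (tt N39671 F181790))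
theorem Q62488 : ∀ i, i < 62488 → P i := stepQ 62487 Q62487 (allL N62487 (tt N41153 F181794) (tt N33530 F181795) (tt N40794 F181792) (tt N99573 (iv3 F425231)) (tt N61104 F352140) (tt N33400 (iv5 D116487)) (tt N99574 D202712) (tt N40791 F181793))
theorem Q62489 : ∀ i, i < 62489 → P i := stepQ 62488 Q62488 (allL N62488 (tt N41045 F321332) (tt N95340 (iv0 F407919)) (tt N40792 F181804) (tt N60348 (iv3 F355200)) (tt N62369 F181805) (tt N60344 F355199) (tt N33401 (iv6 D116491)) (tt N78194 F346679))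
theorem Q62490 : ∀ i, i < 62490 → P i := stepQ 62489 Q62489 (allL N62489 (tt N63489 (iv1 F356231)) (tt N33403 (iv0 D116494)) (tt N73600 (iv2 F356229)) (tt N53399 (iv3 F356230)) (tt N73599 F356228) (tt N71737 F356234) (tt N77799 (iv6 F356238)) (tt N54465 F356235))
theorem Q62491 : ∀ i, i < 62491 → P i := stepQ 62490 Q62490 (allL N62490 (tt N33403 (iv1 D116495)) (tt N63489 F356242) (tt N54465 F356241) (tt N99575 D202713) (tt N73580 (iv4 F225083)) (tt N99576 D202714) (tt N76250 F366537) (tt N73600 F356240))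
theorem Q62492 : ∀ i, i < 62492 → P i := stepQ 62491 Q62491 (allL N62491 (tt N40785 (iv1 F181812)) (tt N33404 (iv0 D116498)) (tt N40809 (iv2 F181816)) (tt N99577 D202715) (tt N73582 (iv4 F225093)) (tt N73959 (iv5 F226286)) (tt N82238 F351002) (tt N40808 (iv7 F181818)))
theorem Q62493 : ∀ i, i < 62493 → P i := stepQ 62492 Q62492 (allL N62492 (tt N33404 (iv1 D116499)) (tt N40785 F181813) (tt N40808 F181817) (tt N99578 D202716) (tt N40433 (iv4 F181814)) (tt N70465 (iv5 F330328)) (tt N71155 (iv6 F337168)) (tt N40809 F181815))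
theorem Q62494 : ∀ i, i < 62494 → P i := stepQ 62493 Q62493 (allL N62493 (tt N82004 F331710) (tt N82007 (iv0 F337714)) (tt N47977 F317985) (tt N33571 F181819) (tt N33405 F181820) (tt N34742 F319972) (tt N33404 (iv6 D116500)) (tt N43942 F317986))
theorem Q62495 : ∀ i, i < 62495 → P i := stepQ 62494 Q62494 (allL N62494 (tt N40957 F322293) (tt N40948 F322294) (tt N40954 F348317) (tt N33406 (iv3 D116506)) (tt N80396 F322185) (tt N47985 F322186) (tt N95615 (iv6 F408900)) (tt N40955 F348318))
theorem Q62496 : ∀ i, i < 62496 → P i := stepQ 62495 Q62495 (allL N62495 (tt N96878 (iv1 F414405)) (tt N96838 F414198) (tt N76882 F322197) (tt N89239 F385733) (tt N33407 (iv4 D116512)) (tt N80202 (iv5 F339845)) (tt N75675 F322198) (tt N48018 F322199))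
theorem Q62497 : ∀ i, i < 62497 → P i := stepQ 62496 Q62496 (allL N62496 (tt N72981 (iv1 F223690)) (tt N40870 F223692) (tt N73408 (iv2 F322870)) (tt N33411 F181883) (tt N73584 (iv4 F225099)) (tt N33409 (iv5 D116542)) (tt N74696 (iv6 F335131)) (tt N33429 F181884))
theorem Q62498 : ∀ i, i < 62498 → P i := stepQ 62497 Q62497 (allL N62497 (tt N99087 (iv1 F423288)) (tt N93638 (iv0 F401389)) (tt N33417 F181886) (tt N90941 (iv3 F391313)) (tt N90995 (iv4 F391504)) (tt N33410 (iv5 D116544)) (tt N67145 F330559) (tt N33432 F181887))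
theorem Q62499 : ∀ i, i < 62499 → P i := stepQ 62498 Q62498 (allL N62498 (tt N99579 D202717) (tt N73369 (iv0 F224522)) (tt N33420 F181892) (tt N94048 (iv3 F402971)) (tt N33411 (iv4 D116548)) (tt N78756 F349848) (tt N82240 F339411) (tt N33434 F181893))
theorem Q62500 : ∀ i, i < 62500 → P i := stepQ 62499 Q62499 (allL N62499 (tt N40807 F320307) (tt N74342 F320308) (tt N33421 F181894) (tt N74696 (iv3 F335129)) (tt N82240 (iv4 F339410)) (tt N41873 F318629) (tt N33411 (iv6 D116549)) (tt N41925 F318630))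
theorem Q62501 : ∀ i, i < 62501 → P i := stepQ 62500 Q62500 (allL N62500 (tt N40835 F220207) (tt N82094 F316205) (tt N33424 F181896) (tt N75246 F316206) (tt N62860 (iv4 F359453)) (tt N33412 (iv5 D116552)) (tt N41873 F316207) (tt N44035 F316208))
theorem Q62502 : ∀ i, i < 62502 → P i := stepQ 62501 Q62501 (allL N62501 (tt N99233 (iv1 F423786)) (tt N99231 (iv0 F423777)) (tt N99017 (iv2 F423046)) (tt N44193 F330560) (tt N68678 F330561) (tt N33415 (iv5 D116572)) (tt N44192 F330562) (tt N73348 (iv7 F224452)))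
theorem Q62503 : ∀ i, i < 62503 → P i := stepQ 62502 Q62502 (allL N62502 (tt N78222 (iv1 F351567)) (tt N78220 F351522) (tt N81715 (iv2 F351517)) (tt N99092 (iv3 F423308)) (tt N62429 F181929) (tt N99580 D202718) (tt N33415 (iv6 D116573)) (tt N78201 (iv7 F351499)))
theorem Q62504 : ∀ i, i < 62504 → P i := stepQ 62503 Q62503 (allL N62503 (tt N99231 (iv1 F423778)) (tt N99233 (iv0 F423785)) (tt N73348 (iv2 F224451)) (tt N93500 F400952) (tt N95556 (iv4 F408639)) (tt N33416 (iv5 D116574)) (tt N99581 D202719) (tt N99017 (iv7 F423048)))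
theorem Q62505 : ∀ i, i < 62505 → P i := stepQ 62504 Q62504 (allL N62504 (tt N33417 (iv1 D116582)) (tt N33432 F181935) (tt N93638 (iv2 F401386)) (tt N61920 (iv3 F181937)) (tt N95376 (iv4 F408034)) (tt N61919 F181936) (tt N99582 D202720) (tt N99087 (iv7 F423287)))
theorem Q62506 : ∀ i, i < 62506 → P i := stepQ 62505 Q62505 (allL N62505 (tt N90994 (iv1 F391498)) (tt N72648 (iv0 F222807)) (tt N90995 (iv2 F391502)) (tt N97288 (iv3 F416228)) (tt N33417 (iv4 D116583)) (tt N81627 F349836) (tt N97286 F416220) (tt N90993 F391497))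
theorem Q62507 : ∀ i, i < 62507 → P i := stepQ 62506 Q62506 (allL N62506 (tt N93638 (iv1 F401391)) (tt N99087 F423289) (tt N33432 F181938) (tt N99086 (iv3 F423281)) (tt N90993 (iv4 F391495)) (tt N33418 F181939) (tt N90935 (iv6 F391303)) (tt N33417 (iv7 D116585)))
theorem Q62508 : ∀ i, i < 62508 → P i := stepQ 62507 Q62507 (allL N62507 (tt N59966 F181948) (tt N72680 F222865) (tt N40824 F181946) (tt N81344 (iv3 F354807)) (tt N33419 (iv4 D116591)) (tt N59981 F181947) (tt N99583 D202721) (tt N72677 (iv7 F222850)))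
theorem Q62509 : ∀ i, i < 62509 → P i := stepQ 62508 Q62508 (allL N62508 (tt N80495 F361076) (tt N34586 F313913) (tt N40825 F181949) (tt N40932 F181950) (tt N99583 (iv4 F425279)) (tt N75618 (iv5 F361077)) (tt N33419 (iv6 D116592)) (tt N88439 (iv7 F383054)))
theorem Q62510 : ∀ i, i < 62510 → P i := stepQ 62509 Q62509 (allL N62509 (tt N33434 (iv1 F181952)) (tt N33420 (iv0 D116593)) (tt N99579 F425264) (tt N99584 D202722) (tt N40267 F181951) (tt N75596 (iv5 F232046)) (tt N70070 (iv6 F346120)) (tt N73369 (iv7 F224521)))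
theorem Q62511 : ∀ i, i < 62511 → P i := stepQ 62510 Q62510 (allL N62510 (tt N33420 (iv1 D116594)) (tt N33434 F181953) (tt N73369 (iv2 F224520)) (tt N42009 (iv3 F224519)) (tt N73368 F224518) (tt N75597 (iv5 F232050)) (tt N47030 F330297) (tt N99579 (iv7 F425266)))
theorem Q62512 : ∀ i, i < 62512 → P i := stepQ 62511 Q62511 (allL N62511 (tt N73369 (iv1 F224523)) (tt N99579 F425265) (tt N33434 F181955) (tt N45932 F323583) (tt N33422 F181957) (tt N45931 F323584) (tt N76780 (iv6 F353458)) (tt N33420 (iv7 D116596)))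
theorem Q62513 : ∀ i, i < 62513 → P i := stepQ 62512 Q62512 (allL N62512 (tt N74342 F320305) (tt N40807 F320306) (tt N41925 F321861) (tt N40829 F321862) (tt N44895 F321863) (tt N41874 F321864) (tt N34290 F321865) (tt N33421 (iv7 D116600)))
theorem Q62514 : ∀ i, i < 62514 → P i := stepQ 62513 Q62513 (allL N62513 (tt N62865 (iv1 F349445)) (tt N62862 F359458) (tt N62860 F359455) (tt N99585 D202723) (tt N33424 (iv4 D116613)) (tt N99586 D202724) (tt N41922 F319163) (tt N62861 (iv7 F359456)))
theorem Q62515 : ∀ i, i < 62515 → P i := stepQ 62514 Q62514 (allL N62514 (tt N82094 F319165) (tt N40835 F319166) (tt N44035 F319167) (tt N44892 F319168) (tt N62861 F359459) (tt N33425 F181970) (tt N34338 F319169) (tt N33424 (iv7 D116614)))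
theorem Q62516 : ∀ i, i < 62516 → P i := stepQ 62515 Q62515 (allL N62515 (tt N40870 F181990) (tt N72981 F223693) (tt N33429 F181989) (tt N40838 F322471) (tt N73585 (iv4 F225105)) (tt N33427 (iv5 D116621)) (tt N43643 F322472) (tt N73408 (iv7 F322872)))
theorem Q62517 : ∀ i, i < 62517 → P i := stepQ 62516 Q62516 (allL N62516 (tt N40880 F322368) (tt N75504 F322132) (tt N33430 F181991) (tt N63459 F322133) (tt N73570 (iv4 F225050)) (tt N43447 F322134) (tt N33427 (iv6 D116622)) (tt N43537 F322135))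
theorem Q62518 : ∀ i, i < 62518 → P i := stepQ 62517 Q62517 (allL N62517 (tt N99156 F423504) (tt N94662 (iv0 F405427)) (tt N72833 (iv2 F223427)) (tt N33428 (iv3 D116623)) (tt N33431 F181992) (tt N99587 D202725) (tt N99588 D202726) (tt N73566 (iv7 F225037)))
theorem Q62519 : ∀ i, i < 62519 → P i := stepQ 62518 Q62518 (allL N62518 (tt N40449 F181993) (tt N40438 F181994) (tt N73569 (iv2 F225043)) (tt N99587 (iv3 F425294)) (tt N91730 (iv4 F394217)) (tt N33428 (iv5 D116624)) (tt N99589 D202727) (tt N73567 (iv7 F225039)))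
theorem Q62520 : ∀ i, i < 62520 → P i := stepQ 62519 Q62519 (allL N62519 (tt N73579 F322144) (tt N73581 F322145) (tt N73570 (iv2 F225048)) (tt N99588 (iv3 F425298)) (tt N33430 F181996) (tt N99590 D202728) (tt N33428 (iv6 D116625)) (tt N73602 F322146))
theorem Q62521 : ∀ i, i < 62521 → P i := stepQ 62520 Q62520 (allL N62520 (tt N73408 (iv1 F322869)) (tt N33429 (iv0 D116626)) (tt N40870 (iv2 F182556)) (tt N40903 F181999) (tt N40745 F181998) (tt N62193 F181997) (tt N75500 F334991) (tt N72981 (iv7 F223689)))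
theorem Q62522 : ∀ i, i < 62522 → P i := stepQ 62521 Q62521 (allL N62521 (tt N40451 F182000) (tt N40440 F182001) (tt N73585 F225106) (tt N76556 (iv3 F349007)) (tt N33429 (iv4 D116627)) (tt N99591 D202729) (tt N76553 F349003) (tt N73584 F225101))
theorem Q62523 : ∀ i, i < 62523 → P i := stepQ 62522 Q62522 (allL N62522 (tt N42669 F322156) (tt N43644 F322157) (tt N43643 F322158) (tt N33435 F182002) (tt N76553 (iv4 F339234)) (tt N43535 F322159) (tt N33429 (iv6 D116628)) (tt N43642 F322160))
theorem Q62524 : ∀ i, i < 62524 → P i := stepQ 62523 Q62523 (allL N62523 (tt N43537 F322136) (tt N33430 (iv0 D116629)) (tt N40880 F322369) (tt N77001 F322137) (tt N40694 F322936) (tt N72343 F322138) (tt N41560 F351580) (tt N75504 F322139))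
theorem Q62525 : ∀ i, i < 62525 → P i := stepQ 62524 Q62524 (allL N62524 (tt N33430 (iv1 D116630)) (tt N43537 F322140) (tt N75504 F322141) (tt N40862 F322346) (tt N40695 F322347) (tt N80523 F322142) (tt N65284 F322143) (tt N40880 F322371))
theorem Q62526 : ∀ i, i < 62526 → P i := stepQ 62525 Q62525 (allL N62525 (tt N99120 (iv1 F423406)) (tt N98791 (iv0 F422333)) (tt N99065 (iv2 F423207)) (tt N33433 F182006) (tt N99588 (iv4 F425299)) (tt N90939 (iv5 F391310)) (tt N33431 (iv6 D116635)) (tt N76787 F366273))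
theorem Q62527 : ∀ i, i < 62527 → P i := stepQ 62526 Q62526 (allL N62526 (tt N76593 (iv1 F366203)) (tt N33433 (iv0 D116638)) (tt N76776 (iv2 F366200)) (tt N99113 (iv3 F423386)) (tt N99592 D202730) (tt N99139 (iv5 F423435)) (tt N98780 F422290) (tt N76777 (iv7 F366202)))
theorem Q62528 : ∀ i, i < 62528 → P i := stepQ 62527 Q62527 (allL N62527 (tt N33433 (iv1 D116639)) (tt N76593 (iv0 F366199)) (tt N76777 F366201) (tt N99593 D202731) (tt N62441 (iv4 F366197)) (tt N99594 D202732) (tt N76817 F404542) (tt N76776 F366198))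
theorem Q62529 : ∀ i, i < 62529 → P i := stepQ 62528 Q62528 (allL N62528 (tt N99595 D202733) (tt N99596 D202734) (tt N76779 F366276) (tt N90939 (iv3 F391309)) (tt N75879 (iv4 F360850)) (tt N33433 (iv5 D116640)) (tt N75877 F360849) (tt N76788 F366274))
theorem Q62530 : ∀ i, i < 62530 → P i := stepQ 62529 Q62529 (allL N62529 (tt N99597 D202735) (tt N41976 (iv0 F182010)) (tt N82453 F339238) (tt N33434 (iv3 D116642)) (tt N76556 F339236) (tt N65445 (iv5 F339254)) (tt N76554 (iv6 F339235)) (tt N94048 (iv7 F402974)))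
theorem Q62531 : ∀ i, i < 62531 → P i := stepQ 62530 Q62530 (allL N62530 (tt N75889 F353462) (tt N99598 D202736) (tt N76780 F322161) (tt N76554 F339230) (tt N33435 F182012) (tt N99599 D202737) (tt N33434 (iv6 D116644)) (tt N99600 D202738))
theorem Q62532 : ∀ i, i < 62532 → P i := stepQ 62531 Q62531 (allL N62531 (tt N33435 (iv1 D116646)) (tt N34290 F322150) (tt N34292 F322151) (tt N40968 F322152) (tt N81316 (iv4 F339381)) (tt N34276 F322153) (tt N34189 F322154) (tt N34275 F322155))
theorem Q62533 : ∀ i, i < 62533 → P i := stepQ 62532 Q62532 (allL N62532 (tt N34292 F322163) (tt N34275 F322164) (tt N34290 F322165) (tt N43642 F322166) (tt N99600 (iv4 F425350)) (tt N75658 F322167) (tt N41925 F322168) (tt N33435 (iv7 D116648)))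
theorem Q62534 : ∀ i, i < 62534 → P i := stepQ 62533 Q62533 (allL N62533 (tt N35439 F322169) (tt N35438 F322170) (tt N35440 F322171) (tt N40971 F322172) (tt N99601 D202739) (tt N33436 (iv5 D116657)) (tt N48036 F322173) (tt N35433 F322174))
theorem Q62535 : ∀ i, i < 62535 → P i := stepQ 62534 Q62534 (allL N62534 (tt N42044 (iv1 F182020)) (tt N42043 F182021) (tt N41944 F182017) (tt N33437 (iv3 D116663)) (tt N40972 F182018) (tt N94176 (iv5 F403553)) (tt N94936 (iv6 F406411)) (tt N42045 F182019))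
theorem Q62536 : ∀ i, i < 62536 → P i := stepQ 62535 Q62535 (allL N62535 (tt N99602 D202740) (tt N99603 D202741) (tt N33446 F182022) (tt N94936 (iv3 F406408)) (tt N33438 F182023) (tt N94930 (iv5 F406383)) (tt N33437 (iv6 D116664)) (tt N77572 (iv7 F346269)))
theorem Q62537 : ∀ i, i < 62537 → P i := stepQ 62536 Q62536 (allL N62536 (tt N33441 (iv1 F182040)) (tt N33439 (iv0 D116670)) (tt N42259 F182042) (tt N76111 (iv3 F350716)) (tt N62315 F182039) (tt N78757 F353463) (tt N74243 F337703) (tt N42258 (iv7 F182041)))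
theorem Q62538 : ∀ i, i < 62538 → P i := stepQ 62537 Q62537 (allL N62537 (tt N62242 F182061) (tt N62239 F182062) (tt N41024 F320880) (tt N79989 F347810) (tt N33440 (iv4 D116678)) (tt N99604 D202742) (tt N41020 F320881) (tt N42261 F182060))
theorem Q62539 : ∀ i, i < 62539 → P i := stepQ 62538 Q62538 (allL N62538 (tt N65446 F336517) (tt N42068 (iv0 F182065)) (tt N76655 (iv2 F347815)) (tt N33441 (iv3 D116680)) (tt N79989 F347814) (tt N59469 F182069) (tt N78376 F336516) (tt N42262 F182064))
theorem Q62540 : ∀ i, i < 62540 → P i := stepQ 62539 Q62539 (allL N62539 (tt N85737 F373737) (tt N95845 F409921) (tt N42260 F182066) (tt N59469 (iv3 F182068)) (tt N96850 (iv4 F414246)) (tt N33441 (iv5 D116681)) (tt N46257 F321850) (tt N42263 F182067))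
theorem Q62541 : ∀ i, i < 62541 → P i := stepQ 62540 Q62540 (allL N62540 (tt N41018 F320151) (tt N41017 F320152) (tt N33452 (iv2 F320387)) (tt N78376 F320153) (tt N33442 F182071) (tt N41694 F320154) (tt N33441 (iv6 D116682)) (tt N41016 F320155))
theorem Q62542 : ∀ i, i < 62542 → P i := stepQ 62541 Q62541 (allL N62541 (tt N80329 (iv1 F352160)) (tt N80331 (iv0 F352170)) (tt N46760 F325851) (tt N33443 (iv3 D116687)) (tt N46740 F325852) (tt N58869 F182080) (tt N34791 F325853) (tt N42115 F182081))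
theorem Q62543 : ∀ i, i < 62543 → P i := stepQ 62542 Q62542 (allL N62542 (tt N66737 (iv1 F205291)) (tt N40281 F182085) (tt N42119 F182082) (tt N66741 (iv3 F205309)) (tt N33443 (iv4 D116688)) (tt N40264 F182083) (tt N42580 F319634) (tt N42116 F182084))
theorem Q62544 : ∀ i, i < 62544 → P i := stepQ 62543 Q62543 (allL N62543 (tt N41877 F323293) (tt N33691 F323294) (tt N41932 F323295) (tt N34791 F323296) (tt N42580 F323297) (tt N34790 F323298) (tt N33443 (iv6 D116689)) (tt N41931 F323299))
theorem Q62545 : ∀ i, i < 62545 → P i := stepQ 62544 Q62544 (allL N62544 (tt N40780 F323315) (tt N40774 F323316) (tt N42118 F182087) (tt N58862 F182088) (tt N56027 F323317) (tt N99605 D202743) (tt N33444 (iv6 D116690)) (tt N66742 F323318))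
theorem Q62546 : ∀ i, i < 62546 → P i := stepQ 62545 Q62545 (allL N62545 (tt N77572 (iv1 F362043)) (tt N33446 (iv0 D116693)) (tt N99602 (iv2 F425365)) (tt N99606 D202744) (tt N82048 (iv4 F362045)) (tt N82065 F362044) (tt N99607 D202745) (tt N99603 (iv7 F425367)))
theorem Q62547 : ∀ i, i < 62547 → P i := stepQ 62546 Q62546 (allL N62546 (tt N33446 (iv1 D116694)) (tt N77572 F346260) (tt N99603 F425368) (tt N96564 F413019) (tt N42561 F346261) (tt N82066 F346262) (tt N99608 D202746) (tt N99602 (iv7 F425364)))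
theorem Q62548 : ∀ i, i < 62548 → P i := stepQ 62547 Q62547 (allL N62547 (tt N94929 (iv1 F406374)) (tt N94928 F406372) (tt N94930 (iv2 F406380)) (tt N42152 F182092) (tt N94962 (iv4 F406520)) (tt N33446 (iv5 D116695)) (tt N64118 F352229) (tt N80158 (iv7 F352224)))
theorem Q62549 : ∀ i, i < 62549 → P i := stepQ 62548 Q62548 (allL N62548 (tt N99603 (iv1 F425366)) (tt N99602 F425362) (tt N77572 F346270) (tt N42149 F182093) (tt N33447 F182094) (tt N80158 F352221) (tt N42128 F182095) (tt N33446 (iv7 D116696)))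
theorem Q62550 : ∀ i, i < 62550 → P i := stepQ 62549 Q62549 (allL N62549 (tt N78201 (iv1 F351521)) (tt N81715 F351505) (tt N78222 (iv2 F351568)) (tt N99609 D202747) (tt N33448 (iv4 D116709)) (tt N95801 (iv5 F409722)) (tt N77705 F366520) (tt N78220 F351569))
theorem Q62551 : ∀ i, i < 62551 → P i := stepQ 62550 Q62550 (allL N62550 (tt N65273 F345689) (tt N47748 F345690) (tt N65271 F345691) (tt N33449 (iv3 D116713)) (tt N73574 F345692) (tt N69669 F345693) (tt N99046 (iv6 F423130)) (tt N65272 F345694))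
theorem Q62552 : ∀ i, i < 62552 → P i := stepQ 62551 Q62551 (allL N62551 (tt N63224 F345699) (tt N63213 (iv0 F345700)) (tt N57423 F345696) (tt N69669 (iv3 F345695)) (tt N68980 F345697) (tt N33449 (iv5 D116715)) (tt N99610 D202748) (tt N63250 F345698))
theorem Q62553 : ∀ i, i < 62553 → P i := stepQ 62552 Q62552 (allL N62552 (tt N80838 (iv1 F342339)) (tt N68549 F333756) (tt N77619 F333753) (tt N63587 (iv3 F333754)) (tt N33450 (iv4 D116719)) (tt N99611 D202749) (tt N42273 F182100) (tt N77620 (iv7 F314271)))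
theorem Q62554 : ∀ i, i < 62554 → P i := stepQ 62553 Q62553 (allL N62553 (tt N41016 (iv1 F182175)) (tt N33452 (iv0 D116744)) (tt N41018 (iv2 F182179)) (tt N78335 F350727) (tt N73152 (iv4 F223900)) (tt N61106 (iv5 F352134)) (tt N63702 F339400) (tt N41017 (iv7 F182181)))
theorem Q62555 : ∀ i, i < 62555 → P i := stepQ 62554 Q62554 (allL N62554 (tt N33452 (iv1 D116745)) (tt N41016 F182176) (tt N41017 F182180) (tt N84772 (iv3 F370567)) (tt N62238 (iv4 F182177)) (tt N61103 (iv5 F352071)) (tt N84771 F370563) (tt N41018 F182178))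
theorem Q62556 : ∀ i, i < 62556 → P i := stepQ 62555 Q62555 (allL N62555 (tt N41039 (iv1 F182294)) (tt N33454 (iv0 D116769)) (tt N41038 F353103) (tt N63713 F353104) (tt N80144 F353105) (tt N76729 F353106) (tt N42274 F353107) (tt N40848 F353108))
theorem Q62557 : ∀ i, i < 62557 → P i := stepQ 62556 Q62556 (allL N62556 (tt N75952 F346258) (tt N75953 F346263) (tt N77196 F364727) (tt N92586 (iv3 F397502)) (tt N33454 (iv4 D116772)) (tt N85856 (iv5 F374233)) (tt N84730 F370393) (tt N41040 F182291))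
theorem Q62558 : ∀ i, i < 62558 → P i := stepQ 62557 Q62557 (allL N62557 (tt N76002 F359300) (tt N77241 (iv0 F359299)) (tt N42269 F359298) (tt N33455 F182219) (tt N84730 (iv4 F370390)) (tt N46650 F359297) (tt N33454 (iv6 D116774)) (tt N87921 (iv7 F381134)))
theorem Q62559 : ∀ i, i < 62559 → P i := stepQ 62558 Q62558 (allL N62558 (tt N41035 (iv1 F182313)) (tt N41027 (iv0 F182314)) (tt N41037 F182310) (tt N87921 (iv3 F381132)) (tt N38358 F182311) (tt N41943 F311059) (tt N33658 (iv6 F313187)) (tt N33455 (iv7 D116783)))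
theorem Q62560 : ∀ i, i < 62560 → P i := stepQ 62559 Q62559 (allL N62559 (tt N75995 F313425) (tt N33688 F313426) (tt N63708 F313427) (tt N33457 F182327) (tt N63697 F334109) (tt N78704 F313428) (tt N33456 (iv6 D116789)) (tt N41938 F313429))
theorem Q62561 : ∀ i, i < 62561 → P i := stepQ 62560 Q62560 (allL N62560 (tt N41939 (iv1 F314049)) (tt N33810 (iv0 F315215)) (tt N41044 F182344) (tt N78704 F313441) (tt N33660 (iv4 F311600)) (tt N33457 (iv5 D116793)) (tt N33795 F313442) (tt N33659 (iv7 F314015)))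
theorem Q62562 : ∀ i, i < 62562 → P i := stepQ 62561 Q62561 (allL N62561 (tt N52354 F313665) (tt N44517 F313666) (tt N68563 F313667) (tt N33459 F182360) (tt N93830 (iv4 F402058)) (tt N66853 (iv5 F315784)) (tt N33458 (iv6 D116799)) (tt N67842 (iv7 F208149)))
theorem Q62563 : ∀ i, i < 62563 → P i := stepQ 62562 Q62562 (allL N62562 (tt N40792 F347186) (tt N78194 F347189) (tt N95340 (iv2 F407915)) (tt N36239 F182374) (tt N33460 (iv4 D116806)) (tt N59791 (iv5 F346861)) (tt N59794 F346862) (tt N41045 F182375))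
theorem Q62564 : ∀ i, i < 62564 → P i := stepQ 62563 Q62563 (allL N62563 (tt N76254 F318306) (tt N40503 F318331) (tt N95345 (iv2 F407934)) (tt N33461 F182378) (tt N59794 (iv4 F346864)) (tt N73198 (iv5 F224055)) (tt N33460 (iv6 D116808)) (tt N65863 (iv7 F202670)))
theorem Q62565 : ∀ i, i < 62565 → P i := stepQ 62564 Q62564 (allL N62564 (tt N40777 F323796) (tt N42706 F312425) (tt N35045 F312426) (tt N33463 (iv3 D116814)) (tt N35042 F312427) (tt N43406 (iv5 F314249)) (tt N35040 F312428) (tt N41055 F182389))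
theorem Q62566 : ∀ i, i < 62566 → P i := stepQ 62565 Q62565 (allL N62565 (tt N65270 F344026) (tt N40687 F359320) (tt N78320 F344008) (tt N33465 (iv3 D116820)) (tt N33468 F182405) (tt N78351 F359318) (tt N77491 (iv6 F359315)) (tt N41067 F182406))
theorem Q62567 : ∀ i, i < 62567 → P i := stepQ 62566 Q62566 (allL N62566 (tt N99612 D202750) (tt N99613 D202751) (tt N93369 (iv2 F400549)) (tt N78351 (iv3 F359319)) (tt N99614 D202752) (tt N33465 (iv5 D116821)) (tt N81974 (iv6 F349733)) (tt N41068 F182407))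
theorem Q62568 : ∀ i, i < 62568 → P i := stepQ 62567 Q62567 (allL N62567 (tt N64616 F341364) (tt N64615 F341365) (tt N48265 F341366) (tt N77491 F359313) (tt N33467 F182408) (tt N46700 F341367) (tt N33465 (iv6 D116822)) (tt N70027 (iv7 F216435)))
theorem Q62569 : ∀ i, i < 62569 → P i := stepQ 62568 Q62568 (allL N62568 (tt N94505 (iv1 F404752)) (tt N62205 (iv0 F182410)) (tt N93370 (iv2 F400555)) (tt N77470 F351884) (tt N33466 (iv4 D116823)) (tt N73472 (iv5 F224910)) (tt N68350 (iv6 F209742)) (tt N41071 F182409))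
theorem Q62570 : ∀ i, i < 62570 → P i := stepQ 62569 Q62569 (allL N62569 (tt N78319 F318150) (tt N36504 F318151) (tt N99615 D202753) (tt N33470 (iv3 D116832)) (tt N77470 F318152) (tt N73340 (iv5 F224415)) (tt N62606 F318153) (tt N41074 F182428))
theorem Q62571 : ∀ i, i < 62571 → P i := stepQ 62570 Q62570 (allL N62570 (tt N40532 F342364) (tt N78170 F342365) (tt N82187 F361953) (tt N33471 (iv3 D116833)) (tt N33473 F182429) (tt N91057 (iv5 F391791)) (tt N64569 F342367) (tt N41058 F182430))
theorem Q62572 : ∀ i, i < 62572 → P i := stepQ 62571 Q62571 (allL N62571 (tt N90927 (iv1 F391292)) (tt N72603 (iv0 F222715)) (tt N65020 F332952) (tt N91057 F391792) (tt N99616 D202754) (tt N33471 (iv5 D116834)) (tt N64570 (iv6 F332953)) (tt N41059 F182431))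
theorem Q62573 : ∀ i, i < 62573 → P i := stepQ 62572 Q62572 (allL N62572 (tt N72456 (iv1 F222535)) (tt N72175 (iv0 F221528)) (tt N72485 (iv2 F222598)) (tt N77678 (iv3 F366417)) (tt N33472 (iv4 D116835)) (tt N73243 (iv5 F224195)) (tt N58121 F182432) (tt N41062 F182433))
theorem Q62574 : ∀ i, i < 62574 → P i := stepQ 62573 Q62573 (allL N62573 (tt N42907 F318147) (tt N72196 F318148) (tt N72773 (iv2 F360570)) (tt N33474 (iv3 D116842)) (tt N77678 F318149) (tt N52247 (iv5 F318156)) (tt N41225 F182446) (tt N41066 F182447))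
theorem Q62575 : ∀ i, i < 62575 → P i := stepQ 62574 Q62574 (allL N62574 (tt N33475 (iv1 D116844)) (tt N69427 F214347) (tt N67021 (iv2 F332334)) (tt N47603 F328146) (tt N39399 F182450) (tt N99617 D202755) (tt N47600 F328147) (tt N57785 F182449))
theorem Q62576 : ∀ i, i < 62576 → P i := stepQ 62575 Q62575 (allL N62575 (tt N64464 (iv1 F332396)) (tt N67010 (iv0 F332395)) (tt N67009 (iv2 F332355)) (tt N36950 F325031) (tt N52949 (iv4 F332397)) (tt N33475 (iv5 D116845)) (tt N36949 F325032) (tt N66974 (iv7 F332342)))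
theorem Q62577 : ∀ i, i < 62577 → P i := stepQ 62576 Q62576 (allL N62576 (tt N99618 D202756) (tt N75005 F322077) (tt N42186 F322078) (tt N33478 F182471) (tt N40379 F182472) (tt N41947 F322079) (tt N33476 (iv6 D116853)) (tt N42182 F322080))
theorem Q62578 : ∀ i, i < 62578 → P i := stepQ 62577 Q62577 (allL N62577 (tt N33480 (iv1 F182479)) (tt N33477 (iv0 D116855)) (tt N41529 (iv2 F182477)) (tt N93319 (iv3 F400381)) (tt N40238 F182476) (tt N93318 F400378) (tt N40480 F322683) (tt N41528 F182478))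
theorem Q62579 : ∀ i, i < 62579 → P i := stepQ 62578 Q62578 (allL N62578 (tt N72927 F223620) (tt N72924 (iv0 F223611)) (tt N56961 F182480) (tt N33477 (iv3 D116856)) (tt N40377 F182481) (tt N96112 (iv5 F411111)) (tt N99619 D202757) (tt N41530 (iv7 F182555)))
theorem Q62580 : ∀ i, i < 62580 → P i := stepQ 62579 Q62579 (allL N62579 (tt N73727 (iv1 F225592)) (tt N55259 (iv0 F363552)) (tt N41543 (iv2 F182551)) (tt N96112 F411112) (tt N41089 F182482) (tt N33477 (iv5 D116857)) (tt N99620 D202758) (tt N41531 F182550))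
theorem Q62581 : ∀ i, i < 62581 → P i := stepQ 62580 Q62580 (allL N62580 (tt N47718 F342463) (tt N91547 F393592) (tt N41544 (iv2 F182568)) (tt N99619 (iv3 F425447)) (tt N33478 F182483) (tt N99621 D202759) (tt N33477 (iv6 D116858)) (tt N91544 (iv7 F393585)))
theorem Q62582 : ∀ i, i < 62582 → P i := stepQ 62581 Q62581 (allL N62581 (tt N41549 (iv1 F182574)) (tt N33478 (iv0 D116860)) (tt N40188 F342455) (tt N41275 F342456) (tt N93885 (iv4 F402274)) (tt N46523 F342457) (tt N43600 F342458) (tt N41547 F342459))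
theorem Q62583 : ∀ i, i < 62583 → P i := stepQ 62582 Q62582 (allL N62582 (tt N41547 (iv1 F182571)) (tt N40188 F326748) (tt N41549 (iv2 F182570)) (tt N42182 F324912) (tt N91544 (iv4 F393582)) (tt N42180 F324913) (tt N41537 F182576) (tt N33478 (iv7 D116863)))
theorem Q62584 : ∀ i, i < 62584 → P i := stepQ 62583 Q62583 (allL N62583 (tt N41539 F182490) (tt N33479 (iv0 D116865)) (tt N40198 F205123) (tt N41265 F182488) (tt N41237 F182487) (tt N40978 (iv5 F205119)) (tt N41419 F321293) (tt N41538 F205124))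
theorem Q62585 : ∀ i, i < 62585 → P i := stepQ 62584 Q62584 (allL N62584 (tt N40198 (iv1 F182585)) (tt N41538 F182580) (tt N33479 (iv2 D116867)) (tt N40374 F182578) (tt N74302 (iv4 F227252)) (tt N73775 (iv5 F225725)) (tt N99622 D202760) (tt N41539 F182579))
theorem Q62586 : ∀ i, i < 62586 → P i := stepQ 62585 Q62585 (allL N62585 (tt N40218 F182594) (tt N40215 (iv0 F182595)) (tt N74302 F227253) (tt N56959 F182592) (tt N33479 (iv4 D116868)) (tt N92545 (iv5 F397322)) (tt N99623 D202761) (tt N41540 F182593))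
theorem Q62587 : ∀ i, i < 62587 → P i := stepQ 62586 Q62586 (allL N62586 (tt N80405 F340750) (tt N80404 (iv0 F340780)) (tt N99622 (iv2 F425452)) (tt N33481 F182596) (tt N99623 (iv4 F425459)) (tt N99624 D202762) (tt N33479 (iv6 D116869)) (tt N99625 D202763))
theorem Q62588 : ∀ i, i < 62588 → P i := stepQ 62587 Q62587 (allL N62587 (tt N99626 D202764) (tt N99627 D202765) (tt N41532 F182597) (tt N56960 F182598) (tt N33481 F182599) (tt N99628 D202766) (tt N33480 (iv6 D116870)) (tt N99629 D202767))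
theorem Q62589 : ∀ i, i < 62589 → P i := stepQ 62588 Q62588 (allL N62588 (tt N33481 (iv1 D116872)) (tt N41537 F182600) (tt N40210 F340808) (tt N41285 F340809) (tt N93889 (iv4 F402290)) (tt N44516 F340810) (tt N43400 F340811) (tt N41535 F340812))
theorem Q62590 : ∀ i, i < 62590 → P i := stepQ 62589 Q62589 (allL N62589 (tt N78314 F323830) (tt N37617 F323831) (tt N41536 F182601) (tt N99624 (iv3 F425461)) (tt N76902 F323832) (tt N33481 (iv5 D116873)) (tt N46651 F323833) (tt N78323 F323834))
theorem Q62591 : ∀ i, i < 62591 → P i := stepQ 62590 Q62590 (allL N62590 (tt N40210 F324902) (tt N41535 F182606) (tt N41537 F182602) (tt N99625 (iv3 F425466)) (tt N99629 (iv4 F425490)) (tt N78323 F324903) (tt N41549 F182603) (tt N33481 (iv7 D116874)))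
theorem Q62592 : ∀ i, i < 62592 → P i := stepQ 62591 Q62591 (allL N62591 (tt N71374 (iv1 F219991)) (tt N94351 F404097) (tt N92377 (iv2 F396863)) (tt N33901 F322397) (tt N99630 D202768) (tt N33482 (iv5 D116901)) (tt N99631 D202769) (tt N41293 F182639))
theorem Q62593 : ∀ i, i < 62593 → P i := stepQ 62592 Q62592 (allL N62592 (tt N57411 F182647) (tt N41217 (iv0 F182648)) (tt N33486 F182645) (tt N41291 F182646) (tt N71343 (iv4 F219882)) (tt N66502 (iv5 F204306)) (tt N33484 (iv6 D116903)) (tt N66502 (iv7 F204310)))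
theorem Q62594 : ∀ i, i < 62594 → P i := stepQ 62593 Q62593 (allL N62593 (tt N41382 F182656) (tt N41422 (iv0 F182658)) (tt N41370 F182652) (tt N33489 F182653) (tt N41303 F182654) (tt N42745 F182657) (tt N33488 (iv6 D116906)) (tt N41421 F182655))
theorem Q62595 : ∀ i, i < 62595 → P i := stepQ 62594 Q62594 (allL N62594 (tt N72776 (iv1 F341092)) (tt N62308 (iv0 F341088)) (tt N72774 (iv2 F359198)) (tt N33492 F182659) (tt N63016 (iv4 F184398)) (tt N33913 F182660) (tt N33490 (iv6 D116907)) (tt N39949 F317968))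
theorem Q62596 : ∀ i, i < 62596 → P i := stepQ 62595 Q62595 (allL N62595 (tt N61273 (iv1 F322756)) (tt N61285 (iv0 F322751)) (tt N47473 F352155) (tt N33491 (iv3 D116908)) (tt N63015 (iv4 F184395)) (tt N41601 F182661) (tt N47000 F352156) (tt N41598 F182662))
theorem Q62597 : ∀ i, i < 62597 → P i := stepQ 62596 Q62596 (allL N62596 (tt N47171 (iv1 F324829)) (tt N47159 (iv0 F324824)) (tt N41602 F182663) (tt N47000 F323549) (tt N33492 F182664) (tt N46420 F323550) (tt N33491 (iv6 D116909)) (tt N39953 F317972))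
theorem Q62598 : ∀ i, i < 62598 → P i := stepQ 62597 Q62597 (allL N62597 (tt N42138 (iv1 F182676)) (tt N42142 F231466) (tt N49042 F310451) (tt N33495 F182674) (tt N75271 (iv4 F230983)) (tt N33818 F182675) (tt N33493 (iv6 D116913)) (tt N49043 F310452))
theorem Q62599 : ∀ i, i < 62599 → P i := stepQ 62598 Q62598 (allL N62598 (tt N96970 (iv1 F414855)) (tt N46740 F345550) (tt N99632 D202770) (tt N33494 (iv3 D116914)) (tt N45439 F347977) (tt N41598 F182677) (tt N99633 D202771) (tt N41601 F182678))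
theorem Q62600 : ∀ i, i < 62600 → P i := stepQ 62599 Q62599 (allL N62599 (tt N37087 F320184) (tt N37084 F320185) (tt N41599 F182679) (tt N99633 (iv3 F425511)) (tt N33495 F182680) (tt N36924 F320186) (tt N33494 (iv6 D116915)) (tt N68952 (iv7 F321656)))
theorem Q62601 : ∀ i, i < 62601 → P i := stepQ 62600 Q62600 (allL N62600 (tt N75758 F248415) (tt N42070 F347961) (tt N88173 F382016) (tt N33496 (iv3 D116916)) (tt N52267 (iv4 F320035)) (tt N41605 F182682) (tt N64229 F364627) (tt N41603 F182683))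
theorem Q62602 : ∀ i, i < 62602 → P i := stepQ 62601 Q62601 (allL N62601 (tt N99634 D202772) (tt N78333 (iv0 F357690)) (tt N99635 D202773) (tt N33497 (iv3 D116918)) (tt N41859 F182686) (tt N41603 F182687) (tt N99636 D202774) (tt N41605 F182688))
theorem Q62603 : ∀ i, i < 62603 → P i := stepQ 62602 Q62602 (allL N62602 (tt N36369 F182691) (tt N37951 F319976) (tt N41604 F182689) (tt N99636 (iv3 F425526)) (tt N33581 F182690) (tt N37341 F319977) (tt N33497 (iv6 D116919)) (tt N64231 (iv7 F321249)))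
theorem Q62604 : ∀ i, i < 62604 → P i := stepQ 62603 Q62603 (allL N62603 (tt N52220 (iv1 F309966)) (tt N78826 (iv0 F251048)) (tt N75551 (iv2 F231812)) (tt N33499 (iv3 D116924)) (tt N75531 (iv4 F231748)) (tt N65391 (iv5 F201279)) (tt N41673 F182695) (tt N75554 F231807))
theorem Q62605 : ∀ i, i < 62605 → P i := stepQ 62604 Q62604 (allL N62604 (tt N42103 F243344) (tt N75752 (iv0 F353596)) (tt N75342 F243356) (tt N33500 (iv3 D116926)) (tt N75276 (iv4 F243297)) (tt N47737 F313262) (tt N35303 F313263) (tt N75339 F243349))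
theorem Q62606 : ∀ i, i < 62606 → P i := stepQ 62605 Q62605 (allL N62605 (tt N57706 F182698) (tt N57708 F200040) (tt N78377 (iv2 F248530)) (tt N35303 F308859) (tt N82451 F308860) (tt N33822 F308861) (tt N33500 (iv6 D116928)) (tt N33821 F308862))
theorem Q62607 : ∀ i, i < 62607 → P i := stepQ 62606 Q62606 (allL N62606 (tt N40474 F328587) (tt N39915 F312809) (tt N78086 F341077) (tt N33505 F182783) (tt N99637 D202775) (tt N33504 (iv5 D116948)) (tt N62569 (iv6 F318153)) (tt N41432 F182784))
theorem Q62608 : ∀ i, i < 62608 → P i := stepQ 62607 Q62607 (allL N62607 (tt N52583 (iv1 F340994)) (tt N68570 (iv0 F341057)) (tt N80462 F341010) (tt N33506 F182785) (tt N52562 (iv4 F341011)) (tt N78310 (iv5 F247958)) (tt N33504 (iv6 D116949)) (tt N80474 F341018))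
theorem Q62609 : ∀ i, i < 62609 → P i := stepQ 62608 Q62608 (allL N62608 (tt N36379 (iv1 F182793)) (tt N38358 F182794) (tt N41435 F182791) (tt N80474 (iv3 F341019)) (tt N46198 (iv4 F314928)) (tt N68420 (iv5 F210356)) (tt N36376 F182792) (tt N33506 (iv7 D116952)))
theorem Q62610 : ∀ i, i < 62610 → P i := stepQ 62609 Q62609 (allL N62609 (tt N36690 (iv1 F182818)) (tt N33509 (iv0 D116962)) (tt N36689 (iv2 F182817)) (tt N96840 (iv3 F414207)) (tt N99171 (iv4 F423563)) (tt N74092 F365089) (tt N75921 F408122) (tt N36688 F182819))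
theorem Q62611 : ∀ i, i < 62611 → P i := stepQ 62610 Q62610 (allL N62610 (tt N36689 (iv1 F182825)) (tt N36688 F182824) (tt N33509 (iv2 D116963)) (tt N41081 F182821) (tt N61960 F182822) (tt N60195 F365024) (tt N97247 (iv6 F416059)) (tt N36690 F182823))
theorem Q62612 : ∀ i, i < 62612 → P i := stepQ 62611 Q62611 (allL N62611 (tt N74125 F365090) (tt N99638 D202776) (tt N60195 (iv2 F365023)) (tt N33510 F182826) (tt N99639 D202777) (tt N33509 (iv5 D116964)) (tt N60194 F365022) (tt N36691 F182827))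
theorem Q62613 : ∀ i, i < 62613 → P i := stepQ 62612 Q62612 (allL N62612 (tt N99640 D202778) (tt N99641 D202779) (tt N97247 (iv2 F416057)) (tt N33511 F182828) (tt N61961 F182829) (tt N97225 (iv5 F415977)) (tt N33509 (iv6 D116965)) (tt N60243 F182830))
theorem Q62614 : ∀ i, i < 62614 → P i := stepQ 62613 Q62613 (allL N62613 (tt N74027 (iv1 F365021)) (tt N74026 F365014) (tt N41085 F182833) (tt N97225 (iv3 F415975)) (tt N73471 (iv4 F345302)) (tt N33511 (iv5 D116967)) (tt N60142 (iv6 F362324)) (tt N60247 F182834))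
theorem Q62615 : ∀ i, i < 62615 → P i := stepQ 62614 Q62614 (allL N62614 (tt N41105 (iv1 F182835)) (tt N33512 (iv0 D116968)) (tt N41104 F340457) (tt N72466 F222583) (tt N90016 (iv4 F388303)) (tt N60197 F331471) (tt N87619 (iv6 F379903)) (tt N41103 F340458))
theorem Q62616 : ∀ i, i < 62616 → P i := stepQ 62615 Q62615 (allL N62615 (tt N33512 (iv1 D116969)) (tt N41105 F182840) (tt N41103 F331457) (tt N87630 (iv3 F379941)) (tt N93944 (iv4 F402520)) (tt N60196 (iv5 F331456)) (tt N93606 F401242) (tt N41104 F331458))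
theorem Q62617 : ∀ i, i < 62617 → P i := stepQ 62616 Q62616 (allL N62616 (tt N41104 (iv1 F182841)) (tt N41103 F182839) (tt N33512 (iv2 D116970)) (tt N41123 F182836) (tt N62190 F182837) (tt N98154 (iv5 F419742)) (tt N99642 D202780) (tt N41105 F182838))
theorem Q62618 : ∀ i, i < 62618 → P i := stepQ 62617 Q62617 (allL N62617 (tt N74021 (iv1 F331463)) (tt N74024 F331518) (tt N98154 (iv2 F419741)) (tt N33513 F182842) (tt N92200 (iv4 F396215)) (tt N33512 (iv5 D116971)) (tt N69597 F331461) (tt N41106 F182843))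
theorem Q62619 : ∀ i, i < 62619 → P i := stepQ 62618 Q62618 (allL N62618 (tt N99643 D202781) (tt N99644 D202782) (tt N99642 (iv2 F425557)) (tt N33514 F182844) (tt N62191 F182845) (tt N99645 D202783) (tt N33512 (iv6 D116972)) (tt N69460 (iv7 F214437)))
theorem Q62620 : ∀ i, i < 62620 → P i := stepQ 62619 Q62619 (allL N62619 (tt N97150 F415683) (tt N84679 (iv0 F370187)) (tt N41126 F182846) (tt N69597 (iv3 F331462)) (tt N62648 (iv4 F182924)) (tt N99646 D202784) (tt N33513 (iv6 D116973)) (tt N99647 D202785))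
theorem Q62621 : ∀ i, i < 62621 → P i := stepQ 62620 Q62620 (allL N62620 (tt N99648 D202786) (tt N99649 D202787) (tt N41128 F182847) (tt N99645 (iv3 F425561)) (tt N99650 D202788) (tt N33514 (iv5 D116974)) (tt N99646 (iv6 F425563)) (tt N69461 (iv7 F214438)))
theorem Q62622 : ∀ i, i < 62622 → P i := stepQ 62621 Q62621 (allL N62621 (tt N94797 (iv1 F405985)) (tt N33515 (iv0 D116975)) (tt N41214 F182850) (tt N58983 (iv3 F182849)) (tt N40164 F182848) (tt N99651 D202789) (tt N95746 (iv6 F409428)) (tt N72920 (iv7 F223586)))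
theorem Q62623 : ∀ i, i < 62623 → P i := stepQ 62622 Q62622 (allL N62622 (tt N33515 (iv1 D116976)) (tt N94797 F405984) (tt N72920 (iv2 F223585)) (tt N36039 (iv3 F182856)) (tt N40165 (iv4 F182857)) (tt N66044 (iv5 F203192)) (tt N62124 (iv6 F330589)) (tt N41214 F182855))
theorem Q62624 : ∀ i, i < 62624 → P i := stepQ 62623 Q62623 (allL N62623 (tt N72920 F223589) (tt N41214 (iv0 F203925)) (tt N94797 (iv2 F405979)) (tt N33520 F182858) (tt N61855 F182859) (tt N35638 F182860) (tt N41120 F182861) (tt N33515 (iv7 D116977)))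
theorem Q62625 : ∀ i, i < 62625 → P i := stepQ 62624 Q62624 (allL N62624 (tt N41123 (iv1 F182862)) (tt N33516 (iv0 D116978)) (tt N41122 (iv2 F182998)) (tt N95581 (iv3 F408746)) (tt N99652 D202790) (tt N74125 F226839) (tt N95578 F408736) (tt N41121 F182999))
theorem Q62626 : ∀ i, i < 62626 → P i := stepQ 62625 Q62625 (allL N62625 (tt N33516 (iv1 D116979)) (tt N41123 F182868) (tt N41121 F182997) (tt N41269 (iv3 F182863)) (tt N98872 (iv4 F422647)) (tt N99638 (iv5 F425537)) (tt N99653 D202791) (tt N41122 (iv7 F182996)))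
theorem Q62627 : ∀ i, i < 62627 → P i := stepQ 62626 Q62626 (allL N62626 (tt N41122 (iv1 F182869)) (tt N41121 F182867) (tt N33516 (iv2 D116980)) (tt N41105 F182864) (tt N61850 F182865) (tt N99654 D202792) (tt N99655 D202793) (tt N41123 F182866))
theorem Q62628 : ∀ i, i < 62628 → P i := stepQ 62627 Q62627 (allL N62627 (tt N67153 (iv1 F365085)) (tt N67154 F355426) (tt N99654 (iv2 F425606)) (tt N33517 F182870) (tt N99656 D202794) (tt N33516 (iv5 D116981)) (tt N99657 D202795) (tt N41124 F182871))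
theorem Q62629 : ∀ i, i < 62629 → P i := stepQ 62628 Q62628 (allL N62628 (tt N99658 D202796) (tt N99659 D202797) (tt N99655 (iv2 F425611)) (tt N33518 F182872) (tt N61852 F182873) (tt N99660 D202798) (tt N33516 (iv6 D116982)) (tt N99661 D202799))
theorem Q62630 : ∀ i, i < 62630 → P i := stepQ 62629 Q62629 (allL N62629 (tt N99662 D202800) (tt N99663 D202801) (tt N41108 F182874) (tt N99657 (iv3 F425619)) (tt N62641 (iv4 F182910)) (tt N99664 D202802) (tt N33517 (iv6 D116983)) (tt N99665 D202803))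
theorem Q62631 : ∀ i, i < 62631 → P i := stepQ 62630 Q62630 (allL N62630 (tt N41112 (iv1 F182878)) (tt N33518 (iv0 D116984)) (tt N41109 (iv2 F182876)) (tt N99666 D202804) (tt N60413 F182875) (tt N99667 D202805) (tt N97360 (iv6 F416491)) (tt N41110 (iv7 F182877)))
theorem Q62632 : ∀ i, i < 62632 → P i := stepQ 62631 Q62631 (allL N62631 (tt N33518 (iv1 D116985)) (tt N41112 F182879) (tt N41110 (iv2 F182882)) (tt N95561 (iv3 F408655)) (tt N58527 F182881) (tt N99668 D202806) (tt N68677 F211356) (tt N41109 F182880))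
theorem Q62633 : ∀ i, i < 62633 → P i := stepQ 62632 Q62632 (allL N62632 (tt N97224 (iv1 F415973)) (tt N60140 F182884) (tt N41111 F182883) (tt N99660 (iv3 F425631)) (tt N99669 D202807) (tt N33518 (iv5 D116986)) (tt N99664 (iv6 F425648)) (tt N97222 (iv7 F415962)))
theorem Q62634 : ∀ i, i < 62634 → P i := stepQ 62633 Q62633 (allL N62633 (tt N41110 (iv1 F182888)) (tt N41109 F182889) (tt N41112 F182885) (tt N99661 (iv3 F425632)) (tt N33520 F182886) (tt N97222 (iv5 F415963)) (tt N41129 F182887) (tt N33518 (iv7 D116987)))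
theorem Q62635 : ∀ i, i < 62635 → P i := stepQ 62634 Q62634 (allL N62634 (tt N33526 F182892) (tt N41139 (iv0 F182893)) (tt N41116 F182890) (tt N99670 D202808) (tt N33519 (iv4 D116988)) (tt N99671 D202809) (tt N68073 F209115) (tt N41113 F182891))
theorem Q62636 : ∀ i, i < 62636 → P i := stepQ 62635 Q62635 (allL N62635 (tt N35745 F182898) (tt N57664 (iv0 F182899)) (tt N35692 F182894) (tt N41473 F182895) (tt N80413 F326906) (tt N33519 (iv5 D116989)) (tt N35584 F182896) (tt N41114 F182897))
theorem Q62637 : ∀ i, i < 62637 → P i := stepQ 62636 Q62636 (allL N62636 (tt N41133 (iv1 F182900)) (tt N33521 (iv0 D116990)) (tt N41132 F340488) (tt N72969 F223671) (tt N99672 D202810) (tt N88262 F382401) (tt N88263 (iv6 F382404)) (tt N41131 F340489))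
theorem Q62638 : ∀ i, i < 62638 → P i := stepQ 62637 Q62637 (allL N62637 (tt N33521 (iv1 D116991)) (tt N41133 F182904) (tt N41131 F340508) (tt N88292 (iv3 F382474)) (tt N99673 D202811) (tt N88273 (iv5 F382423)) (tt N91394 (iv6 F392967)) (tt N41132 F340509))
theorem Q62639 : ∀ i, i < 62639 → P i := stepQ 62638 Q62638 (allL N62638 (tt N41132 (iv1 F182905)) (tt N41131 F182903) (tt N33521 (iv2 D116992)) (tt N41142 F182901) (tt N92352 (iv4 F396800)) (tt N99674 D202812) (tt N99675 D202813) (tt N41133 F182902))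
theorem Q62640 : ∀ i, i < 62640 → P i := stepQ 62639 Q62639 (allL N62639 (tt N98156 F419760) (tt N92508 (iv0 F404257)) (tt N99674 (iv2 F425694)) (tt N33522 F182906) (tt N67157 (iv4 F365098)) (tt N33521 (iv5 D116993)) (tt N88312 (iv6 F382549)) (tt N41135 F182907))
theorem Q62641 : ∀ i, i < 62641 → P i := stepQ 62640 Q62640 (allL N62640 (tt N99676 D202814) (tt N91329 (iv0 F392774)) (tt N99675 (iv2 F425700)) (tt N33523 F182908) (tt N92354 (iv4 F396811)) (tt N99677 D202815) (tt N33521 (iv6 D116994)) (tt N78268 (iv7 F247456)))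
theorem Q62642 : ∀ i, i < 62642 → P i := stepQ 62641 Q62641 (allL N62641 (tt N99678 D202816) (tt N99679 D202817) (tt N41145 F182909) (tt N88312 F382551) (tt N62629 F182910) (tt N99680 D202818) (tt N33522 (iv6 D116995)) (tt N99681 D202819))
theorem Q62643 : ∀ i, i < 62643 → P i := stepQ 62642 Q62642 (allL N62642 (tt N99682 D202820) (tt N99683 D202821) (tt N41146 F182911) (tt N99677 (iv3 F425703)) (tt N88072 (iv4 F381680)) (tt N33523 (iv5 D116996)) (tt N99680 (iv6 F425715)) (tt N78269 (iv7 F247458)))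
theorem Q62644 : ∀ i, i < 62644 → P i := stepQ 62643 Q62643 (allL N62643 (tt N41142 (iv1 F182912)) (tt N33524 (iv0 D116997)) (tt N41141 F357477) (tt N99684 D202822) (tt N99408 (iv4 F424434)) (tt N44856 F357478) (tt N44846 F357479) (tt N41140 F357480))
theorem Q62645 : ∀ i, i < 62645 → P i := stepQ 62644 Q62644 (allL N62644 (tt N33524 (iv1 D116998)) (tt N41142 F182917) (tt N41140 F357474) (tt N90787 (iv3 F390866)) (tt N99389 (iv4 F424383)) (tt N54900 F357475) (tt N90785 F390858) (tt N41141 F357476))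
theorem Q62646 : ∀ i, i < 62646 → P i := stepQ 62645 Q62645 (allL N62645 (tt N41141 (iv1 F182918)) (tt N41140 F182916) (tt N33524 (iv2 D116999)) (tt N41133 F182913) (tt N40071 F182914) (tt N99685 D202823) (tt N99686 D202824) (tt N41142 F182915))
theorem Q62647 : ∀ i, i < 62647 → P i := stepQ 62646 Q62646 (allL N62646 (tt N97287 (iv1 F416226)) (tt N91093 F393168) (tt N99685 (iv2 F425737)) (tt N33525 F182919) (tt N99687 D202825) (tt N33524 (iv5 D117000)) (tt N85749 (iv6 F373781)) (tt N41143 F182920))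
theorem Q62648 : ∀ i, i < 62648 → P i := stepQ 62647 Q62647 (allL N62647 (tt N90599 F393171) (tt N99688 D202826) (tt N99686 (iv2 F425743)) (tt N33526 F182921) (tt N40073 F182922) (tt N99689 D202827) (tt N33524 (iv6 D117001)) (tt N99690 D202828))
theorem Q62649 : ∀ i, i < 62649 → P i := stepQ 62648 Q62648 (allL N62648 (tt N99691 D202829) (tt N99692 D202830) (tt N41137 F182923) (tt N85749 F373782) (tt N62619 F182924) (tt N99693 D202831) (tt N33525 (iv6 D117002)) (tt N99694 D202832))
theorem Q62650 : ∀ i, i < 62650 → P i := stepQ 62649 Q62649 (allL N62649 (tt N94444 (iv1 F404503)) (tt N60132 F182926) (tt N41138 F182925) (tt N99689 (iv3 F425754)) (tt N99695 D202833) (tt N33526 (iv5 D117003)) (tt N99693 (iv6 F425770)) (tt N94443 (iv7 F404494)))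
theorem Q62651 : ∀ i, i < 62651 → P i := stepQ 62650 Q62650 (allL N62650 (tt N41116 (iv1 F182930)) (tt N41113 F182931) (tt N41139 F182927) (tt N99690 (iv3 F425755)) (tt N38191 F182928) (tt N94443 (iv5 F404495)) (tt N38189 F182929) (tt N33526 (iv7 D117004)))
theorem Q62652 : ∀ i, i < 62652 → P i := stepQ 62651 Q62651 (allL N62651 (tt N90787 (iv1 F396255)) (tt N99696 D202834) (tt N39543 F182936) (tt N33527 (iv3 D117005)) (tt N39122 F182933) (tt N73669 (iv5 F225389)) (tt N89248 (iv6 F385778)) (tt N39546 F182932))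
theorem Q62653 : ∀ i, i < 62653 → P i := stepQ 62652 Q62652 (allL N62652 (tt N78260 (iv1 F341115)) (tt N78265 F341117) (tt N41152 F182939) (tt N89248 (iv3 F385777)) (tt N73101 (iv4 F223812)) (tt N99697 D202835) (tt N33527 (iv6 D117006)) (tt N78263 (iv7 F340803)))
theorem Q62654 : ∀ i, i < 62654 → P i := stepQ 62653 Q62653 (allL N62653 (tt N72967 F223667) (tt N72969 F340490) (tt N91402 F392996) (tt N33528 (iv3 D117007)) (tt N62226 F182940) (tt N73672 (iv5 F225392)) (tt N99698 D202836) (tt N41150 F182941))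
theorem Q62655 : ∀ i, i < 62655 → P i := stepQ 62654 Q62654 (allL N62654 (tt N95518 F408450) (tt N99699 D202837) (tt N41149 F182942) (tt N99698 (iv3 F425788)) (tt N62223 F182943) (tt N99700 D202838) (tt N33528 (iv6 D117008)) (tt N99701 D202839))
theorem Q62656 : ∀ i, i < 62656 → P i := stepQ 62655 Q62655 (allL N62655 (tt N40794 (iv1 F182947)) (tt N40791 F182946) (tt N33530 F182944) (tt N52056 (iv3 F306974)) (tt N74802 (iv4 F229204)) (tt N33529 (iv5 D117009)) (tt N96890 (iv6 F414463)) (tt N41153 F182945))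
theorem Q62657 : ∀ i, i < 62657 → P i := stepQ 62656 Q62656 (allL N62656 (tt N76381 (iv1 F355227)) (tt N99568 (iv0 F425211)) (tt N74802 (iv2 F229203)) (tt N74045 (iv3 F226687)) (tt N33530 (iv4 D117011)) (tt N98760 (iv5 F422189)) (tt N86656 (iv6 F376687)) (tt N41154 F182950))
theorem Q62658 : ∀ i, i < 62658 → P i := stepQ 62657 Q62657 (allL N62657 (tt N55249 F352793) (tt N33531 (iv0 D117013)) (tt N73167 (iv2 F348050)) (tt N99702 D202840) (tt N73166 F348049) (tt N58410 F346904) (tt N99703 D202841) (tt N78256 F352804))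
theorem Q62659 : ∀ i, i < 62659 → P i := stepQ 62658 Q62658 (allL N62658 (tt N33531 (iv1 D117014)) (tt N55249 F352794) (tt N78256 (iv2 F352802)) (tt N74629 (iv3 F348052)) (tt N72222 (iv4 F330034)) (tt N58409 F346903) (tt N57637 F352801) (tt N73167 F348051))
theorem Q62660 : ∀ i, i < 62660 → P i := stepQ 62659 Q62659 (allL N62659 (tt N44856 F355658) (tt N54900 F355659) (tt N54899 F355627) (tt N33532 (iv3 D117017)) (tt N60271 F355660) (tt N36192 F182956) (tt N99704 D202842) (tt N41161 F182957))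
theorem Q62661 : ∀ i, i < 62661 → P i := stepQ 62660 Q62660 (allL N62660 (tt N98283 (iv1 F420317)) (tt N99705 D202843) (tt N41160 F182958) (tt N99704 (iv3 F425818)) (tt N36683 F182959) (tt N99706 D202844) (tt N33532 (iv6 D117018)) (tt N97164 (iv7 F415721)))
theorem Q62662 : ∀ i, i < 62662 → P i := stepQ 62661 Q62661 (allL N62661 (tt N52060 (iv1 F306988)) (tt N33533 (iv0 D117019)) (tt N47665 F350528) (tt N83813 F350529) (tt N84673 (iv4 F370155)) (tt N54850 F350530) (tt N99707 D202845) (tt N74182 F350531))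
theorem Q62663 : ∀ i, i < 62663 → P i := stepQ 62662 Q62662 (allL N62662 (tt N91389 F392955) (tt N91394 F392969) (tt N71049 F361843) (tt N33534 (iv3 D117023)) (tt N92303 (iv4 F396640)) (tt N99708 D202846) (tt N39217 F361844) (tt N68081 F209132))
theorem Q62664 : ∀ i, i < 62664 → P i := stepQ 62663 Q62663 (allL N62663 (tt N96818 (iv1 F414107)) (tt N96819 F414111) (tt N93912 (iv2 F402404)) (tt N99708 (iv3 F425842)) (tt N97613 (iv4 F417605)) (tt N33534 (iv5 D117024)) (tt N99709 D202847) (tt N68083 (iv7 F209135)))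
theorem Q62665 : ∀ i, i < 62665 → P i := stepQ 62664 Q62664 (allL N62664 (tt N68073 (iv1 F209112)) (tt N68072 F209111) (tt N68074 (iv2 F209117)) (tt N39217 F344600) (tt N38178 F182962) (tt N39216 F344601) (tt N33534 (iv6 D117025)) (tt N38175 F182963))
theorem Q62666 : ∀ i, i < 62666 → P i := stepQ 62665 Q62665 (allL N62665 (tt N91856 (iv1 F394724)) (tt N33535 (iv0 D117026)) (tt N79256 (iv2 F346886)) (tt N99710 D202848) (tt N99711 D202849) (tt N97130 (iv5 F415595)) (tt N79260 F346887) (tt N77802 F346889))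
theorem Q62667 : ∀ i, i < 62667 → P i := stepQ 62666 Q62666 (allL N62666 (tt N33535 (iv1 D117027)) (tt N91856 (iv0 F394722)) (tt N77802 (iv2 F346888)) (tt N44844 F346883) (tt N65757 (iv4 F346882)) (tt N93725 (iv5 F401684)) (tt N58486 F346884) (tt N79256 F346885))
theorem Q62668 : ∀ i, i < 62668 → P i := stepQ 62667 Q62667 (allL N62667 (tt N97609 F417587) (tt N99712 D202850) (tt N93913 (iv2 F402410)) (tt N35666 F346879) (tt N33535 (iv4 D117028)) (tt N80444 F343938) (tt N60577 F346880) (tt N96893 (iv7 F414477)))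
theorem Q62669 : ∀ i, i < 62669 → P i := stepQ 62668 Q62668 (allL N62668 (tt N99713 D202851) (tt N91964 F395611) (tt N71600 (iv2 F220259)) (tt N93607 (iv3 F401244)) (tt N97607 (iv4 F417575)) (tt N33537 (iv5 D117031)) (tt N91819 (iv6 F394544)) (tt N65935 (iv7 F202914)))
theorem Q62670 : ∀ i, i < 62670 → P i := stepQ 62669 Q62669 (allL N62669 (tt N68677 (iv1 F211353)) (tt N68676 F211361) (tt N68680 (iv2 F211365)) (tt N57015 (iv3 F331829)) (tt N33538 F182965) (tt N92090 (iv5 F395697)) (tt N33537 (iv6 D117032)) (tt N37261 F182966))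
theorem Q62671 : ∀ i, i < 62671 → P i := stepQ 62670 Q62670 (allL N62670 (tt N95578 F408734) (tt N96884 (iv0 F414439)) (tt N99714 D202852) (tt N33540 (iv3 D117033)) (tt N61939 F182967) (tt N96832 (iv5 F414173)) (tt N37262 F182968) (tt N71599 (iv7 F220258)))
theorem Q62672 : ∀ i, i < 62672 → P i := stepQ 62671 Q62671 (allL N62671 (tt N91964 (iv1 F395610)) (tt N99713 F425870) (tt N65935 (iv2 F202913)) (tt N96832 F414175) (tt N80445 (iv4 F332911)) (tt N33540 (iv5 D117034)) (tt N99715 D202853) (tt N71600 (iv7 F220260)))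
theorem Q62673 : ∀ i, i < 62673 → P i := stepQ 62672 Q62672 (allL N62672 (tt N33541 (iv1 D117041)) (tt N40115 F182981) (tt N40200 (iv2 F205132)) (tt N41538 (iv3 F182975)) (tt N62295 F182976) (tt N33777 F321946) (tt N48080 F321941) (tt N41265 F205125))
theorem Q62674 : ∀ i, i < 62674 → P i := stepQ 62673 Q62673 (allL N62673 (tt N48079 F350007) (tt N90409 F389548) (tt N99406 (iv2 F424425)) (tt N33543 F182983) (tt N40120 F182984) (tt N99716 D202854) (tt N33541 (iv6 D117043)) (tt N78277 F363471))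
theorem Q62675 : ∀ i, i < 62675 → P i := stepQ 62674 Q62674 (allL N62674 (tt N33545 (iv1 F183000)) (tt N33542 (iv0 D117045)) (tt N41269 (iv2 F182989)) (tt N99717 D202855) (tt N40217 F182988) (tt N99564 (iv5 F425183)) (tt N34154 F323292) (tt N41268 (iv7 F182990)))
theorem Q62676 : ∀ i, i < 62676 → P i := stepQ 62675 Q62675 (allL N62675 (tt N33542 (iv1 D117046)) (tt N33545 F182991) (tt N41268 F182994) (tt N41122 F182995) (tt N40431 (iv4 F182993)) (tt N96772 F413858) (tt N96856 (iv6 F414283)) (tt N41269 F182992))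
theorem Q62677 : ∀ i, i < 62677 → P i := stepQ 62676 Q62676 (allL N62676 (tt N72466 F222582) (tt N72464 (iv0 F222580)) (tt N99718 D202856) (tt N33542 (iv3 D117047)) (tt N40118 F183001) (tt N99719 D202857) (tt N99720 D202858) (tt N41270 (iv7 F183043)))
theorem Q62678 : ∀ i, i < 62678 → P i := stepQ 62677 Q62677 (allL N62677 (tt N60182 (iv1 F330353)) (tt N73624 (iv0 F225280)) (tt N41281 (iv2 F183066)) (tt N99719 (iv3 F425898)) (tt N73675 (iv4 F225393)) (tt N33542 (iv5 D117048)) (tt N86907 F377666) (tt N41271 F183054))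
theorem Q62679 : ∀ i, i < 62679 → P i := stepQ 62678 Q62678 (allL N62678 (tt N99721 D202859) (tt N99722 D202860) (tt N41282 (iv2 F183058)) (tt N99720 (iv3 F425901)) (tt N33543 F183002) (tt N99723 D202861) (tt N33542 (iv6 D117049)) (tt N78278 (iv7 F341155)))
theorem Q62680 : ∀ i, i < 62680 → P i := stepQ 62679 Q62679 (allL N62679 (tt N99610 F425408) (tt N73986 F340944) (tt N41286 (iv2 F183059)) (tt N99716 (iv3 F425883)) (tt N88500 (iv4 F383295)) (tt N33543 (iv5 D117053)) (tt N73695 (iv6 F225412)) (tt N78279 (iv7 F361623)))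
theorem Q62681 : ∀ i, i < 62681 → P i := stepQ 62680 Q62680 (allL N62680 (tt N71576 (iv1 F220241)) (tt N39389 (iv0 F183079)) (tt N71575 F220243) (tt N33545 (iv3 D117060)) (tt N69059 F366244) (tt N99724 D202862) (tt N99725 D202863) (tt N41280 F183078))
theorem Q62682 : ∀ i, i < 62682 → P i := stepQ 62681 Q62681 (allL N62681 (tt N73624 (iv1 F225281)) (tt N60182 (iv0 F330352)) (tt N41271 F183080) (tt N99724 (iv3 F425916)) (tt N73676 (iv4 F225394)) (tt N33545 (iv5 D117061)) (tt N98762 (iv6 F422203)) (tt N41281 F183081))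
theorem Q62683 : ∀ i, i < 62683 → P i := stepQ 62682 Q62682 (allL N62682 (tt N99726 D202864) (tt N95568 (iv0 F408696)) (tt N41272 F183082) (tt N99725 (iv3 F425919)) (tt N33546 F183083) (tt N99727 D202865) (tt N33545 (iv6 D117062)) (tt N99728 D202866))
theorem Q62684 : ∀ i, i < 62684 → P i := stepQ 62683 Q62683 (allL N62683 (tt N33546 (iv1 D117064)) (tt N41277 F183084) (tt N40190 F320535) (tt N41547 F324914) (tt N99699 (iv4 F425793)) (tt N62770 F318380) (tt N48046 F318381) (tt N41275 F323202))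
theorem Q62685 : ∀ i, i < 62685 → P i := stepQ 62684 Q62684 (allL N62684 (tt N40190 F322272) (tt N41275 F183090) (tt N41277 F183086) (tt N33806 F322273) (tt N99728 (iv4 F425929)) (tt N33805 F322274) (tt N41287 F183087) (tt N33546 (iv7 D117066)))
theorem Q62686 : ∀ i, i < 62686 → P i := stepQ 62685 Q62685 (allL N62685 (tt N33551 (iv1 F183097)) (tt N33547 (iv0 D117067)) (tt N33548 F318440) (tt N33552 F318444) (tt N96823 (iv4 F414132)) (tt N76256 F318342) (tt N48048 (iv6 F320506)) (tt N33549 F318441))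
theorem Q62687 : ∀ i, i < 62687 → P i := stepQ 62686 Q62686 (allL N62686 (tt N33549 (iv1 F183098)) (tt N33548 F183099) (tt N33551 F183094) (tt N41553 F183095) (tt N55249 F352792) (tt N40501 F318329) (tt N34052 (iv6 F320507)) (tt N33547 (iv7 D117070)))
theorem Q62688 : ∀ i, i < 62688 → P i := stepQ 62687 Q62687 (allL N62687 (tt N44056 F352795) (tt N48080 F352796) (tt N41563 F352797) (tt N33548 (iv3 D117072)) (tt N76200 F352798) (tt N99729 D202867) (tt N74414 F352799) (tt N48072 F352800))
theorem Q62689 : ∀ i, i < 62689 → P i := stepQ 62688 Q62688 (allL N62688 (tt N95575 (iv1 F408716)) (tt N96856 (iv0 F414285)) (tt N96823 (iv2 F414128)) (tt N79500 F348126) (tt N33548 (iv4 D117073)) (tt N40506 F348127) (tt N95547 F408596) (tt N78276 F348128))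
theorem Q62690 : ∀ i, i < 62690 → P i := stepQ 62689 Q62689 (allL N62689 (tt N99047 (iv1 F423140)) (tt N78221 (iv0 F348129)) (tt N76256 (iv2 F348131)) (tt N99729 (iv3 F425944)) (tt N99730 D202868) (tt N33548 (iv5 D117074)) (tt N62985 F348132) (tt N76775 F348133))
theorem Q62691 : ∀ i, i < 62691 → P i := stepQ 62690 Q62690 (allL N62690 (tt N48046 F320289) (tt N48045 F320290) (tt N48048 F320291) (tt N74414 (iv3 F359481)) (tt N95547 (iv4 F408595)) (tt N73660 F225374) (tt N33548 (iv6 D117075)) (tt N48035 F320292))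
theorem Q62692 : ∀ i, i < 62692 → P i := stepQ 62691 Q62691 (allL N62691 (tt N96856 (iv1 F414286)) (tt N95575 (iv0 F408717)) (tt N78276 (iv2 F359483)) (tt N69444 F366412) (tt N33549 (iv4 D117078)) (tt N58413 F359482) (tt N35437 F318438) (tt N96823 (iv7 F414130)))
theorem Q62693 : ∀ i, i < 62693 → P i := stepQ 62692 Q62692 (allL N62692 (tt N61940 (iv1 F351425)) (tt N61937 (iv0 F351423)) (tt N96898 (iv2 F414501)) (tt N99731 D202869) (tt N33550 (iv4 D117083)) (tt N78053 F346902) (tt N40174 F318443) (tt N43368 F318322))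
theorem Q62694 : ∀ i, i < 62694 → P i := stepQ 62693 Q62693 (allL N62693 (tt N58807 (iv1 F350643)) (tt N62141 F357064) (tt N62139 (iv2 F350925)) (tt N33553 (iv3 D117089)) (tt N99731 (iv4 F425952)) (tt N45534 F324092) (tt N72748 F357074) (tt N45604 F324093))
theorem Q62695 : ∀ i, i < 62695 → P i := stepQ 62694 Q62694 (allL N62694 (tt N36082 F183121) (tt N36081 F183120) (tt N36084 F183117) (tt N62142 F350929) (tt N33555 (iv4 D117092)) (tt N43951 F331938) (tt N36057 F183118) (tt N36001 F183119))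
theorem Q62696 : ∀ i, i < 62696 → P i := stepQ 62695 Q62695 (allL N62695 (tt N39534 F183124) (tt N39134 F183125) (tt N33557 F183122) (tt N80001 (iv3 F360159)) (tt N33556 (iv4 D117093)) (tt N77616 F321762) (tt N94050 (iv6 F402987)) (tt N36085 F183123))
theorem Q62697 : ∀ i, i < 62697 → P i := stepQ 62696 Q62696 (allL N62696 (tt N36085 (iv1 F183128)) (tt N33557 (iv0 D117094)) (tt N39534 (iv2 F183127)) (tt N55044 (iv3 F364899)) (tt N39135 F183126) (tt N43947 F321765) (tt N39406 (iv6 F183130)) (tt N39134 F183129))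
theorem Q62698 : ∀ i, i < 62698 → P i := stepQ 62697 Q62697 (allL N62697 (tt N94049 (iv1 F402977)) (tt N79828 (iv0 F336491)) (tt N94050 (iv2 F402983)) (tt N48151 (iv3 F318724)) (tt N33558 F183132) (tt N58201 (iv5 F325257)) (tt N33557 (iv6 D117096)) (tt N37008 F183133))
theorem Q62699 : ∀ i, i < 62699 → P i := stepQ 62698 Q62698 (allL N62698 (tt N33559 (iv1 D117097)) (tt N41568 F183134) (tt N41570 (iv2 F183137)) (tt N94401 F404309) (tt N56945 F183136) (tt N99732 D202870) (tt N41292 (iv6 F183138)) (tt N41236 F183135))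
theorem Q62700 : ∀ i, i < 62700 → P i := stepQ 62699 Q62699 (allL N62699 (tt N99733 D202871) (tt N94312 F404009) (tt N92409 (iv2 F396923)) (tt N55999 (iv3 F351839)) (tt N72844 F351857) (tt N33559 (iv5 D117098)) (tt N99734 D202872) (tt N41572 F183139))
theorem Q62701 : ∀ i, i < 62701 → P i := stepQ 62700 Q62700 (allL N62700 (tt N43851 F233202) (tt N46568 F315221) (tt N41362 F183140) (tt N33644 F183141) (tt N41647 F183142) (tt N43119 F183143) (tt N33563 (iv6 D117099)) (tt N45137 F315222))
theorem Q62702 : ∀ i, i < 62702 → P i := stepQ 62701 Q62701 (allL N62701 (tt N92574 F397439) (tt N92581 F397476) (tt N75057 (iv2 F230218)) (tt N33566 F183160) (tt N63000 (iv4 F184319)) (tt N33843 F183161) (tt N33564 (iv6 D117105)) (tt N75646 (iv7 F233283)))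
theorem Q62703 : ∀ i, i < 62703 → P i := stepQ 62702 Q62702 (allL N62702 (tt N55777 F355664) (tt N55773 F355817) (tt N55776 (iv2 F343298)) (tt N33565 (iv3 D117106)) (tt N62999 (iv4 F184316)) (tt N99735 D202873) (tt N98116 (iv6 F419523)) (tt N41388 F183162))
theorem Q62704 : ∀ i, i < 62704 → P i := stepQ 62703 Q62703 (allL N62703 (tt N74429 (iv1 F227879)) (tt N74432 (iv0 F227883)) (tt N41396 F183163) (tt N99735 (iv3 F425971)) (tt N61246 (iv4 F318220)) (tt N33565 (iv5 D117107)) (tt N99736 D202874) (tt N41389 F183164))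
theorem Q62705 : ∀ i, i < 62705 → P i := stepQ 62704 Q62704 (allL N62704 (tt N75315 F231128) (tt N75473 F231598) (tt N41397 F183165) (tt N98116 (iv3 F419520)) (tt N33566 F183166) (tt N46013 F319197) (tt N33565 (iv6 D117108)) (tt N46022 (iv7 F321741)))
theorem Q62706 : ∀ i, i < 62706 → P i := stepQ 62705 Q62705 (allL N62705 (tt N99737 D202875) (tt N80467 (iv0 F364334)) (tt N97941 (iv2 F418892)) (tt N33569 F183167) (tt N62916 (iv4 F184133)) (tt N76687 (iv5 F239723)) (tt N33567 (iv6 D117109)) (tt N94456 (iv7 F404545)))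
theorem Q62707 : ∀ i, i < 62707 → P i := stepQ 62706 Q62706 (allL N62706 (tt N45204 F343309) (tt N76260 F343310) (tt N76258 F353555) (tt N33568 (iv3 D117110)) (tt N62915 (iv4 F184132)) (tt N99738 D202876) (tt N99739 D202877) (tt N41395 F183168))
theorem Q62708 : ∀ i, i < 62708 → P i := stepQ 62707 Q62707 (allL N62707 (tt N74432 (iv1 F227884)) (tt N74429 (iv0 F227878)) (tt N41389 F183169) (tt N99738 (iv3 F425989)) (tt N61352 (iv4 F318209)) (tt N33568 (iv5 D117111)) (tt N99740 D202878) (tt N41396 F183170))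
theorem Q62709 : ∀ i, i < 62709 → P i := stepQ 62708 Q62708 (allL N62708 (tt N99741 D202879) (tt N75496 F366072) (tt N41390 F183171) (tt N99739 (iv3 F425994)) (tt N33569 F183172) (tt N99742 D202880) (tt N33568 (iv6 D117112)) (tt N94463 (iv7 F404565)))
theorem Q62710 : ∀ i, i < 62710 → P i := stepQ 62709 Q62709 (allL N62709 (tt N54965 (iv1 F332537)) (tt N45194 (iv0 F243197)) (tt N74956 (iv2 F229870)) (tt N33572 (iv3 D117156)) (tt N56085 (iv4 F338200)) (tt N75955 F338195) (tt N47705 F338196) (tt N41679 F183267))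
theorem Q62711 : ∀ i, i < 62711 → P i := stepQ 62710 Q62710 (allL N62710 (tt N42649 F307286) (tt N33835 F307287) (tt N41678 F183268) (tt N47705 F307288) (tt N75010 (iv4 F230067)) (tt N37368 F183269) (tt N33572 (iv6 D117157)) (tt N42648 (iv7 F307844)))
theorem Q62712 : ∀ i, i < 62712 → P i := stepQ 62711 Q62711 (allL N62711 (tt N36291 F243304) (tt N54966 (iv0 F317935)) (tt N75219 (iv2 F243149)) (tt N33573 (iv3 D117158)) (tt N75187 F243144) (tt N41433 F183275) (tt N74259 (iv6 F360567)) (tt N41676 F183276))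
theorem Q62713 : ∀ i, i < 62713 → P i := stepQ 62712 Q62712 (allL N62712 (tt N76123 (iv1 F243220)) (tt N99743 D202881) (tt N54964 F313266) (tt N33576 F183289) (tt N99744 D202882) (tt N33575 (iv5 D117164)) (tt N99745 D202883) (tt N41673 F183290))
theorem Q62714 : ∀ i, i < 62714 → P i := stepQ 62713 Q62713 (allL N62713 (tt N57708 F183299) (tt N57706 (iv0 F183300)) (tt N33821 F308864) (tt N99745 (iv3 F426022)) (tt N47938 F308865) (tt N33814 F308866) (tt N33576 (iv6 D117167)) (tt N78377 (iv7 F248532)))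
theorem Q62715 : ∀ i, i < 62715 → P i := stepQ 62714 Q62714 (allL N62714 (tt N54968 F313332) (tt N54967 (iv0 F315758)) (tt N54970 F313333) (tt N33578 F183308) (tt N75341 (iv4 F243361)) (tt N33577 (iv5 D117172)) (tt N75339 F243348) (tt N35296 F313334))
theorem Q62716 : ∀ i, i < 62716 → P i := stepQ 62715 Q62715 (allL N62715 (tt N42751 F183334) (tt N42750 F183335) (tt N33892 F183332) (tt N94320 (iv3 F404020)) (tt N33582 (iv4 D117180)) (tt N77017 (iv5 F241396)) (tt N94462 (iv6 F404562)) (tt N33866 F183333))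
theorem Q62717 : ∀ i, i < 62717 → P i := stepQ 62716 Q62716 (allL N62716 (tt N98761 (iv1 F422201)) (tt N61705 F332297) (tt N98760 F422192) (tt N33583 (iv3 D117181)) (tt N41019 F183336) (tt N74802 (iv5 F229205)) (tt N99746 D202884) (tt N41622 F183337))
theorem Q62718 : ∀ i, i < 62718 → P i := stepQ 62717 Q62717 (allL N62717 (tt N61438 F331602) (tt N61420 F363909) (tt N33588 F183338) (tt N99746 (iv3 F426025)) (tt N33584 F183339) (tt N95876 (iv5 F410051)) (tt N33583 (iv6 D117182)) (tt N61405 F331604))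
theorem Q62719 : ∀ i, i < 62719 → P i := stepQ 62718 Q62718 (allL N62718 (tt N33592 (iv1 F183345)) (tt N33584 (iv0 D117183)) (tt N33589 F187655) (tt N69969 (iv3 F331667)) (tt N75237 (iv4 F230834)) (tt N73321 (iv5 F333611)) (tt N73322 (iv6 F315937)) (tt N33590 F187656))
theorem Q62720 : ∀ i, i < 62720 → P i := stepQ 62719 Q62719 (allL N62719 (tt N33584 (iv1 D117184)) (tt N33592 F183340) (tt N33590 F187652) (tt N75148 (iv3 F230343)) (tt N75238 F230828) (tt N42572 (iv5 F183341)) (tt N36642 F205365) (tt N33589 F187653))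
theorem Q62721 : ∀ i, i < 62721 → P i := stepQ 62720 Q62720 (allL N62720 (tt N33590 (iv1 F183346)) (tt N33589 F183347) (tt N33592 F183342) (tt N41684 F183343) (tt N61405 (iv4 F331605)) (tt N75637 (iv5 F310976)) (tt N41626 F183344) (tt N33584 (iv7 D117185)))
theorem Q62722 : ∀ i, i < 62722 → P i := stepQ 62721 Q62721 (allL N62721 (tt N55819 (iv1 F361632)) (tt N73867 F339795) (tt N45128 F339784) (tt N33585 (iv3 D117186)) (tt N63760 (iv4 F323334)) (tt N74484 (iv5 F227971)) (tt N45126 F339785) (tt N41642 F183348))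
theorem Q62723 : ∀ i, i < 62723 → P i := stepQ 62722 Q62722 (allL N62722 (tt N61447 (iv1 F335144)) (tt N48242 (iv0 F232608)) (tt N41644 F183353) (tt N45143 F323348) (tt N41373 F183354) (tt N61712 F338625) (tt N33586 (iv6 D117189)) (tt N45139 F323349))
theorem Q62724 : ∀ i, i < 62724 → P i := stepQ 62723 Q62723 (allL N62723 (tt N61405 F331608) (tt N33588 (iv0 D117191)) (tt N61438 F331609) (tt N62817 (iv3 F331611)) (tt N41997 F331610) (tt N99747 D202885) (tt N62815 (iv6 F331612)) (tt N61420 F363911))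
theorem Q62725 : ∀ i, i < 62725 → P i := stepQ 62724 Q62724 (allL N62724 (tt N33588 (iv1 D117192)) (tt N61405 F331606) (tt N61420 F363908) (tt N34695 F331594) (tt N41998 F230846) (tt N99748 D202886) (tt N34693 F331595) (tt N61438 (iv7 F331601)))
theorem Q62726 : ∀ i, i < 62726 → P i := stepQ 62725 Q62725 (allL N62725 (tt N92571 (iv1 F397425)) (tt N74422 (iv0 F230427)) (tt N69973 (iv2 F331624)) (tt N33589 (iv3 D117196)) (tt N69987 (iv4 F331629)) (tt N92539 F397303) (tt N92540 (iv6 F397305)) (tt N75148 F230345))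
theorem Q62727 : ∀ i, i < 62727 → P i := stepQ 62726 Q62726 (allL N62726 (tt N75240 (iv1 F230838)) (tt N74433 F230835) (tt N75237 F230832) (tt N92841 F398461) (tt N33589 (iv4 D117197)) (tt N99749 D202887) (tt N92550 (iv6 F397339)) (tt N75238 (iv7 F230831)))
theorem Q62728 : ∀ i, i < 62728 → P i := stepQ 62727 Q62727 (allL N62727 (tt N69972 (iv1 F331668)) (tt N69971 F331666) (tt N69976 (iv2 F331664)) (tt N33590 (iv3 D117201)) (tt N62877 F228933) (tt N70101 (iv5 F331669)) (tt N92609 (iv6 F397637)) (tt N69969 F331665))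
theorem Q62729 : ∀ i, i < 62729 → P i := stepQ 62728 Q62728 (allL N62728 (tt N74433 F230699) (tt N75240 F230837) (tt N75238 (iv2 F230829)) (tt N99750 D202888) (tt N33590 (iv4 D117202)) (tt N99751 D202889) (tt N46027 F321129) (tt N75237 F230833))
theorem Q62730 : ∀ i, i < 62730 → P i := stepQ 62729 Q62729 (allL N62729 (tt N41712 F363629) (tt N40227 F363630) (tt N42572 (iv2 F187651)) (tt N70101 F331670) (tt N99752 D202890) (tt N33590 (iv5 D117203)) (tt N42527 (iv6 F183359)) (tt N73321 F333614))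
theorem Q62731 : ∀ i, i < 62731 → P i := stepQ 62730 Q62730 (allL N62730 (tt N33591 (iv1 D117205)) (tt N75637 (iv0 F310972)) (tt N75913 (iv2 F234579)) (tt N99753 D202891) (tt N99754 D202892) (tt N63405 F333593) (tt N36363 F320012) (tt N75855 F234421))
theorem Q62732 : ∀ i, i < 62732 → P i := stepQ 62731 Q62731 (allL N62731 (tt N75913 (iv1 F234582)) (tt N75855 (iv0 F234419)) (tt N75637 (iv2 F310974)) (tt N33598 F183360) (tt N52327 F183361) (tt N33592 F183362) (tt N75637 (iv6 F310977)) (tt N33591 (iv7 D117206)))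
theorem Q62733 : ∀ i, i < 62733 → P i := stepQ 62732 Q62732 (allL N62732 (tt N36313 F204931) (tt N33594 (iv0 D117207)) (tt N36315 F204932) (tt N69971 (iv3 F339500)) (tt N87192 (iv4 F378656)) (tt N52584 F311002) (tt N35294 (iv6 F313237)) (tt N36300 F204934))
theorem Q62734 : ∀ i, i < 62734 → P i := stepQ 62733 Q62733 (allL N62733 (tt N36315 (iv1 F188393)) (tt N36300 (iv0 F188388)) (tt N33594 (iv2 D117209)) (tt N41708 F183364) (tt N54980 F339493) (tt N62377 (iv5 F350182)) (tt N62379 F350184) (tt N36313 F204937))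
theorem Q62735 : ∀ i, i < 62735 → P i := stepQ 62734 Q62734 (allL N62734 (tt N52618 F358015) (tt N42003 (iv0 F190206)) (tt N54980 F340413) (tt N73403 (iv3 F224674)) (tt N33594 (iv4 D117210)) (tt N87887 (iv5 F380970)) (tt N62390 F358014) (tt N41710 F183369))
theorem Q62736 : ∀ i, i < 62736 → P i := stepQ 62735 Q62735 (allL N62735 (tt N45314 F228962) (tt N75978 F235080) (tt N52577 (iv2 F311481)) (tt N33597 (iv3 D117224)) (tt N99755 D202893) (tt N41617 F183405) (tt N76136 F309258) (tt N41714 F183406))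
theorem Q62737 : ∀ i, i < 62737 → P i := stepQ 62736 Q62736 (allL N62736 (tt N99756 D202894) (tt N97972 F419027) (tt N41864 F183413) (tt N41698 F183414) (tt N97806 (iv4 F418374)) (tt N42939 F183415) (tt N33599 (iv6 D117226)) (tt N70833 (iv7 F362731)))
theorem Q62738 : ∀ i, i < 62738 → P i := stepQ 62737 Q62737 (allL N62737 (tt N33600 (iv1 D117227)) (tt N33603 F183416) (tt N41857 (iv2 F183419)) (tt N42100 (iv3 F183420)) (tt N41355 F183418) (tt N75112 (iv5 F230289)) (tt N62921 F349455) (tt N41858 F183417))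
theorem Q62739 : ∀ i, i < 62739 → P i := stepQ 62738 Q62738 (allL N62738 (tt N99757 D202895) (tt N99758 D202896) (tt N91018 (iv2 F391583)) (tt N33600 (iv3 D117228)) (tt N41605 F183421) (tt N99759 D202897) (tt N81323 F346295) (tt N41859 F183422))
theorem Q62740 : ∀ i, i < 62740 → P i := stepQ 62739 Q62739 (allL N62739 (tt N75740 (iv1 F233608)) (tt N75743 (iv0 F233617)) (tt N41866 F183423) (tt N99759 (iv3 F426095)) (tt N97808 (iv4 F418377)) (tt N33600 (iv5 D117229)) (tt N53157 F346314) (tt N41860 F183424))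
theorem Q62741 : ∀ i, i < 62741 → P i := stepQ 62740 Q62740 (allL N62740 (tt N82952 F353234) (tt N49873 (iv0 F346297)) (tt N41867 F183425) (tt N81323 F346294) (tt N33601 F183426) (tt N52290 F346302) (tt N33600 (iv6 D117230)) (tt N72332 (iv7 F346828)))
theorem Q62742 : ∀ i, i < 62742 → P i := stepQ 62741 Q62741 (allL N62741 (tt N41868 (iv1 F183432)) (tt N33601 (iv0 D117231)) (tt N33805 F237511) (tt N41726 F327712) (tt N83834 F346300) (tt N41277 F322280) (tt N99760 D202898) (tt N41276 F322281))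
theorem Q62743 : ∀ i, i < 62743 → P i := stepQ 62742 Q62742 (allL N62742 (tt N91019 (iv1 F391597)) (tt N81198 (iv0 F366414)) (tt N87062 (iv2 F378240)) (tt N33603 (iv3 D117235)) (tt N52264 (iv4 F320024)) (tt N53161 F346317) (tt N91022 (iv6 F391618)) (tt N41865 F183437))
theorem Q62744 : ∀ i, i < 62744 → P i := stepQ 62743 Q62743 (allL N62743 (tt N75743 (iv1 F233618)) (tt N75740 (iv0 F233607)) (tt N41860 F183438) (tt N53161 (iv3 F346316)) (tt N97805 (iv4 F418369)) (tt N33603 (iv5 D117236)) (tt N99761 D202899) (tt N41866 F183439))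
theorem Q62745 : ∀ i, i < 62745 → P i := stepQ 62744 Q62744 (allL N62744 (tt N99762 D202900) (tt N92582 (iv0 F397481)) (tt N41861 F183440) (tt N91022 (iv3 F391615)) (tt N33604 F183441) (tt N99763 D202901) (tt N33603 (iv6 D117237)) (tt N42305 (iv7 F183442)))
theorem Q62746 : ∀ i, i < 62746 → P i := stepQ 62745 Q62745 (allL N62745 (tt N99764 D202902) (tt N99765 D202903) (tt N99540 (iv2 F425049)) (tt N33605 (iv3 D117238)) (tt N41741 F183443) (tt N99766 D202904) (tt N76340 (iv6 F348652)) (tt N41870 F183444))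
theorem Q62747 : ∀ i, i < 62747 → P i := stepQ 62746 Q62746 (allL N62746 (tt N41916 F183448) (tt N41915 F183449) (tt N33611 F183445) (tt N99766 (iv3 F426131)) (tt N41892 F183446) (tt N33605 (iv5 D117239)) (tt N99767 D202905) (tt N41871 F183447))
theorem Q62748 : ∀ i, i < 62748 → P i := stepQ 62747 Q62747 (allL N62747 (tt N64746 (iv1 F356474)) (tt N64751 F356482) (tt N33612 F183450) (tt N76340 (iv3 F348651)) (tt N33606 F183451) (tt N85517 (iv5 F372918)) (tt N33605 (iv6 D117240)) (tt N64749 (iv7 F356540)))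
theorem Q62749 : ∀ i, i < 62749 → P i := stepQ 62748 Q62748 (allL N62748 (tt N33616 (iv1 F183460)) (tt N33606 (iv0 D117241)) (tt N33613 F183593) (tt N41956 F242960) (tt N89913 (iv4 F387983)) (tt N75663 F233319) (tt N45296 F310204) (tt N33614 F183594))
theorem Q62750 : ∀ i, i < 62750 → P i := stepQ 62749 Q62749 (allL N62749 (tt N33606 (iv1 D117242)) (tt N33616 F183452) (tt N33614 F183591) (tt N33624 F183455) (tt N99768 D202906) (tt N42230 (iv5 F183453)) (tt N72690 F345707) (tt N33613 F183592))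
theorem Q62751 : ∀ i, i < 62751 → P i := stepQ 62750 Q62750 (allL N62750 (tt N33614 (iv1 F183461)) (tt N33613 F183462) (tt N33616 F183456) (tt N41746 F183457) (tt N64749 (iv4 F340879)) (tt N33681 F183458) (tt N41876 F183459) (tt N33606 (iv7 D117243)))
theorem Q62752 : ∀ i, i < 62752 → P i := stepQ 62751 Q62751 (allL N62751 (tt N69993 F360247) (tt N85583 (iv0 F373114)) (tt N99769 D202907) (tt N33607 (iv3 D117244)) (tt N75189 (iv4 F230656)) (tt N84763 F370527) (tt N87276 (iv6 F378956)) (tt N41905 F183463))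
theorem Q62753 : ∀ i, i < 62753 → P i := stepQ 62752 Q62752 (allL N62752 (tt N75025 (iv1 F230143)) (tt N75024 (iv0 F230138)) (tt N41901 F183464) (tt N84763 F370526) (tt N75584 (iv4 F231958)) (tt N33607 (iv5 D117245)) (tt N84761 (iv6 F370528)) (tt N41906 F183465))
theorem Q62754 : ∀ i, i < 62754 → P i := stepQ 62753 Q62753 (allL N62753 (tt N99770 D202908) (tt N63648 (iv0 F357747)) (tt N41902 F183466) (tt N87276 (iv3 F378955)) (tt N33608 F183467) (tt N99771 D202909) (tt N33607 (iv6 D117246)) (tt N99772 D202910))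
theorem Q62755 : ∀ i, i < 62755 → P i := stepQ 62754 Q62754 (allL N62754 (tt N33608 (iv1 D117247)) (tt N41904 F183468) (tt N41824 (iv2 F183470)) (tt N41780 F232586) (tt N64626 F310207) (tt N99773 D202911) (tt N45297 F310208) (tt N41903 F183469))
theorem Q62756 : ∀ i, i < 62756 → P i := stepQ 62755 Q62755 (allL N62755 (tt N37385 F237487) (tt N69418 F237488) (tt N33957 F183471) (tt N43425 F183472) (tt N88512 (iv4 F383342)) (tt N33608 (iv5 D117248)) (tt N33935 F183473) (tt N69417 (iv7 F237480)))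
theorem Q62757 : ∀ i, i < 62757 → P i := stepQ 62756 Q62756 (allL N62756 (tt N41824 (iv1 F183476)) (tt N41903 F183477) (tt N41904 F183474) (tt N46573 F315430) (tt N99772 (iv4 F426160)) (tt N69417 (iv5 F237478)) (tt N41908 F183475) (tt N33608 (iv7 D117249)))
theorem Q62758 : ∀ i, i < 62758 → P i := stepQ 62757 Q62757 (allL N62757 (tt N99774 D202912) (tt N96228 (iv0 F411603)) (tt N84722 (iv2 F370340)) (tt N33610 (iv3 D117252)) (tt N41365 F183480) (tt N75580 (iv5 F231944)) (tt N50781 F346100) (tt N41912 F183481))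
theorem Q62759 : ∀ i, i < 62759 → P i := stepQ 62758 Q62758 (allL N62758 (tt N44040 F184663) (tt N64626 F354937) (tt N41911 F183482) (tt N50781 (iv3 F346097)) (tt N41360 F183483) (tt N89356 (iv5 F386233)) (tt N33610 (iv6 D117253)) (tt N84723 (iv7 F370349)))
theorem Q62760 : ∀ i, i < 62760 → P i := stepQ 62759 Q62759 (allL N62759 (tt N41871 (iv1 F183485)) (tt N33611 (iv0 D117254)) (tt N41916 (iv2 F183486)) (tt N88449 (iv3 F383094)) (tt N97803 (iv4 F418363)) (tt N33755 F183484) (tt N88448 F383092) (tt N41915 (iv7 F183487)))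
theorem Q62761 : ∀ i, i < 62761 → P i := stepQ 62760 Q62760 (allL N62760 (tt N33611 (iv1 D117255)) (tt N41871 F183488) (tt N41915 (iv2 F183491)) (tt N99775 D202913) (tt N97797 (iv4 F418346)) (tt N33756 F183490) (tt N99776 D202914) (tt N41916 F183489))
theorem Q62762 : ∀ i, i < 62762 → P i := stepQ 62761 Q62761 (allL N62761 (tt N97808 (iv1 F418380)) (tt N97805 (iv0 F418370)) (tt N41892 F183492) (tt N90075 (iv3 F388499)) (tt N33611 (iv4 D117256)) (tt N41869 F183493) (tt N90073 F388496) (tt N41917 F183494))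
theorem Q62763 : ∀ i, i < 62763 → P i := stepQ 62762 Q62762 (allL N62762 (tt N99777 D202915) (tt N99778 D202916) (tt N99767 (iv2 F426137)) (tt N90070 F388488) (tt N90073 (iv4 F388495)) (tt N99779 D202917) (tt N33611 (iv6 D117257)) (tt N99780 D202918))
theorem Q62764 : ∀ i, i < 62764 → P i := stepQ 62763 Q62763 (allL N62763 (tt N33612 (iv1 D117259)) (tt N64749 F356539) (tt N64751 F356480) (tt N90647 (iv3 F390392)) (tt N74767 (iv4 F229085)) (tt N99781 D202919) (tt N90646 F390390) (tt N64746 (iv7 F356476)))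
theorem Q62765 : ∀ i, i < 62765 → P i := stepQ 62764 Q62764 (allL N62764 (tt N99782 D202920) (tt N99783 D202921) (tt N85517 (iv2 F372916)) (tt N75974 F366452) (tt N85503 (iv4 F372870)) (tt N33612 (iv5 D117260)) (tt N99779 (iv6 F426187)) (tt N99784 D202922))
theorem Q62766 : ∀ i, i < 62766 → P i := stepQ 62765 Q62765 (allL N62765 (tt N64751 (iv1 F356481)) (tt N64746 (iv0 F356473)) (tt N64749 F356541) (tt N63085 F317583) (tt N33616 F183495) (tt N99784 (iv5 F426203)) (tt N41921 F183496) (tt N33612 (iv7 D117261)))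
theorem Q62767 : ∀ i, i < 62767 → P i := stepQ 62766 Q62766 (allL N62766 (tt N99785 D202923) (tt N75744 (iv0 F243335)) (tt N89913 (iv2 F387981)) (tt N99786 D202924) (tt N33613 (iv4 D117263)) (tt N99787 D202925) (tt N75986 F361670) (tt N99768 (iv7 F426142)))
theorem Q62768 : ∀ i, i < 62768 → P i := stepQ 62767 Q62767 (allL N62767 (tt N75644 F233280) (tt N33746 (iv0 F184260)) (tt N75663 (iv2 F233320)) (tt N33803 F183498) (tt N83849 F344206) (tt N33613 (iv5 D117264)) (tt N99788 D202926) (tt N42230 (iv7 F183588)))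
theorem Q62769 : ∀ i, i < 62769 → P i := stepQ 62768 Q62768 (allL N62768 (tt N75744 F243338) (tt N99785 F426206) (tt N99768 (iv2 F426140)) (tt N54719 F353231) (tt N33614 (iv4 D117268)) (tt N88557 (iv5 F383491)) (tt N54718 (iv6 F353233)) (tt N89913 (iv7 F387984)))
theorem Q62770 : ∀ i, i < 62770 → P i := stepQ 62769 Q62769 (allL N62769 (tt N33746 F230372) (tt N75644 F233281) (tt N42230 F183595) (tt N42079 F242939) (tt N83850 F346001) (tt N33614 (iv5 D117269)) (tt N33711 (iv6 F183503)) (tt N75663 (iv7 F233318)))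
theorem Q62771 : ∀ i, i < 62771 → P i := stepQ 62770 Q62770 (allL N62770 (tt N72331 (iv1 F346819)) (tt N44866 (iv0 F230373)) (tt N72690 (iv2 F345709)) (tt N55200 (iv3 F313060)) (tt N54718 (iv4 F346817)) (tt N62683 (iv5 F318380)) (tt N33614 (iv6 D117270)) (tt N64637 F345710))
theorem Q62772 : ∀ i, i < 62772 → P i := stepQ 62771 Q62771 (allL N62771 (tt N33615 (iv1 D117271)) (tt N33681 F183504) (tt N33620 (iv2 F183507)) (tt N41830 F183508) (tt N49695 F337247) (tt N42316 (iv5 F183506)) (tt N72685 F349376) (tt N33680 (iv7 F183643)))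
theorem Q62773 : ∀ i, i < 62773 → P i := stepQ 62772 Q62772 (allL N62772 (tt N33620 F183640) (tt N33680 F183518) (tt N33681 F183513) (tt N33625 F183514) (tt N51683 (iv4 F339708)) (tt N33616 F183515) (tt N33689 F183516) (tt N33615 (iv7 D117273)))
theorem Q62774 : ∀ i, i < 62774 → P i := stepQ 62773 Q62773 (allL N62773 (tt N33679 (iv1 F183521)) (tt N33617 (iv0 D117274)) (tt N33674 (iv2 F183520)) (tt N78113 (iv3 F341449)) (tt N41371 F183519) (tt N62923 (iv5 F184144)) (tt N78112 (iv6 F338236)) (tt N33675 F183522))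
theorem Q62775 : ∀ i, i < 62775 → P i := stepQ 62774 Q62774 (allL N62774 (tt N99789 D202927) (tt N74394 (iv0 F243105)) (tt N41988 F242992) (tt N34291 F310763) (tt N33618 (iv4 D117280)) (tt N80767 F345663) (tt N34591 F310764) (tt N41831 F183533))
theorem Q62776 : ∀ i, i < 62776 → P i := stepQ 62775 Q62775 (allL N62775 (tt N52007 (iv1 F312756)) (tt N75490 F242994) (tt N41989 F242995) (tt N33619 F183534) (tt N84237 (iv4 F368638)) (tt N33618 (iv5 D117281)) (tt N80432 F310765) (tt N41832 F183535))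
theorem Q62777 : ∀ i, i < 62777 → P i := stepQ 62776 Q62776 (allL N62776 (tt N63851 F189838) (tt N63849 (iv0 F189830)) (tt N41828 F183541) (tt N80432 F310760) (tt N46280 F310761) (tt N34599 F310762) (tt N33619 (iv6 D117284)) (tt N78328 (iv7 F248274)))
theorem Q62778 : ∀ i, i < 62778 → P i := stepQ 62777 Q62777 (allL N62777 (tt N49724 (iv1 F329753)) (tt N49416 F337258) (tt N49695 F337249) (tt N43931 F314947) (tt N33620 (iv4 D117287)) (tt N49405 F337264) (tt N99790 D202928) (tt N41825 F183545))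
theorem Q62779 : ∀ i, i < 62779 → P i := stepQ 62778 Q62778 (allL N62778 (tt N42308 (iv1 F183648)) (tt N42318 (iv0 F183644)) (tt N42316 F183546) (tt N33621 F183547) (tt N99791 D202929) (tt N33620 (iv5 D117288)) (tt N33759 (iv6 F183645)) (tt N41826 F183548))
theorem Q62780 : ∀ i, i < 62780 → P i := stepQ 62779 Q62779 (allL N62779 (tt N99792 D202930) (tt N44886 (iv0 F233279)) (tt N72685 (iv2 F349377)) (tt N33622 F183549) (tt N99790 (iv4 F426227)) (tt N72679 (iv5 F349396)) (tt N33620 (iv6 D117289)) (tt N45308 F313296))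
theorem Q62781 : ∀ i, i < 62781 → P i := stepQ 62780 Q62780 (allL N62780 (tt N75382 (iv1 F316677)) (tt N33626 (iv0 D117299)) (tt N75018 (iv2 F350796)) (tt N74353 (iv3 F350797)) (tt N90309 (iv4 F389309)) (tt N74352 F350795) (tt N82158 (iv6 F350798)) (tt N75016 (iv7 F350799)))
theorem Q62782 : ∀ i, i < 62782 → P i := stepQ 62781 Q62781 (allL N62781 (tt N33626 (iv1 D117300)) (tt N75382 (iv0 F316676)) (tt N75016 F355147) (tt N99793 D202931) (tt N64718 F355150) (tt N75015 (iv5 F355127)) (tt N64716 (iv6 F355149)) (tt N75018 F355148))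
theorem Q62783 : ∀ i, i < 62783 → P i := stepQ 62782 Q62782 (allL N62782 (tt N60908 F183652) (tt N55741 F183653) (tt N41733 F183650) (tt N70836 F349039) (tt N33627 (iv4 D117302)) (tt N99794 D202932) (tt N70835 (iv6 F349038)) (tt N41721 F183651))
theorem Q62784 : ∀ i, i < 62784 → P i := stepQ 62783 Q62783 (allL N62783 (tt N98728 F422045) (tt N60952 (iv0 F349044)) (tt N41734 F183654) (tt N39010 F328365) (tt N70835 F328366) (tt N33975 F183655) (tt N33627 (iv6 D117303)) (tt N70835 F328367))
theorem Q62785 : ∀ i, i < 62785 → P i := stepQ 62784 Q62784 (allL N62784 (tt N92570 (iv1 F397420)) (tt N99795 D202933) (tt N41736 F183658) (tt N44607 F316819) (tt N92592 (iv4 F397536)) (tt N33628 (iv5 D117305)) (tt N50985 (iv6 F349240)) (tt N41724 F183659))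
theorem Q62786 : ∀ i, i < 62786 → P i := stepQ 62785 Q62785 (allL N62785 (tt N91170 (iv1 F392149)) (tt N84484 (iv0 F369490)) (tt N41737 F183660) (tt N44608 F316820) (tt N33629 F183661) (tt N51484 F316821) (tt N33628 (iv6 D117306)) (tt N42285 F232269))
theorem Q62787 : ∀ i, i < 62787 → P i := stepQ 62786 Q62786 (allL N62786 (tt N72333 (iv1 F334964)) (tt N72377 F334965) (tt N41807 F183670) (tt N33633 F183671) (tt N74892 F332527) (tt N34033 F183672) (tt N33630 (iv6 D117310)) (tt N72347 (iv7 F334955)))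
theorem Q62788 : ∀ i, i < 62788 → P i := stepQ 62787 Q62787 (allL N62787 (tt N55741 F183675) (tt N60908 F183676) (tt N41721 F183673) (tt N85002 (iv3 F371333)) (tt N33631 (iv4 D117311)) (tt N92592 (iv5 F397537)) (tt N33631 F335897) (tt N41733 F183674))
theorem Q62789 : ∀ i, i < 62789 → P i := stepQ 62788 Q62788 (allL N62788 (tt N99795 (iv1 F426248)) (tt N92570 (iv0 F397419)) (tt N41724 F183679) (tt N61383 (iv3 F366605)) (tt N99794 (iv4 F426243)) (tt N33632 (iv5 D117314)) (tt N99796 D202934) (tt N41736 F183680))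
theorem Q62790 : ∀ i, i < 62790 → P i := stepQ 62789 Q62789 (allL N62789 (tt N99797 D202935) (tt N72775 (iv0 F334966)) (tt N41725 F183681) (tt N61384 (iv3 F338669)) (tt N33633 F183682) (tt N92225 (iv5 F396353)) (tt N33632 (iv6 D117315)) (tt N98406 (iv7 F420832)))
theorem Q62791 : ∀ i, i < 62791 → P i := stepQ 62790 Q62790 (allL N62790 (tt N33633 (iv1 D117317)) (tt N41728 F183683) (tt N33808 F247754) (tt N41276 F322277) (tt N99798 D202936) (tt N41267 F322278) (tt N73865 (iv6 F333256)) (tt N41726 (iv7 F327181)))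
theorem Q62792 : ∀ i, i < 62792 → P i := stepQ 62791 Q62791 (allL N62791 (tt N42335 F233411) (tt N72328 (iv0 F361406)) (tt N41727 F183684) (tt N34033 F183685) (tt N99799 D202937) (tt N33633 (iv5 D117318)) (tt N33634 F183686) (tt N48071 (iv7 F233005)))
theorem Q62793 : ∀ i, i < 62793 → P i := stepQ 62792 Q62792 (allL N62792 (tt N33808 F326377) (tt N41726 F183691) (tt N41728 F183687) (tt N72347 F334961) (tt N98406 (iv4 F420829)) (tt N48071 F232250) (tt N33797 F232251) (tt N33633 (iv7 D117319)))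
theorem Q62794 : ∀ i, i < 62794 → P i := stepQ 62793 Q62793 (allL N62793 (tt N42915 F183694) (tt N42912 F183695) (tt N41729 F183692) (tt N53641 (iv3 F352997)) (tt N33634 (iv4 D117320)) (tt N85912 (iv5 F374433)) (tt N99799 (iv6 F426274)) (tt N33985 F183693))
theorem Q62795 : ∀ i, i < 62795 → P i := stepQ 62794 Q62794 (allL N62794 (tt N41760 F183700) (tt N39027 F327871) (tt N33641 F183696) (tt N99800 D202938) (tt N33635 (iv4 D117321)) (tt N41791 F183699) (tt N50254 F183697) (tt N41739 F183698))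
theorem Q62796 : ∀ i, i < 62796 → P i := stepQ 62795 Q62795 (allL N62795 (tt N98108 F419494) (tt N99801 D202939) (tt N99495 (iv2 F424849)) (tt N33636 (iv3 D117322)) (tt N41870 F183702) (tt N99802 D202940) (tt N99803 D202941) (tt N41741 F183703))
theorem Q62797 : ∀ i, i < 62797 → P i := stepQ 62796 Q62796 (allL N62796 (tt N41790 F183707) (tt N41789 F183708) (tt N33648 F183704) (tt N99802 (iv3 F426288)) (tt N41762 F183705) (tt N33636 (iv5 D117323)) (tt N62822 F356765) (tt N41742 F183706))
theorem Q62798 : ∀ i, i < 62798 → P i := stepQ 62797 Q62797 (allL N62797 (tt N47513 F323486) (tt N61687 (iv0 F349118)) (tt N33649 F183709) (tt N99803 (iv3 F426291)) (tt N33637 F183710) (tt N61720 (iv5 F339420)) (tt N33636 (iv6 D117324)) (tt N98721 (iv7 F422011)))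
theorem Q62799 : ∀ i, i < 62799 → P i := stepQ 62798 Q62798 (allL N62798 (tt N33653 (iv1 F183716)) (tt N33637 (iv0 D117325)) (tt N33650 F190255) (tt N45220 F324747) (tt N74797 F324748) (tt N40894 F318110) (tt N40895 F318111) (tt N33651 F190256))
theorem Q62800 : ∀ i, i < 62800 → P i := stepQ 62799 Q62799 (allL N62799 (tt N33637 (iv1 D117326)) (tt N33653 F183711) (tt N33651 F190252) (tt N41998 F230843) (tt N78888 F335163) (tt N40940 F316980) (tt N34350 F232919) (tt N33650 F190253))
theorem Q62801 : ∀ i, i < 62801 → P i := stepQ 62800 Q62800 (allL N62800 (tt N33651 (iv1 F183717)) (tt N33650 F183718) (tt N33653 F183713) (tt N41876 F183714) (tt N98721 (iv4 F422012)) (tt N79100 (iv5 F252553)) (tt N41746 F183715) (tt N33637 (iv7 D117327)))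
theorem Q62802 : ∀ i, i < 62802 → P i := stepQ 62801 Q62801 (allL N62801 (tt N74858 (iv1 F229659)) (tt N74856 (iv0 F229656)) (tt N41753 F183719) (tt N97899 (iv3 F418711)) (tt N33638 (iv4 D117328)) (tt N98262 (iv5 F420230)) (tt N74900 F335970) (tt N41749 F183720))
theorem Q62803 : ∀ i, i < 62803 → P i := stepQ 62802 Q62802 (allL N62802 (tt N60951 F349028) (tt N55758 F349030) (tt N41754 F183721) (tt N39083 F336459) (tt N74900 (iv4 F335971)) (tt N34000 F183723) (tt N33638 (iv6 D117329)) (tt N60950 (iv7 F336817)))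
theorem Q62804 : ∀ i, i < 62804 → P i := stepQ 62803 Q62803 (allL N62803 (tt N74855 (iv1 F229655)) (tt N66656 (iv0 F204896)) (tt N41758 F183729) (tt N99804 D202942) (tt N33640 (iv4 D117332)) (tt N75541 (iv5 F231788)) (tt N98550 F421292) (tt N41756 F183730))
theorem Q62805 : ∀ i, i < 62805 → P i := stepQ 62804 Q62804 (allL N62804 (tt N99805 D202943) (tt N97054 (iv0 F421295)) (tt N41759 F183731) (tt N66625 (iv3 F204746)) (tt N98550 (iv4 F421294)) (tt N43069 F183732) (tt N33640 (iv6 D117333)) (tt N99806 D202944))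
theorem Q62806 : ∀ i, i < 62806 → P i := stepQ 62805 Q62805 (allL N62805 (tt N41739 (iv1 F183734)) (tt N33641 (iv0 D117334)) (tt N41760 (iv2 F183735)) (tt N39031 F327881) (tt N36250 F183733) (tt N75544 (iv5 F231798)) (tt N70599 F327882) (tt N39027 F327883))
theorem Q62807 : ∀ i, i < 62807 → P i := stepQ 62806 Q62806 (allL N62806 (tt N33641 (iv1 D117335)) (tt N41739 F183737) (tt N39027 F327873) (tt N68315 F327874) (tt N36252 F183739) (tt N75543 (iv5 F231791)) (tt N39025 F327875) (tt N41760 F183738))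
theorem Q62808 : ∀ i, i < 62808 → P i := stepQ 62807 Q62807 (allL N62807 (tt N99807 D202945) (tt N99808 D202946) (tt N99809 D202947) (tt N33641 (iv3 D117336)) (tt N35839 F183741) (tt N82917 (iv5 F356634)) (tt N86742 (iv6 F377048)) (tt N41761 F183742))
theorem Q62809 : ∀ i, i < 62809 → P i := stepQ 62808 Q62808 (allL N62808 (tt N99794 (iv1 F426247)) (tt N92592 (iv0 F397538)) (tt N41791 F183743) (tt N82917 F356635) (tt N41742 F183745) (tt N33641 (iv5 D117337)) (tt N74955 (iv6 F356644)) (tt N41762 F183744))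
theorem Q62810 : ∀ i, i < 62810 → P i := stepQ 62809 Q62809 (allL N62809 (tt N99810 D202948) (tt N85006 (iv0 F371350)) (tt N50254 F183746) (tt N86742 (iv3 F377047)) (tt N33642 F183747) (tt N85923 (iv5 F374482)) (tt N33641 (iv6 D117338)) (tt N98754 (iv7 F422165)))
theorem Q62811 : ∀ i, i < 62811 → P i := stepQ 62810 Q62810 (allL N62810 (tt N50255 (iv1 F183754)) (tt N33642 (iv0 D117339)) (tt N50252 (iv2 F283594)) (tt N99811 D202949) (tt N85020 F386963) (tt N86823 F377308) (tt N85018 (iv6 F386961)) (tt N50253 F283593))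
theorem Q62812 : ∀ i, i < 62812 → P i := stepQ 62811 Q62811 (allL N62811 (tt N33642 (iv1 D117340)) (tt N50255 F183748) (tt N50253 F283591) (tt N50275 (iv3 F251971)) (tt N98546 (iv4 F421278)) (tt N51282 (iv5 F183749)) (tt N61550 (iv6 F368488)) (tt N50252 (iv7 F283592)))
theorem Q62813 : ∀ i, i < 62813 → P i := stepQ 62812 Q62812 (allL N62812 (tt N50253 (iv1 F183755)) (tt N50252 F183756) (tt N50255 F183750) (tt N55716 F183751) (tt N98754 (iv4 F422164)) (tt N50245 F183752) (tt N41766 F183753) (tt N33642 (iv7 D117341)))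
theorem Q62814 : ∀ i, i < 62814 → P i := stepQ 62813 Q62813 (allL N62813 (tt N33643 (iv1 D117342)) (tt N33645 F183757) (tt N36306 (iv2 F183760)) (tt N71790 F356503) (tt N36302 F183759) (tt N99795 (iv5 F426250)) (tt N99812 D202950) (tt N41769 F183758))
theorem Q62815 : ∀ i, i < 62815 → P i := stepQ 62814 Q62814 (allL N62814 (tt N41782 (iv1 F183772)) (tt N33644 (iv0 D117346)) (tt N34353 F232360) (tt N41903 F232361) (tt N79058 (iv4 F338148)) (tt N43900 F308170) (tt N34349 F232362) (tt N41780 (iv7 F232553)))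
theorem Q62816 : ∀ i, i < 62816 → P i := stepQ 62815 Q62815 (allL N62815 (tt N82335 F360654) (tt N98346 (iv0 F420584)) (tt N73822 F360657) (tt N33645 (iv3 D117349)) (tt N64214 (iv4 F193615)) (tt N98324 (iv5 F420502)) (tt N62723 F331612) (tt N41777 F183775))
theorem Q62817 : ∀ i, i < 62817 → P i := stepQ 62816 Q62816 (allL N62816 (tt N74862 (iv1 F229674)) (tt N63767 (iv0 F314415)) (tt N41771 F183776) (tt N98324 (iv3 F420501)) (tt N75544 (iv4 F231799)) (tt N33645 (iv5 D117350)) (tt N99813 D202951) (tt N41778 F183777))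
theorem Q62818 : ∀ i, i < 62818 → P i := stepQ 62817 Q62817 (allL N62817 (tt N92216 F396307) (tt N82577 (iv0 F282920)) (tt N41772 F183778) (tt N62723 F331611) (tt N33646 F183779) (tt N68430 F309949) (tt N33645 (iv6 D117351)) (tt N92219 (iv7 F396323)))
theorem Q62819 : ∀ i, i < 62819 → P i := stepQ 62818 Q62818 (allL N62818 (tt N61588 F342077) (tt N69526 (iv0 F346150)) (tt N46023 F346138) (tt N33647 (iv3 D117355)) (tt N41976 F183788) (tt N43272 (iv5 F346140)) (tt N46012 F346139) (tt N41783 F183789))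
theorem Q62820 : ∀ i, i < 62820 → P i := stepQ 62819 Q62819 (allL N62819 (tt N79058 F317049) (tt N42450 F317050) (tt N41788 F183790) (tt N46012 F337880) (tt N66658 (iv4 F204902)) (tt N99814 D202952) (tt N33647 (iv6 D117356)) (tt N46024 F337881))
theorem Q62821 : ∀ i, i < 62821 → P i := stepQ 62820 Q62820 (allL N62820 (tt N41742 (iv1 F183792)) (tt N33648 (iv0 D117357)) (tt N41790 (iv2 F183793)) (tt N76568 F366501) (tt N74895 (iv4 F335934)) (tt N33769 F183791) (tt N74896 F335930) (tt N41789 (iv7 F183794)))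
theorem Q62822 : ∀ i, i < 62822 → P i := stepQ 62821 Q62821 (allL N62821 (tt N33648 (iv1 D117358)) (tt N41742 F183795) (tt N41789 (iv2 F183798)) (tt N85303 (iv3 F372218)) (tt N98262 (iv4 F420229)) (tt N33770 F183797) (tt N99815 D202953) (tt N41790 F183796))
theorem Q62823 : ∀ i, i < 62823 → P i := stepQ 62822 Q62822 (allL N62822 (tt N92592 F397539) (tt N99794 (iv0 F426246)) (tt N41762 F183799) (tt N99816 D202954) (tt N33648 (iv4 D117359)) (tt N41739 F183800) (tt N62796 (iv6 F356765)) (tt N41791 F183801))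
theorem Q62824 : ∀ i, i < 62824 → P i := stepQ 62823 Q62823 (allL N62823 (tt N33649 (iv1 D117362)) (tt N98721 (iv0 F422013)) (tt N61687 F349124) (tt N47006 F323488) (tt N66663 (iv4 F339436)) (tt N61686 F323489) (tt N44007 F244274) (tt N47513 F323490))
theorem Q62825 : ∀ i, i < 62825 → P i := stepQ 62824 Q62824 (allL N62824 (tt N61687 (iv1 F349123)) (tt N47513 F323485) (tt N98721 (iv2 F422009)) (tt N74848 (iv3 F348981)) (tt N33653 F183802) (tt N61721 (iv5 F339428)) (tt N41796 F183803) (tt N33649 (iv7 D117364)))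
theorem Q62826 : ∀ i, i < 62826 → P i := stepQ 62825 Q62825 (allL N62825 (tt N42000 F242772) (tt N41992 F242773) (tt N41997 F230844) (tt N33650 (iv3 D117366)) (tt N61438 (iv4 F331599)) (tt N40905 F319178) (tt N40909 F319179) (tt N41998 F230845))
theorem Q62827 : ∀ i, i < 62827 → P i := stepQ 62826 Q62826 (allL N62826 (tt N61506 F355825) (tt N99812 (iv0 F426346)) (tt N74797 F339433) (tt N61520 (iv3 F331592)) (tt N33650 (iv4 D117367)) (tt N70690 (iv5 F335173)) (tt N40943 F319180) (tt N78888 (iv7 F335166)))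
theorem Q62828 : ∀ i, i < 62828 → P i := stepQ 62827 Q62827 (allL N62827 (tt N41810 F259463) (tt N76443 F324742) (tt N76445 F324743) (tt N33651 (iv3 D117371)) (tt N45221 F324744) (tt N78107 F331620) (tt N44003 F232920) (tt N45220 F324745))
theorem Q62829 : ∀ i, i < 62829 → P i := stepQ 62828 Q62828 (allL N62828 (tt N99812 F426347) (tt N61506 (iv0 F335883)) (tt N78888 (iv2 F335165)) (tt N74799 (iv3 F339791)) (tt N33651 (iv4 D117372)) (tt N98737 (iv5 F422089)) (tt N44004 F232921) (tt N74797 F339787))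
theorem Q62830 : ∀ i, i < 62830 → P i := stepQ 62829 Q62829 (allL N62829 (tt N40833 F326892) (tt N40939 F316972) (tt N40940 F316973) (tt N78107 F340095) (tt N38555 F340096) (tt N33651 (iv5 D117373)) (tt N40970 F316974) (tt N40894 F316975))
theorem Q62831 : ∀ i, i < 62831 → P i := stepQ 62830 Q62830 (allL N62830 (tt N79100 (iv1 F252555)) (tt N33652 (iv0 D117375)) (tt N41004 (iv2 F312229)) (tt N87090 F378344) (tt N69918 (iv4 F359680)) (tt N78938 F359682) (tt N40976 F310045) (tt N78937 (iv7 F314753)))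
theorem Q62832 : ∀ i, i < 62832 → P i := stepQ 62831 Q62831 (allL N62831 (tt N33652 (iv1 D117376)) (tt N79100 F252554) (tt N78937 (iv2 F314752)) (tt N72251 (iv3 F329257)) (tt N69749 F359684) (tt N78933 F334938) (tt N76161 F356848) (tt N41004 F314569))
theorem Q62833 : ∀ i, i < 62833 → P i := stepQ 62832 Q62832 (allL N62832 (tt N99817 D202955) (tt N78684 (iv0 F352605)) (tt N79099 (iv2 F252544)) (tt N71804 F352592) (tt N33652 (iv4 D117377)) (tt N71803 (iv5 F352603)) (tt N33655 F183807) (tt N99818 D202956))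
theorem Q62834 : ∀ i, i < 62834 → P i := stepQ 62833 Q62833 (allL N62833 (tt N78937 (iv1 F314751)) (tt N41004 F314567) (tt N79100 (iv2 F252551)) (tt N33660 F183808) (tt N99818 (iv4 F426371)) (tt N33653 F183809) (tt N76000 (iv6 F235357)) (tt N33652 (iv7 D117378)))
theorem Q62835 : ∀ i, i < 62835 → P i := stepQ 62834 Q62834 (allL N62834 (tt N42808 F306385) (tt N33726 (iv0 F312207)) (tt N64463 (iv2 F197275)) (tt N33655 (iv3 D117379)) (tt N33661 F183810) (tt N43847 F306387) (tt N71804 (iv6 F352604)) (tt N42254 F310212))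
theorem Q62836 : ∀ i, i < 62836 → P i := stepQ 62835 Q62835 (allL N62835 (tt N33687 F183984) (tt N33656 (iv0 D117380)) (tt N33689 F183985) (tt N76443 (iv3 F323405)) (tt N38550 F331613) (tt N75995 (iv5 F235305)) (tt N33681 F183986) (tt N33682 F183987))
theorem Q62837 : ∀ i, i < 62837 → P i := stepQ 62836 Q62836 (allL N62836 (tt N33689 (iv1 F183818)) (tt N33682 F183816) (tt N33656 (iv2 D117382)) (tt N41935 F183814) (tt N70053 F330250) (tt N40786 F320614) (tt N40788 F320615) (tt N33687 F183990))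
theorem Q62838 : ∀ i, i < 62838 → P i := stepQ 62837 Q62837 (allL N62837 (tt N71805 (iv1 F352616)) (tt N70960 (iv0 F328458)) (tt N70053 F330259) (tt N99542 (iv3 F425067)) (tt N33656 (iv4 D117383)) (tt N69184 F359671) (tt N40822 F320616) (tt N41937 F183819))
theorem Q62839 : ∀ i, i < 62839 → P i := stepQ 62838 Q62838 (allL N62838 (tt N74393 (iv1 F230426)) (tt N64017 (iv0 F339809)) (tt N42018 (iv2 F190209)) (tt N99560 (iv3 F425161)) (tt N33657 (iv4 D117393)) (tt N55007 (iv5 F336315)) (tt N43832 (iv6 F190181)) (tt N41936 F183846))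
theorem Q62840 : ∀ i, i < 62840 → P i := stepQ 62839 Q62839 (allL N62839 (tt N41990 F190443) (tt N42023 (iv0 F190444)) (tt N42021 F230416) (tt N33658 (iv3 D117398)) (tt N98300 (iv4 F420401)) (tt N41940 F309626) (tt N87921 (iv6 F381133)) (tt N41041 F315573))
theorem Q62841 : ∀ i, i < 62841 → P i := stepQ 62840 Q62840 (allL N62840 (tt N69958 F352589) (tt N69966 F352591) (tt N99819 D202957) (tt N33659 (iv3 D117400)) (tt N71804 F339498) (tt N41938 F310213) (tt N33661 F183868) (tt N78704 F310214))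
theorem Q62842 : ∀ i, i < 62842 → P i := stepQ 62841 Q62841 (allL N62841 (tt N33718 (iv1 F308138)) (tt N33696 (iv0 F308214)) (tt N33661 (iv2 D117403)) (tt N41942 F183874) (tt N64463 (iv4 F197277)) (tt N46579 F183875) (tt N99819 (iv6 F426377)) (tt N33717 F307803))
theorem Q62843 : ∀ i, i < 62843 → P i := stepQ 62842 Q62842 (allL N62842 (tt N63949 (iv1 F355613)) (tt N99820 D202958) (tt N40972 F183876) (tt N33662 (iv3 D117404)) (tt N41944 F183877) (tt N70961 (iv5 F365529)) (tt N99821 D202959) (tt N33699 F183878))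
theorem Q62844 : ∀ i, i < 62844 → P i := stepQ 62843 Q62843 (allL N62843 (tt N99822 D202960) (tt N99823 D202961) (tt N33738 F183879) (tt N99821 (iv3 F426385)) (tt N33663 F183880) (tt N99824 D202962) (tt N33662 (iv6 D117405)) (tt N99825 D202963))
theorem Q62845 : ∀ i, i < 62845 → P i := stepQ 62844 Q62844 (allL N62844 (tt N33747 (iv1 F183886)) (tt N33663 (iv0 D117406)) (tt N33748 F237563) (tt N40192 F316827) (tt N99826 D202964) (tt N40183 F316828) (tt N68288 F209472) (tt N33749 F237564))
theorem Q62846 : ∀ i, i < 62846 → P i := stepQ 62845 Q62845 (allL N62845 (tt N33663 (iv1 D117407)) (tt N33747 F183881) (tt N33749 F237566) (tt N72377 F319960) (tt N69959 F352597) (tt N40178 F319961) (tt N69958 (iv6 F352596)) (tt N33748 F237567))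
theorem Q62847 : ∀ i, i < 62847 → P i := stepQ 62846 Q62846 (allL N62846 (tt N33749 (iv1 F183887)) (tt N33748 F183888) (tt N33747 F183882) (tt N41949 F183883) (tt N99825 (iv4 F426403)) (tt N43363 F183884) (tt N33703 F183885) (tt N33663 (iv7 D117408)))
theorem Q62848 : ∀ i, i < 62848 → P i := stepQ 62847 Q62847 (allL N62847 (tt N33739 F232272) (tt N78710 F250338) (tt N41732 F183889) (tt N41991 F183890) (tt N56135 F340857) (tt N34061 F183891) (tt N33664 (iv6 D117409)) (tt N72375 (iv7 F310043)))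
theorem Q62849 : ∀ i, i < 62849 → P i := stepQ 62848 Q62848 (allL N62848 (tt N64212 (iv1 F193609)) (tt N79084 F252193) (tt N41768 F183892) (tt N99827 D202965) (tt N33665 (iv4 D117410)) (tt N72186 (iv5 F330622)) (tt N99828 D202966) (tt N55717 F183893))
theorem Q62850 : ∀ i, i < 62850 → P i := stepQ 62849 Q62849 (allL N62849 (tt N60837 (iv1 F363647)) (tt N66144 F319937) (tt N41765 F183894) (tt N38144 F319938) (tt N99828 (iv4 F426417)) (tt N41740 F183895) (tt N33665 (iv6 D117411)) (tt N68343 F319939))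
theorem Q62851 : ∀ i, i < 62851 → P i := stepQ 62850 Q62850 (allL N62850 (tt N99199 F423671) (tt N99829 D202967) (tt N99830 D202968) (tt N33666 (iv3 D117412)) (tt N33676 F183896) (tt N99831 D202969) (tt N99832 D202970) (tt N74816 (iv7 F229275)))
theorem Q62852 : ∀ i, i < 62852 → P i := stepQ 62851 Q62851 (allL N62851 (tt N56068 F183899) (tt N56056 F183900) (tt N41809 F183897) (tt N99831 (iv3 F426432)) (tt N99833 D202971) (tt N33666 (iv5 D117413)) (tt N42925 F320851) (tt N44345 F320852))
theorem Q62853 : ∀ i, i < 62853 → P i := stepQ 62852 Q62852 (allL N62852 (tt N55182 (iv1 F315421)) (tt N55185 (iv0 F319861)) (tt N41803 F183901) (tt N99832 (iv3 F426436)) (tt N33667 F183902) (tt N82222 F338208) (tt N33666 (iv6 D117414)) (tt N55183 (iv7 F319868)))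
theorem Q62854 : ∀ i, i < 62854 → P i := stepQ 62853 Q62853 (allL N62853 (tt N41804 (iv1 F183909)) (tt N33667 (iv0 D117415)) (tt N41802 F247810) (tt N41744 F247775) (tt N53333 F314937) (tt N80150 F355208) (tt N48807 F314938) (tt N41798 F243237))
theorem Q62855 : ∀ i, i < 62855 → P i := stepQ 62854 Q62854 (allL N62854 (tt N33667 (iv1 D117416)) (tt N41804 F183904) (tt N41798 F243226) (tt N61402 (iv3 F317645)) (tt N74966 F353428) (tt N42222 (iv5 F183905)) (tt N74965 (iv6 F353430)) (tt N41802 F247806))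
theorem Q62856 : ∀ i, i < 62856 → P i := stepQ 62855 Q62855 (allL N62855 (tt N41798 F247808) (tt N41802 F183911) (tt N41804 F183906) (tt N33681 F183907) (tt N55183 (iv4 F319867)) (tt N41746 F183908) (tt N76443 (iv6 F323406)) (tt N33667 (iv7 D117417)))
theorem Q62857 : ∀ i, i < 62857 → P i := stepQ 62856 Q62856 (allL N62856 (tt N39771 F329160) (tt N92245 F396449) (tt N99834 D202972) (tt N33674 (iv3 D117431)) (tt N41374 F183937) (tt N71696 F329161) (tt N99835 D202973) (tt N74783 (iv7 F229153)))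
theorem Q62858 : ∀ i, i < 62858 → P i := stepQ 62857 Q62857 (allL N62857 (tt N44885 F183939) (tt N80012 (iv0 F259410)) (tt N78112 (iv2 F338234)) (tt N99835 (iv3 F426450)) (tt N41372 F183938) (tt N71700 F329163) (tt N33674 (iv6 D117433)) (tt N82135 (iv7 F278771)))
theorem Q62859 : ∀ i, i < 62859 → P i := stepQ 62858 Q62858 (allL N62858 (tt N40965 F183941) (tt N38557 F343206) (tt N90945 (iv2 F391328)) (tt N33675 (iv3 D117434)) (tt N41909 F183940) (tt N71105 F328432) (tt N64810 (iv6 F341506)) (tt N78113 F341448))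
theorem Q62860 : ∀ i, i < 62860 → P i := stepQ 62859 Q62859 (allL N62859 (tt N74390 F338166) (tt N74391 F338169) (tt N74784 (iv2 F229154)) (tt N64810 F341507) (tt N66642 (iv4 F204827)) (tt N71106 F328433) (tt N33675 (iv6 D117436)) (tt N95922 (iv7 F410276)))
theorem Q62861 : ∀ i, i < 62861 → P i := stepQ 62860 Q62860 (allL N62860 (tt N78694 F360624) (tt N33676 (iv0 D117437)) (tt N62513 (iv2 F359455)) (tt N54802 F359451) (tt N62500 F359453) (tt N92479 (iv5 F397122)) (tt N75050 F359454) (tt N77653 (iv7 F359452)))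
theorem Q62862 : ∀ i, i < 62862 → P i := stepQ 62861 Q62861 (allL N62861 (tt N33676 (iv1 D117438)) (tt N78694 F360625) (tt N77653 F359457) (tt N99836 D202974) (tt N62514 (iv4 F359459)) (tt N99837 D202975) (tt N63751 (iv6 F359460)) (tt N62513 F359456))
theorem Q62863 : ∀ i, i < 62863 → P i := stepQ 62862 Q62862 (allL N62862 (tt N62513 (iv1 F359458)) (tt N77653 F353341) (tt N33676 (iv2 D117439)) (tt N75381 F360601) (tt N99830 (iv4 F426428)) (tt N89362 (iv5 F386245)) (tt N82839 (iv6 F360603)) (tt N78694 (iv7 F360623)))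
theorem Q62864 : ∀ i, i < 62864 → P i := stepQ 62863 Q62863 (allL N62863 (tt N89290 F385947) (tt N91006 F391548) (tt N89362 (iv2 F386243)) (tt N33677 F183942) (tt N92421 (iv4 F396957)) (tt N33676 (iv5 D117440)) (tt N39743 F328423) (tt N39181 F328424))
theorem Q62865 : ∀ i, i < 62865 → P i := stepQ 62864 Q62864 (allL N62864 (tt N49446 F360632) (tt N82953 F360633) (tt N82839 F360604) (tt N33678 F183943) (tt N99832 (iv4 F426437)) (tt N54729 (iv5 F360605)) (tt N33676 (iv6 D117441)) (tt N78691 (iv7 F360606)))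
theorem Q62866 : ∀ i, i < 62866 → P i := stepQ 62865 Q62865 (allL N62865 (tt N77653 F353340) (tt N62513 F349445) (tt N78694 (iv2 F360609)) (tt N33679 F183944) (tt N74816 (iv4 F229274)) (tt N39181 F329158) (tt N75126 F360608) (tt N33676 (iv7 D117442)))
theorem Q62867 : ∀ i, i < 62867 → P i := stepQ 62866 Q62866 (allL N62866 (tt N33678 (iv1 D117448)) (tt N51683 F321335) (tt N74808 (iv2 F319320)) (tt N34886 F321336) (tt N66644 (iv4 F356977)) (tt N42794 F321337) (tt N99838 D202976) (tt N34884 F321338))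
theorem Q62868 : ∀ i, i < 62868 → P i := stepQ 62867 Q62867 (allL N62867 (tt N74808 F229235) (tt N34884 F321344) (tt N51683 F321345) (tt N78691 (iv3 F347306)) (tt N33681 F183951) (tt N51682 (iv5 F343877)) (tt N38550 F331615) (tt N33678 (iv7 D117450)))
theorem Q62869 : ∀ i, i < 62869 → P i := stepQ 62868 Q62868 (allL N62868 (tt N38549 F329076) (tt N38553 F329077) (tt N33686 F183952) (tt N75126 (iv3 F360610)) (tt N33682 F183953) (tt N39182 F329078) (tt N33679 (iv6 D117451)) (tt N38550 F329079))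
theorem Q62870 : ∀ i, i < 62870 → P i := stepQ 62869 Q62869 (allL N62869 (tt N49416 (iv1 F337257)) (tt N49724 (iv0 F329752)) (tt N41825 F183954) (tt N64475 F310779) (tt N33680 (iv4 D117452)) (tt N46877 F310780) (tt N45285 F310781) (tt N49695 (iv7 F337248)))
theorem Q62871 : ∀ i, i < 62871 → P i := stepQ 62870 Q62870 (allL N62870 (tt N42318 F183957) (tt N42308 (iv0 F183958)) (tt N41826 F183955) (tt N41989 F242999) (tt N99839 D202977) (tt N33680 (iv5 D117453)) (tt N99840 D202978) (tt N42316 F183956))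
theorem Q62872 : ∀ i, i < 62872 → P i := stepQ 62871 Q62871 (allL N62871 (tt N67581 F326744) (tt N93011 F399112) (tt N50900 F183965) (tt N37811 F326745) (tt N33684 F183966) (tt N41119 F326746) (tt N33683 (iv6 D117457)) (tt N37688 F326747))
theorem Q62873 : ∀ i, i < 62873 → P i := stepQ 62872 Q62872 (allL N62872 (tt N33684 (iv1 D117459)) (tt N38120 F326335) (tt N50893 F183969) (tt N85005 (iv3 F371346)) (tt N38113 F326336) (tt N50070 (iv5 F183968)) (tt N70837 F326337) (tt N50899 F183970))
theorem Q62874 : ∀ i, i < 62874 → P i := stepQ 62873 Q62873 (allL N62873 (tt N75381 (iv1 F360602)) (tt N33685 (iv0 D117461)) (tt N91753 (iv2 F394313)) (tt N99841 D202979) (tt N99842 D202980) (tt N99843 D202981) (tt N99844 D202982) (tt N91752 F394314))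
theorem Q62875 : ∀ i, i < 62875 → P i := stepQ 62874 Q62874 (allL N62874 (tt N33685 (iv1 D117462)) (tt N75381 F350045) (tt N91752 F394312) (tt N40934 (iv3 F222935)) (tt N99577 (iv4 F425249)) (tt N99845 D202983) (tt N82186 (iv6 F353933)) (tt N91753 (iv7 F394311)))
theorem Q62876 : ∀ i, i < 62876 → P i := stepQ 62875 Q62875 (allL N62875 (tt N91753 (iv1 F394307)) (tt N91752 F394306) (tt N33685 (iv2 D117463)) (tt N78694 F360621) (tt N75382 (iv4 F316680)) (tt N39708 F329159) (tt N78692 (iv6 F360616)) (tt N75381 F350044))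
theorem Q62877 : ∀ i, i < 62877 → P i := stepQ 62876 Q62876 (allL N62876 (tt N47584 F339702) (tt N87825 F380690) (tt N78692 F360614) (tt N33686 F183978) (tt N75753 (iv4 F233663)) (tt N39716 F329082) (tt N33685 (iv6 D117465)) (tt N51684 F339703))
theorem Q62878 : ∀ i, i < 62878 → P i := stepQ 62877 Q62877 (allL N62877 (tt N33686 (iv1 D117468)) (tt N38550 F329412) (tt N38553 F329413) (tt N96241 (iv3 F411699)) (tt N62727 (iv4 F228933)) (tt N38541 F329414) (tt N99846 D202984) (tt N38549 F329415))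
theorem Q62879 : ∀ i, i < 62879 → P i := stepQ 62878 Q62878 (allL N62878 (tt N38553 F329417) (tt N38549 F329418) (tt N38550 F329419) (tt N51684 (iv3 F339704)) (tt N33689 F183979) (tt N39725 F329420) (tt N51683 F339707) (tt N33686 (iv7 D117470)))
theorem Q62880 : ∀ i, i < 62880 → P i := stepQ 62879 Q62879 (allL N62879 (tt N70960 F339490) (tt N71805 F339494) (tt N41937 F183992) (tt N69828 F331621) (tt N33687 (iv4 D117478)) (tt N69889 (iv5 F331619)) (tt N99847 D202985) (tt N70053 F339495))
theorem Q62881 : ∀ i, i < 62881 → P i := stepQ 62880 Q62880 (allL N62880 (tt N40813 F318659) (tt N40812 F318660) (tt N40814 F318661) (tt N42019 (iv3 F190207)) (tt N47562 F334157) (tt N33687 (iv5 D117479)) (tt N34187 (iv6 F183982)) (tt N40786 F318662))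
theorem Q62882 : ∀ i, i < 62882 → P i := stepQ 62881 Q62881 (allL N62881 (tt N34165 (iv1 F183997)) (tt N34169 F183996) (tt N34246 F183993) (tt N42020 (iv3 F190155)) (tt N99847 (iv4 F426504)) (tt N62975 (iv5 F184255)) (tt N33687 (iv6 D117480)) (tt N34245 (iv7 F183995)))
theorem Q62883 : ∀ i, i < 62883 → P i := stepQ 62882 Q62882 (allL N62882 (tt N33688 (iv1 D117482)) (tt N75995 F235307) (tt N41938 F188828) (tt N42021 (iv3 F230417)) (tt N80909 F334102) (tt N99819 (iv5 F426376)) (tt N42264 F321817) (tt N63708 F188827))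
theorem Q62884 : ∀ i, i < 62884 → P i := stepQ 62883 Q62883 (allL N62883 (tt N99848 D202986) (tt N99849 D202987) (tt N47419 F332286) (tt N99850 D202988) (tt N33688 (iv4 D117483)) (tt N38634 F331616) (tt N33691 F183998) (tt N99851 D202989))
theorem Q62885 : ∀ i, i < 62885 → P i := stepQ 62884 Q62884 (allL N62884 (tt N41938 (iv1 F186346)) (tt N63708 (iv0 F188825)) (tt N75995 (iv2 F235304)) (tt N41941 F183999) (tt N99851 (iv4 F426531)) (tt N33689 F184000) (tt N41929 F184001) (tt N33688 (iv7 D117484)))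
theorem Q62886 : ∀ i, i < 62886 → P i := stepQ 62885 Q62885 (allL N62885 (tt N45291 F184007) (tt N36574 F184008) (tt N34585 F184003) (tt N43228 F184004) (tt N33690 (iv4 D117485)) (tt N36559 F184005) (tt N70068 (iv6 F334117)) (tt N34587 F184006))
theorem Q62887 : ∀ i, i < 62887 → P i := stepQ 62886 Q62886 (allL N62886 (tt N40825 F313912) (tt N88439 (iv0 F383056)) (tt N34586 F184009) (tt N42025 F184010) (tt N70068 F334125) (tt N34114 F184011) (tt N33690 (iv6 D117486)) (tt N80495 (iv7 F340120)))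
theorem Q62888 : ∀ i, i < 62888 → P i := stepQ 62887 Q62887 (allL N62887 (tt N42042 (iv1 F305673)) (tt N42114 (iv0 F305676)) (tt N42094 F305627) (tt N33691 (iv3 D117488)) (tt N33773 F305628) (tt N46830 F184019) (tt N99850 (iv6 F426525)) (tt N41933 F184020))
theorem Q62889 : ∀ i, i < 62889 → P i := stepQ 62888 Q62888 (allL N62888 (tt N33695 (iv1 F184023)) (tt N33692 (iv0 D117489)) (tt N33706 (iv2 F184022)) (tt N64382 (iv3 F353562)) (tt N60862 F184021) (tt N39162 F329156) (tt N99852 D202990) (tt N33707 F184024))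
theorem Q62890 : ∀ i, i < 62890 → P i := stepQ 62889 Q62889 (allL N62889 (tt N76929 F314962) (tt N76928 F314963) (tt N75377 F314964) (tt N33692 (iv3 D117490)) (tt N41849 F184025) (tt N99853 D202991) (tt N75374 F314965) (tt N33714 F184026))
theorem Q62891 : ∀ i, i < 62891 → P i := stepQ 62890 Q62890 (allL N62890 (tt N39261 F328031) (tt N39576 (iv0 F328426)) (tt N33709 F184027) (tt N99853 (iv3 F426540)) (tt N93950 (iv4 F402558)) (tt N33692 (iv5 D117491)) (tt N39422 F328032) (tt N33715 F184028))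
theorem Q62892 : ∀ i, i < 62892 → P i := stepQ 62891 Q62891 (allL N62891 (tt N99854 D202992) (tt N74495 F228025) (tt N33710 F184031) (tt N75374 (iv3 F348002)) (tt N33693 F184032) (tt N99855 D202993) (tt N33692 (iv6 D117492)) (tt N64423 F348003))
theorem Q62893 : ∀ i, i < 62893 → P i := stepQ 62892 Q62892 (allL N62892 (tt N33693 (iv1 D117493)) (tt N33713 F184033) (tt N33712 (iv2 F184035)) (tt N42033 F242922) (tt N99856 D202994) (tt N82118 (iv5 F278694)) (tt N99857 D202995) (tt N33711 F184034))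
theorem Q62894 : ∀ i, i < 62894 → P i := stepQ 62893 Q62893 (allL N62893 (tt N63007 F349447) (tt N63006 F349459) (tt N76925 (iv2 F349458)) (tt N33695 (iv3 D117496)) (tt N56066 F184049) (tt N99858 D202996) (tt N64420 F349461) (tt N33708 F184050))
theorem Q62895 : ∀ i, i < 62895 → P i := stepQ 62894 Q62894 (allL N62894 (tt N39576 (iv1 F328427)) (tt N39261 F328029) (tt N33715 F184051) (tt N99858 (iv3 F426574)) (tt N69031 F328030) (tt N33695 (iv5 D117497)) (tt N64422 F338810) (tt N33709 F184052))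
theorem Q62896 : ∀ i, i < 62896 → P i := stepQ 62895 Q62895 (allL N62895 (tt N84142 (iv1 F368302)) (tt N84141 F368291) (tt N84143 (iv2 F368307)) (tt N33697 (iv3 D117501)) (tt N36323 F184065) (tt N54406 F359477) (tt N84150 (iv6 F368342)) (tt N33723 F184066))
theorem Q62897 : ∀ i, i < 62897 → P i := stepQ 62896 Q62896 (allL N62896 (tt N41312 F184069) (tt N46102 F184070) (tt N33721 F184067) (tt N54406 (iv3 F359478)) (tt N38239 F327696) (tt N33697 (iv5 D117502)) (tt N58528 F327697) (tt N33725 F184068))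
theorem Q62898 : ∀ i, i < 62898 → P i := stepQ 62897 Q62897 (allL N62897 (tt N42228 F243184) (tt N99856 (iv0 F426567)) (tt N33722 F184071) (tt N84150 (iv3 F368340)) (tt N36322 F184072) (tt N99859 D202997) (tt N33697 (iv6 D117503)) (tt N80460 (iv7 F337301)))
theorem Q62899 : ∀ i, i < 62899 → P i := stepQ 62898 Q62898 (allL N62898 (tt N71783 F338497) (tt N71786 F347721) (tt N64667 (iv2 F338495)) (tt N33698 (iv3 D117504)) (tt N55798 (iv4 F314507)) (tt N99860 D202998) (tt N55797 F338494) (tt N33719 F184073))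
theorem Q62900 : ∀ i, i < 62900 → P i := stepQ 62899 Q62899 (allL N62899 (tt N46102 F184076) (tt N41312 F184077) (tt N33725 F184074) (tt N99860 (iv3 F426585)) (tt N38238 F327694) (tt N33698 (iv5 D117505)) (tt N39852 F327695) (tt N33721 F184075))
theorem Q62901 : ∀ i, i < 62901 → P i := stepQ 62900 Q62900 (allL N62900 (tt N64463 F338488) (tt N42254 F252076) (tt N33726 F184078) (tt N55797 (iv3 F338489)) (tt N52180 (iv4 F309681)) (tt N42755 F314529) (tt N33698 (iv6 D117506)) (tt N42808 F314530))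
theorem Q62902 : ∀ i, i < 62902 → P i := stepQ 62901 Q62901 (allL N62901 (tt N40972 (iv1 F184079)) (tt N33699 (iv0 D117507)) (tt N99820 (iv2 F426383)) (tt N63953 F353584) (tt N82460 (iv4 F355560)) (tt N99861 D202999) (tt N99862 D203000) (tt N63949 (iv7 F353585)))
theorem Q62903 : ∀ i, i < 62903 → P i := stepQ 62902 Q62902 (allL N62902 (tt N33699 (iv1 D117508)) (tt N40972 F184083) (tt N63949 F353586) (tt N43451 F353587) (tt N79263 F353588) (tt N99863 D203001) (tt N43449 F353589) (tt N99820 (iv7 F426380)))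
theorem Q62904 : ∀ i, i < 62904 → P i := stepQ 62903 Q62903 (allL N62903 (tt N99820 (iv1 F426379)) (tt N63949 (iv0 F355612)) (tt N33699 (iv2 D117509)) (tt N33729 F184080) (tt N42045 F184081) (tt N71807 (iv5 F365528)) (tt N99864 D203002) (tt N40972 F184082))
theorem Q62905 : ∀ i, i < 62905 → P i := stepQ 62904 Q62904 (allL N62904 (tt N96269 (iv1 F426619)) (tt N84122 (iv0 F369513)) (tt N99864 (iv2 F426597)) (tt N33700 F184085) (tt N42047 F184086) (tt N99865 D203004) (tt N33699 (iv6 D117511)) (tt N99866 D203005))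
theorem Q62906 : ∀ i, i < 62906 → P i := stepQ 62905 Q62905 (allL N62905 (tt N33737 (iv1 F184100)) (tt N33700 (iv0 D117515)) (tt N33734 F233831) (tt N83858 F362114) (tt N36342 (iv4 F184102)) (tt N90847 (iv5 F391045)) (tt N84234 (iv6 F368627)) (tt N33735 F233832))
theorem Q62907 : ∀ i, i < 62907 → P i := stepQ 62906 Q62906 (allL N62906 (tt N33700 (iv1 D117516)) (tt N33737 F184096) (tt N33735 F233833) (tt N84178 (iv3 F368427)) (tt N99867 D203006) (tt N88412 (iv5 F382932)) (tt N83847 F346067) (tt N33734 F233834))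
theorem Q62908 : ∀ i, i < 62908 → P i := stepQ 62907 Q62907 (allL N62907 (tt N75895 F346076) (tt N54606 F346080) (tt N33736 F184097) (tt N99865 (iv3 F426600)) (tt N99130 (iv4 F423415)) (tt N33700 (iv5 D117517)) (tt N70921 (iv6 F365478)) (tt N99868 D203007))
theorem Q62909 : ∀ i, i < 62909 → P i := stepQ 62908 Q62908 (allL N62908 (tt N33735 (iv1 F184101)) (tt N33734 F184103) (tt N33737 F184098) (tt N99866 (iv3 F426602)) (tt N33703 F184099) (tt N99868 (iv5 F426612)) (tt N99825 (iv6 F426404)) (tt N33700 (iv7 D117518)))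
theorem Q62910 : ∀ i, i < 62910 → P i := stepQ 62909 Q62909 (allL N62909 (tt N99869 D203008) (tt N74471 F227960) (tt N33740 F184104) (tt N84477 (iv3 F369454)) (tt N33701 (iv4 D117519)) (tt N99870 D203009) (tt N64015 (iv6 F192179)) (tt N33744 F184105))
theorem Q62911 : ∀ i, i < 62911 → P i := stepQ 62910 Q62910 (allL N62910 (tt N42303 F184109) (tt N34146 (iv0 F184110)) (tt N33741 F184106) (tt N63730 (iv3 F189026)) (tt N97383 (iv4 F416629)) (tt N33701 (iv5 D117520)) (tt N43149 F184107) (tt N33745 F184108))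
theorem Q62912 : ∀ i, i < 62912 → P i := stepQ 62911 Q62911 (allL N62911 (tt N41732 F232271) (tt N72375 F312300) (tt N78710 (iv2 F250334)) (tt N33702 (iv3 D117521)) (tt N56070 F184113) (tt N38353 F312301) (tt N99871 D203010) (tt N33739 F184112))
theorem Q62913 : ∀ i, i < 62913 → P i := stepQ 62912 Q62912 (allL N62912 (tt N74471 F227959) (tt N99869 F426616) (tt N33744 F184114) (tt N99872 D203011) (tt N33702 (iv4 D117522)) (tt N99136 (iv5 F423427)) (tt N76100 F345996) (tt N33740 F184115))
theorem Q62914 : ∀ i, i < 62914 → P i := stepQ 62913 Q62913 (allL N62913 (tt N75663 (iv1 F233317)) (tt N42230 F184118) (tt N33746 F184116) (tt N99871 (iv3 F426625)) (tt N76100 F339709) (tt N44862 F184117) (tt N33702 (iv6 D117523)) (tt N75644 (iv7 F233278)))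
theorem Q62915 : ∀ i, i < 62915 → P i := stepQ 62914 Q62914 (allL N62914 (tt N74489 (iv1 F349477)) (tt N74453 (iv0 F349474)) (tt N74420 (iv2 F349453)) (tt N33704 (iv3 D117524)) (tt N33708 F184119) (tt N73357 (iv5 F349466)) (tt N56054 F349465) (tt N56066 F184120))
theorem Q62916 : ∀ i, i < 62916 → P i := stepQ 62915 Q62915 (allL N62915 (tt N43001 F338499) (tt N43048 F338500) (tt N43046 F347771) (tt N33706 (iv3 D117531)) (tt N62706 F184132) (tt N39653 F329157) (tt N99873 D203012) (tt N43045 F347772))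
theorem Q62917 : ∀ i, i < 62917 → P i := stepQ 62916 Q62916 (allL N62916 (tt N99826 F426409) (tt N69959 (iv0 F352600)) (tt N99852 (iv2 F426536)) (tt N99873 (iv3 F426635)) (tt N62705 F184133) (tt N99874 D203013) (tt N33706 (iv6 D117532)) (tt N99875 D203014))
theorem Q62918 : ∀ i, i < 62918 → P i := stepQ 62917 Q62917 (allL N62917 (tt N40984 F184135) (tt N34973 F324899) (tt N64381 (iv2 F350754)) (tt N33707 (iv3 D117533)) (tt N34514 F353604) (tt N39651 F329155) (tt N72258 F343230) (tt N64382 (iv7 F353563)))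
theorem Q62919 : ∀ i, i < 62919 → P i := stepQ 62918 Q62918 (allL N62918 (tt N33740 F204823) (tt N33744 F204824) (tt N74471 (iv2 F227956)) (tt N72258 (iv3 F357154)) (tt N66641 (iv4 F204821)) (tt N99876 D203015) (tt N33707 (iv6 D117534)) (tt N99869 (iv7 F426617)))
theorem Q62920 : ∀ i, i < 62920 → P i := stepQ 62919 Q62919 (allL N62919 (tt N76925 (iv1 F349462)) (tt N33708 (iv0 D117535)) (tt N63006 (iv2 F349470)) (tt N87752 (iv3 F380371)) (tt N62994 F349471) (tt N89290 (iv5 F385945)) (tt N75662 (iv6 F349473)) (tt N63007 F349472))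
theorem Q62921 : ∀ i, i < 62921 → P i := stepQ 62920 Q62920 (allL N62920 (tt N33708 (iv1 D117536)) (tt N76925 F349460) (tt N63007 (iv2 F349468)) (tt N99877 D203016) (tt N62995 F349467) (tt N91006 (iv5 F391545)) (tt N99878 D203017) (tt N63006 (iv7 F349469)))
theorem Q62922 : ∀ i, i < 62922 → P i := stepQ 62921 Q62921 (allL N62921 (tt N63006 F349456) (tt N63007 F349450) (tt N33708 (iv2 D117537)) (tt N75377 (iv3 F349454)) (tt N74420 F349452) (tt N99879 D203018) (tt N62737 (iv6 F349455)) (tt N76925 F349457))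
theorem Q62923 : ∀ i, i < 62923 → P i := stepQ 62922 Q62922 (allL N62922 (tt N96920 F414623) (tt N99586 (iv0 F425293)) (tt N99879 (iv2 F426652)) (tt N33709 F184136) (tt N99880 D203019) (tt N33708 (iv5 D117538)) (tt N95508 (iv6 F408410)) (tt N99858 (iv7 F426576)))
theorem Q62924 : ∀ i, i < 62924 → P i := stepQ 62923 Q62923 (allL N62923 (tt N33709 (iv1 D117541)) (tt N33715 F184142) (tt N39576 (iv2 F328428)) (tt N99881 D203020) (tt N39147 F328034) (tt N62773 F184144) (tt N39146 F328035) (tt N39261 F328036))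
theorem Q62925 : ∀ i, i < 62925 → P i := stepQ 62924 Q62924 (allL N62924 (tt N64423 F348007) (tt N33710 (iv0 D117543)) (tt N99854 F426556) (tt N99882 D203021) (tt N66683 (iv4 F348010)) (tt N99883 D203022) (tt N84469 (iv6 F369425)) (tt N74495 (iv7 F264373)))
theorem Q62926 : ∀ i, i < 62926 → P i := stepQ 62925 Q62925 (allL N62925 (tt N33710 (iv1 D117544)) (tt N64423 F348005) (tt N74495 (iv2 F348012)) (tt N64375 F348017) (tt N66684 (iv4 F348015)) (tt N94832 F406088) (tt N99884 D203023) (tt N99854 (iv7 F426558)))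
theorem Q62927 : ∀ i, i < 62927 → P i := stepQ 62926 Q62926 (allL N62926 (tt N99885 D203024) (tt N38815 F363099) (tt N99855 (iv2 F426559)) (tt N75024 (iv3 F361669)) (tt N99886 D203025) (tt N33710 (iv5 D117545)) (tt N95509 (iv6 F408413)) (tt N99887 D203026))
theorem Q62928 : ∀ i, i < 62928 → P i := stepQ 62927 Q62927 (allL N62927 (tt N74495 F228024) (tt N99854 F426557) (tt N64423 F312096) (tt N56064 (iv3 F347734)) (tt N33713 F184146) (tt N99887 (iv5 F426686)) (tt N35007 F312097) (tt N33710 (iv7 D117546)))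
theorem Q62929 : ∀ i, i < 62929 → P i := stepQ 62928 Q62928 (allL N62928 (tt N80460 F346011) (tt N33722 F251050) (tt N42228 F184151) (tt N99888 D203027) (tt N33711 (iv4 D117548)) (tt N85499 (iv5 F372855)) (tt N83850 (iv6 F346004)) (tt N99856 (iv7 F426566)))
theorem Q62930 : ∀ i, i < 62930 → P i := stepQ 62929 Q62929 (allL N62929 (tt N33722 F251049) (tt N80460 (iv0 F337300)) (tt N99856 (iv2 F426565)) (tt N40284 F348006) (tt N33712 (iv4 D117550)) (tt N99889 D203028) (tt N99890 D203029) (tt N42228 F184153))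
theorem Q62931 : ∀ i, i < 62931 → P i := stepQ 62930 Q62930 (allL N62930 (tt N68286 F227689) (tt N68288 (iv0 F360897)) (tt N99857 (iv2 F426569)) (tt N33766 F184156) (tt N99890 (iv4 F426698)) (tt N46141 F308180) (tt N33712 (iv6 D117552)) (tt N99788 (iv7 F426217)))
theorem Q62932 : ∀ i, i < 62932 → P i := stepQ 62931 Q62931 (allL N62931 (tt N75377 F314957) (tt N33714 (iv0 D117557)) (tt N76928 F355526) (tt N84492 (iv3 F369529)) (tt N78334 F355527) (tt N39717 F355528) (tt N84474 (iv6 F369444)) (tt N76929 (iv7 F355538)))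
theorem Q62933 : ∀ i, i < 62933 → P i := stepQ 62932 Q62932 (allL N62932 (tt N33714 (iv1 D117558)) (tt N75377 F314958) (tt N76929 F355534) (tt N40980 (iv3 F204403)) (tt N78335 (iv4 F350726)) (tt N39718 F350790) (tt N99891 D203030) (tt N76928 F355529))
theorem Q62934 : ∀ i, i < 62934 → P i := stepQ 62933 Q62933 (allL N62933 (tt N99892 D203031) (tt N99893 D203032) (tt N76930 F314960) (tt N33715 F184172) (tt N99894 D203033) (tt N33714 (iv5 D117560)) (tt N76895 F314961) (tt N99853 (iv7 F426541)))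
theorem Q62935 : ∀ i, i < 62935 → P i := stepQ 62934 Q62934 (allL N62934 (tt N33848 F328821) (tt N39494 F328822) (tt N64422 F328823) (tt N76895 F328824) (tt N72122 F328825) (tt N39842 F328826) (tt N33715 (iv6 D117562)) (tt N95507 (iv7 F408407)))
theorem Q62936 : ∀ i, i < 62936 → P i := stepQ 62935 Q62935 (allL N62935 (tt N33726 F266253) (tt N42808 F314527) (tt N42254 F186347) (tt N63948 (iv3 F334550)) (tt N33717 (iv4 D117574)) (tt N64345 F314528) (tt N78705 (iv6 F250311)) (tt N64463 F334551))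
theorem Q62937 : ∀ i, i < 62937 → P i := stepQ 62936 Q62936 (allL N62936 (tt N71786 (iv1 F349950)) (tt N71783 F338501) (tt N33719 (iv2 D117583)) (tt N84143 (iv3 F368308)) (tt N85829 (iv4 F374145)) (tt N99895 D203034) (tt N91254 (iv6 F392419)) (tt N64667 F349951))
theorem Q62938 : ∀ i, i < 62938 → P i := stepQ 62937 Q62937 (allL N62937 (tt N85830 (iv1 F374155)) (tt N49883 (iv0 F369532)) (tt N85829 F374147) (tt N41723 F184183) (tt N33719 (iv4 D117584)) (tt N86054 (iv5 F375019)) (tt N88437 F383044) (tt N55798 (iv7 F314508)))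
theorem Q62939 : ∀ i, i < 62939 → P i := stepQ 62938 Q62938 (allL N62938 (tt N71124 F349957) (tt N97059 (iv0 F415265)) (tt N99895 (iv2 F426715)) (tt N33721 F184184) (tt N99896 D203035) (tt N33719 (iv5 D117585)) (tt N71398 (iv6 F360695)) (tt N99860 (iv7 F426587)))
theorem Q62940 : ∀ i, i < 62940 → P i := stepQ 62939 Q62939 (allL N62939 (tt N42240 F347738) (tt N92198 (iv0 F396209)) (tt N91254 (iv2 F392417)) (tt N33722 F184185) (tt N88437 (iv4 F383045)) (tt N99897 D203036) (tt N33719 (iv6 D117586)) (tt N64666 (iv7 F338496)))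
theorem Q62941 : ∀ i, i < 62941 → P i := stepQ 62940 Q62940 (allL N62940 (tt N80461 (iv1 F337289)) (tt N41412 F251051) (tt N36322 F184186) (tt N78826 (iv3 F251045)) (tt N33722 F184187) (tt N73685 (iv5 F344493)) (tt N33720 (iv6 D117587)) (tt N80459 (iv7 F337287)))
theorem Q62942 : ∀ i, i < 62942 → P i := stepQ 62941 Q62941 (allL N62941 (tt N99898 D203037) (tt N73711 (iv0 F365651)) (tt N99859 (iv2 F426580)) (tt N99897 (iv3 F426727)) (tt N99899 D203038) (tt N33722 (iv5 D117592)) (tt N71399 F365687) (tt N99900 D203039))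
theorem Q62943 : ∀ i, i < 62943 → P i := stepQ 62942 Q62942 (allL N62942 (tt N99856 F426568) (tt N42228 F337282) (tt N80460 F337283) (tt N64666 F337284) (tt N80459 F337285) (tt N99900 (iv5 F426736)) (tt N42808 F337286) (tt N33722 (iv7 D117593)))
theorem Q62944 : ∀ i, i < 62944 → P i := stepQ 62943 Q62943 (allL N62943 (tt N43054 F341183) (tt N43050 F341184) (tt N99901 D203040) (tt N33727 (iv3 D117605)) (tt N76260 (iv4 F343311)) (tt N99902 D203041) (tt N99444 (iv6 F424606)) (tt N40986 F184200))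
theorem Q62945 : ∀ i, i < 62945 → P i := stepQ 62944 Q62944 (allL N62944 (tt N73855 (iv1 F225975)) (tt N71668 (iv0 F328184)) (tt N40990 F184205) (tt N99902 (iv3 F426746)) (tt N99903 D203042) (tt N33727 (iv5 D117607)) (tt N99904 D203043) (tt N40988 F184206))
theorem Q62946 : ∀ i, i < 62946 → P i := stepQ 62945 Q62945 (allL N62945 (tt N79149 F350746) (tt N74490 F321906) (tt N64640 F321907) (tt N33728 (iv3 D117609)) (tt N33761 F321908) (tt N99905 D203044) (tt N42247 F321909) (tt N33758 F321910))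
theorem Q62947 : ∀ i, i < 62947 → P i := stepQ 62946 Q62946 (allL N62946 (tt N71668 (iv1 F328185)) (tt N73855 (iv0 F225974)) (tt N40988 F184209) (tt N99905 (iv3 F426756)) (tt N99906 D203045) (tt N33728 (iv5 D117610)) (tt N99907 D203046) (tt N40990 F184210))
theorem Q62948 : ∀ i, i < 62948 → P i := stepQ 62947 Q62947 (allL N62947 (tt N40992 (iv1 F184215)) (tt N40991 F184216) (tt N33730 F184212) (tt N71807 F365533) (tt N39797 F184214) (tt N33729 (iv5 D117612)) (tt N99908 D203047) (tt N40973 F184213))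
theorem Q62949 : ∀ i, i < 62949 → P i := stepQ 62948 Q62948 (allL N62948 (tt N99909 D203048) (tt N99910 D203049) (tt N33731 F184217) (tt N99864 (iv3 F426598)) (tt N33779 F184218) (tt N99911 D203050) (tt N33729 (iv6 D117613)) (tt N99912 D203051))
theorem Q62950 : ∀ i, i < 62950 → P i := stepQ 62949 Q62949 (allL N62949 (tt N40973 (iv1 F184219)) (tt N33730 (iv0 D117614)) (tt N40992 F221148) (tt N73416 (iv3 F341554)) (tt N99913 D203052) (tt N72697 (iv5 F222933)) (tt N71854 (iv6 F365517)) (tt N40991 F221146))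
theorem Q62951 : ∀ i, i < 62951 → P i := stepQ 62950 Q62950 (allL N62950 (tt N33730 (iv1 D117615)) (tt N40973 F184220) (tt N40991 (iv2 F221145)) (tt N73831 F359462) (tt N99914 D203053) (tt N66546 (iv5 F204406)) (tt N70951 (iv6 F359465)) (tt N40992 (iv7 F221147)))
theorem Q62952 : ∀ i, i < 62952 → P i := stepQ 62951 Q62951 (allL N62951 (tt N72382 F365490) (tt N99915 D203054) (tt N99908 (iv2 F426767)) (tt N33733 F184224) (tt N73286 F365489) (tt N71523 F365481) (tt N33730 (iv6 D117617)) (tt N71215 (iv7 F365488)))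
theorem Q62953 : ∀ i, i < 62953 → P i := stepQ 62952 Q62952 (allL N62952 (tt N99912 (iv1 F426789)) (tt N33731 (iv0 D117618)) (tt N99909 F426773) (tt N99916 D203055) (tt N46560 F348306) (tt N99917 D203056) (tt N82162 F348305) (tt N99910 (iv7 F426777)))
theorem Q62954 : ∀ i, i < 62954 → P i := stepQ 62953 Q62953 (allL N62953 (tt N33731 (iv1 D117619)) (tt N99912 F426788) (tt N99910 (iv2 F426779)) (tt N99918 D203057) (tt N66570 F360539) (tt N99919 D203058) (tt N66569 (iv6 F360538)) (tt N99909 F426774))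
theorem Q62955 : ∀ i, i < 62955 → P i := stepQ 62954 Q62954 (allL N62954 (tt N99920 D203059) (tt N99921 D203060) (tt N99911 (iv2 F426783)) (tt N33736 F184225) (tt N99922 D203061) (tt N33731 (iv5 D117620)) (tt N71523 (iv6 F365479)) (tt N99923 D203062))
theorem Q62956 : ∀ i, i < 62956 → P i := stepQ 62955 Q62955 (allL N62955 (tt N99910 (iv1 F426776)) (tt N99909 F426775) (tt N99912 (iv2 F426785)) (tt N33737 F184226) (tt N33783 F184227) (tt N99923 (iv5 F426835)) (tt N40998 F184228) (tt N33731 (iv7 D117621)))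
theorem Q62957 : ∀ i, i < 62957 → P i := stepQ 62956 Q62956 (allL N62956 (tt N35545 F328404) (tt N70223 F328405) (tt N41192 F328406) (tt N58972 F328407) (tt N33733 F184230) (tt N60209 F328408) (tt N33732 (iv6 D117627)) (tt N70222 F328409))
theorem Q62958 : ∀ i, i < 62958 → P i := stepQ 62957 Q62957 (allL N62957 (tt N99924 D203063) (tt N41394 (iv0 F184631)) (tt N36342 F233835) (tt N76125 (iv3 F236551)) (tt N33734 (iv4 D117635)) (tt N99925 D203064) (tt N76124 F236543) (tt N99867 (iv7 F426606)))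
theorem Q62959 : ∀ i, i < 62959 → P i := stepQ 62958 Q62958 (allL N62958 (tt N78705 (iv1 F250312)) (tt N78703 (iv0 F250306)) (tt N84234 (iv2 F368623)) (tt N59257 F352983) (tt N76124 (iv4 F236544)) (tt N59255 F338231) (tt N33734 (iv6 D117637)) (tt N84224 (iv7 F368582)))
theorem Q62960 : ∀ i, i < 62960 → P i := stepQ 62959 Q62959 (allL N62959 (tt N41394 F233836) (tt N99924 F426841) (tt N99867 (iv2 F426604)) (tt N36320 F184235) (tt N33735 (iv4 D117640)) (tt N75775 (iv5 F233873)) (tt N83851 F346068) (tt N36342 F233730))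
theorem Q62961 : ∀ i, i < 62961 → P i := stepQ 62960 Q62960 (allL N62960 (tt N99868 (iv1 F426614)) (tt N33736 (iv0 D117643)) (tt N75895 F346072) (tt N51496 (iv3 F346070)) (tt N99926 D203065) (tt N51495 F346069) (tt N75851 (iv6 F346071)) (tt N54606 F346078))
theorem Q62962 : ∀ i, i < 62962 → P i := stepQ 62961 Q62961 (allL N62961 (tt N33736 (iv1 D117644)) (tt N99868 F426613) (tt N54606 (iv2 F346079)) (tt N99927 D203066) (tt N99928 D203067) (tt N99929 D203068) (tt N99930 D203069) (tt N75895 F346074))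
theorem Q62963 : ∀ i, i < 62963 → P i := stepQ 62962 Q62962 (allL N62962 (tt N99931 D203070) (tt N99932 D203071) (tt N99130 (iv2 F423413)) (tt N99933 D203072) (tt N33736 (iv4 D117645)) (tt N98789 F422326) (tt N71524 (iv6 F365480)) (tt N99132 (iv7 F423421)))
theorem Q62964 : ∀ i, i < 62964 → P i := stepQ 62963 Q62963 (allL N62963 (tt N54606 (iv1 F346081)) (tt N75895 F362112) (tt N99868 (iv2 F426610)) (tt N99923 (iv3 F426834)) (tt N99132 (iv4 F423420)) (tt N33737 F184236) (tt N99934 D203073) (tt N33736 (iv7 D117646)))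
theorem Q62965 : ∀ i, i < 62965 → P i := stepQ 62964 Q62964 (allL N62964 (tt N99823 (iv1 F426393)) (tt N99822 (iv0 F426392)) (tt N99825 (iv2 F426402)) (tt N40998 F184237) (tt N33747 F184238) (tt N99935 D203074) (tt N33737 (iv6 D117647)) (tt N33738 F184239))
theorem Q62966 : ∀ i, i < 62966 → P i := stepQ 62965 Q62965 (allL N62965 (tt N99825 (iv1 F426406)) (tt N33738 (iv0 D117648)) (tt N99822 F426390) (tt N99936 D203075) (tt N99737 F425987) (tt N99937 D203076) (tt N99938 D203077) (tt N99823 (iv7 F426394)))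
theorem Q62967 : ∀ i, i < 62967 → P i := stepQ 62966 Q62966 (allL N62966 (tt N33738 (iv1 D117649)) (tt N99825 F426405) (tt N99823 (iv2 F426397)) (tt N99939 D203078) (tt N80467 (iv4 F352620)) (tt N99940 D203079) (tt N38608 F352619) (tt N99822 F426391))
theorem Q62968 : ∀ i, i < 62968 → P i := stepQ 62967 Q62967 (allL N62967 (tt N99941 D203080) (tt N99942 D203081) (tt N99824 (iv2 F426400)) (tt N40997 F184240) (tt N99943 D203082) (tt N33738 (iv5 D117650)) (tt N71146 F365491) (tt N99935 (iv7 F426886)))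
theorem Q62969 : ∀ i, i < 62969 → P i := stepQ 62968 Q62968 (allL N62968 (tt N78710 (iv1 F250339)) (tt N33739 (iv0 D117651)) (tt N72375 (iv2 F310041)) (tt N33797 F240206) (tt N56141 (iv4 F340866)) (tt N34236 F240207) (tt N72347 F334963) (tt N41732 F240208))
theorem Q62970 : ∀ i, i < 62970 → P i := stepQ 62969 Q62969 (allL N62969 (tt N56071 F184242) (tt N56057 (iv0 F184244)) (tt N56069 F184247) (tt N99944 D203083) (tt N33739 (iv4 D117653)) (tt N69657 (iv5 F355223)) (tt N73389 (iv6 F334929)) (tt N56070 F184241))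
theorem Q62971 : ∀ i, i < 62971 → P i := stepQ 62970 Q62970 (allL N62970 (tt N72401 (iv1 F312178)) (tt N99945 D203084) (tt N77614 (iv2 F243994)) (tt N33741 F184250) (tt N38356 F311400) (tt N33739 (iv5 D117654)) (tt N63727 F232622) (tt N38353 F311401))
theorem Q62972 : ∀ i, i < 62972 → P i := stepQ 62971 Q62971 (allL N62971 (tt N33744 (iv1 F184252)) (tt N33740 (iv0 D117655)) (tt N99869 F426615) (tt N99946 D203085) (tt N66711 (iv4 F205206)) (tt N99947 D203086) (tt N99875 (iv6 F426639)) (tt N74471 F227958))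
theorem Q62973 : ∀ i, i < 62973 → P i := stepQ 62972 Q62972 (allL N62972 (tt N84367 F369058) (tt N99878 (iv0 F426926)) (tt N99948 D203088) (tt N33740 (iv3 D117657)) (tt N99944 (iv4 F426901)) (tt N99949 D203089) (tt N99950 D203090) (tt N99872 (iv7 F426633)))
theorem Q62974 : ∀ i, i < 62974 → P i := stepQ 62973 Q62973 (allL N62973 (tt N99951 D203091) (tt N99952 D203092) (tt N99870 (iv2 F426620)) (tt N99949 (iv3 F426920)) (tt N99137 (iv4 F423429)) (tt N33740 (iv5 D117658)) (tt N99953 D203093) (tt N99136 F423428))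
theorem Q62975 : ∀ i, i < 62975 → P i := stepQ 62974 Q62974 (allL N62974 (tt N78706 (iv1 F250314)) (tt N72256 (iv0 F345977)) (tt N64015 (iv2 F192178)) (tt N99950 (iv3 F426923)) (tt N33742 F184254) (tt N58974 F361437) (tt N33740 (iv6 D117659)) (tt N76728 (iv7 F239781)))
theorem Q62976 : ∀ i, i < 62976 → P i := stepQ 62975 Q62975 (allL N62975 (tt N33745 (iv1 F184258)) (tt N33741 (iv0 D117660)) (tt N42303 (iv2 F184257)) (tt N42162 F190211) (tt N99954 D203094) (tt N62881 F184255) (tt N44433 F315966) (tt N34146 F184259))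
theorem Q62977 : ∀ i, i < 62977 → P i := stepQ 62976 Q62976 (allL N62976 (tt N99955 D203095) (tt N99956 D203096) (tt N97383 (iv2 F416626)) (tt N37909 F317295) (tt N33741 (iv4 D117661)) (tt N35881 F316279) (tt N35883 F316280) (tt N37906 F317296))
theorem Q62978 : ∀ i, i < 62978 → P i := stepQ 62977 Q62977 (allL N62977 (tt N99952 (iv1 F426930)) (tt N99951 F426928) (tt N99136 (iv2 F423425)) (tt N84476 (iv3 F369448)) (tt N98790 (iv4 F422329)) (tt N33744 (iv5 D117664)) (tt N75867 F345999) (tt N99870 (iv7 F426622)))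
theorem Q62979 : ∀ i, i < 62979 → P i := stepQ 62978 Q62978 (allL N62978 (tt N99956 (iv1 F426945)) (tt N99955 F426942) (tt N37906 F316284) (tt N67754 F316285) (tt N33745 (iv4 D117666)) (tt N97384 (iv5 F416636)) (tt N37903 F316286) (tt N97383 (iv7 F416633)))
theorem Q62980 : ∀ i, i < 62980 → P i := stepQ 62979 Q62979 (allL N62979 (tt N72347 (iv1 F334960)) (tt N41807 F334957) (tt N72333 F334958) (tt N33748 (iv3 D117669)) (tt N56077 F338193) (tt N95519 (iv5 F408452)) (tt N56076 F363415) (tt N72377 F334959))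
theorem Q62981 : ∀ i, i < 62981 → P i := stepQ 62980 Q62980 (allL N62980 (tt N99875 (iv1 F426641)) (tt N99852 F426539) (tt N99826 (iv2 F426407)) (tt N99957 D203097) (tt N33748 (iv4 D117670)) (tt N99958 D203098) (tt N99959 D203099) (tt N69959 (iv7 F352599)))
theorem Q62982 : ∀ i, i < 62982 → P i := stepQ 62981 Q62981 (allL N62981 (tt N40182 F341172) (tt N40181 F341173) (tt N40183 F341174) (tt N95519 F408456) (tt N99960 D203100) (tt N33748 (iv5 D117671)) (tt N78132 F341175) (tt N40178 F341176))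
theorem Q62983 : ∀ i, i < 62983 → P i := stepQ 62982 Q62982 (allL N62982 (tt N99857 F426573) (tt N99788 (iv0 F426218)) (tt N68288 (iv2 F237562)) (tt N56076 F363414) (tt N99959 (iv4 F426961)) (tt N63451 F187518) (tt N33748 (iv6 D117672)) (tt N68286 (iv7 F237561)))
theorem Q62984 : ∀ i, i < 62984 → P i := stepQ 62983 Q62983 (allL N62983 (tt N99852 F426538) (tt N99875 F426640) (tt N69959 (iv2 F352598)) (tt N81046 (iv3 F352602)) (tt N33749 (iv4 D117675)) (tt N99961 D203101) (tt N67969 F352601) (tt N99826 (iv7 F426408)))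
theorem Q62985 : ∀ i, i < 62985 → P i := stepQ 62984 Q62984 (allL N62984 (tt N78704 F349367) (tt N99819 (iv0 F426378)) (tt N69958 F352595) (tt N40186 F315537) (tt N67969 (iv4 F349368)) (tt N40180 (iv5 F317767)) (tt N33749 (iv6 D117677)) (tt N69966 (iv7 F352594)))
theorem Q62986 : ∀ i, i < 62986 → P i := stepQ 62985 Q62985 (allL N62985 (tt N43363 (iv1 F184269)) (tt N33750 (iv0 D117678)) (tt N42955 (iv2 F199966)) (tt N72285 F320477) (tt N99962 D203102) (tt N99792 (iv5 F426236)) (tt N62689 (iv6 F348132)) (tt N43362 (iv7 F200304)))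
theorem Q62987 : ∀ i, i < 62987 → P i := stepQ 62986 Q62986 (allL N62986 (tt N99963 D203103) (tt N99964 D203104) (tt N43361 F184272) (tt N77756 (iv3 F244858)) (tt N33750 (iv4 D117680)) (tt N99965 D203105) (tt N33752 F184273) (tt N44422 F320447))
theorem Q62988 : ∀ i, i < 62988 → P i := stepQ 62987 Q62987 (allL N62987 (tt N44273 F320453) (tt N78306 F247910) (tt N34266 F184275) (tt N99966 D203106) (tt N33751 (iv4 D117681)) (tt N76843 (iv5 F240049)) (tt N62087 F336239) (tt N34264 F184276))
theorem Q62989 : ∀ i, i < 62989 → P i := stepQ 62988 Q62988 (allL N62988 (tt N34056 (iv1 F184282)) (tt N33752 (iv0 D117683)) (tt N34268 F184284) (tt N99967 D203107) (tt N42914 F184281) (tt N76829 (iv5 F239996)) (tt N61973 F349438) (tt N34267 (iv7 F184283)))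
theorem Q62990 : ∀ i, i < 62990 → P i := stepQ 62989 Q62989 (allL N62989 (tt N33752 (iv1 D117684)) (tt N34056 F184285) (tt N34267 (iv2 F184288)) (tt N99968 D203108) (tt N36623 F184287) (tt N76830 (iv5 F240002)) (tt N99969 D203109) (tt N34268 F184286))
theorem Q62991 : ∀ i, i < 62991 → P i := stepQ 62990 Q62990 (allL N62990 (tt N92591 (iv1 F397534)) (tt N99970 D203110) (tt N43360 F184289) (tt N77755 (iv3 F244856)) (tt N98352 (iv4 F420607)) (tt N33752 (iv5 D117685)) (tt N99971 D203111) (tt N34270 F184290))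
theorem Q62992 : ∀ i, i < 62992 → P i := stepQ 62991 Q62991 (allL N62991 (tt N99972 D203112) (tt N99973 D203113) (tt N99444 (iv2 F424604)) (tt N33753 (iv3 D117686)) (tt N42202 F184291) (tt N99974 D203114) (tt N99901 (iv6 F426740)) (tt N42233 F184292))
theorem Q62993 : ∀ i, i < 62993 → P i := stepQ 62992 Q62992 (allL N62992 (tt N42243 F184295) (tt N42242 F184296) (tt N33757 F184293) (tt N99974 (iv3 F427028)) (tt N66610 (iv4 F204706)) (tt N33753 (iv5 D117687)) (tt N99975 D203115) (tt N42234 F184294))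
theorem Q62994 : ∀ i, i < 62994 → P i := stepQ 62993 Q62993 (allL N62993 (tt N74490 F228000) (tt N79149 F350748) (tt N33758 F184297) (tt N99901 (iv3 F426738)) (tt N33754 F184298) (tt N99976 D203116) (tt N33753 (iv6 D117688)) (tt N64640 (iv7 F349480)))
theorem Q62995 : ∀ i, i < 62995 → P i := stepQ 62994 Q62994 (allL N62994 (tt N33761 (iv1 F184308)) (tt N33754 (iv0 D117689)) (tt N33759 (iv2 F184300)) (tt N42063 F243076) (tt N62919 (iv4 F349471)) (tt N68352 (iv5 F313722)) (tt N42316 F184299) (tt N33760 (iv7 F184301)))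
theorem Q62996 : ∀ i, i < 62996 → P i := stepQ 62995 Q62995 (allL N62995 (tt N33754 (iv1 D117690)) (tt N33761 F184302) (tt N33760 (iv2 F184304)) (tt N42398 (iv3 F184305)) (tt N62920 (iv4 F349467)) (tt N65304 (iv5 F200708)) (tt N99977 D203117) (tt N33759 F184303))
theorem Q62997 : ∀ i, i < 62997 → P i := stepQ 62996 Q62996 (allL N62996 (tt N33760 (iv1 F184312)) (tt N33759 F184313) (tt N33761 F184309) (tt N42207 F184310) (tt N64640 F309419) (tt N62396 F341179) (tt N42238 F184311) (tt N33754 (iv7 D117691)))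
theorem Q62998 : ∀ i, i < 62998 → P i := stepQ 62997 Q62997 (allL N62997 (tt N34474 F350744) (tt N34517 F350745) (tt N34515 F353607) (tt N33755 (iv3 D117692)) (tt N64382 F353564) (tt N88449 (iv5 F383095)) (tt N84126 (iv6 F368209)) (tt N34514 F353608))
theorem Q62999 : ∀ i, i < 62999 → P i := stepQ 62998 Q62998 (allL N62998 (tt N83834 (iv1 F356806)) (tt N42331 F356573) (tt N42241 F184315) (tt N84126 F368211) (tt N74455 (iv4 F227935)) (tt N89176 (iv5 F385448)) (tt N33755 (iv6 D117693)) (tt N99978 D203118))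
theorem Q63000 : ∀ i, i < 63000 → P i := stepQ 62999 Q62999 (allL N62999 (tt N91254 (iv1 F392421)) (tt N64666 (iv0 F348019)) (tt N92198 (iv2 F396206)) (tt N33756 (iv3 D117694)) (tt N62702 F184316) (tt N99775 (iv5 F426180)) (tt N99979 D203119) (tt N42240 F184317))
theorem Q63001 : ∀ i, i < 63001 → P i := stepQ 63000 Q63000 (allL N63000 (tt N33790 F184320) (tt N42306 F184566) (tt N42239 F184318) (tt N99979 (iv3 F427048)) (tt N62701 F184319) (tt N99980 D203120) (tt N33756 (iv6 D117695)) (tt N42309 (iv7 F230227)))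
theorem Q63002 : ∀ i, i < 63002 → P i := stepQ 63001 Q63001 (allL N63001 (tt N75086 (iv1 F230265)) (tt N75083 (iv0 F230260)) (tt N66610 (iv2 F204705)) (tt N99981 D203121) (tt N33757 (iv4 D117696)) (tt N66607 (iv5 F204697)) (tt N99982 D203122) (tt N42244 F184321))
theorem Q63003 : ∀ i, i < 63003 → P i := stepQ 63002 Q63002 (allL N63002 (tt N99983 D203123) (tt N99984 D203124) (tt N99975 (iv2 F427032)) (tt N99455 (iv3 F424661)) (tt N99982 (iv4 F427057)) (tt N99985 D203125) (tt N33757 (iv6 D117697)) (tt N99986 D203126))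
theorem Q63004 : ∀ i, i < 63004 → P i := stepQ 63003 Q63003 (allL N63003 (tt N64640 F337293) (tt N33758 (iv0 D117698)) (tt N74490 (iv2 F264371)) (tt N63951 (iv3 F357682)) (tt N74489 F264372) (tt N73832 F347294) (tt N99987 D203127) (tt N79149 (iv7 F350749)))
theorem Q63005 : ∀ i, i < 63005 → P i := stepQ 63004 Q63004 (allL N63004 (tt N33758 (iv1 D117699)) (tt N64640 (iv0 F349475)) (tt N79149 F350747) (tt N71783 (iv3 F349476)) (tt N74453 (iv4 F227931)) (tt N71781 F349478) (tt N84720 (iv6 F370330)) (tt N74490 (iv7 F264370)))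
theorem Q63006 : ∀ i, i < 63006 → P i := stepQ 63005 Q63005 (allL N63005 (tt N99988 D203128) (tt N99989 D203129) (tt N99976 (iv2 F427034)) (tt N40990 F322681) (tt N92477 (iv4 F397123)) (tt N33758 (iv5 D117700)) (tt N99985 (iv6 F427061)) (tt N99905 (iv7 F426757)))
theorem Q63007 : ∀ i, i < 63007 → P i := stepQ 63006 Q63006 (allL N63006 (tt N62893 (iv1 F349459)) (tt N62921 (iv0 F349456)) (tt N62919 F349470) (tt N82461 (iv3 F355562)) (tt N33759 (iv4 D117702)) (tt N70986 F360612) (tt N99791 (iv6 F426232)) (tt N62920 F349469))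
theorem Q63008 : ∀ i, i < 63008 → P i := stepQ 63007 Q63007 (allL N63007 (tt N62921 (iv1 F349450)) (tt N62893 (iv0 F349447)) (tt N62920 F349468) (tt N54712 F349449) (tt N33760 (iv4 D117704)) (tt N54711 (iv5 F349490)) (tt N99990 D203130) (tt N62919 (iv7 F349472)))
theorem Q63009 : ∀ i, i < 63009 → P i := stepQ 63008 Q63008 (allL N63008 (tt N68291 F237491) (tt N99760 (iv0 F426102)) (tt N99977 (iv2 F427037)) (tt N87073 (iv3 F378281)) (tt N99990 (iv4 F427075)) (tt N99991 D203131) (tt N33760 (iv6 D117705)) (tt N99840 (iv7 F426470)))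
theorem Q63010 : ∀ i, i < 63010 → P i := stepQ 63009 Q63009 (allL N63009 (tt N42106 F243369) (tt N42039 F243370) (tt N42077 F242926) (tt N40780 F316675) (tt N33762 (iv4 D117712)) (tt N75019 (iv5 F350765)) (tt N99992 D203132) (tt N42080 F242927))
theorem Q63011 : ∀ i, i < 63011 → P i := stepQ 63010 Q63010 (allL N63010 (tt N44459 F314355) (tt N74701 (iv0 F318457)) (tt N42078 F242931) (tt N33763 F184332) (tt N99993 D203133) (tt N33762 (iv5 D117713)) (tt N58544 F316117) (tt N42081 F242932))
theorem Q63012 : ∀ i, i < 63012 → P i := stepQ 63011 Q63011 (allL N63011 (tt N42061 F242935) (tt N42179 F242936) (tt N42079 F242937) (tt N33764 F184334) (tt N99992 (iv4 F427088)) (tt N41837 (iv5 F184335)) (tt N33762 (iv6 D117714)) (tt N42177 (iv7 F242949)))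
theorem Q63013 : ∀ i, i < 63013 → P i := stepQ 63012 Q63012 (allL N63012 (tt N33807 (iv1 F184353)) (tt N38159 F184354) (tt N42232 F184349) (tt N99788 (iv3 F426215)) (tt N41035 F184350) (tt N44050 F184351) (tt N33803 F184352) (tt N33766 (iv7 D117720)))
theorem Q63014 : ∀ i, i < 63014 → P i := stepQ 63013 Q63013 (allL N63013 (tt N42212 F184381) (tt N42211 F184382) (tt N33771 F184378) (tt N66860 F314116) (tt N60910 F184380) (tt N33767 (iv5 D117727)) (tt N44975 F314117) (tt N42203 F184379))
theorem Q63015 : ∀ i, i < 63015 → P i := stepQ 63014 Q63014 (allL N63014 (tt N42286 F205249) (tt N33799 F205250) (tt N42210 F184394) (tt N76569 F340079) (tt N43916 F308953) (tt N49805 (iv5 F340077)) (tt N33769 (iv6 D117733)) (tt N42288 (iv7 F184832)))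
theorem Q63016 : ∀ i, i < 63016 → P i := stepQ 63015 Q63015 (allL N63015 (tt N63403 F349960) (tt N76654 F352153) (tt N76570 (iv2 F352154)) (tt N33770 (iv3 D117734)) (tt N62595 F184395) (tt N85303 (iv5 F372219)) (tt N80883 F352157) (tt N42209 F184396))
theorem Q63017 : ∀ i, i < 63017 → P i := stepQ 63016 Q63016 (allL N63016 (tt N42322 F237578) (tt N99798 (iv0 F426271)) (tt N42208 F184397) (tt N80883 F339597) (tt N62594 F184398) (tt N99994 D203134) (tt N33770 (iv6 D117735)) (tt N72282 (iv7 F339596)))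
theorem Q63018 : ∀ i, i < 63018 → P i := stepQ 63017 Q63017 (allL N63017 (tt N74911 (iv1 F229791)) (tt N70736 (iv0 F327876)) (tt N60910 F184399) (tt N99995 D203135) (tt N33771 (iv4 D117736)) (tt N60908 F184401) (tt N56101 F335904) (tt N42213 F184400))
theorem Q63019 : ∀ i, i < 63019 → P i := stepQ 63018 Q63018 (allL N63018 (tt N42402 F233057) (tt N51992 F307856) (tt N49387 F307857) (tt N33772 (iv3 D117748)) (tt N53928 F307858) (tt N48994 F307859) (tt N63721 (iv6 F305953)) (tt N78932 F307860))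
theorem Q63020 : ∀ i, i < 63020 → P i := stepQ 63019 Q63019 (allL N63019 (tt N42167 F230017) (tt N42058 (iv0 F190808)) (tt N42095 (iv2 F190458)) (tt N33774 F184438) (tt N99850 (iv4 F426523)) (tt N65223 (iv5 F200437)) (tt N33773 (iv6 D117765)) (tt N42165 (iv7 F190461)))
theorem Q63021 : ∀ i, i < 63021 → P i := stepQ 63020 Q63020 (allL N63020 (tt N37490 (iv1 F307132)) (tt N41815 (iv0 F184448)) (tt N42257 F184444) (tt N65223 F200435) (tt N37528 F305213) (tt N33774 (iv5 D117767)) (tt N57421 F184445) (tt N41043 (iv7 F307134)))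
theorem Q63022 : ∀ i, i < 63022 → P i := stepQ 63021 Q63021 (allL N63021 (tt N33775 (iv1 D117774)) (tt N40978 F205121) (tt N40852 F184457) (tt N41025 F321181) (tt N66739 F205301) (tt N40850 F184455) (tt N99996 D203136) (tt N40897 F184458))
theorem Q63023 : ∀ i, i < 63023 → P i := stepQ 63022 Q63022 (allL N63022 (tt N40897 F205102) (tt N40852 F205103) (tt N33775 (iv2 D117775)) (tt N33777 F321928) (tt N36329 F205105) (tt N41538 F205106) (tt N33775 F321929) (tt N40978 F205107))
theorem Q63024 : ∀ i, i < 63024 → P i := stepQ 63023 Q63023 (allL N63023 (tt N33778 (iv1 F184465)) (tt N33776 (iv0 D117778)) (tt N40980 F184466) (tt N98166 F419804) (tt N62241 F184463) (tt N89275 (iv5 F385881)) (tt N75962 (iv6 F366294)) (tt N40979 (iv7 F184464)))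
theorem Q63025 : ∀ i, i < 63025 → P i := stepQ 63024 Q63024 (allL N63024 (tt N33776 (iv1 D117779)) (tt N33778 F184467) (tt N40979 (iv2 F184469)) (tt N76928 (iv3 F355532)) (tt N62321 (iv4 F320912)) (tt N89276 (iv5 F385887)) (tt N99997 D203137) (tt N40980 F184468))
theorem Q63026 : ∀ i, i < 63026 → P i := stepQ 63025 Q63025 (allL N63025 (tt N87752 (iv1 F380375)) (tt N58644 (iv0 F205144)) (tt N91002 (iv2 F391534)) (tt N33776 (iv3 D117780)) (tt N59758 (iv4 F205143)) (tt N95448 (iv5 F408219)) (tt N75042 F346319) (tt N40981 F205145))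
theorem Q63027 : ∀ i, i < 63027 → P i := stepQ 63026 Q63026 (allL N63026 (tt N73860 (iv1 F225987)) (tt N73862 (iv0 F225989)) (tt N40985 F205162) (tt N95448 (iv3 F408223)) (tt N99998 D203138) (tt N33776 (iv5 D117781)) (tt N99999 D203139) (tt N40982 F205158))
theorem Q63028 : ∀ i, i < 63028 → P i := stepQ 63027 Q63027 (allL N63027 (tt N62313 F321942) (tt N62316 F321943) (tt N40983 F321944) (tt N75042 F321945) (tt N33777 F184470) (tt N100000 D203140) (tt N33776 (iv6 D117782)) (tt N53701 (iv7 F320402)))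
theorem Q63029 : ∀ i, i < 63029 → P i := stepQ 63028 Q63028 (allL N63028 (tt N73862 (iv1 F225990)) (tt N73860 (iv0 F225986)) (tt N40982 F205159) (tt N64383 F349515) (tt N100001 D203141) (tt N33778 (iv5 D117794)) (tt N64379 (iv6 F349514)) (tt N40985 (iv7 F205161)))
theorem Q63030 : ∀ i, i < 63030 → P i := stepQ 63029 Q63029 (allL N63029 (tt N33783 (iv1 F184491)) (tt N33779 (iv0 D117800)) (tt N33780 F356840) (tt N76161 (iv3 F356843)) (tt N72252 F356841) (tt N76160 F332523) (tt N72251 F334944) (tt N33781 F356842))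
theorem Q63031 : ∀ i, i < 63031 → P i := stepQ 63030 Q63030 (allL N63030 (tt N43010 F316802) (tt N43109 F316803) (tt N33782 F184485) (tt N42265 F184486) (tt N100002 D203142) (tt N33779 (iv5 D117802)) (tt N40886 F184487) (tt N43107 F316804))
theorem Q63032 : ∀ i, i < 63032 → P i := stepQ 63031 Q63031 (allL N63031 (tt N33781 (iv1 F184492)) (tt N33780 F184493) (tt N33783 F184488) (tt N42266 F184489) (tt N99912 (iv4 F426786)) (tt N43107 F313502) (tt N40977 F184490) (tt N33779 (iv7 D117803)))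
theorem Q63033 : ∀ i, i < 63033 → P i := stepQ 63032 Q63032 (allL N63032 (tt N80498 F346217) (tt N99996 (iv0 F427108)) (tt N87916 (iv2 F381100)) (tt N33780 (iv3 D117805)) (tt N87094 (iv4 F378354)) (tt N44781 F346218) (tt N87092 F378352) (tt N77551 F346219))
theorem Q63034 : ∀ i, i < 63034 → P i := stepQ 63033 Q63033 (allL N63033 (tt N84733 (iv1 F370406)) (tt N99997 (iv0 F427112)) (tt N72252 (iv2 F356837)) (tt N83882 (iv3 F367352)) (tt N33780 (iv4 D117806)) (tt N54629 (iv5 F366939)) (tt N72248 F356811) (tt N77555 (iv7 F356838)))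
theorem Q63035 : ∀ i, i < 63035 → P i := stepQ 63034 Q63034 (allL N63034 (tt N75994 F356813) (tt N76000 (iv0 F337185)) (tt N72251 F356810) (tt N87092 (iv3 F378347)) (tt N72248 (iv4 F356808)) (tt N89957 (iv5 F388103)) (tt N33780 (iv6 D117808)) (tt N75999 F356812))
theorem Q63036 : ∀ i, i < 63036 → P i := stepQ 63035 Q63035 (allL N63035 (tt N76004 (iv1 F356856)) (tt N77553 F356855) (tt N41002 F318164) (tt N33781 (iv3 D117810)) (tt N100003 D203143) (tt N42461 F318165) (tt N40975 F318166) (tt N76161 F318167))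
theorem Q63037 : ∀ i, i < 63037 → P i := stepQ 63036 Q63036 (allL N63036 (tt N99997 F427113) (tt N84733 (iv0 F370405)) (tt N77555 (iv2 F356845)) (tt N72260 (iv3 F356846)) (tt N33781 (iv4 D117811)) (tt N54628 (iv5 F356857)) (tt N77542 (iv6 F356847)) (tt N72252 F356844))
theorem Q63038 : ∀ i, i < 63038 → P i := stepQ 63037 Q63037 (allL N63037 (tt N33782 (iv1 D117815)) (tt N43107 F316796) (tt N43109 F316797) (tt N76024 F316798) (tt N64730 F361486) (tt N45277 F316799) (tt N43118 F316800) (tt N43010 F316801))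
theorem Q63039 : ∀ i, i < 63039 → P i := stepQ 63038 Q63038 (allL N63038 (tt N48168 F361489) (tt N100004 D203144) (tt N100002 (iv2 F427133)) (tt N100005 D203145) (tt N33782 (iv4 D117816)) (tt N100006 D203146) (tt N41015 F184496) (tt N69581 F316805))
theorem Q63040 : ∀ i, i < 63040 → P i := stepQ 63039 Q63039 (allL N63039 (tt N42281 (iv1 F184499)) (tt N33784 (iv0 D117818)) (tt N42280 F319982) (tt N77553 F315546) (tt N100007 D203147) (tt N37472 F315547) (tt N41029 F313422) (tt N40775 F317780))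
theorem Q63041 : ∀ i, i < 63041 → P i := stepQ 63040 Q63040 (allL N63040 (tt N42280 (iv1 F184504)) (tt N40775 F319987) (tt N33784 (iv2 D117820)) (tt N42275 F184500) (tt N94042 (iv4 F402942)) (tt N46488 F315551) (tt N41927 F315552) (tt N42281 F184501))
theorem Q63042 : ∀ i, i < 63042 → P i := stepQ 63041 Q63041 (allL N63041 (tt N100008 D203148) (tt N84771 (iv0 F370562)) (tt N94042 (iv2 F402940)) (tt N36369 F184505) (tt N33784 (iv4 D117821)) (tt N37952 F320874) (tt N64031 (iv6 F192321)) (tt N42282 F184506))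
theorem Q63043 : ∀ i, i < 63043 → P i := stepQ 63042 Q63042 (allL N63042 (tt N52755 F315553) (tt N42869 F315554) (tt N46488 F315555) (tt N33785 F184507) (tt N64369 F315556) (tt N33784 (iv5 D117822)) (tt N42250 F315557) (tt N42283 F184508))
theorem Q63044 : ∀ i, i < 63044 → P i := stepQ 63043 Q63043 (allL N63043 (tt N41875 F310935) (tt N41929 F310936) (tt N41927 F310937) (tt N33786 F184509) (tt N64031 (iv4 F192319)) (tt N42251 F310938) (tt N33784 (iv6 D117823)) (tt N41926 (iv7 F310951)))
theorem Q63045 : ∀ i, i < 63045 → P i := stepQ 63044 Q63044 (allL N63044 (tt N40186 F184522) (tt N73719 F225524) (tt N42279 F184521) (tt N42251 F310939) (tt N64224 (iv4 F360902)) (tt N33786 (iv5 D117826)) (tt N42248 F310940) (tt N48163 (iv7 F310952)))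
theorem Q63046 : ∀ i, i < 63046 → P i := stepQ 63045 Q63045 (allL N63045 (tt N70494 F348590) (tt N70517 F348591) (tt N70515 (iv2 F341217)) (tt N33787 (iv3 D117841)) (tt N100005 (iv4 F427152)) (tt N35500 F184558) (tt N41056 F184559) (tt N35521 F184560))
theorem Q63047 : ∀ i, i < 63047 → P i := stepQ 63046 Q63046 (allL N63046 (tt N92582 (iv1 F397482)) (tt N99762 F426110) (tt N42305 F184561) (tt N100009 D203149) (tt N33788 (iv4 D117842)) (tt N76559 F355595) (tt N72332 (iv6 F355600)) (tt N41861 F184562))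
theorem Q63048 : ∀ i, i < 63048 → P i := stepQ 63047 Q63047 (allL N63047 (tt N42309 (iv1 F184565)) (tt N42239 (iv0 F230225)) (tt N33790 F184563) (tt N100010 D203150) (tt N33789 (iv4 D117843)) (tt N100011 D203151) (tt N78677 (iv6 F250219)) (tt N42306 F184564))
theorem Q63049 : ∀ i, i < 63049 → P i := stepQ 63048 Q63048 (allL N63048 (tt N42314 F184786) (tt N42313 F184787) (tt N33791 F184783) (tt N42287 F184784) (tt N100012 D203152) (tt N33789 (iv5 D117844)) (tt N63563 F188093) (tt N42307 F184785))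
theorem Q63050 : ∀ i, i < 63050 → P i := stepQ 63049 Q63049 (allL N63049 (tt N42306 (iv1 F184788)) (tt N33790 (iv0 D117845)) (tt N42309 F230228) (tt N64797 F355572) (tt N83301 (iv4 F355578)) (tt N64795 (iv5 F355573)) (tt N99978 (iv6 F427045)) (tt N42239 F184789))
theorem Q63051 : ∀ i, i < 63051 → P i := stepQ 63050 Q63050 (allL N63050 (tt N100013 D203153) (tt N99453 F424657) (tt N100014 D203154) (tt N33790 (iv3 D117846)) (tt N33792 F184790) (tt N100015 D203155) (tt N78684 (iv6 F250287)) (tt N42310 F184791))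
theorem Q63052 : ∀ i, i < 63052 → P i := stepQ 63051 Q63051 (allL N63051 (tt N69718 (iv1 F331642)) (tt N77657 (iv0 F244519)) (tt N100011 (iv2 F427180)) (tt N100015 (iv3 F427202)) (tt N76555 F339222) (tt N33790 (iv5 D117847)) (tt N100016 D203156) (tt N42311 F184792))
theorem Q63053 : ∀ i, i < 63053 → P i := stepQ 63052 Q63052 (allL N63052 (tt N77640 (iv1 F244463)) (tt N43329 (iv0 F239904)) (tt N100012 (iv2 F427185)) (tt N46391 F303209) (tt N33791 (iv4 D117848)) (tt N74374 F324083) (tt N41582 F324084) (tt N42315 F184794))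
theorem Q63054 : ∀ i, i < 63054 → P i := stepQ 63053 Q63053 (allL N63053 (tt N42320 (iv1 F184795)) (tt N33792 (iv0 D117849)) (tt N42319 F320084) (tt N46499 F315613) (tt N91114 (iv4 F391992)) (tt N38324 F315614) (tt N66568 (iv6 F314077)) (tt N40280 F320083))
theorem Q63055 : ∀ i, i < 63055 → P i := stepQ 63054 Q63054 (allL N63054 (tt N42319 (iv1 F184800)) (tt N40280 F320403) (tt N33792 (iv2 D117851)) (tt N42298 F184796) (tt N100014 (iv4 F427196)) (tt N42892 F315619) (tt N79127 (iv6 F360916)) (tt N42320 F184797))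
theorem Q63056 : ∀ i, i < 63056 → P i := stepQ 63055 Q63055 (allL N63055 (tt N42629 F310965) (tt N79128 F310966) (tt N79127 F310967) (tt N33794 F184803) (tt N78684 (iv4 F250286)) (tt N74762 F310968) (tt N33792 (iv6 D117853)) (tt N42609 F310969))
theorem Q63057 : ∀ i, i < 63057 → P i := stepQ 63056 Q63056 (allL N63056 (tt N84484 F369494) (tt N91170 (iv0 F392150)) (tt N42285 F205256) (tt N88521 (iv3 F383380)) (tt N33797 (iv4 D117865)) (tt N51483 F340080) (tt N98406 (iv6 F420831)) (tt N41737 F232248))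
theorem Q63058 : ∀ i, i < 63058 → P i := stepQ 63057 Q63057 (allL N63057 (tt N42210 (iv1 F184821)) (tt N42288 F184831) (tt N33799 F184819) (tt N85816 F374090) (tt N33798 (iv4 D117868)) (tt N53668 (iv5 F349286)) (tt N100017 D203157) (tt N42286 F184820))
theorem Q63059 : ∀ i, i < 63059 → P i := stepQ 63058 Q63058 (allL N63058 (tt N80150 F315987) (tt N42222 F233042) (tt N33801 F184840) (tt N42308 F184841) (tt N100017 (iv4 F427213)) (tt N74963 F232244) (tt N33798 (iv6 D117870)) (tt N69661 F315988))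
theorem Q63060 : ∀ i, i < 63060 → P i := stepQ 63059 Q63059 (allL N63059 (tt N85772 (iv1 F373874)) (tt N98083 (iv0 F419389)) (tt N100018 D203158) (tt N33799 (iv3 D117873)) (tt N33802 F184844) (tt N85854 (iv5 F374226)) (tt N42600 F317823) (tt N42289 F184845))
theorem Q63061 : ∀ i, i < 63061 → P i := stepQ 63060 Q63060 (allL N63060 (tt N91308 (iv1 F392651)) (tt N74821 (iv0 F229344)) (tt N100017 (iv2 F427212)) (tt N42600 F316773) (tt N33801 F184847) (tt N100019 D203159) (tt N33799 (iv6 D117875)) (tt N80145 F316774))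
theorem Q63062 : ∀ i, i < 63062 → P i := stepQ 63061 Q63061 (allL N63061 (tt N34022 (iv1 F305695)) (tt N72400 (iv0 F353448)) (tt N73890 (iv2 F316959)) (tt N34047 F304980) (tt N33800 (iv4 D117878)) (tt N43918 F304981) (tt N34552 F184851) (tt N34452 F304982))
theorem Q63063 : ∀ i, i < 63063 → P i := stepQ 63062 Q63062 (allL N63062 (tt N69661 F315986) (tt N33801 (iv0 D117879)) (tt N80150 (iv2 F355214)) (tt N61401 (iv3 F338649)) (tt N100020 D203160) (tt N41802 F232923) (tt N81308 F338650) (tt N42222 F247839))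
theorem Q63064 : ∀ i, i < 63064 → P i := stepQ 63063 Q63063 (allL N63063 (tt N33801 (iv1 D117880)) (tt N69661 F315985) (tt N42222 F250240) (tt N41800 F250241) (tt N74479 (iv4 F349974)) (tt N41798 F250242) (tt N42205 F250243) (tt N80150 (iv7 F355217)))
theorem Q63065 : ∀ i, i < 63065 → P i := stepQ 63064 Q63064 (allL N63064 (tt N74892 F233181) (tt N72378 (iv0 F339610)) (tt N74963 F233211) (tt N33804 F184853) (tt N73128 (iv4 F338180)) (tt N33801 (iv5 D117881)) (tt N34553 F184854) (tt N74964 (iv7 F233214)))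
theorem Q63066 : ∀ i, i < 63066 → P i := stepQ 63065 Q63065 (allL N63065 (tt N33802 (iv1 D117884)) (tt N42298 F184861) (tt N42297 F317822) (tt N80100 F317792) (tt N50042 F317793) (tt N66851 F317794) (tt N66571 (iv6 F315743)) (tt N40466 F320018))
theorem Q63067 : ∀ i, i < 63067 → P i := stepQ 63066 Q63066 (allL N63066 (tt N40466 F321792) (tt N42297 F184860) (tt N33802 (iv2 D117885)) (tt N42320 F184858) (tt N100018 (iv4 F427220)) (tt N69680 F317790) (tt N36539 F317791) (tt N42298 F184859))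
theorem Q63068 : ∀ i, i < 63068 → P i := stepQ 63067 Q63067 (allL N63067 (tt N99978 (iv1 F427047)) (tt N42241 F278624) (tt N83834 F356587) (tt N66569 (iv3 F204531)) (tt N33805 (iv4 D117896)) (tt N51912 (iv5 F356586)) (tt N99918 (iv6 F426819)) (tt N42331 F184891))
theorem Q63069 : ∀ i, i < 63069 → P i := stepQ 63068 Q63068 (allL N63068 (tt N99977 F427042) (tt N99840 (iv0 F426471)) (tt N99760 (iv2 F426099)) (tt N33807 F184894) (tt N99918 (iv4 F426818)) (tt N38161 (iv5 F184895)) (tt N33805 (iv6 D117898)) (tt N68291 (iv7 F209474)))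
theorem Q63070 : ∀ i, i < 63070 → P i := stepQ 63069 Q63069 (allL N63069 (tt N74255 (iv1 F322403)) (tt N47815 F313771) (tt N42329 F184901) (tt N100021 D203161) (tt N33806 (iv4 D117900)) (tt N74747 F228864) (tt N80302 (iv6 F322573)) (tt N42334 F184902))
theorem Q63071 : ∀ i, i < 63071 → P i := stepQ 63070 Q63070 (allL N63070 (tt N44071 F184905) (tt N35424 (iv0 F184907)) (tt N42330 F184903) (tt N41287 F322119) (tt N80302 (iv4 F322572)) (tt N38162 F184904) (tt N33806 (iv6 D117901)) (tt N41279 F322120))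
theorem Q63072 : ∀ i, i < 63072 → P i := stepQ 63071 Q63071 (allL N63071 (tt N42208 F339598) (tt N72282 (iv0 F339592)) (tt N99798 (iv2 F426267)) (tt N66573 (iv3 F204552)) (tt N33808 (iv4 D117905)) (tt N100022 D203162) (tt N81458 F349088) (tt N42322 F184916))
theorem Q63073 : ∀ i, i < 63073 → P i := stepQ 63072 Q63072 (allL N63072 (tt N55811 (iv1 F333262)) (tt N74968 F324379) (tt N41267 F320789) (tt N33809 F184917) (tt N40117 F320790) (tt N33808 (iv5 D117906)) (tt N40115 F320791) (tt N42323 F184918))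
theorem Q63074 : ∀ i, i < 63074 → P i := stepQ 63073 Q63073 (allL N63073 (tt N78938 F314046) (tt N78933 (iv0 F349086)) (tt N73865 (iv2 F333254)) (tt N33810 F184919) (tt N81458 (iv4 F349079)) (tt N62468 (iv5 F318644)) (tt N33808 (iv6 D117907)) (tt N73722 F314048))
theorem Q63075 : ∀ i, i < 63075 → P i := stepQ 63074 Q63074 (allL N63074 (tt N47815 F313772) (tt N74255 (iv0 F322402)) (tt N42334 F184920) (tt N42146 F336321) (tt N33809 (iv4 D117908)) (tt N67927 F319405) (tt N37034 F319406) (tt N42329 F184921))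
theorem Q63076 : ∀ i, i < 63076 → P i := stepQ 63075 Q63075 (allL N63075 (tt N48092 F184923) (tt N36661 F184924) (tt N42336 (iv2 F200233)) (tt N91378 F392914) (tt N33811 (iv4 D117911)) (tt N75437 (iv5 F334584)) (tt N45513 F324873) (tt N42338 F200234))
theorem Q63077 : ∀ i, i < 63077 → P i := stepQ 63076 Q63076 (allL N63076 (tt N41727 F233151) (tt N48071 F233152) (tt N72328 (iv2 F361402)) (tt N33812 (iv3 D117913)) (tt N72253 (iv4 F360543)) (tt N74400 F227744) (tt N73869 F333250) (tt N42335 (iv7 F200099)))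
theorem Q63078 : ∀ i, i < 63078 → P i := stepQ 63077 Q63077 (allL N63077 (tt N36661 F184926) (tt N48092 F184927) (tt N42338 F200232) (tt N75305 F334596) (tt N33812 (iv4 D117914)) (tt N75304 (iv5 F334591)) (tt N69338 (iv6 F321974)) (tt N42336 (iv7 F200100)))
theorem Q63079 : ∀ i, i < 63079 → P i := stepQ 63078 Q63078 (allL N63078 (tt N43330 (iv1 F185040)) (tt N44099 (iv0 F184929)) (tt N42339 (iv2 F200221)) (tt N73869 F348326) (tt N69338 (iv4 F321973)) (tt N63734 F189101) (tt N33812 (iv6 D117915)) (tt N58623 (iv7 F309251)))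
theorem Q63080 : ∀ i, i < 63080 → P i := stepQ 63079 Q63079 (allL N63079 (tt N48456 F348281) (tt N81370 (iv0 F348238)) (tt N35288 F184930) (tt N33814 F184931) (tt N42519 F184932) (tt N99745 (iv5 F426024)) (tt N33813 (iv6 D117916)) (tt N100023 D203163))
theorem Q63081 : ∀ i, i < 63081 → P i := stepQ 63080 Q63080 (allL N63080 (tt N33820 (iv1 F184948)) (tt N33819 (iv0 F184950)) (tt N33822 F184945) (tt N100023 (iv3 F427245)) (tt N33817 F184946) (tt N78377 F305137) (tt N33861 F184947) (tt N33814 (iv7 D117920)))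
theorem Q63082 : ∀ i, i < 63082 → P i := stepQ 63081 Q63081 (allL N63081 (tt N42141 F334580) (tt N75677 F308905) (tt N47938 F185006) (tt N100024 D203164) (tt N33821 (iv4 D117951)) (tt N74255 (iv5 F322405)) (tt N35330 F185007) (tt N82451 (iv7 F281041)))
theorem Q63083 : ∀ i, i < 63083 → P i := stepQ 63082 Q63082 (allL N63082 (tt N77670 F306194) (tt N80036 (iv0 F312434)) (tt N69617 F306195) (tt N33825 (iv3 D117968)) (tt N48778 (iv4 F306548)) (tt N41315 F306196) (tt N69609 F306197) (tt N48775 F304547))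
theorem Q63084 : ∀ i, i < 63084 → P i := stepQ 63083 Q63083 (allL N63083 (tt N73596 (iv1 F320160)) (tt N42626 F243494) (tt N77560 (iv2 F243657)) (tt N33826 (iv3 D117972)) (tt N77543 (iv4 F243491)) (tt N57697 (iv5 F310510)) (tt N73374 F336865) (tt N42653 F185029))
theorem Q63085 : ∀ i, i < 63085 → P i := stepQ 63084 Q63084 (allL N63084 (tt N42620 F205953) (tt N73598 (iv0 F320172)) (tt N56311 (iv2 F191139)) (tt N33827 (iv3 D117974)) (tt N56301 (iv4 F190358)) (tt N57696 (iv5 F310506)) (tt N36224 F321579) (tt N42652 F185033))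
theorem Q63086 : ∀ i, i < 63086 → P i := stepQ 63085 Q63085 (allL N63085 (tt N77567 (iv1 F243677)) (tt N63531 (iv0 F187906)) (tt N79122 F252711) (tt N62765 (iv3 F317583)) (tt N33830 (iv4 D117983)) (tt N73929 F349350) (tt N73386 (iv6 F349348)) (tt N42618 F185148))
theorem Q63087 : ∀ i, i < 63087 → P i := stepQ 63086 Q63086 (allL N63086 (tt N40273 F336875) (tt N73367 (iv0 F336876)) (tt N33832 F185194) (tt N42638 F185195) (tt N79097 (iv4 F252526)) (tt N65395 (iv5 F313750)) (tt N33831 (iv6 D118000)) (tt N73366 F332429))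
theorem Q63088 : ∀ i, i < 63088 → P i := stepQ 63087 Q63087 (allL N63087 (tt N33832 (iv1 D118002)) (tt N73366 F333349) (tt N73367 F333350) (tt N70069 F334128) (tt N90866 (iv4 F391088)) (tt N46558 F334133) (tt N73376 F333351) (tt N40273 F333352))
theorem Q63089 : ∀ i, i < 63089 → P i := stepQ 63088 Q63088 (allL N63088 (tt N80111 (iv1 F319966)) (tt N45575 F309854) (tt N61412 F185400) (tt N34585 F185401) (tt N33835 (iv4 D118027)) (tt N37073 F309855) (tt N36637 F307289) (tt N42650 F185402))
theorem Q63090 : ∀ i, i < 63090 → P i := stepQ 63089 Q63089 (allL N63089 (tt N33836 (iv1 D118049)) (tt N34584 F185437) (tt N42662 F185442) (tt N55782 (iv3 F185440)) (tt N42582 (iv4 F185441)) (tt N54072 F185439) (tt N80340 (iv6 F334107)) (tt N42663 F185438))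
theorem Q63091 : ∀ i, i < 63091 → P i := stepQ 63090 Q63090 (allL N63090 (tt N42506 (iv1 F185495)) (tt N33837 (iv0 D118067)) (tt N42503 (iv2 F232756)) (tt N43301 (iv3 F232727)) (tt N42507 (iv4 F232732)) (tt N48430 F310272) (tt N69655 F366371) (tt N42504 (iv7 F232764)))
theorem Q63092 : ∀ i, i < 63092 → P i := stepQ 63091 Q63091 (allL N63091 (tt N52370 F311817) (tt N44533 (iv0 F232784)) (tt N42505 F185488) (tt N43016 F185489) (tt N37596 (iv4 F185491)) (tt N33837 (iv5 D118069)) (tt N33838 F185490) (tt N52368 F311818))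
theorem Q63093 : ∀ i, i < 63093 → P i := stepQ 63092 Q63092 (allL N63092 (tt N42504 (iv1 F185496)) (tt N42503 F185497) (tt N42506 F185492) (tt N44548 F309952) (tt N42788 F185493) (tt N52368 F335220) (tt N42490 F185494) (tt N33837 (iv7 D118070)))
theorem Q63094 : ∀ i, i < 63094 → P i := stepQ 63093 Q63093 (allL N63093 (tt N41015 F346609) (tt N72064 (iv0 F339051)) (tt N35246 F185498) (tt N33840 F185499) (tt N33860 F185500) (tt N100025 D203165) (tt N33839 (iv6 D118071)) (tt N100026 D203166))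
theorem Q63095 : ∀ i, i < 63095 → P i := stepQ 63094 Q63094 (allL N63094 (tt N95507 F408409) (tt N64422 (iv0 F306510)) (tt N33848 F185505) (tt N100025 (iv3 F427256)) (tt N39280 F325440) (tt N33840 (iv5 D118074)) (tt N39279 (iv6 F326312)) (tt N39494 F325441))
theorem Q63096 : ∀ i, i < 63096 → P i := stepQ 63095 Q63095 (allL N63095 (tt N33847 (iv1 F185510)) (tt N33846 F185511) (tt N33849 F185507) (tt N100026 (iv3 F427263)) (tt N33842 F185508) (tt N39494 F327126) (tt N42522 F185509) (tt N33840 (iv7 D118075)))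
theorem Q63097 : ∀ i, i < 63097 → P i := stepQ 63096 Q63096 (allL N63096 (tt N52940 (iv1 F366232)) (tt N52934 F366234) (tt N44589 F305767) (tt N33846 (iv3 D118087)) (tt N43312 F305768) (tt N71018 (iv5 F351865)) (tt N68400 F305769) (tt N52938 (iv7 F319956)))
theorem Q63098 : ∀ i, i < 63098 → P i := stepQ 63097 Q63097 (allL N63097 (tt N48176 (iv1 F237241)) (tt N35198 F306501) (tt N48182 (iv2 F233013)) (tt N68400 (iv3 F361467)) (tt N43689 (iv4 F190951)) (tt N100027 D203167) (tt N33846 (iv6 D118090)) (tt N48181 (iv7 F278980)))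
theorem Q63099 : ∀ i, i < 63099 → P i := stepQ 63098 Q63098 (allL N63098 (tt N34891 F305130) (tt N92606 F397615) (tt N72129 F361458) (tt N35344 F305131) (tt N43691 (iv4 F190933)) (tt N100028 D203168) (tt N33847 (iv6 D118095)) (tt N43703 F305132))
theorem Q63100 : ∀ i, i < 63100 → P i := stepQ 63099 Q63099 (allL N63099 (tt N39494 F322835) (tt N33848 (iv0 D118096)) (tt N95507 (iv2 F408403)) (tt N100029 D203169) (tt N72127 F322836) (tt N39843 F322837) (tt N39421 F322838) (tt N64422 (iv7 F306513)))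
theorem Q63101 : ∀ i, i < 63101 → P i := stepQ 63100 Q63100 (allL N63100 (tt N64422 (iv1 F306511)) (tt N95507 (iv0 F408408)) (tt N39494 F325443) (tt N35259 F185548) (tt N39132 F325444) (tt N33849 F185549) (tt N39131 F325445) (tt N33848 (iv7 D118099)))
theorem Q63102 : ∀ i, i < 63102 → P i := stepQ 63101 Q63101 (allL N63101 (tt N79094 (iv1 F303696)) (tt N76080 (iv0 F236240)) (tt N77601 (iv2 F243943)) (tt N33851 F185550) (tt N67637 (iv4 F313813)) (tt N33850 (iv5 D118102)) (tt N57686 (iv6 F310479)) (tt N66822 F205709))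
theorem Q63103 : ∀ i, i < 63103 → P i := stepQ 63102 Q63102 (allL N63102 (tt N48500 F330102) (tt N100030 D203170) (tt N77602 (iv2 F243945)) (tt N33852 F185551) (tt N65315 F200760) (tt N76798 F239955) (tt N33850 (iv6 D118103)) (tt N48226 (iv7 F185552)))
theorem Q63104 : ∀ i, i < 63104 → P i := stepQ 63103 Q63103 (allL N63103 (tt N39618 F325451) (tt N76086 F236397) (tt N72143 F325452) (tt N90556 (iv3 F390088)) (tt N33851 (iv4 D118109)) (tt N71027 (iv5 F326318)) (tt N57687 (iv6 F310480)) (tt N72138 F325453))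
theorem Q63105 : ∀ i, i < 63105 → P i := stepQ 63104 Q63104 (allL N63104 (tt N33871 F185561) (tt N33890 (iv0 F185562)) (tt N33888 F185558) (tt N76798 (iv3 F239954)) (tt N77006 (iv4 F241373)) (tt N33852 (iv5 D118110)) (tt N35479 F185559) (tt N33887 (iv7 F185572)))
theorem Q63106 : ∀ i, i < 63106 → P i := stepQ 63105 Q63105 (allL N63105 (tt N66955 (iv1 F346711)) (tt N36597 F278071) (tt N82042 (iv2 F278067)) (tt N33854 F185563) (tt N63561 (iv4 F188073)) (tt N48419 F309986) (tt N33853 (iv6 D118113)) (tt N92610 (iv7 F397645)))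
theorem Q63107 : ∀ i, i < 63107 → P i := stepQ 63106 Q63106 (allL N63106 (tt N72227 (iv1 F350099)) (tt N87926 (iv0 F381165)) (tt N77266 (iv2 F242180)) (tt N33856 F185580) (tt N65186 (iv4 F199467)) (tt N42876 F185581) (tt N33855 (iv6 D118122)) (tt N48474 F310917))
theorem Q63108 : ∀ i, i < 63108 → P i := stepQ 63107 Q63107 (allL N63107 (tt N77771 F333709) (tt N77774 (iv0 F333723)) (tt N40591 F318002) (tt N33858 (iv3 D118128)) (tt N43973 F185603) (tt N40585 F318003) (tt N66745 F318004) (tt N42702 F185604))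
theorem Q63109 : ∀ i, i < 63109 → P i := stepQ 63108 Q63108 (allL N63108 (tt N47675 (iv1 F185625)) (tt N47674 F185626) (tt N47677 F185621) (tt N33861 F185622) (tt N100026 (iv4 F427264)) (tt N47812 F185623) (tt N100023 (iv6 F427247)) (tt N33860 (iv7 D118137)))
theorem Q63110 : ∀ i, i < 63110 → P i := stepQ 63109 Q63109 (allL N63109 (tt N41262 F315785) (tt N40042 F309197) (tt N42741 F185642) (tt N69656 (iv3 F309930)) (tt N40212 F315786) (tt N44884 F185643) (tt N33862 (iv6 D118145)) (tt N43981 F185644))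
theorem Q63111 : ∀ i, i < 63111 → P i := stepQ 63110 Q63110 (allL N63110 (tt N33865 (iv1 D118164)) (tt N76576 (iv0 F239365)) (tt N42914 (iv2 F185671)) (tt N36355 (iv3 F185672)) (tt N34268 (iv4 F185673)) (tt N41356 F185670) (tt N98920 (iv6 F422789)) (tt N36623 F185669))
theorem Q63112 : ∀ i, i < 63112 → P i := stepQ 63111 Q63111 (allL N63111 (tt N33892 (iv1 F185678)) (tt N33866 (iv0 D118166)) (tt N42750 (iv2 F185677)) (tt N100031 D203171) (tt N42748 F185676) (tt N100032 D203172) (tt N100033 D203173) (tt N42751 F185679))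
theorem Q63113 : ∀ i, i < 63113 → P i := stepQ 63112 Q63112 (allL N63112 (tt N77018 (iv1 F241402)) (tt N76985 (iv0 F241315)) (tt N42753 F185680) (tt N94319 (iv3 F404018)) (tt N63175 F185826) (tt N33866 (iv5 D118168)) (tt N94315 (iv6 F404015)) (tt N77017 (iv7 F241395)))
theorem Q63114 : ∀ i, i < 63114 → P i := stepQ 63113 Q63113 (allL N63113 (tt N34861 F302002) (tt N34860 F302003) (tt N34785 F185681) (tt N33868 F185682) (tt N42846 F185683) (tt N100034 D203174) (tt N33867 (iv6 D118169)) (tt N34858 F302004))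
theorem Q63115 : ∀ i, i < 63115 → P i := stepQ 63114 Q63114 (allL N63114 (tt N33878 F185685) (tt N33868 (iv0 D118170)) (tt N33875 F190227) (tt N43489 F305043) (tt N34020 F185684) (tt N82267 (iv5 F279979)) (tt N75881 (iv6 F234516)) (tt N33876 F190228))
theorem Q63116 : ∀ i, i < 63116 → P i := stepQ 63115 Q63115 (allL N63115 (tt N33868 (iv1 D118171)) (tt N33878 F185686) (tt N33876 F190268) (tt N52878 (iv3 F344403)) (tt N43501 F190269) (tt N82266 (iv5 F279975)) (tt N72118 (iv6 F361078)) (tt N33875 F190270))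
theorem Q63117 : ∀ i, i < 63117 → P i := stepQ 63116 Q63116 (allL N63116 (tt N100035 D203175) (tt N100027 (iv0 F427273)) (tt N33877 F185687) (tt N100034 (iv3 F427306)) (tt N100036 D203176) (tt N33868 (iv5 D118172)) (tt N76098 (iv6 F236304)) (tt N100037 D203177))
theorem Q63118 : ∀ i, i < 63118 → P i := stepQ 63117 Q63117 (allL N63117 (tt N33876 (iv1 F185691)) (tt N33875 F185692) (tt N33878 F185688) (tt N34858 F305041) (tt N33872 F185689) (tt N100037 (iv5 F427321)) (tt N34488 F305042) (tt N33868 (iv7 D118173)))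
theorem Q63119 : ∀ i, i < 63119 → P i := stepQ 63118 Q63118 (allL N63118 (tt N72119 (iv1 F322854)) (tt N34572 (iv0 F185697)) (tt N33886 F187628) (tt N76764 (iv3 F239902)) (tt N76996 (iv4 F241341)) (tt N56148 F185696) (tt N33870 (iv6 D118179)) (tt N67094 (iv7 F206589)))
theorem Q63120 : ∀ i, i < 63120 → P i := stepQ 63119 Q63119 (allL N63119 (tt N33890 (iv1 F185701)) (tt N33871 (iv0 D118180)) (tt N33887 (iv2 F185698)) (tt N89194 F385524) (tt N77005 (iv4 F241378)) (tt N48213 F185699) (tt N41257 F317329) (tt N33888 F185700))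
theorem Q63121 : ∀ i, i < 63121 → P i := stepQ 63120 Q63120 (allL N63120 (tt N100038 D203178) (tt N100039 D203179) (tt N33889 F185709) (tt N100040 D203180) (tt N33871 (iv4 D118181)) (tt N100041 D203181) (tt N33873 F185710) (tt N100042 D203182))
theorem Q63122 : ∀ i, i < 63122 → P i := stepQ 63121 Q63121 (allL N63121 (tt N33888 (iv1 F185715)) (tt N33887 F185716) (tt N33890 F185711) (tt N34394 F185712) (tt N100042 (iv4 F427341)) (tt N33872 F185713) (tt N44130 F185714) (tt N33871 (iv7 D118182)))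
theorem Q63123 : ∀ i, i < 63123 → P i := stepQ 63122 Q63122 (allL N63122 (tt N33902 (iv1 F185718)) (tt N33873 (iv0 D118183)) (tt N33899 (iv2 F185719)) (tt N100043 D203183) (tt N34034 F185717) (tt N74513 (iv5 F228100)) (tt N73187 F343142) (tt N33900 (iv7 F185720)))
theorem Q63124 : ∀ i, i < 63124 → P i := stepQ 63123 Q63123 (allL N63123 (tt N33873 (iv1 D118184)) (tt N33902 F185721) (tt N33900 (iv2 F185724)) (tt N100044 D203184) (tt N41419 F185723) (tt N74512 (iv5 F228095)) (tt N41237 F321291) (tt N33899 F185722))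
theorem Q63125 : ∀ i, i < 63125 → P i := stepQ 63124 Q63124 (allL N63124 (tt N100045 D203185) (tt N100046 D203186) (tt N92376 (iv2 F396858)) (tt N33873 (iv3 D118185)) (tt N34390 F185725) (tt N100047 D203187) (tt N100040 (iv6 F427337)) (tt N44125 F185726))
theorem Q63126 : ∀ i, i < 63126 → P i := stepQ 63125 Q63125 (allL N63125 (tt N76046 (iv1 F236055)) (tt N76056 (iv0 F236068)) (tt N33901 F185727) (tt N100047 (iv3 F427364)) (tt N63177 (iv4 F185828)) (tt N33873 (iv5 D118186)) (tt N100048 D203188) (tt N44126 F185728))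
theorem Q63127 : ∀ i, i < 63127 → P i := stepQ 63126 Q63126 (allL N63126 (tt N64908 (iv1 F361481)) (tt N48207 (iv0 F233144)) (tt N42789 F185730) (tt N34118 F311791) (tt N98695 (iv4 F421883)) (tt N33874 (iv5 D118189)) (tt N48859 F185731) (tt N64910 F361479))
theorem Q63128 : ∀ i, i < 63128 → P i := stepQ 63127 Q63127 (allL N63127 (tt N42783 F232581) (tt N34567 F232582) (tt N42790 F185732) (tt N34119 F311792) (tt N42490 F185733) (tt N64910 (iv5 F361476)) (tt N42788 F185734) (tt N33874 (iv7 D118190)))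
theorem Q63129 : ∀ i, i < 63129 → P i := stepQ 63128 Q63128 (allL N63128 (tt N52880 F344407) (tt N48920 F344408) (tt N43558 F302995) (tt N33875 (iv3 D118192)) (tt N75618 (iv4 F319992)) (tt N100049 D203189) (tt N89454 (iv6 F424193)) (tt N52878 (iv7 F344404)))
theorem Q63130 : ∀ i, i < 63130 → P i := stepQ 63129 Q63129 (allL N63129 (tt N82255 (iv1 F279956)) (tt N64914 (iv0 F304679)) (tt N82267 F279980) (tt N100049 (iv3 F427370)) (tt N100050 D203190) (tt N33875 (iv5 D118194)) (tt N100051 D203191) (tt N82266 F279977))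
theorem Q63131 : ∀ i, i < 63131 → P i := stepQ 63130 Q63130 (allL N63130 (tt N75837 F243629) (tt N80384 (iv0 F264402)) (tt N75881 F234517) (tt N89454 (iv3 F424192)) (tt N43516 (iv4 F190222)) (tt N75849 F234387) (tt N33875 (iv6 D118195)) (tt N75878 (iv7 F234521)))
theorem Q63132 : ∀ i, i < 63132 → P i := stepQ 63131 Q63131 (allL N63131 (tt N64914 F306357) (tt N82255 (iv0 F279955)) (tt N82266 F279976) (tt N43556 F306358) (tt N100052 D203192) (tt N33876 (iv5 D118199)) (tt N100053 D203193) (tt N82267 (iv7 F279978)))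
theorem Q63133 : ∀ i, i < 63133 → P i := stepQ 63132 Q63132 (allL N63132 (tt N66489 (iv1 F322827)) (tt N72113 (iv0 F314226)) (tt N72118 F361081) (tt N43557 F306359) (tt N43518 (iv4 F190219)) (tt N64597 (iv5 F306411)) (tt N33876 (iv6 D118200)) (tt N72117 (iv7 F363925)))
theorem Q63134 : ∀ i, i < 63134 → P i := stepQ 63133 Q63133 (allL N63133 (tt N100037 (iv1 F427323)) (tt N33877 (iv0 D118201)) (tt N100035 F427313) (tt N100054 D203194) (tt N88544 (iv4 F451864)) (tt N48181 F278981) (tt N88543 (iv6 F451861)) (tt N100027 (iv7 F427272)))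
theorem Q63135 : ∀ i, i < 63135 → P i := stepQ 63134 Q63134 (allL N63134 (tt N33877 (iv1 D118202)) (tt N100037 F427322) (tt N100027 (iv2 F427269)) (tt N43561 F351879) (tt N100055 D203197) (tt N48182 (iv5 F233015)) (tt N72124 F351880) (tt N100035 (iv7 F427314)))
theorem Q63136 : ∀ i, i < 63136 → P i := stepQ 63135 Q63135 (allL N63135 (tt N100056 D203198) (tt N100057 D203199) (tt N100036 (iv2 F427317)) (tt N100058 D203200) (tt N33877 (iv4 D118203)) (tt N100059 D203201) (tt N82842 (iv6 F284571)) (tt N100060 D203202))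
theorem Q63137 : ∀ i, i < 63137 → P i := stepQ 63136 Q63136 (allL N63136 (tt N100027 (iv1 F427274)) (tt N100035 F427316) (tt N100037 (iv2 F427319)) (tt N34491 F305044) (tt N100060 (iv4 F427390)) (tt N33878 F185742) (tt N100061 D203203) (tt N33877 (iv7 D118204)))
theorem Q63138 : ∀ i, i < 63138 → P i := stepQ 63137 Q63137 (allL N63137 (tt N75799 (iv1 F425347)) (tt N100062 D203204) (tt N76756 (iv2 F239878)) (tt N33882 F185752) (tt N76586 (iv4 F239416)) (tt N75857 (iv5 F234425)) (tt N33879 (iv6 D118215)) (tt N75916 (iv7 F234591)))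
theorem Q63139 : ∀ i, i < 63139 → P i := stepQ 63138 Q63138 (allL N63138 (tt N100063 D203205) (tt N100064 D203206) (tt N76994 (iv2 F241336)) (tt N53934 (iv3 F366765)) (tt N100065 D203207) (tt N33880 (iv5 D118220)) (tt N100066 D203208) (tt N76995 (iv7 F241339)))
theorem Q63140 : ∀ i, i < 63140 → P i := stepQ 63139 Q63139 (allL N63139 (tt N75831 F234297) (tt N100067 D203209) (tt N75927 (iv2 F234613)) (tt N53935 F338071) (tt N33882 F185755) (tt N54440 (iv5 F338072)) (tt N33880 (iv6 D118221)) (tt N75923 (iv7 F234605)))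
theorem Q63141 : ∀ i, i < 63141 → P i := stepQ 63140 Q63140 (allL N63140 (tt N100068 D203210) (tt N100069 D203211) (tt N56025 F319620) (tt N99207 (iv3 F423697)) (tt N33881 (iv4 D118223)) (tt N100070 D203212) (tt N40578 F319621) (tt N82322 (iv7 F280247)))
theorem Q63142 : ∀ i, i < 63142 → P i := stepQ 63141 Q63141 (allL N63141 (tt N90649 (iv1 F390404)) (tt N40750 F322943) (tt N98378 (iv2 F420695)) (tt N33885 F185765) (tt N96838 (iv4 F414194)) (tt N33883 (iv5 D118231)) (tt N96837 (iv6 F414191)) (tt N56022 (iv7 F317375)))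
theorem Q63143 : ∀ i, i < 63143 → P i := stepQ 63142 Q63142 (allL N63142 (tt N99925 (iv1 F426848)) (tt N75775 (iv0 F416632)) (tt N98379 (iv2 F420700)) (tt N33886 F185766) (tt N63484 (iv4 F187667)) (tt N67038 (iv5 F206395)) (tt N33883 (iv6 D118232)) (tt N100071 D203213))
theorem Q63144 : ∀ i, i < 63144 → P i := stepQ 63143 Q63143 (allL N63143 (tt N52801 (iv1 F185768)) (tt N34500 F303377) (tt N52803 F354023) (tt N33884 (iv3 D118233)) (tt N63482 (iv4 F187666)) (tt N100072 D203214) (tt N100073 D203215) (tt N52802 F187657))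
theorem Q63145 : ∀ i, i < 63145 → P i := stepQ 63144 Q63144 (allL N63144 (tt N100064 (iv1 F427408)) (tt N100063 F427401) (tt N76995 (iv2 F241338)) (tt N100072 (iv3 F427435)) (tt N100074 D203216) (tt N33884 (iv5 D118234)) (tt N100075 D203217) (tt N76994 (iv7 F241337)))
theorem Q63146 : ∀ i, i < 63146 → P i := stepQ 63145 Q63145 (allL N63145 (tt N71495 (iv1 F363923)) (tt N54003 (iv0 F242722)) (tt N76996 (iv2 F241340)) (tt N100073 (iv3 F427442)) (tt N33886 F185769) (tt N100076 D203218) (tt N33884 (iv6 D118235)) (tt N100077 D203219))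
theorem Q63147 : ∀ i, i < 63147 → P i := stepQ 63146 Q63146 (allL N63146 (tt N100069 (iv1 F427423)) (tt N100068 F427418) (tt N82322 (iv2 F280245)) (tt N92366 (iv3 F396831)) (tt N33885 (iv4 D118236)) (tt N100078 D203220) (tt N92365 F396829) (tt N56025 (iv7 F317376)))
theorem Q63148 : ∀ i, i < 63148 → P i := stepQ 63147 Q63147 (allL N63147 (tt N34572 (iv1 F187659)) (tt N72119 (iv0 F322853)) (tt N67094 (iv2 F206587)) (tt N100071 (iv3 F427429)) (tt N100077 (iv4 F427455)) (tt N56149 F187663) (tt N75839 (iv6 F234302)) (tt N33886 (iv7 D118238)))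
theorem Q63149 : ∀ i, i < 63149 → P i := stepQ 63148 Q63148 (allL N63148 (tt N72194 (iv1 F315875)) (tt N75809 (iv0 F239484)) (tt N76796 (iv2 F239962)) (tt N33887 (iv3 D118239)) (tt N76596 (iv4 F239482)) (tt N48226 F185771) (tt N72785 F363479) (tt N76798 F239957))
theorem Q63150 : ∀ i, i < 63150 → P i := stepQ 63149 Q63149 (allL N63149 (tt N77009 (iv1 F241385)) (tt N76982 F241380) (tt N77005 F241377) (tt N94268 (iv3 F403905)) (tt N33887 (iv4 D118240)) (tt N100079 D203221) (tt N100080 D203222) (tt N77006 F241376))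
theorem Q63151 : ∀ i, i < 63151 → P i := stepQ 63150 Q63150 (allL N63150 (tt N41255 F317340) (tt N41259 F317341) (tt N41257 F317342) (tt N72785 F363478) (tt N100080 (iv4 F427461)) (tt N68423 F210371) (tt N33887 (iv6 D118241)) (tt N41256 F317343))
theorem Q63152 : ∀ i, i < 63152 → P i := stepQ 63151 Q63151 (allL N63151 (tt N75816 F234192) (tt N80382 (iv0 F264233)) (tt N89193 F385519) (tt N33888 (iv3 D118242)) (tt N63491 F189711) (tt N48229 F185773) (tt N48216 F185774) (tt N89194 (iv7 F385522)))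
theorem Q63153 : ∀ i, i < 63153 → P i := stepQ 63152 Q63152 (allL N63152 (tt N76982 (iv1 F241301)) (tt N77009 F241384) (tt N77006 F241374) (tt N100081 D203223) (tt N33888 (iv4 D118243)) (tt N100082 D203224) (tt N48217 F185775) (tt N77005 (iv7 F241379)))
theorem Q63154 : ∀ i, i < 63154 → P i := stepQ 63153 Q63153 (allL N63153 (tt N100042 (iv1 F427344)) (tt N33889 (iv0 D118244)) (tt N100038 F427325) (tt N74299 F404358) (tt N43519 F278982) (tt N74298 (iv5 F404357)) (tt N100083 D203225) (tt N100039 (iv7 F427331)))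
theorem Q63155 : ∀ i, i < 63155 → P i := stepQ 63154 Q63154 (allL N63154 (tt N33889 (iv1 D118245)) (tt N100042 F427343) (tt N100039 (iv2 F427334)) (tt N89182 (iv3 F385479)) (tt N43520 (iv4 F190931)) (tt N100084 D203226) (tt N48220 (iv6 F233011)) (tt N100038 F427328))
theorem Q63156 : ∀ i, i < 63156 → P i := stepQ 63155 Q63155 (allL N63155 (tt N100085 D203227) (tt N100086 D203228) (tt N100041 (iv2 F427338)) (tt N78253 (iv3 F366502)) (tt N100087 D203229) (tt N33889 (iv5 D118247)) (tt N100088 D203230) (tt N100089 D203231))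
theorem Q63157 : ∀ i, i < 63157 → P i := stepQ 63156 Q63156 (allL N63156 (tt N100039 (iv1 F427330)) (tt N100038 F427329) (tt N100042 (iv2 F427340)) (tt N57548 (iv3 F319577)) (tt N33890 F185778) (tt N100089 (iv5 F427482)) (tt N100090 D203232) (tt N33889 (iv7 D118248)))
theorem Q63158 : ∀ i, i < 63158 → P i := stepQ 63157 Q63157 (allL N63157 (tt N44129 (iv1 F185783)) (tt N44128 F185784) (tt N44130 F185779) (tt N33905 F185780) (tt N100090 (iv4 F427487)) (tt N37614 F185781) (tt N33890 (iv6 D118249)) (tt N33903 F185782))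
theorem Q63159 : ∀ i, i < 63159 → P i := stepQ 63158 Q63158 (allL N63158 (tt N33891 (iv1 D118250)) (tt N42742 F185785) (tt N42744 F185789) (tt N33908 (iv3 F185788)) (tt N42950 F185790) (tt N41421 F185787) (tt N81691 F344479) (tt N42745 F185786))
theorem Q63160 : ∀ i, i < 63160 → P i := stepQ 63159 Q63159 (allL N63159 (tt N100091 D203233) (tt N78156 (iv0 F366526)) (tt N98380 (iv2 F420703)) (tt N33893 F185791) (tt N77709 (iv4 F244738)) (tt N41386 F185792) (tt N33891 (iv6 D118251)) (tt N94453 (iv7 F404530)))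
theorem Q63161 : ∀ i, i < 63161 → P i := stepQ 63160 Q63160 (allL N63160 (tt N91348 F392832) (tt N91346 (iv0 F392825)) (tt N92367 (iv2 F396836)) (tt N33892 (iv3 D118252)) (tt N77708 (iv4 F244736)) (tt N100092 D203234) (tt N100093 D203235) (tt N42752 F185793))
theorem Q63162 : ∀ i, i < 63162 → P i := stepQ 63161 Q63161 (allL N63161 (tt N76985 (iv1 F241316)) (tt N77018 (iv0 F241401)) (tt N77017 F241398) (tt N100092 (iv3 F427496)) (tt N63174 F185822) (tt N33892 (iv5 D118253)) (tt N100094 D203236) (tt N42753 F185794))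
theorem Q63163 : ∀ i, i < 63163 → P i := stepQ 63162 Q63162 (allL N63162 (tt N94460 (iv1 F404557)) (tt N94459 F404556) (tt N94462 (iv2 F404560)) (tt N100093 (iv3 F427498)) (tt N33893 F185795) (tt N100095 D203237) (tt N33892 (iv6 D118254)) (tt N94454 (iv7 F404534)))
theorem Q63164 : ∀ i, i < 63164 → P i := stepQ 63163 Q63163 (allL N63163 (tt N62325 F351448) (tt N73178 (iv0 F348832)) (tt N76842 (iv2 F240047)) (tt N33896 F185802) (tt N73202 F320485) (tt N73165 (iv5 F348059)) (tt N33894 (iv6 D118258)) (tt N72708 F320486))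
theorem Q63165 : ∀ i, i < 63165 → P i := stepQ 63164 Q63164 (allL N63164 (tt N98936 F422821) (tt N98933 (iv0 F422817)) (tt N100096 D203238) (tt N33895 (iv3 D118259)) (tt N76604 (iv4 F239524)) (tt N100097 D203239) (tt N100098 D203240) (tt N74504 (iv7 F228068)))
theorem Q63166 : ∀ i, i < 63166 → P i := stepQ 63165 Q63165 (allL N63165 (tt N76051 (iv1 F236061)) (tt N76048 (iv0 F236057)) (tt N74507 (iv2 F228084)) (tt N100097 (iv3 F427504)) (tt N63173 (iv4 F185817)) (tt N33895 (iv5 D118260)) (tt N41293 F351849) (tt N74505 (iv7 F228070)))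
theorem Q63167 : ∀ i, i < 63167 → P i := stepQ 63166 Q63166 (allL N63166 (tt N74709 F320846) (tt N94404 (iv0 F404320)) (tt N73186 F320847) (tt N100098 (iv3 F427508)) (tt N33896 F185803) (tt N41294 F351847) (tt N33895 (iv6 D118261)) (tt N72712 F320848))
theorem Q63168 : ∀ i, i < 63168 → P i := stepQ 63167 Q63167 (allL N63167 (tt N91285 (iv1 F392551)) (tt N91343 (iv0 F392816)) (tt N100099 D203241) (tt N33898 (iv3 D118265)) (tt N63498 (iv4 F187731)) (tt N100100 D203242) (tt N72713 (iv6 F366243)) (tt N74506 (iv7 F228083)))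
theorem Q63169 : ∀ i, i < 63169 → P i := stepQ 63168 Q63168 (allL N63168 (tt N76048 (iv1 F236058)) (tt N76051 (iv0 F236060)) (tt N74505 (iv2 F228069)) (tt N100100 (iv3 F427516)) (tt N63170 (iv4 F185815)) (tt N33898 (iv5 D118266)) (tt N100101 D203243) (tt N74507 (iv7 F228085)))
theorem Q63170 : ∀ i, i < 63170 → P i := stepQ 63169 Q63169 (allL N63169 (tt N83176 F372270) (tt N53633 (iv0 F365346)) (tt N89116 (iv2 F385218)) (tt N33899 (iv3 D118271)) (tt N72615 (iv4 F365343)) (tt N100102 D203244) (tt N100103 D203245) (tt N100044 (iv7 F427349)))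
theorem Q63171 : ∀ i, i < 63171 → P i := stepQ 63170 Q63170 (allL N63170 (tt N67104 (iv1 F206654)) (tt N74516 F228110) (tt N74513 F228101) (tt N100102 (iv3 F427519)) (tt N63168 F185815) (tt N33899 (iv5 D118272)) (tt N92370 F396842) (tt N74512 F228097))
theorem Q63172 : ∀ i, i < 63172 → P i := stepQ 63171 Q63171 (allL N63171 (tt N48224 F233205) (tt N41571 F320844) (tt N73187 (iv2 F343139)) (tt N100103 (iv3 F427521)) (tt N43524 F185816) (tt N92371 (iv5 F396845)) (tt N33899 (iv6 D118273)) (tt N72723 F343138))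
theorem Q63173 : ∀ i, i < 63173 → P i := stepQ 63172 Q63172 (allL N63172 (tt N100104 D203246) (tt N100105 D203247) (tt N100106 D203248) (tt N33900 (iv3 D118274)) (tt N79101 (iv4 F252591)) (tt N100107 D203249) (tt N72724 F366345) (tt N100043 (iv7 F427346)))
theorem Q63174 : ∀ i, i < 63174 → P i := stepQ 63173 Q63173 (allL N63173 (tt N74516 (iv1 F228111)) (tt N67104 (iv0 F206653)) (tt N74512 F228096) (tt N100107 (iv3 F427530)) (tt N63165 F185817) (tt N33900 (iv5 D118275)) (tt N74365 (iv6 F351852)) (tt N74513 (iv7 F228099)))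
theorem Q63175 : ∀ i, i < 63175 → P i := stepQ 63174 Q63174 (allL N63174 (tt N44126 (iv1 F185823)) (tt N33901 (iv0 D118281)) (tt N76046 (iv2 F236052)) (tt N100108 D203250) (tt N63161 (iv4 F185822)) (tt N41426 F185821) (tt N100109 D203251) (tt N76056 (iv7 F236066)))
theorem Q63176 : ∀ i, i < 63176 → P i := stepQ 63175 Q63175 (allL N63175 (tt N33901 (iv1 D118282)) (tt N44126 F185824) (tt N76056 (iv2 F236065)) (tt N100110 D203252) (tt N63112 (iv4 F185826)) (tt N41427 F185825) (tt N100111 D203253) (tt N76046 (iv7 F236053)))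
theorem Q63177 : ∀ i, i < 63177 → P i := stepQ 63176 Q63176 (allL N63176 (tt N100112 D203254) (tt N100113 D203255) (tt N100048 (iv2 F427367)) (tt N99631 (iv3 F425501)) (tt N77764 (iv4 F244885)) (tt N100088 (iv5 F427480)) (tt N33901 (iv6 D118283)) (tt N100114 D203256))
theorem Q63178 : ∀ i, i < 63178 → P i := stepQ 63177 Q63177 (allL N63177 (tt N76056 (iv1 F236069)) (tt N76046 (iv0 F236054)) (tt N44126 F185827) (tt N41293 (iv3 F323331)) (tt N63125 F185828) (tt N33902 F185829) (tt N100097 F427505) (tt N33901 (iv7 D118284)))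
theorem Q63179 : ∀ i, i < 63179 → P i := stepQ 63178 Q63178 (allL N63178 (tt N100115 D203257) (tt N100116 D203258) (tt N44127 F185830) (tt N41294 F321535) (tt N33903 F185831) (tt N100098 (iv5 F427510)) (tt N33902 (iv6 D118285)) (tt N100090 (iv7 F427489)))
theorem Q63180 : ∀ i, i < 63180 → P i := stepQ 63179 Q63179 (allL N63179 (tt N44130 (iv1 F185832)) (tt N33903 (iv0 D118286)) (tt N44128 F264355) (tt N81713 F359934) (tt N100117 D203259) (tt N73338 (iv5 F333663)) (tt N69061 (iv6 F316352)) (tt N44129 F264356))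
theorem Q63181 : ∀ i, i < 63181 → P i := stepQ 63180 Q63180 (allL N63180 (tt N33903 (iv1 D118287)) (tt N44130 F185833) (tt N44129 F264357) (tt N100118 D203260) (tt N100119 D203261) (tt N73339 (iv5 F343410)) (tt N72719 (iv6 F333623)) (tt N44128 F264358))
theorem Q63182 : ∀ i, i < 63182 → P i := stepQ 63181 Q63181 (allL N63181 (tt N36495 (iv1 F190971)) (tt N36456 (iv0 F190972)) (tt N33904 (iv2 D118290)) (tt N42902 F185835) (tt N77483 (iv4 F242873)) (tt N46487 F185836) (tt N46533 F314684) (tt N36493 (iv7 F190680)))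
theorem Q63183 : ∀ i, i < 63183 → P i := stepQ 63182 Q63182 (allL N63182 (tt N77485 (iv1 F242881)) (tt N43541 (iv0 F190919)) (tt N77483 F242872) (tt N44310 (iv3 F317474)) (tt N33904 (iv4 D118291)) (tt N100120 D203262) (tt N48249 F314685) (tt N42904 F185841))
theorem Q63184 : ∀ i, i < 63184 → P i := stepQ 63183 Q63183 (allL N63183 (tt N36500 F185876) (tt N36499 F185877) (tt N36503 F185873) (tt N53969 F365238) (tt N33906 (iv4 D118308)) (tt N43896 F185875) (tt N90283 (iv6 F389221)) (tt N36463 F185874))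
theorem Q63185 : ∀ i, i < 63185 → P i := stepQ 63184 Q63184 (allL N63184 (tt N99615 (iv1 F425432)) (tt N41074 F320342) (tt N36504 F185878) (tt N98381 (iv3 F420707)) (tt N90283 (iv4 F389219)) (tt N36462 F185879) (tt N33906 (iv6 D118309)) (tt N78319 (iv7 F248076)))
theorem Q63186 : ∀ i, i < 63186 → P i := stepQ 63185 Q63185 (allL N63185 (tt N43596 F185893) (tt N43546 F185894) (tt N77469 F242853) (tt N39969 F319261) (tt N43577 F185892) (tt N33910 (iv5 D118314)) (tt N100121 D203263) (tt N42918 F185891))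
theorem Q63187 : ∀ i, i < 63187 → P i := stepQ 63186 Q63186 (allL N63186 (tt N33985 F185935) (tt N41729 F185936) (tt N42915 F185933) (tt N53235 F335913) (tt N33911 (iv4 D118329)) (tt N53234 (iv5 F335911)) (tt N40626 F321266) (tt N42912 F185934))
theorem Q63188 : ∀ i, i < 63188 → P i := stepQ 63187 Q63187 (allL N63187 (tt N75674 F233408) (tt N99514 F424945) (tt N77688 (iv2 F244706)) (tt N39934 F319534) (tt N33913 F185940) (tt N83314 F363385) (tt N33912 (iv6 D118332)) (tt N39928 F319535))
theorem Q63189 : ∀ i, i < 63189 → P i := stepQ 63188 Q63188 (allL N63188 (tt N39945 F319540) (tt N33913 (iv0 D118333)) (tt N39948 F353418) (tt N47715 F348033) (tt N100122 D203264) (tt N47713 F348034) (tt N96905 (iv6 F414538)) (tt N39947 F353419))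
theorem Q63190 : ∀ i, i < 63190 → P i := stepQ 63189 Q63189 (allL N63189 (tt N43881 F185981) (tt N43874 F185982) (tt N77464 (iv2 F242835)) (tt N62208 (iv3 F322386)) (tt N43583 F185980) (tt N33915 (iv5 D118348)) (tt N100123 D203265) (tt N42926 F185979))
theorem Q63191 : ∀ i, i < 63191 → P i := stepQ 63190 Q63190 (allL N63190 (tt N34154 F186062) (tt N34153 F186063) (tt N34155 F186060) (tt N87789 (iv3 F380506)) (tt N33916 (iv4 D118409)) (tt N55056 F329994) (tt N100124 D203266) (tt N34121 F186061))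
theorem Q63192 : ∀ i, i < 63192 → P i := stepQ 63191 Q63191 (allL N63191 (tt N100125 D203267) (tt N43406 F215871) (tt N34156 F186064) (tt N42980 F186065) (tt N100124 (iv4 F427573)) (tt N34120 F186066) (tt N33916 (iv6 D118410)) (tt N88438 (iv7 F383049)))
theorem Q63193 : ∀ i, i < 63193 → P i := stepQ 63192 Q63192 (allL N63192 (tt N44089 F186069) (tt N44088 (iv0 F186070)) (tt N34367 F186067) (tt N89921 (iv3 F387997)) (tt N33917 (iv4 D118411)) (tt N88061 (iv5 F381635)) (tt N100126 D203268) (tt N42948 F186068))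
theorem Q63194 : ∀ i, i < 63194 → P i := stepQ 63193 Q63193 (allL N63193 (tt N73640 F340824) (tt N69140 (iv0 F313662)) (tt N34368 F186071) (tt N42982 F186072) (tt N100126 (iv4 F427585)) (tt N63826 (iv5 F189761)) (tt N33917 (iv6 D118412)) (tt N73659 F340825))
theorem Q63195 : ∀ i, i < 63195 → P i := stepQ 63194 Q63194 (allL N63194 (tt N34150 (iv1 F186074)) (tt N33918 (iv0 D118413)) (tt N42950 (iv2 F186075)) (tt N100127 D203269) (tt N42744 F186073) (tt N52513 (iv5 F365313)) (tt N100128 D203270) (tt N42949 (iv7 F186076)))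
theorem Q63196 : ∀ i, i < 63196 → P i := stepQ 63195 Q63195 (allL N63195 (tt N33918 (iv1 D118414)) (tt N34150 F186077) (tt N42949 (iv2 F186080)) (tt N85268 F372095) (tt N42745 F186079) (tt N74172 (iv5 F323199)) (tt N73650 F344496) (tt N42950 F186078))
theorem Q63197 : ∀ i, i < 63197 → P i := stepQ 63196 Q63196 (allL N63196 (tt N42929 (iv1 F186218)) (tt N33920 (iv0 D118426)) (tt N36626 (iv2 F186219)) (tt N100129 D203271) (tt N36355 F186217) (tt N71907 (iv5 F350050)) (tt N57074 (iv6 F350034)) (tt N36624 (iv7 F186220)))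
theorem Q63198 : ∀ i, i < 63198 → P i := stepQ 63197 Q63197 (allL N63197 (tt N33920 (iv1 D118427)) (tt N42929 F186221) (tt N36624 (iv2 F186224)) (tt N100130 D203272) (tt N36356 F186223) (tt N76887 (iv5 F240280)) (tt N100131 D203273) (tt N36626 F186222))
theorem Q63199 : ∀ i, i < 63199 → P i := stepQ 63198 Q63198 (allL N63198 (tt N93893 (iv1 F402313)) (tt N93894 (iv0 F402319)) (tt N43577 F186227) (tt N74217 (iv3 F349172)) (tt N77469 F242854) (tt N33920 (iv5 D118429)) (tt N100132 D203274) (tt N42934 F186228))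
theorem Q63200 : ∀ i, i < 63200 → P i := stepQ 63199 Q63199 (allL N63199 (tt N91542 (iv1 F393576)) (tt N73767 (iv0 F353414)) (tt N43578 F186229) (tt N56856 F317569) (tt N33921 F186230) (tt N100133 D203275) (tt N33920 (iv6 D118430)) (tt N44408 F317570))
theorem Q63201 : ∀ i, i < 63201 → P i := stepQ 63200 Q63200 (allL N63200 (tt N43581 (iv1 F186235)) (tt N33921 (iv0 D118431)) (tt N43579 (iv2 F190873)) (tt N42188 F230734) (tt N100134 D203276) (tt N55127 F335074) (tt N73791 F342446) (tt N43580 F190872))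
theorem Q63202 : ∀ i, i < 63202 → P i := stepQ 63201 Q63201 (allL N63201 (tt N43187 (iv1 F186265)) (tt N33922 (iv0 D118443)) (tt N43184 F339328) (tt N66950 F339329) (tt N76622 (iv4 F339356)) (tt N75651 (iv5 F339334)) (tt N38220 F339330) (tt N43185 F339331))
theorem Q63203 : ∀ i, i < 63203 → P i := stepQ 63202 Q63202 (allL N63202 (tt N43185 (iv1 F186266)) (tt N43184 F186267) (tt N43187 F186263) (tt N64200 (iv3 F193576)) (tt N63738 F335528) (tt N98258 (iv5 F420212)) (tt N43176 F186264) (tt N33922 (iv7 D118445)))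
theorem Q63204 : ∀ i, i < 63204 → P i := stepQ 63203 Q63203 (allL N63203 (tt N35431 (iv1 F199884)) (tt N33924 (iv0 D118447)) (tt N43192 F200277) (tt N74526 F316887) (tt N42533 (iv4 F200276)) (tt N100135 D203277) (tt N74525 F316888) (tt N43193 F200278))
theorem Q63205 : ∀ i, i < 63205 → P i := stepQ 63204 Q63204 (allL N63204 (tt N33924 (iv1 D118448)) (tt N35431 (iv0 F199883)) (tt N43193 (iv2 F200279)) (tt N45554 F200281) (tt N42534 F200282) (tt N81219 F363198) (tt N90468 F389768) (tt N43192 (iv7 F200280)))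
theorem Q63206 : ∀ i, i < 63206 → P i := stepQ 63205 Q63205 (allL N63205 (tt N59967 F345387) (tt N95751 (iv0 F409459)) (tt N43194 F186272) (tt N44489 F316889) (tt N81553 (iv4 F335296)) (tt N33924 (iv5 D118449)) (tt N78589 (iv6 F249644)) (tt N48032 F200297))
theorem Q63207 : ∀ i, i < 63207 → P i := stepQ 63206 Q63206 (allL N63206 (tt N68555 F210825) (tt N79363 F305794) (tt N33949 F186354) (tt N44759 F305795) (tt N33932 (iv4 D118477)) (tt N61272 F305796) (tt N33936 F186355) (tt N76939 F305797))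
theorem Q63208 : ∀ i, i < 63208 → P i := stepQ 63207 Q63207 (allL N63207 (tt N33948 (iv1 F186359)) (tt N33947 F186360) (tt N33950 F186356) (tt N33990 F304112) (tt N76939 F304113) (tt N33933 F186358) (tt N94122 (iv6 F403309)) (tt N33932 (iv7 D118478)))
theorem Q63209 : ∀ i, i < 63209 → P i := stepQ 63208 Q63208 (allL N63208 (tt N34417 F186371) (tt N34416 F186372) (tt N33956 F186369) (tt N70561 (iv3 F217814)) (tt N33935 (iv4 D118481)) (tt N87469 (iv5 F379441)) (tt N88512 F383344) (tt N33958 F186370))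
theorem Q63210 : ∀ i, i < 63210 → P i := stepQ 63209 Q63209 (allL N63209 (tt N33936 (iv1 D118482)) (tt N33964 F186373) (tt N33961 (iv2 F186376)) (tt N79991 (iv3 F332308)) (tt N42496 F186375) (tt N79990 F332309) (tt N100136 D203278) (tt N33960 F186374))
theorem Q63211 : ∀ i, i < 63211 → P i := stepQ 63210 Q63210 (allL N63210 (tt N46443 F344785) (tt N68045 (iv0 F217819)) (tt N61283 F311483) (tt N33936 (iv3 D118483)) (tt N43017 F186377) (tt N75786 (iv5 F334740)) (tt N44759 F311484) (tt N81434 (iv7 F334742)))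
theorem Q63212 : ∀ i, i < 63212 → P i := stepQ 63211 Q63211 (allL N63211 (tt N60479 (iv1 F344958)) (tt N80862 F354611) (tt N33963 F186378) (tt N75786 (iv3 F334739)) (tt N95847 (iv4 F409932)) (tt N33936 (iv5 D118484)) (tt N75785 F354562) (tt N81433 (iv7 F344950)))
theorem Q63213 : ∀ i, i < 63213 → P i := stepQ 63212 Q63212 (allL N63212 (tt N33961 (iv1 F186381)) (tt N33960 F186382) (tt N33964 F186379) (tt N81434 (iv3 F344947)) (tt N33937 F186380) (tt N81433 F344949) (tt N100137 D203279) (tt N33936 (iv7 D118485)))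
theorem Q63214 : ∀ i, i < 63214 → P i := stepQ 63213 Q63213 (allL N63213 (tt N62551 F345700) (tt N44543 F208108) (tt N33965 F186383) (tt N43019 F186384) (tt N100137 (iv4 F427641)) (tt N34263 F186385) (tt N33937 (iv6 D118486)) (tt N94122 (iv7 F403312)))
theorem Q63215 : ∀ i, i < 63215 → P i := stepQ 63214 Q63214 (allL N63214 (tt N77579 (iv1 F364288)) (tt N63750 (iv0 F189184)) (tt N43320 F186386) (tt N81052 (iv3 F273236)) (tt N90474 (iv4 F389784)) (tt N33938 (iv5 D118487)) (tt N77592 (iv6 F243911)) (tt N79381 F364285))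
theorem Q63216 : ∀ i, i < 63216 → P i := stepQ 63215 Q63215 (allL N63215 (tt N43311 (iv1 F186389)) (tt N34447 F186390) (tt N43321 F186387) (tt N81053 (iv3 F273239)) (tt N76059 (iv4 F236160)) (tt N79381 F364284) (tt N43319 F186388) (tt N33938 (iv7 D118488)))
theorem Q63217 : ∀ i, i < 63217 → P i := stepQ 63216 Q63216 (allL N63216 (tt N79363 (iv1 F254536)) (tt N68555 (iv0 F306204)) (tt N76939 (iv2 F240882)) (tt N33939 (iv3 D118489)) (tt N33950 F304114) (tt N43196 F186392) (tt N100138 D203280) (tt N33949 F304115))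
theorem Q63218 : ∀ i, i < 63218 → P i := stepQ 63217 Q63217 (allL N63217 (tt N68018 (iv1 F346378)) (tt N100139 D203281) (tt N43259 F186394) (tt N100138 (iv3 F427642)) (tt N33940 F186395) (tt N100140 D203282) (tt N33939 (iv6 D118490)) (tt N38637 F306852))
theorem Q63219 : ∀ i, i < 63219 → P i := stepQ 63218 Q63218 (allL N63218 (tt N38629 (iv1 F308708)) (tt N33940 (iv0 D118491)) (tt N38639 F341210) (tt N43726 F341211) (tt N38632 F341212) (tt N43725 F341213) (tt N38631 F341214) (tt N38638 F341215))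
theorem Q63220 : ∀ i, i < 63220 → P i := stepQ 63219 Q63219 (allL N63219 (tt N77616 (iv1 F244028)) (tt N41582 F324075) (tt N46359 (iv2 F304767)) (tt N80938 F303186) (tt N76102 (iv4 F236364)) (tt N77582 F243865) (tt N33941 (iv6 D118497)) (tt N77606 (iv7 F243957)))
theorem Q63221 : ∀ i, i < 63221 → P i := stepQ 63220 Q63220 (allL N63220 (tt N46372 F303239) (tt N72314 (iv0 F311895)) (tt N46356 F303190) (tt N49647 (iv3 F287037)) (tt N57688 (iv4 F310488)) (tt N65312 (iv5 F200758)) (tt N33942 (iv6 D118500)) (tt N79375 (iv7 F304808)))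
theorem Q63222 : ∀ i, i < 63222 → P i := stepQ 63221 Q63221 (allL N63221 (tt N63833 (iv1 F189775)) (tt N63826 (iv0 F189762)) (tt N44480 F311238) (tt N74679 (iv3 F350136)) (tt N52779 (iv4 F343994)) (tt N44478 (iv5 F311910)) (tt N33945 (iv6 D118520)) (tt N63832 (iv7 F189769)))
theorem Q63223 : ∀ i, i < 63223 → P i := stepQ 63222 Q63222 (allL N63222 (tt N76939 F305805) (tt N33949 (iv0 D118526)) (tt N68555 (iv2 F210826)) (tt N44712 F305806) (tt N46446 F305807) (tt N64037 F305808) (tt N44710 F305809) (tt N79363 F305810))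
theorem Q63224 : ∀ i, i < 63224 → P i := stepQ 63223 Q63223 (allL N63223 (tt N33949 (iv1 D118527)) (tt N76939 F305811) (tt N79363 F305812) (tt N66836 F305813) (tt N46445 F305814) (tt N64765 F305815) (tt N80476 (iv6 F341655)) (tt N68555 (iv7 F210822)))
theorem Q63225 : ∀ i, i < 63225 → P i := stepQ 63224 Q63224 (allL N63224 (tt N44543 F208106) (tt N62551 (iv0 F345699)) (tt N94122 F403310) (tt N33969 F186434) (tt N100138 (iv4 F427643)) (tt N43355 F186435) (tt N33950 (iv6 D118531)) (tt N33965 F186436))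
theorem Q63226 : ∀ i, i < 63226 → P i := stepQ 63225 Q63225 (allL N63225 (tt N63819 (iv1 F189735)) (tt N63827 (iv0 F189764)) (tt N76405 (iv2 F238524)) (tt N88052 (iv3 F381596)) (tt N33951 (iv4 D118532)) (tt N88050 F381588) (tt N91197 (iv6 F392235)) (tt N69592 (iv7 F215057)))
theorem Q63227 : ∀ i, i < 63227 → P i := stepQ 63226 Q63226 (allL N63226 (tt N86419 F376160) (tt N100141 D203283) (tt N76406 (iv2 F238527)) (tt N38216 F186437) (tt N91197 F392234) (tt N51499 F186438) (tt N33951 (iv6 D118533)) (tt N88947 (iv7 F384584)))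
theorem Q63228 : ∀ i, i < 63228 → P i := stepQ 63227 Q63227 (allL N63227 (tt N42272 (iv1 F317235)) (tt N33952 (iv0 D118539)) (tt N37483 (iv2 F187416)) (tt N43107 (iv3 F235421)) (tt N96492 (iv4 F412744)) (tt N42266 F317225) (tt N63433 F187415) (tt N42265 (iv7 F317238)))
theorem Q63229 : ∀ i, i < 63229 → P i := stepQ 63228 Q63228 (allL N63228 (tt N42265 (iv1 F317237)) (tt N37483 F208270) (tt N42272 F319522) (tt N38277 F186447) (tt N67902 (iv4 F208230)) (tt N45293 F186448) (tt N67901 F208226) (tt N33952 (iv7 D118541)))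
theorem Q63230 : ∀ i, i < 63230 → P i := stepQ 63229 Q63229 (allL N63229 (tt N33955 (iv1 D118546)) (tt N67901 F208227) (tt N37487 (iv2 F209616)) (tt N43117 (iv3 F232827)) (tt N67950 (iv4 F208666)) (tt N69575 (iv5 F214916)) (tt N63717 (iv6 F304071)) (tt N67904 F209615))
theorem Q63231 : ∀ i, i < 63231 → P i := stepQ 63230 Q63230 (allL N63230 (tt N33958 (iv1 F186453)) (tt N33956 (iv0 D118547)) (tt N34417 (iv2 F186452)) (tt N75764 (iv3 F330750)) (tt N37509 F186451) (tt N80194 (iv5 F330752)) (tt N80195 F330746) (tt N34416 F186454))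
theorem Q63232 : ∀ i, i < 63232 → P i := stepQ 63231 Q63231 (allL N63231 (tt N75462 F342239) (tt N47071 F342261) (tt N87469 F379443) (tt N44431 F186455) (tt N95874 (iv4 F410043)) (tt N33956 (iv5 D118548)) (tt N97417 (iv6 F416808)) (tt N34419 F186456))
theorem Q63233 : ∀ i, i < 63233 → P i := stepQ 63232 Q63232 (allL N63232 (tt N88510 F383334) (tt N81120 (iv0 F337053)) (tt N88512 (iv2 F383346)) (tt N44432 F186457) (tt N33957 F186458) (tt N97418 (iv5 F416812)) (tt N33956 (iv6 D118549)) (tt N88511 F383340))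
theorem Q63234 : ∀ i, i < 63234 → P i := stepQ 63233 Q63233 (allL N63233 (tt N69417 F237473) (tt N33957 (iv0 D118550)) (tt N37385 F237474) (tt N43125 F247749) (tt N95781 (iv4 F409607)) (tt N100142 D203284) (tt N75607 (iv6 F337175)) (tt N69418 F237476))
theorem Q63235 : ∀ i, i < 63235 → P i := stepQ 63234 Q63234 (allL N63234 (tt N69418 F237489) (tt N37385 F237490) (tt N69417 F237477) (tt N34429 F186459) (tt N88511 (iv4 F383336)) (tt N41904 F186460) (tt N34423 F186461) (tt N33957 (iv7 D118552)))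
theorem Q63236 : ∀ i, i < 63236 → P i := stepQ 63235 Q63235 (allL N63235 (tt N47071 F336916) (tt N75462 F342241) (tt N34419 F186463) (tt N70560 (iv3 F217810)) (tt N48757 F330757) (tt N33958 (iv5 D118554)) (tt N48756 F330758) (tt N87469 (iv7 F379445)))
theorem Q63237 : ∀ i, i < 63237 → P i := stepQ 63236 Q63236 (allL N63236 (tt N34422 (iv1 F186469)) (tt N34421 F186470) (tt N34423 F186466) (tt N43461 F186467) (tt N38641 (iv4 F209854)) (tt N34099 F186468) (tt N69417 (iv6 F237479)) (tt N33959 (iv7 D118556)))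
theorem Q63238 : ∀ i, i < 63238 → P i := stepQ 63237 Q63237 (allL N63237 (tt N83232 F332310) (tt N46739 F332311) (tt N83231 F332312) (tt N33960 (iv3 D118557)) (tt N89040 (iv4 F384926)) (tt N46994 F332313) (tt N94040 (iv6 F402929)) (tt N79991 F332314))
theorem Q63239 : ∀ i, i < 63239 → P i := stepQ 63238 Q63238 (allL N63238 (tt N100143 D203285) (tt N68402 (iv0 F210100)) (tt N68502 (iv2 F210718)) (tt N46994 F332316) (tt N52001 (iv4 F342256)) (tt N33960 (iv5 D118558)) (tt N88201 (iv6 F382151)) (tt N79990 F336412))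
theorem Q63240 : ∀ i, i < 63240 → P i := stepQ 63239 Q63239 (allL N63239 (tt N95781 F409606) (tt N69419 F338163) (tt N68503 (iv2 F210722)) (tt N94040 (iv3 F402928)) (tt N68500 (iv4 F210715)) (tt N94039 (iv5 F402926)) (tt N33960 (iv6 D118559)) (tt N100144 D203286))
theorem Q63241 : ∀ i, i < 63241 → P i := stepQ 63240 Q63240 (allL N63240 (tt N81261 (iv1 F355023)) (tt N100145 D203287) (tt N89737 (iv2 F387364)) (tt N33961 (iv3 D118560)) (tt N42517 F186472) (tt N36551 F311886) (tt N36554 F311887) (tt N68501 (iv7 F210717)))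
theorem Q63242 : ∀ i, i < 63242 → P i := stepQ 63241 Q63241 (allL N63241 (tt N68402 (iv1 F210101)) (tt N100143 F427671) (tt N79990 F336405) (tt N36551 F336406) (tt N51900 F336407) (tt N33961 (iv5 D118561)) (tt N36549 F336408) (tt N68502 (iv7 F210719)))
theorem Q63243 : ∀ i, i < 63243 → P i := stepQ 63242 Q63242 (allL N63242 (tt N69576 F214920) (tt N34439 F319359) (tt N100136 (iv2 F427632)) (tt N36554 F311882) (tt N42500 F186473) (tt N36550 F311883) (tt N33961 (iv6 D118562)) (tt N63618 F335245))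
theorem Q63244 : ∀ i, i < 63244 → P i := stepQ 63243 Q63243 (allL N63243 (tt N38628 (iv1 F186474)) (tt N33962 (iv0 D118563)) (tt N38635 (iv2 F212053)) (tt N42432 F317691) (tt N69671 (iv4 F215571)) (tt N99851 (iv5 F426532)) (tt N100146 D203288) (tt N38634 (iv7 F212056)))
theorem Q63245 : ∀ i, i < 63245 → P i := stepQ 63244 Q63244 (allL N63244 (tt N33962 (iv1 D118564)) (tt N38628 (iv0 F186476)) (tt N38634 F212054) (tt N47421 F332290) (tt N37210 (iv4 F186475)) (tt N47419 F332291) (tt N100147 D203289) (tt N38635 F212045))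
theorem Q63246 : ∀ i, i < 63246 → P i := stepQ 63245 Q63245 (allL N63245 (tt N72681 (iv1 F346383)) (tt N81289 F346382) (tt N81335 (iv2 F334150)) (tt N33963 F186481) (tt N81501 (iv4 F346385)) (tt N33962 (iv5 D118566)) (tt N74336 F331681) (tt N38636 F186482))
theorem Q63247 : ∀ i, i < 63247 → P i := stepQ 63246 Q63246 (allL N63246 (tt N33963 (iv1 D118568)) (tt N81433 (iv0 F344952)) (tt N80862 F354610) (tt N100148 D203290) (tt N88098 (iv4 F381793)) (tt N63822 (iv5 F189740)) (tt N88096 F381791) (tt N60479 (iv7 F344960)))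
theorem Q63248 : ∀ i, i < 63248 → P i := stepQ 63247 Q63247 (allL N63247 (tt N100149 D203291) (tt N100150 D203292) (tt N75785 (iv2 F354560)) (tt N74336 (iv3 F331682)) (tt N78361 F354559) (tt N98138 (iv5 F419642)) (tt N33963 (iv6 D118570)) (tt N100151 D203293))
theorem Q63249 : ∀ i, i < 63249 → P i := stepQ 63248 Q63248 (allL N63248 (tt N80862 (iv1 F354612)) (tt N60479 (iv0 F344957)) (tt N81433 F344803) (tt N38636 F186483) (tt N95846 (iv4 F409924)) (tt N33964 F186484) (tt N84134 (iv6 F368253)) (tt N33963 (iv7 D118571)))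
theorem Q63250 : ∀ i, i < 63250 → P i := stepQ 63249 Q63249 (allL N63249 (tt N100152 D203294) (tt N68588 (iv0 F351478)) (tt N100137 (iv2 F427639)) (tt N38637 F186485) (tt N33965 F186486) (tt N68547 (iv5 F336417)) (tt N33964 (iv6 D118572)) (tt N100138 (iv7 F427644)))
theorem Q63251 : ∀ i, i < 63251 → P i := stepQ 63250 Q63250 (allL N63250 (tt N33965 (iv1 D118574)) (tt N94122 F403311) (tt N44543 F209897) (tt N38364 (iv3 F209896)) (tt N37863 F209898) (tt N44435 F316179) (tt N37862 F209899) (tt N62551 (iv7 F345698)))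
theorem Q63252 : ∀ i, i < 63252 → P i := stepQ 63251 Q63251 (allL N63251 (tt N34107 (iv1 F186531)) (tt N34106 (iv0 F186525)) (tt N34109 F186521) (tt N45418 F298805) (tt N33966 (iv4 D118600)) (tt N51907 F298806) (tt N34143 F186522) (tt N34060 F186523))
theorem Q63253 : ∀ i, i < 63253 → P i := stepQ 63252 Q63252 (allL N63252 (tt N36549 F298159) (tt N43254 (iv0 F298719)) (tt N66877 F298160) (tt N34822 F186549) (tt N48755 F298161) (tt N33967 (iv5 D118605)) (tt N95463 (iv6 F408275)) (tt N43145 F186550))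
theorem Q63254 : ∀ i, i < 63254 → P i := stepQ 63253 Q63253 (allL N63253 (tt N47417 (iv1 F186553)) (tt N47421 (iv0 F236463)) (tt N44428 F316065) (tt N34823 F186551) (tt N33968 F186552) (tt N80888 (iv5 F272070)) (tt N33967 (iv6 D118606)) (tt N44427 F316066))
theorem Q63255 : ∀ i, i < 63255 → P i := stepQ 63254 Q63254 (allL N63254 (tt N44823 (iv1 F314732)) (tt N44737 F312342) (tt N44724 (iv2 F314723)) (tt N33970 (iv3 D118628)) (tt N38079 F186601) (tt N67603 F209326) (tt N91339 (iv6 F392796)) (tt N38630 F216642))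
theorem Q63256 : ∀ i, i < 63256 → P i := stepQ 63255 Q63255 (allL N63255 (tt N80339 F317038) (tt N46787 F325528) (tt N38633 F216644) (tt N80336 F317040) (tt N33970 (iv4 D118629)) (tt N100153 D203295) (tt N100154 D203296) (tt N38631 F216645))
theorem Q63257 : ∀ i, i < 63257 → P i := stepQ 63256 Q63256 (allL N63256 (tt N46828 F340182) (tt N67766 F327812) (tt N36146 F327813) (tt N91339 (iv3 F392798)) (tt N100154 (iv4 F427735)) (tt N36013 F327814) (tt N33970 (iv6 D118631)) (tt N100155 D203297))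
theorem Q63258 : ∀ i, i < 63258 → P i := stepQ 63257 Q63257 (allL N63257 (tt N67643 (iv1 F330275)) (tt N46788 F330219) (tt N38632 F216657) (tt N44730 F321351) (tt N38639 F330183) (tt N79225 (iv5 F331726)) (tt N33971 (iv6 D118636)) (tt N45443 F321353))
theorem Q63259 : ∀ i, i < 63259 → P i := stepQ 63258 Q63258 (allL N63258 (tt N50031 F355738) (tt N85821 F374118) (tt N42966 F186607) (tt N42448 F186608) (tt N76338 (iv4 F238386)) (tt N49479 F186609) (tt N33973 (iv6 D118646)) (tt N85813 (iv7 F374070)))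
theorem Q63260 : ∀ i, i < 63260 → P i := stepQ 63259 Q63259 (allL N63259 (tt N61542 (iv1 F349049)) (tt N55830 (iv0 F338684)) (tt N42990 F186610) (tt N48697 (iv3 F306470)) (tt N33975 F186611) (tt N48695 F305317) (tt N33974 (iv6 D118647)) (tt N61545 (iv7 F336786)))
theorem Q63261 : ∀ i, i < 63261 → P i := stepQ 63260 Q63260 (allL N63260 (tt N42993 (iv1 F186615)) (tt N33975 (iv0 D118648)) (tt N42991 F357310) (tt N92220 (iv3 F396327)) (tt N49399 F349057) (tt N100156 D203298) (tt N100157 D203299) (tt N42992 F357311))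
theorem Q63262 : ∀ i, i < 63262 → P i := stepQ 63261 Q63261 (allL N63261 (tt N42992 (iv1 F186616)) (tt N42991 F186617) (tt N42993 F186613) (tt N41654 F319323) (tt N61545 F349042) (tt N70835 (iv5 F349037)) (tt N42972 F186614) (tt N33975 (iv7 D118650)))
theorem Q63263 : ∀ i, i < 63263 → P i := stepQ 63262 Q63262 (allL N63262 (tt N54131 F186622) (tt N52876 F186623) (tt N46132 F186618) (tt N33976 (iv3 D118651)) (tt N36506 F186619) (tt N52935 F186620) (tt N63512 (iv6 F364465)) (tt N36543 F186621))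
theorem Q63264 : ∀ i, i < 63264 → P i := stepQ 63263 Q63263 (allL N63263 (tt N34348 F232335) (tt N33978 (iv0 D118653)) (tt N42996 (iv2 F232294)) (tt N63574 F307087) (tt N36517 F232336) (tt N75957 F307088) (tt N45739 F307089) (tt N36607 F232337))
theorem Q63265 : ∀ i, i < 63265 → P i := stepQ 63264 Q63264 (allL N63264 (tt N72811 (iv1 F360910)) (tt N62314 (iv0 F317432)) (tt N36231 F314084) (tt N54130 F186628) (tt N100158 D203300) (tt N33978 (iv5 D118655)) (tt N64365 (iv6 F196373)) (tt N44000 F232388))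
theorem Q63266 : ∀ i, i < 63266 → P i := stepQ 63265 Q63265 (allL N63265 (tt N42972 (iv1 F186658)) (tt N33979 (iv0 D118672)) (tt N42969 F348659) (tt N66948 F348660) (tt N76339 (iv4 F357219)) (tt N100159 D203301) (tt N100160 D203302) (tt N42970 F348661))
theorem Q63267 : ∀ i, i < 63267 → P i := stepQ 63266 Q63266 (allL N63266 (tt N33979 (iv1 D118673)) (tt N42972 F186652) (tt N42970 F348654) (tt N41743 F348655) (tt N76340 F348656) (tt N100161 D203303) (tt N41741 F348657) (tt N42969 F348658))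
theorem Q63268 : ∀ i, i < 63268 → P i := stepQ 63267 Q63267 (allL N63267 (tt N100162 D203304) (tt N100163 D203305) (tt N42971 F186653) (tt N50459 F186654) (tt N100164 D203306) (tt N33979 (iv5 D118674)) (tt N33980 F186655) (tt N100165 D203307))
theorem Q63269 : ∀ i, i < 63269 → P i := stepQ 63268 Q63268 (allL N63268 (tt N42970 (iv1 F186659)) (tt N42969 F186660) (tt N42972 F186656) (tt N61556 (iv3 F340895)) (tt N64391 (iv4 F196543)) (tt N100165 (iv5 F427787)) (tt N42993 F186657) (tt N33979 (iv7 D118675)))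
theorem Q63270 : ∀ i, i < 63270 → P i := stepQ 63269 Q63269 (allL N63269 (tt N33980 (iv1 D118676)) (tt N41722 F186661) (tt N42974 (iv2 F186664)) (tt N79060 (iv3 F252052)) (tt N76351 (iv4 F238415)) (tt N41337 F186663) (tt N100166 D203308) (tt N42973 F186662))
theorem Q63271 : ∀ i, i < 63271 → P i := stepQ 63270 Q63270 (allL N63270 (tt N50984 (iv1 F329798)) (tt N50821 (iv0 F329483)) (tt N42975 F186665) (tt N84803 F370680) (tt N33980 (iv4 D118677)) (tt N86114 (iv5 F375150)) (tt N100164 (iv6 F427780)) (tt N50985 (iv7 F349241)))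
theorem Q63272 : ∀ i, i < 63272 → P i := stepQ 63271 Q63271 (allL N63271 (tt N35413 F232382) (tt N33982 (iv0 D118679)) (tt N42976 F232383) (tt N46232 F306251) (tt N39946 F312287) (tt N73397 (iv5 F323413)) (tt N39884 F315001) (tt N42977 F232386))
theorem Q63273 : ∀ i, i < 63273 → P i := stepQ 63272 Q63272 (allL N63272 (tt N33982 (iv1 D118680)) (tt N35413 F232378) (tt N42977 F232379) (tt N68004 (iv3 F314650)) (tt N36615 F232380) (tt N74406 F306257) (tt N76017 F306258) (tt N42976 F232381))
theorem Q63274 : ∀ i, i < 63274 → P i := stepQ 63273 Q63273 (allL N63273 (tt N89188 F385500) (tt N48077 (iv0 F232639)) (tt N34361 F186690) (tt N34112 F186691) (tt N76173 F237236) (tt N34069 F186692) (tt N33983 (iv6 D118697)) (tt N100167 D203309))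
theorem Q63275 : ∀ i, i < 63275 → P i := stepQ 63274 Q63274 (allL N63274 (tt N53198 F352990) (tt N51194 F352991) (tt N53640 F352992) (tt N33985 (iv3 D118698)) (tt N72382 F352996) (tt N49398 F352993) (tt N72379 F352994) (tt N53641 F352995))
theorem Q63276 : ∀ i, i < 63276 → P i := stepQ 63275 Q63275 (allL N63275 (tt N72825 F361587) (tt N72822 (iv0 F323745)) (tt N42984 F186693) (tt N49398 F335908) (tt N51489 F335909) (tt N33985 (iv5 D118699)) (tt N49395 F335910) (tt N85912 (iv7 F374434)))
theorem Q63277 : ∀ i, i < 63277 → P i := stepQ 63276 Q63276 (allL N63276 (tt N46962 F186697) (tt N46970 (iv0 F186698)) (tt N76943 (iv2 F240893)) (tt N33986 (iv3 D118700)) (tt N61272 F186694) (tt N43098 F186695) (tt N75027 (iv6 F391590)) (tt N43000 F186696))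
theorem Q63278 : ∀ i, i < 63278 → P i := stepQ 63277 Q63277 (allL N63277 (tt N98187 F419900) (tt N99882 (iv0 F426672)) (tt N34003 F186699) (tt N75027 F391595) (tt N33987 F186700) (tt N43140 F307802) (tt N33986 (iv6 D118701)) (tt N100168 D203310))
theorem Q63279 : ∀ i, i < 63279 → P i := stepQ 63278 Q63278 (allL N63278 (tt N34007 (iv1 F186708)) (tt N33987 (iv0 D118702)) (tt N34004 F283567) (tt N80024 F259547) (tt N99973 F427024) (tt N85131 (iv5 F371712)) (tt N78999 (iv6 F251698)) (tt N34005 F283568))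
theorem Q63280 : ∀ i, i < 63280 → P i := stepQ 63279 Q63279 (allL N63279 (tt N33987 (iv1 D118703)) (tt N34007 F186701) (tt N34005 F283573) (tt N61368 (iv3 F347807)) (tt N99972 (iv4 F427016)) (tt N100169 D203311) (tt N98545 (iv6 F421276)) (tt N34004 F283574))
theorem Q63281 : ∀ i, i < 63281 → P i := stepQ 63280 Q63280 (allL N63280 (tt N100170 D203312) (tt N100171 D203313) (tt N34006 F186702) (tt N50308 F186703) (tt N76511 F413387) (tt N33987 (iv5 D118704)) (tt N33988 F186704) (tt N100172 D203314))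
theorem Q63282 : ∀ i, i < 63282 → P i := stepQ 63281 Q63281 (allL N63281 (tt N34005 (iv1 F186709)) (tt N34004 F186710) (tt N34007 F186705) (tt N61275 F186706) (tt N100168 (iv4 F427808)) (tt N100172 (iv5 F427832)) (tt N43005 F186707) (tt N33987 (iv7 D118705)))
theorem Q63283 : ∀ i, i < 63283 → P i := stepQ 63282 Q63282 (allL N63282 (tt N34013 (iv1 F186715)) (tt N33988 (iv0 D118706)) (tt N34010 (iv2 F186712)) (tt N44956 (iv3 F186714)) (tt N84884 (iv4 F374804)) (tt N36244 F186711) (tt N84883 F374802) (tt N34011 F186713))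
theorem Q63284 : ∀ i, i < 63284 → P i := stepQ 63283 Q63283 (allL N63283 (tt N98193 (iv1 F419928)) (tt N79098 (iv0 F252542)) (tt N34012 F186716) (tt N100173 D203315) (tt N33988 (iv4 D118707)) (tt N100174 D203316) (tt N76511 (iv6 F413389)) (tt N100175 D203317))
theorem Q63285 : ∀ i, i < 63285 → P i := stepQ 63284 Q63284 (allL N63284 (tt N34011 (iv1 F186720)) (tt N34010 F186721) (tt N34013 F186717) (tt N50108 F186718) (tt N100175 (iv4 F427842)) (tt N33989 F186719) (tt N94000 (iv6 F402770)) (tt N33988 (iv7 D118708)))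
theorem Q63286 : ∀ i, i < 63286 → P i := stepQ 63285 Q63285 (allL N63285 (tt N43144 F305875) (tt N43143 F305876) (tt N34018 F186730) (tt N94122 (iv3 F403307)) (tt N43044 F186731) (tt N100176 D203318) (tt N33990 (iv6 D118711)) (tt N43019 F305877))
theorem Q63287 : ∀ i, i < 63287 → P i := stepQ 63286 Q63286 (allL N63286 (tt N34026 F305878) (tt N34025 F305879) (tt N34019 F186735) (tt N43217 F305880) (tt N53512 F343268) (tt N33991 (iv5 D118713)) (tt N100176 (iv6 F427849)) (tt N33993 F305881))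
theorem Q63288 : ∀ i, i < 63288 → P i := stepQ 63287 Q63287 (allL N63287 (tt N76146 F237071) (tt N100177 D203319) (tt N34027 F186746) (tt N53451 F357230) (tt N33993 (iv4 D118725)) (tt N53450 (iv5 F343272)) (tt N33997 F186747) (tt N53512 (iv7 F343271)))
theorem Q63289 : ∀ i, i < 63289 → P i := stepQ 63288 Q63288 (allL N63288 (tt N79060 (iv1 F252055)) (tt N89616 (iv0 F386969)) (tt N34031 F186754) (tt N34133 F186755) (tt N100178 D203320) (tt N33994 (iv5 D118727)) (tt N100179 D203321) (tt N34028 F186756))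
theorem Q63290 : ∀ i, i < 63290 → P i := stepQ 63289 Q63289 (allL N63289 (tt N72385 (iv1 F314665)) (tt N72384 (iv0 F314661)) (tt N34032 F186757) (tt N100180 D203322) (tt N33995 (iv4 D118728)) (tt N100181 D203323) (tt N72372 F363430) (tt N34030 F186758))
theorem Q63291 : ∀ i, i < 63291 → P i := stepQ 63290 Q63290 (allL N63290 (tt N75980 (iv1 F235108)) (tt N36476 F186764) (tt N34035 F186762) (tt N88382 (iv3 F382832)) (tt N33996 (iv4 D118730)) (tt N100182 D203324) (tt N95614 (iv6 F408893)) (tt N34037 F186763))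
theorem Q63292 : ∀ i, i < 63292 → P i := stepQ 63291 Q63291 (allL N63291 (tt N33997 (iv1 D118732)) (tt N34041 F186768) (tt N34039 (iv2 F186771)) (tt N96148 (iv3 F411248)) (tt N42627 F186770) (tt N100183 D203325) (tt N39428 F363012) (tt N34038 F186769))
theorem Q63293 : ∀ i, i < 63293 → P i := stepQ 63292 Q63292 (allL N63292 (tt N100184 D203326) (tt N100185 D203327) (tt N39489 F357233) (tt N33997 (iv3 D118733)) (tt N43222 F186772) (tt N90912 (iv5 F391249)) (tt N53451 (iv6 F357232)) (tt N100186 D203328))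
theorem Q63294 : ∀ i, i < 63294 → P i := stepQ 63293 Q63293 (allL N63293 (tt N44994 F186774) (tt N100187 D203329) (tt N34040 F186773) (tt N90912 (iv3 F391248)) (tt N100188 D203330) (tt N33997 (iv5 D118734)) (tt N90910 (iv6 F391240)) (tt N100189 D203331))
theorem Q63295 : ∀ i, i < 63295 → P i := stepQ 63294 Q63294 (allL N63294 (tt N34039 (iv1 F186777)) (tt N34038 F186778) (tt N34041 F186775) (tt N100186 (iv3 F427899)) (tt N33998 F186776) (tt N100189 (iv5 F427916)) (tt N100190 D203332) (tt N33997 (iv7 D118735)))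
theorem Q63296 : ∀ i, i < 63296 → P i := stepQ 63295 Q63295 (allL N63295 (tt N75568 F231842) (tt N53334 F348231) (tt N34042 F186779) (tt N34263 F186780) (tt N100190 (iv4 F427923)) (tt N43019 F186781) (tt N33998 (iv6 D118736)) (tt N100176 (iv7 F427850)))
theorem Q63297 : ∀ i, i < 63297 → P i := stepQ 63296 Q63296 (allL N63296 (tt N76271 F353310) (tt N76274 F348675) (tt N43023 F186798) (tt N83846 (iv3 F357188)) (tt N34002 F186799) (tt N100191 D203333) (tt N34001 (iv6 D118742)) (tt N83845 F357206))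
theorem Q63298 : ∀ i, i < 63298 → P i := stepQ 63297 Q63297 (allL N63297 (tt N100168 (iv1 F427812)) (tt N34003 (iv0 D118746)) (tt N98187 (iv2 F419895)) (tt N74495 (iv3 F347733)) (tt N74498 F347732) (tt N100192 D203334) (tt N100193 D203335) (tt N99882 (iv7 F426671)))
theorem Q63299 : ∀ i, i < 63299 → P i := stepQ 63298 Q63298 (allL N63298 (tt N34003 (iv1 D118747)) (tt N100168 F427811) (tt N99882 (iv2 F426669)) (tt N64376 F347726) (tt N75527 (iv4 F347725)) (tt N100194 D203336) (tt N84349 (iv6 F369022)) (tt N98187 (iv7 F419898)))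
theorem Q63300 : ∀ i, i < 63300 → P i := stepQ 63299 Q63299 (allL N63299 (tt N100195 D203337) (tt N63310 (iv0 F363657)) (tt N43140 F311485) (tt N92196 (iv3 F396197)) (tt N100196 D203338) (tt N34003 (iv5 D118748)) (tt N43018 F311486) (tt N100197 D203339))
theorem Q63301 : ∀ i, i < 63301 → P i := stepQ 63300 Q63300 (allL N63300 (tt N99882 F426673) (tt N98187 (iv0 F419899)) (tt N100168 (iv2 F427806)) (tt N92197 (iv3 F396203)) (tt N34007 F186806) (tt N100197 (iv5 F427947)) (tt N43048 F186807) (tt N34003 (iv7 D118749)))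
theorem Q63302 : ∀ i, i < 63302 → P i := stepQ 63301 Q63301 (allL N63301 (tt N61370 F290483) (tt N46075 F290484) (tt N61367 (iv2 F347802)) (tt N34004 (iv3 D118751)) (tt N75371 (iv4 F347793)) (tt N100198 D203340) (tt N86471 F376326) (tt N61368 (iv7 F347809)))
theorem Q63303 : ∀ i, i < 63303 → P i := stepQ 63302 Q63302 (allL N63302 (tt N99444 F424609) (tt N42233 F314118) (tt N99973 (iv2 F427026)) (tt N75372 F314119) (tt N34004 (iv4 D118752)) (tt N100199 D203341) (tt N86475 (iv6 F376333)) (tt N99972 F427021))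
theorem Q63304 : ∀ i, i < 63304 → P i := stepQ 63303 Q63303 (allL N63303 (tt N100200 D203342) (tt N100201 D203343) (tt N85131 (iv2 F371711)) (tt N100198 (iv3 F427951)) (tt N85567 (iv4 F425055)) (tt N34004 (iv5 D118753)) (tt N84812 F370707) (tt N100169 (iv7 F427816)))
theorem Q63305 : ∀ i, i < 63305 → P i := stepQ 63304 Q63304 (allL N63304 (tt N42732 F283569) (tt N79061 (iv0 F316758)) (tt N80025 F283571) (tt N34005 (iv3 D118755)) (tt N87450 F379362) (tt N100202 D203344) (tt N100203 D203345) (tt N80024 F283572))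
theorem Q63306 : ∀ i, i < 63306 → P i := stepQ 63305 Q63305 (allL N63305 (tt N42233 F361653) (tt N99444 (iv0 F424608)) (tt N99972 (iv2 F427020)) (tt N50599 F361654) (tt N34005 (iv4 D118756)) (tt N50596 F361655) (tt N54722 F361656) (tt N99973 (iv7 F427023)))
theorem Q63307 : ∀ i, i < 63307 → P i := stepQ 63306 Q63306 (allL N63306 (tt N100201 (iv1 F427963)) (tt N100200 F427960) (tt N100169 (iv2 F427813)) (tt N100202 (iv3 F427970)) (tt N75047 F361652) (tt N34005 (iv5 D118757)) (tt N100204 D203346) (tt N85131 F371713))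
theorem Q63308 : ∀ i, i < 63308 → P i := stepQ 63307 Q63307 (allL N63307 (tt N60953 F361657) (tt N47478 F361658) (tt N98545 (iv2 F421270)) (tt N100203 (iv3 F427978)) (tt N54722 F361659) (tt N92246 (iv5 F396453)) (tt N34005 (iv6 D118758)) (tt N84196 (iv7 F368484)))
theorem Q63309 : ∀ i, i < 63309 → P i := stepQ 63308 Q63308 (allL N63308 (tt N100172 (iv1 F427834)) (tt N34006 (iv0 D118759)) (tt N100170 (iv2 F427824)) (tt N100205 D203347) (tt N100206 D203348) (tt N98519 F421311) (tt N100207 D203349) (tt N100171 (iv7 F427826)))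
theorem Q63310 : ∀ i, i < 63310 → P i := stepQ 63309 Q63309 (allL N63309 (tt N34006 (iv1 D118760)) (tt N100172 F427833) (tt N100171 (iv2 F427829)) (tt N61632 F421193) (tt N99974 (iv4 F427030)) (tt N98520 (iv5 F421192)) (tt N98489 (iv6 F421194)) (tt N100170 (iv7 F427823)))
theorem Q63311 : ∀ i, i < 63311 → P i := stepQ 63310 Q63310 (allL N63310 (tt N63299 F363657) (tt N76512 F363658) (tt N76511 (iv2 F413388)) (tt N70196 (iv3 F351272)) (tt N34006 (iv4 D118761)) (tt N100208 D203350) (tt N34012 F186810) (tt N70189 F351271))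
theorem Q63312 : ∀ i, i < 63312 → P i := stepQ 63311 Q63311 (allL N63311 (tt N100171 (iv1 F427825)) (tt N100170 (iv0 F427822)) (tt N100172 (iv2 F427830)) (tt N44615 F186811) (tt N70189 (iv4 F351273)) (tt N34007 F186812) (tt N70188 (iv6 F351265)) (tt N34006 (iv7 D118762)))
theorem Q63313 : ∀ i, i < 63313 → P i := stepQ 63312 Q63312 (allL N63312 (tt N76486 F386977) (tt N100209 D203351) (tt N44955 F186813) (tt N100210 D203352) (tt N34008 (iv4 D118763)) (tt N100211 D203353) (tt N98486 (iv6 F421094)) (tt N76805 (iv7 F239982)))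
theorem Q63314 : ∀ i, i < 63314 → P i := stepQ 63313 Q63313 (allL N63313 (tt N100209 (iv1 F428004)) (tt N76486 F386978) (tt N76805 (iv2 F239981)) (tt N98690 (iv3 F421864)) (tt N34009 (iv4 D118764)) (tt N100212 D203354) (tt N100213 D203355) (tt N44955 F186814))
theorem Q63315 : ∀ i, i < 63315 → P i := stepQ 63314 Q63314 (allL N63314 (tt N76240 F421874) (tt N100214 D203356) (tt N76806 (iv2 F239983)) (tt N44969 F186815) (tt N100213 (iv4 F428017)) (tt N55734 F186816) (tt N34009 (iv6 D118765)) (tt N98501 (iv7 F421142)))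
theorem Q63316 : ∀ i, i < 63316 → P i := stepQ 63315 Q63315 (allL N63315 (tt N60904 (iv1 F186820)) (tt N56095 F186821) (tt N61371 F186817) (tt N34010 (iv3 D118766)) (tt N76581 (iv4 F239381)) (tt N56033 F186818) (tt N100215 D203357) (tt N61372 F186819))
theorem Q63317 : ∀ i, i < 63317 → P i := stepQ 63316 Q63316 (allL N63316 (tt N85481 (iv1 F372778)) (tt N66861 (iv0 F205914)) (tt N84884 (iv2 F374794)) (tt N100216 D203358) (tt N34010 (iv4 D118767)) (tt N88391 (iv5 F382857)) (tt N51170 F374792) (tt N79000 (iv7 F251703)))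
theorem Q63318 : ∀ i, i < 63318 → P i := stepQ 63317 Q63317 (allL N63317 (tt N98494 F421120) (tt N100217 D203359) (tt N84883 F374796) (tt N100215 (iv3 F428026)) (tt N51170 (iv4 F374795)) (tt N100218 D203360) (tt N34010 (iv6 D118768)) (tt N84890 F374797))
theorem Q63319 : ∀ i, i < 63319 → P i := stepQ 63318 Q63318 (allL N63318 (tt N66861 (iv1 F205915)) (tt N85481 (iv0 F372777)) (tt N79000 (iv2 F251702)) (tt N100219 D203361) (tt N34011 (iv4 D118769)) (tt N100220 D203362) (tt N85995 (iv6 F374786)) (tt N84884 F374810))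
theorem Q63320 : ∀ i, i < 63320 → P i := stepQ 63319 Q63319 (allL N63319 (tt N100175 (iv1 F427845)) (tt N34012 (iv0 D118770)) (tt N98193 (iv2 F419925)) (tt N89099 (iv3 F385149)) (tt N78813 F250988) (tt N100221 D203363) (tt N84882 F375785) (tt N79098 (iv7 F252541)))
theorem Q63321 : ∀ i, i < 63321 → P i := stepQ 63320 Q63320 (allL N63320 (tt N34012 (iv1 D118771)) (tt N100175 F427844) (tt N79098 (iv2 F252540)) (tt N100222 D203364) (tt N53665 F186822) (tt N100223 D203365) (tt N53671 (iv6 F186823)) (tt N98193 (iv7 F419926)))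
theorem Q63322 : ∀ i, i < 63322 → P i := stepQ 63321 Q63321 (allL N63321 (tt N50064 F351279) (tt N70424 F351304) (tt N70423 (iv2 F351277)) (tt N34012 (iv3 D118772)) (tt N44617 F186824) (tt N100224 D203366) (tt N70196 F351276) (tt N70197 (iv7 F351278)))
theorem Q63323 : ∀ i, i < 63323 → P i := stepQ 63322 Q63322 (allL N63322 (tt N100225 D203367) (tt N100226 D203368) (tt N100174 (iv2 F427838)) (tt N100224 (iv3 F428057)) (tt N100189 (iv4 F427915)) (tt N34012 (iv5 D118773)) (tt N90855 (iv6 F427920)) (tt N100188 F427912))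
theorem Q63324 : ∀ i, i < 63324 → P i := stepQ 63323 Q63323 (allL N63323 (tt N79098 (iv1 F252543)) (tt N98193 (iv0 F419927)) (tt N100175 (iv2 F427841)) (tt N70197 F351270) (tt N34013 F186825) (tt N100188 (iv5 F427911)) (tt N70190 (iv6 F351268)) (tt N34012 (iv7 D118774)))
theorem Q63325 : ∀ i, i < 63325 → P i := stepQ 63324 Q63324 (allL N63324 (tt N100227 D203369) (tt N100228 D203370) (tt N94000 (iv2 F402768)) (tt N44618 F186826) (tt N70190 F351267) (tt N43075 F186827) (tt N34013 (iv6 D118775)) (tt N70188 (iv7 F351266)))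
theorem Q63326 : ∀ i, i < 63326 → P i := stepQ 63325 Q63325 (allL N63325 (tt N72348 (iv1 F313628)) (tt N69655 F311686) (tt N44544 F311687) (tt N34015 F186833) (tt N34879 F186834) (tt N65244 F305866) (tt N34014 (iv6 D118777)) (tt N72391 (iv7 F314142)))
theorem Q63327 : ∀ i, i < 63327 → P i := stepQ 63326 Q63326 (allL N63326 (tt N64392 (iv1 F337189)) (tt N64395 F237161) (tt N43097 F186863) (tt N78596 (iv3 F301227)) (tt N53933 F337188) (tt N43920 F305883) (tt N34017 (iv6 D118784)) (tt N53929 (iv7 F337187)))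
theorem Q63328 : ∀ i, i < 63328 → P i := stepQ 63327 Q63327 (allL N63327 (tt N53334 F332522) (tt N75568 F305891) (tt N100176 (iv2 F427846)) (tt N34051 F305892) (tt N100025 (iv4 F427258)) (tt N34018 (iv5 D118787)) (tt N34019 F186865) (tt N34042 F305893))
theorem Q63329 : ∀ i, i < 63329 → P i := stepQ 63328 Q63328 (allL N63328 (tt N100177 (iv1 F427853)) (tt N76146 F305897) (tt N53512 (iv2 F343269)) (tt N39279 (iv3 F320513)) (tt N34019 (iv4 D118797)) (tt N53511 (iv5 F327681)) (tt N100025 (iv6 F427257)) (tt N34027 F305899))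
theorem Q63330 : ∀ i, i < 63330 → P i := stepQ 63329 Q63329 (allL N63329 (tt N44578 (iv1 F243631)) (tt N100229 D203371) (tt N43516 F190289) (tt N34022 F186880) (tt N75881 F234518) (tt N65195 F199517) (tt N34020 (iv6 D118809)) (tt N77558 (iv7 F243624)))
theorem Q63331 : ∀ i, i < 63331 → P i := stepQ 63330 Q63330 (allL N63330 (tt N54463 (iv1 F334894)) (tt N72004 F334892) (tt N66867 (iv2 F334863)) (tt N66871 F334866) (tt N71863 (iv4 F334864)) (tt N34021 (iv5 D118814)) (tt N71984 F334862) (tt N66865 (iv7 F334865)))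
theorem Q63332 : ∀ i, i < 63332 → P i := stepQ 63331 Q63331 (allL N63331 (tt N79095 F252416) (tt N66721 F364490) (tt N66868 (iv2 F307187)) (tt N66872 F335022) (tt N34022 F186884) (tt N77626 (iv5 F335024)) (tt N34021 (iv6 D118815)) (tt N77559 (iv7 F243641)))
theorem Q63333 : ∀ i, i < 63333 → P i := stepQ 63332 Q63332 (allL N63332 (tt N34023 (iv1 D118826)) (tt N43514 (iv0 F190223)) (tt N73881 (iv2 F320352)) (tt N34043 (iv3 F186899)) (tt N46492 (iv4 F186900)) (tt N100167 (iv5 F427801)) (tt N34068 (iv6 F186901)) (tt N34069 F186898))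
theorem Q63334 : ∀ i, i < 63334 → P i := stepQ 63333 Q63333 (allL N63333 (tt N34069 F190271) (tt N73881 (iv0 F320351)) (tt N34023 (iv2 D118827)) (tt N43501 (iv3 F190264)) (tt N75796 F233992) (tt N73870 F348312) (tt N99945 F426910) (tt N43514 F190258))
theorem Q63335 : ∀ i, i < 63335 → P i := stepQ 63334 Q63334 (allL N63334 (tt N77614 F243998) (tt N38353 F313520) (tt N99945 (iv2 F426911)) (tt N34024 F186904) (tt N44553 F313521) (tt N63629 (iv5 F233209)) (tt N34023 (iv6 D118830)) (tt N72401 F313522))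
theorem Q63336 : ∀ i, i < 63336 → P i := stepQ 63335 Q63335 (allL N63335 (tt N43522 (iv1 F241297)) (tt N43502 F241298) (tt N43519 F190932) (tt N34025 (iv3 D118841)) (tt N100038 (iv4 F427324)) (tt N48081 F232971) (tt N80404 (iv6 F340775)) (tt N43520 F190930))
theorem Q63337 : ∀ i, i < 63337 → P i := stepQ 63336 Q63336 (allL N63336 (tt N40203 F311658) (tt N39921 F311659) (tt N40207 F311660) (tt N80404 F340776) (tt N89155 (iv4 F385373)) (tt N42602 F309453) (tt N34025 (iv6 D118844)) (tt N40206 F311661))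
theorem Q63338 : ∀ i, i < 63338 → P i := stepQ 63337 Q63337 (allL N63337 (tt N34361 F187242) (tt N100167 F427803) (tt N48077 (iv2 F232648)) (tt N34026 (iv3 D118846)) (tt N92595 F397549) (tt N47941 F187241) (tt N35419 F232627) (tt N89188 (iv7 F385498)))
theorem Q63339 : ∀ i, i < 63339 → P i := stepQ 63338 Q63338 (allL N63338 (tt N53512 (iv1 F343274)) (tt N34027 (iv0 D118850)) (tt N76146 (iv2 F237072)) (tt N54653 (iv3 F363851)) (tt N53364 (iv4 F339143)) (tt N88989 (iv5 F384683)) (tt N100230 D203372) (tt N100177 (iv7 F427854)))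
theorem Q63340 : ∀ i, i < 63340 → P i := stepQ 63339 Q63339 (allL N63339 (tt N34027 (iv1 D118851)) (tt N53512 (iv0 F343273)) (tt N100177 (iv2 F427858)) (tt N47546 F356224) (tt N53363 (iv4 F339136)) (tt N88987 (iv5 F384674)) (tt N65387 (iv6 F201256)) (tt N76146 (iv7 F237068)))
theorem Q63341 : ∀ i, i < 63341 → P i := stepQ 63340 Q63340 (allL N63340 (tt N34031 (iv1 F186920)) (tt N34028 (iv0 D118856)) (tt N89616 (iv2 F386965)) (tt N42973 (iv3 F186921)) (tt N78764 (iv4 F250830)) (tt N42634 F186919) (tt N100231 D203373) (tt N79060 (iv7 F252053)))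
theorem Q63342 : ∀ i, i < 63342 → P i := stepQ 63341 Q63341 (allL N63341 (tt N34028 (iv1 D118857)) (tt N34031 F186922) (tt N79060 (iv2 F252051)) (tt N66791 (iv3 F205587)) (tt N78765 (iv4 F250833)) (tt N42635 F186923) (tt N100232 D203374) (tt N89616 (iv7 F386968)))
theorem Q63343 : ∀ i, i < 63343 → P i := stepQ 63342 Q63342 (allL N63342 (tt N85083 (iv1 F371583)) (tt N66578 (iv0 F204585)) (tt N92587 (iv2 F397507)) (tt N89095 (iv3 F385146)) (tt N34028 (iv4 D118858)) (tt N100225 (iv5 F428058)) (tt N100233 D203375) (tt N100178 (iv7 F427866)))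
theorem Q63344 : ∀ i, i < 63344 → P i := stepQ 63343 Q63343 (allL N63343 (tt N89620 F386989) (tt N100234 D203376) (tt N86224 (iv2 F375443)) (tt N43238 F186924) (tt N100233 (iv4 F428089)) (tt N41793 F338204) (tt N34028 (iv6 D118859)) (tt N100235 D203377))
theorem Q63345 : ∀ i, i < 63345 → P i := stepQ 63344 Q63344 (allL N63344 (tt N44995 F186928) (tt N44979 F186929) (tt N42935 F186926) (tt N100236 D203378) (tt N34029 (iv4 D118860)) (tt N100237 D203379) (tt N100238 D203380) (tt N44992 F186927))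
theorem Q63346 : ∀ i, i < 63346 → P i := stepQ 63345 Q63345 (allL N63345 (tt N72406 F342575) (tt N73418 (iv0 F342578)) (tt N42936 F186930) (tt N34265 F186931) (tt N100238 (iv4 F428109)) (tt N45248 F186932) (tt N34029 (iv6 D118861)) (tt N73417 F342545))
theorem Q63347 : ∀ i, i < 63347 → P i := stepQ 63346 Q63346 (allL N63346 (tt N100239 D203381) (tt N100240 D203382) (tt N100241 D203383) (tt N34030 (iv3 D118862)) (tt N76045 (iv4 F236050)) (tt N100242 D203384) (tt N72364 F366665) (tt N100180 (iv7 F427874)))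
theorem Q63348 : ∀ i, i < 63348 → P i := stepQ 63347 Q63347 (allL N63347 (tt N78816 (iv1 F250996)) (tt N78821 (iv0 F251015)) (tt N72386 (iv2 F366683)) (tt N100242 (iv3 F428112)) (tt N100226 (iv4 F428064)) (tt N34030 (iv5 D118863)) (tt N100243 D203385) (tt N100181 (iv7 F427877)))
theorem Q63349 : ∀ i, i < 63349 → P i := stepQ 63348 Q63348 (allL N63348 (tt N66578 (iv1 F204586)) (tt N85083 (iv0 F371582)) (tt N100178 (iv2 F427865)) (tt N100244 D203386) (tt N34031 (iv4 D118868)) (tt N100226 (iv5 F428063)) (tt N100245 D203387) (tt N92587 (iv7 F397508)))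
theorem Q63350 : ∀ i, i < 63350 → P i := stepQ 63349 Q63349 (allL N63349 (tt N84900 F397544) (tt N99816 F426365) (tt N100179 (iv2 F427869)) (tt N98171 (iv3 F419827)) (tt N100245 (iv4 F428117)) (tt N92563 (iv5 F397396)) (tt N34031 (iv6 D118869)) (tt N100246 D203388))
theorem Q63351 : ∀ i, i < 63351 → P i := stepQ 63350 Q63350 (allL N63350 (tt N99908 F426769) (tt N71215 (iv0 F352999)) (tt N99915 F426806) (tt N34032 (iv3 D118870)) (tt N53641 F352998) (tt N100247 D203389) (tt N100248 D203390) (tt N72382 (iv7 F353000)))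
theorem Q63352 : ∀ i, i < 63352 → P i := stepQ 63351 Q63351 (allL N63351 (tt N78821 (iv1 F251016)) (tt N78816 (iv0 F250995)) (tt N100181 (iv2 F427875)) (tt N100247 (iv3 F428121)) (tt N100225 (iv4 F428059)) (tt N34032 (iv5 D118871)) (tt N100211 (iv6 F428010)) (tt N72386 (iv7 F366682)))
theorem Q63353 : ∀ i, i < 63353 → P i := stepQ 63352 Q63352 (allL N63352 (tt N72370 (iv1 F363440)) (tt N72369 F363419) (tt N72372 (iv2 F363429)) (tt N100248 (iv3 F428123)) (tt N34033 F186935) (tt N98486 (iv5 F421093)) (tt N34032 (iv6 D118872)) (tt N72346 F363431))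
theorem Q63354 : ∀ i, i < 63354 → P i := stepQ 63353 Q63353 (allL N63353 (tt N41558 F351592) (tt N100249 D203391) (tt N43524 F186936) (tt N34036 F186937) (tt N73187 F316910) (tt N43524 F186938) (tt N34034 (iv6 D118876)) (tt N95523 (iv7 F408475)))
theorem Q63355 : ∀ i, i < 63355 → P i := stepQ 63354 Q63354 (allL N63354 (tt N100250 D203392) (tt N100251 D203393) (tt N89125 (iv2 F385264)) (tt N34035 (iv3 D118877)) (tt N100043 (iv4 F427345)) (tt N100252 D203394) (tt N100253 D203395) (tt N79101 (iv7 F252592)))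
theorem Q63356 : ∀ i, i < 63356 → P i := stepQ 63355 Q63355 (allL N63355 (tt N100254 D203396) (tt N100255 D203397) (tt N100182 (iv2 F427879)) (tt N100252 (iv3 F428134)) (tt N100223 (iv4 F428056)) (tt N34035 (iv5 D118878)) (tt N100256 D203398) (tt N79102 (iv7 F252594)))
theorem Q63357 : ∀ i, i < 63357 → P i := stepQ 63356 Q63356 (allL N63356 (tt N73174 F316911) (tt N100257 D203399) (tt N95614 (iv2 F408891)) (tt N100253 (iv3 F428135)) (tt N34036 F186939) (tt N100258 D203400) (tt N34035 (iv6 D118879)) (tt N95526 (iv7 F408491)))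
theorem Q63358 : ∀ i, i < 63358 → P i := stepQ 63357 Q63357 (allL N63357 (tt N48072 F233203) (tt N41563 F322230) (tt N44056 F186940) (tt N43524 F186941) (tt N92597 (iv4 F397556)) (tt N34036 (iv5 D118882)) (tt N34359 F186942) (tt N48080 F244603))
theorem Q63359 : ∀ i, i < 63359 → P i := stepQ 63358 Q63358 (allL N63358 (tt N89124 (iv1 F385257)) (tt N39480 F366272) (tt N89127 (iv2 F385267)) (tt N34037 (iv3 D118884)) (tt N79104 (iv4 F252616)) (tt N100259 D203401) (tt N39445 F349993) (tt N88382 (iv7 F382834)))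
theorem Q63360 : ∀ i, i < 63360 → P i := stepQ 63359 Q63359 (allL N63359 (tt N100255 (iv1 F428143)) (tt N100254 F428138) (tt N79102 (iv2 F252593)) (tt N100259 (iv3 F428154)) (tt N100221 (iv4 F428052)) (tt N34037 (iv5 D118885)) (tt N100260 D203402) (tt N100182 (iv7 F427880)))
theorem Q63361 : ∀ i, i < 63361 → P i := stepQ 63360 Q63360 (allL N63360 (tt N100261 D203403) (tt N54656 (iv0 F359407)) (tt N100262 D203404) (tt N34038 (iv3 D118890)) (tt N43584 F186944) (tt N100263 D203405) (tt N100264 D203406) (tt N96148 F411252))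
theorem Q63362 : ∀ i, i < 63362 → P i := stepQ 63361 Q63361 (allL N63361 (tt N78828 (iv1 F251055)) (tt N76219 (iv0 F237883)) (tt N76150 (iv2 F237093)) (tt N100263 (iv3 F428168)) (tt N100220 (iv4 F428048)) (tt N34038 (iv5 D118891)) (tt N100265 D203407) (tt N100183 (iv7 F427885)))
theorem Q63363 : ∀ i, i < 63363 → P i := stepQ 63362 Q63362 (allL N63362 (tt N73241 F353366) (tt N39574 F353380) (tt N76151 (iv2 F237096)) (tt N100264 (iv3 F428170)) (tt N66869 (iv4 F205945)) (tt N100266 D203408) (tt N34038 (iv6 D118892)) (tt N95515 (iv7 F408429)))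
theorem Q63364 : ∀ i, i < 63364 → P i := stepQ 63363 Q63363 (allL N63363 (tt N100267 D203409) (tt N100268 D203410) (tt N100269 D203411) (tt N34039 (iv3 D118893)) (tt N42637 F186945) (tt N100270 D203412) (tt N95516 (iv6 F408434)) (tt N76149 (iv7 F237092)))
theorem Q63365 : ∀ i, i < 63365 → P i := stepQ 63364 Q63364 (allL N63364 (tt N76219 (iv1 F237884)) (tt N78828 (iv0 F251054)) (tt N100183 (iv2 F427883)) (tt N100270 (iv3 F428188)) (tt N88391 F382858) (tt N34039 (iv5 D118894)) (tt N88390 (iv6 F382860)) (tt N76150 (iv7 F237094)))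
theorem Q63366 : ∀ i, i < 63366 → P i := stepQ 63365 Q63365 (allL N63365 (tt N100189 (iv1 F427919)) (tt N34040 (iv0 D118900)) (tt N44994 (iv2 F186950)) (tt N100271 D203413) (tt N100212 (iv4 F428014)) (tt N44979 F186949) (tt N100272 D203414) (tt N100187 (iv7 F427906)))
theorem Q63367 : ∀ i, i < 63367 → P i := stepQ 63366 Q63366 (allL N63366 (tt N34040 (iv1 D118901)) (tt N100189 F427918) (tt N100187 F427908) (tt N100273 D203415) (tt N100211 (iv4 F428012)) (tt N44995 F186952) (tt N100225 F428061) (tt N44994 F186951))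
theorem Q63368 : ∀ i, i < 63368 → P i := stepQ 63367 Q63367 (allL N63367 (tt N100226 (iv1 F428062)) (tt N100225 F428060) (tt N100188 (iv2 F427910)) (tt N100274 D203416) (tt N34040 (iv4 D118902)) (tt N100175 (iv5 F427843)) (tt N100275 D203417) (tt N100174 F427840))
theorem Q63369 : ∀ i, i < 63369 → P i := stepQ 63368 Q63368 (allL N63368 (tt N100276 D203418) (tt N100277 D203419) (tt N90910 (iv2 F391238)) (tt N54498 (iv3 F363004)) (tt N100275 (iv4 F428200)) (tt N54497 F343276) (tt N34040 (iv6 D118903)) (tt N83076 (iv7 F363005)))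
theorem Q63370 : ∀ i, i < 63370 → P i := stepQ 63369 Q63369 (allL N63369 (tt N100187 (iv1 F427905)) (tt N44994 (iv0 F186954)) (tt N100189 (iv2 F427913)) (tt N39493 (iv3 F323829)) (tt N100174 (iv4 F427839)) (tt N34041 F186953) (tt N100278 D203420) (tt N34040 (iv7 D118904)))
theorem Q63371 : ∀ i, i < 63371 → P i := stepQ 63370 Q63370 (allL N63370 (tt N64387 F341192) (tt N77779 (iv0 F244920)) (tt N100190 (iv2 F427921)) (tt N39494 (iv3 F321398)) (tt N34042 F186955) (tt N100026 (iv5 F427265)) (tt N34041 (iv6 D118905)) (tt N100025 F427261))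
theorem Q63372 : ∀ i, i < 63372 → P i := stepQ 63371 Q63371 (allL N63371 (tt N100176 (iv1 F427852)) (tt N34042 (iv0 D118906)) (tt N75568 (iv2 F247830)) (tt N100279 D203421) (tt N89150 (iv4 F385353)) (tt N41013 F316896) (tt N69559 F316897) (tt N53334 (iv7 F348217)))
theorem Q63373 : ∀ i, i < 63373 → P i := stepQ 63372 Q63372 (allL N63372 (tt N34042 (iv1 D118907)) (tt N100176 (iv0 F427851)) (tt N53334 (iv2 F332504)) (tt N44060 F247831) (tt N89149 (iv4 F385347)) (tt N41014 F332503) (tt N95520 (iv6 F408459)) (tt N75568 F247832))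
theorem Q63374 : ∀ i, i < 63374 → P i := stepQ 63373 Q63373 (allL N63373 (tt N34147 F186964) (tt N34050 (iv0 F186965)) (tt N34149 F186962) (tt N100167 (iv3 F427799)) (tt N100280 D203422) (tt N34043 (iv5 D118909)) (tt N88438 (iv6 F383048)) (tt N34112 F186963))
theorem Q63375 : ∀ i, i < 63375 → P i := stepQ 63374 Q63374 (allL N63374 (tt N43395 F186968) (tt N34434 (iv0 F188320)) (tt N34045 F186966) (tt N46866 (iv3 F186969)) (tt N34044 (iv4 D118910)) (tt N46266 F328131) (tt N81277 (iv6 F274103)) (tt N34144 F186967))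
theorem Q63376 : ∀ i, i < 63376 → P i := stepQ 63375 Q63375 (allL N63375 (tt N81294 F274168) (tt N81345 F274407) (tt N46266 (iv2 F327670)) (tt N34818 F186974) (tt N46264 F327104) (tt N34045 (iv5 D118913)) (tt N95825 (iv6 F409822)) (tt N43396 F186975))
theorem Q63377 : ∀ i, i < 63377 → P i := stepQ 63376 Q63376 (allL N63376 (tt N100281 D203423) (tt N100282 D203424) (tt N81277 (iv2 F274100)) (tt N34819 F186976) (tt N34046 F186977) (tt N63580 F188394) (tt N34045 (iv6 D118914)) (tt N77578 (iv7 F243740)))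
theorem Q63378 : ∀ i, i < 63378 → P i := stepQ 63377 Q63377 (allL N63377 (tt N44433 (iv1 F313499)) (tt N34046 (iv0 D118917)) (tt N34446 F186983) (tt N72390 F311188) (tt N70555 F311189) (tt N43934 F186981) (tt N34098 (iv6 F186982)) (tt N44426 (iv7 F313501)))
theorem Q63379 : ∀ i, i < 63379 → P i := stepQ 63378 Q63378 (allL N63378 (tt N83290 F304637) (tt N64734 (iv0 F198242)) (tt N43566 (iv2 F191143)) (tt N34813 F304423) (tt N48583 F337952) (tt N34048 (iv5 D118937)) (tt N48582 F337953) (tt N43390 F187027))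
theorem Q63380 : ∀ i, i < 63380 → P i := stepQ 63379 Q63379 (allL N63379 (tt N34149 (iv1 F187039)) (tt N34112 F187038) (tt N34050 (iv2 D118945)) (tt N43400 F187035) (tt N55219 F346762) (tt N47959 F187036) (tt N41285 F348139) (tt N34147 F187037))
theorem Q63381 : ∀ i, i < 63381 → P i := stepQ 63380 Q63380 (allL N63380 (tt N34152 (iv1 F187082)) (tt N34053 (iv0 D118963)) (tt N41157 F323193) (tt N84273 (iv3 F368761)) (tt N42743 F187080) (tt N55133 F335366) (tt N89233 (iv6 F385702)) (tt N41156 F323194))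
theorem Q63382 : ∀ i, i < 63382 → P i := stepQ 63381 Q63381 (allL N63381 (tt N52046 (iv1 F324609)) (tt N52045 (iv0 F324607)) (tt N50627 F352754) (tt N41177 F322245) (tt N82735 (iv4 F352755)) (tt N34053 (iv5 D118964)) (tt N96896 (iv6 F414495)) (tt N41158 F322246))
theorem Q63383 : ∀ i, i < 63383 → P i := stepQ 63382 Q63382 (allL N63382 (tt N88438 F383051) (tt N34156 (iv0 F187128)) (tt N100125 F427579) (tt N34054 (iv3 D118999)) (tt N89230 (iv4 F385690)) (tt N41055 F314879) (tt N48045 (iv6 F200300)) (tt N43406 F187127))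
theorem Q63384 : ∀ i, i < 63384 → P i := stepQ 63383 Q63383 (allL N63383 (tt N100283 D203425) (tt N71548 (iv0 F366541)) (tt N100284 D203426) (tt N34056 (iv3 D119006)) (tt N43407 F187147) (tt N100285 D203427) (tt N44423 F319280) (tt N43359 F187149))
theorem Q63385 : ∀ i, i < 63385 → P i := stepQ 63384 Q63384 (allL N63384 (tt N99970 (iv1 F427010)) (tt N92591 (iv0 F397533)) (tt N34270 F187150) (tt N100285 (iv3 F428260)) (tt N97977 (iv4 F419040)) (tt N34056 (iv5 D119007)) (tt N100286 D203428) (tt N43360 F187151))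
theorem Q63386 : ∀ i, i < 63386 → P i := stepQ 63385 Q63385 (allL N63385 (tt N34442 (iv1 F187423)) (tt N34444 F187422) (tt N34100 F187159) (tt N44738 F187160) (tt N42495 F187161) (tt N46817 F306118) (tt N34058 (iv6 D119011)) (tt N67636 (iv7 F318557)))
theorem Q63387 : ∀ i, i < 63387 → P i := stepQ 63386 Q63386 (allL N63386 (tt N74530 F343984) (tt N45564 F343986) (tt N34105 F187162) (tt N45568 F187163) (tt N46524 F187164) (tt N88093 (iv5 F381781)) (tt N34059 (iv6 D119012)) (tt N68464 (iv7 F362752)))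
theorem Q63388 : ∀ i, i < 63388 → P i := stepQ 63387 Q63387 (allL N63387 (tt N34061 (iv1 D119016)) (tt N34236 F232322) (tt N34167 F232323) (tt N34252 F232324) (tt N52246 F301140) (tt N56131 (iv5 F340854)) (tt N42988 F301141) (tt N34237 F232326))
theorem Q63389 : ∀ i, i < 63389 → P i := stepQ 63388 Q63388 (allL N63388 (tt N75554 (iv1 F334857)) (tt N75551 (iv0 F353661)) (tt N52220 F187250) (tt N80459 (iv3 F267845)) (tt N34065 F187251) (tt N66549 F334851) (tt N34064 (iv6 D119021)) (tt N78826 (iv7 F334853)))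
theorem Q63390 : ∀ i, i < 63390 → P i := stepQ 63389 Q63389 (allL N63389 (tt N42220 F316810) (tt N42224 F316811) (tt N55795 F187255) (tt N88437 (iv3 F383042)) (tt N78826 F316812) (tt N88436 (iv5 F383040)) (tt N41723 F316813) (tt N34065 (iv7 D119025)))
theorem Q63391 : ∀ i, i < 63391 → P i := stepQ 63390 Q63390 (allL N63390 (tt N51365 F334843) (tt N64207 (iv0 F193593)) (tt N55796 F187260) (tt N98403 (iv3 F420807)) (tt N34066 (iv4 D119026)) (tt N92219 (iv5 F396322)) (tt N43051 F334844) (tt N68430 (iv7 F210435)))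
theorem Q63392 : ∀ i, i < 63392 → P i := stepQ 63391 Q63391 (allL N63391 (tt N61445 F333626) (tt N61449 (iv0 F333644)) (tt N61408 F187300) (tt N80451 (iv3 F267779)) (tt N34071 F187301) (tt N40228 F333634) (tt N34070 (iv6 D119045)) (tt N41655 F333628))
theorem Q63393 : ∀ i, i < 63393 → P i := stepQ 63392 Q63392 (allL N63392 (tt N98096 (iv1 F419451)) (tt N34071 (iv0 D119046)) (tt N98095 F419441) (tt N45002 F390817) (tt N91472 (iv4 F393268)) (tt N100287 D203429) (tt N74448 F390818) (tt N91555 (iv7 F393628)))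
theorem Q63394 : ∀ i, i < 63394 → P i := stepQ 63393 Q63393 (allL N63393 (tt N34071 (iv1 D119047)) (tt N98096 F419450) (tt N91555 F393656) (tt N98070 F419343) (tt N91560 (iv4 F393655)) (tt N100288 D203430) (tt N100289 D203431) (tt N98095 (iv7 F419443)))
theorem Q63395 : ∀ i, i < 63395 → P i := stepQ 63394 Q63394 (allL N63394 (tt N86212 F375390) (tt N86216 F375410) (tt N43278 F187302) (tt N42971 F187303) (tt N100290 D203432) (tt N34071 (iv5 D119048)) (tt N34072 F187304) (tt N86215 (iv7 F375404)))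
theorem Q63396 : ∀ i, i < 63396 → P i := stepQ 63395 Q63395 (allL N63395 (tt N91555 F393630) (tt N98095 F419444) (tt N98096 (iv2 F419445)) (tt N42972 F187305) (tt N41655 F319324) (tt N86215 (iv5 F375401)) (tt N41654 F319325) (tt N34071 (iv7 D119049)))
theorem Q63397 : ∀ i, i < 63397 → P i := stepQ 63396 Q63396 (allL N63396 (tt N61459 F187308) (tt N61461 F187309) (tt N43277 F187306) (tt N85355 F372332) (tt N34072 (iv4 D119050)) (tt N100291 D203433) (tt N100290 (iv6 F428275)) (tt N43280 F187307))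
theorem Q63398 : ∀ i, i < 63398 → P i := stepQ 63397 Q63397 (allL N63397 (tt N54962 F187313) (tt N76953 (iv0 F240934)) (tt N35116 F187310) (tt N34073 (iv3 D119051)) (tt N35115 F187311) (tt N64622 (iv5 F197920)) (tt N41651 F311527) (tt N61407 F187312))
theorem Q63399 : ∀ i, i < 63399 → P i := stepQ 63398 Q63398 (allL N63398 (tt N74430 (iv1 F317022)) (tt N56188 (iv0 F338681)) (tt N41654 (iv2 F317023)) (tt N56201 F340905) (tt N41625 F316453) (tt N38646 F328385) (tt N98096 (iv6 F419449)) (tt N34074 (iv7 D119055)))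
theorem Q63400 : ∀ i, i < 63400 → P i := stepQ 63399 Q63399 (allL N63399 (tt N75553 F347773) (tt N98141 (iv0 F419666)) (tt N34078 F187316) (tt N45000 F187317) (tt N42088 F313050) (tt N56650 F187318) (tt N34075 (iv6 D119056)) (tt N95838 (iv7 F409873)))
theorem Q63401 : ∀ i, i < 63401 → P i := stepQ 63400 Q63400 (allL N63400 (tt N34078 (iv1 D119061)) (tt N95838 (iv0 F409875)) (tt N98141 (iv2 F419663)) (tt N75531 F334758) (tt N47934 F334759) (tt N100292 D203434) (tt N47933 F334760) (tt N75553 F347776))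
theorem Q63402 : ∀ i, i < 63402 → P i := stepQ 63401 Q63401 (allL N63401 (tt N86693 F376822) (tt N85789 (iv0 F373947)) (tt N56650 F187329) (tt N34086 F187330) (tt N100293 D203435) (tt N34078 (iv5 D119062)) (tt N34080 F187331) (tt N86692 (iv7 F376814)))
theorem Q63403 : ∀ i, i < 63403 → P i := stepQ 63402 Q63402 (allL N63402 (tt N98141 F419667) (tt N75553 (iv0 F347777)) (tt N95838 (iv2 F409871)) (tt N34087 F187332) (tt N42030 F313051) (tt N86692 F376816) (tt N75537 F352147) (tt N34078 (iv7 D119063)))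
theorem Q63404 : ∀ i, i < 63404 → P i := stepQ 63403 Q63403 (allL N63403 (tt N43264 F187335) (tt N63015 (iv0 F349960)) (tt N56181 F187333) (tt N34088 F187334) (tt N98299 (iv4 F420396)) (tt N98162 (iv5 F419783)) (tt N34079 (iv6 D119064)) (tt N75537 (iv7 F352148)))
theorem Q63405 : ∀ i, i < 63405 → P i := stepQ 63404 Q63404 (allL N63404 (tt N86490 (iv1 F376376)) (tt N86488 (iv0 F376372)) (tt N56649 F187336) (tt N100294 D203436) (tt N34080 (iv4 D119065)) (tt N86523 (iv5 F376425)) (tt N100293 (iv6 F428288)) (tt N86788 (iv7 F377205)))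
theorem Q63406 : ∀ i, i < 63406 → P i := stepQ 63405 Q63405 (allL N63405 (tt N63807 F333599) (tt N63810 (iv0 F261876)) (tt N61351 F187337) (tt N87701 (iv3 F380182)) (tt N34082 F187338) (tt N62730 (iv5 F333593)) (tt N34081 (iv6 D119066)) (tt N82332 F333598))
theorem Q63407 : ∀ i, i < 63407 → P i := stepQ 63406 Q63406 (allL N63406 (tt N79927 (iv1 F259010)) (tt N34082 (iv0 D119067)) (tt N79924 F288205) (tt N60990 F261861) (tt N87886 (iv4 F380962)) (tt N100295 D203437) (tt N74466 F356610) (tt N79925 (iv7 F288204)))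
theorem Q63408 : ∀ i, i < 63408 → P i := stepQ 63407 Q63407 (allL N63407 (tt N34082 (iv1 D119068)) (tt N79927 F259009) (tt N79925 (iv2 F288206)) (tt N54862 (iv3 F291389)) (tt N88227 (iv4 F382265)) (tt N54858 (iv5 F367082)) (tt N54859 (iv6 F291382)) (tt N79924 F288208))
theorem Q63409 : ∀ i, i < 63409 → P i := stepQ 63408 Q63408 (allL N63408 (tt N79925 (iv1 F258972)) (tt N79924 F259008) (tt N79927 (iv2 F259005)) (tt N64206 (iv3 F193587)) (tt N82332 (iv4 F334455)) (tt N97186 (iv5 F415809)) (tt N79072 (iv6 F252147)) (tt N34082 (iv7 D119069)))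
theorem Q63410 : ∀ i, i < 63410 → P i := stepQ 63409 Q63409 (allL N63409 (tt N51991 F187341) (tt N64624 (iv0 F197931)) (tt N64453 (iv2 F197239)) (tt N34083 (iv3 D119070)) (tt N42246 (iv4 F311636)) (tt N53550 (iv5 F301167)) (tt N82333 F309792) (tt N61350 F187340))
theorem Q63411 : ∀ i, i < 63411 → P i := stepQ 63410 Q63410 (allL N63410 (tt N79072 (iv1 F252150)) (tt N34084 (iv0 D119072)) (tt N78893 F347594) (tt N47524 F347595) (tt N75689 F347596) (tt N66207 F347600) (tt N70441 F347597) (tt N79071 (iv7 F347607)))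
theorem Q63412 : ∀ i, i < 63412 → P i := stepQ 63411 Q63411 (allL N63411 (tt N34084 (iv1 D119073)) (tt N79072 F252149) (tt N79071 (iv2 F347604)) (tt N52017 (iv3 F347587)) (tt N52020 (iv4 F337009)) (tt N92634 (iv5 F397706)) (tt N74477 F347589) (tt N78893 F347590))
theorem Q63413 : ∀ i, i < 63413 → P i := stepQ 63412 Q63412 (allL N63412 (tt N79071 (iv1 F252143)) (tt N78893 (iv0 F347602)) (tt N79072 (iv2 F252144)) (tt N61034 F187345) (tt N42568 F314397) (tt N97867 (iv5 F418592)) (tt N79927 (iv6 F259007)) (tt N34084 (iv7 D119074)))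
theorem Q63414 : ∀ i, i < 63414 → P i := stepQ 63413 Q63413 (allL N63413 (tt N74877 F349958) (tt N42219 (iv0 F312740)) (tt N34128 F187349) (tt N42035 F310542) (tt N34088 F187350) (tt N62462 F340765) (tt N34085 (iv6 D119080)) (tt N42027 F310543))
theorem Q63415 : ∀ i, i < 63415 → P i := stepQ 63414 Q63414 (allL N63414 (tt N41638 F317676) (tt N41631 F317677) (tt N74435 F317678) (tt N86692 F376815) (tt N34086 (iv4 D119092)) (tt N34087 F317679) (tt N34092 F187353) (tt N34086 F317680))
theorem Q63416 : ∀ i, i < 63416 → P i := stepQ 63415 Q63415 (allL N63415 (tt N34130 (iv1 F187357)) (tt N34129 F187358) (tt N34132 F187355) (tt N75537 F352146) (tt N42027 F315233) (tt N100296 D203438) (tt N34087 (iv6 D119094)) (tt N34088 F187356))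
theorem Q63417 : ∀ i, i < 63417 → P i := stepQ 63416 Q63416 (allL N63416 (tt N100297 D203439) (tt N69717 F353539) (tt N34131 F187362) (tt N98162 (iv3 F419781)) (tt N85630 (iv4 F373275)) (tt N34088 (iv5 D119097)) (tt N34094 F187363) (tt N100296 (iv7 F428302)))
theorem Q63418 : ∀ i, i < 63418 → P i := stepQ 63417 Q63417 (allL N63417 (tt N68366 (iv1 F209998)) (tt N68368 (iv0 F210002)) (tt N78291 (iv2 F247864)) (tt N91217 F392299) (tt N34089 (iv4 D119098)) (tt N98395 (iv5 F420768)) (tt N85797 (iv6 F373990)) (tt N68476 (iv7 F210613)))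
theorem Q63419 : ∀ i, i < 63419 → P i := stepQ 63418 Q63418 (allL N63418 (tt N68368 (iv1 F210003)) (tt N68366 (iv0 F209997)) (tt N68476 (iv2 F210612)) (tt N86606 F387426) (tt N34090 (iv4 D119099)) (tt N89751 (iv5 F387421)) (tt N70794 (iv6 F362432)) (tt N78291 (iv7 F247865)))
theorem Q63420 : ∀ i, i < 63420 → P i := stepQ 63419 Q63419 (allL N63419 (tt N100298 D203440) (tt N100299 D203441) (tt N68477 (iv2 F210616)) (tt N60258 F187364) (tt N70794 F344967) (tt N97180 (iv5 F415782)) (tt N34090 (iv6 D119100)) (tt N70793 (iv7 F344966)))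
theorem Q63421 : ∀ i, i < 63421 → P i := stepQ 63420 Q63420 (allL N63420 (tt N43100 (iv1 F187370)) (tt N42962 F187369) (tt N57431 F187365) (tt N34091 (iv3 D119101)) (tt N43070 (iv4 F187368)) (tt N36251 F187366) (tt N100300 D203442) (tt N57432 F187367))
theorem Q63422 : ∀ i, i < 63422 → P i := stepQ 63421 Q63421 (allL N63421 (tt N61362 F187373) (tt N41406 F321168) (tt N61359 F187371) (tt N100301 D203443) (tt N34091 (iv4 D119102)) (tt N100302 D203444) (tt N96942 (iv6 F414707)) (tt N60996 F187372))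
theorem Q63423 : ∀ i, i < 63423 → P i := stepQ 63422 Q63422 (allL N63422 (tt N68207 (iv1 F345013)) (tt N68206 F345014) (tt N68209 (iv2 F327029)) (tt N100300 (iv3 F428325)) (tt N96942 (iv4 F414704)) (tt N61683 (iv5 F327027)) (tt N34091 (iv6 D119103)) (tt N61682 F345012))
theorem Q63424 : ∀ i, i < 63424 → P i := stepQ 63423 Q63423 (allL N63423 (tt N92997 (iv1 F399061)) (tt N86701 F399065) (tt N92998 (iv2 F399066)) (tt N34092 (iv3 D119104)) (tt N100294 (iv4 F428292)) (tt N100303 D203445) (tt N86692 (iv6 F376817)) (tt N86789 (iv7 F377208)))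
theorem Q63425 : ∀ i, i < 63425 → P i := stepQ 63424 Q63424 (allL N63424 (tt N69613 (iv1 F215104)) (tt N69586 (iv0 F215048)) (tt N92995 (iv2 F399052)) (tt N100303 (iv3 F428339)) (tt N44539 F187375) (tt N34092 (iv5 D119105)) (tt N100296 (iv6 F428301)) (tt N91723 (iv7 F394181)))
theorem Q63426 : ∀ i, i < 63426 → P i := stepQ 63425 Q63425 (allL N63425 (tt N64035 (iv1 F192343)) (tt N37293 (iv0 F187378)) (tt N56654 F187376) (tt N86789 (iv3 F377207)) (tt N34093 F187377) (tt N91723 (iv5 F394182)) (tt N34093 F333551) (tt N34092 (iv7 D119106)))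
theorem Q63427 : ∀ i, i < 63427 → P i := stepQ 63426 Q63426 (allL N63426 (tt N89738 F387375) (tt N100304 D203446) (tt N44678 F187381) (tt N34096 F187382) (tt N43450 F187383) (tt N76547 (iv5 F353095)) (tt N34095 (iv6 D119109)) (tt N100305 D203447))
theorem Q63428 : ∀ i, i < 63428 → P i := stepQ 63427 Q63427 (allL N63427 (tt N34440 F187385) (tt N34096 (iv0 D119110)) (tt N34437 F234218) (tt N100147 (iv3 F427693)) (tt N42817 (iv4 F187386)) (tt N100306 D203448) (tt N47421 F187384) (tt N34438 F234219))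
theorem Q63429 : ∀ i, i < 63429 → P i := stepQ 63428 Q63428 (allL N63428 (tt N34096 (iv1 D119111)) (tt N34440 F187388) (tt N34438 F234228) (tt N68016 (iv3 F305653)) (tt N75813 F234175) (tt N100307 D203449) (tt N100281 F428240) (tt N34437 F234229))
theorem Q63430 : ∀ i, i < 63430 → P i := stepQ 63429 Q63429 (allL N63429 (tt N100136 F427637) (tt N63618 (iv0 F188487)) (tt N34439 F187389) (tt N76547 F353094) (tt N34422 F319360) (tt N34096 (iv5 D119112)) (tt N52821 (iv6 F301921)) (tt N69576 F319361))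
theorem Q63431 : ∀ i, i < 63431 → P i := stepQ 63430 Q63430 (allL N63430 (tt N34438 (iv1 F187393)) (tt N34437 F187394) (tt N34440 F187390) (tt N100305 (iv3 F428347)) (tt N34099 F187391) (tt N69576 F335248) (tt N44780 F187392) (tt N34096 (iv7 D119113)))
theorem Q63432 : ∀ i, i < 63432 → P i := stepQ 63431 Q63431 (allL N63431 (tt N67636 (iv1 F318554)) (tt N34100 (iv0 F187400)) (tt N34442 F187396) (tt N34420 (iv3 F313701)) (tt N34097 (iv4 D119114)) (tt N66913 F311320) (tt N34418 F311321) (tt N34444 F187398))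
theorem Q63433 : ∀ i, i < 63433 → P i := stepQ 63432 Q63432 (allL N63432 (tt N43986 F187405) (tt N90251 (iv0 F389115)) (tt N34443 F187401) (tt N34426 F310276) (tt N100308 D203450) (tt N34097 (iv5 D119115)) (tt N43994 F312564) (tt N34445 F187404))
theorem Q63434 : ∀ i, i < 63434 → P i := stepQ 63433 Q63433 (allL N63433 (tt N90251 F389116) (tt N43986 (iv0 F187414)) (tt N34445 F187412) (tt N64547 (iv3 F307789)) (tt N77615 F335247) (tt N34098 (iv5 D119118)) (tt N63227 (iv6 F187415)) (tt N34443 F187413))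
theorem Q63435 : ∀ i, i < 63435 → P i := stepQ 63434 Q63434 (allL N63434 (tt N34444 F187421) (tt N34442 (iv0 F187420)) (tt N67636 (iv2 F318555)) (tt N46820 F306120) (tt N42501 F187418) (tt N46818 F306121) (tt N37905 (iv6 F318558)) (tt N34100 (iv7 D119120)))
theorem Q63436 : ∀ i, i < 63436 → P i := stepQ 63435 Q63435 (allL N63435 (tt N45576 (iv1 F187440)) (tt N34102 (iv0 D119123)) (tt N45573 F298564) (tt N44731 F298217) (tt N37449 F304117) (tt N61365 F298218) (tt N37447 F304118) (tt N45574 F298565))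
theorem Q63437 : ∀ i, i < 63437 → P i := stepQ 63436 Q63436 (allL N63436 (tt N61412 F303492) (tt N42650 F303493) (tt N45575 F187433) (tt N34108 F187434) (tt N46571 F303494) (tt N34102 (iv5 D119125)) (tt N34718 F187435) (tt N80111 (iv7 F319970)))
theorem Q63438 : ∀ i, i < 63438 → P i := stepQ 63437 Q63437 (allL N63437 (tt N45534 F333719) (tt N45602 F333720) (tt N45579 F187453) (tt N46883 F187454) (tt N77774 (iv4 F312335)) (tt N100309 D203451) (tt N34104 (iv6 D119129)) (tt N45601 F316558))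
theorem Q63439 : ∀ i, i < 63439 → P i := stepQ 63438 Q63438 (allL N63438 (tt N68464 F337584) (tt N34105 (iv0 D119130)) (tt N74530 (iv2 F343968)) (tt N46837 F315079) (tt N68423 (iv4 F350915)) (tt N100310 D203452) (tt N45597 F316657) (tt N45564 F315080))
theorem Q63440 : ∀ i, i < 63440 → P i := stepQ 63439 Q63439 (allL N63439 (tt N34105 (iv1 D119131)) (tt N68464 F343970) (tt N45564 F343971) (tt N46886 F343972) (tt N68422 F343973) (tt N87470 (iv5 F379451)) (tt N34716 F343974) (tt N74530 F343975))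
theorem Q63441 : ∀ i, i < 63441 → P i := stepQ 63440 Q63440 (allL N63440 (tt N91311 F392670) (tt N41979 F346811) (tt N88093 (iv2 F381778)) (tt N34718 F187455) (tt N48908 F304284) (tt N34105 (iv5 D119132)) (tt N34108 F187456) (tt N91313 (iv7 F392680)))
theorem Q63442 : ∀ i, i < 63442 → P i := stepQ 63441 Q63441 (allL N63441 (tt N45564 F343977) (tt N74530 F343978) (tt N68464 F362753) (tt N34713 F302265) (tt N46528 F187458) (tt N91313 (iv5 F392675)) (tt N45581 F187459) (tt N34105 (iv7 D119133)))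
theorem Q63443 : ∀ i, i < 63443 → P i := stepQ 63442 Q63442 (allL N63442 (tt N44425 (iv1 F313591)) (tt N34418 F311313) (tt N44430 (iv2 F313595)) (tt N46890 (iv3 F191015)) (tt N66823 (iv4 F205718)) (tt N81519 (iv5 F275797)) (tt N34107 (iv6 D119139)) (tt N44429 (iv7 F313594)))
theorem Q63444 : ∀ i, i < 63444 → P i := stepQ 63443 Q63443 (allL N63443 (tt N34143 (iv1 F187463)) (tt N34110 (iv0 D119144)) (tt N34140 F187639) (tt N88478 (iv3 F383215)) (tt N61374 (iv4 F190304)) (tt N46148 F325405) (tt N82056 F278195) (tt N34141 F187640))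
theorem Q63445 : ∀ i, i < 63445 → P i := stepQ 63444 Q63444 (allL N63444 (tt N34110 (iv1 D119145)) (tt N34143 F187464) (tt N34141 (iv2 F187643)) (tt N44742 F234199) (tt N61375 (iv4 F190307)) (tt N46149 F325402) (tt N99956 F426949) (tt N34140 (iv7 F187644)))
theorem Q63446 : ∀ i, i < 63446 → P i := stepQ 63445 Q63445 (allL N63445 (tt N96875 (iv1 F414392)) (tt N96877 (iv0 F414400)) (tt N34148 F187489) (tt N87260 (iv3 F378926)) (tt N34112 (iv4 D119158)) (tt N87188 (iv5 F378640)) (tt N34121 F187490) (tt N100280 (iv7 F428235)))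
theorem Q63447 : ∀ i, i < 63447 → P i := stepQ 63446 Q63446 (allL N63446 (tt N69567 (iv1 F214902)) (tt N69566 (iv0 F214883)) (tt N37470 F187492) (tt N34939 F313356) (tt N69586 (iv4 F215047)) (tt N34113 (iv5 D119160)) (tt N100311 D203453) (tt N35149 F313357))
theorem Q63448 : ∀ i, i < 63448 → P i := stepQ 63447 Q63447 (allL N63447 (tt N89164 F385411) (tt N100312 D203454) (tt N37471 F187493) (tt N34940 F311985) (tt N34114 F187494) (tt N80505 F311986) (tt N34113 (iv6 D119161)) (tt N80519 F311987))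
theorem Q63449 : ∀ i, i < 63449 → P i := stepQ 63448 Q63448 (allL N63448 (tt N34114 (iv1 D119162)) (tt N37474 F187495) (tt N37473 (iv2 F187497)) (tt N78290 F247702) (tt N82265 F361464) (tt N40775 F319503) (tt N40777 F319504) (tt N37472 F187496))
theorem Q63450 : ∀ i, i < 63450 → P i := stepQ 63449 Q63449 (allL N63449 (tt N100313 D203455) (tt N100314 D203456) (tt N37381 F187515) (tt N64300 F358456) (tt N34116 F187516) (tt N70343 (iv5 F358458)) (tt N34115 (iv6 D119166)) (tt N80518 (iv7 F358459)))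
theorem Q63451 : ∀ i, i < 63451 → P i := stepQ 63450 Q63450 (allL N63450 (tt N37384 (iv1 F187522)) (tt N34116 (iv0 D119167)) (tt N37382 F237555) (tt N34430 F237556) (tt N89718 (iv4 F387287)) (tt N100315 D203457) (tt N75619 F340116) (tt N37383 F237557))
theorem Q63452 : ∀ i, i < 63452 → P i := stepQ 63451 Q63451 (allL N63451 (tt N34116 (iv1 D119168)) (tt N37384 F187517) (tt N37383 F237559) (tt N79096 F252502) (tt N89719 (iv4 F387293)) (tt N62982 (iv5 F187518)) (tt N100316 D203458) (tt N37382 F237560))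
theorem Q63453 : ∀ i, i < 63453 → P i := stepQ 63452 Q63452 (allL N63452 (tt N37383 (iv1 F187523)) (tt N37382 F187524) (tt N37384 F187519) (tt N43494 F187520) (tt N80518 F358461) (tt N74386 (iv5 F227685)) (tt N43316 F187521) (tt N34116 (iv7 D119169)))
theorem Q63454 : ∀ i, i < 63454 → P i := stepQ 63453 Q63453 (allL N63453 (tt N68393 (iv1 F210055)) (tt N44504 F187526) (tt N68522 (iv2 F210751)) (tt N89735 (iv3 F387357)) (tt N100302 (iv4 F428337)) (tt N34117 (iv5 D119174)) (tt N71250 F362507) (tt N89715 (iv7 F387278)))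
theorem Q63455 : ∀ i, i < 63455 → P i := stepQ 63454 Q63454 (allL N63454 (tt N69574 (iv1 F214912)) (tt N43464 F312486) (tt N68523 (iv2 F210755)) (tt N89736 (iv3 F387359)) (tt N66827 (iv4 F205735)) (tt N71251 (iv5 F362499)) (tt N34117 (iv6 D119175)) (tt N71936 (iv7 F362495)))
theorem Q63456 : ∀ i, i < 63456 → P i := stepQ 63455 Q63455 (allL N63455 (tt N34118 (iv1 D119182)) (tt N44539 F187531) (tt N68478 (iv2 F210619)) (tt N80865 (iv3 F366726)) (tt N98395 (iv4 F420769)) (tt N57425 F187532) (tt N100317 D203459) (tt N78299 (iv7 F247884)))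
theorem Q63457 : ∀ i, i < 63457 → P i := stepQ 63456 Q63456 (allL N63456 (tt N68478 (iv1 F210622)) (tt N78299 (iv0 F247885)) (tt N44539 F187534) (tt N64910 F361478) (tt N92995 (iv4 F399054)) (tt N34119 F187535) (tt N100318 D203460) (tt N34118 (iv7 D119185)))
theorem Q63458 : ∀ i, i < 63458 → P i := stepQ 63457 Q63457 (allL N63457 (tt N34155 (iv1 F187541)) (tt N34121 (iv0 D119189)) (tt N34153 F187543) (tt N91623 F393804) (tt N41424 F187540) (tt N77712 (iv5 F244747)) (tt N95575 (iv6 F408712)) (tt N34154 (iv7 F187542)))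
theorem Q63459 : ∀ i, i < 63459 → P i := stepQ 63458 Q63458 (allL N63458 (tt N34121 (iv1 D119190)) (tt N34155 F187544) (tt N34154 (iv2 F187547)) (tt N99653 (iv3 F425600)) (tt N61378 F187546) (tt N77711 (iv5 F244743)) (tt N41269 F330005) (tt N34153 F187545))
theorem Q63460 : ∀ i, i < 63460 → P i := stepQ 63459 Q63459 (allL N63459 (tt N58623 (iv1 F309250)) (tt N42339 (iv0 F187565)) (tt N43330 F187562) (tt N62516 (iv3 F322133)) (tt N37029 F320716) (tt N34124 (iv5 D119196)) (tt N35447 F187563) (tt N44099 F187564))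
theorem Q63461 : ∀ i, i < 63461 → P i := stepQ 63460 Q63460 (allL N63460 (tt N42339 F187569) (tt N58623 (iv0 F309249)) (tt N44099 F187566) (tt N43213 F187567) (tt N58676 (iv4 F336256)) (tt N34125 (iv5 D119197)) (tt N34378 F187570) (tt N43330 F187568))
theorem Q63462 : ∀ i, i < 63462 → P i := stepQ 63461 Q63461 (allL N63461 (tt N42219 F314856) (tt N74877 F349962) (tt N42027 F314857) (tt N42062 F314858) (tt N34132 F187577) (tt N43879 F314859) (tt N41715 F314860) (tt N34128 (iv7 D119201)))
theorem Q63463 : ∀ i, i < 63463 → P i := stepQ 63462 Q63462 (allL N63462 (tt N100319 D203461) (tt N100320 D203462) (tt N74499 (iv2 F357972)) (tt N84721 (iv3 F370332)) (tt N58131 F354594) (tt N34129 (iv5 D119204)) (tt N50450 F187579) (tt N72507 F357969))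
theorem Q63464 : ∀ i, i < 63464 → P i := stepQ 63463 Q63463 (allL N63463 (tt N36466 F360696) (tt N73145 F360697) (tt N75527 F347723) (tt N34130 (iv3 D119205)) (tt N99882 (iv4 F426670)) (tt N100321 D203463) (tt N100322 D203464) (tt N74498 (iv7 F347731)))
theorem Q63465 : ∀ i, i < 63465 → P i := stepQ 63464 Q63464 (allL N63464 (tt N100320 (iv1 F428415)) (tt N100319 F428413) (tt N72507 F357967) (tt N100321 (iv3 F428416)) (tt N72503 (iv4 F357970)) (tt N34130 (iv5 D119207)) (tt N100323 D203465) (tt N74499 (iv7 F357971)))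
theorem Q63466 : ∀ i, i < 63466 → P i := stepQ 63465 Q63465 (allL N63465 (tt N70463 F339560) (tt N70441 F339562) (tt N74493 F339563) (tt N100322 (iv3 F428418)) (tt N66761 (iv4 F339561)) (tt N70714 (iv5 F339559)) (tt N34130 (iv6 D119208)) (tt N74807 F339564))
theorem Q63467 : ∀ i, i < 63467 → P i := stepQ 63466 Q63466 (allL N63466 (tt N100296 (iv1 F428303)) (tt N34131 (iv0 D119209)) (tt N100297 F428309) (tt N98169 F419819) (tt N62251 F363999) (tt N92550 (iv5 F397341)) (tt N89871 F419640) (tt N69717 (iv7 F364000)))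
theorem Q63468 : ∀ i, i < 63468 → P i := stepQ 63467 Q63467 (allL N63467 (tt N34131 (iv1 D119210)) (tt N100296 (iv0 F428305)) (tt N69717 F406665) (tt N100324 D203466) (tt N69715 (iv4 F406664)) (tt N100325 D203467) (tt N100326 D203468) (tt N100297 (iv7 F428311)))
theorem Q63469 : ∀ i, i < 63469 → P i := stepQ 63468 Q63468 (allL N63468 (tt N89832 F387682) (tt N98384 (iv0 F420714)) (tt N85630 (iv2 F373273)) (tt N59039 F338287) (tt N34131 (iv4 D119211)) (tt N72547 F362383) (tt N34136 F187580) (tt N100318 (iv7 F428411)))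
theorem Q63470 : ∀ i, i < 63470 → P i := stepQ 63469 Q63469 (allL N63469 (tt N69717 (iv1 F353536)) (tt N100297 F428310) (tt N100296 (iv2 F428300)) (tt N67122 (iv3 F206691)) (tt N100318 (iv4 F428409)) (tt N34132 F187581) (tt N92995 (iv6 F399055)) (tt N34131 (iv7 D119212)))
theorem Q63471 : ∀ i, i < 63471 → P i := stepQ 63470 Q63470 (allL N63470 (tt N76223 (iv1 F237952)) (tt N76224 (iv0 F237953)) (tt N89313 (iv2 F386047)) (tt N85382 (iv3 F372425)) (tt N34133 (iv4 D119213)) (tt N85381 (iv5 F372423)) (tt N100327 D203469) (tt N43242 F187582))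
theorem Q63472 : ∀ i, i < 63472 → P i := stepQ 63471 Q63471 (allL N63471 (tt N100328 D203470) (tt N100329 D203471) (tt N97800 (iv2 F418354)) (tt N100179 (iv3 F427870)) (tt N100327 (iv4 F428442)) (tt N41883 F187583) (tt N34133 (iv6 D119214)) (tt N100330 D203472))
theorem Q63473 : ∀ i, i < 63473 → P i := stepQ 63472 Q63472 (allL N63472 (tt N61394 F187586) (tt N61364 (iv0 F187587)) (tt N61390 F187584) (tt N80615 F349166) (tt N34134 (iv4 D119215)) (tt N91680 (iv5 F394014)) (tt N100331 D203473) (tt N61391 F187585))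
theorem Q63474 : ∀ i, i < 63474 → P i := stepQ 63473 Q63473 (allL N63473 (tt N100332 D203474) (tt N100333 D203475) (tt N98694 (iv2 F421876)) (tt N98172 (iv3 F419836)) (tt N100331 (iv4 F428448)) (tt N43285 F187588) (tt N34134 (iv6 D119216)) (tt N85349 (iv7 F372321)))
theorem Q63475 : ∀ i, i < 63475 → P i := stepQ 63474 Q63474 (allL N63474 (tt N61364 F187591) (tt N61394 F187592) (tt N61391 F187589) (tt N85385 F372442) (tt N34135 (iv4 D119217)) (tt N100334 D203476) (tt N84992 (iv6 F371304)) (tt N61390 F187590))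
theorem Q63476 : ∀ i, i < 63476 → P i := stepQ 63475 Q63475 (allL N63475 (tt N48869 F335361) (tt N48868 F335362) (tt N48871 F335363) (tt N34136 (iv3 D119218)) (tt N67119 (iv4 F206683)) (tt N48860 F335364) (tt N59039 (iv6 F338286)) (tt N48859 F335365))
theorem Q63477 : ∀ i, i < 63477 → P i := stepQ 63476 Q63476 (allL N63476 (tt N68472 (iv1 F309036)) (tt N46840 F187595) (tt N34717 F187593) (tt N34139 F187594) (tt N68415 (iv4 F309450)) (tt N58759 (iv5 F332176)) (tt N34137 (iv6 D119220)) (tt N68462 (iv7 F313514)))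
theorem Q63478 : ∀ i, i < 63478 → P i := stepQ 63477 Q63477 (allL N63477 (tt N37579 F313003) (tt N37586 F313004) (tt N45580 F187598) (tt N58759 F332177) (tt N68463 F313005) (tt N34139 (iv5 D119224)) (tt N34142 F187599) (tt N68463 F313006))
theorem Q63479 : ∀ i, i < 63479 → P i := stepQ 63478 Q63478 (allL N63478 (tt N44744 F187611) (tt N44739 (iv0 F249406)) (tt N44741 F234201) (tt N34140 (iv3 D119227)) (tt N43322 F187617) (tt N81527 F275812) (tt N81070 (iv6 F273322)) (tt N44742 (iv7 F234200)))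
theorem Q63480 : ∀ i, i < 63480 → P i := stepQ 63479 Q63479 (allL N63479 (tt N46479 F187618) (tt N42497 (iv0 F188318)) (tt N61374 (iv2 F190302)) (tt N43323 (iv3 F187614)) (tt N34140 (iv4 D119228)) (tt N73565 (iv5 F348371)) (tt N100335 D203477) (tt N61375 (iv7 F190308)))
theorem Q63481 : ∀ i, i < 63481 → P i := stepQ 63480 Q63480 (allL N63480 (tt N44013 F322772) (tt N46150 (iv0 F323010)) (tt N46148 F325403) (tt N81527 (iv3 F275814)) (tt N65154 F322773) (tt N34140 (iv5 D119229)) (tt N45926 F330807) (tt N46149 F325404))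
theorem Q63482 : ∀ i, i < 63482 → P i := stepQ 63481 Q63481 (allL N63481 (tt N70555 F353053) (tt N44432 F353054) (tt N82056 (iv2 F278196)) (tt N81070 F273324) (tt N100335 (iv4 F428464)) (tt N63540 F187935) (tt N34140 (iv6 D119230)) (tt N82053 (iv7 F278201)))
theorem Q63483 : ∀ i, i < 63483 → P i := stepQ 63482 Q63482 (allL N63482 (tt N88822 (iv1 F384261)) (tt N43532 F353878) (tt N88481 (iv2 F383224)) (tt N34141 (iv3 D119231)) (tt N63143 F187666) (tt N100336 D203478) (tt N100337 D203479) (tt N88478 (iv7 F383216)))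
theorem Q63484 : ∀ i, i < 63484 → P i := stepQ 63483 Q63483 (allL N63483 (tt N46150 (iv1 F323011)) (tt N44013 F322771) (tt N46149 F325399) (tt N100336 (iv3 F428467)) (tt N100338 D203480) (tt N34141 (iv5 D119232)) (tt N95804 (iv6 F409733)) (tt N46148 F325400))
theorem Q63485 : ∀ i, i < 63485 → P i := stepQ 63484 Q63484 (allL N63484 (tt N97383 F416631) (tt N37906 F317291) (tt N99956 (iv2 F426950)) (tt N100337 (iv3 F428471)) (tt N63142 F187667) (tt N63637 (iv5 F188547)) (tt N34141 (iv6 D119233)) (tt N99955 F426944))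
theorem Q63486 : ∀ i, i < 63486 → P i := stepQ 63485 Q63485 (allL N63485 (tt N80108 F346950) (tt N80107 F350694) (tt N64234 (iv2 F350695)) (tt N80105 F350696) (tt N34142 (iv4 D119236)) (tt N100339 D203481) (tt N68463 (iv6 F346951)) (tt N80109 F350697))
theorem Q63487 : ∀ i, i < 63487 → P i := stepQ 63486 Q63486 (allL N63486 (tt N44715 F315279) (tt N46865 F187674) (tt N44751 F187671) (tt N34144 (iv3 D119238)) (tt N43565 (iv4 F191142)) (tt N96491 (iv5 F412739)) (tt N100340 D203482) (tt N46866 F187672))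
theorem Q63488 : ∀ i, i < 63488 → P i := stepQ 63487 Q63487 (allL N63487 (tt N81345 (iv1 F274408)) (tt N81294 (iv0 F274167)) (tt N43396 F187675) (tt N96491 (iv3 F412738)) (tt N46269 F327102) (tt N34144 (iv5 D119239)) (tt N100341 D203483) (tt N46266 (iv7 F327671)))
theorem Q63489 : ∀ i, i < 63489 → P i := stepQ 63488 Q63488 (allL N63488 (tt N100342 D203484) (tt N44787 F233267) (tt N43397 F187676) (tt N100340 (iv3 F428487)) (tt N34146 F187677) (tt N63613 (iv5 F188304)) (tt N34144 (iv6 D119240)) (tt N99954 (iv7 F426937)))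
theorem Q63490 : ∀ i, i < 63490 → P i := stepQ 63489 Q63489 (allL N63489 (tt N62490 (iv1 F356242)) (tt N62489 F356231) (tt N43399 F187678) (tt N55128 F356930) (tt N34145 (iv4 D119241)) (tt N55126 F352742) (tt N73653 F364109) (tt N55198 (iv7 F337687)))
theorem Q63491 : ∀ i, i < 63491 → P i := stepQ 63490 Q63490 (allL N63490 (tt N100280 (iv1 F428237)) (tt N34148 (iv0 D119244)) (tt N96875 (iv2 F414387)) (tt N100343 D203485) (tt N100344 D203486) (tt N80200 (iv5 F363701)) (tt N99722 F425911) (tt N96877 (iv7 F414399)))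
theorem Q63492 : ∀ i, i < 63492 → P i := stepQ 63491 Q63491 (allL N63491 (tt N34148 (iv1 D119245)) (tt N100280 (iv0 F428236)) (tt N96877 (iv2 F414397)) (tt N89370 (iv3 F386264)) (tt N63151 (iv4 F189711)) (tt N80201 F348114) (tt N48042 F189712) (tt N96875 (iv7 F414389)))
theorem Q63493 : ∀ i, i < 63493 → P i := stepQ 63492 Q63492 (allL N63492 (tt N96877 (iv1 F414401)) (tt N96875 (iv0 F414391)) (tt N100280 (iv2 F428234)) (tt N54512 F346763) (tt N34149 F187688) (tt N87191 (iv5 F378651)) (tt N100345 D203487) (tt N34148 (iv7 D119248)))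
theorem Q63494 : ∀ i, i < 63494 → P i := stepQ 63493 Q63493 (allL N63493 (tt N43406 F215870) (tt N100125 F427580) (tt N88438 (iv2 F383046)) (tt N34357 F187689) (tt N100345 (iv4 F428515)) (tt N42722 F307610) (tt N34149 (iv6 D119249)) (tt N34156 F187691))
theorem Q63495 : ∀ i, i < 63495 → P i := stepQ 63494 Q63494 (allL N63494 (tt N72326 (iv1 F366534)) (tt N72325 F366532) (tt N42953 F187696) (tt N55134 (iv3 F362353)) (tt N34151 F187697) (tt N84535 (iv5 F369646)) (tt N34150 (iv6 D119252)) (tt N72316 (iv7 F366530)))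
theorem Q63496 : ∀ i, i < 63496 → P i := stepQ 63495 Q63495 (allL N63495 (tt N41184 F366190) (tt N87706 (iv0 F380206)) (tt N100346 D203488) (tt N34153 (iv3 D119262)) (tt N43373 F187729) (tt N100347 D203489) (tt N96884 (iv6 F414441)) (tt N99653 (iv7 F425603)))
theorem Q63497 : ∀ i, i < 63497 → P i := stepQ 63496 Q63496 (allL N63496 (tt N61379 F187730) (tt N44984 F187727) (tt N41424 F187724) (tt N43374 F187728) (tt N34153 (iv4 D119263)) (tt N41422 F187726) (tt N96885 (iv6 F414445)) (tt N61378 F187725))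
theorem Q63498 : ∀ i, i < 63498 → P i := stepQ 63497 Q63497 (allL N63497 (tt N76246 (iv1 F237987)) (tt N52478 (iv0 F326525)) (tt N77712 F244748) (tt N100347 (iv3 F428525)) (tt N100334 (iv4 F428458)) (tt N34153 (iv5 D119264)) (tt N96799 (iv6 F414007)) (tt N77711 F244745))
theorem Q63499 : ∀ i, i < 63499 → P i := stepQ 63498 Q63498 (allL N63498 (tt N48911 F365408) (tt N89506 (iv0 F386669)) (tt N91622 F393799) (tt N34154 (iv3 D119266)) (tt N63167 F187731) (tt N87316 F379042) (tt N99717 (iv6 F425890)) (tt N91623 (iv7 F393802)))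
theorem Q63500 : ∀ i, i < 63500 → P i := stepQ 63499 Q63499 (allL N63499 (tt N52478 (iv1 F326526)) (tt N76246 (iv0 F237986)) (tt N77711 F244744) (tt N87316 (iv3 F379043)) (tt N91680 (iv4 F394013)) (tt N34154 (iv5 D119267)) (tt N52676 (iv6 F330007)) (tt N77712 (iv7 F244746)))
theorem Q63501 : ∀ i, i < 63501 → P i := stepQ 63500 Q63500 (allL N63500 (tt N100348 D203490) (tt N100349 D203491) (tt N100124 (iv2 F427571)) (tt N55057 F361900) (tt N34156 F187740) (tt N91624 (iv5 F393810)) (tt N34155 (iv6 D119279)) (tt N100345 (iv7 F428517)))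
theorem Q63502 : ∀ i, i < 63502 → P i := stepQ 63501 Q63501 (allL N63501 (tt N34156 (iv1 D119280)) (tt N88438 (iv0 F383050)) (tt N43406 F312389) (tt N43600 F312390) (tt N89229 (iv4 F385685)) (tt N35045 F311807) (tt N41275 F340938) (tt N100125 (iv7 F427581)))
theorem Q63503 : ∀ i, i < 63503 → P i := stepQ 63502 Q63502 (allL N63502 (tt N46770 (iv1 F187749)) (tt N34157 (iv0 D119281)) (tt N46767 F313119) (tt N80757 (iv3 F271061)) (tt N52929 F310881) (tt N91331 (iv5 F392765)) (tt N90244 F389082) (tt N46768 F313120))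
theorem Q63504 : ∀ i, i < 63504 → P i := stepQ 63503 Q63503 (allL N63503 (tt N34157 (iv1 D119282)) (tt N46770 F187741) (tt N46768 F313121) (tt N81687 F276463) (tt N52925 F310882) (tt N100350 D203492) (tt N46684 F310883) (tt N46767 F313122))
theorem Q63505 : ∀ i, i < 63505 → P i := stepQ 63504 Q63504 (allL N63504 (tt N100351 D203493) (tt N100352 D203494) (tt N46769 F187742) (tt N34161 F187743) (tt N100353 D203495) (tt N34157 (iv5 D119283)) (tt N54305 F187744) (tt N100354 D203496))
theorem Q63506 : ∀ i, i < 63506 → P i := stepQ 63505 Q63505 (allL N63505 (tt N46768 (iv1 F187750)) (tt N46767 F187751) (tt N46770 F187745) (tt N34162 F187746) (tt N43606 F187747) (tt N100354 (iv5 F428556)) (tt N46980 F187748) (tt N34157 (iv7 D119284)))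
theorem Q63507 : ∀ i, i < 63507 → P i := stepQ 63506 Q63506 (allL N63506 (tt N34158 (iv1 D119286)) (tt N34223 F187752) (tt N34221 F344039) (tt N77613 (iv3 F344043)) (tt N57695 (iv4 F338961)) (tt N90194 (iv5 F388840)) (tt N76074 F344040) (tt N34220 F344041))
theorem Q63508 : ∀ i, i < 63508 → P i := stepQ 63507 Q63507 (allL N63507 (tt N94475 (iv1 F404636)) (tt N100355 D203497) (tt N34222 F187753) (tt N54305 F187754) (tt N99133 (iv4 F423423)) (tt N34158 (iv5 D119287)) (tt N34161 F187755) (tt N100356 D203498))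
theorem Q63509 : ∀ i, i < 63509 → P i := stepQ 63508 Q63508 (allL N63508 (tt N34221 (iv1 F187760)) (tt N34220 F187761) (tt N34223 F187756) (tt N54306 F187757) (tt N47738 F316594) (tt N100356 (iv5 F428567)) (tt N47360 F187758) (tt N34158 (iv7 D119288)))
theorem Q63510 : ∀ i, i < 63510 → P i := stepQ 63509 Q63509 (allL N63509 (tt N66429 (iv1 F331894)) (tt N47256 F331919) (tt N66935 (iv2 F331923)) (tt N34159 (iv3 D119289)) (tt N36599 F187762) (tt N57344 (iv5 F331892)) (tt N100357 D203499) (tt N34228 F187763))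
theorem Q63511 : ∀ i, i < 63511 → P i := stepQ 63510 Q63510 (allL N63510 (tt N76881 (iv1 F240163)) (tt N100358 D203500) (tt N34226 F187764) (tt N57344 (iv3 F345605)) (tt N100359 D203501) (tt N34159 (iv5 D119290)) (tt N100360 D203502) (tt N34230 F187765))
theorem Q63512 : ∀ i, i < 63512 → P i := stepQ 63511 Q63511 (allL N63511 (tt N43982 F190689) (tt N66959 F303612) (tt N34227 F187766) (tt N100357 (iv3 F428572)) (tt N36597 F187767) (tt N63859 F191406) (tt N34159 (iv6 D119291)) (tt N66958 F303613))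
theorem Q63513 : ∀ i, i < 63513 → P i := stepQ 63512 Q63512 (allL N63512 (tt N36418 F187772) (tt N36595 (iv0 F187774)) (tt N34229 F187770) (tt N36606 F187773) (tt N34160 (iv4 D119293)) (tt N100361 D203503) (tt N63262 F364465) (tt N34225 F187771))
theorem Q63514 : ∀ i, i < 63514 → P i := stepQ 63513 Q63513 (allL N63513 (tt N100358 (iv1 F428578)) (tt N76881 F240164) (tt N34230 F187775) (tt N66907 (iv3 F345604)) (tt N99273 (iv4 F423896)) (tt N34160 (iv5 D119294)) (tt N57339 F345600) (tt N34226 F187776))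
theorem Q63515 : ∀ i, i < 63515 → P i := stepQ 63514 Q63514 (allL N63514 (tt N34235 (iv1 F187783)) (tt N34161 (iv0 D119296)) (tt N34232 F233769) (tt N66240 (iv3 F336264)) (tt N61793 (iv4 F350936)) (tt N100342 (iv5 F428495)) (tt N57288 F336278) (tt N34233 F233770))
theorem Q63516 : ∀ i, i < 63516 → P i := stepQ 63515 Q63515 (allL N63515 (tt N34161 (iv1 D119297)) (tt N34235 F187778) (tt N34233 F233766) (tt N66420 (iv3 F360175)) (tt N62054 F360178) (tt N44787 (iv5 F187779)) (tt N62053 F336276) (tt N34232 F233767))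
theorem Q63517 : ∀ i, i < 63517 → P i := stepQ 63516 Q63516 (allL N63516 (tt N34233 (iv1 F187784)) (tt N34232 F187785) (tt N34235 F187781) (tt N100354 (iv3 F428555)) (tt N98789 (iv4 F422322)) (tt N34162 F187782) (tt N100362 D203504) (tt N34161 (iv7 D119299)))
theorem Q63518 : ∀ i, i < 63518 → P i := stepQ 63517 Q63517 (allL N63517 (tt N69135 F312465) (tt N37079 F312466) (tt N46103 F187786) (tt N34165 F187787) (tt N37149 F312467) (tt N34163 (iv5 D119300)) (tt N45303 F306215) (tt N34253 F187788))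
theorem Q63519 : ∀ i, i < 63519 → P i := stepQ 63518 Q63518 (allL N63518 (tt N34168 (iv1 F187790)) (tt N34164 (iv0 D119301)) (tt N34241 (iv2 F187789)) (tt N47177 (iv3 F187792)) (tt N63610 (iv4 F188290)) (tt N97382 (iv5 F416620)) (tt N47577 (iv6 F187793)) (tt N34178 F187791))
theorem Q63520 : ∀ i, i < 63520 → P i := stepQ 63519 Q63519 (allL N63519 (tt N100363 D203505) (tt N77743 F359982) (tt N34243 F187794) (tt N88461 (iv3 F383144)) (tt N100364 D203506) (tt N34164 (iv5 D119302)) (tt N81102 (iv6 F344770)) (tt N34256 F187795))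
theorem Q63521 : ∀ i, i < 63521 → P i := stepQ 63520 Q63520 (allL N63520 (tt N47955 F332084) (tt N80915 F344893) (tt N34244 F187796) (tt N63864 (iv3 F344898)) (tt N34166 F187797) (tt N63842 F344897) (tt N34164 (iv6 D119303)) (tt N63841 (iv7 F344899)))
theorem Q63522 : ∀ i, i < 63522 → P i := stepQ 63521 Q63521 (allL N63521 (tt N64783 F355071) (tt N99846 (iv0 F426499)) (tt N34247 F187798) (tt N43485 F310221) (tt N34165 (iv4 D119304)) (tt N100365 D203507) (tt N34882 F310222) (tt N34258 F187799))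
theorem Q63523 : ∀ i, i < 63523 → P i := stepQ 63522 Q63522 (allL N63522 (tt N34249 (iv1 F187811)) (tt N34200 F187812) (tt N34251 F187807) (tt N38271 F187808) (tt N63841 F308895) (tt N38270 F187809) (tt N34260 F187810) (tt N34166 (iv7 D119307)))
theorem Q63524 : ∀ i, i < 63524 → P i := stepQ 63523 Q63523 (allL N63523 (tt N44003 F259461) (tt N74928 F337032) (tt N56131 F340855) (tt N34169 F187822) (tt N56110 (iv4 F337024)) (tt N34167 (iv5 D119310)) (tt N56142 (iv6 F340872)) (tt N34239 F187823))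
theorem Q63525 : ∀ i, i < 63525 → P i := stepQ 63524 Q63524 (allL N63524 (tt N77743 F359981) (tt N100363 F428607) (tt N34256 F187828) (tt N42879 F320678) (tt N100366 D203508) (tt N34168 (iv5 D119313)) (tt N48057 F320679) (tt N34243 F187829))
theorem Q63526 : ∀ i, i < 63526 → P i := stepQ 63525 Q63525 (allL N63525 (tt N64658 F300850) (tt N47968 F188636) (tt N34257 F187830) (tt N45594 F306125) (tt N34170 F187831) (tt N51972 F300852) (tt N34168 (iv6 D119314)) (tt N46134 F300853))
theorem Q63527 : ∀ i, i < 63527 → P i := stepQ 63526 Q63526 (allL N63526 (tt N99846 (iv1 F426500)) (tt N64783 F355072) (tt N34258 F187832) (tt N75114 (iv3 F357749)) (tt N34169 (iv4 D119315)) (tt N100367 D203509) (tt N74390 (iv6 F227702)) (tt N34247 F187833))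
theorem Q63528 : ∀ i, i < 63528 → P i := stepQ 63527 Q63527 (allL N63527 (tt N34173 (iv1 F187875)) (tt N34172 F187876) (tt N34175 F187870) (tt N34330 F187871) (tt N46178 F187872) (tt N43932 F187873) (tt N34319 F187874) (tt N34171 (iv7 D119318)))
theorem Q63529 : ∀ i, i < 63529 → P i := stepQ 63528 Q63528 (allL N63528 (tt N35349 (iv1 F190370)) (tt N35355 (iv0 F190740)) (tt N35353 (iv2 F191117)) (tt N34173 (iv3 D119325)) (tt N42520 (iv4 F187880)) (tt N73898 F346245) (tt N69638 (iv6 F310048)) (tt N35352 (iv7 F191110)))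
theorem Q63530 : ∀ i, i < 63530 → P i := stepQ 63529 Q63529 (allL N63529 (tt N43932 (iv1 F187911)) (tt N34174 (iv0 D119329)) (tt N45290 (iv2 F241361)) (tt N40970 F316945) (tt N78108 (iv4 F337210)) (tt N40034 F340102) (tt N78107 F340103) (tt N40953 F316946))
theorem Q63531 : ∀ i, i < 63531 → P i := stepQ 63530 Q63530 (allL N63530 (tt N34174 (iv1 D119330)) (tt N43932 F187903) (tt N40953 F316941) (tt N77002 (iv3 F241354)) (tt N92599 (iv4 F397570)) (tt N40033 F313495) (tt N40947 F316942) (tt N45290 (iv7 F241358)))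
theorem Q63532 : ∀ i, i < 63532 → P i := stepQ 63531 Q63531 (allL N63531 (tt N63085 F187906) (tt N75972 (iv0 F234894)) (tt N45289 F187904) (tt N64473 (iv3 F197295)) (tt N34174 (iv4 D119331)) (tt N100368 D203510) (tt N45256 F187905) (tt N75973 (iv7 F234896)))
theorem Q63533 : ∀ i, i < 63533 → P i := stepQ 63532 Q63532 (allL N63532 (tt N40953 F316940) (tt N45290 F187913) (tt N43932 F187907) (tt N34189 F187908) (tt N75973 F234897) (tt N34175 F187909) (tt N40968 (iv6 F310050)) (tt N34174 (iv7 D119332)))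
theorem Q63534 : ∀ i, i < 63534 → P i := stepQ 63533 Q63533 (allL N63533 (tt N88852 (iv1 F384349)) (tt N88475 (iv0 F383203)) (tt N47173 F187914) (tt N34177 F187915) (tt N49546 F187916) (tt N80324 (iv5 F342652)) (tt N34176 (iv6 D119333)) (tt N47992 (iv7 F187917)))
theorem Q63535 : ∀ i, i < 63535 → P i := stepQ 63534 Q63534 (allL N63534 (tt N44431 F342697) (tt N100369 D203511) (tt N47946 F187920) (tt N80324 F342644) (tt N81346 F274413) (tt N34177 (iv5 D119334)) (tt N88663 (iv6 F383779)) (tt N47993 F187921))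
theorem Q63536 : ∀ i, i < 63536 → P i := stepQ 63535 Q63535 (allL N63535 (tt N35881 F366627) (tt N97384 F416638) (tt N47944 F187922) (tt N47176 F187923) (tt N98807 F422400) (tt N34178 (iv5 D119335)) (tt N100309 (iv6 F428372)) (tt N97382 (iv7 F416622)))
theorem Q63537 : ∀ i, i < 63537 → P i := stepQ 63536 Q63536 (allL N63536 (tt N77412 F305721) (tt N36586 F305722) (tt N47188 (iv2 F188773)) (tt N34179 (iv3 D119336)) (tt N53859 F187924) (tt N81540 F354159) (tt N36567 F307774) (tt N47969 F187925))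
theorem Q63538 : ∀ i, i < 63538 → P i := stepQ 63537 Q63537 (allL N63537 (tt N100370 D203512) (tt N82141 (iv0 F348495)) (tt N47967 F187926) (tt N81540 F354158) (tt N100371 D203513) (tt N34179 (iv5 D119337)) (tt N100372 D203514) (tt N47970 F187927))
theorem Q63539 : ∀ i, i < 63539 → P i := stepQ 63538 Q63538 (allL N63538 (tt N34257 F303645) (tt N46134 F303646) (tt N47968 F187928) (tt N36567 F300847) (tt N52876 (iv4 F303647)) (tt N51902 F300848) (tt N34179 (iv6 D119338)) (tt N64658 F300849))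
theorem Q63540 : ∀ i, i < 63540 → P i := stepQ 63539 Q63539 (allL N63539 (tt N82141 F348494) (tt N100370 F428640) (tt N47970 F187930) (tt N47192 (iv3 F188771)) (tt N100373 D203515) (tt N34180 (iv5 D119340)) (tt N67633 F348506) (tt N47967 F187931))
theorem Q63541 : ∀ i, i < 63541 → P i := stepQ 63540 Q63540 (allL N63540 (tt N34181 (iv1 D119343)) (tt N47974 F187934) (tt N47972 F278197) (tt N47195 F273327) (tt N81279 (iv4 F274104)) (tt N63481 (iv5 F187935)) (tt N77748 (iv6 F350831)) (tt N47971 F278198))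
theorem Q63542 : ∀ i, i < 63542 → P i := stepQ 63541 Q63541 (allL N63541 (tt N77524 F359310) (tt N94969 (iv0 F406539)) (tt N47973 F187936) (tt N77495 (iv3 F350964)) (tt N34181 (iv4 D119344)) (tt N82000 F337720) (tt N80307 (iv6 F263393)) (tt N100374 D203516))
theorem Q63543 : ∀ i, i < 63543 → P i := stepQ 63542 Q63542 (allL N63542 (tt N47972 (iv1 F187940)) (tt N47971 F187941) (tt N47974 F187937) (tt N63779 (iv3 F314138)) (tt N100374 (iv4 F428657)) (tt N34182 F187938) (tt N79589 (iv6 F342294)) (tt N34181 (iv7 D119345)))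
theorem Q63544 : ∀ i, i < 63544 → P i := stepQ 63543 Q63543 (allL N63543 (tt N100375 D203517) (tt N100376 D203518) (tt N43933 F187976) (tt N71359 (iv3 F341404)) (tt N82002 F341402) (tt N34183 (iv5 D119352)) (tt N100377 D203519) (tt N47352 (iv7 F188455)))
theorem Q63545 : ∀ i, i < 63545 → P i := stepQ 63544 Q63544 (allL N63544 (tt N80172 (iv1 F334089)) (tt N75594 F337708) (tt N43935 F187989) (tt N80203 (iv3 F348625)) (tt N34184 (iv4 D119356)) (tt N65139 (iv5 F331711)) (tt N70067 (iv6 F334093)) (tt N47975 F187990))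
theorem Q63546 : ∀ i, i < 63546 → P i := stepQ 63545 Q63545 (allL N63545 (tt N100376 (iv1 F428667)) (tt N100375 F428664) (tt N47352 (iv2 F188454)) (tt N35318 F187993) (tt N99306 (iv4 F424025)) (tt N34185 (iv5 D119358)) (tt N71357 F330965) (tt N43933 F187994))
theorem Q63547 : ∀ i, i < 63547 → P i := stepQ 63546 Q63546 (allL N63546 (tt N82007 (iv1 F337713)) (tt N82004 F331713) (tt N43942 F188001) (tt N76543 (iv3 F259176)) (tt N34187 (iv4 D119361)) (tt N46260 F321874) (tt N47562 F337699) (tt N47977 F188002))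
theorem Q63548 : ∀ i, i < 63548 → P i := stepQ 63547 Q63547 (allL N63547 (tt N47983 (iv1 F188018)) (tt N34188 (iv0 D119365)) (tt N47979 F206155) (tt N84134 F368254) (tt N66928 (iv4 F206151)) (tt N94928 (iv5 F406368)) (tt N38636 F331679) (tt N47980 (iv7 F206154)))
theorem Q63549 : ∀ i, i < 63549 → P i := stepQ 63548 Q63548 (allL N63548 (tt N34188 (iv1 D119366)) (tt N47983 F188014) (tt N47980 (iv2 F206156)) (tt N75788 (iv3 F346401)) (tt N66929 (iv4 F278236)) (tt N94929 (iv5 F406376)) (tt N74337 F346400) (tt N47979 F206157))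
theorem Q63550 : ∀ i, i < 63550 → P i := stepQ 63549 Q63549 (allL N63549 (tt N81328 F334554) (tt N58864 F353498) (tt N96972 F414865) (tt N34188 (iv3 D119367)) (tt N64473 (iv4 F197296)) (tt N100378 D203520) (tt N63852 (iv6 F189843)) (tt N81318 F334571))
theorem Q63551 : ∀ i, i < 63551 → P i := stepQ 63550 Q63550 (allL N63550 (tt N100379 D203521) (tt N100380 D203522) (tt N47982 F188015) (tt N100378 (iv3 F428677)) (tt N81999 F337715) (tt N34188 (iv5 D119368)) (tt N80742 (iv6 F363229)) (tt N100381 D203523))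
theorem Q63552 : ∀ i, i < 63552 → P i := stepQ 63551 Q63551 (allL N63551 (tt N47980 (iv1 F188019)) (tt N47979 F188020) (tt N47983 F188016) (tt N81318 (iv3 F353500)) (tt N34189 F188017) (tt N100381 (iv5 F428702)) (tt N81316 F353502) (tt N34188 (iv7 D119369)))
theorem Q63553 : ∀ i, i < 63553 → P i := stepQ 63552 Q63552 (allL N63552 (tt N47109 (iv1 F188032)) (tt N34190 (iv0 D119371)) (tt N46912 (iv2 F188027)) (tt N47105 F188028) (tt N47721 F188029) (tt N45912 F330710) (tt N45914 F330711) (tt N47110 F188030))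
theorem Q63554 : ∀ i, i < 63554 → P i := stepQ 63553 Q63553 (allL N63553 (tt N46272 F330769) (tt N47118 (iv0 F188034)) (tt N46464 F318807) (tt N34194 F188033) (tt N95774 (iv4 F409576)) (tt N34190 (iv5 D119372)) (tt N46341 F330835) (tt N79330 F318808))
theorem Q63555 : ∀ i, i < 63555 → P i := stepQ 63554 Q63554 (allL N63554 (tt N47110 (iv1 F188039)) (tt N46912 F188040) (tt N47109 F188035) (tt N34195 F188036) (tt N43997 F188037) (tt N79330 (iv5 F350673)) (tt N47208 F188038) (tt N34190 (iv7 D119373)))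
theorem Q63556 : ∀ i, i < 63556 → P i := stepQ 63555 Q63555 (allL N63555 (tt N47950 (iv1 F188046)) (tt N34191 (iv0 D119374)) (tt N47948 F317453) (tt N38076 (iv3 F315217)) (tt N80454 (iv4 F267788)) (tt N35896 F333671) (tt N75212 F333672) (tt N47949 F317454))
theorem Q63557 : ∀ i, i < 63557 → P i := stepQ 63556 Q63556 (allL N63556 (tt N60004 F350918) (tt N34753 F337592) (tt N45859 F320249) (tt N46341 F330832) (tt N58760 F332178) (tt N34191 (iv5 D119376)) (tt N34194 F188043) (tt N95775 (iv7 F409587)))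
theorem Q63558 : ∀ i, i < 63558 → P i := stepQ 63557 Q63557 (allL N63557 (tt N47949 (iv1 F188047)) (tt N47948 F188048) (tt N47950 F188044) (tt N42516 F312730) (tt N44520 F312731) (tt N95775 (iv5 F409586)) (tt N47965 F188045) (tt N34191 (iv7 D119377)))
theorem Q63559 : ∀ i, i < 63559 → P i := stepQ 63558 Q63558 (allL N63558 (tt N46909 F188059) (tt N46904 (iv0 F271474)) (tt N46906 F191349) (tt N34192 (iv3 D119378)) (tt N43964 F188055) (tt N79760 F344717) (tt N47587 (iv6 F243934)) (tt N46907 (iv7 F191348)))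
theorem Q63560 : ∀ i, i < 63560 → P i := stepQ 63559 Q63559 (allL N63559 (tt N47987 (iv1 F278302)) (tt N48016 F278303) (tt N47953 F188067) (tt N47587 F243935) (tt N81264 (iv4 F274030)) (tt N34669 F327556) (tt N34192 (iv6 D119381)) (tt N48014 (iv7 F278062)))
theorem Q63561 : ∀ i, i < 63561 → P i := stepQ 63560 Q63560 (allL N63560 (tt N54238 (iv1 F351754)) (tt N54335 (iv0 F351747)) (tt N45687 F334399) (tt N34193 (iv3 D119382)) (tt N53374 (iv4 F321040)) (tt N78565 F334400) (tt N45679 F334401) (tt N47951 F188069))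
theorem Q63562 : ∀ i, i < 63562 → P i := stepQ 63561 Q63561 (allL N63561 (tt N63841 F346710) (tt N34244 (iv0 F188074)) (tt N47955 F188072) (tt N45679 F344894) (tt N63105 F188073) (tt N45678 F344895) (tt N34193 (iv6 D119384)) (tt N80915 F344896))
theorem Q63563 : ∀ i, i < 63563 → P i := stepQ 63562 Q63562 (allL N63562 (tt N60374 F326676) (tt N57289 F326677) (tt N35886 F326678) (tt N35272 F188087) (tt N35878 F326679) (tt N34196 (iv5 D119391)) (tt N35901 F326680) (tt N35889 F326681))
theorem Q63564 : ∀ i, i < 63564 → P i := stepQ 63563 Q63563 (allL N63563 (tt N34199 (iv1 F188091)) (tt N34197 (iv0 D119392)) (tt N43984 (iv2 F188090)) (tt N45244 F305466) (tt N66374 (iv4 F324080)) (tt N43148 F188089) (tt N63048 (iv6 F188093)) (tt N43983 F188092))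
theorem Q63565 : ∀ i, i < 63565 → P i := stepQ 63564 Q63564 (allL N63564 (tt N66371 F358082) (tt N66368 (iv0 F331948)) (tt N47957 F188098) (tt N57702 F309186) (tt N34197 (iv4 D119393)) (tt N94112 (iv5 F403264)) (tt N40040 F309187) (tt N43985 F188099))
theorem Q63566 : ∀ i, i < 63566 → P i := stepQ 63565 Q63565 (allL N63565 (tt N46766 F318964) (tt N46966 (iv0 F321092)) (tt N46918 F188116) (tt N34198 (iv3 D119397)) (tt N43717 (iv4 F191103)) (tt N96883 F414436) (tt N80945 (iv6 F335274)) (tt N46964 F333749))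
theorem Q63567 : ∀ i, i < 63567 → P i := stepQ 63566 Q63566 (allL N63566 (tt N57289 F326685) (tt N60374 F326686) (tt N35889 F326687) (tt N96883 (iv3 F414431)) (tt N35879 F326688) (tt N34198 (iv5 D119398)) (tt N74251 F326689) (tt N35886 F326690))
theorem Q63568 : ∀ i, i < 63568 → P i := stepQ 63567 Q63567 (allL N63567 (tt N66958 F303614) (tt N34227 F188492) (tt N43982 F188122) (tt N80945 (iv3 F335267)) (tt N34200 F188123) (tt N63866 (iv5 F332069)) (tt N34198 (iv6 D119399)) (tt N66959 F303615))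
theorem Q63569 : ∀ i, i < 63569 → P i := stepQ 63568 Q63568 (allL N63568 (tt N34445 F188129) (tt N34443 (iv0 F188130)) (tt N43986 F188127) (tt N43720 F190827) (tt N63861 (iv4 F314482)) (tt N34200 (iv5 D119401)) (tt N44045 F188128) (tt N90251 (iv7 F389113)))
theorem Q63570 : ∀ i, i < 63570 → P i := stepQ 63569 Q63569 (allL N63569 (tt N46550 F188134) (tt N47063 F188135) (tt N47328 F188131) (tt N57421 F302788) (tt N34201 (iv4 D119402)) (tt N43443 F302789) (tt N65223 F302790) (tt N47300 F188132))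
theorem Q63571 : ∀ i, i < 63571 → P i := stepQ 63570 Q63570 (allL N63570 (tt N37190 F315333) (tt N47364 F307085) (tt N47329 F188136) (tt N37147 F304926) (tt N65223 (iv4 F357831)) (tt N100382 D203524) (tt N34201 (iv6 D119403)) (tt N47395 (iv7 F308925)))
theorem Q63572 : ∀ i, i < 63572 → P i := stepQ 63571 Q63571 (allL N63571 (tt N46968 F188142) (tt N46764 (iv0 F188143)) (tt N46368 F188138) (tt N34202 (iv3 D119404)) (tt N46899 F188139) (tt N46901 F188140) (tt N66941 (iv6 F362757)) (tt N46967 F188141))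
theorem Q63573 : ∀ i, i < 63573 → P i := stepQ 63572 Q63572 (allL N63572 (tt N46387 (iv1 F254843)) (tt N79367 F254847) (tt N43305 F188155) (tt N34206 F188156) (tt N69302 F351968) (tt N67057 (iv5 F364918)) (tt N34204 (iv6 D119409)) (tt N79366 (iv7 F254840)))
theorem Q63574 : ∀ i, i < 63574 → P i := stepQ 63573 Q63573 (allL N63573 (tt N82062 (iv1 F278232)) (tt N42573 F206165) (tt N36523 F188161) (tt N42626 F188162) (tt N82004 F331708) (tt N34205 (iv5 D119416)) (tt N42494 F188163) (tt N100383 D203525))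
theorem Q63575 : ∀ i, i < 63575 → P i := stepQ 63574 Q63574 (allL N63574 (tt N36522 (iv1 F188168)) (tt N36521 F188169) (tt N36524 F188164) (tt N63263 (iv3 F307087)) (tt N34208 F188165) (tt N100383 (iv5 F428716)) (tt N47336 F188166) (tt N34205 (iv7 D119417)))
theorem Q63576 : ∀ i, i < 63576 → P i := stepQ 63575 Q63575 (allL N63575 (tt N47351 (iv1 F188177)) (tt N34206 (iv0 D119418)) (tt N37596 (iv2 F313539)) (tt N71613 F333406) (tt N42505 F312052) (tt N71612 (iv5 F333407)) (tt N37566 F312053) (tt N47349 (iv7 F188175)))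
theorem Q63577 : ∀ i, i < 63577 → P i := stepQ 63576 Q63576 (allL N63576 (tt N34206 (iv1 D119419)) (tt N47351 F188170) (tt N47349 F188176) (tt N46955 F188171) (tt N52368 F188172) (tt N100384 D203526) (tt N100385 D203527) (tt N37596 (iv7 F313540)))
theorem Q63578 : ∀ i, i < 63578 → P i := stepQ 63577 Q63577 (allL N63577 (tt N100386 D203528) (tt N100387 D203529) (tt N47350 F188178) (tt N67057 (iv3 F364917)) (tt N93959 (iv4 F402605)) (tt N34206 (iv5 D119420)) (tt N34207 F188179) (tt N100388 D203530))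
theorem Q63579 : ∀ i, i < 63579 → P i := stepQ 63578 Q63578 (allL N63578 (tt N47349 (iv1 F188182)) (tt N37596 (iv0 F313537)) (tt N47351 F188180) (tt N79366 F254842) (tt N37588 F312054) (tt N100388 (iv5 F428743)) (tt N47340 F188181) (tt N34206 (iv7 D119421)))
theorem Q63580 : ∀ i, i < 63580 → P i := stepQ 63579 Q63579 (allL N63579 (tt N47356 (iv1 F188190)) (tt N34207 (iv0 D119432)) (tt N47319 (iv2 F188485)) (tt N100389 D203531) (tt N77524 F359308) (tt N78219 (iv5 F359309)) (tt N77522 (iv6 F359335)) (tt N47354 (iv7 F243746)))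
theorem Q63581 : ∀ i, i < 63581 → P i := stepQ 63580 Q63580 (allL N63580 (tt N34207 (iv1 D119433)) (tt N47356 F188186) (tt N47354 F243747) (tt N46959 F188395) (tt N94969 (iv4 F406537)) (tt N63376 (iv5 F188394)) (tt N100390 D203532) (tt N47319 (iv7 F188484)))
theorem Q63582 : ∀ i, i < 63582 → P i := stepQ 63581 Q63581 (allL N63581 (tt N82052 (iv1 F278208)) (tt N82055 (iv0 F278191)) (tt N47355 F188187) (tt N93961 (iv3 F402612)) (tt N34207 (iv4 D119434)) (tt N82006 (iv5 F337711)) (tt N93959 (iv6 F402603)) (tt N100391 D203533))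
theorem Q63583 : ∀ i, i < 63583 → P i := stepQ 63582 Q63582 (allL N63582 (tt N47354 (iv1 F188191)) (tt N47319 (iv0 F243743)) (tt N47356 F188188) (tt N66922 (iv3 F364909)) (tt N100391 (iv4 F428759)) (tt N34208 F188189) (tt N95770 (iv6 F409557)) (tt N34207 (iv7 D119435)))
theorem Q63584 : ∀ i, i < 63584 → P i := stepQ 63583 Q63583 (allL N63583 (tt N46761 F188197) (tt N37608 F307270) (tt N46106 F188193) (tt N34209 (iv3 D119436)) (tt N45306 F188194) (tt N54295 F188195) (tt N100392 D203534) (tt N46109 F188196))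
theorem Q63585 : ∀ i, i < 63585 → P i := stepQ 63584 Q63584 (allL N63584 (tt N66935 F314816) (tt N34228 F314817) (tt N47256 F188199) (tt N100392 (iv3 F428763)) (tt N46926 F314818) (tt N66238 (iv5 F331900)) (tt N34209 (iv6 D119437)) (tt N66429 F331899))
theorem Q63586 : ∀ i, i < 63586 → P i := stepQ 63585 Q63585 (allL N63585 (tt N47361 F319364) (tt N47404 F319365) (tt N47345 F188201) (tt N46948 F188202) (tt N47039 F188203) (tt N99848 (iv5 F426509)) (tt N34210 (iv6 D119438)) (tt N47403 F319366))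
theorem Q63587 : ∀ i, i < 63587 → P i := stepQ 63586 Q63586 (allL N63586 (tt N80942 F272565) (tt N80943 (iv0 F272567)) (tt N77594 (iv2 F243919)) (tt N36509 F188204) (tt N34212 F188205) (tt N89738 (iv5 F387373)) (tt N34211 (iv6 D119439)) (tt N79509 (iv7 F257001)))
theorem Q63588 : ∀ i, i < 63588 → P i := stepQ 63587 Q63587 (allL N63587 (tt N67046 (iv1 F307717)) (tt N34212 (iv0 D119440)) (tt N47274 F273676) (tt N62552 F333754) (tt N47041 F272371) (tt N100393 D203535) (tt N75612 (iv6 F364608)) (tt N80002 F273677))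
theorem Q63589 : ∀ i, i < 63589 → P i := stepQ 63588 Q63588 (allL N63588 (tt N34212 (iv1 D119441)) (tt N67046 (iv0 F307716)) (tt N80002 F273678) (tt N47266 F273679) (tt N47042 F273680) (tt N88508 (iv5 F383318)) (tt N47084 F323008) (tt N47274 F273681))
theorem Q63590 : ∀ i, i < 63590 → P i := stepQ 63589 Q63589 (allL N63589 (tt N70104 (iv1 F361532)) (tt N76648 (iv0 F348192)) (tt N80003 (iv2 F259373)) (tt N34215 F188206) (tt N96410 (iv4 F412392)) (tt N34212 (iv5 D119442)) (tt N43297 F188207) (tt N95836 (iv7 F409869)))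
theorem Q63591 : ∀ i, i < 63591 → P i := stepQ 63590 Q63590 (allL N63590 (tt N80002 (iv1 F259370)) (tt N47274 (iv0 F272356)) (tt N67046 (iv2 F307718)) (tt N34216 F188208) (tt N79509 (iv4 F256999)) (tt N95836 (iv5 F409868)) (tt N47348 F188209) (tt N34212 (iv7 D119443)))
theorem Q63592 : ∀ i, i < 63592 → P i := stepQ 63591 Q63591 (allL N63591 (tt N60017 (iv1 F337613)) (tt N95763 (iv0 F409524)) (tt N47339 F188221) (tt N43297 F188222) (tt N59673 F361363) (tt N34214 (iv5 D119449)) (tt N34215 F188223) (tt N95288 (iv7 F407739)))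
theorem Q63593 : ∀ i, i < 63593 → P i := stepQ 63592 Q63592 (allL N63592 (tt N47289 (iv1 F188230)) (tt N47338 F188234) (tt N47340 F188224) (tt N43298 F188225) (tt N57485 (iv4 F309212)) (tt N95288 (iv5 F407737)) (tt N47351 F188226) (tt N34214 (iv7 D119450)))
theorem Q63594 : ∀ i, i < 63594 → P i := stepQ 63593 Q63593 (allL N63593 (tt N52793 F188247) (tt N66932 F206169) (tt N43428 F188244) (tt N45409 F188245) (tt N34217 (iv4 D119465)) (tt N64049 (iv5 F192390)) (tt N47305 F303709) (tt N47372 F188246))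
theorem Q63595 : ∀ i, i < 63595 → P i := stepQ 63594 Q63594 (allL N63594 (tt N47168 F303173) (tt N47163 F303174) (tt N47165 F305075) (tt N34218 F188249) (tt N47305 F303175) (tt N64704 F342719) (tt N34217 (iv6 D119466)) (tt N47166 F305076))
theorem Q63596 : ∀ i, i < 63596 → P i := stepQ 63595 Q63595 (allL N63595 (tt N41446 F311007) (tt N34218 (iv0 D119467)) (tt N47377 (iv2 F188254)) (tt N54297 (iv3 F343398)) (tt N46525 (iv4 F267245)) (tt N100394 D203536) (tt N77609 F359257) (tt N47378 (iv7 F188255)))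
theorem Q63597 : ∀ i, i < 63597 → P i := stepQ 63596 Q63596 (allL N63596 (tt N34218 (iv1 D119468)) (tt N41446 F311006) (tt N47378 F188256) (tt N44761 F188251) (tt N46526 F188252) (tt N100395 D203537) (tt N47262 F302281) (tt N47377 (iv7 F188253)))
theorem Q63598 : ∀ i, i < 63598 → P i := stepQ 63597 Q63597 (allL N63597 (tt N96962 (iv1 F414810)) (tt N58851 (iv0 F361284)) (tt N47379 F188258) (tt N64704 (iv3 F342720)) (tt N52499 (iv4 F335524)) (tt N34218 (iv5 D119469)) (tt N44773 F188259) (tt N96961 (iv7 F414799)))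
theorem Q63599 : ∀ i, i < 63599 → P i := stepQ 63598 Q63598 (allL N63598 (tt N47378 (iv1 F188262)) (tt N47377 F188263) (tt N41446 (iv2 F308843)) (tt N47166 F305081) (tt N37504 F307018) (tt N96961 (iv5 F414800)) (tt N37503 (iv6 F308844)) (tt N34218 (iv7 D119470)))
theorem Q63600 : ∀ i, i < 63600 → P i := stepQ 63599 Q63599 (allL N63599 (tt N34219 (iv1 D119476)) (tt N47738 F316598) (tt N45603 F316599) (tt N47747 F316600) (tt N45602 F316601) (tt N65267 F347177) (tt N75824 (iv6 F347176)) (tt N47739 F316602))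
theorem Q63601 : ∀ i, i < 63601 → P i := stepQ 63600 Q63600 (allL N63600 (tt N43528 F347174) (tt N100396 D203538) (tt N87899 (iv2 F381018)) (tt N53334 F188274) (tt N100116 (iv4 F427545)) (tt N34219 (iv5 D119477)) (tt N95521 (iv6 F408466)) (tt N100279 (iv7 F428230)))
theorem Q63602 : ∀ i, i < 63602 → P i := stepQ 63601 Q63601 (allL N63601 (tt N45603 F314160) (tt N47739 F314161) (tt N47738 F316604) (tt N41013 F332494) (tt N34223 F188276) (tt N100279 (iv5 F428228)) (tt N47384 F188277) (tt N34219 (iv7 D119478)))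
theorem Q63603 : ∀ i, i < 63603 → P i := stepQ 63602 Q63602 (allL N63602 (tt N59885 (iv1 F336288)) (tt N76561 (iv0 F336287)) (tt N66363 (iv2 F336284)) (tt N34220 (iv3 D119480)) (tt N73341 (iv4 F336285)) (tt N66359 F336283) (tt N68032 (iv6 F346966)) (tt N77613 (iv7 F336286)))
theorem Q63604 : ∀ i, i < 63604 → P i := stepQ 63603 Q63603 (allL N63603 (tt N68458 F344032) (tt N100397 D203539) (tt N77611 F344086) (tt N68032 F346967) (tt N36365 F344033) (tt N68030 (iv5 F347044)) (tt N34220 (iv6 D119483)) (tt N69642 F344034))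
theorem Q63605 : ∀ i, i < 63605 → P i := stepQ 63604 Q63604 (allL N63604 (tt N79394 F350938) (tt N77609 (iv0 F344057)) (tt N76074 F344036) (tt N54304 (iv3 F344059)) (tt N42478 F344037) (tt N100398 D203540) (tt N34221 (iv6 D119488)) (tt N54307 (iv7 F344066)))
theorem Q63606 : ∀ i, i < 63606 → P i := stepQ 63605 Q63605 (allL N63605 (tt N100356 (iv1 F428569)) (tt N34222 (iv0 D119489)) (tt N94475 (iv2 F404631)) (tt N69316 F343413) (tt N100399 D203541) (tt N37610 F343414) (tt N100400 D203542) (tt N100355 (iv7 F428560)))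
theorem Q63607 : ∀ i, i < 63607 → P i := stepQ 63606 Q63606 (allL N63606 (tt N34222 (iv1 D119490)) (tt N100356 F428568) (tt N100355 F428562) (tt N66035 (iv3 F332520)) (tt N100401 D203543) (tt N77617 (iv5 F286771)) (tt N97071 (iv6 F415324)) (tt N94475 (iv7 F404634)))
theorem Q63608 : ∀ i, i < 63608 → P i := stepQ 63607 Q63607 (allL N63607 (tt N98777 (iv1 F422279)) (tt N100402 D203544) (tt N99133 (iv2 F423422)) (tt N90932 (iv3 F391295)) (tt N34222 (iv4 D119491)) (tt N100403 D203545) (tt N34234 F188280) (tt N100404 D203546))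
theorem Q63609 : ∀ i, i < 63609 → P i := stepQ 63608 Q63608 (allL N63608 (tt N100355 (iv1 F428559)) (tt N94475 (iv0 F404637)) (tt N100356 (iv2 F428565)) (tt N47482 F188281) (tt N100404 (iv4 F428820)) (tt N34223 F188282) (tt N100405 D203547) (tt N34222 (iv7 D119492)))
theorem Q63610 : ∀ i, i < 63610 → P i := stepQ 63609 Q63609 (allL N63609 (tt N66943 F306335) (tt N66942 F306336) (tt N66945 F306337) (tt N34226 F188288) (tt N86253 (iv4 F375590)) (tt N34224 (iv5 D119497)) (tt N100406 D203548) (tt N66907 F306338))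
theorem Q63611 : ∀ i, i < 63611 → P i := stepQ 63610 Q63610 (allL N63610 (tt N34229 (iv1 F188292)) (tt N34225 (iv0 D119499)) (tt N36595 (iv2 F188291)) (tt N49040 F310868) (tt N63518 F188290) (tt N99924 (iv5 F426837)) (tt N47397 (iv6 F188294)) (tt N36418 F188293))
theorem Q63612 : ∀ i, i < 63612 → P i := stepQ 63611 Q63611 (allL N63611 (tt N100407 D203549) (tt N92609 (iv0 F397639)) (tt N36596 F188301) (tt N51490 F318170) (tt N51495 F318171) (tt N34225 (iv5 D119501)) (tt N47706 F318172) (tt N100361 (iv7 F428596)))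
theorem Q63613 : ∀ i, i < 63613 → P i := stepQ 63612 Q63612 (allL N63612 (tt N82042 F332049) (tt N92610 (iv0 F397646)) (tt N36597 F188302) (tt N63725 (iv3 F307439)) (tt N34227 F188303) (tt N52383 (iv5 F310083)) (tt N34225 (iv6 D119502)) (tt N66955 (iv7 F335259)))
theorem Q63614 : ∀ i, i < 63614 → P i := stepQ 63613 Q63613 (allL N63613 (tt N34230 (iv1 F188313)) (tt N34226 (iv0 D119503)) (tt N76881 (iv2 F240160)) (tt N100408 D203550) (tt N100409 D203551) (tt N63488 F188304) (tt N97375 (iv6 F416588)) (tt N100358 (iv7 F428579)))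
theorem Q63615 : ∀ i, i < 63615 → P i := stepQ 63614 Q63614 (allL N63614 (tt N34226 (iv1 D119504)) (tt N34230 F188486) (tt N100358 (iv2 F428581)) (tt N47543 F233268) (tt N100410 D203552) (tt N75638 (iv5 F233265)) (tt N66314 F347036) (tt N76881 (iv7 F240162)))
theorem Q63616 : ∀ i, i < 63616 → P i := stepQ 63615 Q63615 (allL N63615 (tt N99260 F428612) (tt N100411 D203553) (tt N100359 (iv2 F428582)) (tt N100412 D203554) (tt N34226 (iv4 D119505)) (tt N99928 (iv5 F426861)) (tt N100413 D203555) (tt N99273 F423897))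
theorem Q63617 : ∀ i, i < 63617 → P i := stepQ 63616 Q63616 (allL N63616 (tt N66307 F336280) (tt N100414 D203556) (tt N100360 (iv2 F428587)) (tt N100406 (iv3 F428830)) (tt N100413 (iv4 F428860)) (tt N100415 D203557) (tt N34226 (iv6 D119506)) (tt N100416 D203558))
theorem Q63618 : ∀ i, i < 63618 → P i := stepQ 63617 Q63617 (allL N63617 (tt N34227 (iv1 D119508)) (tt N66958 F302560) (tt N66959 F302561) (tt N45413 F302562) (tt N34249 F188488) (tt N63862 F346712) (tt N47412 (iv6 F201140)) (tt N43982 (iv7 F188491)))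
theorem Q63619 : ∀ i, i < 63619 → P i := stepQ 63618 Q63618 (allL N63618 (tt N63429 F188487) (tt N63844 (iv0 F319077)) (tt N63859 (iv2 F191407)) (tt N66969 F335243) (tt N75822 F335244) (tt N34227 (iv5 D119509)) (tt N100415 (iv6 F428868)) (tt N63242 (iv7 F335245)))
theorem Q63620 : ∀ i, i < 63620 → P i := stepQ 63619 Q63619 (allL N63619 (tt N34228 (iv1 D119512)) (tt N66935 F304140) (tt N66429 F331898) (tt N47261 F331857) (tt N46927 F304141) (tt N57067 (iv5 F348185)) (tt N47403 F331858) (tt N47256 F331859))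
theorem Q63621 : ∀ i, i < 63621 → P i := stepQ 63620 Q63620 (allL N63620 (tt N92609 F397640) (tt N100407 F428838) (tt N100361 (iv2 F428593)) (tt N36520 F188497) (tt N99929 (iv4 F426866)) (tt N34229 (iv5 D119517)) (tt N74402 (iv6 F227765)) (tt N36596 F188498))
theorem Q63622 : ∀ i, i < 63622 → P i := stepQ 63621 Q63621 (allL N63621 (tt N100411 (iv1 F428855)) (tt N99260 F428611) (tt N99273 (iv2 F423894)) (tt N57319 (iv3 F345602)) (tt N34230 (iv4 D119519)) (tt N99926 (iv5 F426851)) (tt N57318 F345601) (tt N100359 (iv7 F428584)))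
theorem Q63623 : ∀ i, i < 63623 → P i := stepQ 63622 Q63622 (allL N63622 (tt N66423 F360170) (tt N66422 F360172) (tt N66424 (iv2 F360174)) (tt N34232 (iv3 D119526)) (tt N86372 (iv4 F375986)) (tt N68021 (iv5 F360171)) (tt N60372 F360177) (tt N66420 F360173))
theorem Q63624 : ∀ i, i < 63624 → P i := stepQ 63623 Q63623 (allL N63623 (tt N99954 (iv1 F426939)) (tt N43397 F188504) (tt N100342 F428498) (tt N68021 F360176) (tt N99925 (iv4 F426845)) (tt N34232 (iv5 D119528)) (tt N60373 (iv6 F323469)) (tt N44787 F233768))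
theorem Q63625 : ∀ i, i < 63625 → P i := stepQ 63624 Q63624 (allL N63624 (tt N43397 F233875) (tt N99954 (iv0 F426938)) (tt N44787 (iv2 F233765)) (tt N66239 F348188) (tt N75775 (iv4 F233872)) (tt N34233 (iv5 D119533)) (tt N44778 F188510) (tt N100342 (iv7 F428500)))
theorem Q63626 : ∀ i, i < 63626 → P i := stepQ 63625 Q63625 (allL N63625 (tt N99932 (iv1 F426878)) (tt N99931 F426876) (tt N99132 (iv2 F423419)) (tt N90931 (iv3 F391294)) (tt N99868 (iv4 F426611)) (tt N34234 (iv5 D119538)) (tt N100417 D203559) (tt N99130 (iv7 F423414)))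
theorem Q63627 : ∀ i, i < 63627 → P i := stepQ 63626 Q63626 (allL N63626 (tt N100418 D203560) (tt N57365 (iv0 F355514)) (tt N100362 (iv2 F428600)) (tt N47540 F188513) (tt N99131 (iv4 F423416)) (tt N47428 F188514) (tt N34235 (iv6 D119540)) (tt N100405 (iv7 F428825)))
theorem Q63628 : ∀ i, i < 63628 → P i := stepQ 63627 Q63627 (allL N63627 (tt N74928 F337027) (tt N44003 F259460) (tt N34239 F188520) (tt N46103 F188521) (tt N55181 (iv4 F337023)) (tt N34237 (iv5 D119544)) (tt N55180 F337025) (tt N56131 F337026))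
theorem Q63629 : ∀ i, i < 63629 → P i := stepQ 63628 Q63628 (allL N63628 (tt N47942 (iv1 F232781)) (tt N44010 F232964) (tt N34240 F188522) (tt N38274 F188523) (tt N56129 F188524) (tt N38273 (iv5 F188525)) (tt N34237 (iv6 D119545)) (tt N68356 (iv7 F209935)))
theorem Q63630 : ∀ i, i < 63630 → P i := stepQ 63629 Q63629 (allL N63629 (tt N56131 F340845) (tt N34239 (iv0 D119549)) (tt N74928 F340846) (tt N34351 F233208) (tt N45224 F340847) (tt N63334 F233209) (tt N45223 F340848) (tt N44003 F233210))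
theorem Q63631 : ∀ i, i < 63631 → P i := stepQ 63630 Q63630 (allL N63630 (tt N34239 (iv1 D119550)) (tt N56131 (iv0 F340858)) (tt N44003 F250248) (tt N43848 F250249) (tt N74931 F340860) (tt N69662 (iv5 F313525)) (tt N76445 (iv6 F323404)) (tt N74928 (iv7 F340861)))
theorem Q63632 : ∀ i, i < 63632 → P i := stepQ 63631 Q63631 (allL N63631 (tt N68356 (iv1 F209937)) (tt N34240 (iv0 D119553)) (tt N47942 F238281) (tt N34310 F305976) (tt N43992 F305977) (tt N43749 F307712) (tt N34315 F238284) (tt N44010 F238285))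
theorem Q63633 : ∀ i, i < 63633 → P i := stepQ 63632 Q63632 (allL N63632 (tt N34240 (iv1 D119554)) (tt N68356 F209936) (tt N44010 (iv2 F238286)) (tt N87917 F381109) (tt N73621 (iv4 F335224)) (tt N76447 (iv5 F307795)) (tt N69640 (iv6 F342588)) (tt N47942 (iv7 F238287)))
theorem Q63634 : ∀ i, i < 63634 → P i := stepQ 63633 Q63633 (allL N63633 (tt N44010 (iv1 F232965)) (tt N47942 (iv0 F232780)) (tt N68356 (iv2 F209933)) (tt N34251 F188537) (tt N52247 F304092) (tt N63843 (iv5 F189792)) (tt N43907 F304093) (tt N34240 (iv7 D119556)))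
theorem Q63635 : ∀ i, i < 63635 → P i := stepQ 63634 Q63634 (allL N63634 (tt N54242 (iv1 F188542)) (tt N54241 F188543) (tt N54244 (iv2 F188541)) (tt N34241 (iv3 D119557)) (tt N54237 F188538) (tt N100419 D203561) (tt N47992 F188539) (tt N47943 F188540))
theorem Q63636 : ∀ i, i < 63636 → P i := stepQ 63635 Q63635 (allL N63635 (tt N97384 (iv1 F416639)) (tt N35881 F347853) (tt N97382 F416621) (tt N100419 (iv3 F428884)) (tt N98806 (iv4 F422394)) (tt N34241 (iv5 D119558)) (tt N82218 (iv6 F347854)) (tt N47944 F188544))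
theorem Q63637 : ∀ i, i < 63637 → P i := stepQ 63636 Q63636 (allL N63636 (tt N42880 F320681) (tt N34391 F320682) (tt N42878 F320683) (tt N34243 F188545) (tt N34364 F320684) (tt N34242 (iv5 D119562)) (tt N70113 (iv6 F341139)) (tt N42879 F320685))
theorem Q63638 : ∀ i, i < 63638 → P i := stepQ 63637 Q63637 (allL N63637 (tt N34256 (iv1 F188548)) (tt N34243 (iv0 D119564)) (tt N100363 F428606) (tt N100420 D203562) (tt N100421 D203563) (tt N63484 F188547) (tt N58812 (iv6 F409511)) (tt N77743 F359353))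
theorem Q63639 : ∀ i, i < 63639 → P i := stepQ 63638 Q63638 (allL N63638 (tt N34243 (iv1 D119565)) (tt N34256 F188549) (tt N77743 F359351) (tt N54921 F359352) (tt N100422 D203564) (tt N69053 (iv5 F317292)) (tt N54928 (iv6 F353040)) (tt N100363 (iv7 F428608)))
theorem Q63640 : ∀ i, i < 63640 → P i := stepQ 63639 Q63639 (allL N63639 (tt N100409 (iv1 F428847)) (tt N100410 (iv0 F428853)) (tt N100364 (iv2 F428613)) (tt N43347 F366383) (tt N34243 (iv4 D119566)) (tt N99932 (iv5 F426881)) (tt N100423 D203565) (tt N100366 (iv7 F428623)))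
theorem Q63641 : ∀ i, i < 63641 → P i := stepQ 63640 Q63640 (allL N63640 (tt N80800 F341161) (tt N66915 F341162) (tt N81102 F344769) (tt N70113 F341159) (tt N100423 (iv4 F428908)) (tt N70111 (iv5 F341160)) (tt N34243 (iv6 D119567)) (tt N81103 (iv7 F344768)))
theorem Q63642 : ∀ i, i < 63642 → P i := stepQ 63641 Q63641 (allL N63641 (tt N34244 (iv1 D119568)) (tt N63841 (iv0 F332067)) (tt N80915 (iv2 F332062)) (tt N66971 (iv3 F332063)) (tt N67041 (iv4 F206402)) (tt N66970 F332061) (tt N48014 F278064) (tt N47955 F188550))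
theorem Q63643 : ∀ i, i < 63643 → P i := stepQ 63642 Q63642 (allL N63642 (tt N80915 F344892) (tt N47955 F332050) (tt N63841 F316912) (tt N38919 F316913) (tt N34251 F188552) (tt N38918 F316914) (tt N46134 F304094) (tt N34244 (iv7 D119570)))
theorem Q63644 : ∀ i, i < 63644 → P i := stepQ 63643 Q63643 (allL N63643 (tt N99929 (iv1 F426868)) (tt N51495 (iv0 F364732)) (tt N44014 F188558) (tt N77136 F355104) (tt N34245 (iv4 D119572)) (tt N100424 D203566) (tt N100425 D203567) (tt N99847 (iv7 F426508)))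
theorem Q63645 : ∀ i, i < 63645 → P i := stepQ 63644 Q63644 (allL N63644 (tt N40821 (iv1 F318480)) (tt N40820 (iv0 F318479)) (tt N40823 F318113) (tt N43831 F190205) (tt N100425 (iv4 F428916)) (tt N40789 (iv5 F319193)) (tt N34245 (iv6 D119573)) (tt N40788 (iv7 F318482)))
theorem Q63646 : ∀ i, i < 63646 → P i := stepQ 63645 Q63645 (allL N63645 (tt N51495 F333316) (tt N99929 F426869) (tt N99847 (iv2 F426502)) (tt N100426 D203568) (tt N34246 (iv4 D119574)) (tt N100427 D203569) (tt N41937 F188561) (tt N44014 F188562))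
theorem Q63647 : ∀ i, i < 63647 → P i := stepQ 63646 Q63646 (allL N63646 (tt N34258 (iv1 F188563)) (tt N34247 (iv0 D119575)) (tt N64783 (iv2 F364974)) (tt N64173 (iv3 F398326)) (tt N67038 (iv4 F206396)) (tt N100428 D203570) (tt N100429 D203571) (tt N99846 (iv7 F426501)))
theorem Q63648 : ∀ i, i < 63648 → P i := stepQ 63647 Q63647 (allL N63647 (tt N34247 (iv1 D119576)) (tt N34258 F188564) (tt N99846 (iv2 F426497)) (tt N38563 F331659) (tt N67039 F331658) (tt N100430 D203572) (tt N38553 F331660) (tt N64783 (iv7 F364972)))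
theorem Q63649 : ∀ i, i < 63649 → P i := stepQ 63648 Q63648 (allL N63648 (tt N62753 F357747) (tt N75117 (iv0 F357748)) (tt N75115 (iv2 F357742)) (tt N34247 (iv3 D119577)) (tt N74817 (iv4 F357745)) (tt N100431 D203573) (tt N89421 (iv6 F386441)) (tt N75114 F357746))
theorem Q63650 : ∀ i, i < 63650 → P i := stepQ 63649 Q63649 (allL N63649 (tt N99947 (iv1 F426916)) (tt N99876 (iv0 F426644)) (tt N100365 (iv2 F428616)) (tt N100431 (iv3 F428949)) (tt N99931 (iv4 F426875)) (tt N34247 (iv5 D119578)) (tt N42543 F366788) (tt N100367 (iv7 F428626)))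
theorem Q63651 : ∀ i, i < 63651 → P i := stepQ 63650 Q63650 (allL N63650 (tt N34880 F310215) (tt N34489 F310216) (tt N34882 F310217) (tt N89421 F386439) (tt N34248 F188565) (tt N34887 F310218) (tt N34247 (iv6 D119579)) (tt N34881 F310219))
theorem Q63652 : ∀ i, i < 63652 → P i := stepQ 63651 Q63651 (allL N63651 (tt N34443 F188575) (tt N34445 (iv0 F188576)) (tt N90251 (iv2 F389110)) (tt N34347 F188572) (tt N63864 (iv4 F332078)) (tt N34249 (iv5 D119583)) (tt N44511 F188573) (tt N43986 F188574))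
theorem Q63653 : ∀ i, i < 63653 → P i := stepQ 63652 Q63652 (allL N63652 (tt N37079 (iv1 F311295)) (tt N69135 (iv0 F311296)) (tt N34253 F188578) (tt N56131 F340856) (tt N37150 F309120) (tt N34252 (iv5 D119585)) (tt N41844 F188580) (tt N46103 F188579))
theorem Q63654 : ∀ i, i < 63654 → P i := stepQ 63653 Q63653 (allL N63653 (tt N44042 (iv1 F188630)) (tt N44537 F188629) (tt N34254 F188586) (tt N42988 F302851) (tt N38349 F305267) (tt N42987 F302852) (tt N34252 (iv6 D119586)) (tt N68360 (iv7 F209948)))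
theorem Q63655 : ∀ i, i < 63655 → P i := stepQ 63654 Q63654 (allL N63654 (tt N34253 (iv1 D119591)) (tt N46103 F188591) (tt N69135 F312461) (tt N34338 (iv3 F188594)) (tt N37080 F312462) (tt N41262 (iv5 F314910)) (tt N44892 (iv6 F188592)) (tt N37079 F312463))
theorem Q63656 : ∀ i, i < 63656 → P i := stepQ 63655 Q63655 (allL N63655 (tt N44537 F188628) (tt N44042 (iv0 F188627)) (tt N68360 (iv2 F209947)) (tt N34260 F188625) (tt N43988 F305136) (tt N48441 (iv5 F303703)) (tt N38271 F188626) (tt N34254 (iv7 D119594)))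
theorem Q63657 : ∀ i, i < 63657 → P i := stepQ 63656 Q63656 (allL N63656 (tt N100432 D203574) (tt N79610 (iv0 F342311)) (tt N88462 (iv2 F383147)) (tt N34256 F188631) (tt N100433 D203575) (tt N34255 (iv5 D119596)) (tt N100434 D203576) (tt N88461 (iv7 F383145)))
theorem Q63658 : ∀ i, i < 63658 → P i := stepQ 63657 Q63657 (allL N63657 (tt N100410 (iv1 F428854)) (tt N100409 (iv0 F428846)) (tt N100366 (iv2 F428620)) (tt N100435 D203577) (tt N34256 (iv4 D119598)) (tt N99931 (iv5 F426874)) (tt N97209 F415906) (tt N100364 (iv7 F428614)))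
theorem Q63659 : ∀ i, i < 63659 → P i := stepQ 63658 Q63658 (allL N63658 (tt N58809 F347851) (tt N60402 F347855) (tt N48057 F351332) (tt N100434 (iv3 F428960)) (tt N97209 (iv4 F415903)) (tt N82205 (iv5 F347850)) (tt N34256 (iv6 D119599)) (tt N60401 (iv7 F351345)))
theorem Q63660 : ∀ i, i < 63660 → P i := stepQ 63659 Q63659 (allL N63659 (tt N47968 (iv1 F188635)) (tt N64658 F300855) (tt N46134 F300856) (tt N36512 F300857) (tt N34260 F188634) (tt N51973 F300858) (tt N63841 F332070) (tt N34257 (iv7 D119603)))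
theorem Q63661 : ∀ i, i < 63661 → P i := stepQ 63660 Q63660 (allL N63660 (tt N84726 F370369) (tt N91172 F392163) (tt N91171 F392155) (tt N34258 (iv3 D119604)) (tt N69210 F342783) (tt N100436 D203578) (tt N100437 D203579) (tt N43485 F342784))
theorem Q63662 : ∀ i, i < 63662 → P i := stepQ 63661 Q63661 (allL N63661 (tt N99876 F426645) (tt N99947 (iv0 F426915)) (tt N100367 (iv2 F428625)) (tt N100436 (iv3 F428967)) (tt N99932 (iv4 F426879)) (tt N34258 (iv5 D119605)) (tt N100438 D203580) (tt N100365 (iv7 F428619)))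
theorem Q63663 : ∀ i, i < 63663 → P i := stepQ 63662 Q63662 (allL N63662 (tt N95922 (iv1 F410278)) (tt N74784 (iv0 F229156)) (tt N74390 (iv2 F227701)) (tt N100437 (iv3 F428972)) (tt N34259 F188637) (tt N100439 D203581) (tt N34258 (iv6 D119606)) (tt N74391 (iv7 F227706)))
theorem Q63664 : ∀ i, i < 63664 → P i := stepQ 63663 Q63663 (allL N63663 (tt N43290 F188647) (tt N43289 F188648) (tt N43293 F188643) (tt N96709 (iv3 F413554)) (tt N34261 (iv4 D119610)) (tt N43381 F188645) (tt N96708 (iv6 F413553)) (tt N43206 F188644))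
theorem Q63665 : ∀ i, i < 63665 → P i := stepQ 63664 Q63664 (allL N63664 (tt N100440 D203582) (tt N100441 D203583) (tt N43294 F188649) (tt N96706 F413541) (tt N96708 (iv4 F413549)) (tt N97178 (iv5 F415778)) (tt N34261 (iv6 D119611)) (tt N100442 D203584))
theorem Q63666 : ∀ i, i < 63666 → P i := stepQ 63665 Q63665 (allL N63665 (tt N98856 (iv1 F422591)) (tt N98979 F422894) (tt N71537 F366079) (tt N34262 (iv3 D119612)) (tt N100186 (iv4 F427900)) (tt N100443 D203585) (tt N100444 D203586) (tt N43222 F188650))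
theorem Q63667 : ∀ i, i < 63667 → P i := stepQ 63666 Q63666 (allL N63666 (tt N43380 (iv1 F188654)) (tt N43379 F188655) (tt N43383 F188651) (tt N100443 (iv3 F428993)) (tt N43292 F188652) (tt N34262 (iv5 D119613)) (tt N100445 D203587) (tt N43223 F188653))
theorem Q63668 : ∀ i, i < 63668 → P i := stepQ 63667 Q63667 (allL N63667 (tt N100446 D203588) (tt N100447 D203589) (tt N43384 F188656) (tt N100444 (iv3 F428998)) (tt N34263 F188657) (tt N62133 (iv5 F409513)) (tt N34262 (iv6 D119614)) (tt N100448 D203590))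
theorem Q63669 : ∀ i, i < 63669 → P i := stepQ 63668 Q63668 (allL N63668 (tt N43355 (iv1 F188662)) (tt N34263 (iv0 D119615)) (tt N43385 (iv2 F200715)) (tt N43864 F243069) (tt N100449 D203591) (tt N77618 (iv5 F309668)) (tt N48005 F188658) (tt N43386 F200720))
theorem Q63670 : ∀ i, i < 63670 → P i := stepQ 63669 Q63669 (allL N63669 (tt N43386 (iv1 F188663)) (tt N43385 F188664) (tt N43355 F188660) (tt N100176 (iv3 F427847)) (tt N100448 (iv4 F429023)) (tt N94122 (iv5 F403308)) (tt N43217 F188661) (tt N34263 (iv7 D119617)))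
theorem Q63671 : ∀ i, i < 63671 → P i := stepQ 63670 Q63670 (allL N63670 (tt N34266 (iv1 F188667)) (tt N34264 (iv0 D119618)) (tt N78306 F247909) (tt N77972 F320457) (tt N43279 F188666) (tt N43380 F188665) (tt N100450 D203592) (tt N44273 F320458))
theorem Q63672 : ∀ i, i < 63672 → P i := stepQ 63671 Q63671 (allL N63671 (tt N34264 (iv1 D119619)) (tt N34266 F188669) (tt N44273 (iv2 F318297)) (tt N97237 (iv3 F416015)) (tt N43275 F188670) (tt N43379 F188671) (tt N44271 F316171) (tt N78306 (iv7 F247911)))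
theorem Q63673 : ∀ i, i < 63673 → P i := stepQ 63672 Q63672 (allL N63672 (tt N100451 D203593) (tt N100452 D203594) (tt N71542 F366538) (tt N34264 (iv3 D119620)) (tt N100236 (iv4 F428102)) (tt N100453 D203595) (tt N100454 D203596) (tt N99966 (iv7 F426993)))
theorem Q63674 : ∀ i, i < 63674 → P i := stepQ 63673 Q63673 (allL N63673 (tt N76605 (iv1 F239529)) (tt N76607 (iv0 F239536)) (tt N76844 F240056) (tt N100453 (iv3 F429046)) (tt N97815 (iv4 F418402)) (tt N34264 (iv5 D119621)) (tt N100455 D203597) (tt N76843 F240052))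
theorem Q63675 : ∀ i, i < 63675 → P i := stepQ 63674 Q63674 (allL N63674 (tt N100456 D203598) (tt N100457 D203599) (tt N78305 (iv2 F247899)) (tt N100454 (iv3 F429047)) (tt N34265 F188673) (tt N100458 D203600) (tt N34264 (iv6 D119622)) (tt N100459 D203601))
theorem Q63676 : ∀ i, i < 63676 → P i := stepQ 63675 Q63675 (allL N63675 (tt N62397 (iv1 F312469)) (tt N34265 (iv0 D119623)) (tt N44084 (iv2 F212308)) (tt N43876 (iv3 F212309)) (tt N100460 D203602) (tt N87922 (iv5 F381141)) (tt N44435 F316180) (tt N78304 (iv7 F247896)))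
theorem Q63677 : ∀ i, i < 63677 → P i := stepQ 63676 Q63676 (allL N63676 (tt N34265 (iv1 D119624)) (tt N62397 (iv0 F312468)) (tt N78304 F247897) (tt N34372 F212310) (tt N100461 D203603) (tt N76535 (iv5 F239262)) (tt N73198 (iv6 F361624)) (tt N44084 F212311))
theorem Q63678 : ∀ i, i < 63678 → P i := stepQ 63677 Q63677 (allL N63677 (tt N78304 (iv1 F247895)) (tt N44084 (iv0 F239478)) (tt N62397 (iv2 F312470)) (tt N73417 F341178) (tt N100459 (iv4 F429055)) (tt N68273 (iv5 F209458)) (tt N62396 (iv6 F341177)) (tt N34265 (iv7 D119625)))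
theorem Q63679 : ∀ i, i < 63679 → P i := stepQ 63678 Q63678 (allL N63678 (tt N76607 (iv1 F239537)) (tt N76605 (iv0 F239528)) (tt N76843 F240051) (tt N71545 F366399) (tt N81944 F364657) (tt N34266 (iv5 D119627)) (tt N81943 (iv6 F364658)) (tt N76844 (iv7 F240054)))
theorem Q63680 : ∀ i, i < 63680 → P i := stepQ 63679 Q63679 (allL N63679 (tt N100462 D203604) (tt N78207 (iv0 F372285)) (tt N100463 D203605) (tt N34267 (iv3 D119628)) (tt N54087 (iv4 F349185)) (tt N100464 D203606) (tt N100465 D203607) (tt N99967 (iv7 F426996)))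
theorem Q63681 : ∀ i, i < 63681 → P i := stepQ 63680 Q63680 (allL N63680 (tt N76602 (iv1 F239496)) (tt N76603 (iv0 F239510)) (tt N76830 F240003) (tt N100464 (iv3 F429081)) (tt N98448 (iv4 F420943)) (tt N34267 (iv5 D119629)) (tt N100466 D203608) (tt N76829 F239999))
theorem Q63682 : ∀ i, i < 63682 → P i := stepQ 63681 Q63681 (allL N63681 (tt N100460 F429061) (tt N100461 (iv0 F429067)) (tt N99969 (iv2 F427005)) (tt N100465 (iv3 F429082)) (tt N94136 F403387) (tt N100467 D203609) (tt N34267 (iv6 D119630)) (tt N98912 (iv7 F422766)))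
theorem Q63683 : ∀ i, i < 63683 → P i := stepQ 63682 Q63682 (allL N63682 (tt N44239 F366540) (tt N100468 D203610) (tt N100469 D203611) (tt N34268 (iv3 D119631)) (tt N100129 (iv4 F427593)) (tt N100470 D203612) (tt N98917 F422780) (tt N99968 (iv7 F427001)))
theorem Q63684 : ∀ i, i < 63684 → P i := stepQ 63683 Q63683 (allL N63683 (tt N76603 (iv1 F239511)) (tt N76602 (iv0 F239495)) (tt N76829 F239998) (tt N100470 (iv3 F429094)) (tt N98443 (iv4 F420932)) (tt N34268 (iv5 D119632)) (tt N98921 (iv6 F422794)) (tt N76830 (iv7 F240001)))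
theorem Q63685 : ∀ i, i < 63685 → P i := stepQ 63684 Q63684 (allL N63684 (tt N77749 (iv1 F244848)) (tt N34269 (iv0 D119634)) (tt N77754 F354580) (tt N71549 (iv3 F415365)) (tt N95767 (iv4 F409543)) (tt N100471 D203613) (tt N98895 (iv6 F422714)) (tt N61978 F346467))
theorem Q63686 : ∀ i, i < 63686 → P i := stepQ 63685 Q63685 (allL N63685 (tt N77754 (iv1 F244855)) (tt N61978 (iv0 F354573)) (tt N34269 (iv2 D119636)) (tt N100284 (iv3 F428254)) (tt N34387 F188675) (tt N100472 D203614) (tt N48026 F188676) (tt N77749 (iv7 F244845)))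
theorem Q63687 : ∀ i, i < 63687 → P i := stepQ 63686 Q63686 (allL N63686 (tt N100473 D203615) (tt N100474 D203616) (tt N100472 (iv2 F429097)) (tt N34270 F188677) (tt N100475 D203617) (tt N34269 (iv5 D119637)) (tt N100476 D203618) (tt N77755 (iv7 F244857)))
theorem Q63688 : ∀ i, i < 63688 → P i := stepQ 63687 Q63687 (allL N63687 (tt N43360 (iv1 F188679)) (tt N34270 (iv0 D119638)) (tt N99970 F427013) (tt N100477 D203619) (tt N98377 (iv4 F420694)) (tt N43364 F188678) (tt N100473 F429099) (tt N92591 (iv7 F397532)))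
theorem Q63689 : ∀ i, i < 63689 → P i := stepQ 63688 Q63688 (allL N63688 (tt N34270 (iv1 D119639)) (tt N43360 F188680) (tt N92591 (iv2 F397531)) (tt N100478 D203620) (tt N98435 (iv4 F420915)) (tt N43365 F188681) (tt N100479 D203621) (tt N99970 (iv7 F427011)))
theorem Q63690 : ∀ i, i < 63690 → P i := stepQ 63689 Q63689 (allL N63689 (tt N43292 F188683) (tt N43381 F188684) (tt N97977 (iv2 F419038)) (tt N100480 D203622) (tt N34270 (iv4 D119640)) (tt N43357 F188682) (tt N83393 F424590) (tt N98352 (iv7 F420608)))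
theorem Q63691 : ∀ i, i < 63691 → P i := stepQ 63690 Q63690 (allL N63690 (tt N100481 D203623) (tt N100482 D203624) (tt N100286 (iv2 F428262)) (tt N100476 (iv3 F429102)) (tt N83393 (iv4 F424591)) (tt N48031 F188685) (tt N34270 (iv6 D119641)) (tt N100483 D203625))
theorem Q63692 : ∀ i, i < 63692 → P i := stepQ 63691 Q63691 (allL N63691 (tt N34272 (iv1 D119643)) (tt N34285 F188689) (tt N34283 (iv2 F188691)) (tt N47191 F188692) (tt N66925 (iv4 F206144)) (tt N99598 (iv5 F425335)) (tt N48039 (iv6 F201287)) (tt N34282 F188690))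
theorem Q63693 : ∀ i, i < 63693 → P i := stepQ 63692 Q63692 (allL N63692 (tt N73958 F346286) (tt N73971 (iv0 F324816)) (tt N34284 F188693) (tt N44023 F305110) (tt N34288 F339392) (tt N34272 (iv5 D119644)) (tt N47075 F188694) (tt N73970 (iv7 F334104)))
theorem Q63694 : ∀ i, i < 63694 → P i := stepQ 63693 Q63693 (allL N63693 (tt N34283 (iv1 F188698)) (tt N34282 F188699) (tt N34285 F188695) (tt N34332 F303153) (tt N34276 F188696) (tt N73970 F339393) (tt N43949 F188697) (tt N34272 (iv7 D119645)))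
theorem Q63695 : ∀ i, i < 63695 → P i := stepQ 63694 Q63694 (allL N63694 (tt N68468 F337607) (tt N68465 (iv0 F315778)) (tt N44740 F188731) (tt N34278 F188732) (tt N46903 F188733) (tt N82368 (iv5 F355015)) (tt N34277 (iv6 D119654)) (tt N47578 (iv7 F188734)))
theorem Q63696 : ∀ i, i < 63696 → P i := stepQ 63695 Q63695 (allL N63695 (tt N81352 (iv1 F332279)) (tt N82525 (iv0 F281487)) (tt N77200 (iv2 F241958)) (tt N34280 (iv3 D119657)) (tt N34603 F188742) (tt N46010 F188743) (tt N68410 F304077) (tt N43959 F188744))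
theorem Q63697 : ∀ i, i < 63697 → P i := stepQ 63696 Q63696 (allL N63696 (tt N37180 F306860) (tt N81332 F315324) (tt N46015 F188745) (tt N68410 F306861) (tt N34281 F188746) (tt N66425 (iv5 F327900)) (tt N34280 (iv6 D119658)) (tt N47559 F315325))
theorem Q63698 : ∀ i, i < 63698 → P i := stepQ 63697 Q63697 (allL N63697 (tt N100153 (iv1 F427732)) (tt N80340 F334108) (tt N47075 F188748) (tt N34720 F188749) (tt N62559 (iv4 F334109)) (tt N34281 (iv5 D119661)) (tt N34284 F188750) (tt N47560 F315774))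
theorem Q63699 : ∀ i, i < 63699 → P i := stepQ 63698 Q63698 (allL N63698 (tt N88641 (iv1 F383673)) (tt N46882 F315041) (tt N47189 (iv2 F188774)) (tt N34282 (iv3 D119663)) (tt N47179 F188757) (tt N36575 F304288) (tt N43440 F304289) (tt N47191 F188758))
theorem Q63700 : ∀ i, i < 63700 → P i := stepQ 63699 Q63699 (allL N63699 (tt N99600 (iv1 F425354)) (tt N76780 F334113) (tt N75889 (iv2 F234534)) (tt N36575 F334114) (tt N48493 F334115) (tt N34282 (iv5 D119664)) (tt N36574 F334116) (tt N99598 (iv7 F425334)))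
theorem Q63701 : ∀ i, i < 63701 → P i := stepQ 63700 Q63700 (allL N63700 (tt N76780 (iv1 F353459)) (tt N99600 F425353) (tt N99598 (iv2 F425339)) (tt N54432 (iv3 F353460)) (tt N100484 D203626) (tt N34283 (iv5 D119667)) (tt N82007 F339398) (tt N75889 (iv7 F234535)))
theorem Q63702 : ∀ i, i < 63702 → P i := stepQ 63701 Q63701 (allL N63701 (tt N45562 F303118) (tt N48033 F303119) (tt N48039 F201286) (tt N54433 F337628) (tt N48236 F188776) (tt N82008 (iv5 F339241)) (tt N34283 (iv6 D119668)) (tt N45527 F305099))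
theorem Q63703 : ∀ i, i < 63703 → P i := stepQ 63702 Q63702 (allL N63702 (tt N73970 (iv1 F339395)) (tt N34284 (iv0 D119669)) (tt N73958 F339401) (tt N100485 D203627) (tt N80101 F339402) (tt N76760 F339231) (tt N62553 (iv6 F339400)) (tt N73971 (iv7 F339232)))
theorem Q63704 : ∀ i, i < 63704 → P i := stepQ 63703 Q63703 (allL N63703 (tt N34284 (iv1 D119670)) (tt N73970 (iv0 F339396)) (tt N73971 (iv2 F324817)) (tt N85796 (iv3 F373983)) (tt N100486 D203628) (tt N76586 (iv5 F239417)) (tt N75617 (iv6 F352082)) (tt N73958 (iv7 F346290)))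
theorem Q63705 : ∀ i, i < 63705 → P i := stepQ 63704 Q63704 (allL N63704 (tt N36507 (iv1 F188818)) (tt N36537 (iv0 F188817)) (tt N36535 F188815) (tt N100487 D203629) (tt N34286 (iv4 D119686)) (tt N75434 F339302) (tt N67993 (iv6 F339304)) (tt N36534 F188816))
theorem Q63706 : ∀ i, i < 63706 → P i := stepQ 63705 Q63705 (allL N63705 (tt N75199 (iv1 F230727)) (tt N35380 F200439) (tt N43641 (iv2 F190716)) (tt N34289 F188822) (tt N67993 F340257) (tt N75320 F231149) (tt N34286 (iv6 D119688)) (tt N48050 (iv7 F200254)))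
theorem Q63707 : ∀ i, i < 63707 → P i := stepQ 63706 Q63706 (allL N63706 (tt N81039 F273070) (tt N45542 F304585) (tt N81040 (iv2 F345655)) (tt N34287 (iv3 D119689)) (tt N100487 (iv4 F429127)) (tt N41831 F342755) (tt N79726 F342756) (tt N80767 (iv7 F307889)))
theorem Q63708 : ∀ i, i < 63708 → P i := stepQ 63707 Q63707 (allL N63707 (tt N81366 (iv1 F348537)) (tt N75915 F339385) (tt N81316 F339386) (tt N41831 F339387) (tt N34292 F339388) (tt N34287 (iv5 D119690)) (tt N47983 F339389) (tt N34291 F339390))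
theorem Q63709 : ∀ i, i < 63709 → P i := stepQ 63708 Q63708 (allL N63708 (tt N62884 F188825) (tt N42661 (iv0 F188826)) (tt N62559 (iv2 F313427)) (tt N73977 (iv3 F315715)) (tt N47075 F344165) (tt N100488 D203630) (tt N34288 (iv6 D119693)) (tt N62882 (iv7 F188827)))
theorem Q63710 : ∀ i, i < 63710 → P i := stepQ 63709 Q63709 (allL N63709 (tt N34556 F188833) (tt N43300 (iv0 F188834)) (tt N44874 F188832) (tt N75320 (iv3 F231151)) (tt N81347 F345985) (tt N34289 (iv5 D119695)) (tt N100488 (iv6 F429136)) (tt N44875 F188835))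
theorem Q63711 : ∀ i, i < 63711 → P i := stepQ 63710 Q63710 (allL N63710 (tt N99598 (iv1 F425333)) (tt N75889 F316419) (tt N99600 (iv2 F425348)) (tt N44896 F315898) (tt N34290 (iv4 D119697)) (tt N44587 F316420) (tt N44895 F315899) (tt N76780 (iv7 F239929)))
theorem Q63712 : ∀ i, i < 63712 → P i := stepQ 63711 Q63711 (allL N63711 (tt N81316 F339379) (tt N34291 (iv0 D119702)) (tt N75915 (iv2 F234588)) (tt N78575 (iv3 F339382)) (tt N75914 F234589) (tt N79999 F339377) (tt N100489 D203631) (tt N81366 (iv7 F348538)))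
theorem Q63713 : ∀ i, i < 63713 → P i := stepQ 63712 Q63712 (allL N63712 (tt N34291 (iv1 D119703)) (tt N81316 F348543) (tt N81366 F348539) (tt N59968 F361272) (tt N75857 (iv4 F234427)) (tt N100490 D203632) (tt N59966 (iv6 F361271)) (tt N75915 (iv7 F234584)))
theorem Q63714 : ∀ i, i < 63714 → P i := stepQ 63713 Q63713 (allL N63713 (tt N35361 (iv1 F190387)) (tt N34293 (iv0 D119720)) (tt N43671 (iv2 F190828)) (tt N62555 (iv3 F353104)) (tt N98210 (iv4 F420004)) (tt N43392 (iv5 F190815)) (tt N75608 (iv6 F346196)) (tt N43672 (iv7 F190831)))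
theorem Q63715 : ∀ i, i < 63715 → P i := stepQ 63714 Q63714 (allL N63714 (tt N34293 (iv1 D119721)) (tt N35361 (iv0 F190386)) (tt N43672 F190832) (tt N73805 F346225) (tt N73160 F366154) (tt N43393 (iv5 F190833)) (tt N42673 F190834) (tt N43671 F190830))
theorem Q63716 : ∀ i, i < 63716 → P i := stepQ 63715 Q63715 (allL N63715 (tt N85794 F373975) (tt N98771 F422250) (tt N43673 (iv2 F190891)) (tt N60899 F363729) (tt N34293 (iv4 D119722)) (tt N60898 F339637) (tt N48411 F306888) (tt N43674 (iv7 F190768)))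
theorem Q63717 : ∀ i, i < 63717 → P i := stepQ 63716 Q63716 (allL N63716 (tt N43903 (iv1 F232686)) (tt N43901 (iv0 F232685)) (tt N43917 F232644) (tt N34294 (iv3 D119726)) (tt N100491 D203633) (tt N34452 F188867) (tt N73939 F356519) (tt N43918 (iv7 F232643)))
theorem Q63718 : ∀ i, i < 63718 → P i := stepQ 63717 Q63717 (allL N63717 (tt N44045 F304069) (tt N44044 F304070) (tt N34603 F188899) (tt N34301 F188900) (tt N77200 (iv4 F241959)) (tt N34300 (iv5 D119741)) (tt N63229 F304071) (tt N43899 F188901))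
theorem Q63719 : ∀ i, i < 63719 → P i := stepQ 63718 Q63718 (allL N63718 (tt N34342 F304072) (tt N34341 F304073) (tt N34343 F304074) (tt N34302 F188905) (tt N43945 F188906) (tt N38268 F304075) (tt N34300 (iv6 D119742)) (tt N34334 F304076))
theorem Q63720 : ∀ i, i < 63720 → P i := stepQ 63719 Q63719 (allL N63719 (tt N46603 (iv1 F309011)) (tt N36544 F190937) (tt N34312 F188937) (tt N34453 F307452) (tt N34303 (iv4 D119747)) (tt N45724 F307144) (tt N48083 (iv6 F232892)) (tt N34316 F188938))
theorem Q63721 : ∀ i, i < 63721 → P i := stepQ 63720 Q63720 (allL N63720 (tt N34306 (iv1 D119752)) (tt N35002 F188948) (tt N43852 F305948) (tt N52788 (iv3 F188951)) (tt N64345 (iv4 F196218)) (tt N48427 F188950) (tt N87918 (iv6 F381116)) (tt N43843 F305949))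
theorem Q63722 : ∀ i, i < 63722 → P i := stepQ 63721 Q63721 (allL N63721 (tt N34553 F305950) (tt N43085 F305951) (tt N43906 F188960) (tt N44498 F314474) (tt N89957 (iv4 F388102)) (tt N34307 (iv5 D119757)) (tt N63018 F305953) (tt N43924 (iv7 F306223)))
theorem Q63723 : ∀ i, i < 63723 → P i := stepQ 63722 Q63722 (allL N63722 (tt N43619 F305971) (tt N87918 F381117) (tt N87917 (iv2 F381111)) (tt N34309 (iv3 D119763)) (tt N43703 F190975) (tt N79411 F340777) (tt N48081 F305972) (tt N43691 F305973))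
theorem Q63724 : ∀ i, i < 63724 → P i := stepQ 63723 Q63723 (allL N63723 (tt N71761 (iv1 F324301)) (tt N64003 F236399) (tt N43688 F190949) (tt N34313 F188984) (tt N39843 F322834) (tt N34311 (iv5 D119775)) (tt N40027 F312715) (tt N43690 F190942))
theorem Q63725 : ∀ i, i < 63725 → P i := stepQ 63724 Q63724 (allL N63724 (tt N35394 F241310) (tt N100492 D203634) (tt N43689 F190953) (tt N34314 F188985) (tt N48182 F233012) (tt N43520 F190928) (tt N34311 (iv6 D119776)) (tt N48081 (iv7 F232969)))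
theorem Q63726 : ∀ i, i < 63726 → P i := stepQ 63725 Q63725 (allL N63725 (tt N34316 (iv1 F188987)) (tt N34312 (iv0 D119777)) (tt N46603 F307710) (tt N63612 F307439) (tt N36546 (iv4 F189988)) (tt N37631 F307440) (tt N43915 F191377) (tt N36544 F191378))
theorem Q63727 : ∀ i, i < 63727 → P i := stepQ 63726 Q63726 (allL N63726 (tt N76017 F307707) (tt N67063 F307708) (tt N48083 F232968) (tt N54139 (iv3 F330122)) (tt N34314 F188995) (tt N53364 (iv5 F339144)) (tt N34312 (iv6 D119781)) (tt N48082 (iv7 F232970)))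
theorem Q63728 : ∀ i, i < 63728 → P i := stepQ 63727 Q63727 (allL N63727 (tt N34317 (iv1 F188997)) (tt N34313 (iv0 D119782)) (tt N43980 (iv2 F232620)) (tt N43975 F232621) (tt N37632 (iv4 F309844)) (tt N43076 F307669) (tt N62970 (iv6 F232622)) (tt N37629 (iv7 F309939)))
theorem Q63729 : ∀ i, i < 63729 → P i := stepQ 63728 Q63728 (allL N63728 (tt N34313 (iv1 D119783)) (tt N34317 F188998) (tt N37629 (iv2 F309937)) (tt N34321 F232616) (tt N37626 F309129) (tt N34450 F304258) (tt N37625 F309130) (tt N43980 F232619))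
theorem Q63730 : ∀ i, i < 63730 → P i := stepQ 63729 Q63729 (allL N63729 (tt N47985 (iv1 F237239)) (tt N69628 (iv0 F348330)) (tt N47941 F189024) (tt N43689 (iv3 F190952)) (tt N68399 F330111) (tt N48077 F232646) (tt N34318 (iv6 D119799)) (tt N69640 (iv7 F361474)))
theorem Q63731 : ∀ i, i < 63731 → P i := stepQ 63730 Q63730 (allL N63730 (tt N40042 F309132) (tt N41262 F315888) (tt N43981 F189025) (tt N62910 F189026) (tt N40211 F315889) (tt N34559 F189027) (tt N34320 (iv6 D119800)) (tt N42741 F189028))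
theorem Q63732 : ∀ i, i < 63732 → P i := stepQ 63731 Q63731 (allL N63731 (tt N35347 (iv1 F190494)) (tt N34322 (iv0 D119818)) (tt N43716 (iv2 F192047)) (tt N48428 F306264) (tt N75773 (iv4 F233866)) (tt N42164 (iv5 F190698)) (tt N42166 F190713) (tt N43715 F192044))
theorem Q63733 : ∀ i, i < 63733 → P i := stepQ 63732 Q63732 (allL N63732 (tt N34322 (iv1 D119819)) (tt N35347 (iv0 F190493)) (tt N43715 (iv2 F192070)) (tt N71761 (iv3 F324303)) (tt N70545 F334180) (tt N34547 F190704) (tt N75454 (iv6 F231537)) (tt N43716 F192069))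
theorem Q63734 : ∀ i, i < 63734 → P i := stepQ 63733 Q63733 (allL N63733 (tt N42987 F302714) (tt N48441 (iv0 F303702)) (tt N43988 F189091) (tt N43441 F190822) (tt N68360 (iv4 F305055)) (tt N34323 (iv5 D119826)) (tt N34324 F189092) (tt N38349 F305269))
theorem Q63735 : ∀ i, i < 63735 → P i := stepQ 63734 Q63734 (allL N63734 (tt N34325 (iv1 D119829)) (tt N43990 F189100) (tt N43989 (iv2 F200210)) (tt N69628 F311126) (tt N37454 F311127) (tt N63078 (iv5 F189101)) (tt N41326 (iv6 F189102)) (tt N37452 (iv7 F311187)))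
theorem Q63736 : ∀ i, i < 63736 → P i := stepQ 63735 Q63735 (allL N63735 (tt N43989 (iv1 F189107)) (tt N37452 (iv0 F311184)) (tt N43990 F189103) (tt N35438 (iv3 F199917)) (tt N38343 F309022) (tt N34364 F189105) (tt N42820 F309023) (tt N34325 (iv7 D119830)))
theorem Q63737 : ∀ i, i < 63737 → P i := stepQ 63736 Q63736 (allL N63736 (tt N36509 (iv1 F190032)) (tt N36555 (iv0 F190003)) (tt N36553 (iv2 F189937)) (tt N57420 (iv3 F313486)) (tt N34326 (iv4 D119832)) (tt N73341 (iv5 F334227)) (tt N48431 F306272) (tt N36552 (iv7 F189935)))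
theorem Q63738 : ∀ i, i < 63738 → P i := stepQ 63737 Q63737 (allL N63737 (tt N45310 (iv1 F189135)) (tt N45309 F189136) (tt N43999 F189132) (tt N65119 F199284) (tt N34330 F189133) (tt N78328 F308192) (tt N34329 (iv6 D119838)) (tt N34599 F189134))
theorem Q63739 : ∀ i, i < 63739 → P i := stepQ 63738 Q63738 (allL N63738 (tt N76551 F335517) (tt N76550 (iv0 F339218)) (tt N44022 F189137) (tt N74528 (iv3 F311009)) (tt N63202 (iv4 F335528)) (tt N34331 (iv5 D119839)) (tt N76542 (iv6 F352042)) (tt N43182 F189138))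
theorem Q63740 : ∀ i, i < 63740 → P i := stepQ 63739 Q63739 (allL N63739 (tt N44029 (iv1 F189144)) (tt N44028 F189146) (tt N34336 F189142) (tt N73970 (iv3 F339394)) (tt N100493 D203635) (tt N34332 (iv5 D119841)) (tt N75611 F363825) (tt N44023 F189143))
theorem Q63741 : ∀ i, i < 63741 → P i := stepQ 63740 Q63740 (allL N63740 (tt N43968 F243955) (tt N45529 F305101) (tt N34337 F189147) (tt N43949 F305102) (tt N34334 F189148) (tt N76748 F239843) (tt N34332 (iv6 D119842)) (tt N43945 F305103))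
theorem Q63742 : ∀ i, i < 63742 → P i := stepQ 63741 Q63741 (allL N63741 (tt N44037 (iv1 F189151)) (tt N44036 F189152) (tt N34340 F189149) (tt N76338 F355740) (tt N34333 (iv4 D119843)) (tt N100494 D203636) (tt N63920 F354936) (tt N44024 F189150))
theorem Q63743 : ∀ i, i < 63743 → P i := stepQ 63742 Q63742 (allL N63742 (tt N46886 (iv1 F189171)) (tt N46885 F189172) (tt N46887 F189167) (tt N34335 (iv3 D119847)) (tt N47177 F189170) (tt N41984 F339750) (tt N47578 F189168) (tt N43954 F189169))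
theorem Q63744 : ∀ i, i < 63744 → P i := stepQ 63743 Q63743 (allL N63743 (tt N76554 F339223) (tt N74374 F348645) (tt N44027 F189179) (tt N41984 F339749) (tt N43239 F303500) (tt N34335 (iv5 D119849)) (tt N81997 F340151) (tt N43235 F303501))
theorem Q63745 : ∀ i, i < 63745 → P i := stepQ 63744 Q63744 (allL N63744 (tt N44023 (iv1 F189181)) (tt N34336 (iv0 D119850)) (tt N44029 F233308) (tt N54969 F356286) (tt N98151 (iv4 F419721)) (tt N75659 (iv5 F233305)) (tt N57402 (iv6 F338704)) (tt N44028 (iv7 F233309)))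
theorem Q63746 : ∀ i, i < 63746 → P i := stepQ 63745 Q63745 (allL N63745 (tt N34336 (iv1 D119851)) (tt N44023 F189182) (tt N44028 (iv2 F233311)) (tt N80332 (iv3 F352180)) (tt N98142 (iv4 F419671)) (tt N75660 F233313) (tt N73701 (iv6 F352063)) (tt N44029 F233310))
theorem Q63747 : ∀ i, i < 63747 → P i := stepQ 63746 Q63746 (allL N63746 (tt N98402 (iv1 F420806)) (tt N100495 D203637) (tt N100493 (iv2 F429164)) (tt N74469 F366300) (tt N34336 (iv4 D119852)) (tt N76557 F339229) (tt N100496 D203638) (tt N44030 F189183))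
theorem Q63748 : ∀ i, i < 63748 → P i := stepQ 63747 Q63747 (allL N63747 (tt N75332 F338181) (tt N84765 F370536) (tt N75611 (iv2 F363831)) (tt N75679 (iv3 F324822)) (tt N100496 (iv4 F429186)) (tt N75678 F366113) (tt N34336 (iv6 D119853)) (tt N100497 D203639))
theorem Q63749 : ∀ i, i < 63749 → P i := stepQ 63748 Q63748 (allL N63748 (tt N43945 F305108) (tt N34337 (iv0 D119854)) (tt N43968 F280224) (tt N83191 F332033) (tt N54135 F332039) (tt N83190 (iv5 F332035)) (tt N43947 F280225) (tt N45529 F305104))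
theorem Q63750 : ∀ i, i < 63750 → P i := stepQ 63749 Q63749 (allL N63749 (tt N34337 (iv1 D119855)) (tt N43945 F305109) (tt N45529 F305106) (tt N54379 (iv3 F343496)) (tt N54134 (iv4 F350948)) (tt N100498 D203640) (tt N70553 (iv6 F308624)) (tt N43968 F280223))
theorem Q63751 : ∀ i, i < 63751 → P i := stepQ 63750 Q63750 (allL N63750 (tt N63214 F189184) (tt N76750 F239846) (tt N76748 (iv2 F239844)) (tt N41580 F324264) (tt N100499 D203641) (tt N34337 (iv5 D119856)) (tt N75678 (iv6 F366114)) (tt N45530 F304785))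
theorem Q63752 : ∀ i, i < 63752 → P i := stepQ 63751 Q63751 (allL N63751 (tt N92604 (iv1 F397603)) (tt N76954 (iv0 F354081)) (tt N44034 F189188) (tt N100500 D203642) (tt N34338 (iv4 D119858)) (tt N100501 D203643) (tt N62861 F359460) (tt N44032 F189189))
theorem Q63753 : ∀ i, i < 63753 → P i := stepQ 63752 Q63752 (allL N63752 (tt N76954 F354080) (tt N92604 (iv0 F397604)) (tt N44032 F189198) (tt N87206 (iv3 F378761)) (tt N34339 (iv4 D119861)) (tt N100502 D203644) (tt N41924 F189199) (tt N44034 F189200))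
theorem Q63754 : ∀ i, i < 63754 → P i := stepQ 63753 Q63753 (allL N63753 (tt N34340 (iv1 D119863)) (tt N44024 F189202) (tt N44036 F244507) (tt N61058 (iv3 F352386)) (tt N67093 (iv4 F206586)) (tt N75650 (iv5 F233292)) (tt N41919 (iv6 F230351)) (tt N44037 F244508))
theorem Q63755 : ∀ i, i < 63755 → P i := stepQ 63754 Q63754 (allL N63754 (tt N64795 (iv1 F355581)) (tt N99980 (iv0 F427054)) (tt N100494 (iv2 F429170)) (tt N75983 F366588) (tt N76558 F355582) (tt N34340 (iv5 D119865)) (tt N64631 (iv6 F356970)) (tt N44039 F189205))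
theorem Q63756 : ∀ i, i < 63756 → P i := stepQ 63755 Q63755 (allL N63755 (tt N35440 (iv1 F199953)) (tt N35433 (iv0 F199879)) (tt N35438 (iv2 F199916)) (tt N77034 (iv3 F241479)) (tt N90462 (iv4 F389740)) (tt N43214 (iv5 F189221)) (tt N34342 (iv6 D119874)) (tt N35439 (iv7 F199925)))
theorem Q63757 : ∀ i, i < 63757 → P i := stepQ 63756 Q63756 (allL N63756 (tt N49046 F337909) (tt N92603 (iv0 F397597)) (tt N43830 (iv2 F191129)) (tt N74354 (iv3 F334600)) (tt N34344 (iv4 D119877)) (tt N75432 F231491) (tt N74352 F350794) (tt N43832 (iv7 F190182)))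
theorem Q63758 : ∀ i, i < 63758 → P i := stepQ 63757 Q63757 (allL N63757 (tt N43108 F337192) (tt N45277 F337193) (tt N45276 F316411) (tt N34346 (iv3 D119881)) (tt N100426 (iv4 F428922)) (tt N64395 (iv5 F317910)) (tt N40833 F189234) (tt N44015 F189235))
theorem Q63759 : ∀ i, i < 63759 → P i := stepQ 63758 Q63758 (allL N63758 (tt N44007 (iv1 F189340)) (tt N44006 F189341) (tt N34352 F189338) (tt N85813 (iv3 F374068)) (tt N34349 (iv4 D119923)) (tt N49804 (iv5 F349331)) (tt N79058 F314943) (tt N42448 F314944))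
theorem Q63760 : ∀ i, i < 63760 → P i := stepQ 63759 Q63759 (allL N63759 (tt N43618 (iv1 F241777)) (tt N43842 F241778) (tt N43848 F240737) (tt N34350 (iv3 D119940)) (tt N34693 F324994) (tt N75478 (iv5 F233220)) (tt N41998 F232932) (tt N43849 (iv7 F240736)))
theorem Q63761 : ∀ i, i < 63761 → P i := stepQ 63760 Q63760 (allL N63760 (tt N40836 F314488) (tt N40942 F314489) (tt N40944 (iv2 F315921)) (tt N45223 F323333) (tt N62721 F323334) (tt N40653 F318372) (tt N34351 (iv6 D119948)) (tt N40895 (iv7 F315922)))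
theorem Q63762 : ∀ i, i < 63762 → P i := stepQ 63761 Q63761 (allL N63761 (tt N46024 F337873) (tt N41788 (iv0 F189375)) (tt N79058 F317054) (tt N46031 F317055) (tt N34353 F189374) (tt N92811 (iv5 F398336)) (tt N34352 (iv6 D119953)) (tt N42450 F317056))
theorem Q63763 : ∀ i, i < 63763 → P i := stepQ 63762 Q63762 (allL N63762 (tt N44020 (iv1 F189381)) (tt N34354 (iv0 D119970)) (tt N44019 F343013) (tt N75939 (iv3 F362056)) (tt N51504 F335779) (tt N68567 (iv5 F350177)) (tt N52582 F348987) (tt N44018 F343014))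
theorem Q63764 : ∀ i, i < 63764 → P i := stepQ 63763 Q63763 (allL N63763 (tt N34354 (iv1 D119971)) (tt N44020 F189385) (tt N44018 F343010) (tt N40615 F333340) (tt N51492 (iv4 F333375)) (tt N75634 F333336) (tt N40613 F333342) (tt N44019 F343011))
theorem Q63765 : ∀ i, i < 63765 → P i := stepQ 63764 Q63764 (allL N63764 (tt N44019 (iv1 F189386)) (tt N44018 F189384) (tt N34354 (iv2 D119972)) (tt N44048 F189382) (tt N92191 (iv4 F396172)) (tt N48478 F363049) (tt N46494 F363050) (tt N44020 F189383))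
theorem Q63766 : ∀ i, i < 63766 → P i := stepQ 63765 Q63765 (allL N63765 (tt N75684 (iv1 F357005)) (tt N54928 (iv0 F357004)) (tt N77741 F360752) (tt N34355 (iv3 D119981)) (tt N43366 F189404) (tt N42886 F189405) (tt N45604 F326220) (tt N42887 F189406))
theorem Q63767 : ∀ i, i < 63767 → P i := stepQ 63766 Q63766 (allL N63766 (tt N42979 (iv1 F189432)) (tt N34358 (iv0 D119994)) (tt N41438 (iv2 F189431)) (tt N61316 (iv3 F189434)) (tt N85274 (iv4 F372132)) (tt N41436 F189430) (tt N100218 (iv6 F428044)) (tt N44051 F189433))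
theorem Q63768 : ∀ i, i < 63768 → P i := stepQ 63767 Q63767 (allL N63767 (tt N62816 F314415) (tt N61311 (iv0 F322801)) (tt N55799 F189437) (tt N44960 F189438) (tt N86113 (iv4 F375146)) (tt N36326 F314417) (tt N34358 (iv6 D119996)) (tt N74924 F314418))
theorem Q63769 : ∀ i, i < 63769 → P i := stepQ 63768 Q63768 (allL N63768 (tt N76171 (iv1 F237229)) (tt N39869 F315863) (tt N76173 (iv2 F237237)) (tt N55348 F362975) (tt N34361 F189444) (tt N85416 (iv5 F372544)) (tt N34360 (iv6 D119999)) (tt N76172 F237235))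
theorem Q63770 : ∀ i, i < 63770 → P i := stepQ 63769 Q63769 (allL N63769 (tt N100167 (iv1 F427804)) (tt N34361 (iv0 D120000)) (tt N89188 (iv2 F385495)) (tt N43519 F361472) (tt N92594 (iv4 F397545)) (tt N69640 F342592) (tt N90409 (iv6 F389545)) (tt N48077 F361473))
theorem Q63771 : ∀ i, i < 63771 → P i := stepQ 63770 Q63770 (allL N63770 (tt N48077 (iv1 F232647)) (tt N89188 (iv0 F385499)) (tt N100167 (iv2 F427798)) (tt N34366 F189445) (tt N76172 (iv4 F237234)) (tt N73881 (iv5 F320355)) (tt N44061 F189446) (tt N34361 (iv7 D120001)))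
theorem Q63772 : ∀ i, i < 63772 → P i := stepQ 63771 Q63771 (allL N63771 (tt N66945 (iv1 F339300)) (tt N66907 (iv0 F339299)) (tt N66942 (iv2 F336304)) (tt N34363 F189453) (tt N55348 F329044) (tt N69336 F339295) (tt N34362 (iv6 D120005)) (tt N66943 (iv7 F339298)))
theorem Q63773 : ∀ i, i < 63773 → P i := stepQ 63772 Q63772 (allL N63772 (tt N41279 F322116) (tt N42330 (iv0 F189480)) (tt N44071 F189476) (tt N43348 F189477) (tt N70113 F341138) (tt N37370 F189478) (tt N34364 (iv6 D120009)) (tt N35424 F189479))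
theorem Q63774 : ∀ i, i < 63774 → P i := stepQ 63773 Q63773 (allL N63773 (tt N34391 F189489) (tt N42880 F189490) (tt N42879 F189486) (tt N88462 (iv3 F383148)) (tt N34365 (iv4 D120011)) (tt N45531 F320677) (tt N35425 F189487) (tt N42878 F189488))
theorem Q63775 : ∀ i, i < 63775 → P i := stepQ 63774 Q63774 (allL N63774 (tt N42948 (iv1 F189494)) (tt N34367 (iv0 D120012)) (tt N44089 (iv2 F189493)) (tt N91258 (iv3 F392433)) (tt N61377 F189492) (tt N55054 F330004) (tt N100503 D203645) (tt N44088 F189495))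
theorem Q63776 : ∀ i, i < 63776 → P i := stepQ 63775 Q63775 (allL N63775 (tt N100504 D203646) (tt N95399 (iv0 F408614)) (tt N100126 (iv2 F427584)) (tt N55064 F365670) (tt N34368 F189500) (tt N88064 (iv5 F381649)) (tt N34367 (iv6 D120015)) (tt N73707 (iv7 F366260)))
theorem Q63777 : ∀ i, i < 63777 → P i := stepQ 63776 Q63776 (allL N63776 (tt N34368 (iv1 D120017)) (tt N73659 F340827) (tt N69140 (iv2 F348143)) (tt N78311 F361611) (tt N100505 D203647) (tt N99610 (iv5 F425405)) (tt N73207 F345704) (tt N73640 F361612))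
theorem Q63778 : ∀ i, i < 63778 → P i := stepQ 63777 Q63777 (allL N63777 (tt N36600 F355176) (tt N36609 F355177) (tt N91355 (iv2 F392849)) (tt N34370 F189510) (tt N55064 (iv4 F365669)) (tt N100506 D203648) (tt N34369 (iv6 D120022)) (tt N81237 (iv7 F366386)))
theorem Q63779 : ∀ i, i < 63779 → P i := stepQ 63778 Q63778 (allL N63778 (tt N68044 F321965) (tt N38100 F321966) (tt N44082 F189512) (tt N100506 (iv3 F429228)) (tt N38360 F321967) (tt N34370 (iv5 D120025)) (tt N38095 F321968) (tt N68042 F321969))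
theorem Q63780 : ∀ i, i < 63780 → P i := stepQ 63779 Q63779 (allL N63779 (tt N44107 F207455) (tt N34382 F207456) (tt N44085 (iv2 F189578)) (tt N63542 F314138) (tt N34371 (iv4 D120029)) (tt N46403 F314139) (tt N45766 F314000) (tt N44087 (iv7 F189574)))
theorem Q63781 : ∀ i, i < 63781 → P i := stepQ 63780 Q63780 (allL N63780 (tt N68298 (iv1 F209492)) (tt N38162 (iv0 F189524)) (tt N44086 F189576) (tt N46576 F312780) (tt N68044 (iv4 F209045)) (tt N34371 (iv5 D120030)) (tt N46575 F312781) (tt N41053 F318425))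
theorem Q63782 : ∀ i, i < 63782 → P i := stepQ 63781 Q63781 (allL N63781 (tt N56065 F319487) (tt N34375 (iv0 D120038)) (tt N73415 (iv2 F326864)) (tt N73807 F350012) (tt N79083 F319489) (tt N41775 F319490) (tt N73870 (iv6 F348320)) (tt N64215 F319491))
theorem Q63783 : ∀ i, i < 63783 → P i := stepQ 63782 Q63782 (allL N63782 (tt N64215 (iv1 F350005)) (tt N73415 (iv0 F340842)) (tt N56065 (iv2 F340831)) (tt N34380 F189588) (tt N73254 (iv4 F340844)) (tt N56055 (iv5 F312517)) (tt N44076 F189589) (tt N34375 (iv7 D120040)))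
theorem Q63784 : ∀ i, i < 63784 → P i := stepQ 63783 Q63783 (allL N63783 (tt N97378 F416603) (tt N94029 (iv0 F402887)) (tt N91713 (iv2 F394144)) (tt N34377 F189597) (tt N48933 F329733) (tt N45747 F318577) (tt N34376 (iv6 D120044)) (tt N82436 F318578))
theorem Q63785 : ∀ i, i < 63785 → P i := stepQ 63784 Q63784 (allL N63784 (tt N44096 (iv1 F189604)) (tt N34377 (iv0 D120045)) (tt N44095 F189609) (tt N80645 F345510) (tt N36220 F321561) (tt N44940 F318532) (tt N69339 (iv6 F321971)) (tt N36215 F321562))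
theorem Q63786 : ∀ i, i < 63786 → P i := stepQ 63785 Q63785 (allL N63785 (tt N34377 (iv1 D120046)) (tt N44096 F189598) (tt N36215 (iv2 F319588)) (tt N81247 (iv3 F360723)) (tt N36209 F318530) (tt N35910 (iv5 F321494)) (tt N36207 F318531) (tt N44095 (iv7 F189611)))
theorem Q63787 : ∀ i, i < 63787 → P i := stepQ 63786 Q63786 (allL N63786 (tt N42065 (iv1 F231205)) (tt N43885 F231206) (tt N43884 F230863) (tt N34379 (iv3 D120050)) (tt N99494 (iv4 F424844)) (tt N78716 (iv5 F250378)) (tt N48097 F189620) (tt N43883 (iv7 F190311)))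
theorem Q63788 : ∀ i, i < 63788 → P i := stepQ 63787 Q63787 (allL N63787 (tt N44110 (iv1 F189628)) (tt N34381 (iv0 D120052)) (tt N44109 F336641) (tt N54933 F336642) (tt N58403 F336643) (tt N63792 (iv5 F338748)) (tt N57392 (iv6 F338745)) (tt N44108 F336644))
theorem Q63789 : ∀ i, i < 63789 → P i := stepQ 63788 Q63788 (allL N63788 (tt N44109 (iv1 F189633)) (tt N44108 F189631) (tt N34381 (iv2 D120054)) (tt N44103 F189629) (tt N55907 (iv4 F319215)) (tt N63800 (iv5 F189698)) (tt N100507 D203649) (tt N44110 F189630))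
theorem Q63790 : ∀ i, i < 63790 → P i := stepQ 63789 Q63789 (allL N63789 (tt N66494 F362315) (tt N77608 (iv0 F332366)) (tt N100507 (iv2 F429233)) (tt N34382 F189634) (tt N57386 (iv4 F314551)) (tt N100508 D203650) (tt N34381 (iv6 D120055)) (tt N66404 F362317))
theorem Q63791 : ∀ i, i < 63791 → P i := stepQ 63790 Q63790 (allL N63790 (tt N70558 F320666) (tt N38643 F320667) (tt N44106 F189636) (tt N100508 (iv3 F429238)) (tt N37391 F320668) (tt N34382 (iv5 D120058)) (tt N37390 F320669) (tt N70556 F320670))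
theorem Q63792 : ∀ i, i < 63792 → P i := stepQ 63791 Q63791 (allL N63791 (tt N44087 (iv1 F208511)) (tt N44085 (iv0 F208512)) (tt N44107 F189637) (tt N66404 F312223) (tt N36652 F189638) (tt N70556 (iv5 F319829)) (tt N40642 (iv6 F314545)) (tt N34382 (iv7 D120059)))
theorem Q63793 : ∀ i, i < 63793 → P i := stepQ 63792 Q63792 (allL N63792 (tt N44103 (iv1 F189643)) (tt N34383 (iv0 D120060)) (tt N44102 F338746) (tt N51218 F338747) (tt N100509 D203651) (tt N63787 F338748) (tt N48109 F338749) (tt N44101 F338750))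
theorem Q63794 : ∀ i, i < 63794 → P i := stepQ 63793 Q63793 (allL N63793 (tt N44102 (iv1 F189648)) (tt N44101 F189646) (tt N34383 (iv2 D120062)) (tt N44110 F189644) (tt N94327 (iv4 F404049)) (tt N39379 F325004) (tt N66400 (iv6 F346330)) (tt N44103 F189645))
theorem Q63795 : ∀ i, i < 63795 → P i := stepQ 63794 Q63794 (allL N63794 (tt N94204 F403692) (tt N94098 (iv0 F403195)) (tt N94327 (iv2 F404048)) (tt N36653 F189649) (tt N34383 (iv4 D120063)) (tt N100510 D203652) (tt N55980 (iv6 F346333)) (tt N44104 F189650))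
theorem Q63796 : ∀ i, i < 63796 → P i := stepQ 63795 Q63795 (allL N63795 (tt N100511 D203653) (tt N66251 (iv0 F359111)) (tt N66400 (iv2 F346329)) (tt N34384 F189651) (tt N55980 F346332) (tt N45928 F318522) (tt N34383 (iv6 D120064)) (tt N95795 (iv7 F409695)))
theorem Q63797 : ∀ i, i < 63797 → P i := stepQ 63796 Q63796 (allL N63796 (tt N98879 (iv1 F422678)) (tt N44261 F350660) (tt N77752 (iv2 F350658)) (tt N100512 D203654) (tt N34385 (iv4 D120069)) (tt N100513 D203655) (tt N81119 F347862) (tt N62047 (iv7 F350653)))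
theorem Q63798 : ∀ i, i < 63798 → P i := stepQ 63797 Q63797 (allL N63797 (tt N76157 F354181) (tt N42679 F354182) (tt N76156 F357013) (tt N81126 (iv3 F347864)) (tt N86259 (iv4 F375616)) (tt N34385 (iv5 D120070)) (tt N81538 F347863) (tt N76155 (iv7 F357012)))
theorem Q63799 : ∀ i, i < 63799 → P i := stepQ 63798 Q63798 (allL N63798 (tt N54931 F347877) (tt N54933 F347878) (tt N51226 F347879) (tt N34386 (iv3 D120073)) (tt N48953 F347880) (tt N48944 F347881) (tt N60092 (iv6 F347900)) (tt N55003 F347883))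
theorem Q63800 : ∀ i, i < 63800 → P i := stepQ 63799 Q63799 (allL N63799 (tt N42679 F354179) (tt N76157 F354180) (tt N76155 (iv2 F357009)) (tt N48944 F354185) (tt N85890 F374328) (tt N34386 (iv5 D120075)) (tt N45778 F347901) (tt N76156 F357014))
theorem Q63801 : ∀ i, i < 63801 → P i := stepQ 63800 Q63800 (allL N63800 (tt N44131 (iv1 F189702)) (tt N39405 (iv0 F323329)) (tt N34390 (iv2 D120093)) (tt N36058 F324657) (tt N92376 (iv4 F396859)) (tt N63788 F189698) (tt N94066 (iv6 F403046)) (tt N44132 F189699))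
theorem Q63802 : ∀ i, i < 63802 → P i := stepQ 63801 Q63801 (allL N63801 (tt N100514 D203656) (tt N100515 D203657) (tt N94066 (iv2 F403044)) (tt N34391 F189703) (tt N100040 (iv4 F427336)) (tt N68297 F359169) (tt N34390 (iv6 D120094)) (tt N79623 (iv7 F359170)))
theorem Q63803 : ∀ i, i < 63803 → P i := stepQ 63802 Q63802 (allL N63802 (tt N48567 F307171) (tt N36479 F241037) (tt N77089 (iv2 F241560)) (tt N34392 (iv3 D120097)) (tt N76970 (iv4 F241035)) (tt N48474 (iv5 F308733)) (tt N72749 F366105) (tt N42876 F189713))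
theorem Q63804 : ∀ i, i < 63804 → P i := stepQ 63803 Q63803 (allL N63803 (tt N88226 (iv1 F382263)) (tt N34396 (iv0 D120100)) (tt N87886 (iv2 F380961)) (tt N42187 F355310) (tt N79924 F355308) (tt N73814 F355311) (tt N42184 F355312) (tt N88227 (iv7 F382268)))
theorem Q63805 : ∀ i, i < 63805 → P i := stepQ 63804 Q63804 (allL N63804 (tt N41999 F359662) (tt N100516 D203658) (tt N87092 (iv2 F378346)) (tt N78937 (iv3 F251444)) (tt N52325 F359663) (tt N34396 (iv5 D120102)) (tt N87916 (iv6 F381102)) (tt N87090 (iv7 F378341)))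
theorem Q63806 : ∀ i, i < 63806 → P i := stepQ 63805 Q63805 (allL N63805 (tt N88227 (iv1 F382269)) (tt N87886 (iv0 F380966)) (tt N88226 (iv2 F382262)) (tt N78938 (iv3 F251445)) (tt N34399 F189724) (tt N87090 (iv5 F378342)) (tt N75690 (iv6 F233441)) (tt N34396 (iv7 D120103)))
theorem Q63807 : ∀ i, i < 63807 → P i := stepQ 63806 Q63806 (allL N63806 (tt N81460 (iv1 F363615)) (tt N75976 (iv0 F235007)) (tt N79992 (iv2 F259268)) (tt N34397 (iv3 D120105)) (tt N41041 F315728) (tt N100517 D203659) (tt N41040 F315729) (tt N98300 (iv7 F420400)))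
theorem Q63808 : ∀ i, i < 63808 → P i := stepQ 63807 Q63807 (allL N63807 (tt N75912 F313223) (tt N63405 (iv0 F333599)) (tt N72736 F334446) (tt N36382 F313224) (tt N34397 (iv4 D120106)) (tt N40638 F320020) (tt N36380 F313226) (tt N74849 F320021))
theorem Q63809 : ∀ i, i < 63809 → P i := stepQ 63808 Q63808 (allL N63808 (tt N98403 F420811) (tt N98411 (iv0 F420854)) (tt N98355 (iv2 F420623)) (tt N100517 (iv3 F429279)) (tt N97351 (iv4 F416460)) (tt N34397 (iv5 D120107)) (tt N100518 D203660) (tt N98356 (iv7 F420628)))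
theorem Q63810 : ∀ i, i < 63810 → P i := stepQ 63809 Q63809 (allL N63809 (tt N41400 F349973) (tt N98276 F420291) (tt N72743 (iv2 F334444)) (tt N41040 F315726) (tt N36380 F315727) (tt N98348 (iv5 F420594)) (tt N34397 (iv6 D120108)) (tt N92586 (iv7 F397503)))
theorem Q63811 : ∀ i, i < 63811 → P i := stepQ 63810 Q63810 (allL N63810 (tt N63405 F261876) (tt N75912 (iv0 F333606)) (tt N74849 (iv2 F317836)) (tt N72745 F333602) (tt N34398 (iv4 D120111)) (tt N72737 (iv5 F333601)) (tt N68517 (iv6 F333600)) (tt N72736 F333603))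
theorem Q63812 : ∀ i, i < 63812 → P i := stepQ 63811 Q63811 (allL N63811 (tt N98411 (iv1 F420855)) (tt N98403 (iv0 F420809)) (tt N98356 (iv2 F420625)) (tt N79994 (iv3 F259286)) (tt N97352 F420810) (tt N34398 (iv5 D120112)) (tt N100519 D203661) (tt N98355 (iv7 F420624)))
theorem Q63813 : ∀ i, i < 63813 → P i := stepQ 63812 Q63812 (allL N63812 (tt N81311 F339765) (tt N74883 (iv0 F339776)) (tt N98319 (iv2 F420489)) (tt N79995 (iv3 F259287)) (tt N68517 F339764) (tt N79007 (iv5 F339763)) (tt N34398 (iv6 D120113)) (tt N98320 (iv7 F420491)))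
theorem Q63814 : ∀ i, i < 63814 → P i := stepQ 63813 Q63813 (allL N63813 (tt N76373 (iv1 F251563)) (tt N45232 (iv0 F189728)) (tt N76359 F238456) (tt N77206 F336933) (tt N34400 (iv4 D120115)) (tt N38421 F355304) (tt N100520 D203662) (tt N76362 (iv7 F238462)))
theorem Q63815 : ∀ i, i < 63815 → P i := stepQ 63814 Q63814 (allL N63814 (tt N86845 (iv1 F377399)) (tt N86844 F377398) (tt N76360 (iv2 F238450)) (tt N34401 F189729) (tt N92951 (iv4 F398884)) (tt N34400 (iv5 D120116)) (tt N100521 D203663) (tt N76363 F238447))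
theorem Q63816 : ∀ i, i < 63816 → P i := stepQ 63815 Q63815 (allL N63815 (tt N76316 (iv1 F363932)) (tt N76394 (iv0 F363931)) (tt N76361 F238457) (tt N34402 F189730) (tt N100520 (iv4 F429295)) (tt N61532 (iv5 F189731)) (tt N34400 (iv6 D120117)) (tt N76392 F238514))
theorem Q63817 : ∀ i, i < 63817 → P i := stepQ 63816 Q63816 (allL N63816 (tt N79948 (iv1 F259061)) (tt N94013 (iv0 F402821)) (tt N79893 (iv2 F258815)) (tt N92952 (iv3 F398883)) (tt N34401 (iv4 D120118)) (tt N93032 (iv5 F399189)) (tt N100522 D203664) (tt N79896 (iv7 F258828)))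
theorem Q63818 : ∀ i, i < 63818 → P i := stepQ 63817 Q63817 (allL N63817 (tt N86862 (iv1 F377477)) (tt N86861 F377474) (tt N79894 (iv2 F258817)) (tt N100521 (iv3 F429300)) (tt N100522 (iv4 F429309)) (tt N61534 F189733) (tt N34401 (iv6 D120119)) (tt N86858 (iv7 F377461)))
theorem Q63819 : ∀ i, i < 63819 → P i := stepQ 63818 Q63818 (allL N63818 (tt N94013 F402822) (tt N79948 (iv0 F259060)) (tt N79896 (iv2 F258827)) (tt N100523 D203665) (tt N34404 (iv4 D120121)) (tt N93183 (iv5 F399845)) (tt N54881 (iv6 F367149)) (tt N79893 (iv7 F258816)))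
theorem Q63820 : ∀ i, i < 63820 → P i := stepQ 63819 Q63819 (allL N63819 (tt N59726 (iv1 F360270)) (tt N63225 F189735) (tt N69410 (iv2 F214255)) (tt N100524 D203666) (tt N34408 (iv4 D120122)) (tt N95882 (iv5 F410076)) (tt N100525 D203667) (tt N100526 D203668))
theorem Q63821 : ∀ i, i < 63821 → P i := stepQ 63820 Q63820 (allL N63820 (tt N70609 F327994) (tt N38129 F327995) (tt N69411 (iv2 F214257)) (tt N88816 (iv3 F384237)) (tt N100525 (iv4 F429321)) (tt N38857 F327996) (tt N34408 (iv6 D120123)) (tt N70607 F327997))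
theorem Q63822 : ∀ i, i < 63822 → P i := stepQ 63821 Q63821 (allL N63821 (tt N37535 (iv1 F189738)) (tt N60172 F189739) (tt N34413 F189736) (tt N69477 (iv3 F214468)) (tt N100526 (iv4 F429325)) (tt N34409 F189737) (tt N76431 F355203) (tt N34408 (iv7 D120124)))
theorem Q63823 : ∀ i, i < 63823 → P i := stepQ 63822 Q63822 (allL N63822 (tt N34414 (iv1 F189743)) (tt N34410 (iv0 D120125)) (tt N46986 (iv2 F314277)) (tt N69236 (iv3 F213514)) (tt N37538 F189741) (tt N63246 F189740) (tt N69231 F213497) (tt N37536 (iv7 F189742)))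
theorem Q63824 : ∀ i, i < 63824 → P i := stepQ 63823 Q63823 (allL N63823 (tt N34410 (iv1 D120126)) (tt N34414 F189744) (tt N37536 (iv2 F189746)) (tt N46978 F312060) (tt N37533 F189745) (tt N59463 (iv5 F344956)) (tt N59464 (iv6 F351640)) (tt N46986 (iv7 F314278)))
theorem Q63825 : ∀ i, i < 63825 → P i := stepQ 63824 Q63824 (allL N63824 (tt N68502 (iv1 F210721)) (tt N79990 F336413) (tt N68402 (iv2 F210098)) (tt N47264 F314266) (tt N95883 (iv4 F410085)) (tt N34410 (iv5 D120128)) (tt N100395 (iv6 F428782)) (tt N100143 (iv7 F427672)))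
theorem Q63826 : ∀ i, i < 63826 → P i := stepQ 63825 Q63825 (allL N63825 (tt N37536 (iv1 F189752)) (tt N46986 F315051) (tt N34414 F189750) (tt N47007 (iv3 F317258)) (tt N34412 F189751) (tt N100143 (iv5 F427666)) (tt N100527 D203669) (tt N34410 (iv7 D120130)))
theorem Q63827 : ∀ i, i < 63827 → P i := stepQ 63826 Q63826 (allL N63826 (tt N63221 F189762) (tt N44511 (iv0 F189763)) (tt N34415 F189760) (tt N68403 (iv3 F210112)) (tt N100527 (iv4 F429334)) (tt N63193 F189761) (tt N34412 (iv6 D120133)) (tt N46108 F340839))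
theorem Q63828 : ∀ i, i < 63828 → P i := stepQ 63827 Q63827 (allL N63827 (tt N63225 F189764) (tt N59726 (iv0 F360269)) (tt N100526 (iv2 F429324)) (tt N100528 D203670) (tt N34413 (iv4 D120134)) (tt N95883 (iv5 F410084)) (tt N100529 D203671) (tt N69410 (iv7 F214256)))
theorem Q63829 : ∀ i, i < 63829 → P i := stepQ 63828 Q63828 (allL N63828 (tt N76432 F355201) (tt N60342 F355202) (tt N76431 (iv2 F355204)) (tt N37278 F189766) (tt N100529 (iv4 F429342)) (tt N76628 (iv5 F239586)) (tt N34413 (iv6 D120135)) (tt N76430 (iv7 F362774)))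
theorem Q63830 : ∀ i, i < 63830 → P i := stepQ 63829 Q63829 (allL N63829 (tt N47404 F315820) (tt N47361 F315821) (tt N47403 (iv2 F318041)) (tt N34414 (iv3 D120136)) (tt N37070 F189767) (tt N99849 (iv5 F426517)) (tt N66429 (iv6 F331897)) (tt N47345 F314813))
theorem Q63831 : ∀ i, i < 63831 → P i := stepQ 63830 Q63830 (allL N63830 (tt N79990 (iv1 F336414)) (tt N68502 (iv0 F210720)) (tt N100143 F427670) (tt N99849 F426519) (tt N95882 (iv4 F410077)) (tt N34414 (iv5 D120137)) (tt N100530 D203672) (tt N68402 (iv7 F210099)))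
theorem Q63832 : ∀ i, i < 63832 → P i := stepQ 63831 Q63831 (allL N63831 (tt N81687 F331890) (tt N81684 (iv0 F362751)) (tt N100527 (iv2 F429332)) (tt N66429 (iv3 F331895)) (tt N34415 F189768) (tt N66428 F364930) (tt N34414 (iv6 D120138)) (tt N100392 (iv7 F428765)))
theorem Q63833 : ∀ i, i < 63833 → P i := stepQ 63832 Q63832 (allL N63832 (tt N34415 (iv1 D120139)) (tt N46108 F331878) (tt N44511 (iv2 F189770)) (tt N44516 F240173) (tt N45591 F331884) (tt N41285 F348141) (tt N90251 (iv6 F389112)) (tt N63221 F189769))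
theorem Q63834 : ∀ i, i < 63834 → P i := stepQ 63833 Q63833 (allL N63833 (tt N44511 (iv1 F189774)) (tt N63221 F189775) (tt N46108 F309656) (tt N37371 F189771) (tt N100392 (iv4 F428764)) (tt N40819 F322334) (tt N45306 F309657) (tt N34415 (iv7 D120140)))
theorem Q63835 : ∀ i, i < 63835 → P i := stepQ 63834 Q63834 (allL N63834 (tt N94123 F403319) (tt N37863 F215118) (tt N80195 (iv2 F330738)) (tt N44828 F311404) (tt N75823 (iv4 F234285)) (tt N80189 (iv5 F350682)) (tt N34417 (iv6 D120146)) (tt N45421 F311406))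
theorem Q63836 : ∀ i, i < 63836 → P i := stepQ 63835 Q63835 (allL N63835 (tt N34418 (iv1 D120148)) (tt N44425 (iv0 F189778)) (tt N44429 F212693) (tt N80913 F361340) (tt N57686 (iv4 F189777)) (tt N82069 F311314) (tt N67637 (iv6 F313815)) (tt N44430 F212691))
theorem Q63837 : ∀ i, i < 63837 → P i := stepQ 63836 Q63836 (allL N63836 (tt N44430 (iv1 F189782)) (tt N44429 F189781) (tt N34418 (iv2 D120149)) (tt N38645 F209863) (tt N34425 F189779) (tt N100369 (iv5 F428632)) (tt N34442 (iv6 F312189)) (tt N44425 F189780))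
theorem Q63838 : ∀ i, i < 63838 → P i := stepQ 63837 Q63837 (allL N63837 (tt N47946 F311316) (tt N47993 F311317) (tt N100369 (iv2 F428636)) (tt N34419 F189783) (tt N47424 F311318) (tt N34418 (iv5 D120150)) (tt N66912 (iv6 F342216)) (tt N44431 F189784))
theorem Q63839 : ∀ i, i < 63839 → P i := stepQ 63838 Q63838 (allL N63838 (tt N34419 (iv1 D120153)) (tt N87469 F379444) (tt N75462 (iv2 F342254)) (tt N47021 F312213) (tt N87125 (iv4 F378441)) (tt N47020 F312214) (tt N65842 (iv6 F342265)) (tt N47071 F312215))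
theorem Q63840 : ∀ i, i < 63840 → P i := stepQ 63839 Q63839 (allL N63839 (tt N95883 (iv1 F410082)) (tt N95882 F410078) (tt N48757 F363165) (tt N51711 F363166) (tt N34419 (iv4 D120154)) (tt N76419 (iv5 F238564)) (tt N48753 F363167) (tt N95874 (iv7 F410044)))
theorem Q63841 : ∀ i, i < 63841 → P i := stepQ 63840 Q63840 (allL N63840 (tt N38641 (iv1 F209872)) (tt N34420 (iv0 D120156)) (tt N46818 F314774) (tt N88491 (iv3 F383260)) (tt N75821 (iv4 F234273)) (tt N67636 (iv5 F318556)) (tt N37861 (iv6 F212262)) (tt N46817 F314775))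
theorem Q63842 : ∀ i, i < 63842 → P i := stepQ 63841 Q63841 (allL N63841 (tt N63641 F332067) (tt N63561 (iv0 F346710)) (tt N63642 (iv2 F316912)) (tt N66913 (iv3 F307776)) (tt N63522 (iv4 F308895)) (tt N34420 (iv5 D120158)) (tt N63659 (iv6 F332070)) (tt N63520 F344899))
theorem Q63843 : ∀ i, i < 63843 → P i := stepQ 63842 Q63842 (allL N63842 (tt N46817 F314771) (tt N46818 F314772) (tt N38641 F209868) (tt N34444 F314773) (tt N34423 F189790) (tt N63520 (iv5 F344897)) (tt N88511 (iv6 F383337)) (tt N34420 (iv7 D120159)))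
theorem Q63844 : ∀ i, i < 63844 → P i := stepQ 63843 Q63843 (allL N63843 (tt N43130 (iv1 F232777)) (tt N43016 (iv0 F232778)) (tt N37443 F189791) (tt N34421 (iv3 D120160)) (tt N80591 (iv4 F335241)) (tt N63633 F189792) (tt N82038 (iv6 F363120)) (tt N43129 (iv7 F232713)))
theorem Q63845 : ∀ i, i < 63845 → P i := stepQ 63844 Q63844 (allL N63844 (tt N63618 F319077) (tt N100136 (iv0 F427636)) (tt N69576 (iv2 F214917)) (tt N44807 F319078) (tt N34421 (iv4 D120161)) (tt N34440 F319079) (tt N67930 (iv6 F212299)) (tt N34439 F319080))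
theorem Q63846 : ∀ i, i < 63846 → P i := stepQ 63845 Q63845 (allL N63845 (tt N37862 F212296) (tt N67753 F212297) (tt N67756 (iv2 F207745)) (tt N82038 F363118) (tt N67930 F212298) (tt N69610 (iv5 F215089)) (tt N34421 (iv6 D120162)) (tt N67757 (iv7 F207749)))
theorem Q63847 : ∀ i, i < 63847 → P i := stepQ 63846 Q63846 (allL N63846 (tt N47421 F311308) (tt N47417 F311309) (tt N44427 F313694) (tt N83232 (iv3 F363114)) (tt N34424 (iv4 D120172)) (tt N81290 F311310) (tt N77584 F311311) (tt N44428 F313695))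
theorem Q63848 : ∀ i, i < 63848 → P i := stepQ 63847 Q63847 (allL N63847 (tt N71936 (iv1 F362501)) (tt N68523 (iv0 F210757)) (tt N69574 (iv2 F214911)) (tt N43467 F311979) (tt N34427 (iv4 D120182)) (tt N88622 (iv5 F383624)) (tt N100531 D203673) (tt N43464 F311980))
theorem Q63849 : ∀ i, i < 63849 → P i := stepQ 63848 Q63848 (allL N63848 (tt N73985 (iv1 F318434)) (tt N52378 (iv0 F309762)) (tt N69575 (iv2 F214913)) (tt N34428 F189821) (tt N100531 (iv4 F429354)) (tt N37487 F189822) (tt N34427 (iv6 D120183)) (tt N42694 F308206))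
theorem Q63850 : ∀ i, i < 63850 → P i := stepQ 63849 Q63849 (allL N63849 (tt N62776 F189830) (tt N74995 F230033) (tt N44554 F200123) (tt N100315 (iv3 F428396)) (tt N75677 (iv4 F233420)) (tt N34430 (iv5 D120187)) (tt N72687 (iv6 F313194)) (tt N44555 (iv7 F200119)))
theorem Q63851 : ∀ i, i < 63851 → P i := stepQ 63850 Q63850 (allL N63850 (tt N44491 F335006) (tt N77630 F335007) (tt N79096 (iv2 F252503)) (tt N34431 (iv3 D120190)) (tt N72401 (iv4 F247312)) (tt N92576 (iv5 F397448)) (tt N72241 (iv6 F313671)) (tt N44553 F200164))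
theorem Q63852 : ∀ i, i < 63852 → P i := stepQ 63851 Q63851 (allL N63851 (tt N74995 (iv1 F230034)) (tt N62776 (iv0 F189838)) (tt N44555 (iv2 F200120)) (tt N92576 (iv3 F397446)) (tt N42141 F334587) (tt N34431 (iv5 D120191)) (tt N39990 F316153) (tt N44554 (iv7 F200122)))
theorem Q63853 : ∀ i, i < 63853 → P i := stepQ 63852 Q63852 (allL N63852 (tt N61466 (iv1 F189845)) (tt N46010 (iv0 F189844)) (tt N64765 (iv2 F198284)) (tt N34432 (iv3 D120193)) (tt N34927 F189842) (tt N79363 (iv5 F254533)) (tt N63549 F189843) (tt N64037 (iv7 F192348)))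
theorem Q63854 : ∀ i, i < 63854 → P i := stepQ 63853 Q63853 (allL N63853 (tt N100532 D203674) (tt N52835 (iv0 F191350)) (tt N44776 F189854) (tt N66884 F340276) (tt N74527 (iv4 F346957)) (tt N34434 (iv5 D120196)) (tt N47376 F189855) (tt N66878 (iv7 F350693)))
theorem Q63855 : ∀ i, i < 63855 → P i := stepQ 63854 Q63854 (allL N63854 (tt N63866 (iv1 F356182)) (tt N63862 (iv0 F335250)) (tt N100306 (iv2 F428352)) (tt N68026 F334231) (tt N48419 F332074) (tt N34437 (iv5 D120206)) (tt N48418 F332075) (tt N100307 (iv7 F428360)))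
theorem Q63856 : ∀ i, i < 63856 → P i := stepQ 63855 Q63855 (allL N63855 (tt N44428 (iv1 F313587)) (tt N44427 (iv0 F313581)) (tt N47421 F234230) (tt N42436 F303438) (tt N75819 (iv4 F234269)) (tt N47369 F191403) (tt N34437 (iv6 D120207)) (tt N47417 (iv7 F234233)))
theorem Q63857 : ∀ i, i < 63857 → P i := stepQ 63856 Q63856 (allL N63856 (tt N76547 F353092) (tt N100533 D203675) (tt N68024 (iv2 F366822)) (tt N34438 (iv3 D120209)) (tt N70102 (iv4 F353097)) (tt N80638 (iv5 F335265)) (tt N100534 D203676) (tt N100147 F427697))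
theorem Q63858 : ∀ i, i < 63858 → P i := stepQ 63857 Q63857 (allL N63857 (tt N63862 F344902) (tt N63866 (iv0 F364464)) (tt N100307 (iv2 F428358)) (tt N80638 F335264) (tt N79534 F335260) (tt N34438 (iv5 D120211)) (tt N80635 (iv6 F335263)) (tt N100306 (iv7 F428355)))
theorem Q63859 : ∀ i, i < 63859 → P i := stepQ 63858 Q63858 (allL N63858 (tt N77578 F243742) (tt N81277 (iv0 F334086)) (tt N100281 (iv2 F428241)) (tt N100534 (iv3 F429371)) (tt N75820 (iv4 F234272)) (tt N100375 (iv5 F428662)) (tt N34438 (iv6 D120212)) (tt N100282 (iv7 F428244)))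
theorem Q63860 : ∀ i, i < 63860 → P i := stepQ 63859 Q63859 (allL N63859 (tt N34439 (iv1 D120214)) (tt N69576 F335246) (tt N63618 F191407) (tt N100304 F428342) (tt N52384 F335251) (tt N63511 (iv5 F191406)) (tt N100144 (iv6 F427680)) (tt N100136 (iv7 F427638)))
theorem Q63861 : ∀ i, i < 63861 → P i := stepQ 63860 Q63860 (allL N63860 (tt N43749 F307853) (tt N76447 F307854) (tt N44549 (iv2 F311602)) (tt N34443 F191417) (tt N64540 F307855) (tt N34441 (iv5 D120220)) (tt N72344 F309941) (tt N64547 (iv7 F307792)))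
theorem Q63862 : ∀ i, i < 63862 → P i := stepQ 63861 Q63861 (allL N63861 (tt N45678 F332058) (tt N66970 F332059) (tt N66913 F314480) (tt N38644 F314481) (tt N63568 F314482) (tt N34442 (iv5 D120223)) (tt N45641 F314483) (tt N70554 F314484))
theorem Q63863 : ∀ i, i < 63863 → P i := stepQ 63862 Q63862 (allL N63862 (tt N63854 F335250) (tt N63857 (iv0 F344902)) (tt N100308 (iv2 F428363)) (tt N47281 F356166) (tt N34443 (iv4 D120225)) (tt N63617 (iv5 F346712)) (tt N47278 F356167) (tt N77615 (iv7 F356180)))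
theorem Q63864 : ∀ i, i < 63864 → P i := stepQ 63863 Q63863 (allL N63863 (tt N43995 F309663) (tt N43997 (iv0 F311857)) (tt N43994 (iv2 F310278)) (tt N72344 F314268) (tt N47278 F309664) (tt N44416 F314269) (tt N34443 (iv6 D120226)) (tt N43993 F309665))
theorem Q63865 : ∀ i, i < 63865 → P i := stepQ 63864 Q63864 (allL N63864 (tt N66970 F332076) (tt N45678 F332077) (tt N70554 (iv2 F332080)) (tt N63520 F344898) (tt N63651 F332078) (tt N34444 (iv5 D120228)) (tt N52778 (iv6 F332081)) (tt N66913 F332079))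
theorem Q63866 : ∀ i, i < 63866 → P i := stepQ 63865 Q63865 (allL N63865 (tt N82053 (iv1 F278188)) (tt N82056 (iv0 F278194)) (tt N70555 F315908) (tt N88511 (iv3 F383335)) (tt N34446 F191429) (tt N100370 (iv5 F428637)) (tt N34444 (iv6 D120229)) (tt N44432 F315909))
theorem Q63867 : ∀ i, i < 63867 → P i := stepQ 63866 Q63866 (allL N63866 (tt N63857 F364464) (tt N63854 F356182) (tt N77615 (iv2 F356181)) (tt N47082 F306288) (tt N34445 (iv4 D120230)) (tt N63567 F332069) (tt N68407 (iv6 F210132)) (tt N100308 (iv7 F428367)))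
theorem Q63868 : ∀ i, i < 63868 → P i := stepQ 63867 Q63867 (allL N63867 (tt N83190 F342370) (tt N100498 (iv0 F429201)) (tt N80001 (iv2 F259336)) (tt N41564 F323320) (tt N100535 D203677) (tt N34447 (iv5 D120231)) (tt N79624 (iv6 F353520)) (tt N44586 F191431))
theorem Q63869 : ∀ i, i < 63869 → P i := stepQ 63868 Q63868 (allL N63868 (tt N52934 (iv1 F366233)) (tt N52940 (iv0 F366231)) (tt N52938 (iv2 F319954)) (tt N43709 F314090) (tt N34448 (iv4 D120233)) (tt N71935 (iv5 F362505)) (tt N43707 F314091) (tt N44589 F191435))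
theorem Q63870 : ∀ i, i < 63870 → P i := stepQ 63869 Q63869 (allL N63869 (tt N48503 F312451) (tt N44497 (iv0 F233138)) (tt N68399 (iv2 F210084)) (tt N34454 F191467) (tt N47941 F309784) (tt N73939 F356516) (tt N34451 (iv6 D120256)) (tt N69580 (iv7 F214972)))
theorem Q63871 : ∀ i, i < 63871 → P i := stepQ 63870 Q63870 (allL N63870 (tt N45619 F191475) (tt N45618 F191476) (tt N45537 F191472) (tt N45608 F191473) (tt N78743 (iv4 F302041)) (tt N34455 (iv5 D120261)) (tt N54842 (iv6 F299280)) (tt N45615 F191474))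
theorem Q63872 : ∀ i, i < 63872 → P i := stepQ 63871 Q63871 (allL N63871 (tt N35225 F191496) (tt N35223 F191497) (tt N63888 F191551) (tt N58669 (iv3 F365871)) (tt N45633 F191495) (tt N34457 (iv5 D120266)) (tt N100536 D203678) (tt N45633 F191494))
theorem Q63873 : ∀ i, i < 63873 → P i := stepQ 63872 Q63872 (allL N63872 (tt N79237 F253665) (tt N96377 F412300) (tt N96338 (iv2 F412118)) (tt N34458 (iv3 D120267)) (tt N48329 F191498) (tt N100537 D203679) (tt N100538 D203680) (tt N79132 (iv7 F253100)))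
theorem Q63874 : ∀ i, i < 63874 → P i := stepQ 63873 Q63873 (allL N63873 (tt N35223 F191500) (tt N35225 F191501) (tt N45633 F191499) (tt N100537 (iv3 F429385)) (tt N63888 (iv4 F191550)) (tt N34458 (iv5 D120268)) (tt N100539 D203681) (tt N63888 (iv7 F191553)))
theorem Q63875 : ∀ i, i < 63875 → P i := stepQ 63874 Q63874 (allL N63874 (tt N35213 F191505) (tt N35215 (iv0 F191504)) (tt N45634 F191502) (tt N100538 (iv3 F429386)) (tt N34838 F191503) (tt N47896 F297435) (tt N34458 (iv6 D120269)) (tt N65049 F297436))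
theorem Q63876 : ∀ i, i < 63876 → P i := stepQ 63875 Q63875 (allL N63875 (tt N79193 (iv1 F253402)) (tt N34459 (iv0 D120270)) (tt N79192 (iv2 F412093)) (tt N100540 D203682) (tt N100541 D203683) (tt N100542 D203684) (tt N100543 D203685) (tt N79191 F412092))
theorem Q63877 : ∀ i, i < 63877 → P i := stepQ 63876 Q63876 (allL N63876 (tt N34459 (iv1 D120271)) (tt N79193 F253404) (tt N79191 F412090) (tt N96360 (iv3 F429419)) (tt N100544 D203687) (tt N87988 (iv5 F412089)) (tt N100545 D203688) (tt N79192 (iv7 F412091)))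
theorem Q63878 : ∀ i, i < 63878 → P i := stepQ 63877 Q63877 (allL N63877 (tt N79192 (iv1 F253403)) (tt N79191 F253399) (tt N34459 (iv2 D120272)) (tt N79135 (iv3 F253106)) (tt N80218 (iv4 F262172)) (tt N100546 D203689) (tt N64584 (iv6 F197649)) (tt N79193 (iv7 F253401)))
theorem Q63879 : ∀ i, i < 63879 → P i := stepQ 63878 Q63878 (allL N63878 (tt N100547 D203690) (tt N100548 D203691) (tt N100546 (iv2 F429426)) (tt N34460 F191506) (tt N100549 D203692) (tt N34459 (iv5 D120273)) (tt N96664 (iv6 F413362)) (tt N79194 (iv7 F253406)))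
theorem Q63880 : ∀ i, i < 63880 → P i := stepQ 63879 Q63879 (allL N63879 (tt N35229 (iv1 F191509)) (tt N34460 (iv0 D120274)) (tt N64955 (iv2 F198719)) (tt N59764 F365866) (tt N45628 F191508) (tt N34466 F191507) (tt N73518 F362691) (tt N45628 (iv7 F191510)))
theorem Q63881 : ∀ i, i < 63881 → P i := stepQ 63880 Q63880 (allL N63880 (tt N34460 (iv1 D120275)) (tt N35229 F191511) (tt N45628 (iv2 F191513)) (tt N93401 (iv3 F400643)) (tt N64955 (iv4 F198720)) (tt N34465 F191512) (tt N93399 (iv6 F400639)) (tt N64955 (iv7 F198721)))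
theorem Q63882 : ∀ i, i < 63882 → P i := stepQ 63881 Q63881 (allL N63881 (tt N45540 F298974) (tt N45539 F298975) (tt N34727 F191520) (tt N64366 F298976) (tt N65406 (iv4 F301636)) (tt N34461 (iv5 D120280)) (tt N52800 F298977) (tt N34768 F298978))
theorem Q63883 : ∀ i, i < 63883 → P i := stepQ 63882 Q63882 (allL N63882 (tt N35022 F191533) (tt N35024 F191532) (tt N45940 F191530) (tt N91508 (iv3 F393420)) (tt N34462 (iv4 D120284)) (tt N62183 F344441) (tt N34464 F191531) (tt N47911 (iv7 F191535)))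
theorem Q63884 : ∀ i, i < 63884 → P i := stepQ 63883 Q63883 (allL N63883 (tt N94887 (iv1 F406249)) (tt N94678 (iv0 F405493)) (tt N94886 F406243) (tt N34464 (iv3 D120286)) (tt N45407 F191540) (tt N79215 (iv5 F253469)) (tt N91508 (iv6 F393421)) (tt N45941 F191541))
theorem Q63885 : ∀ i, i < 63885 → P i := stepQ 63884 Q63884 (allL N63884 (tt N64963 (iv1 F198744)) (tt N34467 (iv0 D120291)) (tt N64962 (iv2 F261329)) (tt N97762 F418205) (tt N80077 (iv4 F261369)) (tt N100550 D203693) (tt N80971 (iv6 F365183)) (tt N64961 (iv7 F261331)))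
theorem Q63886 : ∀ i, i < 63886 → P i := stepQ 63885 Q63885 (allL N63885 (tt N34467 (iv1 D120292)) (tt N64963 F198746) (tt N64961 F261330) (tt N79820 (iv3 F280697)) (tt N79777 F330794) (tt N100551 D203694) (tt N44665 F330795) (tt N64962 F261328))
theorem Q63887 : ∀ i, i < 63887 → P i := stepQ 63886 Q63886 (allL N63886 (tt N64962 (iv1 F198745)) (tt N64961 F198741) (tt N34467 (iv2 D120293)) (tt N64958 (iv3 F198728)) (tt N67940 F341827) (tt N100552 D203695) (tt N64619 (iv6 F197909)) (tt N64963 (iv7 F198743)))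
theorem Q63888 : ∀ i, i < 63888 → P i := stepQ 63887 Q63887 (allL N63887 (tt N100553 D203696) (tt N100554 D203697) (tt N100552 (iv2 F429437)) (tt N34468 F191548) (tt N81188 F413102) (tt N34467 (iv5 D120294)) (tt N100555 D203698) (tt N64964 (iv7 F198748)))
theorem Q63889 : ∀ i, i < 63889 → P i := stepQ 63888 Q63888 (allL N63888 (tt N45365 (iv1 F191552)) (tt N34468 (iv0 D120295)) (tt N63871 (iv2 F191551)) (tt N100556 D203699) (tt N63873 F191550) (tt N45328 F191549) (tt N100557 D203700) (tt N63873 F191553))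
theorem Q63890 : ∀ i, i < 63890 → P i := stepQ 63889 Q63889 (allL N63889 (tt N40711 F341376) (tt N40707 F341377) (tt N64960 (iv2 F198730)) (tt N100555 (iv3 F429443)) (tt N79214 (iv4 F253468)) (tt N57737 F341378) (tt N34468 (iv6 D120296)) (tt N57736 F341379))
theorem Q63891 : ∀ i, i < 63891 → P i := stepQ 63890 Q63890 (allL N63890 (tt N34815 F302432) (tt N43565 F303722) (tt N79138 (iv2 F253114)) (tt N54000 F302433) (tt N65412 (iv4 F353902)) (tt N100558 D203701) (tt N34470 (iv6 D120299)) (tt N46742 F302435))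
theorem Q63892 : ∀ i, i < 63892 → P i := stepQ 63891 Q63891 (allL N63891 (tt N43160 F315464) (tt N43163 F315465) (tt N34473 F191557) (tt N34505 F191558) (tt N44717 F191559) (tt N100559 D203702) (tt N34471 (iv6 D120300)) (tt N70524 F315466))
theorem Q63893 : ∀ i, i < 63893 → P i := stepQ 63892 Q63892 (allL N63892 (tt N99451 F424646) (tt N99888 (iv0 F426693)) (tt N77292 (iv2 F242321)) (tt N34474 F191560) (tt N78333 (iv4 F248334)) (tt N100560 D203703) (tt N34472 (iv6 D120301)) (tt N99862 (iv7 F426592)))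
theorem Q63894 : ∀ i, i < 63894 → P i := stepQ 63893 Q63893 (allL N63893 (tt N70513 F366443) (tt N70491 (iv0 F319772)) (tt N100559 (iv2 F429460)) (tt N34477 F191561) (tt N100561 D203704) (tt N34473 (iv5 D120304)) (tt N100560 (iv6 F429464)) (tt N100562 D203705))
theorem Q63895 : ∀ i, i < 63895 → P i := stepQ 63894 Q63894 (allL N63894 (tt N43163 F316613) (tt N43160 F316614) (tt N70524 F316615) (tt N34478 F191562) (tt N44720 F191563) (tt N100562 (iv5 F429466)) (tt N79140 (iv6 F253123)) (tt N34473 (iv7 D120305)))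
theorem Q63896 : ∀ i, i < 63896 → P i := stepQ 63895 Q63895 (allL N63895 (tt N34517 (iv1 F191569)) (tt N34474 (iv0 D120306)) (tt N34514 F355564) (tt N92198 (iv3 F396207)) (tt N64381 F350756) (tt N100563 D203706) (tt N64801 F198326) (tt N34515 F355565))
theorem Q63897 : ∀ i, i < 63897 → P i := stepQ 63896 Q63896 (allL N63896 (tt N57801 (iv1 F341478)) (tt N75130 (iv0 F341470)) (tt N34516 F191565) (tt N100560 (iv3 F429463)) (tt N70417 (iv4 F349737)) (tt N34474 (iv5 D120308)) (tt N34477 F191566) (tt N94494 (iv7 F404710)))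
theorem Q63898 : ∀ i, i < 63898 → P i := stepQ 63897 Q63897 (allL N63897 (tt N34515 (iv1 F191570)) (tt N34514 F191571) (tt N34517 F191567) (tt N99862 (iv3 F426590)) (tt N45344 F191568) (tt N94494 (iv5 F404707)) (tt N63953 (iv6 F191907)) (tt N34474 (iv7 D120309)))
theorem Q63899 : ∀ i, i < 63899 → P i := stepQ 63898 Q63898 (allL N63898 (tt N94465 F404582) (tt N64419 (iv0 F300575)) (tt N100564 D203707) (tt N34475 (iv3 D120310)) (tt N46443 F191572) (tt N84051 (iv5 F367931)) (tt N100565 D203708) (tt N34521 F191573))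
theorem Q63900 : ∀ i, i < 63900 → P i := stepQ 63899 Q63899 (allL N63899 (tt N35463 (iv1 F302880)) (tt N34782 F301585) (tt N34519 F191574) (tt N84051 (iv3 F367933)) (tt N81875 F301586) (tt N34475 (iv5 D120311)) (tt N100566 D203709) (tt N34522 F191575))
theorem Q63901 : ∀ i, i < 63901 → P i := stepQ 63900 Q63900 (allL N63900 (tt N34814 F302438) (tt N81855 F302439) (tt N34520 F191577) (tt N100565 (iv3 F429482)) (tt N46416 F302440) (tt N35184 F191579) (tt N34475 (iv6 D120312)) (tt N46733 F302441))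
theorem Q63902 : ∀ i, i < 63902 → P i := stepQ 63901 Q63901 (allL N63901 (tt N57457 (iv1 F355258)) (tt N100567 D203710) (tt N100568 D203711) (tt N34476 (iv3 D120313)) (tt N46577 F191581) (tt N100569 D203712) (tt N46729 F301211) (tt N34518 F191582))
theorem Q63903 : ∀ i, i < 63903 → P i := stepQ 63902 Q63902 (allL N63902 (tt N34782 F301212) (tt N35463 (iv0 F302879)) (tt N34522 F191583) (tt N100569 (iv3 F429507)) (tt N81876 F301213) (tt N34476 (iv5 D120314)) (tt N99503 (iv6 F424893)) (tt N34519 F191584))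
theorem Q63904 : ∀ i, i < 63904 → P i := stepQ 63903 Q63903 (allL N63903 (tt N34525 (iv1 F191598)) (tt N34524 F191599) (tt N34527 F191595) (tt N100562 (iv3 F429465)) (tt N35175 F191596) (tt N34478 F191597) (tt N100570 D203713) (tt N34477 (iv7 D120318)))
theorem Q63905 : ∀ i, i < 63905 → P i := stepQ 63904 Q63904 (allL N63904 (tt N35465 (iv1 F304340)) (tt N35250 F301599) (tt N34530 F191610) (tt N82853 F301600) (tt N94603 (iv4 F405152)) (tt N34479 (iv5 D120321)) (tt N100571 D203714) (tt N34537 F191611))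
theorem Q63906 : ∀ i, i < 63906 → P i := stepQ 63905 Q63905 (allL N63905 (tt N34807 F301820) (tt N80318 (iv0 F304392)) (tt N34531 F191612) (tt N80384 F301821) (tt N34480 F191613) (tt N47852 F301822) (tt N34479 (iv6 D120322)) (tt N44935 F301823))
theorem Q63907 : ∀ i, i < 63907 → P i := stepQ 63906 Q63906 (allL N63906 (tt N35250 F301601) (tt N35465 (iv0 F304339)) (tt N34537 F191630) (tt N57455 (iv3 F366660)) (tt N94602 (iv4 F405144)) (tt N34481 (iv5 D120327)) (tt N62414 (iv6 F343173)) (tt N34530 F191631))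
theorem Q63908 : ∀ i, i < 63908 → P i := stepQ 63907 Q63907 (allL N63907 (tt N64490 (iv1 F350264)) (tt N38563 F350262) (tt N34864 F191644) (tt N45275 F191645) (tt N34866 F191646) (tt N47854 F300527) (tt N34484 (iv6 D120335)) (tt N64782 (iv7 F341420)))
theorem Q63909 : ∀ i, i < 63909 → P i := stepQ 63908 Q63908 (allL N63908 (tt N34489 (iv1 D120368)) (tt N34880 F191737) (tt N34881 (iv2 F191742)) (tt N35337 (iv3 F191741)) (tt N45299 F191740) (tt N34888 F191739) (tt N74391 F338170) (tt N34882 F191738))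
theorem Q63910 : ∀ i, i < 63910 → P i := stepQ 63909 Q63909 (allL N63909 (tt N100572 D203715) (tt N100573 D203716) (tt N76267 (iv2 F238046)) (tt N34490 F191743) (tt N81679 (iv4 F276450)) (tt N100061 (iv5 F427392)) (tt N34489 (iv6 D120369)) (tt N99838 (iv7 F426463)))
theorem Q63911 : ∀ i, i < 63911 → P i := stepQ 63910 Q63910 (allL N63910 (tt N100574 D203717) (tt N100575 D203718) (tt N34869 F191749) (tt N100061 (iv3 F427391)) (tt N100576 D203719) (tt N34490 (iv5 D120376)) (tt N34491 F191750) (tt N100577 D203720))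
theorem Q63912 : ∀ i, i < 63912 → P i := stepQ 63911 Q63911 (allL N63911 (tt N34868 (iv1 F191754)) (tt N34867 F191755) (tt N34870 F191751) (tt N99838 (iv3 F426461)) (tt N63924 (iv4 F191811)) (tt N100577 (iv5 F429540)) (tt N34886 F191752) (tt N34490 (iv7 D120377)))
theorem Q63913 : ∀ i, i < 63913 → P i := stepQ 63912 Q63912 (allL N63912 (tt N34786 F302007) (tt N34491 (iv0 D120381)) (tt N34811 (iv2 F302130)) (tt N89662 (iv3 F387145)) (tt N88488 (iv4 F383253)) (tt N35201 F191764) (tt N100578 D203721) (tt N34810 (iv7 F302116)))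
theorem Q63914 : ∀ i, i < 63914 → P i := stepQ 63913 Q63913 (allL N63913 (tt N34491 (iv1 D120382)) (tt N34786 F302006) (tt N34810 (iv2 F302115)) (tt N52892 F343484) (tt N88487 (iv4 F383246)) (tt N34978 F191767) (tt N99396 (iv6 F424400)) (tt N34811 (iv7 F302131)))
theorem Q63915 : ∀ i, i < 63915 → P i := stepQ 63914 Q63914 (allL N63914 (tt N80520 (iv1 F268155)) (tt N80513 (iv0 F268123)) (tt N34871 F191768) (tt N100579 D203722) (tt N34491 (iv4 D120383)) (tt N64299 F304604) (tt N100576 (iv6 F429538)) (tt N34812 F304605))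
theorem Q63916 : ∀ i, i < 63916 → P i := stepQ 63915 Q63915 (allL N63915 (tt N79138 F299267) (tt N46742 F299268) (tt N43565 F191773) (tt N34492 (iv3 D120385)) (tt N44751 F191774) (tt N100580 D203723) (tt N81970 F299269) (tt N34815 (iv7 F301012)))
theorem Q63917 : ∀ i, i < 63917 → P i := stepQ 63916 Q63916 (allL N63916 (tt N46658 F191778) (tt N46657 F191779) (tt N34813 (iv2 F301688)) (tt N100580 (iv3 F429548)) (tt N82294 F299270) (tt N34492 (iv5 D120386)) (tt N100581 D203724) (tt N34816 (iv7 F301519)))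
theorem Q63918 : ∀ i, i < 63918 → P i := stepQ 63917 Q63917 (allL N63917 (tt N76142 (iv1 F236884)) (tt N52382 F191790) (tt N52320 F191789) (tt N68593 (iv3 F304888)) (tt N34493 (iv4 D120389)) (tt N76953 (iv5 F240933)) (tt N68525 F341997) (tt N64367 (iv7 F196431)))
theorem Q63919 : ∀ i, i < 63919 → P i := stepQ 63918 Q63918 (allL N63918 (tt N38267 F351918) (tt N76744 F351919) (tt N64368 (iv2 F196440)) (tt N83832 F351920) (tt N68525 F351921) (tt N100582 D203725) (tt N34493 (iv6 D120390)) (tt N76742 F351922))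
theorem Q63920 : ∀ i, i < 63920 → P i := stepQ 63919 Q63919 (allL N63919 (tt N34518 F338921) (tt N100568 F429504) (tt N57457 (iv2 F311450)) (tt N79121 (iv3 F252708)) (tt N80433 (iv4 F267453)) (tt N42245 F314111) (tt N34494 (iv6 D120391)) (tt N100567 (iv7 F429492)))
theorem Q63921 : ∀ i, i < 63921 → P i := stepQ 63920 Q63920 (allL N63920 (tt N35115 (iv1 F191795)) (tt N34496 (iv0 D120393)) (tt N35038 (iv2 F191794)) (tt N43022 F191792) (tt N42647 F191793) (tt N34911 F191797) (tt N63741 (iv6 F354936)) (tt N35034 F191796))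
theorem Q63922 : ∀ i, i < 63922 → P i := stepQ 63921 Q63921 (allL N63921 (tt N76953 (iv1 F240935)) (tt N54962 (iv0 F191802)) (tt N61407 F191798) (tt N47690 F191799) (tt N34496 (iv4 D120394)) (tt N47689 F191801) (tt N100583 D203726) (tt N35116 F191800))
theorem Q63923 : ∀ i, i < 63923 → P i := stepQ 63922 Q63922 (allL N63922 (tt N78687 F356972) (tt N77563 (iv0 F340883)) (tt N84038 (iv2 F367883)) (tt N34497 F191803) (tt N100583 (iv4 F429557)) (tt N82527 (iv5 F356971)) (tt N34496 (iv6 D120395)) (tt N100584 D203727))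
theorem Q63924 : ∀ i, i < 63924 → P i := stepQ 63923 Q63923 (allL N63923 (tt N35125 (iv1 F191813)) (tt N34497 (iv0 D120400)) (tt N35123 (iv2 F356452)) (tt N84128 (iv3 F368217)) (tt N59315 (iv4 F356367)) (tt N82773 F340899) (tt N38409 F356363) (tt N35124 F356451))
theorem Q63925 : ∀ i, i < 63925 → P i := stepQ 63924 Q63924 (allL N63924 (tt N35124 (iv1 F191814)) (tt N35123 F191815) (tt N35125 F191810) (tt N100584 (iv3 F429561)) (tt N63911 F191811) (tt N82528 F356444) (tt N35121 F191812) (tt N34497 (iv7 D120403)))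
theorem Q63926 : ∀ i, i < 63926 → P i := stepQ 63925 Q63925 (allL N63925 (tt N100564 (iv1 F429478)) (tt N34521 F303682) (tt N64419 (iv2 F196725)) (tt N42809 F303368) (tt N77022 (iv4 F241412)) (tt N81430 F303369) (tt N34498 (iv6 D120409)) (tt N94465 (iv7 F404580)))
theorem Q63927 : ∀ i, i < 63927 → P i := stepQ 63926 Q63926 (allL N63926 (tt N52803 (iv1 F354022)) (tt N52802 (iv0 F344406)) (tt N34500 F191829) (tt N64369 (iv3 F196442)) (tt N48269 F320010) (tt N90511 (iv5 F389895)) (tt N34499 (iv6 D120412)) (tt N52801 (iv7 F354021)))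
theorem Q63928 : ∀ i, i < 63928 → P i := stepQ 63927 Q63927 (allL N63927 (tt N90501 (iv1 F389850)) (tt N84166 F368403) (tt N90511 F389896) (tt N34502 F191830) (tt N88563 (iv4 F383499)) (tt N34500 (iv5 D120415)) (tt N84171 (iv6 F368415)) (tt N52804 (iv7 F366934)))
theorem Q63929 : ∀ i, i < 63929 → P i := stepQ 63928 Q63928 (allL N63928 (tt N34501 (iv1 D120418)) (tt N35121 F191834) (tt N35119 F356375) (tt N96981 (iv3 F414909)) (tt N49631 F336777) (tt N100585 D203728) (tt N75129 F356376) (tt N35118 F356377))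
theorem Q63930 : ∀ i, i < 63930 → P i := stepQ 63929 Q63929 (allL N63929 (tt N100586 D203729) (tt N100587 D203730) (tt N35120 F191835) (tt N84171 (iv3 F368414)) (tt N100588 D203731) (tt N34501 (iv5 D120419)) (tt N34502 F191836) (tt N100589 D203732))
theorem Q63931 : ∀ i, i < 63931 → P i := stepQ 63930 Q63930 (allL N63930 (tt N35119 (iv1 F191841)) (tt N35118 F191842) (tt N35121 F191837) (tt N84176 (iv3 F368420)) (tt N54683 (iv4 F304015)) (tt N100589 (iv5 F429584)) (tt N35125 F191839) (tt N34501 (iv7 D120420)))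
theorem Q63932 : ∀ i, i < 63932 → P i := stepQ 63931 Q63931 (allL N63931 (tt N34502 (iv1 D120421)) (tt N46656 F191843) (tt N47773 F191845) (tt N100590 D203733) (tt N80513 (iv4 F268122)) (tt N34984 (iv5 F191844)) (tt N72519 (iv6 F342832)) (tt N48211 (iv7 F301694)))
theorem Q63933 : ∀ i, i < 63933 → P i := stepQ 63932 Q63932 (allL N63932 (tt N64329 (iv1 F302102)) (tt N64327 (iv0 F302099)) (tt N64373 (iv2 F196448)) (tt N100591 D203734) (tt N34502 (iv4 D120422)) (tt N80504 (iv5 F268100)) (tt N100588 (iv6 F429578)) (tt N52806 (iv7 F366891)))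
theorem Q63934 : ∀ i, i < 63934 → P i := stepQ 63933 Q63933 (allL N63933 (tt N53931 F304525) (tt N53930 F304526) (tt N53933 F304527) (tt N34504 F191860) (tt N43097 F191861) (tt N100592 D203735) (tt N34503 (iv6 D120427)) (tt N48532 F304528))
theorem Q63935 : ∀ i, i < 63935 → P i := stepQ 63934 Q63934 (allL N63934 (tt N48569 (iv1 F306418)) (tt N48568 F304529) (tt N44557 F191862) (tt N100592 (iv3 F429597)) (tt N100593 D203736) (tt N34504 (iv5 D120428)) (tt N43764 F191863) (tt N48537 F304530))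
theorem Q63936 : ∀ i, i < 63936 → P i := stepQ 63935 Q63935 (allL N63935 (tt N34511 F191865) (tt N34505 (iv0 D120429)) (tt N34508 F233800) (tt N43014 F312171) (tt N42824 (iv4 F191866)) (tt N49031 F304531) (tt N43803 F191864) (tt N34509 F233801))
theorem Q63937 : ∀ i, i < 63937 → P i := stepQ 63936 Q63936 (allL N63936 (tt N52769 F356770) (tt N52768 (iv0 F306350)) (tt N34510 F191869) (tt N100559 (iv3 F429461)) (tt N100594 D203737) (tt N34505 (iv5 D120431)) (tt N77293 (iv6 F242325)) (tt N83287 F365665))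
theorem Q63938 : ∀ i, i < 63938 → P i := stepQ 63937 Q63937 (allL N63937 (tt N34509 (iv1 F191873)) (tt N34508 F191874) (tt N34511 F191870) (tt N70524 F314764) (tt N34541 F191871) (tt N83287 (iv5 F365663)) (tt N43455 F191872) (tt N34505 (iv7 D120432)))
theorem Q63939 : ∀ i, i < 63939 → P i := stepQ 63938 Q63938 (allL N63938 (tt N66911 (iv1 F206067)) (tt N66912 (iv0 F206069)) (tt N45420 F191876) (tt N34506 (iv3 D120433)) (tt N34512 F191877) (tt N36435 F191878) (tt N96873 (iv6 F414373)) (tt N44560 F191879))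
theorem Q63940 : ∀ i, i < 63940 → P i := stepQ 63939 Q63939 (allL N63939 (tt N75359 (iv1 F353611)) (tt N75593 (iv0 F353601)) (tt N42812 F191880) (tt N96873 (iv3 F414370)) (tt N34507 F191881) (tt N60486 F353609) (tt N34506 (iv6 D120434)) (tt N100595 D203738))
theorem Q63941 : ∀ i, i < 63941 → P i := stepQ 63940 Q63940 (allL N63940 (tt N77294 (iv1 F242331)) (tt N34507 (iv0 D120435)) (tt N75372 F353598) (tt N84148 F368336) (tt N65954 (iv4 F353597)) (tt N85553 F373051) (tt N85665 (iv6 F373435)) (tt N55590 (iv7 F356631)))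
theorem Q63942 : ∀ i, i < 63942 → P i := stepQ 63941 Q63941 (allL N63941 (tt N34507 (iv1 D120436)) (tt N77294 F242330) (tt N55590 (iv2 F356629)) (tt N99972 (iv3 F427017)) (tt N75283 F353625) (tt N82935 F356632) (tt N51678 (iv6 F356624)) (tt N75372 (iv7 F353627)))
theorem Q63943 : ∀ i, i < 63943 → P i := stepQ 63942 Q63942 (allL N63942 (tt N100596 D203739) (tt N100597 D203740) (tt N77293 (iv2 F242324)) (tt N34516 F191882) (tt N85209 (iv4 F371901)) (tt N34507 (iv5 D120437)) (tt N34510 F191883) (tt N100598 D203741))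
theorem Q63944 : ∀ i, i < 63944 → P i := stepQ 63943 Q63943 (allL N63943 (tt N55590 (iv1 F356628)) (tt N75372 (iv0 F347991)) (tt N77294 (iv2 F242326)) (tt N34517 F191884) (tt N100595 (iv4 F429616)) (tt N100598 (iv5 F429632)) (tt N44565 F191885) (tt N34507 (iv7 D120438)))
theorem Q63945 : ∀ i, i < 63945 → P i := stepQ 63944 Q63944 (allL N63944 (tt N43567 F237040) (tt N77377 (iv0 F242495)) (tt N43803 F233820) (tt N53950 F304536) (tt N76011 (iv4 F235631)) (tt N43614 F191887) (tt N34508 (iv6 D120442)) (tt N43799 (iv7 F233823)))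
theorem Q63946 : ∀ i, i < 63946 → P i := stepQ 63945 Q63945 (allL N63945 (tt N98433 F420912) (tt N100599 D203742) (tt N100594 (iv2 F429607)) (tt N85114 (iv3 F413460)) (tt N34510 (iv4 D120450)) (tt N86617 (iv5 F376610)) (tt N85209 F371902) (tt N100600 D203743))
theorem Q63947 : ∀ i, i < 63947 → P i := stepQ 63946 Q63946 (allL N63946 (tt N52768 (iv1 F306351)) (tt N52769 F365666) (tt N83287 F365664) (tt N34527 F191890) (tt N100600 (iv4 F429641)) (tt N34511 F191891) (tt N51458 (iv6 F366867)) (tt N34510 (iv7 D120451)))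
theorem Q63948 : ∀ i, i < 63948 → P i := stepQ 63947 Q63947 (allL N63947 (tt N43736 (iv1 F191894)) (tt N34512 (iv0 D120452)) (tt N34923 F191896) (tt N45259 F191893) (tt N75054 (iv4 F230205)) (tt N34824 F191892) (tt N69893 F365393) (tt N34919 (iv7 F191895)))
theorem Q63949 : ∀ i, i < 63949 → P i := stepQ 63948 Q63948 (allL N63948 (tt N34512 (iv1 D120453)) (tt N43736 F191897) (tt N34919 (iv2 F191900)) (tt N62935 F334550) (tt N75369 (iv4 F334542)) (tt N34825 F191899) (tt N81297 (iv6 F334549)) (tt N34923 F191898))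
theorem Q63950 : ∀ i, i < 63950 → P i := stepQ 63949 Q63949 (allL N63949 (tt N62903 F355612) (tt N62842 F355613) (tt N62902 (iv2 F353586)) (tt N34513 F191901) (tt N96873 (iv4 F414371)) (tt N100601 D203744) (tt N34512 (iv6 D120454)) (tt N62901 F353585))
theorem Q63951 : ∀ i, i < 63951 → P i := stepQ 63950 Q63950 (allL N63950 (tt N45344 (iv1 F191908)) (tt N34513 (iv0 D120455)) (tt N45341 F355544) (tt N61150 (iv3 F355543)) (tt N64559 (iv4 F355551)) (tt N98902 (iv5 F422736)) (tt N85820 (iv6 F374106)) (tt N45342 F355545))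
theorem Q63952 : ∀ i, i < 63952 → P i := stepQ 63951 Q63951 (allL N63951 (tt N34513 (iv1 D120456)) (tt N45344 F191902) (tt N45342 F357681) (tt N63003 F357682) (tt N64560 F357683) (tt N100602 D203745) (tt N69865 (iv6 F364380)) (tt N45341 F357684))
theorem Q63953 : ∀ i, i < 63953 → P i := stepQ 63952 Q63952 (allL N63952 (tt N96242 (iv1 F411710)) (tt N64790 (iv0 F198318)) (tt N45343 F191903) (tt N100601 (iv3 F429646)) (tt N100603 D203746) (tt N34513 (iv5 D120457)) (tt N45336 F191904) (tt N100604 D203747))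
theorem Q63954 : ∀ i, i < 63954 → P i := stepQ 63953 Q63953 (allL N63953 (tt N45342 (iv1 F191909)) (tt N45341 F191910) (tt N45344 F191905) (tt N62901 (iv3 F353584)) (tt N34517 F191906) (tt N100604 (iv5 F429668)) (tt N63897 F191907) (tt N34513 (iv7 D120458)))
theorem Q63955 : ∀ i, i < 63955 → P i := stepQ 63954 Q63954 (allL N63954 (tt N100605 D203748) (tt N96238 (iv0 F411656)) (tt N100563 (iv2 F429468)) (tt N41915 F353605) (tt N100606 D203749) (tt N34514 (iv5 D120462)) (tt N95216 F407507) (tt N88449 F383096))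
theorem Q63956 : ∀ i, i < 63956 → P i := stepQ 63955 Q63955 (allL N63955 (tt N38516 F357152) (tt N94921 F406347) (tt N64801 F355566) (tt N42239 F353606) (tt N72258 F357153) (tt N64494 F197312) (tt N34514 (iv6 D120463)) (tt N64797 (iv7 F355569)))
theorem Q63957 : ∀ i, i < 63957 → P i := stepQ 63956 Q63956 (allL N63956 (tt N64666 F355610) (tt N91254 (iv0 F392422)) (tt N42240 F355821) (tt N34515 (iv3 D120465)) (tt N74460 F355822) (tt N84063 (iv5 F367972)) (tt N83861 (iv6 F362411)) (tt N92198 (iv7 F396208)))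
theorem Q63958 : ∀ i, i < 63958 → P i := stepQ 63957 Q63957 (allL N63957 (tt N34973 F355546) (tt N40984 F355547) (tt N64382 F355548) (tt N43046 F355549) (tt N34515 (iv4 D120466)) (tt N90917 (iv5 F391265)) (tt N69927 (iv6 F363028)) (tt N64381 F355550))
theorem Q63959 : ∀ i, i < 63959 → P i := stepQ 63958 Q63958 (allL N63958 (tt N96238 F411658) (tt N100605 F429673) (tt N88449 (iv2 F383093)) (tt N84063 (iv3 F367971)) (tt N96481 (iv4 F412694)) (tt N34515 (iv5 D120467)) (tt N84061 (iv6 F367969)) (tt N100563 (iv7 F429470)))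
theorem Q63960 : ∀ i, i < 63960 → P i := stepQ 63959 Q63959 (allL N63959 (tt N84113 F372666) (tt N59250 (iv0 F363029)) (tt N84126 F368210) (tt N83861 F362412) (tt N69927 F363027) (tt N85452 (iv5 F372664)) (tt N34515 (iv6 D120468)) (tt N84127 (iv7 F368212)))
theorem Q63961 : ∀ i, i < 63961 → P i := stepQ 63960 Q63960 (allL N63960 (tt N34516 (iv1 D120470)) (tt N94494 F404709) (tt N75130 F341494) (tt N100607 D203750) (tt N94563 (iv4 F404977)) (tt N64772 (iv5 F198293)) (tt N94561 (iv6 F404971)) (tt N57801 (iv7 F341493)))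
theorem Q63962 : ∀ i, i < 63962 → P i := stepQ 63961 Q63961 (allL N63961 (tt N70194 (iv1 F349749)) (tt N40390 F349745) (tt N70417 F349739) (tt N85210 (iv3 F371900)) (tt N34516 (iv4 D120471)) (tt N40360 F345333) (tt N34526 F191913) (tt N70416 (iv7 F349748)))
theorem Q63963 : ∀ i, i < 63963 → P i := stepQ 63962 Q63962 (allL N63962 (tt N75130 (iv1 F341477)) (tt N57801 F341495) (tt N94494 F404708) (tt N100598 (iv3 F429631)) (tt N70416 F349750) (tt N34517 F191914) (tt N100608 D203751) (tt N34516 (iv7 D120472)))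
theorem Q63964 : ∀ i, i < 63964 → P i := stepQ 63963 Q63963 (allL N63963 (tt N100568 (iv1 F429503)) (tt N34518 (iv0 D120473)) (tt N100567 (iv2 F429496)) (tt N43120 F366735) (tt N44523 F366736) (tt N100609 D203752) (tt N76742 F366737) (tt N57457 F366738))
theorem Q63965 : ∀ i, i < 63965 → P i := stepQ 63964 Q63964 (allL N63964 (tt N100567 (iv1 F429498)) (tt N57457 (iv0 F355257)) (tt N34518 (iv2 D120475)) (tt N100564 (iv3 F429474)) (tt N76013 (iv4 F235638)) (tt N67715 (iv5 F355255)) (tt N100610 D203753) (tt N100568 (iv7 F429502)))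
theorem Q63966 : ∀ i, i < 63966 → P i := stepQ 63965 Q63965 (allL N63965 (tt N100611 D203754) (tt N100612 D203755) (tt N67715 F355251) (tt N34519 F191915) (tt N67711 (iv4 F355250)) (tt N34518 (iv5 D120476)) (tt N100613 D203756) (tt N100569 (iv7 F429510)))
theorem Q63967 : ∀ i, i < 63967 → P i := stepQ 63966 Q63966 (allL N63966 (tt N100614 D203757) (tt N100615 D203758) (tt N100610 (iv2 F429694)) (tt N34520 F191916) (tt N87922 (iv4 F381140)) (tt N100616 D203759) (tt N34518 (iv6 D120477)) (tt N100617 D203760))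
theorem Q63968 : ∀ i, i < 63968 → P i := stepQ 63967 Q63967 (allL N63967 (tt N57760 (iv1 F327319)) (tt N65009 F304518) (tt N81875 F304519) (tt N100618 D203761) (tt N34519 (iv4 D120479)) (tt N35170 F191920) (tt N100619 D203762) (tt N81876 F304520))
theorem Q63969 : ∀ i, i < 63969 → P i := stepQ 63968 Q63968 (allL N63968 (tt N95230 F407512) (tt N100620 D203763) (tt N100566 (iv2 F429488)) (tt N100613 (iv3 F429709)) (tt N100619 (iv4 F429724)) (tt N100621 D203764) (tt N34519 (iv6 D120480)) (tt N99534 (iv7 F425022)))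
theorem Q63970 : ∀ i, i < 63970 → P i := stepQ 63969 Q63969 (allL N63969 (tt N34828 F191925) (tt N35178 F191926) (tt N35184 F191924) (tt N100616 (iv3 F429713)) (tt N81902 F302311) (tt N34520 (iv5 D120482)) (tt N100621 (iv6 F429737)) (tt N35183 F196261))
theorem Q63971 : ∀ i, i < 63971 → P i := stepQ 63970 Q63970 (allL N63970 (tt N81855 F299230) (tt N34814 (iv0 F301690)) (tt N46733 F299231) (tt N100617 (iv3 F429717)) (tt N46415 F299232) (tt N35183 (iv5 F196259)) (tt N34795 F299233) (tt N34520 (iv7 D120483)))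
theorem Q63972 : ∀ i, i < 63972 → P i := stepQ 63971 Q63971 (allL N63971 (tt N34521 (iv1 D120485)) (tt N100564 F429479) (tt N94465 (iv2 F404577)) (tt N53945 (iv3 F344940)) (tt N100622 D203765) (tt N81431 (iv5 F366169)) (tt N54389 F362434) (tt N64419 F362435))
theorem Q63973 : ∀ i, i < 63973 → P i := stepQ 63972 Q63972 (allL N63972 (tt N64419 F366674) (tt N94465 (iv0 F404581)) (tt N34521 (iv2 D120486)) (tt N100568 (iv3 F429499)) (tt N68045 (iv4 F366672)) (tt N84052 F367942) (tt N53873 F366673) (tt N100564 (iv7 F429477)))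
theorem Q63974 : ∀ i, i < 63974 → P i := stepQ 63973 Q63973 (allL N63973 (tt N61283 F344938) (tt N81434 F344942) (tt N68045 F315038) (tt N44810 F298356) (tt N34521 (iv4 D120487)) (tt N47016 F298357) (tt N44808 F298358) (tt N46443 F191928))
theorem Q63975 : ∀ i, i < 63975 → P i := stepQ 63974 Q63974 (allL N63974 (tt N84042 F367898) (tt N84054 F367952) (tt N84052 (iv2 F367943)) (tt N34522 F191929) (tt N90702 (iv4 F390566)) (tt N34521 (iv5 D120488)) (tt N99527 (iv6 F424992)) (tt N84051 F367936))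
theorem Q63976 : ∀ i, i < 63976 → P i := stepQ 63975 Q63975 (allL N63975 (tt N65009 F303683) (tt N57760 (iv0 F327318)) (tt N81876 F303685) (tt N90717 (iv3 F390624)) (tt N34522 (iv4 D120490)) (tt N35167 F191931) (tt N99530 (iv6 F425000)) (tt N81875 F303686))
theorem Q63977 : ∀ i, i < 63977 → P i := stepQ 63976 Q63976 (allL N63976 (tt N100609 (iv1 F429693)) (tt N42245 F352317) (tt N69086 (iv2 F352316)) (tt N34524 (iv3 D120495)) (tt N69084 F352314) (tt N48482 F302803) (tt N100623 D203766) (tt N64824 F198355))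
theorem Q63978 : ∀ i, i < 63978 → P i := stepQ 63977 Q63977 (allL N63977 (tt N48185 F302881) (tt N48189 F302882) (tt N80529 F302883) (tt N100624 D203767) (tt N34524 (iv4 D120496)) (tt N35162 F191936) (tt N100625 D203768) (tt N64829 (iv7 F198379)))
theorem Q63979 : ∀ i, i < 63979 → P i := stepQ 63978 Q63978 (allL N63978 (tt N77121 (iv1 F433029)) (tt N85534 (iv0 F372971)) (tt N80530 F302884) (tt N100623 (iv3 F429749)) (tt N100625 (iv4 F429751)) (tt N100626 D203770) (tt N34524 (iv6 D120497)) (tt N100627 D203771))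
theorem Q63980 : ∀ i, i < 63980 → P i := stepQ 63979 Q63979 (allL N63979 (tt N48189 F304334) (tt N48185 F304335) (tt N64829 (iv2 F198378)) (tt N100628 D203772) (tt N34525 (iv4 D120499)) (tt N35153 F191937) (tt N94553 (iv6 F404944)) (tt N80529 F304336))
theorem Q63981 : ∀ i, i < 63981 → P i := stepQ 63980 Q63980 (allL N63980 (tt N58312 F343826) (tt N58315 (iv0 F363304)) (tt N64827 (iv2 F198376)) (tt N81432 F366893) (tt N94553 (iv4 F404943)) (tt N64500 (iv5 F197337)) (tt N34525 (iv6 D120500)) (tt N70285 (iv7 F360078)))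
theorem Q63982 : ∀ i, i < 63982 → P i := stepQ 63981 Q63981 (allL N63981 (tt N85120 F371691) (tt N100629 D203773) (tt N100630 D203774) (tt N34526 (iv3 D120503)) (tt N85114 (iv4 F413461)) (tt N100631 D203775) (tt N85210 F371903) (tt N82276 F366886))
theorem Q63983 : ∀ i, i < 63983 → P i := stepQ 63982 Q63982 (allL N63982 (tt N35173 (iv1 F191947)) (tt N35172 F191948) (tt N35176 F191944) (tt N100631 (iv3 F429763)) (tt N34944 F191945) (tt N34526 (iv5 D120504)) (tt N96631 F413244) (tt N34943 F191946))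
theorem Q63984 : ∀ i, i < 63984 → P i := stepQ 63983 Q63983 (allL N63983 (tt N100632 D203776) (tt N100633 D203777) (tt N100570 (iv2 F429512)) (tt N51458 (iv3 F366866)) (tt N82277 F366888) (tt N79165 (iv5 F253235)) (tt N34527 (iv6 D120506)) (tt N100608 (iv7 F429686)))
theorem Q63985 : ∀ i, i < 63985 → P i := stepQ 63984 Q63984 (allL N63984 (tt N39966 F329572) (tt N46683 F305169) (tt N94603 F405153) (tt N92969 (iv3 F398956)) (tt N34530 (iv4 D120523)) (tt N35173 F191991) (tt N92971 (iv6 F398967)) (tt N94602 F405148))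
theorem Q63986 : ∀ i, i < 63986 → P i := stepQ 63985 Q63985 (allL N63985 (tt N95700 F409202) (tt N100634 D203778) (tt N100571 (iv2 F429515)) (tt N76496 (iv3 F366659)) (tt N92971 (iv4 F398965)) (tt N100635 D203779) (tt N34530 (iv6 D120524)) (tt N100636 D203780))
theorem Q63987 : ∀ i, i < 63987 → P i := stepQ 63986 Q63986 (allL N63986 (tt N34958 F191993) (tt N47823 F301756) (tt N47852 F301757) (tt N76497 (iv3 F332470)) (tt N100637 D203781) (tt N34531 (iv5 D120526)) (tt N100635 (iv6 F429775)) (tt N47851 F301758))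
theorem Q63988 : ∀ i, i < 63988 → P i := stepQ 63987 Q63987 (allL N63987 (tt N100638 D203782) (tt N46722 F342609) (tt N71299 F315989) (tt N34532 (iv3 D120531)) (tt N44527 F315990) (tt N71288 F315991) (tt N100639 D203783) (tt N44917 F301664))
theorem Q63989 : ∀ i, i < 63989 → P i := stepQ 63988 Q63988 (allL N63988 (tt N35189 (iv1 F192004)) (tt N34961 F192002) (tt N34568 F301665) (tt N71288 F341531) (tt N35172 F192003) (tt N34532 (iv5 D120532)) (tt N40548 F357712) (tt N44918 F301666))
theorem Q63990 : ∀ i, i < 63990 → P i := stepQ 63989 Q63989 (allL N63989 (tt N34809 F301667) (tt N64602 F197825) (tt N34569 F301668) (tt N100639 (iv3 F429792)) (tt N34533 F192006) (tt N38774 F327342) (tt N34532 (iv6 D120533)) (tt N46668 F192007))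
theorem Q63991 : ∀ i, i < 63991 → P i := stepQ 63990 Q63990 (allL N63990 (tt N45634 F192015) (tt N65049 F300047) (tt N35215 F192012) (tt N100640 D203784) (tt N34534 (iv4 D120534)) (tt N81974 F300048) (tt N46700 F300049) (tt N35213 F192014))
theorem Q63992 : ∀ i, i < 63992 → P i := stepQ 63991 Q63991 (allL N63991 (tt N42539 F305538) (tt N48174 F305539) (tt N57469 (iv2 F312698)) (tt N34537 F192028) (tt N90443 (iv4 F389660)) (tt N34536 (iv5 D120541)) (tt N100641 D203785) (tt N82853 F305541))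
theorem Q63993 : ∀ i, i < 63993 → P i := stepQ 63992 Q63992 (allL N63992 (tt N46683 F305542) (tt N39966 F329571) (tt N94602 F405147) (tt N73513 F363282) (tt N34537 (iv4 D120543)) (tt N35172 F192030) (tt N73510 (iv6 F363283)) (tt N94603 (iv7 F405150)))
theorem Q63994 : ∀ i, i < 63994 → P i := stepQ 63993 Q63993 (allL N63993 (tt N72177 F364785) (tt N59220 (iv0 F364784)) (tt N62414 F363035) (tt N100641 (iv3 F429801)) (tt N73510 F363284) (tt N59014 (iv5 F332942)) (tt N34537 (iv6 D120544)) (tt N62416 (iv7 F363036)))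
theorem Q63995 : ∀ i, i < 63995 → P i := stepQ 63994 Q63994 (allL N63994 (tt N43470 (iv1 F192106)) (tt N42688 F192105) (tt N34543 F192093) (tt N89647 (iv3 F387079)) (tt N34538 (iv4 D120553)) (tt N82632 (iv5 F364045)) (tt N42176 F192094) (tt N34546 F192095))
theorem Q63996 : ∀ i, i < 63996 → P i := stepQ 63995 Q63995 (allL N63995 (tt N34551 (iv1 F192110)) (tt N34540 (iv0 D120556)) (tt N34548 (iv2 F192108)) (tt N79069 (iv3 F252132)) (tt N52032 (iv4 F335092)) (tt N48161 F192107) (tt N55124 F335116) (tt N34549 F192109))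
theorem Q63997 : ∀ i, i < 63997 → P i := stepQ 63996 Q63996 (allL N63996 (tt N87194 F378667) (tt N87287 F378983) (tt N34550 F192111) (tt N91028 (iv3 F391651)) (tt N34540 (iv4 D120557)) (tt N100642 D203786) (tt N36294 F192112) (tt N52420 F347838))
theorem Q63998 : ∀ i, i < 63998 → P i := stepQ 63997 Q63997 (allL N63997 (tt N34549 (iv1 F192116)) (tt N34548 F192117) (tt N34551 F192113) (tt N41908 F192114) (tt N52420 (iv4 F338159)) (tt N34541 F192115) (tt N46573 F315432) (tt N34540 (iv7 D120558)))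
theorem Q63999 : ∀ i, i < 63999 → P i := stepQ 63998 Q63998 (allL N63998 (tt N42430 F192119) (tt N42421 (iv0 F192120)) (tt N42427 F192121) (tt N100643 D203787) (tt N34542 (iv4 D120559)) (tt N80149 (iv5 F362490)) (tt N67026 F206380) (tt N42428 F192118))
theorem Q64000 : ∀ i, i < 64000 → P i := stepQ 63999 Q63999 (allL N63999 (tt N43341 F240292) (tt N72411 (iv0 F366419)) (tt N76911 (iv2 F240747)) (tt N34544 F192123) (tt N67026 (iv4 F206381)) (tt N42059 F192125) (tt N34542 (iv6 D120560)) (tt N42156 F192124))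
theorem Q64001 : ∀ i, i < 64001 → P i := stepQ 64000 Q64000 (allL N64000 (tt N34546 (iv1 F192127)) (tt N34543 (iv0 D120561)) (tt N43470 F192130) (tt N100531 (iv3 F429353)) (tt N42691 F192126) (tt N100644 D203788) (tt N43467 (iv6 F192128)) (tt N42688 (iv7 F192129)))
theorem Q64002 : ∀ i, i < 64002 → P i := stepQ 64001 Q64001 (allL N64001 (tt N57465 (iv1 F361347)) (tt N43477 F361344) (tt N76333 F361345) (tt N34543 (iv3 D120562)) (tt N100643 (iv4 F429810)) (tt N82875 F366768) (tt N100645 D203789) (tt N76334 F361346))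
theorem Q64003 : ∀ i, i < 64003 → P i := stepQ 64002 Q64002 (allL N64002 (tt N43560 (iv1 F192136)) (tt N77430 (iv0 F242656)) (tt N42176 F192133) (tt N100645 (iv3 F429823)) (tt N34544 F192134) (tt N83556 F307392) (tt N34543 (iv6 D120564)) (tt N42163 (iv7 F192135)))
theorem Q64004 : ∀ i, i < 64004 → P i := stepQ 64003 Q64003 (allL N64003 (tt N63723 (iv1 F236399)) (tt N43091 F307380) (tt N77255 (iv2 F242138)) (tt N34547 F192146) (tt N76086 (iv4 F236264)) (tt N71761 (iv5 F324304)) (tt N34545 (iv6 D120571)) (tt N77254 (iv7 F242133)))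
theorem Q64005 : ∀ i, i < 64005 → P i := stepQ 64004 Q64004 (allL N64004 (tt N41373 F232611) (tt N79070 F252140) (tt N74398 (iv2 F227733)) (tt N34549 (iv3 D120578)) (tt N74779 F229128) (tt N65210 F199606) (tt N100646 D203790) (tt N79069 (iv7 F252133)))
theorem Q64006 : ∀ i, i < 64006 → P i := stepQ 64005 Q64005 (allL N64005 (tt N55206 (iv1 F317726)) (tt N51959 (iv0 F324998)) (tt N52028 (iv2 F335098)) (tt N100647 D203791) (tt N34549 (iv4 D120579)) (tt N51759 (iv5 F335105)) (tt N55218 F335095) (tt N52032 (iv7 F335093)))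
theorem Q64007 : ∀ i, i < 64007 → P i := stepQ 64006 Q64006 (allL N64006 (tt N77509 F243415) (tt N75246 (iv0 F231217)) (tt N65237 (iv2 F200463)) (tt N100646 (iv3 F429826)) (tt N55218 F335109) (tt N65212 (iv5 F199619)) (tt N34549 (iv6 D120580)) (tt N55213 (iv7 F335113)))
theorem Q64008 : ∀ i, i < 64008 → P i := stepQ 64007 Q64007 (allL N64007 (tt N52420 (iv1 F347839)) (tt N34550 (iv0 D120581)) (tt N87194 (iv2 F378664)) (tt N89915 (iv3 F387989)) (tt N41659 F259443) (tt N86993 (iv5 F377982)) (tt N47711 F307166) (tt N87287 (iv7 F378984)))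
theorem Q64009 : ∀ i, i < 64009 → P i := stepQ 64008 Q64008 (allL N64008 (tt N34550 (iv1 D120582)) (tt N52420 F347840) (tt N87287 F378982) (tt N100648 D203792) (tt N41660 (iv4 F200382)) (tt N86992 (iv5 F377980)) (tt N87203 F378750) (tt N87194 F378666))
theorem Q64010 : ∀ i, i < 64010 → P i := stepQ 64009 Q64009 (allL N64009 (tt N95473 (iv1 F408320)) (tt N59721 (iv0 F354569)) (tt N95471 F408308) (tt N34550 (iv3 D120583)) (tt N34563 F192150) (tt N100649 D203793) (tt N44584 F192151) (tt N48125 (iv7 F192152)))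
theorem Q64011 : ∀ i, i < 64011 → P i := stepQ 64010 Q64010 (allL N64010 (tt N87738 (iv1 F380295)) (tt N87739 (iv0 F380299)) (tt N100642 (iv2 F429804)) (tt N100649 (iv3 F429837)) (tt N87480 F379471) (tt N34550 (iv5 D120584)) (tt N52146 (iv6 F363846)) (tt N87288 (iv7 F378986)))
theorem Q64012 : ∀ i, i < 64012 → P i := stepQ 64011 Q64011 (allL N64011 (tt N43085 (iv1 F232541)) (tt N34553 (iv0 D120599)) (tt N43924 (iv2 F232671)) (tt N87495 F379553) (tt N77556 F334946) (tt N35417 F307112) (tt N77557 (iv6 F334947)) (tt N43906 F307113))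
theorem Q64013 : ∀ i, i < 64013 → P i := stepQ 64012 Q64012 (allL N64012 (tt N52578 F334911) (tt N41617 F334912) (tt N52576 (iv2 F332449)) (tt N73141 F334913) (tt N34553 (iv4 D120601)) (tt N40623 (iv5 F334916)) (tt N73128 F334915) (tt N44881 F192171))
theorem Q64014 : ∀ i, i < 64014 → P i := stepQ 64013 Q64013 (allL N64013 (tt N82149 (iv1 F355428)) (tt N82152 (iv0 F355166)) (tt N100650 D203794) (tt N34554 (iv3 D120602)) (tt N73141 (iv4 F350195)) (tt N35451 F192172) (tt N42151 F337747) (tt N44883 F192173))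
theorem Q64015 : ∀ i, i < 64015 → P i := stepQ 64014 Q64014 (allL N64014 (tt N65413 (iv1 F353906)) (tt N82008 F339243) (tt N80011 (iv2 F259404)) (tt N45585 F303136) (tt N58202 (iv4 F359290)) (tt N34555 (iv5 D120603)) (tt N58201 F341240) (tt N44873 F192175))
theorem Q64016 : ∀ i, i < 64016 → P i := stepQ 64015 Q64015 (allL N64015 (tt N64430 F345982) (tt N100651 D203795) (tt N62974 F192178) (tt N65181 F342700) (tt N34556 (iv4 D120605)) (tt N78168 (iv5 F338248)) (tt N62909 F192179) (tt N44876 F192180))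
theorem Q64017 : ∀ i, i < 64017 → P i := stepQ 64016 Q64016 (allL N64016 (tt N36533 F336309) (tt N82170 F345972) (tt N77260 (iv2 F342705)) (tt N34558 (iv3 D120606)) (tt N65181 (iv4 F342699)) (tt N35445 F192181) (tt N69143 (iv6 F361987)) (tt N44880 F192182))
theorem Q64018 : ∀ i, i < 64018 → P i := stepQ 64017 Q64017 (allL N64017 (tt N62838 F339809) (tt N75167 F339813) (tt N75168 (iv2 F339814)) (tt N34560 (iv3 D120613)) (tt N66667 (iv4 F324698)) (tt N35441 F192196) (tt N75000 (iv6 F339819)) (tt N44890 F192197))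
theorem Q64019 : ∀ i, i < 64019 → P i := stepQ 64018 Q64018 (allL N64018 (tt N34723 F316415) (tt N34718 F316416) (tt N44896 F192206) (tt N74374 (iv3 F348646)) (tt N35493 F192207) (tt N46391 F316417) (tt N34562 (iv6 D120617)) (tt N45577 F316418))
theorem Q64020 : ∀ i, i < 64020 → P i := stepQ 64019 Q64019 (allL N64019 (tt N48122 (iv1 F192208)) (tt N34563 (iv0 D120618)) (tt N48124 F347940) (tt N100652 D203796) (tt N91312 (iv4 F392673)) (tt N60402 F347939) (tt N91311 (iv6 F392671)) (tt N48123 F347941))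
theorem Q64021 : ∀ i, i < 64021 → P i := stepQ 64020 Q64020 (allL N64020 (tt N48124 (iv1 F192215)) (tt N48123 F192213) (tt N34563 (iv2 D120620)) (tt N44900 F192209) (tt N95471 (iv4 F408305)) (tt N48113 F192210) (tt N44601 F192211) (tt N48122 F192212))
theorem Q64022 : ∀ i, i < 64022 → P i := stepQ 64021 Q64021 (allL N64021 (tt N71328 (iv1 F318993)) (tt N71327 (iv0 F318989)) (tt N71298 (iv2 F314224)) (tt N34568 F192255) (tt N71096 F338621) (tt N34567 (iv5 D120630)) (tt N70886 F350359) (tt N44920 F192256))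
theorem Q64023 : ∀ i, i < 64023 → P i := stepQ 64022 Q64022 (allL N64022 (tt N72118 F361079) (tt N72117 (iv0 F363926)) (tt N72113 (iv2 F314227)) (tt N34569 F192257) (tt N34572 F192258) (tt N66490 F338540) (tt N34567 (iv6 D120631)) (tt N66489 (iv7 F322830)))
theorem Q64024 : ∀ i, i < 64024 → P i := stepQ 64023 Q64023 (allL N64023 (tt N35176 (iv1 F304626)) (tt N34943 (iv0 F304309)) (tt N35172 F302058) (tt N100653 D203797) (tt N34568 (iv4 D120632)) (tt N94602 (iv5 F405143)) (tt N96364 (iv6 F412242)) (tt N35173 (iv7 F304406)))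
theorem Q64025 : ∀ i, i < 64025 → P i := stepQ 64024 Q64024 (allL N64024 (tt N40551 F350353) (tt N40516 F350354) (tt N40548 F357711) (tt N70886 (iv3 F350358)) (tt N96364 (iv4 F412241)) (tt N38863 F350356) (tt N34568 (iv6 D120633)) (tt N40549 (iv7 F357716)))
theorem Q64026 : ∀ i, i < 64026 → P i := stepQ 64025 Q64025 (allL N64025 (tt N34569 (iv1 D120635)) (tt N46668 F302059) (tt N64602 (iv2 F303762)) (tt N88649 (iv3 F383703)) (tt N59754 (iv4 F324106)) (tt N64442 F302061) (tt N80318 (iv6 F263593)) (tt N34809 F201464))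
theorem Q64027 : ∀ i, i < 64027 → P i := stepQ 64026 Q64026 (allL N64026 (tt N46662 F304267) (tt N46661 F304268) (tt N46664 F304269) (tt N100654 D203798) (tt N34570 (iv4 D120643)) (tt N64457 F304270) (tt N81855 (iv6 F277281)) (tt N34817 F192290))
theorem Q64028 : ∀ i, i < 64028 → P i := stepQ 64027 Q64027 (allL N64027 (tt N66761 (iv1 F205355)) (tt N66760 F205362) (tt N43939 F313152) (tt N34574 F192292) (tt N39009 F325787) (tt N36375 F192293) (tt N34571 (iv6 D120645)) (tt N66758 (iv7 F205351)))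
theorem Q64029 : ∀ i, i < 64029 → P i := stepQ 64028 Q64028 (allL N64028 (tt N38367 F307138) (tt N68448 (iv0 F308990)) (tt N68577 (iv2 F308988)) (tt N34576 F192305) (tt N70561 F307139) (tt N34575 (iv5 D120649)) (tt N68572 F307140) (tt N38387 (iv7 F308987)))
theorem Q64030 : ∀ i, i < 64030 → P i := stepQ 64029 Q64029 (allL N64029 (tt N100655 D203799) (tt N68571 F342570) (tt N44532 (iv2 F311221)) (tt N68572 F311173) (tt N43425 F311174) (tt N77784 F311175) (tt N34576 (iv6 D120651)) (tt N68595 F311176))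
theorem Q64031 : ∀ i, i < 64031 → P i := stepQ 64030 Q64030 (allL N64030 (tt N79535 F302530) (tt N64064 (iv0 F192782)) (tt N47741 F192316) (tt N79516 (iv3 F257079)) (tt N34577 (iv4 D120654)) (tt N80227 F302531) (tt N44931 F192317) (tt N47742 F192318))
theorem Q64032 : ∀ i, i < 64032 → P i := stepQ 64031 Q64031 (allL N64031 (tt N66976 F330640) (tt N82327 (iv0 F350989)) (tt N57314 (iv2 F350991)) (tt N34578 (iv3 D120655)) (tt N63043 F192319) (tt N35455 F192320) (tt N63041 F192321) (tt N44914 F192322))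
theorem Q64033 : ∀ i, i < 64033 → P i := stepQ 64032 Q64032 (allL N64032 (tt N46081 (iv1 F192337)) (tt N34579 (iv0 D120659)) (tt N46079 F259273) (tt N61347 (iv3 F283761)) (tt N44031 F334451) (tt N100656 D203800) (tt N44030 F334452) (tt N46080 F259274))
theorem Q64034 : ∀ i, i < 64034 → P i := stepQ 64033 Q64033 (allL N64033 (tt N34579 (iv1 D120660)) (tt N46081 F192330) (tt N46080 (iv2 F259272)) (tt N75263 (iv3 F239638)) (tt N79898 (iv4 F283774)) (tt N100657 D203801) (tt N100658 D203802) (tt N46079 F259271))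
theorem Q64035 : ∀ i, i < 64035 → P i := stepQ 64034 Q64034 (allL N64034 (tt N100659 D203803) (tt N100660 D203804) (tt N38208 F192331) (tt N43037 F192332) (tt N100661 D203805) (tt N34579 (iv5 D120661)) (tt N34580 F192333) (tt N98772 (iv7 F422257)))
theorem Q64036 : ∀ i, i < 64036 → P i := stepQ 64035 Q64035 (allL N64035 (tt N56457 F192342) (tt N63425 F192343) (tt N38207 F192340) (tt N100662 D203806) (tt N34580 (iv4 D120663)) (tt N68278 (iv5 F209468)) (tt N100661 (iv6 F429896)) (tt N61357 F192341))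
theorem Q64037 : ∀ i, i < 64037 → P i := stepQ 64036 Q64036 (allL N64036 (tt N68277 (iv1 F209466)) (tt N68276 F209465) (tt N38266 F192345) (tt N34942 F309772) (tt N68146 (iv4 F209196)) (tt N34581 (iv5 D120665)) (tt N100663 D203807) (tt N35166 (iv7 F311801)))
theorem Q64038 : ∀ i, i < 64038 → P i := stepQ 64037 Q64037 (allL N64037 (tt N78884 F251196) (tt N60997 (iv0 F192349)) (tt N64474 (iv2 F197297)) (tt N34582 (iv3 D120666)) (tt N35126 F192347) (tt N63222 (iv5 F305808)) (tt N81284 (iv6 F334552)) (tt N63852 F192348))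
theorem Q64039 : ∀ i, i < 64039 → P i := stepQ 64038 Q64038 (allL N64038 (tt N34587 (iv1 F192363)) (tt N34585 (iv0 D120670)) (tt N45291 F192365) (tt N35098 (iv3 F192364)) (tt N42494 F192362) (tt N42810 F192361) (tt N82004 (iv6 F331705)) (tt N36574 F192366))
theorem Q64040 : ∀ i, i < 64040 → P i := stepQ 64039 Q64039 (allL N64039 (tt N34585 (iv1 D120671)) (tt N34587 F192367) (tt N36574 F192372) (tt N45030 (iv3 F192371)) (tt N42482 F192370) (tt N43439 F192369) (tt N75889 F339399) (tt N45291 F192368))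
theorem Q64041 : ∀ i, i < 64041 → P i := stepQ 64040 Q64040 (allL N64040 (tt N70070 (iv1 F346117)) (tt N47564 F323532) (tt N70068 F314428) (tt N36637 F316403) (tt N34586 F192373) (tt N37339 F314429) (tt N34585 (iv6 D120672)) (tt N69134 F314430))
theorem Q64042 : ∀ i, i < 64042 → P i := stepQ 64041 Q64041 (allL N64041 (tt N34586 (iv1 D120674)) (tt N80495 (iv0 F340117)) (tt N88439 (iv2 F383052)) (tt N34594 F237526) (tt N67974 (iv4 F340114)) (tt N75619 (iv5 F340115)) (tt N40813 F340113) (tt N40825 F313915))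
theorem Q64043 : ∀ i, i < 64043 → P i := stepQ 64042 Q64042 (allL N64042 (tt N71155 (iv1 F331701)) (tt N74247 F331700) (tt N45292 F192377) (tt N76536 (iv3 F239267)) (tt N34588 F192378) (tt N66288 (iv5 F331702)) (tt N34587 (iv6 D120676)) (tt N66287 (iv7 F340124)))
theorem Q64044 : ∀ i, i < 64044 → P i := stepQ 64043 Q64043 (allL N64043 (tt N34588 (iv1 D120678)) (tt N45293 F192379) (tt N44016 F317638) (tt N45276 F247846) (tt N94093 (iv4 F403173)) (tt N75607 F337170) (tt N74342 F322310) (tt N40805 F322311))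
theorem Q64045 : ∀ i, i < 64045 → P i := stepQ 64044 Q64044 (allL N64044 (tt N44016 F317637) (tt N40805 F322306) (tt N45293 F192380) (tt N68416 (iv3 F210336)) (tt N66287 (iv4 F337678)) (tt N42272 F319525) (tt N80495 F340119) (tt N34588 (iv7 D120679)))
theorem Q64046 : ∀ i, i < 64046 → P i := stepQ 64045 Q64045 (allL N64045 (tt N99583 F425280) (tt N67974 (iv0 F334172)) (tt N75938 (iv2 F234648)) (tt N64290 (iv3 F195630)) (tt N75936 (iv4 F234641)) (tt N69549 F347096) (tt N34589 (iv6 D120680)) (tt N100664 D203808))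
theorem Q64047 : ∀ i, i < 64047 → P i := stepQ 64046 Q64046 (allL N64046 (tt N51905 F192386) (tt N36484 (iv0 F192387)) (tt N64061 (iv2 F192666)) (tt N34590 (iv3 D120681)) (tt N48749 F192384) (tt N36547 F192385) (tt N100665 D203809) (tt N75937 (iv7 F234645)))
theorem Q64048 : ∀ i, i < 64048 → P i := stepQ 64047 Q64047 (allL N64047 (tt N74354 F332299) (tt N94093 F403175) (tt N80533 (iv2 F268251)) (tt N100665 (iv3 F429908)) (tt N68456 F210573) (tt N66297 (iv5 F344915)) (tt N34590 (iv6 D120682)) (tt N66296 F362040))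
theorem Q64049 : ∀ i, i < 64049 → P i := stepQ 64048 Q64048 (allL N64048 (tt N80430 (iv1 F267389)) (tt N34591 (iv0 D120683)) (tt N81300 (iv2 F274192)) (tt N36446 F192389) (tt N80760 F350144) (tt N36525 F192388) (tt N67997 (iv6 F354069)) (tt N76906 (iv7 F240694)))
theorem Q64050 : ∀ i, i < 64050 → P i := stepQ 64049 Q64049 (allL N64049 (tt N34591 (iv1 D120684)) (tt N80430 (iv0 F267388)) (tt N76906 (iv2 F240692)) (tt N79255 (iv3 F253722)) (tt N54963 (iv4 F192391)) (tt N63593 F192390) (tt N92603 (iv6 F397594)) (tt N81300 (iv7 F274194)))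
theorem Q64051 : ∀ i, i < 64051 → P i := stepQ 64050 Q64050 (allL N64050 (tt N81300 (iv1 F274197)) (tt N76906 (iv0 F240696)) (tt N34591 (iv2 D120685)) (tt N64474 (iv3 F197298)) (tt N34597 F192392) (tt N75387 F305668) (tt N41988 F305669) (tt N80430 (iv7 F267387)))
theorem Q64052 : ∀ i, i < 64052 → P i := stepQ 64051 Q64051 (allL N64051 (tt N76906 (iv1 F240695)) (tt N81300 (iv0 F274196)) (tt N80430 (iv2 F267384)) (tt N34592 F192393) (tt N34598 F192394) (tt N46810 F192395) (tt N47981 (iv6 F192396)) (tt N34591 (iv7 D120686)))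
theorem Q64053 : ∀ i, i < 64053 → P i := stepQ 64052 Q64052 (allL N64052 (tt N34593 (iv1 D120688)) (tt N68416 F210338) (tt N74678 (iv2 F322652)) (tt N80489 F364491) (tt N85777 (iv4 F373893)) (tt N80439 F334473) (tt N52606 (iv6 F334477)) (tt N40875 F322358))
theorem Q64054 : ∀ i, i < 64054 → P i := stepQ 64053 Q64053 (allL N64053 (tt N74678 (iv1 F322651)) (tt N40875 F322354) (tt N68416 (iv2 F210335)) (tt N34595 F192397) (tt N61406 F192398) (tt N66850 (iv5 F205865)) (tt N36646 (iv6 F316002)) (tt N34593 (iv7 D120689)))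
theorem Q64055 : ∀ i, i < 64055 → P i := stepQ 64054 Q64054 (allL N64054 (tt N43233 F192417) (tt N45433 F192418) (tt N43838 F305621) (tt N61041 F192414) (tt N34596 (iv4 D120703)) (tt N47033 F192415) (tt N43623 F305622) (tt N46891 F298391))
theorem Q64056 : ∀ i, i < 64056 → P i := stepQ 64055 Q64055 (allL N64055 (tt N55201 F192423) (tt N99559 (iv0 F425159)) (tt N80431 (iv2 F267390)) (tt N34600 F192421) (tt N47981 F192422) (tt N75495 F306848) (tt N34598 (iv6 D120705)) (tt N41833 F306849))
theorem Q64057 : ∀ i, i < 64057 → P i := stepQ 64056 Q64056 (allL N64056 (tt N43644 F192425) (tt N42669 F192434) (tt N43642 F192431) (tt N34601 (iv3 D120706)) (tt N61444 (iv4 F192426)) (tt N40041 F313291) (tt N72686 (iv6 F315692)) (tt N43643 F192424))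
theorem Q64058 : ∀ i, i < 64058 → P i := stepQ 64057 Q64057 (allL N64057 (tt N66462 (iv1 F353955)) (tt N100666 D203810) (tt N72092 F333844) (tt N34604 (iv3 D120738)) (tt N44650 F192512) (tt N37126 (iv5 F321961)) (tt N34640 (iv6 F304243)) (tt N34620 F192513))
theorem Q64059 : ∀ i, i < 64059 → P i := stepQ 64058 Q64058 (allL N64058 (tt N35770 (iv1 F323878)) (tt N34605 (iv0 D120739)) (tt N35777 F322460) (tt N100667 D203811) (tt N55646 F322461) (tt N37124 F359736) (tt N35755 F322462) (tt N35776 F322463))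
theorem Q64060 : ∀ i, i < 64060 → P i := stepQ 64059 Q64059 (allL N64059 (tt N35777 (iv1 F323880)) (tt N35776 (iv0 F323881)) (tt N34605 (iv2 D120741)) (tt N34623 F192514) (tt N35772 (iv4 F323874)) (tt N36959 F320258) (tt N45902 F328020) (tt N35770 (iv7 F323879)))
theorem Q64061 : ∀ i, i < 64061 → P i := stepQ 64060 Q64060 (allL N64060 (tt N52876 F192605) (tt N54131 (iv0 F192606)) (tt N36543 F192601) (tt N34606 (iv3 D120775)) (tt N36548 F192602) (tt N52936 F192603) (tt N67042 F361918) (tt N46132 F192604))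
theorem Q64062 : ∀ i, i < 64062 → P i := stepQ 64061 Q64061 (allL N64061 (tt N44773 (iv1 F300639)) (tt N43172 F192671) (tt N64046 F192666) (tt N44764 F298183) (tt N48907 F192669) (tt N34608 (iv5 D120796)) (tt N100668 D203812) (tt N46137 F192668))
theorem Q64063 : ∀ i, i < 64063 → P i := stepQ 64062 Q64062 (allL N64062 (tt N38879 F357818) (tt N100669 D203813) (tt N47074 F192711) (tt N34610 F192712) (tt N64537 (iv4 F197513)) (tt N44031 F303104) (tt N34609 (iv6 D120813)) (tt N68408 F305919))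
theorem Q64064 : ∀ i, i < 64064 → P i := stepQ 64063 Q64063 (allL N64063 (tt N82142 F336912) (tt N70560 F305924) (tt N34720 F192714) (tt N44031 F303107) (tt N40233 F315596) (tt N34610 (iv5 D120816)) (tt N34714 F192715) (tt N68409 F305925))
theorem Q64065 : ∀ i, i < 64065 → P i := stepQ 64064 Q64064 (allL N64064 (tt N64030 F192782) (tt N74741 (iv0 F326480)) (tt N81717 (iv2 F276590)) (tt N79539 (iv3 F341679)) (tt N34611 (iv4 D120872)) (tt N79538 (iv5 F363194)) (tt N34741 F299808) (tt N45736 F299809))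
theorem Q64066 : ∀ i, i < 64066 → P i := stepQ 64065 Q64065 (allL N64065 (tt N42471 F305006) (tt N42475 F305007) (tt N45722 F307145) (tt N34613 F192786) (tt N64542 F307146) (tt N34612 (iv5 D120878)) (tt N41452 F305008) (tt N45241 F307147))
theorem Q64067 : ∀ i, i < 64067 → P i := stepQ 64066 Q64066 (allL N64066 (tt N78745 (iv1 F304983)) (tt N34666 F330760) (tt N34615 (iv2 D120924)) (tt N45902 F328017) (tt N34644 F192836) (tt N68976 F330770) (tt N34623 F192837) (tt N60380 (iv7 F320948)))
theorem Q64068 : ∀ i, i < 64068 → P i := stepQ 64067 Q64067 (allL N64067 (tt N46164 (iv1 F192858)) (tt N34616 (iv0 D120939)) (tt N38068 F338316) (tt N100670 D203814) (tt N100671 D203815) (tt N38056 F338317) (tt N80398 (iv6 F341645)) (tt N46163 F338349))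
theorem Q64069 : ∀ i, i < 64069 → P i := stepQ 64068 Q64068 (allL N64068 (tt N34616 (iv1 D120940)) (tt N46164 F192862) (tt N46163 F338350) (tt N55619 (iv3 F334349)) (tt N55625 F334350) (tt N38069 F338311) (tt N55617 F334351) (tt N38068 F338312))
theorem Q64070 : ∀ i, i < 64070 → P i := stepQ 64069 Q64069 (allL N64069 (tt N38068 F338348) (tt N46163 F192861) (tt N34616 (iv2 D120941)) (tt N45810 (iv3 F299312)) (tt N69287 (iv4 F358994)) (tt N68987 F358986) (tt N34650 F298427) (tt N46164 F192860))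
theorem Q64071 : ∀ i, i < 64071 → P i := stepQ 64070 Q64070 (allL N64070 (tt N45810 F302189) (tt N34617 (iv0 D120957)) (tt N45812 F302180) (tt N72101 F334277) (tt N88190 (iv4 F382099)) (tt N67912 F334278) (tt N41819 F334279) (tt N45811 F302181))
theorem Q64072 : ∀ i, i < 64072 → P i := stepQ 64071 Q64071 (allL N64071 (tt N45812 F302174) (tt N45811 F302175) (tt N34617 (iv2 D120959)) (tt N46164 F192905) (tt N81564 (iv4 F276077)) (tt N68989 (iv5 F336603)) (tt N69313 F334266) (tt N45810 F302176))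
theorem Q64073 : ∀ i, i < 64073 → P i := stepQ 64072 Q64072 (allL N64072 (tt N69296 F345779) (tt N37600 F345780) (tt N69313 F334264) (tt N34618 F192912) (tt N81565 (iv4 F276084)) (tt N47573 F320328) (tt N34617 (iv6 D120961)) (tt N34661 F302191))
theorem Q64074 : ∀ i, i < 64074 → P i := stepQ 64073 Q64073 (allL N64073 (tt N70083 (iv1 F333837)) (tt N34619 (iv0 D120970)) (tt N72093 F359103) (tt N87784 (iv3 F380488)) (tt N95629 (iv4 F408947)) (tt N68260 F345360) (tt N95628 (iv6 F408946)) (tt N72094 (iv7 F359080)))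
theorem Q64075 : ∀ i, i < 64075 → P i := stepQ 64074 Q64074 (allL N64074 (tt N34619 (iv1 D120971)) (tt N70083 (iv0 F333836)) (tt N72094 (iv2 F359070)) (tt N100672 D203816) (tt N95649 (iv4 F409004)) (tt N68228 F346121) (tt N76533 (iv6 F346123)) (tt N72093 F359104))
theorem Q64076 : ∀ i, i < 64076 → P i := stepQ 64075 Q64075 (allL N64075 (tt N66696 (iv1 F334005)) (tt N100673 D203817) (tt N72095 (iv2 F366246)) (tt N45415 F192936) (tt N34619 (iv4 D120973)) (tt N100674 D203818) (tt N45769 (iv6 F298794)) (tt N78489 (iv7 F248949)))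
theorem Q64077 : ∀ i, i < 64077 → P i := stepQ 64076 Q64076 (allL N64076 (tt N72092 F341230) (tt N34620 (iv0 D120977)) (tt N100666 (iv2 F429917)) (tt N100675 D203819) (tt N100676 D203820) (tt N66463 F341231) (tt N45391 F341232) (tt N66462 F341233))
theorem Q64078 : ∀ i, i < 64078 → P i := stepQ 64077 Q64077 (allL N64077 (tt N34620 (iv1 D120978)) (tt N72092 F333846) (tt N66462 F338714) (tt N100677 D203821) (tt N94760 (iv4 F405837)) (tt N39604 F338715) (tt N39607 F338716) (tt N100666 (iv7 F429914)))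
theorem Q64079 : ∀ i, i < 64079 → P i := stepQ 64078 Q64078 (allL N64078 (tt N100666 (iv1 F429913)) (tt N66462 (iv0 F353954)) (tt N34620 (iv2 D120979)) (tt N70083 (iv3 F333839)) (tt N58209 (iv4 F327607)) (tt N38895 F339527) (tt N65139 F339246) (tt N72092 (iv7 F333843)))
theorem Q64080 : ∀ i, i < 64080 → P i := stepQ 64079 Q64079 (allL N64079 (tt N100677 F429972) (tt N78633 (iv0 F366377)) (tt N100678 D203822) (tt N34621 (iv3 D120984)) (tt N64968 F198754) (tt N69168 (iv5 F326012)) (tt N100679 D203823) (tt N82454 (iv7 F281095)))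
theorem Q64081 : ∀ i, i < 64081 → P i := stepQ 64080 Q64080 (allL N64080 (tt N80272 (iv1 F262445)) (tt N45487 (iv0 F254200)) (tt N44637 F256570) (tt N80232 F262232) (tt N34621 (iv4 D120985)) (tt N35898 F326803) (tt N99611 (iv6 F425410)) (tt N79434 (iv7 F256615)))
theorem Q64082 : ∀ i, i < 64082 → P i := stepQ 64081 Q64081 (allL N64081 (tt N34644 F361874) (tt N34645 F361875) (tt N34643 F333775) (tt N100679 (iv3 F429975)) (tt N99611 (iv4 F425412)) (tt N100680 D203824) (tt N34621 (iv6 D120987)) (tt N34642 F333776))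
theorem Q64083 : ∀ i, i < 64083 → P i := stepQ 64082 Q64082 (allL N64082 (tt N87782 F380486) (tt N87784 (iv0 F429991)) (tt N100681 D203826) (tt N34622 (iv3 D120989)) (tt N100682 D203827) (tt N69170 (iv5 F326014)) (tt N75493 (iv6 F354294)) (tt N82455 (iv7 F281098)))
theorem Q64084 : ∀ i, i < 64084 → P i := stepQ 64083 Q64083 (allL N64083 (tt N45487 F256571) (tt N80272 F262446) (tt N79434 (iv2 F256610)) (tt N35529 F192946) (tt N34622 (iv4 D120990)) (tt N35901 F326805) (tt N52835 (iv6 F354801)) (tt N44637 F256554))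
theorem Q64085 : ∀ i, i < 64085 → P i := stepQ 64084 Q64084 (allL N64084 (tt N64234 F346928) (tt N80109 F342279) (tt N80107 (iv2 F330773)) (tt N75493 F342277) (tt N52835 (iv4 F344889)) (tt N75492 (iv5 F342274)) (tt N34622 (iv6 D120992)) (tt N80108 (iv7 F346947)))
theorem Q64086 : ∀ i, i < 64086 → P i := stepQ 64085 Q64085 (allL N64085 (tt N47745 F192984) (tt N79220 F300176) (tt N45728 F192981) (tt N100683 D203828) (tt N34624 (iv4 D121025)) (tt N87919 (iv5 F381119)) (tt N46460 F192982) (tt N45726 F192983))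
theorem Q64087 : ∀ i, i < 64087 → P i := stepQ 64086 Q64086 (allL N64086 (tt N79220 (iv1 F299678)) (tt N47745 F192993) (tt N45726 F192990) (tt N47767 F341705) (tt N34625 (iv4 D121027)) (tt N79548 (iv5 F341703)) (tt N45844 F192991) (tt N45728 F192992))
theorem Q64088 : ∀ i, i < 64088 → P i := stepQ 64087 Q64087 (allL N64087 (tt N100684 D203829) (tt N97498 (iv0 F417116)) (tt N100685 D203830) (tt N34626 (iv3 D121030)) (tt N34629 F192996) (tt N100686 D203831) (tt N65126 (iv6 F297644)) (tt N45731 F192997))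
theorem Q64089 : ∀ i, i < 64089 → P i := stepQ 64088 Q64088 (allL N64088 (tt N65729 F341731) (tt N64522 (iv0 F197481)) (tt N65730 (iv2 F330156)) (tt N100686 (iv3 F430011)) (tt N46308 F330160) (tt N34626 (iv5 D121031)) (tt N100687 D203832) (tt N45732 F192998))
theorem Q64090 : ∀ i, i < 64090 → P i := stepQ 64089 Q64089 (allL N64089 (tt N95804 (iv1 F409736)) (tt N95755 (iv0 F409479)) (tt N95774 (iv2 F409575)) (tt N34628 (iv3 D121034)) (tt N46464 F305251) (tt N79588 (iv5 F257407)) (tt N45861 F193005) (tt N45703 F193006))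
theorem Q64091 : ∀ i, i < 64091 → P i := stepQ 64090 Q64090 (allL N64090 (tt N45745 (iv1 F193007)) (tt N34629 (iv0 D121035)) (tt N45744 F348416) (tt N100688 D203833) (tt N100689 D203834) (tt N67049 (iv5 F341634)) (tt N67050 F341633) (tt N45743 F348417))
theorem Q64092 : ∀ i, i < 64092 → P i := stepQ 64091 Q64091 (allL N64091 (tt N34629 (iv1 D121036)) (tt N45745 F193011) (tt N45743 F348411) (tt N60079 F348412) (tt N95816 (iv4 F409775)) (tt N79578 F348414) (tt N45854 F348415) (tt N45744 F348413))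
theorem Q64093 : ∀ i, i < 64093 → P i := stepQ 64092 Q64092 (allL N64092 (tt N45744 (iv1 F193012)) (tt N45743 F193010) (tt N34629 (iv2 D121037)) (tt N45711 F193008) (tt N100685 (iv4 F430004)) (tt N81830 (iv5 F277118)) (tt N80399 (iv6 F264645)) (tt N45745 F193009))
theorem Q64094 : ∀ i, i < 64094 → P i := stepQ 64093 Q64093 (allL N64093 (tt N54246 (iv1 F346709)) (tt N64449 (iv0 F346706)) (tt N64450 (iv2 F320202)) (tt N53383 F334411) (tt N34632 (iv4 D121044)) (tt N89926 (iv5 F388021)) (tt N54344 F355388) (tt N45686 F193030))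
theorem Q64095 : ∀ i, i < 64095 → P i := stepQ 64094 Q64094 (allL N64094 (tt N100690 D203835) (tt N100691 D203836) (tt N80916 (iv2 F272392)) (tt N47586 F347491) (tt N54344 (iv4 F355387)) (tt N80778 (iv5 F347503)) (tt N34632 (iv6 D121045)) (tt N54337 F355379))
theorem Q64096 : ∀ i, i < 64096 → P i := stepQ 64095 Q64095 (allL N64095 (tt N47055 F193038) (tt N47057 F193047) (tt N45690 F193036) (tt N100692 D203837) (tt N34633 (iv4 D121049)) (tt N97624 (iv5 F417651)) (tt N45973 F300522) (tt N45688 F193037))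
theorem Q64097 : ∀ i, i < 64097 → P i := stepQ 64096 Q64096 (allL N64096 (tt N47057 F193046) (tt N47055 F193048) (tt N45688 F193044) (tt N93912 (iv3 F402405)) (tt N34634 (iv4 D121051)) (tt N93911 F402402) (tt N47132 (iv6 F300621)) (tt N45690 F193045))
theorem Q64098 : ∀ i, i < 64098 → P i := stepQ 64097 Q64097 (allL N64097 (tt N100693 D203838) (tt N100694 D203839) (tt N100695 D203840) (tt N34635 (iv3 D121054)) (tt N34636 F193051) (tt N100696 D203841) (tt N59810 (iv6 F324596)) (tt N45693 F193052))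
theorem Q64099 : ∀ i, i < 64099 → P i := stepQ 64098 Q64098 (allL N64098 (tt N80255 (iv1 F262372)) (tt N80937 F272503) (tt N80934 F272497) (tt N100696 (iv3 F430064)) (tt N89925 (iv4 F388015)) (tt N34635 (iv5 D121055)) (tt N89221 (iv6 F385656)) (tt N45694 F193053))
theorem Q64100 : ∀ i, i < 64100 → P i := stepQ 64099 Q64099 (allL N64099 (tt N45711 (iv1 F193073)) (tt N34636 (iv0 D121062)) (tt N45710 F336598) (tt N66506 (iv3 F349869)) (tt N100697 D203842) (tt N66505 (iv5 F360764)) (tt N69296 (iv6 F333978)) (tt N45709 F336599))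
theorem Q64101 : ∀ i, i < 64101 → P i := stepQ 64100 Q64100 (allL N64100 (tt N34636 (iv1 D121063)) (tt N45711 F193077) (tt N45709 F362182) (tt N100698 D203843) (tt N100699 D203844) (tt N79568 F362183) (tt N75386 F362184) (tt N45710 F362185))
theorem Q64102 : ∀ i, i < 64102 → P i := stepQ 64101 Q64101 (allL N64101 (tt N45710 (iv1 F193078)) (tt N45709 F193076) (tt N34636 (iv2 D121064)) (tt N45745 F193074) (tt N100695 (iv4 F430059)) (tt N75420 (iv5 F336608)) (tt N82434 (iv6 F280869)) (tt N45711 F193075))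
theorem Q64103 : ∀ i, i < 64103 → P i := stepQ 64102 Q64102 (allL N64102 (tt N60488 (iv1 F358950)) (tt N79541 (iv0 F257223)) (tt N82533 (iv2 F282128)) (tt N81791 (iv3 F277007)) (tt N67050 (iv4 F341673)) (tt N34637 (iv5 D121068)) (tt N100689 (iv6 F430027)) (tt N45756 F193088))
theorem Q64104 : ∀ i, i < 64104 → P i := stepQ 64103 Q64103 (allL N64103 (tt N81622 (iv1 F336525)) (tt N78670 F353269) (tt N79594 F353266) (tt N35280 F193100) (tt N34638 (iv4 D121075)) (tt N79593 (iv5 F353268)) (tt N55565 (iv6 F352054)) (tt N45769 F193101))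
theorem Q64105 : ∀ i, i < 64105 → P i := stepQ 64104 Q64104 (allL N64104 (tt N34640 (iv1 D121079)) (tt N45762 F193109) (tt N45761 F341248) (tt N100700 D203845) (tt N100701 D203846) (tt N77778 F337698) (tt N65447 (iv6 F341253)) (tt N45402 F341249))
theorem Q64106 : ∀ i, i < 64106 → P i := stepQ 64105 Q64105 (allL N64105 (tt N45402 (iv1 F339260)) (tt N45761 F193108) (tt N34640 (iv2 D121080)) (tt N45768 F193106) (tt N80603 (iv4 F353963)) (tt N66260 F353959) (tt N72092 F353962) (tt N45762 F193107))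
theorem Q64107 : ∀ i, i < 64107 → P i := stepQ 64106 Q64106 (allL N64106 (tt N81779 F339279) (tt N81781 (iv0 F353956)) (tt N66260 (iv2 F353958)) (tt N34641 F193113) (tt N100702 D203847) (tt N34640 (iv5 D121082)) (tt N66248 F353957) (tt N45764 F193114))
theorem Q64108 : ∀ i, i < 64108 → P i := stepQ 64107 Q64107 (allL N64107 (tt N34643 (iv1 F193123)) (tt N34642 (iv0 D121086)) (tt N34645 (iv2 F193120)) (tt N35747 (iv3 F324566)) (tt N60380 F323598) (tt N95762 (iv5 F409517)) (tt N35746 F323599) (tt N34644 F193122))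
theorem Q64109 : ∀ i, i < 64109 → P i := stepQ 64108 Q64108 (allL N64108 (tt N34645 F346932) (tt N34644 F346933) (tt N34642 (iv2 D121087)) (tt N82467 F355478) (tt N81207 F346934) (tt N48121 F347916) (tt N80108 (iv6 F346946)) (tt N34643 (iv7 F193124)))
theorem Q64110 : ∀ i, i < 64110 → P i := stepQ 64109 Q64109 (allL N64109 (tt N100700 (iv1 F433822)) (tt N100703 D203849) (tt N100704 D203850) (tt N34642 (iv3 D121088)) (tt N95214 F407446) (tt N81142 (iv5 F423639)) (tt N100705 D203851) (tt N100679 F429977))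
theorem Q64111 : ∀ i, i < 64111 → P i := stepQ 64110 Q64110 (allL N64110 (tt N100706 D203852) (tt N100707 D203853) (tt N81207 (iv2 F359992)) (tt N100708 D203854) (tt N34642 (iv4 D121089)) (tt N77620 F359991) (tt N100532 (iv6 F429360)) (tt N99611 (iv7 F425411)))
theorem Q64112 : ∀ i, i < 64112 → P i := stepQ 64111 Q64111 (allL N64111 (tt N100709 D203855) (tt N79513 F351388) (tt N48121 F351389) (tt N81142 F423638) (tt N99192 (iv4 F423634)) (tt N34642 (iv5 D121090)) (tt N48118 F351390) (tt N100680 (iv7 F429981)))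
theorem Q64113 : ∀ i, i < 64113 → P i := stepQ 64112 Q64112 (allL N64112 (tt N80109 (iv1 F346937)) (tt N64234 F344888) (tt N80108 (iv2 F346944)) (tt N100705 (iv3 F430100)) (tt N100532 (iv4 F429359)) (tt N80197 F262048) (tt N34642 (iv6 D121091)) (tt N80107 F346936))
theorem Q64114 : ∀ i, i < 64114 → P i := stepQ 64113 Q64113 (allL N64113 (tt N82465 (iv1 F389964)) (tt N82470 F389965) (tt N82468 (iv2 F430130)) (tt N34643 (iv3 D121093)) (tt N100710 D203857) (tt N66445 F355482) (tt N82455 F364607) (tt N82467 (iv7 F355481)))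
theorem Q64115 : ∀ i, i < 64115 → P i := stepQ 64114 Q64114 (allL N64114 (tt N100707 (iv1 F430109)) (tt N100706 F430105) (tt N99611 (iv2 F425409)) (tt N44639 F333777) (tt N34643 (iv4 D121094)) (tt N77619 (iv5 F354799)) (tt N44637 F333778) (tt N81207 F354800))
theorem Q64116 : ∀ i, i < 64116 → P i := stepQ 64115 Q64115 (allL N64115 (tt N79513 F348469) (tt N100709 F430121) (tt N100680 (iv2 F429978)) (tt N66445 F351380) (tt N62052 F351381) (tt N34643 (iv5 D121095)) (tt N62050 F351382) (tt N48121 F351383))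
theorem Q64117 : ∀ i, i < 64117 → P i := stepQ 64116 Q64116 (allL N64116 (tt N74244 F323018) (tt N72133 F323019) (tt N82491 F338781) (tt N34646 (iv3 D121105)) (tt N44466 F323020) (tt N35276 F193134) (tt N44465 F323021) (tt N45783 F193135))
theorem Q64118 : ∀ i, i < 64118 → P i := stepQ 64117 Q64117 (allL N64117 (tt N66762 (iv1 F349404)) (tt N66763 F349405) (tt N45787 F193155) (tt N60099 F349402) (tt N43998 F193156) (tt N82463 (iv5 F281141)) (tt N34647 (iv6 D121114)) (tt N60095 (iv7 F349403)))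
theorem Q64119 : ∀ i, i < 64119 → P i := stepQ 64118 Q64118 (allL N64118 (tt N65421 (iv1 F258467)) (tt N82396 F280695) (tt N79806 (iv2 F258420)) (tt N34648 (iv3 D121116)) (tt N64152 F193375) (tt N45485 (iv5 F254070)) (tt N62547 (iv6 F352229)) (tt N45846 F254243))
theorem Q64120 : ∀ i, i < 64120 → P i := stepQ 64119 Q64119 (allL N64119 (tt N79782 (iv1 F258259)) (tt N80286 (iv0 F262505)) (tt N45850 F254257) (tt N82553 (iv3 F356037)) (tt N34648 (iv4 D121117)) (tt N100711 D203858) (tt N75453 F356027) (tt N45847 F254244))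
theorem Q64121 : ∀ i, i < 64121 → P i := stepQ 64120 Q64120 (allL N64120 (tt N80286 (iv1 F262506)) (tt N79782 (iv0 F258258)) (tt N45847 F254253) (tt N35600 F328214) (tt N34649 (iv4 D121122)) (tt N100712 D203859) (tt N35599 F328215) (tt N45850 (iv7 F254256)))
theorem Q64122 : ∀ i, i < 64122 → P i := stepQ 64121 Q64121 (allL N64121 (tt N100713 D203860) (tt N100714 D203861) (tt N100715 D203862) (tt N34651 (iv3 D121135)) (tt N45818 F193183) (tt N79648 (iv5 F257600)) (tt N100716 D203863) (tt N45788 F193184))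
theorem Q64123 : ∀ i, i < 64123 → P i := stepQ 64122 Q64122 (allL N64122 (tt N79842 (iv1 F298083)) (tt N78645 F296608) (tt N34655 F193185) (tt N100716 (iv3 F430160)) (tt N34652 F193186) (tt N100717 D203864) (tt N34651 (iv6 D121136)) (tt N44701 F296609))
theorem Q64124 : ∀ i, i < 64124 → P i := stepQ 64123 Q64123 (allL N64123 (tt N45800 (iv1 F193197)) (tt N34653 (iv0 D121140)) (tt N45799 (iv2 F254310)) (tt N100718 D203865) (tt N82464 (iv4 F281149)) (tt N79323 (iv5 F257591)) (tt N87815 (iv6 F380634)) (tt N45798 (iv7 F254311)))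
theorem Q64125 : ∀ i, i < 64125 → P i := stepQ 64124 Q64124 (allL N64124 (tt N45799 (iv1 F193203)) (tt N45798 F193201) (tt N34653 (iv2 D121142)) (tt N100715 (iv3 F430155)) (tt N34660 F193199) (tt N100719 D203866) (tt N100720 D203867) (tt N45800 F193200))
theorem Q64126 : ∀ i, i < 64126 → P i := stepQ 64125 Q64125 (allL N64125 (tt N80260 (iv1 F262401)) (tt N80263 (iv0 F262408)) (tt N100719 (iv2 F430170)) (tt N34654 F193204) (tt N100721 D203868) (tt N34653 (iv5 D121143)) (tt N100722 D203869) (tt N45801 F193205))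
theorem Q64127 : ∀ i, i < 64127 → P i := stepQ 64126 Q64126 (allL N64126 (tt N81030 F337361) (tt N100723 D203870) (tt N100720 (iv2 F430174)) (tt N34655 F193206) (tt N34661 F193207) (tt N68796 F334274) (tt N34653 (iv6 D121144)) (tt N81565 F366918))
theorem Q64128 : ∀ i, i < 64128 → P i := stepQ 64127 Q64127 (allL N64127 (tt N100724 D203871) (tt N100725 D203872) (tt N79649 (iv2 F257602)) (tt N100722 (iv3 F430182)) (tt N79630 (iv4 F257519)) (tt N100726 D203873) (tt N34654 (iv6 D121145)) (tt N100727 D203874))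
theorem Q64129 : ∀ i, i < 64129 → P i := stepQ 64128 Q64128 (allL N64128 (tt N96957 (iv1 F414776)) (tt N100728 D203875) (tt N100717 (iv2 F430164)) (tt N68796 (iv3 F364578)) (tt N100729 D203876) (tt N34655 (iv5 D121148)) (tt N100726 (iv6 F430184)) (tt N81566 F366959))
theorem Q64130 : ∀ i, i < 64130 → P i := stepQ 64129 Q64129 (allL N64129 (tt N45962 F297273) (tt N45976 F297274) (tt N45974 (iv2 F298085)) (tt N100730 D203877) (tt N34656 (iv4 D121151)) (tt N100731 D203878) (tt N47133 (iv6 F299378)) (tt N45973 F297275))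
theorem Q64131 : ∀ i, i < 64131 → P i := stepQ 64130 Q64130 (allL N64130 (tt N45976 F297268) (tt N45962 F297269) (tt N45973 F297270) (tt N97626 (iv3 F417659)) (tt N34657 (iv4 D121154)) (tt N100732 D203879) (tt N45690 F193221) (tt N45974 (iv7 F298087)))
theorem Q64132 : ∀ i, i < 64132 → P i := stepQ 64131 Q64131 (allL N64131 (tt N59936 (iv1 F323060)) (tt N85738 (iv0 F373749)) (tt N45664 F193222) (tt N45843 (iv3 F297445)) (tt N96900 (iv4 F414515)) (tt N34657 (iv5 D121155)) (tt N45643 F193225) (tt N46222 F193224))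
theorem Q64133 : ∀ i, i < 64133 → P i := stepQ 64132 Q64132 (allL N64132 (tt N44673 F257783) (tt N82429 F280845) (tt N79848 (iv2 F258615)) (tt N34658 (iv3 D121157)) (tt N50695 F193227) (tt N45882 F250809) (tt N60064 (iv6 F340645)) (tt N45804 F257938))
theorem Q64134 : ∀ i, i < 64134 → P i := stepQ 64133 Q64133 (allL N64133 (tt N58466 (iv1 F363500)) (tt N91525 F393484) (tt N45808 F257939) (tt N84653 (iv3 F370050)) (tt N34658 (iv4 D121158)) (tt N49917 F358132) (tt N58404 (iv6 F353512)) (tt N45805 F257940))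
theorem Q64135 : ∀ i, i < 64135 → P i := stepQ 64134 Q64134 (allL N64134 (tt N82434 F336621) (tt N46347 F336622) (tt N45809 F257941) (tt N60064 F353508) (tt N58404 F353510) (tt N82154 (iv5 F336572)) (tt N34658 (iv6 D121160)) (tt N82014 (iv7 F351998)))
theorem Q64136 : ∀ i, i < 64136 → P i := stepQ 64135 Q64135 (allL N64135 (tt N37600 F334268) (tt N69296 F334269) (tt N34661 F193229) (tt N45852 F193230) (tt N100720 (iv4 F430175)) (tt N70047 F334270) (tt N34660 (iv6 D121166)) (tt N69313 (iv7 F334263)))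
theorem Q64137 : ∀ i, i < 64137 → P i := stepQ 64136 Q64136 (allL N64136 (tt N69313 F334249) (tt N34661 (iv0 D121167)) (tt N37600 F334250) (tt N84138 (iv3 F368270)) (tt N68808 F334251) (tt N37599 F334252) (tt N75385 F334248) (tt N69296 F334253))
theorem Q64138 : ∀ i, i < 64138 → P i := stepQ 64137 Q64137 (allL N64137 (tt N34753 F337586) (tt N60004 F319905) (tt N95775 (iv2 F409583)) (tt N34663 (iv3 D121179)) (tt N35804 F319906) (tt N47950 F317711) (tt N41583 (iv6 F319907)) (tt N45859 F193263))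
theorem Q64139 : ∀ i, i < 64139 → P i := stepQ 64138 Q64138 (allL N64138 (tt N34664 (iv1 D121188)) (tt N65440 F254364) (tt N45400 F254351) (tt N45905 (iv3 F193274)) (tt N82517 (iv4 F281431)) (tt N85729 (iv5 F373689)) (tt N100703 F430095) (tt N65441 F254352))
theorem Q64140 : ∀ i, i < 64140 → P i := stepQ 64139 Q64139 (allL N64139 (tt N34668 (iv1 F193283)) (tt N34665 (iv0 D121193)) (tt N79767 F258080) (tt N94032 (iv3 F402896)) (tt N46332 F193278) (tt N100733 D203880) (tt N94031 F402894) (tt N79345 F254204))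
theorem Q64141 : ∀ i, i < 64141 → P i := stepQ 64140 Q64140 (allL N64140 (tt N34665 (iv1 D121194)) (tt N34668 F193279) (tt N79345 (iv2 F254202)) (tt N46124 (iv3 F254183)) (tt N78409 F254182) (tt N100734 D203881) (tt N100707 (iv6 F430114)) (tt N79767 (iv7 F258079)))
theorem Q64142 : ∀ i, i < 64142 → P i := stepQ 64141 Q64141 (allL N64141 (tt N80055 F261081) (tt N95102 F407050) (tt N81814 (iv2 F362465)) (tt N34665 (iv3 D121195)) (tt N82441 (iv4 F280909)) (tt N84087 (iv5 F368050)) (tt N81811 F362463) (tt N79768 (iv7 F258082)))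
theorem Q64143 : ∀ i, i < 64143 → P i := stepQ 64142 Q64142 (allL N64142 (tt N80279 (iv1 F262475)) (tt N37200 F334295) (tt N69224 (iv2 F334328)) (tt N84087 (iv3 F368052)) (tt N67565 (iv4 F334317)) (tt N34665 (iv5 D121196)) (tt N99179 (iv6 F423600)) (tt N79769 (iv7 F258084)))
theorem Q64144 : ∀ i, i < 64144 → P i := stepQ 64143 Q64143 (allL N64143 (tt N81800 F359275) (tt N75297 (iv0 F354859)) (tt N79775 (iv2 F258127)) (tt N81811 (iv3 F362462)) (tt N34666 F193280) (tt N99180 (iv5 F423604)) (tt N34665 (iv6 D121197)) (tt N80979 (iv7 F359279)))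
theorem Q64145 : ∀ i, i < 64145 → P i := stepQ 64144 Q64144 (allL N64144 (tt N46305 F257643) (tt N46302 (iv0 F193291)) (tt N60562 (iv2 F328086)) (tt N100735 D203882) (tt N34667 (iv4 D121212)) (tt N100736 D203883) (tt N100737 D203884) (tt N60563 (iv7 F328093)))
theorem Q64146 : ∀ i, i < 64146 → P i := stepQ 64145 Q64145 (allL N64145 (tt N44743 F344719) (tt N82338 (iv0 F347488)) (tt N82366 (iv2 F345772)) (tt N34669 F193293) (tt N100737 (iv4 F430232)) (tt N47587 F344720) (tt N34667 (iv6 D121214)) (tt N82365 (iv7 F346963)))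
theorem Q64147 : ∀ i, i < 64147 → P i := stepQ 64146 Q64146 (allL N64146 (tt N69401 (iv1 F320964)) (tt N46122 (iv0 F193294)) (tt N69228 (iv2 F337547)) (tt N34668 (iv3 D121215)) (tt N100735 (iv4 F430220)) (tt N69202 (iv5 F336072)) (tt N80115 F334677) (tt N69225 (iv7 F337542)))
theorem Q64148 : ∀ i, i < 64148 → P i := stepQ 64147 Q64147 (allL N64147 (tt N37200 F334296) (tt N80279 (iv0 F262474)) (tt N79769 (iv2 F258083)) (tt N69202 (iv3 F336070)) (tt N67564 (iv4 F334315)) (tt N34668 (iv5 D121216)) (tt N69199 F364317) (tt N69224 (iv7 F334330)))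
theorem Q64149 : ∀ i, i < 64149 → P i := stepQ 64148 Q64148 (allL N64148 (tt N78591 (iv1 F330729)) (tt N100738 D203885) (tt N79770 (iv2 F258085)) (tt N80115 (iv3 F334678)) (tt N34669 F193295) (tt N96563 (iv5 F413013)) (tt N34668 (iv6 D121217)) (tt N81802 (iv7 F362459)))
theorem Q64150 : ∀ i, i < 64150 → P i := stepQ 64149 Q64149 (allL N64149 (tt N100739 D203886) (tt N100740 D203887) (tt N100741 D203888) (tt N34670 (iv3 D121263)) (tt N45961 F193355) (tt N79814 (iv5 F258442)) (tt N92882 (iv6 F398635)) (tt N45937 F193356))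
theorem Q64151 : ∀ i, i < 64151 → P i := stepQ 64150 Q64150 (allL N64150 (tt N78443 F300424) (tt N78442 F300425) (tt N34675 F193357) (tt N92882 F398633) (tt N34671 F193358) (tt N100742 D203889) (tt N34670 (iv6 D121264)) (tt N48306 F300426))
theorem Q64152 : ∀ i, i < 64152 → P i := stepQ 64151 Q64151 (allL N64151 (tt N94870 F406200) (tt N93469 (iv0 F400820)) (tt N100743 D203890) (tt N34672 (iv3 D121267)) (tt N52249 F193370) (tt N79213 (iv5 F253465)) (tt N94835 (iv6 F406105)) (tt N45939 F193371))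
theorem Q64153 : ∀ i, i < 64153 → P i := stepQ 64152 Q64152 (allL N64152 (tt N34673 (iv1 D121270)) (tt N45944 (iv0 F193376)) (tt N45942 F254247) (tt N94860 (iv3 F406179)) (tt N64118 (iv4 F193375)) (tt N79210 F254090) (tt N94962 (iv6 F406521)) (tt N45943 (iv7 F254245)))
theorem Q64154 : ∀ i, i < 64154 → P i := stepQ 64153 Q64153 (allL N64153 (tt N45943 (iv1 F193380)) (tt N45942 F193379) (tt N34673 (iv2 D121271)) (tt N100741 (iv3 F430244)) (tt N34678 F193377) (tt N96575 (iv5 F413050)) (tt N100744 D203891) (tt N45944 F193378))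
theorem Q64155 : ∀ i, i < 64155 → P i := stepQ 64154 Q64154 (allL N64154 (tt N64984 (iv1 F257965)) (tt N64987 F254078) (tt N96575 F413051) (tt N34674 F193381) (tt N100745 D203892) (tt N34673 (iv5 D121272)) (tt N100746 D203893) (tt N45945 F193382))
theorem Q64156 : ∀ i, i < 64156 → P i := stepQ 64155 Q64155 (allL N64155 (tt N76724 F322713) (tt N100747 D203894) (tt N100744 (iv2 F430264)) (tt N34675 F193383) (tt N34679 F193384) (tt N100748 D203895) (tt N34673 (iv6 D121273)) (tt N78440 (iv7 F366912)))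
theorem Q64157 : ∀ i, i < 64157 → P i := stepQ 64156 Q64156 (allL N64156 (tt N100749 D203896) (tt N73520 (iv0 F405896)) (tt N79815 (iv2 F258444)) (tt N100746 (iv3 F430273)) (tt N79799 (iv4 F258396)) (tt N100750 D203897) (tt N34674 (iv6 D121274)) (tt N100751 D203898))
theorem Q64158 : ∀ i, i < 64158 → P i := stepQ 64157 Q64157 (allL N64157 (tt N48306 F301037) (tt N34675 (iv0 D121275)) (tt N78443 F301038) (tt N93440 (iv3 F400747)) (tt N45630 F256385) (tt N93439 F400746) (tt N73209 (iv6 F351529)) (tt N78442 F301039))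
theorem Q64159 : ∀ i, i < 64159 → P i := stepQ 64158 Q64158 (allL N64158 (tt N34675 (iv1 D121276)) (tt N48306 F300517) (tt N78442 F300518) (tt N100752 D203899) (tt N45631 (iv4 F256104)) (tt N94329 (iv5 F404059)) (tt N47775 F256105) (tt N78443 F300519))
theorem Q64160 : ∀ i, i < 64160 → P i := stepQ 64159 Q64159 (allL N64159 (tt N95728 (iv1 F409346)) (tt N95730 (iv0 F409350)) (tt N100742 (iv2 F430253)) (tt N100748 (iv3 F430284)) (tt N100753 D203900) (tt N34675 (iv5 D121277)) (tt N100750 (iv6 F430288)) (tt N78444 (iv7 F366946)))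
theorem Q64161 : ∀ i, i < 64161 → P i := stepQ 64160 Q64160 (allL N64160 (tt N48310 (iv1 F299552)) (tt N56820 (iv0 F337375)) (tt N45993 (iv2 F299719)) (tt N67449 F337366) (tt N34676 (iv4 D121280)) (tt N56840 (iv5 F337373)) (tt N79145 (iv6 F253165)) (tt N78445 (iv7 F299556)))
theorem Q64162 : ∀ i, i < 64162 → P i := stepQ 64161 Q64161 (allL N64161 (tt N48338 F297668) (tt N48261 (iv0 F254954)) (tt N35508 (iv2 F299722)) (tt N35800 F325650) (tt N58322 F325651) (tt N34676 (iv5 D121281)) (tt N34773 F297670) (tt N35214 F193391))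
theorem Q64163 : ∀ i, i < 64163 → P i := stepQ 64162 Q64162 (allL N64162 (tt N56820 (iv1 F337376)) (tt N48310 F299581) (tt N78445 F299582) (tt N79728 F299583) (tt N34677 (iv4 D121283)) (tt N56841 F344466) (tt N44936 (iv6 F302540)) (tt N45993 (iv7 F299720)))
theorem Q64164 : ∀ i, i < 64164 → P i := stepQ 64163 Q64163 (allL N64163 (tt N48261 (iv1 F254955)) (tt N48338 F301319) (tt N35214 F193400) (tt N34681 F301320) (tt N58321 F344525) (tt N34677 (iv5 D121284)) (tt N34829 F193401) (tt N35508 F301321))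
theorem Q64165 : ∀ i, i < 64165 → P i := stepQ 64164 Q64164 (allL N64164 (tt N47080 F322709) (tt N76747 F322710) (tt N34679 F193406) (tt N45986 F193407) (tt N100744 (iv4 F430265)) (tt N48033 F322711) (tt N34678 (iv6 D121295)) (tt N76746 F322712))
theorem Q64166 : ∀ i, i < 64166 → P i := stepQ 64165 Q64165 (allL N64165 (tt N34679 (iv1 D121297)) (tt N76746 F322704) (tt N76747 F322705) (tt N47104 F322706) (tt N56880 F338241) (tt N47081 F322707) (tt N47780 F339267) (tt N47080 F322708))
theorem Q64167 : ∀ i, i < 64167 → P i := stepQ 64166 Q64166 (allL N64166 (tt N76747 F320251) (tt N47080 F320252) (tt N76746 F320253) (tt N34680 F193410) (tt N78440 F302606) (tt N45562 F320254) (tt N45632 F302607) (tt N34679 (iv7 D121299)))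
theorem Q64168 : ∀ i, i < 64168 → P i := stepQ 64167 Q64167 (allL N64167 (tt N69625 (iv1 F215177)) (tt N69622 (iv0 F215146)) (tt N45100 F193431) (tt N100754 D203901) (tt N34683 (iv4 D121306)) (tt N69660 (iv5 F215483)) (tt N76366 (iv6 F238465)) (tt N78282 (iv7 F247664)))
theorem Q64169 : ∀ i, i < 64169 → P i := stepQ 64168 Q64168 (allL N64168 (tt N78542 (iv1 F249077)) (tt N78544 (iv0 F249092)) (tt N76948 (iv2 F240911)) (tt N34684 (iv3 D121307)) (tt N61466 F193432) (tt N43910 F193433) (tt N85826 (iv6 F374135)) (tt N45101 F193434))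
theorem Q64170 : ∀ i, i < 64170 → P i := stepQ 64169 Q64169 (allL N64169 (tt N98106 F419474) (tt N100755 D203902) (tt N34686 F193435) (tt N85826 (iv3 F374134)) (tt N34685 F193436) (tt N100756 D203903) (tt N34684 (iv6 D121308)) (tt N100757 D203904))
theorem Q64171 : ∀ i, i < 64171 → P i := stepQ 64170 Q64170 (allL N64170 (tt N34689 (iv1 F193442)) (tt N34685 (iv0 D121309)) (tt N34687 F354921) (tt N34696 F354922) (tt N100758 D203905) (tt N98270 (iv5 F420267)) (tt N98520 (iv6 F421190)) (tt N34688 F354923))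
theorem Q64172 : ∀ i, i < 64172 → P i := stepQ 64171 Q64171 (allL N64171 (tt N34685 (iv1 D121310)) (tt N34689 F193437) (tt N34688 F354916) (tt N61415 (iv3 F338553)) (tt N43778 F354911) (tt N75567 F354912) (tt N61553 F377402) (tt N34687 F354917))
theorem Q64173 : ∀ i, i < 64173 → P i := stepQ 64172 Q64172 (allL N64172 (tt N34688 (iv1 F193443)) (tt N34687 F193444) (tt N34689 F193438) (tt N51290 F193439) (tt N100757 (iv4 F430318)) (tt N55807 F193440) (tt N45105 F193441) (tt N34685 (iv7 D121311)))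
theorem Q64174 : ∀ i, i < 64174 → P i := stepQ 64173 Q64173 (allL N64173 (tt N100757 (iv1 F430322)) (tt N34686 (iv0 D121312)) (tt N98106 (iv2 F419470)) (tt N63646 F398326) (tt N92809 F398325) (tt N100759 D203906) (tt N100760 D203907) (tt N100755 (iv7 F430304)))
theorem Q64175 : ∀ i, i < 64175 → P i := stepQ 64174 Q64174 (allL N64174 (tt N34686 (iv1 D121313)) (tt N100757 F430321) (tt N100755 (iv2 F430308)) (tt N35138 F355073) (tt N92810 (iv4 F398333)) (tt N81839 (iv5 F391059)) (tt N59271 (iv6 F355074)) (tt N98106 (iv7 F419472)))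
theorem Q64176 : ∀ i, i < 64176 → P i := stepQ 64175 Q64175 (allL N64175 (tt N100761 D203908) (tt N100762 D203909) (tt N100756 (iv2 F430310)) (tt N50039 F193445) (tt N77308 (iv4 F338147)) (tt N34686 (iv5 D121314)) (tt N64535 (iv6 F197511)) (tt N54824 (iv7 F348248)))
theorem Q64177 : ∀ i, i < 64177 → P i := stepQ 64176 Q64176 (allL N64176 (tt N100755 (iv1 F430303)) (tt N98106 (iv0 F419473)) (tt N100757 (iv2 F430317)) (tt N50040 F193446) (tt N34689 F193447) (tt N54824 F348244) (tt N45111 F193448) (tt N34686 (iv7 D121315)))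
theorem Q64178 : ∀ i, i < 64178 → P i := stepQ 64177 Q64177 (allL N64177 (tt N61416 F355077) (tt N61399 (iv0 F338594)) (tt N61414 (iv2 F338593)) (tt N34687 (iv3 D121317)) (tt N79907 F258910) (tt N92585 (iv5 F397494)) (tt N100763 D203910) (tt N61415 (iv7 F338588)))
theorem Q64179 : ∀ i, i < 64179 → P i := stepQ 64178 Q64178 (allL N64178 (tt N100764 D203911) (tt N76262 (iv0 F355078)) (tt N100758 (iv2 F430323)) (tt N43607 F354976) (tt N34687 (iv4 D121318)) (tt N100765 D203912) (tt N75045 (iv6 F425058)) (tt N43778 F354919))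
theorem Q64180 : ∀ i, i < 64180 → P i := stepQ 64179 Q64179 (allL N64179 (tt N98269 (iv1 F420259)) (tt N98268 (iv0 F420258)) (tt N98270 (iv2 F420264)) (tt N92585 (iv3 F397496)) (tt N75569 (iv4 F354924)) (tt N34687 (iv5 D121319)) (tt N100766 D203913) (tt N75567 F354920))
theorem Q64181 : ∀ i, i < 64181 → P i := stepQ 64180 Q64180 (allL N64180 (tt N98514 F421183) (tt N98521 F421197) (tt N98520 F421191) (tt N100763 (iv3 F430351)) (tt N75045 F425057) (tt N100171 F427828) (tt N34687 (iv6 D121320)) (tt N98519 (iv7 F421307)))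
theorem Q64182 : ∀ i, i < 64182 → P i := stepQ 64181 Q64181 (allL N64181 (tt N76262 F353785) (tt N100764 F430357) (tt N43778 F354926) (tt N84154 (iv3 F368357)) (tt N34688 (iv4 D121323)) (tt N77387 F354925) (tt N84258 (iv6 F368718)) (tt N100758 (iv7 F430326)))
theorem Q64183 : ∀ i, i < 64183 → P i := stepQ 64182 Q64182 (allL N64182 (tt N61555 F380089) (tt N61544 (iv0 F411695)) (tt N61553 (iv2 F377403)) (tt N61497 F366196) (tt N84258 F368719) (tt N98267 (iv5 F420248)) (tt N34688 (iv6 D121325)) (tt N61554 (iv7 F377406)))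
theorem Q64184 : ∀ i, i < 64184 → P i := stepQ 64183 Q64183 (allL N64183 (tt N76386 (iv1 F335472)) (tt N76372 F335477) (tt N74933 (iv2 F364428)) (tt N34691 F193459) (tt N100767 D203914) (tt N34690 (iv5 D121330)) (tt N76394 (iv6 F363930)) (tt N61490 F193460))
theorem Q64185 : ∀ i, i < 64185 → P i := stepQ 64184 Q64184 (allL N64184 (tt N34694 (iv1 F193464)) (tt N34691 (iv0 D121332)) (tt N61484 (iv2 F193528)) (tt N100768 D203915) (tt N98122 (iv4 F419553)) (tt N42365 F193463) (tt N100769 D203916) (tt N61485 (iv7 F193529)))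
theorem Q64186 : ∀ i, i < 64186 → P i := stepQ 64185 Q64185 (allL N64185 (tt N34691 (iv1 D121333)) (tt N34694 F193530) (tt N61485 (iv2 F193534)) (tt N98268 (iv3 F420255)) (tt N98123 (iv4 F419559)) (tt N60960 F193532) (tt N46118 (iv6 F193533)) (tt N61484 F193531))
theorem Q64187 : ∀ i, i < 64187 → P i := stepQ 64186 Q64186 (allL N64186 (tt N79930 (iv1 F259024)) (tt N52019 (iv0 F346174)) (tt N61486 F193536) (tt N100770 D203917) (tt N34691 (iv4 D121334)) (tt N79960 (iv5 F259089)) (tt N66535 F339972) (tt N61492 F193537))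
theorem Q64188 : ∀ i, i < 64188 → P i := stepQ 64187 Q64187 (allL N64187 (tt N79984 F259234) (tt N98259 (iv0 F420220)) (tt N61487 F193538) (tt N76394 F363929) (tt N66535 (iv4 F339971)) (tt N61312 F193539) (tt N34691 (iv6 D121335)) (tt N76388 (iv7 F363928)))
theorem Q64189 : ∀ i, i < 64189 → P i := stepQ 64188 Q64188 (allL N64188 (tt N61764 F338533) (tt N94105 F403230) (tt N61419 (iv2 F338528)) (tt N34694 F193547) (tt N94580 (iv4 F405040)) (tt N34693 (iv5 D121340)) (tt N76379 (iv6 F338531)) (tt N61417 (iv7 F325989)))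
theorem Q64190 : ∀ i, i < 64190 → P i := stepQ 64189 Q64189 (allL N64189 (tt N52019 (iv1 F346175)) (tt N79930 (iv0 F259023)) (tt N61492 F193551) (tt N88176 (iv3 F382030)) (tt N34694 (iv4 D121342)) (tt N79961 (iv5 F259093)) (tt N66689 (iv6 F347757)) (tt N61486 F193552))
theorem Q64191 : ∀ i, i < 64191 → P i := stepQ 64190 Q64190 (allL N64190 (tt N76031 (iv1 F259540)) (tt N46113 (iv0 F193554)) (tt N61493 F193553) (tt N76379 F338532) (tt N66689 F347755) (tt N100771 D203918) (tt N34694 (iv6 D121343)) (tt N76030 (iv7 F235972)))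
theorem Q64192 : ∀ i, i < 64192 → P i := stepQ 64191 Q64191 (allL N64191 (tt N45998 F193557) (tt N45996 (iv0 F193558)) (tt N61494 F193555) (tt N99748 (iv3 F426038)) (tt N93082 (iv4 F399399)) (tt N34695 (iv5 D121344)) (tt N100771 (iv6 F430394)) (tt N61577 F193556))
theorem Q64193 : ∀ i, i < 64193 → P i := stepQ 64192 Q64192 (allL N64192 (tt N100772 D203919) (tt N66659 (iv0 F393626)) (tt N61496 F193560) (tt N98520 F421189) (tt N79956 (iv4 F259086)) (tt N61632 F193561) (tt N34696 (iv6 D121346)) (tt N100773 D203920))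
theorem Q64194 : ∀ i, i < 64194 → P i := stepQ 64193 Q64193 (allL N64193 (tt N61399 F338599) (tt N61416 F338600) (tt N61415 F338605) (tt N34697 (iv3 D121347)) (tt N79908 F338601) (tt N41402 F338602) (tt N80869 F360267) (tt N61414 (iv7 F338604)))
theorem Q64195 : ∀ i, i < 64195 → P i := stepQ 64194 Q64194 (allL N64194 (tt N69502 F233496) (tt N69506 (iv0 F396238)) (tt N61497 F193563) (tt N80869 (iv3 F360266)) (tt N79959 (iv4 F259088)) (tt N92205 (iv5 F396236)) (tt N34697 (iv6 D121348)) (tt N100774 D203921))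
theorem Q64196 : ∀ i, i < 64196 → P i := stepQ 64195 Q64195 (allL N64195 (tt N45116 (iv1 F251647)) (tt N51296 F193570) (tt N51297 F193564) (tt N45125 F193565) (tt N51793 F193566) (tt N45154 F193567) (tt N34698 (iv6 D121349)) (tt N34701 F193568))
theorem Q64197 : ∀ i, i < 64197 → P i := stepQ 64196 Q64196 (allL N64196 (tt N75993 (iv1 F235295)) (tt N34699 (iv0 D121350)) (tt N55813 (iv2 F355722)) (tt N98289 (iv3 F420347)) (tt N56184 F259181) (tt N100775 D203922) (tt N69506 F214546) (tt N75992 F355724))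
theorem Q64198 : ∀ i, i < 64198 → P i := stepQ 64197 Q64197 (allL N64197 (tt N34699 (iv1 D121351)) (tt N75993 F235294) (tt N75992 F355721) (tt N55802 (iv3 F278217)) (tt N56185 F278216) (tt N100776 D203923) (tt N100777 D203924) (tt N55813 (iv7 F355718)))
theorem Q64199 : ∀ i, i < 64199 → P i := stepQ 64198 Q64198 (allL N64198 (tt N75700 F233489) (tt N100778 D203925) (tt N60823 F193572) (tt N41754 F193573) (tt N100779 D203926) (tt N34699 (iv5 D121352)) (tt N41752 F193574) (tt N90779 (iv7 F390808)))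
theorem Q64200 : ∀ i, i < 64200 → P i := stepQ 64199 Q64199 (allL N64199 (tt N34700 (iv1 D121355)) (tt N90780 F390815) (tt N92796 (iv2 F398267)) (tt N54462 (iv3 F357121)) (tt N54493 F357125) (tt N100780 D203927) (tt N100772 (iv6 F430399)) (tt N71833 F357126))
theorem Q64201 : ∀ i, i < 64201 → P i := stepQ 64200 Q64200 (allL N64200 (tt N92796 (iv1 F398263)) (tt N71833 (iv0 F335530)) (tt N90780 (iv2 F390810)) (tt N63202 F193576) (tt N55207 (iv4 F350572)) (tt N61234 F193577) (tt N75993 (iv6 F235292)) (tt N34700 (iv7 D121356)))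
theorem Q64202 : ∀ i, i < 64202 → P i := stepQ 64201 Q64201 (allL N64201 (tt N51297 (iv1 F193578)) (tt N34701 (iv0 D121357)) (tt N51296 F251676) (tt N45103 F251677) (tt N51944 F251678) (tt N84451 (iv5 F369338)) (tt N92936 (iv6 F398833)) (tt N45116 F251679))
theorem Q64203 : ∀ i, i < 64203 → P i := stepQ 64202 Q64202 (allL N64202 (tt N34701 (iv1 D121358)) (tt N51297 F193579) (tt N45116 F251673) (tt N61699 F343005) (tt N51945 (iv4 F193581)) (tt N50957 (iv5 F193580)) (tt N61698 (iv6 F333518)) (tt N51296 F251674))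
theorem Q64204 : ∀ i, i < 64204 → P i := stepQ 64203 Q64203 (allL N64203 (tt N45236 (iv1 F193589)) (tt N34702 (iv0 D121359)) (tt N45233 F261868) (tt N69660 (iv3 F312074)) (tt N78682 (iv4 F347365)) (tt N100754 (iv5 F430298)) (tt N100781 D203928) (tt N45234 F261871))
theorem Q64205 : ∀ i, i < 64205 → P i := stepQ 64204 Q64204 (allL N64204 (tt N34702 (iv1 D121360)) (tt N45236 F193582) (tt N45234 F261872) (tt N45063 F261873) (tt N78957 F261874) (tt N100782 D203929) (tt N85815 (iv6 F374086)) (tt N45233 F261875))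
theorem Q64206 : ∀ i, i < 64206 → P i := stepQ 64205 Q64205 (allL N64205 (tt N100783 D203930) (tt N93167 (iv0 F399768)) (tt N45235 F193583) (tt N60180 F193584) (tt N100784 D203931) (tt N34702 (iv5 D121361)) (tt N34703 F193585) (tt N100785 D203932))
theorem Q64207 : ∀ i, i < 64207 → P i := stepQ 64206 Q64206 (allL N64206 (tt N45234 (iv1 F193590)) (tt N45233 F193591) (tt N45236 F193586) (tt N63408 F193587) (tt N76373 (iv4 F238472)) (tt N100785 (iv5 F430463)) (tt N45211 F193588) (tt N34702 (iv7 D121362)))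
theorem Q64208 : ∀ i, i < 64208 → P i := stepQ 64207 Q64207 (allL N64207 (tt N63390 F193593) (tt N56422 F193594) (tt N45239 F193592) (tt N98135 (iv3 F419625)) (tt N34703 (iv4 D121363)) (tt N42458 F340687) (tt N100784 (iv6 F430459)) (tt N78280 (iv7 F247645)))
theorem Q64209 : ∀ i, i < 64209 → P i := stepQ 64208 Q64208 (allL N64208 (tt N45211 (iv1 F193605)) (tt N34705 (iv0 D121367)) (tt N45208 F349060) (tt N88200 (iv3 F382146)) (tt N77310 (iv4 F349066)) (tt N100786 D203933) (tt N83843 F349059) (tt N45209 F349061))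
theorem Q64210 : ∀ i, i < 64210 → P i := stepQ 64209 Q64209 (allL N64209 (tt N34705 (iv1 D121368)) (tt N45211 F193598) (tt N45209 F349073) (tt N81459 F349074) (tt N77311 F349075) (tt N98727 (iv5 F422037)) (tt N100787 D203934) (tt N45208 F349076))
theorem Q64211 : ∀ i, i < 64211 → P i := stepQ 64210 Q64210 (allL N64210 (tt N100788 D203935) (tt N98720 (iv0 F422005)) (tt N45210 F193599) (tt N61137 F193600) (tt N100789 D203936) (tt N34705 (iv5 D121369)) (tt N34706 F193601) (tt N100790 D203937))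
theorem Q64212 : ∀ i, i < 64212 → P i := stepQ 64211 Q64211 (allL N64211 (tt N45209 (iv1 F193606)) (tt N45208 F193607) (tt N45211 F193602) (tt N61138 F193603) (tt N64545 (iv4 F197524)) (tt N100790 (iv5 F430484)) (tt N45236 F193604) (tt N34705 (iv7 D121370)))
theorem Q64213 : ∀ i, i < 64213 → P i := stepQ 64212 Q64212 (allL N64212 (tt N74408 (iv1 F227802)) (tt N62848 F193609) (tt N45214 F193608) (tt N71965 (iv3 F221097)) (tt N34706 (iv4 D121371)) (tt N73390 F330615) (tt N100789 (iv6 F430480)) (tt N72005 (iv7 F221221)))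
theorem Q64214 : ∀ i, i < 64214 → P i := stepQ 64213 Q64213 (allL N64213 (tt N45213 (iv1 F193613)) (tt N45212 F193614) (tt N45215 F193610) (tt N50183 F193611) (tt N72005 (iv4 F221220)) (tt N34707 F193612) (tt N86588 (iv6 F376545)) (tt N34706 (iv7 D121372)))
theorem Q64215 : ∀ i, i < 64215 → P i := stepQ 64214 Q64214 (allL N64214 (tt N100646 F429829) (tt N99557 (iv0 F425147)) (tt N40909 F326631) (tt N34708 (iv3 D121373)) (tt N62815 F193615) (tt N40899 F326632) (tt N41997 F326633) (tt N74927 (iv7 F229830)))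
theorem Q64216 : ∀ i, i < 64216 → P i := stepQ 64215 Q64215 (allL N64215 (tt N40815 F350004) (tt N63782 F350005) (tt N40889 F326858) (tt N40899 F326859) (tt N73343 F326860) (tt N34708 (iv5 D121374)) (tt N40766 F326861) (tt N63781 (iv7 F319491)))
theorem Q64217 : ∀ i, i < 64217 → P i := stepQ 64216 Q64216 (allL N64216 (tt N42470 F232768) (tt N42474 (iv0 F232733)) (tt N45229 F193617) (tt N52754 F193618) (tt N34710 F193619) (tt N76287 F304000) (tt N34709 (iv6 D121375)) (tt N45249 (iv7 F306111)))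
theorem Q64218 : ∀ i, i < 64218 → P i := stepQ 64217 Q64217 (allL N64217 (tt N48033 F303116) (tt N45562 F303117) (tt N45527 F193648) (tt N81535 F303098) (tt N54132 F193649) (tt N65413 F341221) (tt N34711 (iv6 D121390)) (tt N48039 F303099))
theorem Q64219 : ∀ i, i < 64219 → P i := stepQ 64218 Q64218 (allL N64218 (tt N45577 F302271) (tt N44896 F316413) (tt N34723 F193665) (tt N91313 (iv3 F392677)) (tt N41838 F320934) (tt N34713 (iv5 D121400)) (tt N41682 F320935) (tt N34718 F302273))
theorem Q64220 : ∀ i, i < 64220 → P i := stepQ 64219 Q64219 (allL N64219 (tt N34715 (iv1 D121431)) (tt N34728 F304468) (tt N45545 F193750) (tt N74394 (iv3 F348647)) (tt N39958 F322180) (tt N46370 (iv5 F193749)) (tt N59937 F348648) (tt N45544 (iv7 F193760)))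
theorem Q64221 : ∀ i, i < 64221 → P i := stepQ 64220 Q64220 (allL N64220 (tt N34717 (iv1 D121440)) (tt N68462 (iv0 F313511)) (tt N46840 F282999) (tt N38065 F311203) (tt N68445 F311204) (tt N60004 F332174) (tt N68471 F311205) (tt N68472 F311206))
theorem Q64222 : ∀ i, i < 64222 → P i := stepQ 64221 Q64221 (allL N64221 (tt N34718 (iv1 D121450)) (tt N34723 F302270) (tt N45577 F193813) (tt N76780 F339233) (tt N39951 F318677) (tt N46373 (iv5 F193812)) (tt N45932 F318592) (tt N44896 F316422))
theorem Q64223 : ∀ i, i < 64223 → P i := stepQ 64222 Q64222 (allL N64222 (tt N41703 (iv1 F315687)) (tt N41607 F314983) (tt N41701 (iv2 F316739)) (tt N47986 F311075) (tt N41853 F314984) (tt N34719 (iv5 D121461)) (tt N58885 (iv6 F323150)) (tt N37074 F306873))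
theorem Q64224 : ∀ i, i < 64224 → P i := stepQ 64223 Q64223 (allL N64223 (tt N68409 F354272) (tt N34720 (iv0 D121463)) (tt N82142 F349370) (tt N87469 F379446) (tt N43940 F349371) (tt N70561 F349372) (tt N43941 F349373) (tt N70560 F349374))
theorem Q64225 : ∀ i, i < 64225 → P i := stepQ 64224 Q64224 (allL N64224 (tt N34720 (iv1 D121464)) (tt N68409 F306875) (tt N70560 F306876) (tt N100369 F428634) (tt N63044 F360902) (tt N38645 F306877) (tt N74748 (iv6 F360903)) (tt N82142 F360901))
theorem Q64226 : ∀ i, i < 64226 → P i := stepQ 64225 Q64225 (allL N64225 (tt N70560 F306878) (tt N82142 F336906) (tt N68409 F306879) (tt N47560 F311087) (tt N73402 (iv4 F336903)) (tt N34721 F193822) (tt N75606 (iv6 F354269)) (tt N34720 (iv7 D121466)))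
theorem Q64227 : ∀ i, i < 64227 → P i := stepQ 64226 Q64226 (allL N64226 (tt N34722 (iv1 D121480)) (tt N45568 F303157) (tt N45570 F303158) (tt N88641 (iv3 F383670)) (tt N81313 F364612) (tt N100791 D203938) (tt N45601 F333717) (tt N45571 F303159))
theorem Q64228 : ∀ i, i < 64228 → P i := stepQ 64227 Q64227 (allL N64227 (tt N45571 F303160) (tt N45570 F303161) (tt N34722 (iv2 D121481)) (tt N68464 F343382) (tt N47382 F343383) (tt N84341 (iv5 F368984)) (tt N68462 (iv6 F313513)) (tt N45568 F303163))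
theorem Q64229 : ∀ i, i < 64229 → P i := stepQ 64228 Q64228 (allL N64228 (tt N88529 (iv1 F383413)) (tt N88528 F383408) (tt N84341 (iv2 F368983)) (tt N34723 F193844) (tt N84338 (iv4 F368965)) (tt N34722 (iv5 D121483)) (tt N80106 F358630) (tt N45572 F303164))
theorem Q64230 : ∀ i, i < 64230 → P i := stepQ 64229 Q64229 (allL N64229 (tt N100310 (iv1 F428379)) (tt N87470 (iv0 F379452)) (tt N100792 D203939) (tt N34724 (iv3 D121488)) (tt N87796 (iv4 F380541)) (tt N80314 (iv5 F263489)) (tt N62600 (iv6 F364627)) (tt N78189 (iv7 F321814)))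
theorem Q64231 : ∀ i, i < 64231 → P i := stepQ 64230 Q64230 (allL N64230 (tt N88663 (iv1 F383782)) (tt N100791 (iv0 F430490)) (tt N84353 (iv2 F369035)) (tt N34725 (iv3 D121491)) (tt N84352 (iv4 F369032)) (tt N68512 (iv5 F337063)) (tt N100793 D203940) (tt N74761 (iv7 F366302)))
theorem Q64232 : ∀ i, i < 64232 → P i := stepQ 64231 Q64231 (allL N64231 (tt N37076 F308702) (tt N37077 F308703) (tt N66755 F321247) (tt N100793 (iv3 F430496)) (tt N39989 F321248) (tt N36928 F308704) (tt N34725 (iv6 D121493)) (tt N62602 F321249))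
theorem Q64233 : ∀ i, i < 64233 → P i := stepQ 64232 Q64232 (allL N64232 (tt N59940 F342271) (tt N64256 F323514) (tt N75679 (iv2 F324821)) (tt N73972 F323515) (tt N57487 F323516) (tt N44123 F323517) (tt N34726 (iv6 D121499)) (tt N75606 (iv7 F354270)))
theorem Q64234 : ∀ i, i < 64234 → P i := stepQ 64233 Q64233 (allL N64233 (tt N47135 (iv1 F298058)) (tt N47604 (iv0 F298054)) (tt N46211 F194107) (tt N55444 F331239) (tt N34730 (iv4 D121650)) (tt N47620 F298010) (tt N58478 (iv6 F325206)) (tt N45405 F194108))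
theorem Q64235 : ∀ i, i < 64235 → P i := stepQ 64234 Q64234 (allL N64234 (tt N64112 (iv1 F344888)) (tt N64084 (iv0 F346928)) (tt N63485 F350695) (tt N34734 (iv3 D121678)) (tt N35515 F304736) (tt N74826 (iv5 F318783)) (tt N68511 F346926) (tt N46201 F194182))
theorem Q64236 : ∀ i, i < 64236 → P i := stepQ 64235 Q64235 (allL N64235 (tt N65876 (iv1 F332161)) (tt N65849 (iv0 F332158)) (tt N79602 (iv2 F332166)) (tt N34735 (iv3 D121679)) (tt N57418 (iv4 F326028)) (tt N74824 (iv5 F318786)) (tt N35516 F194183) (tt N46199 F194184))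
theorem Q64237 : ∀ i, i < 64237 → P i := stepQ 64236 Q64236 (allL N64236 (tt N81695 F366384) (tt N81694 F366385) (tt N43888 (iv2 F314555)) (tt N100794 D203941) (tt N34737 (iv4 D121687)) (tt N86940 (iv5 F377786)) (tt N42199 F312231) (tt N46183 F194201))
theorem Q64238 : ∀ i, i < 64238 → P i := stepQ 64237 Q64237 (allL N64237 (tt N100795 D203942) (tt N100796 D203943) (tt N100797 D203944) (tt N34738 (iv3 D121695)) (tt N34739 F194212) (tt N100798 D203945) (tt N47789 F194213) (tt N46188 F194214))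
theorem Q64239 : ∀ i, i < 64239 → P i := stepQ 64238 Q64238 (allL N64238 (tt N65405 (iv1 F297620)) (tt N80411 (iv0 F341733)) (tt N82346 (iv2 F299708)) (tt N100798 (iv3 F430519)) (tt N81697 F350071) (tt N34738 (iv5 D121696)) (tt N100799 D203946) (tt N46189 F194215))
theorem Q64240 : ∀ i, i < 64240 → P i := stepQ 64239 Q64239 (allL N64239 (tt N46207 (iv1 F194221)) (tt N34739 (iv0 D121698)) (tt N46206 F337736) (tt N47982 F337737) (tt N100800 D203947) (tt N47981 F337738) (tt N79751 (iv6 F341667)) (tt N46205 F337739))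
theorem Q64241 : ∀ i, i < 64241 → P i := stepQ 64240 Q64240 (allL N64240 (tt N34739 (iv1 D121699)) (tt N46207 F194226) (tt N46205 F345643) (tt N95754 (iv3 F409471)) (tt N100801 D203948) (tt N75012 (iv5 F345645)) (tt N81510 (iv6 F345642)) (tt N46206 F345644))
theorem Q64242 : ∀ i, i < 64242 → P i := stepQ 64241 Q64241 (allL N64241 (tt N46206 (iv1 F194227)) (tt N46205 F194225) (tt N34739 (iv2 D121700)) (tt N46237 F194222) (tt N100797 (iv4 F430512)) (tt N75176 (iv5 F338186)) (tt N47788 F194223) (tt N46207 F194224))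
theorem Q64243 : ∀ i, i < 64243 → P i := stepQ 64242 Q64242 (allL N64242 (tt N48259 F299804) (tt N67434 (iv0 F347412)) (tt N82345 F299805) (tt N82021 (iv3 F277851)) (tt N96543 (iv4 F412922)) (tt N34741 (iv5 D121709)) (tt N96541 (iv6 F412919)) (tt N46244 F194255))
theorem Q64244 : ∀ i, i < 64244 → P i := stepQ 64243 Q64243 (allL N64243 (tt N46260 (iv1 F194258)) (tt N34742 (iv0 D121711)) (tt N46259 F331718) (tt N51669 (iv3 F331721)) (tt N100802 D203949) (tt N77573 F337695) (tt N82490 F331719) (tt N45952 F331720))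
theorem Q64245 : ∀ i, i < 64245 → P i := stepQ 64244 Q64244 (allL N64244 (tt N46259 (iv1 F194263)) (tt N45952 F330285) (tt N34742 (iv2 D121713)) (tt N46257 F194259) (tt N59471 (iv4 F336515)) (tt N47977 F330652) (tt N59469 F336514) (tt N46260 F194260))
theorem Q64246 : ∀ i, i < 64246 → P i := stepQ 64245 Q64245 (allL N64245 (tt N34743 (iv1 D121720)) (tt N46257 F194281) (tt N46256 F340158) (tt N95787 (iv3 F409649)) (tt N96754 (iv4 F413782)) (tt N94108 (iv5 F403241)) (tt N85733 (iv6 F373717)) (tt N45985 F340159))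
theorem Q64247 : ∀ i, i < 64247 → P i := stepQ 64246 Q64246 (allL N64246 (tt N45985 F340155) (tt N46256 F194280) (tt N34743 (iv2 D121721)) (tt N46260 F194278) (tt N100803 D203950) (tt N76543 F336454) (tt N100804 D203951) (tt N46257 F194279))
theorem Q64248 : ∀ i, i < 64248 → P i := stepQ 64247 Q64247 (allL N64247 (tt N85711 (iv1 F373617)) (tt N84565 (iv0 F369707)) (tt N100803 (iv2 F430543)) (tt N35323 F194283) (tt N34743 (iv4 D121722)) (tt N91895 (iv5 F394848)) (tt N100805 D203952) (tt N46258 F194284))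
theorem Q64249 : ∀ i, i < 64249 → P i := stepQ 64248 Q64248 (allL N64248 (tt N81997 (iv1 F352064)) (tt N43229 F336450) (tt N76543 (iv2 F336453)) (tt N34744 F194285) (tt N61403 F336452) (tt N34743 (iv5 D121723)) (tt N100806 D203953) (tt N41683 (iv7 F320067)))
theorem Q64250 : ∀ i, i < 64250 → P i := stepQ 64249 Q64249 (allL N64249 (tt N100807 D203954) (tt N100808 D203955) (tt N100804 (iv2 F430549)) (tt N34745 F194287) (tt N100805 (iv4 F430556)) (tt N68358 (iv5 F345835)) (tt N34743 (iv6 D121724)) (tt N47785 (iv7 F194288)))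
theorem Q64251 : ∀ i, i < 64251 → P i := stepQ 64250 Q64250 (allL N64250 (tt N37074 F319109) (tt N41701 (iv0 F319506)) (tt N41703 F319110) (tt N100806 (iv3 F430559)) (tt N41684 F319111) (tt N68359 F319112) (tt N34744 (iv6 D121725)) (tt N41607 F319113))
theorem Q64252 : ∀ i, i < 64252 → P i := stepQ 64251 Q64251 (allL N64251 (tt N80106 (iv1 F361331)) (tt N95841 F409894) (tt N60101 (iv2 F358628)) (tt N82775 F348458) (tt N64752 F356460) (tt N34746 (iv5 D121736)) (tt N47995 F348459) (tt N59997 (iv7 F348460)))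
theorem Q64253 : ∀ i, i < 64253 → P i := stepQ 64252 Q64252 (allL N64252 (tt N60103 F332148) (tt N60102 (iv0 F326509)) (tt N34748 F194302) (tt N46273 F194303) (tt N100809 D203956) (tt N34747 (iv5 D121740)) (tt N59854 (iv6 F324025)) (tt N60062 F332149))
theorem Q64254 : ∀ i, i < 64254 → P i := stepQ 64253 Q64253 (allL N64253 (tt N60062 (iv1 F364892)) (tt N34748 (iv0 D121741)) (tt N60103 (iv2 F364889)) (tt N88644 F383687) (tt N100810 D203957) (tt N65876 F364893) (tt N67825 (iv6 F364894)) (tt N60102 (iv7 F364891)))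
theorem Q64255 : ∀ i, i < 64255 → P i := stepQ 64254 Q64254 (allL N64254 (tt N34748 (iv1 D121742)) (tt N60062 F332151) (tt N60102 F364890) (tt N49627 (iv3 F333970)) (tt N100811 D203958) (tt N65849 (iv5 F325665)) (tt N65344 F350820) (tt N60103 F364888))
theorem Q64256 : ∀ i, i < 64256 → P i := stepQ 64255 Q64255 (allL N64255 (tt N100812 D203959) (tt N100813 D203960) (tt N100809 (iv2 F430575)) (tt N99791 (iv3 F426231)) (tt N34748 (iv4 D121743)) (tt N100814 D203961) (tt N82461 (iv6 F281114)) (tt N60104 (iv7 F365907)))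
theorem Q64257 : ∀ i, i < 64257 → P i := stepQ 64256 Q64256 (allL N64256 (tt N64232 (iv1 F323514)) (tt N77760 F312483) (tt N46280 F194315) (tt N60098 F366008) (tt N41828 F312484) (tt N60095 (iv5 F321476)) (tt N34751 (iv6 D121750)) (tt N82463 (iv7 F281142)))
theorem Q64258 : ∀ i, i < 64258 → P i := stepQ 64257 Q64257 (allL N64257 (tt N34752 (iv1 D121758)) (tt N85728 F373686) (tt N45983 (iv2 F254075)) (tt N46342 (iv3 F194325)) (tt N82393 F280685) (tt N65441 F254062) (tt N95840 F409889) (tt N85729 (iv7 F373690)))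
theorem Q64259 : ∀ i, i < 64259 → P i := stepQ 64258 Q64258 (allL N64258 (tt N85729 (iv1 F373691)) (tt N45983 F258235) (tt N34752 (iv2 D121759)) (tt N82466 F281159) (tt N48293 (iv4 F258237)) (tt N46334 F194347) (tt N46838 F345752) (tt N85728 (iv7 F373687)))
theorem Q64260 : ∀ i, i < 64260 → P i := stepQ 64259 Q64259 (allL N64259 (tt N95775 F409589) (tt N45859 F350920) (tt N60004 F350919) (tt N46841 F350921) (tt N92046 (iv4 F395524)) (tt N46840 F350922) (tt N46126 F350923) (tt N34753 (iv7 D121777)))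
theorem Q64261 : ∀ i, i < 64261 → P i := stepQ 64260 Q64260 (allL N64260 (tt N82466 (iv1 F281156)) (tt N34754 (iv0 D121779)) (tt N45950 (iv2 F254303)) (tt N46333 F194360) (tt N45798 F194340) (tt N78751 F254301) (tt N51672 F344665) (tt N82464 (iv7 F281148)))
theorem Q64262 : ∀ i, i < 64262 → P i := stepQ 64261 Q64261 (allL N64261 (tt N45950 F258228) (tt N82464 (iv0 F281151)) (tt N34754 (iv2 D121781)) (tt N85728 (iv3 F373683)) (tt N79655 (iv4 F258254)) (tt N46343 F194361) (tt N100815 D203962) (tt N82466 (iv7 F281157)))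
theorem Q64263 : ∀ i, i < 64263 → P i := stepQ 64262 Q64262 (allL N64262 (tt N100816 D203963) (tt N75210 (iv0 F344731)) (tt N100815 (iv2 F430603)) (tt N34755 F194363) (tt N59737 F363505) (tt N100817 D203964) (tt N34754 (iv6 D121783)) (tt N60003 F365776))
theorem Q64264 : ∀ i, i < 64264 → P i := stepQ 64263 Q64263 (allL N64263 (tt N35778 F327233) (tt N36959 F327234) (tt N36963 F327235) (tt N100817 (iv3 F430615)) (tt N100818 D203965) (tt N34755 (iv5 D121789)) (tt N46174 F330791) (tt N36964 F327236))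
theorem Q64265 : ∀ i, i < 64265 → P i := stepQ 64264 Q64264 (allL N64264 (tt N46157 (iv1 F194392)) (tt N34756 (iv0 D121796)) (tt N46156 F341927) (tt N87037 (iv3 F378137)) (tt N100687 (iv4 F430017)) (tt N67598 F341928) (tt N46308 F341929) (tt N46155 F341930))
theorem Q64266 : ∀ i, i < 64266 → P i := stepQ 64265 Q64265 (allL N64265 (tt N34756 (iv1 D121797)) (tt N46157 F194397) (tt N46155 F341931) (tt N57292 F341935) (tt N60418 F341936) (tt N67653 F345638) (tt N57290 (iv6 F341933)) (tt N46156 F341932))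
theorem Q64267 : ∀ i, i < 64267 → P i := stepQ 64266 Q64266 (allL N64266 (tt N46156 (iv1 F194398)) (tt N46155 F194396) (tt N34756 (iv2 D121798)) (tt N46161 F194393) (tt N52254 F194394) (tt N38067 F338369) (tt N46207 F299593) (tt N46157 F194395))
theorem Q64268 : ∀ i, i < 64268 → P i := stepQ 64267 Q64267 (allL N64267 (tt N38314 F309480) (tt N38326 F309481) (tt N38325 F309482) (tt N34757 (iv3 D121939)) (tt N34760 F194657) (tt N40280 F320082) (tt N40602 (iv6 F321749)) (tt N38324 F309483))
theorem Q64269 : ∀ i, i < 64269 → P i := stepQ 64268 Q64268 (allL N64268 (tt N44910 (iv1 F301899)) (tt N44909 F299137) (tt N46462 F194664) (tt N41053 F318422) (tt N34758 (iv4 D121941)) (tt N43877 (iv5 F310605)) (tt N41051 F318423) (tt N46576 F299138))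
theorem Q64270 : ∀ i, i < 64270 → P i := stepQ 64269 Q64269 (allL N64269 (tt N42710 (iv1 F194681)) (tt N34760 (iv0 D121944)) (tt N42716 (iv2 F194698)) (tt N87926 (iv3 F381161)) (tt N44497 F312033) (tt N46505 F194682) (tt N42610 (iv6 F215735)) (tt N42715 (iv7 F194695)))
theorem Q64271 : ∀ i, i < 64271 → P i := stepQ 64270 Q64270 (allL N64270 (tt N42716 (iv1 F194697)) (tt N42715 F194691) (tt N34760 (iv2 D121945)) (tt N46487 F194688) (tt N38325 F314126) (tt N42902 F194689) (tt N48464 F306944) (tt N42710 F194690))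
theorem Q64272 : ∀ i, i < 64272 → P i := stepQ 64271 Q64271 (allL N64271 (tt N46871 F301151) (tt N34819 F301152) (tt N44812 F301153) (tt N79481 (iv3 F353799)) (tt N34761 (iv4 D121958)) (tt N47229 F301154) (tt N44679 F301155) (tt N46444 F194736))
theorem Q64273 : ∀ i, i < 64273 → P i := stepQ 64272 Q64272 (allL N64272 (tt N34819 (iv1 F299521)) (tt N46871 F298349) (tt N46444 F194738) (tt N68044 F337055) (tt N34762 (iv4 D121959)) (tt N47230 F298350) (tt N46429 F194739) (tt N44812 F298351))
theorem Q64274 : ∀ i, i < 64274 → P i := stepQ 64273 Q64273 (allL N64273 (tt N34765 (iv1 D121989)) (tt N75842 (iv0 F312889)) (tt N53573 (iv2 F274986)) (tt N81082 (iv3 F273371)) (tt N37615 F333408) (tt N62141 (iv5 F357062)) (tt N91314 (iv6 F392684)) (tt N62140 (iv7 F351488)))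
theorem Q64275 : ∀ i, i < 64275 → P i := stepQ 64274 Q64274 (allL N64274 (tt N53573 F194825) (tt N62140 (iv0 F351485)) (tt N75842 (iv2 F312890)) (tt N34766 F194823) (tt N68354 F310625) (tt N79387 (iv5 F350670)) (tt N37576 (iv6 F312404)) (tt N34765 (iv7 D121991)))
theorem Q64276 : ∀ i, i < 64276 → P i := stepQ 64275 Q64275 (allL N64275 (tt N89158 (iv1 F385390)) (tt N82540 F366716) (tt N80037 F364923) (tt N34769 (iv3 D122298)) (tt N80036 (iv4 F312437)) (tt N100819 D203966) (tt N35052 F299218) (tt N34915 (iv7 F301407)))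
theorem Q64277 : ∀ i, i < 64277 → P i := stepQ 64276 Q64276 (allL N64276 (tt N35072 (iv1 F301990)) (tt N35071 F299219) (tt N35074 (iv2 F301405)) (tt N100819 (iv3 F430622)) (tt N68596 F329065) (tt N34769 (iv5 D122299)) (tt N70163 F329066) (tt N34917 (iv7 F301408)))
theorem Q64278 : ∀ i, i < 64278 → P i := stepQ 64277 Q64277 (allL N64277 (tt N35020 F302515) (tt N34770 (iv0 D122303)) (tt N38773 F327850) (tt N100820 D203967) (tt N37935 F327851) (tt N46661 F302516) (tt N100821 D203968) (tt N38772 F327852))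
theorem Q64279 : ∀ i, i < 64279 → P i := stepQ 64278 Q64278 (allL N64278 (tt N34770 (iv1 D122304)) (tt N35020 F302517) (tt N38772 F327853) (tt N90393 F389495) (tt N57718 F327854) (tt N46662 F302518) (tt N58043 F327855) (tt N38773 F327856))
theorem Q64280 : ∀ i, i < 64280 → P i := stepQ 64279 Q64279 (allL N64279 (tt N100822 D203969) (tt N47817 F341135) (tt N74532 (iv2 F363379)) (tt N34771 (iv3 D122307)) (tt N46532 F195541) (tt N100823 D203970) (tt N34971 F301621) (tt N34899 F301622))
theorem Q64281 : ∀ i, i < 64281 → P i := stepQ 64280 Q64280 (allL N64280 (tt N35017 (iv1 F302127)) (tt N35016 (iv0 F304380)) (tt N35018 F301623) (tt N100823 (iv3 F430641)) (tt N38444 F328255) (tt N34771 (iv5 D122308)) (tt N69555 F328256) (tt N34902 F301624))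
theorem Q64282 : ∀ i, i < 64282 → P i := stepQ 64281 Q64281 (allL N64281 (tt N48263 F195566) (tt N48262 (iv0 F195567)) (tt N35507 F195564) (tt N100824 D203971) (tt N34773 (iv4 D122312)) (tt N70027 (iv5 F344463)) (tt N58322 F344464) (tt N46700 F195565))
theorem Q64283 : ∀ i, i < 64283 → P i := stepQ 64282 Q64282 (allL N64282 (tt N35021 (iv1 F301420)) (tt N34774 (iv0 D122314)) (tt N46701 (iv2 F195575)) (tt N100825 D203972) (tt N45539 F195574) (tt N82010 F299733) (tt N58730 (iv6 F360074)) (tt N46702 (iv7 F195576)))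
theorem Q64284 : ∀ i, i < 64284 → P i := stepQ 64283 Q64283 (allL N64283 (tt N34774 (iv1 D122315)) (tt N35021 (iv0 F301419)) (tt N46702 (iv2 F195581)) (tt N91836 (iv3 F394619)) (tt N45540 F195580) (tt N82011 F299222) (tt N35217 (iv6 F300878)) (tt N46701 F195579))
theorem Q64285 : ∀ i, i < 64285 → P i := stepQ 64284 Q64284 (allL N64284 (tt N82059 (iv1 F341261)) (tt N82067 (iv0 F346266)) (tt N95123 (iv2 F407127)) (tt N34774 (iv3 D122316)) (tt N35317 (iv4 F302626)) (tt N62182 (iv5 F341269)) (tt N34776 F195583) (tt N47906 F299734))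
theorem Q64286 : ∀ i, i < 64286 → P i := stepQ 64285 Q64285 (allL N64285 (tt N100826 D203973) (tt N100827 D203974) (tt N100828 D203975) (tt N34775 (iv3 D122319)) (tt N46287 F195590) (tt N100829 D203976) (tt N79173 F358862) (tt N46711 F195591))
theorem Q64287 : ∀ i, i < 64287 → P i := stepQ 64286 Q64286 (allL N64286 (tt N44659 F195595) (tt N44654 F195596) (tt N46709 F195592) (tt N100829 (iv3 F430673)) (tt N46712 F195594) (tt N34775 (iv5 D122320)) (tt N100830 D203977) (tt N46712 F195593))
theorem Q64288 : ∀ i, i < 64288 → P i := stepQ 64287 Q64287 (allL N64287 (tt N51159 F363991) (tt N85556 (iv0 F373055)) (tt N82863 F363800) (tt N34777 F195612) (tt N82850 (iv4 F333849)) (tt N34776 (iv5 D122328)) (tt N62181 F341400) (tt N78435 (iv7 F248788)))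
theorem Q64289 : ∀ i, i < 64289 → P i := stepQ 64288 Q64288 (allL N64288 (tt N44647 (iv1 F195615)) (tt N34777 (iv0 D122329)) (tt N46717 (iv2 F195616)) (tt N100831 D203978) (tt N46718 F195614) (tt N45493 F195613) (tt N100832 D203979) (tt N46718 (iv7 F195617)))
theorem Q64290 : ∀ i, i < 64290 → P i := stepQ 64289 Q64289 (allL N64289 (tt N34777 (iv1 D122330)) (tt N44647 F195618) (tt N46718 (iv2 F195622)) (tt N100833 D203980) (tt N46717 F195621) (tt N45626 F195620) (tt N100834 D203981) (tt N46717 F195619))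
theorem Q64291 : ∀ i, i < 64291 → P i := stepQ 64290 Q64290 (allL N64290 (tt N69209 F334635) (tt N47499 F330899) (tt N46786 F195629) (tt N64045 F195630) (tt N46688 F195631) (tt N38249 F319755) (tt N34779 (iv6 D122333)) (tt N69207 (iv7 F336058)))
theorem Q64292 : ∀ i, i < 64292 → P i := stepQ 64291 Q64291 (allL N64291 (tt N48166 (iv1 F195634)) (tt N34780 (iv0 D122335)) (tt N38878 F319769) (tt N88848 (iv3 F384331)) (tt N38867 F319770) (tt N100835 D203982) (tt N34930 F357823) (tt N38893 F319771))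
theorem Q64293 : ∀ i, i < 64293 → P i := stepQ 64292 Q64292 (allL N64292 (tt N70531 (iv1 F357829)) (tt N70526 F357828) (tt N49027 F195636) (tt N34782 F195637) (tt N100836 D203983) (tt N34780 (iv5 D122337)) (tt N84102 (iv6 F368116)) (tt N48167 F195638))
theorem Q64294 : ∀ i, i < 64294 → P i := stepQ 64293 Q64293 (allL N64293 (tt N94603 (iv1 F405149)) (tt N94602 F405146) (tt N46683 F195646) (tt N100837 D203984) (tt N34782 (iv4 D122341)) (tt N59392 (iv5 F345334)) (tt N65548 (iv6 F336672)) (tt N39966 F329575))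
theorem Q64295 : ∀ i, i < 64295 → P i := stepQ 64294 Q64294 (allL N64294 (tt N71299 F323355) (tt N44917 F323356) (tt N46722 F195648) (tt N69182 F323357) (tt N72373 (iv4 F359365)) (tt N64901 F359384) (tt N34783 (iv6 D122342)) (tt N100638 (iv7 F429790)))
theorem Q64296 : ∀ i, i < 64296 → P i := stepQ 64295 Q64295 (allL N64295 (tt N46734 F316006) (tt N57477 F314400) (tt N46720 F195649) (tt N52854 F195650) (tt N38273 F314401) (tt N64554 (iv5 F366685)) (tt N34784 (iv6 D122343)) (tt N57475 F314402))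
theorem Q64297 : ∀ i, i < 64297 → P i := stepQ 64296 Q64296 (allL N64296 (tt N34858 F301998) (tt N34785 (iv0 D122344)) (tt N34861 F332486) (tt N82824 (iv3 F354028)) (tt N76449 F301999) (tt N100838 D203985) (tt N76491 F332487) (tt N34860 F332488))
theorem Q64298 : ∀ i, i < 64298 → P i := stepQ 64297 Q64297 (allL N64297 (tt N34785 (iv1 D122345)) (tt N34858 F302000) (tt N34860 F332489) (tt N89394 F386355) (tt N76448 F302001) (tt N100839 D203986) (tt N100840 D203987) (tt N34861 F332490))
theorem Q64299 : ∀ i, i < 64299 → P i := stepQ 64298 Q64298 (allL N64298 (tt N100841 D203988) (tt N100006 (iv0 F427160)) (tt N100034 (iv2 F427305)) (tt N34786 F195651) (tt N100842 D203989) (tt N34785 (iv5 D122346)) (tt N52905 F195652) (tt N34862 F302005))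
theorem Q64300 : ∀ i, i < 64300 → P i := stepQ 64299 Q64299 (allL N64299 (tt N80513 F302008) (tt N80520 F302009) (tt N34812 F195664) (tt N100843 D203990) (tt N34786 (iv4 D122350)) (tt N63914 (iv5 F304604)) (tt N52909 F195665) (tt N34871 (iv7 F302702)))
theorem Q64301 : ∀ i, i < 64301 → P i := stepQ 64300 Q64300 (allL N64300 (tt N34817 F195931) (tt N46664 (iv0 F302071)) (tt N46662 (iv2 F301448)) (tt N63449 (iv3 F358456)) (tt N46364 F195682) (tt N38772 F328117) (tt N34787 (iv6 D122357)) (tt N46661 F299246))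
theorem Q64302 : ∀ i, i < 64302 → P i := stepQ 64301 Q64301 (allL N64301 (tt N42778 F195690) (tt N53259 F195691) (tt N38088 F314247) (tt N34788 (iv3 D122358)) (tt N38087 F314248) (tt N35169 F299248) (tt N79141 F299249) (tt N44798 F195689))
theorem Q64303 : ∀ i, i < 64303 → P i := stepQ 64302 Q64302 (allL N64302 (tt N48192 (iv1 F195845)) (tt N48208 F195720) (tt N46749 F195717) (tt N100121 (iv3 F427557)) (tt N34789 (iv4 D122363)) (tt N39966 F329573) (tt N39969 (iv6 F329735)) (tt N59392 (iv7 F336751)))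
theorem Q64304 : ∀ i, i < 64304 → P i := stepQ 64303 Q64303 (allL N64303 (tt N89424 F386451) (tt N89005 (iv0 F384786)) (tt N54078 F195721) (tt N34792 F195722) (tt N34794 F195723) (tt N80820 F298146) (tt N34790 (iv6 D122364)) (tt N79289 (iv7 F253927)))
theorem Q64305 : ∀ i, i < 64305 → P i := stepQ 64304 Q64304 (allL N64304 (tt N54082 (iv1 F195777)) (tt N34794 (iv0 D122374)) (tt N54079 (iv2 F232863)) (tt N100844 D203991) (tt N43164 F318365) (tt N100845 D203992) (tt N43163 F318366) (tt N54080 (iv7 F232865)))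
theorem Q64306 : ∀ i, i < 64306 → P i := stepQ 64305 Q64305 (allL N64305 (tt N34794 (iv1 D122375)) (tt N54082 F195770) (tt N54080 F232864) (tt N42766 (iv3 F232860)) (tt N70528 (iv4 F351956)) (tt N100846 D203993) (tt N100847 D203994) (tt N54079 F232861))
theorem Q64307 : ∀ i, i < 64307 → P i := stepQ 64306 Q64306 (allL N64306 (tt N64460 F351776) (tt N100848 D203995) (tt N54081 F195771) (tt N34796 F195772) (tt N78014 (iv4 F339885)) (tt N34794 (iv5 D122376)) (tt N54077 F195773) (tt N58995 F339890))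
theorem Q64308 : ∀ i, i < 64308 → P i := stepQ 64307 Q64307 (allL N64307 (tt N54080 (iv1 F195778)) (tt N54079 F195779) (tt N54082 F195774) (tt N34797 F195775) (tt N79289 (iv4 F253925)) (tt N58995 (iv5 F339891)) (tt N44915 F195776) (tt N34794 (iv7 D122377)))
theorem Q64309 : ∀ i, i < 64309 → P i := stepQ 64308 Q64308 (allL N64308 (tt N53280 F335228) (tt N68275 F335232) (tt N53898 F195794) (tt N34795 (iv3 D122380)) (tt N46461 F195795) (tt N100849 D203996) (tt N100617 (iv6 F429720)) (tt N46729 F195796))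
theorem Q64310 : ∀ i, i < 64310 → P i := stepQ 64309 Q64309 (allL N64309 (tt N34983 F299228) (tt N34986 F299229) (tt N46732 F195797) (tt N100849 (iv3 F430763)) (tt N39939 F336651) (tt N34795 (iv5 D122381)) (tt N39938 F336652) (tt N46730 F195798))
theorem Q64311 : ∀ i, i < 64311 → P i := stepQ 64310 Q64310 (allL N64310 (tt N47890 (iv1 F254133)) (tt N59524 (iv0 F343758)) (tt N44936 F195815) (tt N81226 F345577) (tt N34798 (iv4 D122387)) (tt N59749 F351104) (tt N78445 (iv6 F248798)) (tt N46736 F195816))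
theorem Q64312 : ∀ i, i < 64312 → P i := stepQ 64311 Q64311 (allL N64311 (tt N100850 D203997) (tt N100851 D203998) (tt N100852 D203999) (tt N34799 (iv3 D122392)) (tt N47141 F353300) (tt N47122 F353301) (tt N44646 F195833) (tt N64580 F353302))
theorem Q64313 : ∀ i, i < 64313 → P i := stepQ 64312 Q64312 (allL N64312 (tt N35162 (iv1 F304275)) (tt N35153 (iv0 F303851)) (tt N46753 F195846) (tt N100853 D204000) (tt N34800 (iv4 D122396)) (tt N48173 F195847) (tt N57835 (iv6 F345065)) (tt N59326 (iv7 F329128)))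
theorem Q64314 : ∀ i, i < 64314 → P i := stepQ 64313 Q64313 (allL N64313 (tt N49623 F336774) (tt N48414 F336775) (tt N49610 F344212) (tt N49617 (iv3 F344211)) (tt N34801 (iv4 D122399)) (tt N96214 (iv5 F411530)) (tt N83407 F336776) (tt N49624 (iv7 F344213)))
theorem Q64315 : ∀ i, i < 64315 → P i := stepQ 64314 Q64314 (allL N64314 (tt N53532 F195849) (tt N84978 (iv0 F371252)) (tt N49830 F364394) (tt N53075 (iv3 F364395)) (tt N100854 D204001) (tt N34801 (iv5 D122400)) (tt N100855 D204002) (tt N52907 F364393))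
theorem Q64316 : ∀ i, i < 64316 → P i := stepQ 64315 Q64315 (allL N64315 (tt N49452 F356402) (tt N49796 (iv0 F356403)) (tt N49433 F356405) (tt N49825 (iv3 F356404)) (tt N83407 (iv4 F336768)) (tt N53513 F195850) (tt N34801 (iv6 D122401)) (tt N49797 (iv7 F357222)))
theorem Q64317 : ∀ i, i < 64317 → P i := stepQ 64316 Q64316 (allL N64316 (tt N84978 (iv1 F371251)) (tt N53532 (iv0 F362786)) (tt N52907 (iv2 F364392)) (tt N49292 F335608) (tt N100856 D204003) (tt N34802 (iv5 D122405)) (tt N100857 D204004) (tt N49830 F335609))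
theorem Q64318 : ∀ i, i < 64318 → P i := stepQ 64317 Q64317 (allL N64317 (tt N52910 (iv1 F195857)) (tt N34803 (iv0 D122407)) (tt N50213 (iv2 F292670)) (tt N53076 F290088) (tt N100858 D204005) (tt N50212 (iv5 F291475)) (tt N100859 D204006) (tt N52908 (iv7 F290030)))
theorem Q64319 : ∀ i, i < 64319 → P i := stepQ 64318 Q64318 (allL N64318 (tt N90890 (iv1 F391187)) (tt N100860 D204007) (tt N52909 F195853) (tt N100861 D204008) (tt N34803 (iv4 D122409)) (tt N100862 D204009) (tt N34812 F195854) (tt N100863 D204010))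
theorem Q64320 : ∀ i, i < 64320 → P i := stepQ 64319 Q64319 (allL N64319 (tt N52908 (iv1 F195858)) (tt N50213 (iv0 F292668)) (tt N52910 F195855) (tt N82710 (iv3 F335706)) (tt N100863 (iv4 F430814)) (tt N34804 F195856) (tt N100577 (iv6 F429541)) (tt N34803 (iv7 D122410)))
theorem Q64321 : ∀ i, i < 64321 → P i := stepQ 64320 Q64320 (allL N64320 (tt N88861 F384370) (tt N100864 D204011) (tt N89405 (iv2 F386376)) (tt N34806 F195861) (tt N52905 F384373) (tt N34805 (iv5 D122414)) (tt N100842 (iv6 F430722)) (tt N82291 (iv7 F280039)))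
theorem Q64322 : ∀ i, i < 64322 → P i := stepQ 64321 Q64321 (allL N64321 (tt N88997 F384735) (tt N89664 (iv0 F387155)) (tt N89406 (iv2 F386380)) (tt N34807 F195862) (tt N88490 (iv4 F383257)) (tt N77460 (iv5 F338102)) (tt N34805 (iv6 D122415)) (tt N81914 (iv7 F277510)))
theorem Q64323 : ∀ i, i < 64323 → P i := stepQ 64322 Q64322 (allL N64322 (tt N80509 F302108) (tt N80506 F302109) (tt N80316 (iv2 F263581)) (tt N52909 F384374) (tt N34806 (iv4 D122416)) (tt N64329 (iv5 F195868)) (tt N100843 (iv6 F430728)) (tt N82292 (iv7 F280041)))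
theorem Q64324 : ∀ i, i < 64324 → P i := stepQ 64323 Q64323 (allL N64323 (tt N100865 D204012) (tt N100866 D204013) (tt N80317 (iv2 F263583)) (tt N100842 F430725) (tt N100843 (iv4 F430726)) (tt N81848 (iv5 F277232)) (tt N34806 (iv6 D122417)) (tt N100867 D204014))
theorem Q64325 : ∀ i, i < 64325 → P i := stepQ 64324 Q64324 (allL N64324 (tt N80506 F302125) (tt N80509 F302126) (tt N82292 (iv2 F280040)) (tt N100868 D204015) (tt N34808 (iv4 D122423)) (tt N64327 (iv5 F195866)) (tt N100869 D204016) (tt N80316 (iv7 F263582)))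
theorem Q64326 : ∀ i, i < 64326 → P i := stepQ 64325 Q64325 (allL N64325 (tt N69878 F356533) (tt N69877 (iv0 F365659)) (tt N82293 (iv2 F280042)) (tt N89410 (iv3 F386392)) (tt N100869 (iv4 F430825)) (tt N64606 (iv5 F304694)) (tt N34808 (iv6 D122424)) (tt N100870 D204017))
theorem Q64327 : ∀ i, i < 64327 → P i := stepQ 64326 Q64326 (allL N64326 (tt N43550 F304685) (tt N53074 F363134) (tt N89411 (iv2 F386395)) (tt N34810 (iv3 D122426)) (tt N100871 D204018) (tt N48198 F195865) (tt N100872 D204019) (tt N89662 (iv7 F387143)))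
theorem Q64328 : ∀ i, i < 64328 → P i := stepQ 64327 Q64327 (allL N64327 (tt N63932 F302099) (tt N80504 F302100) (tt N88487 F383248) (tt N100873 D204020) (tt N34810 (iv4 D122427)) (tt N64324 F195866) (tt N100874 D204021) (tt N88488 (iv7 F383251)))
theorem Q64329 : ∀ i, i < 64329 → P i := stepQ 64328 Q64328 (allL N64328 (tt N78116 F356529) (tt N40112 F356530) (tt N99396 F424401) (tt N100872 (iv3 F430834)) (tt N100874 (iv4 F430843)) (tt N70458 F356531) (tt N34810 (iv6 D122428)) (tt N73997 F356532))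
theorem Q64330 : ∀ i, i < 64330 → P i := stepQ 64329 Q64329 (allL N64329 (tt N80504 F302101) (tt N63932 F302102) (tt N88488 F383254) (tt N88595 (iv3 F384377)) (tt N34811 (iv4 D122430)) (tt N64322 F195868) (tt N100875 D204022) (tt N88487 F383249))
theorem Q64331 : ∀ i, i < 64331 → P i := stepQ 64330 Q64330 (allL N64330 (tt N100876 D204023) (tt N100877 D204024) (tt N100578 (iv2 F429544)) (tt N89415 (iv3 F386413)) (tt N100875 (iv4 F430845)) (tt N79421 (iv5 F255956)) (tt N34811 (iv6 D122431)) (tt N100878 D204025))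
theorem Q64332 : ∀ i, i < 64332 → P i := stepQ 64331 Q64331 (allL N64331 (tt N34871 F304425) (tt N34812 (iv0 D122432)) (tt N80513 F304426) (tt N100879 D204026) (tt N47773 F304427) (tt N64340 (iv5 F195924)) (tt N100880 D204027) (tt N80520 F304428))
theorem Q64333 : ∀ i, i < 64333 → P i := stepQ 64332 Q64332 (allL N64332 (tt N34812 (iv1 D122433)) (tt N34871 F304429) (tt N80520 F304430) (tt N100881 D204028) (tt N48211 (iv4 F195873)) (tt N64335 (iv5 F195899)) (tt N100882 D204029) (tt N80513 F304431))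
theorem Q64334 : ∀ i, i < 64334 → P i := stepQ 64333 Q64333 (allL N64333 (tt N100883 D204030) (tt N100884 D204031) (tt N100885 D204032) (tt N34812 (iv3 D122434)) (tt N100058 (iv4 F427388)) (tt N64417 (iv5 F366895)) (tt N100861 (iv6 F430809)) (tt N100579 (iv7 F429546)))
theorem Q64335 : ∀ i, i < 64335 → P i := stepQ 64334 Q64334 (allL N64334 (tt N34816 (iv1 F195897)) (tt N34813 (iv0 D122447)) (tt N46658 F302885) (tt N100886 D204033) (tt N100887 D204034) (tt N46665 F302886) (tt N100626 (iv6 F429756)) (tt N46657 F302887))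
theorem Q64336 : ∀ i, i < 64336 → P i := stepQ 64335 Q64335 (allL N64335 (tt N82251 (iv1 F279932)) (tt N64922 (iv0 F304681)) (tt N82294 F280048) (tt N100888 D204035) (tt N34813 (iv4 D122449)) (tt N64332 F195899) (tt N100889 D204036) (tt N46659 F304424))
theorem Q64337 : ∀ i, i < 64337 → P i := stepQ 64336 Q64336 (allL N64336 (tt N100890 D204037) (tt N100891 D204038) (tt N100581 (iv2 F429550)) (tt N48582 F364077) (tt N100889 (iv4 F430867)) (tt N49103 F364078) (tt N34813 (iv6 D122450)) (tt N84331 (iv7 F368928)))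
theorem Q64338 : ∀ i, i < 64338 → P i := stepQ 64337 Q64337 (allL N64337 (tt N46742 F286389) (tt N79138 (iv0 F301832)) (tt N34815 (iv2 D122459)) (tt N43388 F303723) (tt N46866 F303724) (tt N100892 D204039) (tt N100893 D204040) (tt N43565 F303725))
theorem Q64339 : ∀ i, i < 64339 → P i := stepQ 64338 Q64338 (allL N64338 (tt N100894 D204041) (tt N100895 D204042) (tt N100892 (iv2 F430868)) (tt N34816 F195922) (tt N100896 D204043) (tt N34815 (iv5 D122460)) (tt N100897 D204044) (tt N100580 (iv7 F429549)))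
theorem Q64340 : ∀ i, i < 64340 → P i := stepQ 64339 Q64339 (allL N64339 (tt N100898 D204045) (tt N83234 (iv0 F364881)) (tt N100893 (iv2 F430871)) (tt N34817 F195923) (tt N46868 F303726) (tt N64677 F303727) (tt N34815 (iv6 D122461)) (tt N100654 (iv7 F429862)))
theorem Q64341 : ∀ i, i < 64341 → P i := stepQ 64340 Q64340 (allL N64340 (tt N64922 (iv1 F304682)) (tt N82251 (iv0 F279931)) (tt N46659 F304298) (tt N100899 D204046) (tt N34816 (iv4 D122462)) (tt N64331 F195924) (tt N100900 D204047) (tt N82294 (iv7 F280046)))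
theorem Q64342 : ∀ i, i < 64342 → P i := stepQ 64341 Q64341 (allL N64341 (tt N69870 F345490) (tt N69869 F363075) (tt N46660 F304299) (tt N100897 (iv3 F430880)) (tt N100900 (iv4 F430887)) (tt N64678 F304300) (tt N34816 (iv6 D122463)) (tt N100901 D204048))
theorem Q64343 : ∀ i, i < 64343 → P i := stepQ 64342 Q64342 (allL N64342 (tt N80372 (iv1 F303743)) (tt N80369 (iv0 F303732)) (tt N46869 F195932) (tt N92049 (iv3 F395538)) (tt N34818 (iv4 D122467)) (tt N78420 (iv5 F329445)) (tt N92047 (iv6 F395531)) (tt N46672 F195933))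
theorem Q64344 : ∀ i, i < 64344 → P i := stepQ 64343 Q64343 (allL N64343 (tt N65423 (iv1 F339192)) (tt N65167 F339191) (tt N46870 F195934) (tt N95825 (iv3 F409821)) (tt N92047 F395530) (tt N80835 (iv5 F271859)) (tt N34818 (iv6 D122468)) (tt N65424 (iv7 F360741)))
theorem Q64345 : ∀ i, i < 64345 → P i := stepQ 64344 Q64344 (allL N64344 (tt N99632 (iv1 F425507)) (tt N41601 F325856) (tt N46740 F298162) (tt N95463 (iv3 F408274)) (tt N46760 F295809) (tt N45196 (iv5 F326660)) (tt N34822 (iv6 D122498)) (tt N96970 (iv7 F414852)))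
theorem Q64346 : ∀ i, i < 64346 → P i := stepQ 64345 Q64345 (allL N64345 (tt N42556 F306319) (tt N35055 (iv0 F196221)) (tt N75590 (iv2 F312008)) (tt N34825 (iv3 D122555)) (tt N63720 F196218) (tt N62935 (iv5 F314528)) (tt N90538 (iv6 F390002)) (tt N34921 F196219))
theorem Q64347 : ∀ i, i < 64347 → P i := stepQ 64346 Q64346 (allL N64346 (tt N34982 F345824) (tt N43717 F345825) (tt N34920 F196222) (tt N90538 (iv3 F390004)) (tt N80290 (iv4 F262763)) (tt N90178 (iv5 F388790)) (tt N34825 (iv6 D122556)) (tt N90233 (iv7 F389017)))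
theorem Q64348 : ∀ i, i < 64348 → P i := stepQ 64347 Q64347 (allL N64347 (tt N43606 (iv1 F196230)) (tt N34826 (iv0 D122557)) (tt N43603 F306754) (tt N83963 (iv3 F367637)) (tt N100902 D204049) (tt N100903 D204050) (tt N90168 (iv6 F388758)) (tt N43604 F306755))
theorem Q64349 : ∀ i, i < 64349 → P i := stepQ 64348 Q64348 (allL N64348 (tt N100904 D204051) (tt N100905 D204052) (tt N43605 F196224) (tt N34828 F196225) (tt N100906 D204053) (tt N34826 (iv5 D122559)) (tt N64769 (iv6 F198289)) (tt N47870 F302301))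
theorem Q64350 : ∀ i, i < 64350 → P i := stepQ 64349 Q64349 (allL N64349 (tt N49051 F310412) (tt N82542 F302307) (tt N35180 F196235) (tt N89891 (iv3 F387885)) (tt N81916 F302308) (tt N34827 (iv5 D122562)) (tt N100907 D204054) (tt N35182 F196236))
theorem Q64351 : ∀ i, i < 64351 → P i := stepQ 64350 Q64350 (allL N64350 (tt N35178 (iv1 F196272)) (tt N34828 (iv0 D122567)) (tt N35183 (iv2 F196270)) (tt N90603 F390223) (tt N81901 F302309) (tt N46733 F302310) (tt N96205 (iv6 F411485)) (tt N35184 F196271))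
theorem Q64352 : ∀ i, i < 64352 → P i := stepQ 64351 Q64351 (allL N64351 (tt N100908 D204055) (tt N100637 (iv0 F429783)) (tt N35185 F196273) (tt N100909 D204056) (tt N34828 (iv4 D122568)) (tt N100910 D204057) (tt N64777 (iv6 F198295)) (tt N47871 F302312))
theorem Q64353 : ∀ i, i < 64353 → P i := stepQ 64352 Q64352 (allL N64352 (tt N65049 F301766) (tt N45634 F196314) (tt N35213 F196312) (tt N80114 F301767) (tt N34829 (iv4 D122581)) (tt N81975 F301768) (tt N58321 F358801) (tt N35215 F196313))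
theorem Q64354 : ∀ i, i < 64354 → P i := stepQ 64353 Q64353 (allL N64353 (tt N35203 (iv1 F196323)) (tt N34830 (iv0 D122582)) (tt N35216 (iv2 F196320)) (tt N100911 D204058) (tt N45662 F196321) (tt N81962 F299584) (tt N58731 (iv6 F362614)) (tt N35217 F196322))
theorem Q64355 : ∀ i, i < 64355 → P i := stepQ 64354 Q64354 (allL N64354 (tt N34830 (iv1 D122583)) (tt N35203 F196315) (tt N35217 (iv2 F196317)) (tt N100912 D204059) (tt N46185 F299585) (tt N81961 F299586) (tt N46702 (iv6 F301418)) (tt N35216 (iv7 F196319)))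
theorem Q64356 : ∀ i, i < 64356 → P i := stepQ 64355 Q64355 (allL N64355 (tt N91925 (iv1 F394978)) (tt N87800 (iv0 F380559)) (tt N100913 D204060) (tt N34830 (iv3 D122584)) (tt N46778 F196324) (tt N100914 D204061) (tt N34831 F196325) (tt N47873 F302316))
theorem Q64357 : ∀ i, i < 64357 → P i := stepQ 64356 Q64356 (allL N64356 (tt N100915 D204062) (tt N82544 F302317) (tt N35219 F196326) (tt N100914 (iv3 F430942)) (tt N100916 D204063) (tt N34830 (iv5 D122585)) (tt N100917 D204064) (tt N47874 F302318))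
theorem Q64358 : ∀ i, i < 64358 → P i := stepQ 64357 Q64357 (allL N64357 (tt N79148 (iv1 F253202)) (tt N34831 (iv0 D122587)) (tt N79147 (iv2 F430994)) (tt N100918 D204066) (tt N100919 D204067) (tt N100920 D204068) (tt N100850 (iv6 F430974)) (tt N79146 (iv7 F430998)))
theorem Q64359 : ∀ i, i < 64359 → P i := stepQ 64358 Q64358 (allL N64358 (tt N34831 (iv1 D122588)) (tt N79148 F253204) (tt N79146 (iv2 F430997)) (tt N100921 D204070) (tt N100922 D204071) (tt N100923 D204072) (tt N100924 D204073) (tt N79147 (iv7 F430996)))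
theorem Q64360 : ∀ i, i < 64360 → P i := stepQ 64359 Q64359 (allL N64359 (tt N79147 (iv1 F253203)) (tt N79146 F253198) (tt N34831 (iv2 D122589)) (tt N35238 F196331) (tt N46783 F196332) (tt N100925 D204074) (tt N100913 (iv6 F430938)) (tt N79148 (iv7 F253201)))
theorem Q64361 : ∀ i, i < 64361 → P i := stepQ 64360 Q64360 (allL N64360 (tt N100926 D204075) (tt N100927 D204076) (tt N100925 (iv2 F431000)) (tt N34832 F196333) (tt N100928 D204077) (tt N34831 (iv5 D122590)) (tt N100929 D204078) (tt N64997 (iv7 F198790)))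
theorem Q64362 : ∀ i, i < 64362 → P i := stepQ 64361 Q64361 (allL N64361 (tt N100930 D204079) (tt N94904 (iv0 F406277)) (tt N35243 F196334) (tt N100929 (iv3 F431004)) (tt N45379 F196335) (tt N100917 (iv5 F430957)) (tt N34832 (iv6 D122591)) (tt N100931 D204080))
theorem Q64363 : ∀ i, i < 64363 → P i := stepQ 64362 Q64362 (allL N64362 (tt N57463 F305310) (tt N44485 F305311) (tt N48766 F196371) (tt N69643 F305312) (tt N83832 F351906) (tt N78818 F305313) (tt N34834 (iv6 D122599)) (tt N57454 F305314))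
theorem Q64364 : ∀ i, i < 64364 → P i := stepQ 64363 Q64363 (allL N64363 (tt N42846 (iv1 F301157)) (tt N34835 (iv0 D122600)) (tt N46559 F340977) (tt N88536 (iv3 F383445)) (tt N53931 F340978) (tt N40273 F340979) (tt N40275 F340980) (tt N46558 F340981))
theorem Q64365 : ∀ i, i < 64365 → P i := stepQ 64364 Q64364 (allL N64364 (tt N34835 (iv1 D122601)) (tt N42846 (iv0 F301156)) (tt N46558 F336878) (tt N69682 (iv3 F340962)) (tt N53930 F340965) (tt N73367 F336879) (tt N57481 (iv6 F332459)) (tt N46559 F336880))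
theorem Q64366 : ∀ i, i < 64366 → P i := stepQ 64365 Q64365 (allL N64365 (tt N99456 F424667) (tt N80100 F361504) (tt N66570 (iv2 F314085)) (tt N34836 F196372) (tt N99910 F426778) (tt N34835 (iv5 D122602)) (tt N63264 F196373) (tt N46560 (iv7 F301161)))
theorem Q64367 : ∀ i, i < 64367 → P i := stepQ 64366 Q64366 (allL N64366 (tt N45636 (iv1 F196425)) (tt N45635 F196426) (tt N45625 (iv2 F299032)) (tt N63881 (iv3 F298976)) (tt N65049 F297437) (tt N34839 F196424) (tt N45623 (iv6 F298903)) (tt N34838 (iv7 D122613)))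
theorem Q64368 : ∀ i, i < 64368 → P i := stepQ 64367 Q64367 (allL N64367 (tt N53550 (iv1 F301164)) (tt N46589 (iv0 F196432)) (tt N46554 F196430) (tt N66817 (iv3 F305608)) (tt N34842 (iv4 D122615)) (tt N64747 (iv5 F198255)) (tt N66818 (iv6 F341994)) (tt N63917 F196431))
theorem Q64369 : ∀ i, i < 64369 → P i := stepQ 64368 Q64368 (allL N64368 (tt N43315 F351914) (tt N69573 F351915) (tt N63918 F196440) (tt N75979 (iv3 F235086)) (tt N57479 F351916) (tt N100932 D204081) (tt N34843 (iv6 D122618)) (tt N69571 F351917))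
theorem Q64370 : ∀ i, i < 64370 → P i := stepQ 64369 Q64369 (allL N64369 (tt N80502 F268093) (tt N80501 F268091) (tt N34845 F196441) (tt N63926 F196442) (tt N63042 (iv4 F315556)) (tt N100933 D204082) (tt N34844 (iv6 D122619)) (tt N75620 (iv7 F320004)))
theorem Q64371 : ∀ i, i < 64371 → P i := stepQ 64370 Q64370 (allL N64370 (tt N75620 (iv1 F320000)) (tt N34845 (iv0 D122620)) (tt N80502 F354035) (tt N80437 (iv3 F354032)) (tt N88537 F383454) (tt N100934 D204083) (tt N100313 F428392) (tt N80501 F354033))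
theorem Q64372 : ∀ i, i < 64372 → P i := stepQ 64371 Q64371 (allL N64371 (tt N34845 (iv1 D122621)) (tt N75620 (iv0 F319999)) (tt N80501 (iv2 F354034)) (tt N89660 F387134) (tt N88536 (iv4 F383446)) (tt N100935 D204084) (tt N100936 D204085) (tt N80502 (iv7 F354036)))
theorem Q64373 : ∀ i, i < 64373 → P i := stepQ 64372 Q64372 (allL N64372 (tt N100937 D204086) (tt N100938 D204087) (tt N100933 (iv2 F431017)) (tt N34846 F196443) (tt N100939 D204088) (tt N34845 (iv5 D122622)) (tt N64750 (iv6 F198261)) (tt N80503 (iv7 F268098)))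
theorem Q64374 : ∀ i, i < 64374 → P i := stepQ 64373 Q64373 (allL N64373 (tt N88488 (iv1 F383250)) (tt N88487 F383247) (tt N63932 F196448) (tt N100940 D204089) (tt N34846 (iv4 D122624)) (tt N52806 F366890) (tt N64758 (iv6 F198266)) (tt N80504 (iv7 F268099)))
theorem Q64375 : ∀ i, i < 64375 → P i := stepQ 64374 Q64374 (allL N64374 (tt N87062 F378244) (tt N41865 F346309) (tt N81198 (iv2 F273606)) (tt N34849 F196498) (tt N53854 F196499) (tt N70421 (iv5 F350736)) (tt N34847 (iv6 D122636)) (tt N91019 (iv7 F391598)))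
theorem Q64376 : ∀ i, i < 64376 → P i := stepQ 64375 Q64375 (allL N64375 (tt N64562 (iv1 F197548)) (tt N34849 (iv0 D122640)) (tt N64559 F355552) (tt N62925 (iv3 F348017)) (tt N45341 F350731) (tt N73507 F355556) (tt N100941 D204090) (tt N64560 (iv7 F355555)))
theorem Q64377 : ∀ i, i < 64377 → P i := stepQ 64376 Q64376 (allL N64376 (tt N34849 (iv1 D122641)) (tt N64562 F197547) (tt N64560 F355554) (tt N63298 (iv3 F347726)) (tt N45342 F350732) (tt N86274 (iv5 F375643)) (tt N49774 (iv6 F335633)) (tt N64559 F355553))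
theorem Q64378 : ∀ i, i < 64378 → P i := stepQ 64377 Q64377 (allL N64377 (tt N64560 (iv1 F197540)) (tt N64559 F197546) (tt N64562 (iv2 F197543)) (tt N91019 F391600) (tt N64558 (iv4 F197535)) (tt N70195 (iv5 F341411)) (tt N64558 (iv6 F197536)) (tt N34849 (iv7 D122643)))
theorem Q64379 : ∀ i, i < 64379 → P i := stepQ 64378 Q64378 (allL N64378 (tt N34851 (iv1 D122648)) (tt N88992 F384705) (tt N44579 F384698) (tt N100942 D204091) (tt N90175 (iv4 F388786)) (tt N100943 D204092) (tt N89670 (iv6 F387175)) (tt N88991 F384699))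
theorem Q64380 : ∀ i, i < 64380 → P i := stepQ 64379 Q64379 (allL N64379 (tt N81865 F301778) (tt N88847 F384329) (tt N73905 (iv2 F349508)) (tt N34853 F196512) (tt N100944 D204093) (tt N34851 (iv5 D122649)) (tt N63028 F349514) (tt N65021 F301779))
theorem Q64381 : ∀ i, i < 64381 → P i := stepQ 64380 Q64380 (allL N64380 (tt N44579 F196515) (tt N88991 F384700) (tt N88992 (iv2 F384701)) (tt N34854 F196513) (tt N46752 F196514) (tt N65021 F301780) (tt N82270 F301781) (tt N34851 (iv7 D122650)))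
theorem Q64382 : ∀ i, i < 64382 → P i := stepQ 64381 Q64381 (allL N64381 (tt N64558 (iv1 F197539)) (tt N34852 (iv0 D122651)) (tt N62917 F350754) (tt N71994 (iv3 F350753)) (tt N63895 (iv4 F350756)) (tt N54678 F301782) (tt N96196 F411446) (tt N63957 (iv7 F355550)))
theorem Q64383 : ∀ i, i < 64383 → P i := stepQ 64382 Q64382 (allL N64382 (tt N34852 (iv1 D122652)) (tt N64558 F197538) (tt N63957 (iv2 F355548)) (tt N62888 F353562) (tt N62997 (iv4 F353564)) (tt N54677 (iv5 F343220)) (tt N100945 D204094) (tt N62917 F353563))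
theorem Q64384 : ∀ i, i < 64384 → P i := stepQ 64383 Q64383 (allL N64383 (tt N100946 D204095) (tt N71105 (iv0 F341514)) (tt N64557 (iv2 F197532)) (tt N63028 (iv3 F349515)) (tt N98899 (iv4 F422725)) (tt N34852 (iv5 D122653)) (tt N34853 F196517) (tt N73906 F349516))
theorem Q64385 : ∀ i, i < 64385 → P i := stepQ 64384 Q64384 (allL N64384 (tt N83717 F301789) (tt N100947 D204096) (tt N65025 (iv2 F303345)) (tt N100948 D204097) (tt N34853 (iv4 D122657)) (tt N99110 F423372) (tt N98899 (iv6 F422727)) (tt N65022 F301790))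
theorem Q64386 : ∀ i, i < 64386 → P i := stepQ 64385 Q64385 (allL N64385 (tt N43475 (iv1 F196526)) (tt N34856 (iv0 D122664)) (tt N44714 (iv2 F196525)) (tt N43462 F196524) (tt N44676 F196523) (tt N77337 (iv5 F242417)) (tt N89396 (iv6 F386363)) (tt N44711 F196527))
theorem Q64387 : ∀ i, i < 64387 → P i := stepQ 64386 Q64386 (allL N64386 (tt N89736 F387361) (tt N89744 F387390) (tt N80697 (iv2 F270556)) (tt N34857 F196531) (tt N38912 F305433) (tt N100949 D204098) (tt N34856 (iv6 D122665)) (tt N38909 F305434))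
theorem Q64388 : ∀ i, i < 64388 → P i := stepQ 64387 Q64387 (allL N64387 (tt N65003 F339055) (tt N63370 (iv0 F341192)) (tt N76374 (iv2 F238474)) (tt N100949 (iv3 F431077)) (tt N78817 F341193) (tt N34857 (iv5 D122668)) (tt N76311 (iv6 F238171)) (tt N76514 F348203))
theorem Q64389 : ∀ i, i < 64389 → P i := stepQ 64388 Q64388 (allL N64388 (tt N100006 (iv1 F427161)) (tt N100841 F430719) (tt N34862 F196535) (tt N100037 (iv3 F427320)) (tt N100950 D204099) (tt N34858 (iv5 D122672)) (tt N76269 (iv6 F238050)) (tt N100034 (iv7 F427309)))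
theorem Q64390 : ∀ i, i < 64390 → P i := stepQ 64389 Q64389 (allL N64389 (tt N34859 (iv1 D122675)) (tt N76270 F238054) (tt N61524 (iv2 F357117)) (tt N96973 (iv3 F414872)) (tt N61523 F357118) (tt N100951 D204100) (tt N100952 D204101) (tt N76268 (iv7 F357119)))
theorem Q64391 : ∀ i, i < 64391 → P i := stepQ 64390 Q64390 (allL N64390 (tt N100953 D204102) (tt N100954 D204103) (tt N76269 (iv2 F238049)) (tt N34869 F196540) (tt N100955 D204104) (tt N34859 (iv5 D122676)) (tt N34862 F196541) (tt N100956 D204105))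
theorem Q64392 : ∀ i, i < 64392 → P i := stepQ 64391 Q64391 (allL N64391 (tt N61524 (iv1 F340894)) (tt N76268 F238053) (tt N76270 (iv2 F238051)) (tt N34870 F196542) (tt N63268 F196543) (tt N100956 (iv5 F431090)) (tt N76300 (iv6 F238118)) (tt N34859 (iv7 D122677)))
theorem Q64393 : ∀ i, i < 64393 → P i := stepQ 64392 Q64392 (allL N64392 (tt N76160 (iv1 F332491)) (tt N63326 F337189) (tt N76448 F332480) (tt N73695 F340956) (tt N34860 (iv4 D122680)) (tt N73692 F332481) (tt N99716 (iv6 F425884)) (tt N76449 (iv7 F332485)))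
theorem Q64394 : ∀ i, i < 64394 → P i := stepQ 64393 Q64393 (allL N64393 (tt N100957 D204106) (tt N82245 (iv0 F361490)) (tt N100839 (iv2 F430714)) (tt N88501 (iv3 F383296)) (tt N100958 D204107) (tt N34860 (iv5 D122681)) (tt N89538 (iv6 F386733)) (tt N100838 (iv7 F430713)))
theorem Q64395 : ∀ i, i < 64395 → P i := stepQ 64394 Q64394 (allL N64394 (tt N72058 F361491) (tt N100639 F429796) (tt N100840 (iv2 F430716)) (tt N88502 (iv3 F383299)) (tt N99716 F425887) (tt N100959 D204108) (tt N34860 (iv6 D122682)) (tt N100960 D204109))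
theorem Q64396 : ∀ i, i < 64396 → P i := stepQ 64395 Q64395 (allL N64395 (tt N63326 (iv1 F237161)) (tt N76160 (iv0 F237160)) (tt N76449 (iv2 F332482)) (tt N38160 F305592) (tt N34861 (iv4 D122685)) (tt N63757 F317910) (tt N38158 F305594) (tt N76448 F305595))
theorem Q64397 : ∀ i, i < 64397 → P i := stepQ 64396 Q64396 (allL N64396 (tt N82245 (iv1 F332471)) (tt N100957 F431094) (tt N100838 (iv2 F430712)) (tt N89397 (iv3 F386366)) (tt N100961 D204110) (tt N34861 (iv5 D122686)) (tt N100962 D204111) (tt N100839 (iv7 F430715)))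
theorem Q64398 : ∀ i, i < 64398 → P i := stepQ 64397 Q64397 (allL N64397 (tt N76498 F332472) (tt N57478 F332473) (tt N76491 F332474) (tt N89398 (iv3 F386367)) (tt N38158 F332475) (tt N81838 (iv5 F338080)) (tt N34861 (iv6 D122687)) (tt N68295 F332476))
theorem Q64399 : ∀ i, i < 64399 → P i := stepQ 64398 Q64398 (allL N64398 (tt N100034 (iv1 F427311)) (tt N34862 (iv0 D122688)) (tt N100006 (iv2 F427158)) (tt N100963 D204112) (tt N100964 D204113) (tt N100002 (iv5 F427136)) (tt N100965 D204114) (tt N100841 (iv7 F430720)))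
theorem Q64400 : ∀ i, i < 64400 → P i := stepQ 64399 Q64399 (allL N64399 (tt N34862 (iv1 D122689)) (tt N100034 (iv0 F427310)) (tt N100841 F430718) (tt N89401 F386371) (tt N100966 D204115) (tt N69581 (iv5 F361503)) (tt N100967 D204116) (tt N100006 (iv7 F427159)))
theorem Q64401 : ∀ i, i < 64401 → P i := stepQ 64400 Q64400 (allL N64400 (tt N100968 D204117) (tt N100969 D204118) (tt N100950 (iv2 F431079)) (tt N100867 (iv3 F430822)) (tt N34862 (iv4 D122690)) (tt N49121 F426781) (tt N100955 (iv6 F431088)) (tt N100842 (iv7 F430723)))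
theorem Q64402 : ∀ i, i < 64402 → P i := stepQ 64401 Q64401 (allL N64401 (tt N88036 F381545) (tt N87969 (iv0 F381327)) (tt N89422 (iv2 F386442)) (tt N34864 F196555) (tt N84031 (iv4 F367871)) (tt N100970 D204119) (tt N34863 (iv6 D122693)) (tt N100971 D204120))
theorem Q64403 : ∀ i, i < 64403 → P i := stepQ 64402 Q64402 (allL N64402 (tt N100972 D204121) (tt N100973 D204122) (tt N47854 F301751) (tt N100970 (iv3 F431109)) (tt N100974 D204123) (tt N34864 (iv5 D122696)) (tt N34958 F196556) (tt N100975 D204124))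
theorem Q64404 : ∀ i, i < 64404 → P i := stepQ 64403 Q64403 (allL N64403 (tt N38563 F350263) (tt N64490 F360535) (tt N64782 F341421) (tt N100971 (iv3 F431112)) (tt N79393 (iv4 F255576)) (tt N100975 (iv5 F431127)) (tt N79393 (iv6 F255577)) (tt N34864 (iv7 D122697)))
theorem Q64405 : ∀ i, i < 64405 → P i := stepQ 64404 Q64404 (allL N64404 (tt N77669 F350261) (tt N77667 F337087) (tt N45271 F196557) (tt N34866 F196558) (tt N45254 F196559) (tt N89692 (iv5 F387230)) (tt N34865 (iv6 D122698)) (tt N100976 D204125))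
theorem Q64406 : ∀ i, i < 64406 → P i := stepQ 64405 Q64405 (allL N64405 (tt N79393 (iv1 F255580)) (tt N34866 (iv0 D122699)) (tt N64810 F354942) (tt N78964 (iv3 F354945)) (tt N35129 F354943) (tt N95914 (iv5 F410233)) (tt N90945 (iv6 F391330)) (tt N64812 F354944))
theorem Q64407 : ∀ i, i < 64407 → P i := stepQ 64406 Q64406 (allL N64406 (tt N89037 F384913) (tt N99517 (iv0 F424956)) (tt N79392 (iv2 F255573)) (tt N89692 (iv3 F387233)) (tt N100977 D204126) (tt N34866 (iv5 D122701)) (tt N34961 F196560) (tt N100978 D204127))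
theorem Q64408 : ∀ i, i < 64408 → P i := stepQ 64407 Q64407 (allL N64407 (tt N64812 (iv1 F341511)) (tt N64810 (iv0 F341512)) (tt N79393 (iv2 F255575)) (tt N100976 (iv3 F431132)) (tt N64782 F341423) (tt N100978 (iv5 F431140)) (tt N64782 F341425) (tt N34866 (iv7 D122702)))
theorem Q64409 : ∀ i, i < 64409 → P i := stepQ 64408 Q64408 (allL N64408 (tt N49772 (iv1 F356537)) (tt N53885 (iv0 F356535)) (tt N91013 (iv2 F391567)) (tt N34867 (iv3 D122704)) (tt N49728 F356536) (tt N100979 D204128) (tt N59285 F356525) (tt N90947 (iv7 F391339)))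
theorem Q64410 : ∀ i, i < 64410 → P i := stepQ 64409 Q64409 (allL N64409 (tt N100980 D204129) (tt N100981 D204130) (tt N78114 (iv2 F356527)) (tt N100979 (iv3 F431143)) (tt N100982 D204131) (tt N34867 (iv5 D122706)) (tt N59287 F356526) (tt N90948 (iv7 F391348)))
theorem Q64411 : ∀ i, i < 64411 → P i := stepQ 64410 Q64410 (allL N64410 (tt N43548 F356489) (tt N80099 F356490) (tt N92599 (iv2 F397572)) (tt N34868 (iv3 D122709)) (tt N40953 F356491) (tt N100983 D204132) (tt N40952 F356492) (tt N78108 F356493))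
theorem Q64412 : ∀ i, i < 64412 → P i := stepQ 64411 Q64411 (allL N64411 (tt N100981 (iv1 F431147)) (tt N100980 F431146) (tt N90948 (iv2 F391347)) (tt N100983 (iv3 F431151)) (tt N100984 D204133) (tt N34868 (iv5 D122711)) (tt N82286 (iv6 F366919)) (tt N78114 (iv7 F356524)))
theorem Q64413 : ∀ i, i < 64413 → P i := stepQ 64412 Q64412 (allL N64412 (tt N38427 F356495) (tt N38562 F356496) (tt N38561 F356497) (tt N40952 F356498) (tt N40965 F356499) (tt N100985 D204134) (tt N34868 (iv6 D122712)) (tt N38560 F356500))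
theorem Q64414 : ∀ i, i < 64414 → P i := stepQ 64413 Q64413 (allL N64413 (tt N100577 (iv1 F429543)) (tt N34869 (iv0 D122713)) (tt N100574 F429528) (tt N100986 D204135) (tt N100987 D204136) (tt N49775 F356509) (tt N100988 D204137) (tt N100575 (iv7 F429532)))
theorem Q64415 : ∀ i, i < 64415 → P i := stepQ 64414 Q64414 (allL N64414 (tt N34869 (iv1 D122714)) (tt N100577 F429542) (tt N100575 (iv2 F429534)) (tt N73941 (iv3 F365285)) (tt N100989 D204138) (tt N38530 F329110) (tt N38531 F329111) (tt N100574 F429529))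
theorem Q64416 : ∀ i, i < 64416 → P i := stepQ 64415 Q64415 (allL N64415 (tt N100990 D204139) (tt N100991 D204140) (tt N100576 (iv2 F429537)) (tt N100992 D204141) (tt N34869 (iv4 D122715)) (tt N100993 D204142) (tt N34871 F196563) (tt N100994 D204143))
theorem Q64417 : ∀ i, i < 64417 → P i := stepQ 64416 Q64416 (allL N64416 (tt N100575 (iv1 F429531)) (tt N100574 (iv0 F429530)) (tt N100577 (iv2 F429539)) (tt N100956 (iv3 F431089)) (tt N100994 (iv4 F431186)) (tt N34870 F196564) (tt N52910 F366899) (tt N34869 (iv7 D122716)))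
theorem Q64418 : ∀ i, i < 64418 → P i := stepQ 64417 Q64417 (allL N64417 (tt N100995 D204144) (tt N100996 D204145) (tt N100997 D204146) (tt N34871 (iv3 D122745)) (tt N100867 (iv4 F430823)) (tt N64333 F366895) (tt N100992 (iv6 F431178)) (tt N100843 (iv7 F430729)))
theorem Q64419 : ∀ i, i < 64419 → P i := stepQ 64418 Q64418 (allL N64418 (tt N69329 F355877) (tt N45346 F356075) (tt N49641 (iv2 F301488)) (tt N72138 F355878) (tt N76897 (iv4 F240568)) (tt N72137 (iv5 F356074)) (tt N34872 (iv6 D122797)) (tt N90556 (iv7 F390089)))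
theorem Q64420 : ∀ i, i < 64420 → P i := stepQ 64419 Q64419 (allL N64419 (tt N63898 F300575) (tt N63972 (iv0 F366674)) (tt N63925 F196725) (tt N49402 (iv3 F303371)) (tt N76898 (iv4 F240569)) (tt N90444 (iv5 F389663)) (tt N34873 (iv6 D122798)) (tt N63971 (iv7 F362435)))
theorem Q64421 : ∀ i, i < 64421 → P i := stepQ 64420 Q64420 (allL N64420 (tt N42252 F309422) (tt N42249 F309423) (tt N43463 F196805) (tt N34876 F196806) (tt N52573 F196807) (tt N34874 (iv5 D122827)) (tt N62893 (iv6 F349461)) (tt N64593 (iv7 F197776)))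
theorem Q64422 : ∀ i, i < 64422 → P i := stepQ 64421 Q64421 (allL N64421 (tt N68523 F308200) (tt N71936 F362500) (tt N43464 F196808) (tt N34877 F196809) (tt N43314 F308201) (tt N88623 (iv5 F383627)) (tt N34874 (iv6 D122828)) (tt N69574 F308202))
theorem Q64423 : ∀ i, i < 64423 → P i := stepQ 64422 Q64422 (allL N64422 (tt N63094 F306510) (tt N63100 F306511) (tt N62934 (iv2 F328823)) (tt N88623 F383628) (tt N74369 F338809) (tt N34877 (iv5 D122834)) (tt N62894 (iv6 F338810)) (tt N63099 F306513))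
theorem Q64424 : ∀ i, i < 64424 → P i := stepQ 64423 Q64423 (allL N64423 (tt N62925 (iv1 F348005)) (tt N62924 (iv0 F348007)) (tt N62927 (iv2 F312096)) (tt N43468 F196824) (tt N40818 F348004) (tt N70407 (iv5 F337788)) (tt N34878 (iv6 D122837)) (tt N62891 (iv7 F348003)))
theorem Q64425 : ∀ i, i < 64425 → P i := stepQ 64424 Q64424 (allL N64424 (tt N53884 F196844) (tt N79125 (iv0 F252764)) (tt N43483 F196841) (tt N34881 (iv3 D122846)) (tt N55177 F196842) (tt N35001 F196843) (tt N77647 (iv6 F357701)) (tt N89421 (iv7 F386436)))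
theorem Q64426 : ∀ i, i < 64426 → P i := stepQ 64425 Q64425 (allL N64425 (tt N74784 (iv1 F364027)) (tt N95922 (iv0 F410277)) (tt N74391 (iv2 F338171)) (tt N77647 F357699) (tt N45302 F196845) (tt N100998 D204147) (tt N34881 (iv6 D122847)) (tt N74390 F364026))
theorem Q64427 : ∀ i, i < 64427 → P i := stepQ 64426 Q64426 (allL N64426 (tt N65096 F356973) (tt N60863 (iv0 F340880)) (tt N66643 (iv2 F337242)) (tt N64748 (iv3 F198258)) (tt N34884 F196848) (tt N100999 D204148) (tt N34883 (iv6 D122849)) (tt N66644 (iv7 F356978)))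
theorem Q64428 : ∀ i, i < 64428 → P i := stepQ 64427 Q64427 (allL N64427 (tt N49809 F306481) (tt N49487 F306482) (tt N43926 F306518) (tt N34885 (iv3 D122866)) (tt N40970 F316955) (tt N53449 F306483) (tt N38555 F328739) (tt N40967 F316956))
theorem Q64429 : ∀ i, i < 64429 → P i := stepQ 64428 Q64428 (allL N64428 (tt N43646 (iv1 F197040)) (tt N43645 (iv0 F197039)) (tt N35334 F197036) (tt N34887 (iv3 D122988)) (tt N46105 F197037) (tt N89421 (iv5 F386437)) (tt N42542 F305122) (tt N35001 F197038))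
theorem Q64430 : ∀ i, i < 64430 → P i := stepQ 64429 Q64429 (allL N64429 (tt N43703 F255590) (tt N72129 (iv0 F361451)) (tt N34891 F197045) (tt N34966 F197046) (tt N68528 (iv4 F305209)) (tt N76093 F361449) (tt N34889 (iv6 D122991)) (tt N92606 (iv7 F397612)))
theorem Q64431 : ∀ i, i < 64431 → P i := stepQ 64430 Q64430 (allL N64430 (tt N76728 (iv1 F345984)) (tt N64015 (iv0 F345982)) (tt N78706 (iv2 F312496)) (tt N34892 F197047) (tt N87702 (iv4 F380188)) (tt N39865 F329492) (tt N34890 (iv6 D122992)) (tt N72256 F329493))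
theorem Q64432 : ∀ i, i < 64432 → P i := stepQ 64431 Q64431 (allL N64431 (tt N92606 F397614) (tt N34891 (iv0 D122993)) (tt N43703 (iv2 F197050)) (tt N73641 (iv3 F346697)) (tt N87917 (iv4 F381112)) (tt N101000 D204149) (tt N48181 F361459) (tt N72129 (iv7 F361457)))
theorem Q64433 : ∀ i, i < 64433 → P i := stepQ 64432 Q64432 (allL N64432 (tt N43698 F197066) (tt N43694 F197561) (tt N43696 F197067) (tt N34893 (iv3 D123001)) (tt N35252 F197064) (tt N95612 (iv5 F408882)) (tt N48198 F303844) (tt N34979 F197065))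
theorem Q64434 : ∀ i, i < 64434 → P i := stepQ 64433 Q64433 (allL N64433 (tt N34920 F351768) (tt N90233 F389018) (tt N43717 F197084) (tt N34895 (iv3 D123007)) (tt N46918 F197085) (tt N101001 D204150) (tt N35263 F303601) (tt N34982 F197086))
theorem Q64435 : ∀ i, i < 64435 → P i := stepQ 64434 Q64434 (allL N64434 (tt N46732 F303602) (tt N46730 F303603) (tt N34986 F197087) (tt N101001 (iv3 F431206)) (tt N59055 F342822) (tt N34895 (iv5 D123008)) (tt N40052 F342823) (tt N34983 F197088))
theorem Q64436 : ∀ i, i < 64436 → P i := stepQ 64435 Q64435 (allL N64435 (tt N34995 (iv1 F197114)) (tt N34897 (iv0 D123013)) (tt N34991 (iv2 F197112)) (tt N96178 (iv3 F411356)) (tt N52800 F299239) (tt N57982 (iv5 F351105)) (tt N65406 (iv6 F301637)) (tt N34992 F197113))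
theorem Q64437 : ∀ i, i < 64437 → P i := stepQ 64436 Q64436 (allL N64436 (tt N80777 F318098) (tt N80776 F318099) (tt N79291 F318100) (tt N34897 (iv3 D123014)) (tt N44805 F318101) (tt N59587 F358917) (tt N45329 F197115) (tt N59586 (iv7 F343724)))
theorem Q64438 : ∀ i, i < 64438 → P i := stepQ 64437 Q64437 (allL N64437 (tt N47817 F332353) (tt N100822 F430638) (tt N34899 F197121) (tt N35006 F197122) (tt N43082 F197123) (tt N101002 D204151) (tt N34898 (iv6 D123017)) (tt N74532 F308877))
theorem Q64439 : ∀ i, i < 64439 → P i := stepQ 64438 Q64438 (allL N64438 (tt N74532 F331875) (tt N34899 (iv0 D123018)) (tt N47817 F331868) (tt N43655 F241982) (tt N53330 (iv4 F331874)) (tt N72057 (iv5 F342385)) (tt N35244 F331869) (tt N100822 (iv7 F430639)))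
theorem Q64440 : ∀ i, i < 64440 → P i := stepQ 64439 Q64439 (allL N64439 (tt N34899 (iv1 D123019)) (tt N74532 F307624) (tt N100822 F430637) (tt N52949 F332399) (tt N37480 F307625) (tt N72056 (iv5 F361492)) (tt N37479 F307626) (tt N47817 F363155))
theorem Q64441 : ∀ i, i < 64441 → P i := stepQ 64440 Q64440 (allL N64440 (tt N101003 D204152) (tt N101004 D204153) (tt N101002 (iv2 F431212)) (tt N34902 F197124) (tt N70248 F328253) (tt N34899 (iv5 D123020)) (tt N38441 (iv6 F328333)) (tt N100823 (iv7 F430643)))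
theorem Q64442 : ∀ i, i < 64442 → P i := stepQ 64441 Q64441 (allL N64441 (tt N35357 F197143) (tt N49494 F301619) (tt N49496 F301620) (tt N34901 (iv3 D123028)) (tt N43853 (iv4 F302828)) (tt N38798 F327343) (tt N35464 (iv6 F304338)) (tt N35013 F197142))
theorem Q64443 : ∀ i, i < 64443 → P i := stepQ 64442 Q64442 (allL N64442 (tt N35018 (iv1 F197152)) (tt N34902 (iv0 D123030)) (tt N35016 F197156) (tt N52957 F366873) (tt N64679 (iv4 F198044)) (tt N64025 (iv5 F302061)) (tt N101005 D204154) (tt N35017 F197154))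
theorem Q64444 : ∀ i, i < 64444 → P i := stepQ 64443 Q64443 (allL N64443 (tt N34902 (iv1 D123031)) (tt N35018 F197146) (tt N35017 (iv2 F197148)) (tt N101006 D204155) (tt N64680 (iv4 F198040)) (tt N52808 F301982) (tt N70251 F328252) (tt N35016 (iv7 F197157)))
theorem Q64445 : ∀ i, i < 64445 → P i := stepQ 64444 Q64444 (allL N64444 (tt N47911 F197172) (tt N45940 (iv0 F197173)) (tt N35022 F197170) (tt N101007 D204156) (tt N34903 (iv4 D123037)) (tt N72306 (iv5 F344443)) (tt N48317 F301025) (tt N35024 F197171))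
theorem Q64446 : ∀ i, i < 64446 → P i := stepQ 64445 Q64445 (allL N64445 (tt N34904 (iv1 D123040)) (tt N35030 F197182) (tt N35027 (iv2 F197184)) (tt N96180 (iv3 F411363)) (tt N52809 F300433) (tt N62356 (iv5 F344457)) (tt N79168 (iv6 F253288)) (tt N35026 F197183))
theorem Q64447 : ∀ i, i < 64447 → P i := stepQ 64446 Q64446 (allL N64446 (tt N87907 (iv1 F381081)) (tt N87905 (iv0 F381067)) (tt N101008 D204157) (tt N34904 (iv3 D123041)) (tt N79686 (iv4 F257735)) (tt N48249 F354378) (tt N35222 F197190) (tt N72218 F354379))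
theorem Q64448 : ∀ i, i < 64448 → P i := stepQ 64447 Q64447 (allL N64447 (tt N34921 F197198) (tt N75590 (iv0 F312006)) (tt N42556 (iv2 F305581)) (tt N34905 (iv3 D123044)) (tt N34997 F197199) (tt N79118 (iv5 F252689)) (tt N42523 F303907) (tt N35055 F197197))
theorem Q64449 : ∀ i, i < 64449 → P i := stepQ 64448 Q64448 (allL N64448 (tt N34937 F315059) (tt N35157 F315060) (tt N35058 F197201) (tt N43729 F197202) (tt N66989 (iv4 F206324)) (tt N101009 D204158) (tt N34906 (iv6 D123046)) (tt N35156 F311809))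
theorem Q64450 : ∀ i, i < 64450 → P i := stepQ 64449 Q64449 (allL N64449 (tt N64093 F346706) (tt N79484 F346707) (tt N34908 F197203) (tt N35042 F197204) (tt N69344 (iv4 F313353)) (tt N89906 (iv5 F387940)) (tt N34907 (iv6 D123047)) (tt N78620 (iv7 F356150)))
theorem Q64451 : ∀ i, i < 64451 → P i := stepQ 64450 Q64450 (allL N64450 (tt N78620 F320201) (tt N34908 (iv0 D123048)) (tt N64093 F320202) (tt N90540 (iv3 F390015)) (tt N47049 F320203) (tt N79507 F320204) (tt N90502 (iv6 F389856)) (tt N79484 F320205))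
theorem Q64452 : ∀ i, i < 64452 → P i := stepQ 64451 Q64451 (allL N64451 (tt N76014 (iv1 F235690)) (tt N52178 (iv0 F197233)) (tt N35037 F197231) (tt N37494 F307645) (tt N34911 (iv4 D123060)) (tt N77217 (iv5 F241989)) (tt N37492 F307646) (tt N35033 F197232))
theorem Q64453 : ∀ i, i < 64453 → P i := stepQ 64452 Q64452 (allL N64452 (tt N35179 F315670) (tt N78303 F315671) (tt N35035 F197236) (tt N79115 (iv3 F252681)) (tt N81663 (iv4 F276301)) (tt N101010 D204159) (tt N34912 (iv6 D123062)) (tt N69612 (iv7 F348262)))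
theorem Q64454 : ∀ i, i < 64454 → P i := stepQ 64453 Q64453 (allL N64453 (tt N77217 (iv1 F241992)) (tt N52573 (iv0 F197243)) (tt N63409 F197239) (tt N52182 F197240) (tt N34914 (iv4 D123064)) (tt N52382 F197242) (tt N101011 D204160) (tt N35047 F197241))
theorem Q64455 : ∀ i, i < 64455 → P i := stepQ 64454 Q64454 (allL N64454 (tt N44861 F311645) (tt N44864 F311646) (tt N75587 F311647) (tt N34916 F197244) (tt N101011 (iv4 F431259)) (tt N38445 F329643) (tt N34914 (iv6 D123065)) (tt N69864 F329644))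
theorem Q64456 : ∀ i, i < 64456 → P i := stepQ 64455 Q64455 (allL N64455 (tt N34915 (iv1 D123067)) (tt N80037 (iv0 F364921)) (tt N89158 (iv2 F385385)) (tt N77452 (iv3 F361520)) (tt N101012 D204161) (tt N101013 D204162) (tt N69615 (iv6 F364929)) (tt N82540 F364928))
theorem Q64457 : ∀ i, i < 64457 → P i := stepQ 64456 Q64456 (allL N64456 (tt N101014 D204163) (tt N101015 D204164) (tt N90403 (iv2 F389525)) (tt N34917 F197245) (tt N68995 F329058) (tt N34915 (iv5 D123068)) (tt N38445 F329059) (tt N100819 (iv7 F430623)))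
theorem Q64458 : ∀ i, i < 64458 → P i := stepQ 64457 Q64457 (allL N64457 (tt N35074 (iv1 F197260)) (tt N34917 (iv0 D123074)) (tt N35071 (iv2 F197258)) (tt N101016 D204165) (tt N38442 F329056) (tt N64026 (iv5 F304270)) (tt N70011 F329057) (tt N35072 F197259))
theorem Q64459 : ∀ i, i < 64459 → P i := stepQ 64458 Q64458 (allL N64458 (tt N44945 F330177) (tt N47083 F351766) (tt N80290 (iv2 F262761)) (tt N54238 F197266) (tt N34920 F197267) (tt N100808 (iv5 F430571)) (tt N34918 (iv6 D123077)) (tt N101017 D204166))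
theorem Q64460 : ∀ i, i < 64460 → P i := stepQ 64459 Q64459 (allL N64459 (tt N90233 (iv1 F389019)) (tt N34920 (iv0 D123080)) (tt N34982 F351762) (tt N35081 F351763) (tt N46964 F351764) (tt N101018 D204167) (tt N90250 (iv6 F389106)) (tt N43717 F351765))
theorem Q64461 : ∀ i, i < 64461 → P i := stepQ 64460 Q64460 (allL N64460 (tt N90181 F388810) (tt N64306 (iv0 F351776)) (tt N90178 F388791) (tt N62326 F351775) (tt N82102 (iv4 F359946)) (tt N34920 (iv5 D123082)) (tt N69812 F332288) (tt N90179 (iv7 F388795)))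
theorem Q64462 : ∀ i, i < 64462 → P i := stepQ 64461 Q64461 (allL N64461 (tt N43717 F345826) (tt N34982 F345827) (tt N90233 (iv2 F389014)) (tt N88845 (iv3 F384321)) (tt N101017 (iv4 F431287)) (tt N90179 (iv5 F388796)) (tt N46696 F366858) (tt N34920 (iv7 D123083)))
theorem Q64463 : ∀ i, i < 64463 → P i := stepQ 64462 Q64462 (allL N64462 (tt N75590 (iv1 F312007)) (tt N34921 (iv0 D123084)) (tt N35055 (iv2 F197273)) (tt N35075 F197272) (tt N34996 F197271) (tt N46595 F197270) (tt N65392 F303904) (tt N42556 (iv7 F305583)))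
theorem Q64464 : ∀ i, i < 64464 → P i := stepQ 64463 Q64463 (allL N64463 (tt N46607 F197278) (tt N62900 (iv0 F338488)) (tt N62834 F197275) (tt N34923 F197276) (tt N62841 F197277) (tt N34921 (iv5 D123085)) (tt N70059 (iv6 F338475)) (tt N62935 (iv7 F334551)))
theorem Q64465 : ∀ i, i < 64465 → P i := stepQ 64464 Q64464 (allL N64464 (tt N88515 F383357) (tt N62575 F332396) (tt N80292 (iv2 F262768)) (tt N36514 F304701) (tt N34924 F197281) (tt N101019 D204168) (tt N34922 (iv6 D123087)) (tt N36583 F304702))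
theorem Q64466 : ∀ i, i < 64466 → P i := stepQ 64465 Q64465 (allL N64465 (tt N61092 F230403) (tt N75292 (iv0 F343323)) (tt N75054 F230210) (tt N75165 (iv3 F230400)) (tt N34923 (iv4 D123088)) (tt N82525 (iv5 F281486)) (tt N81351 F334546) (tt N75369 (iv7 F334545)))
theorem Q64467 : ∀ i, i < 64467 → P i := stepQ 64466 Q64466 (allL N64466 (tt N69739 F355518) (tt N69891 (iv0 F355249)) (tt N69893 F365392) (tt N70059 F338486) (tt N81351 (iv4 F334547)) (tt N38471 F338487) (tt N34923 (iv6 D123089)) (tt N69894 (iv7 F365402)))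
theorem Q64468 : ∀ i, i < 64468 → P i := stepQ 64467 Q64467 (allL N64467 (tt N101016 F431284) (tt N101020 D204169) (tt N90234 (iv2 F389020)) (tt N77451 F306327) (tt N67794 F332394) (tt N34924 (iv5 D123092)) (tt N38471 F338474) (tt N90232 (iv7 F389011)))
theorem Q64469 : ∀ i, i < 64469 → P i := stepQ 64468 Q64468 (allL N64468 (tt N101021 D204170) (tt N101022 D204171) (tt N34929 F197282) (tt N35090 F197283) (tt N67830 (iv4 F342213)) (tt N101023 D204172) (tt N34925 (iv6 D123094)) (tt N101024 D204173))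
theorem Q64470 : ∀ i, i < 64470 → P i := stepQ 64469 Q64469 (allL N64469 (tt N34933 (iv1 F197291)) (tt N34926 (iv0 D123095)) (tt N34930 F281972) (tt N82330 F305152) (tt N38879 F319773) (tt N80609 F305153) (tt N38878 F319774) (tt N34931 F281973))
theorem Q64471 : ∀ i, i < 64471 → P i := stepQ 64470 Q64470 (allL N64470 (tt N34926 (iv1 D123096)) (tt N34933 F197284) (tt N34931 F281970) (tt N81869 (iv3 F277349)) (tt N100669 (iv4 F429931)) (tt N80608 (iv5 F357859)) (tt N90248 F389096) (tt N34930 F281971))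
theorem Q64472 : ∀ i, i < 64472 → P i := stepQ 64471 Q64471 (allL N64471 (tt N83233 (iv1 F351829)) (tt N83236 (iv0 F351828)) (tt N34932 F197285) (tt N35093 F197286) (tt N101025 D204174) (tt N34926 (iv5 D123097)) (tt N101023 (iv6 F431325)) (tt N101026 D204175))
theorem Q64473 : ∀ i, i < 64473 → P i := stepQ 64472 Q64472 (allL N64472 (tt N34931 (iv1 F197292)) (tt N34930 F197293) (tt N34933 F197287) (tt N35094 F197288) (tt N46980 F197289) (tt N101026 (iv5 F431346)) (tt N43606 F197290) (tt N34926 (iv7 D123098)))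
theorem Q64474 : ∀ i, i < 64474 → P i := stepQ 64473 Q64473 (allL N64473 (tt N97093 (iv1 F415459)) (tt N96981 (iv0 F414912)) (tt N64766 (iv2 F198287)) (tt N63531 F197295) (tt N63549 F197296) (tt N101027 D204176) (tt N34927 (iv6 D123099)) (tt N101028 D204177))
theorem Q64475 : ∀ i, i < 64475 → P i := stepQ 64474 Q64474 (allL N64474 (tt N46010 F197299) (tt N61466 (iv0 F197300)) (tt N64037 F197297) (tt N64050 F197298) (tt N34928 (iv4 D123100)) (tt N68555 (iv5 F306206)) (tt N47386 F334572) (tt N64765 (iv7 F198285)))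
theorem Q64476 : ∀ i, i < 64476 → P i := stepQ 64475 Q64475 (allL N64475 (tt N84128 (iv1 F368220)) (tt N54178 (iv0 F348705)) (tt N64763 (iv2 F198276)) (tt N62869 (iv3 F310779)) (tt N47386 F334593) (tt N48561 F304522) (tt N34928 (iv6 D123101)) (tt N84117 (iv7 F368169)))
theorem Q64477 : ∀ i, i < 64477 → P i := stepQ 64476 Q64476 (allL N64476 (tt N101024 (iv1 F431334)) (tt N34929 (iv0 D123102)) (tt N101021 F431314) (tt N73856 F431137) (tt N101029 D204178) (tt N101030 D204179) (tt N73854 (iv6 F431138)) (tt N101022 (iv7 F431318)))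
theorem Q64478 : ∀ i, i < 64478 → P i := stepQ 64477 Q64477 (allL N64477 (tt N34929 (iv1 D123103)) (tt N101024 F431333) (tt N101022 (iv2 F431321)) (tt N101031 D204180) (tt N47402 F362110) (tt N101032 D204181) (tt N47401 F362111) (tt N101021 F431315))
theorem Q64479 : ∀ i, i < 64479 → P i := stepQ 64478 Q64478 (allL N64478 (tt N83248 F357865) (tt N101033 D204182) (tt N101023 (iv2 F431323)) (tt N34935 F197301) (tt N101034 D204183) (tt N34929 (iv5 D123104)) (tt N34932 F197302) (tt N101035 D204184))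
theorem Q64480 : ∀ i, i < 64480 → P i := stepQ 64479 Q64479 (allL N64479 (tt N101022 (iv1 F431317)) (tt N101021 (iv0 F431316)) (tt N101024 (iv2 F431329)) (tt N34936 F197303) (tt N67831 (iv4 F350860)) (tt N101035 (iv5 F431390)) (tt N64770 (iv6 F198291)) (tt N34929 (iv7 D123105)))
theorem Q64481 : ∀ i, i < 64481 → P i := stepQ 64480 Q64480 (allL N64480 (tt N68408 (iv1 F357816)) (tt N47074 F315794) (tt N38879 F357821) (tt N88852 (iv3 F384345)) (tt N34930 (iv4 D123107)) (tt N101036 D204185) (tt N38867 F357822) (tt N100669 (iv7 F429930)))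
theorem Q64482 : ∀ i, i < 64482 → P i := stepQ 64481 Q64481 (allL N64481 (tt N48981 F357824) (tt N78729 F357825) (tt N80609 (iv2 F357861)) (tt N88854 (iv3 F384354)) (tt N101037 D204186) (tt N34930 (iv5 D123108)) (tt N101038 D204187) (tt N80608 F357860))
theorem Q64483 : ∀ i, i < 64483 → P i := stepQ 64482 Q64482 (allL N64482 (tt N65392 F357832) (tt N42565 F357833) (tt N82329 F357834) (tt N34931 (iv3 D123111)) (tt N77546 F243515) (tt N76087 F357835) (tt N89195 F385529) (tt N82330 F357836))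
theorem Q64484 : ∀ i, i < 64484 → P i := stepQ 64483 Q64483 (allL N64483 (tt N47074 F315795) (tt N68408 (iv0 F357820)) (tt N100669 (iv2 F429934)) (tt N47553 F197306) (tt N34931 (iv4 D123112)) (tt N101039 D204188) (tt N65418 F357871) (tt N38879 F357830))
theorem Q64485 : ∀ i, i < 64485 → P i := stepQ 64484 Q64484 (allL N64484 (tt N78729 F357862) (tt N48981 F357863) (tt N80608 F357858) (tt N76087 (iv3 F357856)) (tt N101040 D204189) (tt N34931 (iv5 D123113)) (tt N101041 D204190) (tt N80609 F357857))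
theorem Q64486 : ∀ i, i < 64486 → P i := stepQ 64485 Q64485 (allL N64485 (tt N48210 F357864) (tt N90250 F389107) (tt N90248 (iv2 F389097)) (tt N89195 F385528) (tt N65418 (iv4 F357866)) (tt N101042 D204191) (tt N34931 (iv6 D123114)) (tt N90247 F389090))
theorem Q64487 : ∀ i, i < 64487 → P i := stepQ 64486 Q64486 (allL N64486 (tt N101026 (iv1 F431349)) (tt N34932 (iv0 D123115)) (tt N83233 F344169) (tt N101043 D204192) (tt N101044 D204193) (tt N46743 F344170) (tt N101045 D204194) (tt N83236 F344171))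
theorem Q64488 : ∀ i, i < 64488 → P i := stepQ 64487 Q64487 (allL N64487 (tt N34932 (iv1 D123116)) (tt N101026 F431348) (tt N83236 F344172) (tt N54004 (iv3 F344175)) (tt N101046 D204195) (tt N46744 F344173) (tt N71132 (iv6 F344179)) (tt N83233 F344174))
theorem Q64489 : ∀ i, i < 64489 → P i := stepQ 64488 Q64488 (allL N64488 (tt N101047 D204196) (tt N89741 (iv0 F387381)) (tt N101025 (iv2 F431335)) (tt N101048 D204197) (tt N34932 (iv4 D123117)) (tt N101049 D204198) (tt N101034 (iv6 F431381)) (tt N76679 (iv7 F364653)))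
theorem Q64490 : ∀ i, i < 64490 → P i := stepQ 64489 Q64489 (allL N64489 (tt N83236 F304629) (tt N83233 F304630) (tt N101026 (iv2 F431343)) (tt N34944 F197307) (tt N76679 F364651) (tt N34933 F197308) (tt N61463 (iv6 F364652)) (tt N34932 (iv7 D123118)))
theorem Q64491 : ∀ i, i < 64491 → P i := stepQ 64490 Q64490 (allL N64490 (tt N64403 (iv1 F360535)) (tt N63907 F350264) (tt N35134 F342790) (tt N98106 (iv3 F419471)) (tt N34934 (iv4 D123121)) (tt N101050 D204199) (tt N69771 F360250) (tt N35138 F342791))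
theorem Q64492 : ∀ i, i < 64492 → P i := stepQ 64491 Q64491 (allL N64491 (tt N69722 F342792) (tt N69721 F342793) (tt N35135 F342794) (tt N98109 (iv3 F419483)) (tt N101051 D204200) (tt N34934 (iv5 D123122)) (tt N72430 F342795) (tt N35139 F342796))
theorem Q64493 : ∀ i, i < 64493 → P i := stepQ 64492 Q64492 (allL N64492 (tt N69989 (iv1 F342802)) (tt N38475 F341471) (tt N35136 F342797) (tt N98110 (iv3 F419487)) (tt N69771 (iv4 F342801)) (tt N79153 F253208) (tt N34934 (iv6 D123123)) (tt N59272 F342800))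
theorem Q64494 : ∀ i, i < 64494 → P i := stepQ 64493 Q64493 (allL N64493 (tt N35143 (iv1 F197317)) (tt N34935 (iv0 D123129)) (tt N35140 F355570) (tt N101052 D204201) (tt N101053 D204202) (tt N69901 (iv5 F357149)) (tt N53469 (iv6 F355608)) (tt N35141 F355571))
theorem Q64495 : ∀ i, i < 64495 → P i := stepQ 64494 Q64494 (allL N64494 (tt N34935 (iv1 D123130)) (tt N35143 F197311) (tt N35141 F355567) (tt N75576 F355609) (tt N101054 D204203) (tt N63955 (iv5 F197312)) (tt N95951 F410398) (tt N35140 F355568))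
theorem Q64496 : ∀ i, i < 64496 → P i := stepQ 64495 Q64495 (allL N64495 (tt N99335 F424153) (tt N73094 (iv0 F364123)) (tt N35142 F197313) (tt N101055 D204204) (tt N34935 (iv4 D123131)) (tt N96719 (iv5 F413594)) (tt N34943 F197314) (tt N101056 D204205))
theorem Q64497 : ∀ i, i < 64497 → P i := stepQ 64496 Q64496 (allL N64496 (tt N35141 (iv1 F197318)) (tt N35140 F197319) (tt N35143 F197315) (tt N101035 (iv3 F431388)) (tt N101056 (iv4 F431478)) (tt N34936 F197316) (tt N95021 (iv6 F406680)) (tt N34935 (iv7 D123132)))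
theorem Q64498 : ∀ i, i < 64498 → P i := stepQ 64497 Q64497 (allL N64497 (tt N35157 (iv1 F197320)) (tt N34937 (iv0 D123133)) (tt N35156 F305711) (tt N42565 F303633) (tt N67821 (iv4 F315811)) (tt N101057 D204206) (tt N42563 F303635) (tt N35058 F311810))
theorem Q64499 : ∀ i, i < 64499 → P i := stepQ 64498 Q64498 (allL N64498 (tt N76081 F302088) (tt N89088 F385114) (tt N69198 F366657) (tt N34938 F197326) (tt N101058 D204207) (tt N34937 (iv5 D123136)) (tt N101059 D204208) (tt N35159 F197327))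
theorem Q64500 : ∀ i, i < 64500 → P i := stepQ 64499 Q64499 (allL N64499 (tt N46753 F302067) (tt N59326 (iv0 F329126)) (tt N35153 F197334) (tt N101060 D204209) (tt N34938 (iv4 D123139)) (tt N64829 (iv5 F198380)) (tt N59951 F360049) (tt N35162 F197335))
theorem Q64501 : ∀ i, i < 64501 → P i := stepQ 64500 Q64500 (allL N64500 (tt N95217 (iv1 F407458)) (tt N95229 (iv0 F407506)) (tt N35154 F197336) (tt N101059 (iv3 F431490)) (tt N59951 (iv4 F360051)) (tt N63980 F197337) (tt N34938 (iv6 D123140)) (tt N96673 (iv7 F413394)))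
theorem Q64502 : ∀ i, i < 64502 → P i := stepQ 64501 Q64501 (allL N64501 (tt N59326 (iv1 F329127)) (tt N46753 F302065) (tt N35162 F197347) (tt N101061 D204210) (tt N34939 (iv4 D123146)) (tt N80529 F302066) (tt N101062 D204211) (tt N35153 F197348))
theorem Q64503 : ∀ i, i < 64503 → P i := stepQ 64502 Q64502 (allL N64502 (tt N101063 D204212) (tt N101064 D204213) (tt N35163 F197349) (tt N100311 (iv3 F428381)) (tt N101062 (iv4 F431498)) (tt N80507 (iv5 F268109)) (tt N34939 (iv6 D123147)) (tt N101065 D204214))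
theorem Q64504 : ∀ i, i < 64504 → P i := stepQ 64503 Q64503 (allL N64503 (tt N101057 (iv1 F431487)) (tt N101009 (iv0 F431253)) (tt N68037 (iv2 F358063)) (tt N34941 (iv3 D123148)) (tt N101066 D204215) (tt N44798 F304265) (tt N101067 D204216) (tt N35169 F197350))
theorem Q64505 : ∀ i, i < 64505 → P i := stepQ 64504 Q64504 (allL N64504 (tt N64895 (iv1 F198473)) (tt N64532 (iv0 F197507)) (tt N35167 F197351) (tt N101068 D204217) (tt N34941 (iv4 D123149)) (tt N81876 F304266) (tt N59545 F357726) (tt N35170 F197352))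
theorem Q64506 : ∀ i, i < 64506 → P i := stepQ 64505 Q64505 (allL N64505 (tt N38739 F328920) (tt N69707 F343843) (tt N35168 F197353) (tt N101067 (iv3 F431519)) (tt N59545 (iv4 F357724)) (tt N58043 F328921) (tt N34941 (iv6 D123150)) (tt N69904 F328922))
theorem Q64507 : ∀ i, i < 64507 → P i := stepQ 64506 Q64506 (allL N64506 (tt N64532 (iv1 F197508)) (tt N64895 (iv0 F198472)) (tt N35170 F197355) (tt N86078 F375376) (tt N34942 (iv4 D123152)) (tt N81875 F304274) (tt N101069 D204218) (tt N35167 F197356))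
theorem Q64508 : ∀ i, i < 64508 → P i := stepQ 64507 Q64507 (allL N64507 (tt N101070 D204219) (tt N85610 (iv0 F373203)) (tt N35171 F197357) (tt N100663 (iv3 F429902)) (tt N101069 (iv4 F431528)) (tt N79157 (iv5 F253226)) (tt N34942 (iv6 D123153)) (tt N101071 D204220))
theorem Q64509 : ∀ i, i < 64509 → P i := stepQ 64508 Q64508 (allL N64508 (tt N34943 (iv1 D123155)) (tt N35176 F197359) (tt N35173 F253271) (tt N99329 F424127) (tt N44918 F302062) (tt N94603 (iv5 F405151)) (tt N99329 (iv6 F424123)) (tt N35172 F253272))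
theorem Q64510 : ∀ i, i < 64510 → P i := stepQ 64509 Q64509 (allL N64509 (tt N101072 D204221) (tt N85311 (iv0 F468085)) (tt N101073 D204223) (tt N34943 (iv3 D123156)) (tt N101048 (iv4 F431441)) (tt N82276 F366887) (tt N101055 (iv6 F431476)) (tt N100631 (iv7 F429765)))
theorem Q64511 : ∀ i, i < 64511 → P i := stepQ 64510 Q64510 (allL N64510 (tt N40074 F363014) (tt N95022 F406689) (tt N35177 F197360) (tt N61463 F364654) (tt N96631 F413247) (tt N47872 F304631) (tt N34944 (iv6 D123157)) (tt N95021 (iv7 F406683)))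
theorem Q64512 : ∀ i, i < 64512 → P i := stepQ 64511 Q64511 (allL N64511 (tt N34945 (iv1 D123171)) (tt N35191 F197402) (tt N35190 F282671) (tt N101074 D204224) (tt N37485 (iv4 F312443)) (tt N71296 F337494) (tt N47819 F337510) (tt N34965 (iv7 F314377)))
theorem Q64513 : ∀ i, i < 64513 → P i := stepQ 64512 Q64512 (allL N64512 (tt N34965 F316731) (tt N35190 F197401) (tt N34945 (iv2 D123172)) (tt N35196 F197398) (tt N48465 F311129) (tt N101075 D204225) (tt N100004 (iv6 F427151)) (tt N35191 F197400))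
theorem Q64514 : ∀ i, i < 64514 → P i := stepQ 64513 Q64513 (allL N64513 (tt N96698 (iv1 F413513)) (tt N80593 (iv0 F342606)) (tt N101075 (iv2 F431550)) (tt N34946 F197404) (tt N82073 (iv4 F337463)) (tt N34945 (iv5 D123173)) (tt N101076 D204226) (tt N35192 F197405))
theorem Q64515 : ∀ i, i < 64515 → P i := stepQ 64514 Q64514 (allL N64514 (tt N100002 (iv1 F427138)) (tt N69581 (iv0 F361499)) (tt N100004 (iv2 F427150)) (tt N34947 F197406) (tt N48477 F197407) (tt N101077 D204227) (tt N34945 (iv6 D123174)) (tt N48168 (iv7 F304350)))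
theorem Q64516 : ∀ i, i < 64516 → P i := stepQ 64515 Q64515 (allL N64515 (tt N101078 D204228) (tt N95998 (iv0 F410563)) (tt N35200 F197410) (tt N101076 (iv3 F431557)) (tt N82279 F366921) (tt N101079 D204229) (tt N34946 (iv6 D123176)) (tt N95724 (iv7 F409320)))
theorem Q64517 : ∀ i, i < 64517 → P i := stepQ 64516 Q64516 (allL N64516 (tt N46411 F304434) (tt N48200 F304435) (tt N35202 F197411) (tt N101077 (iv3 F431559)) (tt N80511 (iv4 F268116)) (tt N34947 (iv5 D123177)) (tt N101079 (iv6 F431569)) (tt N48171 F304436))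
theorem Q64518 : ∀ i, i < 64518 → P i := stepQ 64517 Q64517 (allL N64517 (tt N100023 (iv1 F427249)) (tt N35288 F338146) (tt N48456 F197415) (tt N88619 (iv3 F383608)) (tt N43746 F197416) (tt N92218 (iv5 F396315)) (tt N34948 (iv6 D123178)) (tt N81370 (iv7 F348250)))
theorem Q64519 : ∀ i, i < 64519 → P i := stepQ 64518 Q64518 (allL N64518 (tt N35186 F309646) (tt N48465 F309647) (tt N48455 F197417) (tt N37493 F307643) (tt N43747 F197418) (tt N44525 F307644) (tt N34949 (iv6 D123179)) (tt N48476 F309648))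
theorem Q64520 : ∀ i, i < 64520 → P i := stepQ 64519 Q64519 (allL N64519 (tt N47067 F310563) (tt N36585 F310564) (tt N42719 F310565) (tt N47110 F310566) (tt N34951 (iv4 D123185)) (tt N101080 D204230) (tt N36556 F310567) (tt N47105 (iv7 F312367)))
theorem Q64521 : ∀ i, i < 64521 → P i := stepQ 64520 Q64520 (allL N64520 (tt N45728 (iv1 F197448)) (tt N45726 F197447) (tt N79220 (iv2 F299679)) (tt N101081 D204231) (tt N34952 (iv4 D123188)) (tt N82538 (iv5 F282147)) (tt N35311 F297652) (tt N47745 F197446))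
theorem Q64522 : ∀ i, i < 64522 → P i := stepQ 64521 Q64521 (allL N64521 (tt N96541 F412918) (tt N96539 (iv0 F412908)) (tt N101082 D204232) (tt N34953 (iv3 D123195)) (tt N34993 F197479) (tt N101083 D204233) (tt N46290 F197480) (tt N66052 (iv7 F326139)))
theorem Q64523 : ∀ i, i < 64523 → P i := stepQ 64522 Q64522 (allL N64522 (tt N64088 F197481) (tt N35700 F330152) (tt N78744 (iv2 F299545)) (tt N101083 (iv3 F431592)) (tt N47106 F330169) (tt N34953 (iv5 D123196)) (tt N80233 (iv6 F358958)) (tt N66057 (iv7 F326144)))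
theorem Q64524 : ∀ i, i < 64524 → P i := stepQ 64523 Q64523 (allL N64523 (tt N35334 F197485) (tt N35001 (iv0 F197486)) (tt N43645 F197483) (tt N34955 (iv3 D123198)) (tt N76014 (iv4 F235686)) (tt N75574 (iv5 F309429)) (tt N101084 D204234) (tt N43646 F197484))
theorem Q64525 : ∀ i, i < 64525 → P i := stepQ 64524 Q64524 (allL N64524 (tt N34976 F318849) (tt N52944 F318850) (tt N52961 (iv2 F306532)) (tt N101084 (iv3 F431598)) (tt N79404 (iv4 F255693)) (tt N53189 F343489) (tt N34955 (iv6 D123199)) (tt N49508 (iv7 F343488)))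
theorem Q64526 : ∀ i, i < 64526 → P i := stepQ 64525 Q64525 (allL N64525 (tt N89010 (iv1 F384802)) (tt N89468 F386601) (tt N47463 F310432) (tt N34958 F197490) (tt N101085 D204235) (tt N34957 (iv5 D123203)) (tt N100970 (iv6 F431110)) (tt N47466 (iv7 F312606)))
theorem Q64527 : ∀ i, i < 64527 → P i := stepQ 64526 Q64526 (allL N64526 (tt N47823 F301752) (tt N34958 (iv0 D123205)) (tt N47851 F301753) (tt N101086 D204236) (tt N100908 (iv4 F430918)) (tt N44935 F301754) (tt N72264 F343233) (tt N47852 F301755))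
theorem Q64528 : ∀ i, i < 64528 → P i := stepQ 64527 Q64527 (allL N64527 (tt N64883 (iv1 F198432)) (tt N64886 (iv0 F198433)) (tt N47853 F301759) (tt N101087 D204237) (tt N34958 (iv4 D123206)) (tt N101088 D204238) (tt N100974 (iv6 F431125)) (tt N47855 F301760))
theorem Q64529 : ∀ i, i < 64529 → P i := stepQ 64528 Q64528 (allL N64528 (tt N35013 F268332) (tt N49496 F301613) (tt N35357 F197495) (tt N43653 F197496) (tt N77141 (iv4 F304378)) (tt N101089 D204239) (tt N34959 (iv6 D123208)) (tt N49494 F301614))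
theorem Q64530 : ∀ i, i < 64530 → P i := stepQ 64529 Q64529 (allL N64529 (tt N53086 (iv1 F197499)) (tt N34960 (iv0 D123209)) (tt N53084 F197501) (tt N35366 F197497) (tt N54274 F197498) (tt N53713 F310661) (tt N47837 F310662) (tt N35395 (iv7 F197500)))
theorem Q64531 : ∀ i, i < 64531 → P i := stepQ 64530 Q64530 (allL N64530 (tt N34960 (iv1 D123210)) (tt N53086 F197502) (tt N35395 (iv2 F197504)) (tt N70503 (iv3 F354632)) (tt N70512 (iv4 F319768)) (tt N53712 (iv5 F338897)) (tt N101090 D204240) (tt N53084 F197503))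
theorem Q64532 : ∀ i, i < 64532 → P i := stepQ 64531 Q64531 (allL N64531 (tt N81874 F366783) (tt N88867 F384391) (tt N53085 F197505) (tt N34961 F197506) (tt N101091 D204241) (tt N34960 (iv5 D123211)) (tt N89692 F387231) (tt N82296 F301729))
theorem Q64533 : ∀ i, i < 64533 → P i := stepQ 64532 Q64532 (allL N64532 (tt N64504 F197507) (tt N64506 F197508) (tt N64848 F198401) (tt N101092 D204242) (tt N34961 (iv4 D123212)) (tt N65363 F301733) (tt N100977 (iv6 F431139)) (tt N64847 F198399))
theorem Q64534 : ∀ i, i < 64534 → P i := stepQ 64533 Q64533 (allL N64533 (tt N43821 F337506) (tt N43627 F337507) (tt N43652 F197509) (tt N34963 F197510) (tt N64663 (iv4 F198017)) (tt N84728 (iv5 F370379)) (tt N34962 (iv6 D123213)) (tt N43820 F324405))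
theorem Q64535 : ∀ i, i < 64535 → P i := stepQ 64534 Q64534 (allL N64534 (tt N47819 F337501) (tt N34963 (iv0 D123214)) (tt N35206 F337502) (tt N42522 F337503) (tt N100023 (iv4 F427246)) (tt N100278 (iv5 F428223)) (tt N100026 (iv6 F427266)) (tt N42519 F337504))
theorem Q64536 : ∀ i, i < 64536 → P i := stepQ 64535 Q64535 (allL N64535 (tt N101093 D204243) (tt N76497 F364120) (tt N77548 (iv2 F243543)) (tt N84728 (iv3 F370377)) (tt N101094 D204244) (tt N34963 (iv5 D123216)) (tt N64175 F197511) (tt N101095 D204245))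
theorem Q64537 : ∀ i, i < 64537 → P i := stepQ 64536 Q64536 (allL N64536 (tt N42519 F317084) (tt N35206 F317085) (tt N47819 F337508) (tt N43820 F317086) (tt N74934 (iv4 F308174)) (tt N101095 (iv5 F431650)) (tt N35190 F316781) (tt N34963 (iv7 D123217)))
theorem Q64538 : ∀ i, i < 64538 → P i := stepQ 64537 Q64537 (allL N64537 (tt N46987 F313365) (tt N46991 F313366) (tt N80941 (iv2 F272552)) (tt N34965 F197512) (tt N64062 F197513) (tt N89739 (iv5 F387377)) (tt N34964 (iv6 D123218)) (tt N101074 (iv7 F431547)))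
theorem Q64539 : ∀ i, i < 64539 → P i := stepQ 64538 Q64538 (allL N64538 (tt N71288 (iv1 F342612)) (tt N71301 F342619) (tt N71297 (iv2 F309896)) (tt N89739 F387378) (tt N101096 D204246) (tt N34965 (iv5 D123221)) (tt N78966 (iv6 F251589)) (tt N71296 (iv7 F337496)))
theorem Q64540 : ∀ i, i < 64540 → P i := stepQ 64539 Q64539 (allL N64539 (tt N34971 (iv1 F197518)) (tt N34966 (iv0 D123223)) (tt N34968 F342346) (tt N78749 F342344) (tt N69582 (iv4 F306275)) (tt N101097 D204247) (tt N69581 (iv6 F361498)) (tt N34969 F342347))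
theorem Q64541 : ∀ i, i < 64541 → P i := stepQ 64540 Q64540 (allL N64540 (tt N34966 (iv1 D123224)) (tt N34971 F197515) (tt N34969 F356175) (tt N81208 (iv3 F356165)) (tt N63860 (iv4 F307855)) (tt N101098 D204248) (tt N72064 F356168) (tt N34968 F356176))
theorem Q64542 : ∀ i, i < 64542 → P i := stepQ 64541 Q64541 (allL N64541 (tt N94161 (iv1 F403484)) (tt N80590 (iv0 F351963)) (tt N34970 F197516) (tt N76093 F361448) (tt N99539 (iv4 F425044)) (tt N34966 (iv5 D123225)) (tt N78099 (iv6 F329208)) (tt N99423 (iv7 F424507)))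
theorem Q64543 : ∀ i, i < 64543 → P i := stepQ 64542 Q64542 (allL N64542 (tt N34969 (iv1 F197519)) (tt N34968 F197520) (tt N34971 F197517) (tt N92606 (iv3 F397610)) (tt N64065 (iv4 F307146)) (tt N99423 (iv5 F424506)) (tt N74532 F363380) (tt N34966 (iv7 D123226)))
theorem Q64544 : ∀ i, i < 64544 → P i := stepQ 64543 Q64543 (allL N64543 (tt N79074 (iv1 F252178)) (tt N34967 (iv0 D123227)) (tt N47425 F336371) (tt N78923 F336372) (tt N42360 F336373) (tt N72242 (iv5 F352977)) (tt N101099 D204249) (tt N78943 F336374))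
theorem Q64545 : ∀ i, i < 64545 → P i := stepQ 64544 Q64544 (allL N64544 (tt N34967 (iv1 D123228)) (tt N79074 F252177) (tt N78943 F347612) (tt N47427 F332645) (tt N43041 F332263) (tt N72243 (iv5 F352974)) (tt N101100 D204250) (tt N47425 F332646))
theorem Q64546 : ∀ i, i < 64546 → P i := stepQ 64545 Q64545 (allL N64545 (tt N78943 (iv1 F347609)) (tt N47425 F336791) (tt N79074 (iv2 F252173)) (tt N34975 F197523) (tt N64211 F197524) (tt N39863 F329496) (tt N69926 (iv6 F329096)) (tt N34967 (iv7 D123230)))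
theorem Q64547 : ∀ i, i < 64547 → P i := stepQ 64546 Q64546 (allL N64546 (tt N79494 F318021) (tt N35341 F235761) (tt N101101 D204251) (tt N34968 (iv3 D123232)) (tt N47056 F318022) (tt N101102 D204252) (tt N101103 D204253) (tt N81208 F356177))
theorem Q64548 : ∀ i, i < 64548 → P i := stepQ 64547 Q64547 (allL N64547 (tt N76019 F235760) (tt N43092 F238694) (tt N69582 F307788) (tt N63433 F307789) (tt N34968 (iv4 D123233)) (tt N45230 F307790) (tt N43107 F307791) (tt N63860 F307792))
theorem Q64549 : ∀ i, i < 64549 → P i := stepQ 64548 Q64548 (allL N64548 (tt N57476 F361506) (tt N89377 (iv0 F386278)) (tt N101097 (iv2 F431657)) (tt N101102 (iv3 F431681)) (tt N90985 F391475) (tt N34968 (iv5 D123234)) (tt N101104 D204254) (tt N101098 (iv7 F431663)))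
theorem Q64550 : ∀ i, i < 64550 → P i := stepQ 64549 Q64549 (allL N64549 (tt N100004 (iv1 F427146)) (tt N48168 F361500) (tt N69581 F361501) (tt N101103 (iv3 F431688)) (tt N43107 F361502) (tt N100841 (iv5 F430717)) (tt N34968 (iv6 D123235)) (tt N100002 (iv7 F427135)))
theorem Q64551 : ∀ i, i < 64551 → P i := stepQ 64550 Q64550 (allL N64550 (tt N46963 F333751) (tt N52952 F345806) (tt N80946 (iv2 F272612)) (tt N34969 (iv3 D123237)) (tt N78327 (iv4 F315010)) (tt N89426 (iv5 F386456)) (tt N101105 D204255) (tt N78749 (iv7 F342345)))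
theorem Q64552 : ∀ i, i < 64552 → P i := stepQ 64551 Q64551 (allL N64551 (tt N89377 (iv1 F386279)) (tt N57476 (iv0 F348234)) (tt N101098 (iv2 F431662)) (tt N89426 F386457) (tt N91057 F391793) (tt N34969 (iv5 D123239)) (tt N73240 F424510) (tt N101097 (iv7 F431658)))
theorem Q64553 : ∀ i, i < 64553 → P i := stepQ 64552 Q64552 (allL N64552 (tt N35246 F348232) (tt N100026 F427267) (tt N72064 F341196) (tt N101105 (iv3 F431691)) (tt N40038 F316528) (tt N71304 F339089) (tt N34969 (iv6 D123240)) (tt N41015 F316529))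
theorem Q64554 : ∀ i, i < 64554 → P i := stepQ 64553 Q64553 (allL N64553 (tt N99423 (iv1 F424508)) (tt N34970 (iv0 D123241)) (tt N94161 (iv2 F403480)) (tt N101106 D204256) (tt N101107 D204257) (tt N80591 F364468) (tt N40098 F364749) (tt N80590 (iv7 F364469)))
theorem Q64555 : ∀ i, i < 64555 → P i := stepQ 64554 Q64554 (allL N64554 (tt N34970 (iv1 D123242)) (tt N99423 F424509) (tt N80590 (iv2 F366686)) (tt N88516 (iv3 F383359)) (tt N101108 D204258) (tt N64295 F366685) (tt N88380 (iv6 F382820)) (tt N94161 (iv7 F403482)))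
theorem Q64556 : ∀ i, i < 64556 → P i := stepQ 64555 Q64555 (allL N64555 (tt N101109 D204259) (tt N89120 (iv0 F385235)) (tt N99539 (iv2 F425042)) (tt N39143 F328878) (tt N34970 (iv4 D123243)) (tt N40600 F361542) (tt N39269 F328879) (tt N39563 F328880))
theorem Q64557 : ∀ i, i < 64557 → P i := stepQ 64556 Q64556 (allL N64556 (tt N58644 F353324) (tt N87752 (iv0 F380374)) (tt N40981 F321935) (tt N34973 F197530) (tt N59761 F321936) (tt N95446 (iv5 F408213)) (tt N34972 (iv6 D123245)) (tt N91002 (iv7 F391531)))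
theorem Q64558 : ∀ i, i < 64558 → P i := stepQ 64557 Q64557 (allL N64557 (tt N99881 F426668) (tt N101110 D204260) (tt N64383 F197532) (tt N95446 F408216) (tt N101111 D204261) (tt N34973 (iv5 D123248)) (tt N35257 F303338) (tt N101112 D204262))
theorem Q64559 : ∀ i, i < 64559 → P i := stepQ 64558 Q64558 (allL N64558 (tt N64382 (iv1 F197538)) (tt N64381 F197539) (tt N40984 F324900) (tt N91002 F391533) (tt N64377 F197535) (tt N101112 (iv5 F431734)) (tt N64377 F197536) (tt N34973 (iv7 D123249)))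
theorem Q64560 : ∀ i, i < 64560 → P i := stepQ 64559 Q64559 (allL N64559 (tt N64377 (iv1 F197546)) (tt N34974 (iv0 D123250)) (tt N64375 (iv2 F355552)) (tt N98187 (iv3 F419896)) (tt N63950 F355551) (tt N101113 D204263) (tt N69949 (iv6 F374110)) (tt N64376 (iv7 F355553)))
theorem Q64561 : ∀ i, i < 64561 → P i := stepQ 64560 Q64560 (allL N64560 (tt N34974 (iv1 D123251)) (tt N64377 F197540) (tt N64376 (iv2 F355554)) (tt N99854 (iv3 F426554)) (tt N63951 (iv4 F357683)) (tt N72965 (iv5 F341409)) (tt N54733 (iv6 F341410)) (tt N64375 F355555))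
theorem Q64562 : ∀ i, i < 64562 → P i := stepQ 64561 Q64561 (allL N64561 (tt N38685 F341413) (tt N38826 F341414) (tt N38825 F350734) (tt N79103 (iv3 F252601)) (tt N94565 (iv4 F404987)) (tt N34974 (iv5 D123252)) (tt N35469 F303354) (tt N38824 F350735))
theorem Q64563 : ∀ i, i < 64563 → P i := stepQ 64562 Q64562 (allL N64562 (tt N64376 (iv1 F197547)) (tt N64375 F197548) (tt N64377 F197543) (tt N40983 F321947) (tt N40984 (iv4 F323601)) (tt N38824 F360238) (tt N40984 (iv6 F323602)) (tt N34974 (iv7 D123253)))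
theorem Q64564 : ∀ i, i < 64564 → P i := stepQ 64563 Q64563 (allL N64563 (tt N49508 (iv1 F343474)) (tt N52961 (iv0 F311767)) (tt N34976 (iv2 D123270)) (tt N43696 F197554) (tt N47483 F309563) (tt N89000 (iv5 F384749)) (tt N53129 (iv6 F343475)) (tt N52944 (iv7 F308416)))
theorem Q64565 : ∀ i, i < 64565 → P i := stepQ 64564 Q64564 (allL N64564 (tt N53131 F355385) (tt N49467 (iv0 F337573)) (tt N53129 F343476) (tt N34978 F197556) (tt N46423 (iv4 F305422)) (tt N52892 (iv5 F343483)) (tt N34976 (iv6 D123272)) (tt N48199 F304438))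
theorem Q64566 : ∀ i, i < 64566 → P i := stepQ 64565 Q64565 (allL N64565 (tt N73292 F332935) (tt N73227 F332936) (tt N70458 F332937) (tt N85342 (iv3 F372303)) (tt N38502 F332938) (tt N99396 (iv5 F424399)) (tt N34977 (iv6 D123275)) (tt N72440 F332939))
theorem Q64567 : ∀ i, i < 64567 → P i := stepQ 64566 Q64566 (allL N64566 (tt N34979 (iv1 D123276)) (tt N43696 F197562) (tt N43698 (iv2 F197560)) (tt N79494 F334412) (tt N101114 D204264) (tt N76200 F334423) (tt N49494 (iv6 F334422)) (tt N43694 F197559))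
theorem Q64568 : ∀ i, i < 64568 → P i := stepQ 64567 Q64567 (allL N64567 (tt N43694 (iv1 F197565)) (tt N43698 F197564) (tt N34979 (iv2 D123277)) (tt N52944 (iv3 F308415)) (tt N52942 (iv4 F351771)) (tt N89435 (iv5 F386506)) (tt N52942 (iv6 F351788)) (tt N43696 F197563))
theorem Q64569 : ∀ i, i < 64569 → P i := stepQ 64568 Q64568 (allL N64568 (tt N47834 F351777) (tt N53083 F351778) (tt N52942 F351772) (tt N34981 F301969) (tt N34979 (iv4 D123278)) (tt N101115 D204265) (tt N34979 F301970) (tt N35252 F197567))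
theorem Q64570 : ∀ i, i < 64570 → P i := stepQ 64569 Q64569 (allL N64569 (tt N73197 F342371) (tt N88994 (iv0 F384715)) (tt N89435 (iv2 F386505)) (tt N34980 F197568) (tt N59889 F342368) (tt N34979 (iv5 D123279)) (tt N62570 (iv6 F342367)) (tt N95612 (iv7 F408884)))
theorem Q64571 : ∀ i, i < 64571 → P i := stepQ 64570 Q64570 (allL N64570 (tt N70992 (iv1 F325436)) (tt N44923 (iv0 F303340)) (tt N35255 (iv2 F304332)) (tt N101115 (iv3 F431752)) (tt N101116 D204266) (tt N34981 (iv5 D123285)) (tt N62571 F332953) (tt N35253 (iv7 F304328)))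
theorem Q64572 : ∀ i, i < 64572 → P i := stepQ 64571 Q64571 (allL N64571 (tt N100845 (iv1 F430738)) (tt N100846 (iv0 F430744)) (tt N101018 (iv2 F431292)) (tt N34983 F197592) (tt N101117 D204267) (tt N34982 (iv5 D123303)) (tt N101118 D204268) (tt N101001 (iv7 F431207)))
theorem Q64573 : ∀ i, i < 64573 → P i := stepQ 64572 Q64572 (allL N64572 (tt N90248 (iv1 F389093)) (tt N90247 (iv0 F389091)) (tt N90250 (iv2 F389102)) (tt N34984 F197593) (tt N47128 F197594) (tt N100590 (iv5 F429589)) (tt N34982 (iv6 D123304)) (tt N48210 F304676))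
theorem Q64574 : ∀ i, i < 64574 → P i := stepQ 64573 Q64573 (allL N64573 (tt N59015 (iv1 F363089)) (tt N89378 (iv0 F386284)) (tt N47771 F197599) (tt N92673 (iv3 F397839)) (tt N34983 (iv4 D123306)) (tt N59589 F363088) (tt N95898 (iv6 F410148)) (tt N59055 (iv7 F363087)))
theorem Q64575 : ∀ i, i < 64575 → P i := stepQ 64574 Q64574 (allL N64574 (tt N78172 F342828) (tt N40573 F342829) (tt N47772 F197600) (tt N101118 (iv3 F431766)) (tt N95898 (iv4 F410151)) (tt N72519 F342830) (tt N34983 (iv6 D123307)) (tt N96245 (iv7 F411719)))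
theorem Q64576 : ∀ i, i < 64576 → P i := stepQ 64575 Q64575 (allL N64575 (tt N34987 (iv1 F197604)) (tt N34985 (iv0 D123309)) (tt N47774 F197606) (tt N101119 D204269) (tt N45619 F197603) (tt N57984 (iv5 F341296)) (tt N73210 (iv6 F325837)) (tt N47775 (iv7 F197605)))
theorem Q64577 : ∀ i, i < 64577 → P i := stepQ 64576 Q64576 (allL N64576 (tt N34985 (iv1 D123310)) (tt N34987 F197607) (tt N47775 (iv2 F197610)) (tt N101120 D204270) (tt N45618 F197609) (tt N57985 (iv5 F341294)) (tt N78442 F299234) (tt N47774 F197608))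
theorem Q64578 : ∀ i, i < 64578 → P i := stepQ 64577 Q64577 (allL N64577 (tt N47124 F346344) (tt N47154 F346345) (tt N101121 D204271) (tt N34985 (iv3 D123311)) (tt N47134 F197611) (tt N47136 F346346) (tt N47882 F304612) (tt N96556 (iv7 F412972)))
theorem Q64579 : ∀ i, i < 64579 → P i := stepQ 64578 Q64578 (allL N64578 (tt N89378 (iv1 F386285)) (tt N59015 F332921) (tt N59055 F332922) (tt N35890 F332923) (tt N34986 (iv4 D123314)) (tt N35888 F332924) (tt N36172 F332925) (tt N47771 F197615))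
theorem Q64580 : ∀ i, i < 64580 → P i := stepQ 64579 Q64579 (allL N64579 (tt N73209 (iv1 F351531)) (tt N73210 (iv0 F325834)) (tt N35265 F302632) (tt N59474 (iv3 F353076)) (tt N34989 (iv4 D123323)) (tt N101122 D204272) (tt N48316 F302633) (tt N35261 (iv7 F303752)))
theorem Q64581 : ∀ i, i < 64581 → P i := stepQ 64580 Q64580 (allL N64580 (tt N101123 D204273) (tt N101124 D204274) (tt N80993 (iv2 F351054)) (tt N34990 (iv3 D123325)) (tt N47140 F197638) (tt N80779 F351063) (tt N64608 (iv6 F197886)) (tt N64311 (iv7 F353302)))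
theorem Q64582 : ∀ i, i < 64582 → P i := stepQ 64581 Q64581 (allL N64581 (tt N101125 D204275) (tt N59380 (iv0 F402070)) (tt N59523 F360127) (tt N34992 (iv3 D123332)) (tt N57162 F351073) (tt N57979 (iv5 F351074)) (tt N48395 F299238) (tt N96178 (iv7 F411358)))
theorem Q64583 : ∀ i, i < 64583 → P i := stepQ 64582 Q64582 (allL N64582 (tt N101126 D204276) (tt N34993 (iv0 D123335)) (tt N97595 (iv2 F417523)) (tt N101127 D204277) (tt N97587 F417481) (tt N101128 D204278) (tt N101129 D204279) (tt N97593 (iv7 F417514)))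
theorem Q64584 : ∀ i, i < 64584 → P i := stepQ 64583 Q64583 (allL N64583 (tt N34993 (iv1 D123336)) (tt N101126 F431814) (tt N97593 (iv2 F417513)) (tt N59584 F413313) (tt N97586 (iv4 F417477)) (tt N72908 F413314) (tt N80562 F413315) (tt N97595 (iv7 F417525)))
theorem Q64585 : ∀ i, i < 64585 → P i := stepQ 64584 Q64584 (allL N64584 (tt N97595 F417527) (tt N97593 F417516) (tt N34993 (iv2 D123337)) (tt N79291 F364318) (tt N101082 (iv4 F431585)) (tt N101130 D204280) (tt N63877 F197649) (tt N101126 (iv7 F431815)))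
theorem Q64586 : ∀ i, i < 64586 → P i := stepQ 64585 Q64585 (allL N64585 (tt N101131 D204281) (tt N80974 (iv0 F362035)) (tt N101130 (iv2 F431833)) (tt N34994 F197650) (tt N65672 F362846) (tt N34993 (iv5 D123338)) (tt N59614 F362844) (tt N59367 (iv7 F362845)))
theorem Q64587 : ∀ i, i < 64587 → P i := stepQ 64586 Q64586 (allL N64586 (tt N97593 F417515) (tt N97595 (iv0 F417526)) (tt N101126 F431813) (tt N34995 F197651) (tt N66052 (iv4 F326138)) (tt N59367 F362847) (tt N58721 (iv6 F365963)) (tt N34993 (iv7 D123339)))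
theorem Q64588 : ∀ i, i < 64588 → P i := stepQ 64587 Q64587 (allL N64587 (tt N35001 (iv1 D123377)) (tt N35334 F197745) (tt N43646 F197749) (tt N46762 (iv3 F197748)) (tt N52178 F197747) (tt N75575 (iv5 F305370)) (tt N52963 F345815) (tt N43645 F197746))
theorem Q64589 : ∀ i, i < 64589 → P i := stepQ 64588 Q64588 (allL N64588 (tt N76043 F306459) (tt N82241 F306460) (tt N43905 F197752) (tt N37521 F312064) (tt N35003 F197753) (tt N42350 F301922) (tt N35002 (iv6 D123379)) (tt N69638 F312065))
theorem Q64590 : ∀ i, i < 64590 → P i := stepQ 64589 Q64589 (allL N64589 (tt N71298 (iv1 F314223)) (tt N44920 F306464) (tt N71327 (iv2 F318990)) (tt N68393 F366496) (tt N92286 (iv4 F396576)) (tt N35003 (iv5 D123382)) (tt N100998 (iv6 F431195)) (tt N71328 (iv7 F318996)))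
theorem Q64591 : ∀ i, i < 64591 → P i := stepQ 64590 Q64590 (allL N64590 (tt N101086 F431610) (tt N94468 (iv0 F404595)) (tt N42543 F306467) (tt N43648 F197754) (tt N101132 D204282) (tt N35004 (iv5 D123385)) (tt N100365 (iv6 F428618)) (tt N42545 F306468))
theorem Q64592 : ∀ i, i < 64592 → P i := stepQ 64591 Q64591 (allL N64591 (tt N67969 F337783) (tt N69960 (iv0 F337787)) (tt N35009 F197759) (tt N43043 F197760) (tt N87701 (iv4 F380183)) (tt N39724 F337784) (tt N35005 (iv6 D123387)) (tt N69957 (iv7 F337786)))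
theorem Q64593 : ∀ i, i < 64593 → P i := stepQ 64592 Q64592 (allL N64592 (tt N92608 (iv1 F397628)) (tt N92607 F397618) (tt N35011 F197762) (tt N101002 (iv3 F431213)) (tt N67605 (iv4 F337864)) (tt N35006 (iv5 D123390)) (tt N39724 F337785) (tt N92605 (iv7 F397606)))
theorem Q64594 : ∀ i, i < 64594 → P i := stepQ 64593 Q64593 (allL N64593 (tt N75574 (iv1 F309427)) (tt N75575 (iv0 F305367)) (tt N43659 F197773) (tt N35007 (iv3 D123392)) (tt N51991 F197774) (tt N53551 (iv5 F297900)) (tt N56064 F347735) (tt N64420 F197776))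
theorem Q64595 : ∀ i, i < 64595 → P i := stepQ 64594 Q64594 (allL N64594 (tt N46611 F352575) (tt N70076 (iv0 F335198)) (tt N87701 (iv2 F380181)) (tt N64641 (iv3 F197963)) (tt N35009 F197780) (tt N101133 D204283) (tt N35008 (iv6 D123395)) (tt N88194 (iv7 F382117)))
theorem Q64596 : ∀ i, i < 64596 → P i := stepQ 64595 Q64595 (allL N64595 (tt N69960 (iv1 F333876)) (tt N67969 (iv0 F342776)) (tt N69957 F328724) (tt N35012 F197783) (tt N88194 (iv4 F382118)) (tt N37345 F328725) (tt N72256 (iv6 F361436)) (tt N35009 (iv7 D123399)))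
theorem Q64597 : ∀ i, i < 64597 → P i := stepQ 64596 Q64596 (allL N64596 (tt N92605 (iv1 F397608)) (tt N35011 (iv0 D123407)) (tt N92608 F397633) (tt N101134 D204284) (tt N79915 (iv4 F374896)) (tt N101135 D204285) (tt N101136 D204286) (tt N92607 F397620))
theorem Q64598 : ∀ i, i < 64598 → P i := stepQ 64597 Q64597 (allL N64597 (tt N35011 (iv1 D123408)) (tt N92605 (iv0 F397607)) (tt N92607 F397619) (tt N43668 F242347) (tt N79916 (iv4 F338555)) (tt N63132 F306411) (tt N71407 F364102) (tt N92608 (iv7 F397629)))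
theorem Q64599 : ∀ i, i < 64599 → P i := stepQ 64598 Q64598 (allL N64598 (tt N82974 F301616) (tt N88897 (iv0 F384469)) (tt N49495 F301617) (tt N35014 F197802) (tt N50938 (iv4 F332656)) (tt N35013 (iv5 D123428)) (tt N49492 F301618) (tt N38798 F327344))
theorem Q64600 : ∀ i, i < 64600 → P i := stepQ 64599 Q64599 (allL N64599 (tt N35015 (iv1 F197811)) (tt N35014 (iv0 D123431)) (tt N38776 F325789) (tt N71961 F356299) (tt N38673 F325790) (tt N46668 F197810) (tt N66488 F331025) (tt N38774 (iv7 F326601)))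
theorem Q64601 : ∀ i, i < 64601 → P i := stepQ 64600 Q64600 (allL N64600 (tt N82971 F363725) (tt N101089 (iv0 F431624)) (tt N97937 (iv2 F418864)) (tt N35016 (iv3 D123443)) (tt N50941 (iv4 F363726)) (tt N101137 D204287) (tt N101138 D204288) (tt N101006 (iv7 F431232)))
theorem Q64602 : ∀ i, i < 64602 → P i := stepQ 64601 Q64601 (allL N64601 (tt N64682 (iv1 F198049)) (tt N37653 (iv0 F329060)) (tt N64679 F198043) (tt N93011 (iv3 F399110)) (tt N35016 (iv4 D123444)) (tt N101139 D204289) (tt N94495 (iv6 F404714)) (tt N64680 F198042))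
theorem Q64603 : ∀ i, i < 64603 → P i := stepQ 64602 Q64602 (allL N64602 (tt N63989 (iv1 F197825)) (tt N45358 F197823) (tt N64025 F303762) (tt N101137 (iv3 F431871)) (tt N52810 F303763) (tt N35016 (iv5 D123445)) (tt N47859 F303764) (tt N52808 F303765))
theorem Q64604 : ∀ i, i < 64604 → P i := stepQ 64603 Q64603 (allL N64603 (tt N52920 F306407) (tt N69409 (iv0 F341432)) (tt N101005 (iv2 F431221)) (tt N101138 (iv3 F431878)) (tt N94495 (iv4 F404712)) (tt N47860 F306408) (tt N35016 (iv6 D123446)) (tt N101140 D204290))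
theorem Q64605 : ∀ i, i < 64605 → P i := stepQ 64604 Q64604 (allL N64604 (tt N49509 (iv1 F343479)) (tt N49507 (iv0 F343478)) (tt N52956 (iv2 F366871)) (tt N35017 (iv3 D123447)) (tt N97701 (iv4 F417965)) (tt N53544 F304693) (tt N101141 D204291) (tt N52957 (iv7 F366872)))
theorem Q64606 : ∀ i, i < 64606 → P i := stepQ 64605 Q64605 (allL N64605 (tt N37653 (iv1 F329061)) (tt N64682 F198048) (tt N64680 F198041) (tt N37665 F328731) (tt N35017 (iv4 D123448)) (tt N70224 F328732) (tt N67224 F328733) (tt N64679 (iv7 F198045)))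
theorem Q64607 : ∀ i, i < 64607 → P i := stepQ 64606 Q64606 (allL N64606 (tt N37332 F328734) (tt N70252 F328735) (tt N70251 F328736) (tt N101141 (iv3 F431898)) (tt N67224 F328737) (tt N64325 F304694) (tt N35017 (iv6 D123449)) (tt N70250 F328738))
theorem Q64608 : ∀ i, i < 64608 → P i := stepQ 64607 Q64607 (allL N64607 (tt N90235 (iv1 F389025)) (tt N71494 (iv0 F346167)) (tt N90236 (iv2 F389029)) (tt N35020 F197880) (tt N66109 F328118) (tt N35019 (iv5 D123472)) (tt N38671 F328119) (tt N46697 F304189))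
theorem Q64609 : ∀ i, i < 64609 → P i := stepQ 64608 Q64608 (allL N64608 (tt N101142 D204292) (tt N101143 D204293) (tt N101144 D204294) (tt N35021 (iv3 D123476)) (tt N47238 F197885) (tt N72220 (iv5 F363365)) (tt N64580 F197886) (tt N46703 F304209))
theorem Q64610 : ∀ i, i < 64610 → P i := stepQ 64609 Q64609 (allL N64609 (tt N72843 (iv1 F341284)) (tt N80553 (iv0 F304201)) (tt N72306 (iv2 F344437)) (tt N77524 (iv3 F344438)) (tt N57820 (iv4 F344439)) (tt N35022 (iv5 D123479)) (tt N57819 F344436) (tt N47912 F197891))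
theorem Q64611 : ∀ i, i < 64611 → P i := stepQ 64610 Q64610 (allL N64610 (tt N58702 (iv1 F325632)) (tt N58680 F365966) (tt N48317 F297662) (tt N59322 F353074) (tt N35023 F197892) (tt N95708 (iv5 F409235)) (tt N35022 (iv6 D123480)) (tt N48316 F297663))
theorem Q64612 : ∀ i, i < 64612 → P i := stepQ 64611 Q64611 (allL N64611 (tt N101145 D204295) (tt N101146 D204296) (tt N94968 (iv2 F406534)) (tt N35024 (iv3 D123482)) (tt N47242 F197896) (tt N101147 D204297) (tt N101148 D204298) (tt N101007 (iv7 F431238)))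
theorem Q64613 : ∀ i, i < 64613 → P i := stepQ 64612 Q64612 (allL N64612 (tt N80553 (iv1 F304202)) (tt N72843 (iv0 F341283)) (tt N47912 F197897) (tt N101147 (iv3 F431927)) (tt N56754 (iv4 F344440)) (tt N35024 (iv5 D123483)) (tt N56753 F344434) (tt N72306 F344442))
theorem Q64614 : ∀ i, i < 64614 → P i := stepQ 64613 Q64613 (allL N64613 (tt N73210 (iv1 F325835)) (tt N73209 F351533) (tt N35261 (iv2 F303750)) (tt N101148 (iv3 F431931)) (tt N35025 F197899) (tt N101149 D204299) (tt N35024 (iv6 D123484)) (tt N35265 F302628))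
theorem Q64615 : ∀ i, i < 64615 → P i := stepQ 64614 Q64614 (allL N64614 (tt N101150 D204300) (tt N101151 D204301) (tt N58119 F345337) (tt N35026 (iv3 D123485)) (tt N47885 F197905) (tt N101152 D204302) (tt N95694 (iv6 F409168)) (tt N96180 (iv7 F411365)))
theorem Q64616 : ∀ i, i < 64616 → P i := stepQ 64615 Q64615 (allL N64615 (tt N62567 (iv1 F341365)) (tt N65408 F303754) (tt N72300 (iv2 F344452)) (tt N101152 (iv3 F431957)) (tt N70224 F344449) (tt N35026 (iv5 D123487)) (tt N57816 (iv6 F344450)) (tt N62356 (iv7 F344458)))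
theorem Q64617 : ∀ i, i < 64617 → P i := stepQ 64616 Q64616 (allL N64616 (tt N65408 F303767) (tt N62567 (iv0 F341364)) (tt N62356 (iv2 F344456)) (tt N58118 (iv3 F345431)) (tt N101139 (iv4 F431886)) (tt N35027 (iv5 D123490)) (tt N56748 F362634) (tt N72300 (iv7 F344454)))
theorem Q64618 : ∀ i, i < 64618 → P i := stepQ 64617 Q64617 (allL N64617 (tt N101153 D204303) (tt N35028 (iv0 D123492)) (tt N89602 (iv2 F386924)) (tt N72911 (iv3 F431977)) (tt N101154 D204305) (tt N89029 F384876) (tt N101155 D204306) (tt N101156 D204307))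
theorem Q64619 : ∀ i, i < 64619 → P i := stepQ 64618 Q64618 (allL N64618 (tt N35028 (iv1 D123493)) (tt N101153 F431968) (tt N101156 (iv2 F431979)) (tt N101157 D204308) (tt N100336 (iv4 F428469)) (tt N89603 (iv5 F386933)) (tt N101158 D204309) (tt N89602 F386930))
theorem Q64620 : ∀ i, i < 64620 → P i := stepQ 64619 Q64619 (allL N64619 (tt N89602 (iv1 F386927)) (tt N101156 F431980) (tt N35028 (iv2 D123494)) (tt N101008 (iv3 F431239)) (tt N48257 F304441) (tt N101159 D204310) (tt N63886 F197909) (tt N101153 (iv7 F431967)))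
theorem Q64621 : ∀ i, i < 64621 → P i := stepQ 64620 Q64620 (allL N64620 (tt N72863 F350369) (tt N101160 D204311) (tt N101159 (iv2 F431990)) (tt N35029 F197910) (tt N72523 (iv4 F363315)) (tt N35028 (iv5 D123495)) (tt N86261 F384866) (tt N57808 F363314))
theorem Q64622 : ∀ i, i < 64622 → P i := stepQ 64621 Q64621 (allL N64621 (tt N101156 (iv1 F431981)) (tt N89602 (iv0 F386926)) (tt N101153 F431963) (tt N35030 F197911) (tt N35502 F304199) (tt N57808 (iv5 F363313)) (tt N96783 (iv6 F413915)) (tt N35028 (iv7 D123496)))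
theorem Q64623 : ∀ i, i < 64623 → P i := stepQ 64622 Q64622 (allL N64622 (tt N35037 (iv1 F197923)) (tt N35033 (iv0 D123504)) (tt N52178 (iv2 F197922)) (tt N47375 (iv3 F197924)) (tt N43646 F197921) (tt N63397 F197920) (tt N52964 F359373) (tt N76014 (iv7 F235688)))
theorem Q64624 : ∀ i, i < 64624 → P i := stepQ 64623 Q64623 (allL N64623 (tt N52245 F197927) (tt N68266 (iv0 F306826)) (tt N53323 F197925) (tt N35033 (iv3 D123505)) (tt N36611 F304892) (tt N87461 (iv5 F379404)) (tt N69645 F304893) (tt N37494 (iv7 F305644)))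
theorem Q64625 : ∀ i, i < 64625 → P i := stepQ 64624 Q64624 (allL N64624 (tt N63409 F197931) (tt N35047 F197930) (tt N52573 F197928) (tt N87461 (iv3 F379402)) (tt N43463 F197929) (tt N35033 (iv5 D123506)) (tt N92579 (iv6 F397465)) (tt N77217 (iv7 F241990)))
theorem Q64626 : ∀ i, i < 64626 → P i := stepQ 64625 Q64625 (allL N64625 (tt N94135 (iv1 F403377)) (tt N81686 F361519) (tt N81663 (iv2 F276299)) (tt N69645 F348257) (tt N35035 F197932) (tt N101161 D204312) (tt N35033 (iv6 D123507)) (tt N69644 (iv7 F348269)))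
theorem Q64627 : ∀ i, i < 64627 → P i := stepQ 64626 Q64626 (allL N64626 (tt N62758 (iv1 F354937)) (tt N64773 F354938) (tt N74991 (iv2 F310209)) (tt N76262 (iv3 F238041)) (tt N62754 (iv4 F310207)) (tt N101162 D204313) (tt N35034 (iv6 D123508)) (tt N75118 F354935))
theorem Q64628 : ∀ i, i < 64628 → P i := stepQ 64627 Q64627 (allL N64627 (tt N69612 (iv1 F348261)) (tt N35035 (iv0 D123509)) (tt N35179 F348253) (tt N81378 F348277) (tt N68267 F348254) (tt N101163 D204314) (tt N78366 F351871) (tt N78303 F348255))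
theorem Q64629 : ∀ i, i < 64629 → P i := stepQ 64628 Q64628 (allL N64628 (tt N101164 D204315) (tt N100616 (iv0 F429714)) (tt N101010 (iv2 F431255)) (tt N81368 (iv3 F361528)) (tt N101165 D204316) (tt N35035 (iv5 D123511)) (tt N101162 (iv6 F432007)) (tt N101166 D204317))
theorem Q64630 : ∀ i, i < 64630 → P i := stepQ 64629 Q64629 (allL N64629 (tt N78303 F348263) (tt N35179 F348264) (tt N69612 F348265) (tt N43792 F348266) (tt N69644 F348267) (tt N101166 (iv5 F432013)) (tt N35148 F348268) (tt N35035 (iv7 D123512)))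
theorem Q64631 : ∀ i, i < 64631 → P i := stepQ 64630 Q64630 (allL N64630 (tt N81866 F363203) (tt N81869 F363205) (tt N79113 (iv2 F252669)) (tt N35039 F197933) (tt N53328 F197934) (tt N88865 (iv5 F384382)) (tt N35036 (iv6 D123513)) (tt N69611 F314895))
theorem Q64632 : ∀ i, i < 64632 → P i := stepQ 64631 Q64631 (allL N64631 (tt N35166 F314896) (tt N38266 F314235) (tt N68277 F314236) (tt N88865 (iv3 F384383)) (tt N101167 D204318) (tt N35039 (iv5 D123518)) (tt N63754 F356970) (tt N68276 F314237))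
theorem Q64633 : ∀ i, i < 64633 → P i := stepQ 64632 Q64632 (allL N64632 (tt N59309 (iv1 F356865)) (tt N59305 F356862) (tt N35048 F197941) (tt N61139 F197942) (tt N98357 (iv4 F420631)) (tt N72154 (iv5 F356543)) (tt N35041 (iv6 D123521)) (tt N101168 D204319))
theorem Q64634 : ∀ i, i < 64634 → P i := stepQ 64633 Q64633 (allL N64633 (tt N35052 (iv1 F197946)) (tt N35042 (iv0 D123522)) (tt N35049 F359914) (tt N88843 (iv3 F384315)) (tt N81664 (iv4 F276307)) (tt N101169 D204320) (tt N100312 F428388) (tt N35050 F359915))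
theorem Q64635 : ∀ i, i < 64635 → P i := stepQ 64634 Q64634 (allL N64634 (tt N35042 (iv1 D123523)) (tt N35052 F197943) (tt N35050 F359911) (tt N43752 F359912) (tt N101170 D204321) (tt N101171 D204322) (tt N89148 (iv6 F385342)) (tt N35049 F359913))
theorem Q64636 : ∀ i, i < 64636 → P i := stepQ 64635 Q64635 (allL N64635 (tt N72502 F356866) (tt N89114 (iv0 F385213)) (tt N35051 F197944) (tt N89906 (iv3 F387945)) (tt N101172 D204323) (tt N35042 (iv5 D123524)) (tt N72154 F356545) (tt N89933 (iv7 F388038)))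
theorem Q64637 : ∀ i, i < 64637 → P i := stepQ 64636 Q64636 (allL N64636 (tt N35050 (iv1 F197947)) (tt N35049 F197948) (tt N35052 F197945) (tt N78620 (iv3 F356148)) (tt N41055 F317092) (tt N89933 (iv5 F388037)) (tt N80037 F364924) (tt N35042 (iv7 D123525)))
theorem Q64638 : ∀ i, i < 64638 → P i := stepQ 64637 Q64637 (allL N64637 (tt N74986 F340935) (tt N76253 F340937) (tt N78688 (iv2 F310205)) (tt N46523 F197955) (tt N49446 (iv4 F347298)) (tt N41275 F340936) (tt N35044 (iv6 D123528)) (tt N62770 (iv7 F345710)))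
theorem Q64639 : ∀ i, i < 64639 → P i := stepQ 64638 Q64638 (allL N64638 (tt N35045 (iv1 D123529)) (tt N41055 F317089) (tt N42706 F244088) (tt N76440 F311961) (tt N77268 F244089) (tt N39979 F314371) (tt N46089 F311962) (tt N40777 (iv7 F322125)))
theorem Q64640 : ∀ i, i < 64640 → P i := stepQ 64639 Q64639 (allL N64639 (tt N42706 F197959) (tt N40777 F323795) (tt N41055 F317091) (tt N45735 F300030) (tt N35052 F197958) (tt N100125 (iv5 F427577)) (tt N80036 (iv6 F312438)) (tt N35045 (iv7 D123531)))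
theorem Q64641 : ∀ i, i < 64641 → P i := stepQ 64640 Q64640 (allL N64640 (tt N63004 F349475) (tt N63003 (iv0 F337293)) (tt N62945 (iv2 F321907)) (tt N73910 (iv3 F321913)) (tt N62996 (iv4 F309419)) (tt N101173 D204324) (tt N35046 (iv6 D123532)) (tt N62993 F349480))
theorem Q64642 : ∀ i, i < 64642 → P i := stepQ 64641 Q64641 (allL N64641 (tt N101174 D204325) (tt N101175 D204326) (tt N98357 (iv2 F420629)) (tt N64594 F197963) (tt N35048 F197964) (tt N101176 D204327) (tt N35047 (iv6 D123534)) (tt N101177 D204328))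
theorem Q64643 : ∀ i, i < 64643 → P i := stepQ 64642 Q64642 (allL N64642 (tt N101168 (iv1 F432025)) (tt N35048 (iv0 D123535)) (tt N59309 (iv2 F356568)) (tt N76368 F335193) (tt N74341 F335194) (tt N59307 (iv5 F335197)) (tt N74343 (iv6 F335196)) (tt N59305 (iv7 F356565)))
theorem Q64644 : ∀ i, i < 64644 → P i := stepQ 64643 Q64643 (allL N64643 (tt N35048 (iv1 D123536)) (tt N101168 F432024) (tt N59305 (iv2 F356860)) (tt N99755 (iv3 F426075)) (tt N75170 (iv4 F352577)) (tt N59302 (iv5 F356861)) (tt N101178 D204329) (tt N59309 F356859))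
theorem Q64645 : ∀ i, i < 64645 → P i := stepQ 64644 Q64644 (allL N64644 (tt N59305 (iv1 F356566)) (tt N59309 (iv0 F356567)) (tt N101168 (iv2 F432020)) (tt N35053 F197967) (tt N101177 (iv4 F432065)) (tt N38762 F329114) (tt N69864 F356549) (tt N35048 (iv7 D123538)))
theorem Q64646 : ∀ i, i < 64646 → P i := stepQ 64645 Q64645 (allL N64645 (tt N43754 F252389) (tt N43748 F252390) (tt N43751 F359908) (tt N35049 (iv3 D123540)) (tt N75794 (iv4 F308763)) (tt N101179 D204330) (tt N76463 (iv6 F361924)) (tt N43752 F359909))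
theorem Q64647 : ∀ i, i < 64647 → P i := stepQ 64646 Q64646 (allL N64646 (tt N101180 D204331) (tt N81678 (iv0 F333734)) (tt N81664 (iv2 F359918)) (tt N62374 F344013) (tt N35049 (iv4 D123541)) (tt N62369 (iv5 F344014)) (tt N101181 D204332) (tt N101170 (iv7 F432033)))
theorem Q64648 : ∀ i, i < 64648 → P i := stepQ 64647 Q64647 (allL N64647 (tt N101182 D204333) (tt N100849 (iv0 F430765)) (tt N101169 (iv2 F432026)) (tt N101179 (iv3 F432072)) (tt N101183 D204334) (tt N35049 (iv5 D123542)) (tt N101184 D204335) (tt N101171 (iv7 F432037)))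
theorem Q64649 : ∀ i, i < 64649 → P i := stepQ 64648 Q64648 (allL N64648 (tt N37471 F361926) (tt N80519 F361927) (tt N100312 F428387) (tt N76463 F361928) (tt N101181 (iv4 F432082)) (tt N101185 D204336) (tt N35049 (iv6 D123543)) (tt N89164 (iv7 F385410)))
theorem Q64650 : ∀ i, i < 64650 → P i := stepQ 64649 Q64649 (allL N64649 (tt N81864 F361939) (tt N88845 F384325) (tt N88844 (iv2 F384311)) (tt N35050 (iv3 D123545)) (tt N53338 F361937) (tt N101186 D204337) (tt N77250 (iv6 F383623)) (tt N88843 F384314))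
theorem Q64651 : ∀ i, i < 64651 → P i := stepQ 64650 Q64650 (allL N64650 (tt N81678 F346683) (tt N101180 F432079) (tt N101170 (iv2 F432030)) (tt N53339 (iv3 F346687)) (tt N35050 (iv4 D123546)) (tt N82582 F346680) (tt N76060 (iv6 F346681)) (tt N81664 F359916))
theorem Q64652 : ∀ i, i < 64652 → P i := stepQ 64651 Q64651 (allL N64651 (tt N100849 (iv1 F430766)) (tt N101182 F432088) (tt N101171 (iv2 F432035)) (tt N101186 (iv3 F432099)) (tt N101187 D204338) (tt N35050 (iv5 D123547)) (tt N99370 F424324) (tt N101169 (iv7 F432027)))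
theorem Q64653 : ∀ i, i < 64653 → P i := stepQ 64652 Q64652 (allL N64652 (tt N46680 F361942) (tt N78366 (iv0 F361941)) (tt N89148 (iv2 F385340)) (tt N77250 F383622) (tt N76060 F346682) (tt N101188 D204339) (tt N35050 (iv6 D123548)) (tt N89163 (iv7 F385405)))
theorem Q64654 : ∀ i, i < 64654 → P i := stepQ 64653 Q64653 (allL N64653 (tt N89933 (iv1 F388040)) (tt N35051 (iv0 D123549)) (tt N72502 (iv2 F366482)) (tt N89121 (iv3 F385239)) (tt N101189 D204340) (tt N69568 F366483) (tt N58128 F366484) (tt N89114 (iv7 F385212)))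
theorem Q64655 : ∀ i, i < 64655 → P i := stepQ 64654 Q64654 (allL N64654 (tt N35051 (iv1 D123550)) (tt N89933 F388039) (tt N89114 (iv2 F385209)) (tt N92597 (iv3 F397555)) (tt N100103 (iv4 F427522)) (tt N80595 F366480) (tt N72615 (iv6 F366479)) (tt N72502 F366481))
theorem Q64656 : ∀ i, i < 64656 → P i := stepQ 64655 Q64655 (allL N64655 (tt N101190 D204341) (tt N101191 D204342) (tt N101172 (iv2 F432041)) (tt N55921 F365423) (tt N35051 (iv4 D123551)) (tt N101192 D204343) (tt N71376 (iv6 F365422)) (tt N101193 D204344))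
theorem Q64657 : ∀ i, i < 64657 → P i := stepQ 64656 Q64656 (allL N64656 (tt N89114 F385214) (tt N72502 (iv0 F366210)) (tt N89933 (iv2 F388036)) (tt N35054 F197971) (tt N101193 (iv4 F432122)) (tt N35052 F197972) (tt N101194 D204345) (tt N35051 (iv7 D123552)))
theorem Q64658 : ∀ i, i < 64658 → P i := stepQ 64657 Q64657 (allL N64657 (tt N72150 F329230) (tt N72149 F329231) (tt N62291 F329232) (tt N101194 (iv3 F432126)) (tt N38761 F329233) (tt N70163 F345489) (tt N35054 (iv6 D123576)) (tt N38760 F329234))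
theorem Q64659 : ∀ i, i < 64659 → P i := stepQ 64658 Q64658 (allL N64658 (tt N63659 (iv1 F300855)) (tt N63525 (iv0 F300850)) (tt N52501 F197992) (tt N35056 (iv3 D123578)) (tt N53549 F197993) (tt N52493 F197994) (tt N36953 F318039) (tt N63538 (iv7 F300849)))
theorem Q64660 : ∀ i, i < 64660 → P i := stepQ 64659 Q64659 (allL N64659 (tt N70475 F357807) (tt N67032 (iv0 F315348)) (tt N66989 (iv2 F206323)) (tt N36953 F316639) (tt N35058 F197997) (tt N36951 (iv5 F319008)) (tt N35056 (iv6 D123579)) (tt N67821 F316640))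
theorem Q64661 : ∀ i, i < 64661 → P i := stepQ 64660 Q64660 (allL N64660 (tt N77655 F347682) (tt N35137 F347683) (tt N61483 F197998) (tt N79117 (iv3 F252685)) (tt N55804 F197999) (tt N101195 D204346) (tt N35057 (iv6 D123580)) (tt N86786 (iv7 F377195)))
theorem Q64662 : ∀ i, i < 64662 → P i := stepQ 64661 Q64661 (allL N64661 (tt N68037 (iv1 F358070)) (tt N35169 F354488) (tt N101009 (iv2 F431248)) (tt N82334 (iv3 F366792)) (tt N86290 (iv4 F375710)) (tt N35058 (iv5 D123583)) (tt N101195 (iv6 F432132)) (tt N101057 (iv7 F431485)))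
theorem Q64663 : ∀ i, i < 64663 → P i := stepQ 64662 Q64662 (allL N64662 (tt N82525 (iv1 F281488)) (tt N81352 (iv0 F332278)) (tt N43959 F198013) (tt N35063 (iv3 D123597)) (tt N43899 F198014) (tt N61466 F198015) (tt N101196 D204347) (tt N77200 (iv7 F241960)))
theorem Q64664 : ∀ i, i < 64664 → P i := stepQ 64663 Q64663 (allL N64663 (tt N45658 F337511) (tt N46379 F337512) (tt N46951 F323004) (tt N101196 (iv3 F432138)) (tt N64533 F198017) (tt N81484 F337515) (tt N35063 (iv6 D123598)) (tt N46952 F323005))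
theorem Q64665 : ∀ i, i < 64665 → P i := stepQ 64664 Q64664 (allL N64664 (tt N35064 (iv1 D123600)) (tt N47259 F331907) (tt N47261 F331908) (tt N100527 (iv3 F429333)) (tt N77203 (iv4 F241969)) (tt N101197 D204348) (tt N47007 F331909) (tt N46950 F331910))
theorem Q64666 : ∀ i, i < 64666 → P i := stepQ 64665 Q64665 (allL N64665 (tt N101198 D204349) (tt N88503 (iv0 F383306)) (tt N76147 F345588) (tt N45404 F198018) (tt N101199 D204350) (tt N35064 (iv5 D123601)) (tt N81457 (iv6 F345587)) (tt N47541 F302340))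
theorem Q64667 : ∀ i, i < 64667 → P i := stepQ 64666 Q64666 (allL N64666 (tt N62999 F348019) (tt N63956 (iv0 F355610)) (tt N75577 F347739) (tt N62942 (iv3 F337284)) (tt N54903 (iv4 F355645)) (tt N101200 D204351) (tt N35065 (iv6 D123603)) (tt N62939 F338496))
theorem Q64668 : ∀ i, i < 64668 → P i := stepQ 64667 Q64667 (allL N64667 (tt N61150 F349944) (tt N61151 (iv0 F259562)) (tt N62898 F338495) (tt N49643 (iv3 F349945)) (tt N76032 (iv4 F235978)) (tt N89219 (iv5 F385652)) (tt N35066 (iv6 D123604)) (tt N62936 (iv7 F349951)))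
theorem Q64669 : ∀ i, i < 64669 → P i := stepQ 64668 Q64668 (allL N64668 (tt N98087 (iv1 F419407)) (tt N35067 (iv0 D123605)) (tt N98086 F419397) (tt N70044 F364197) (tt N81462 F364196) (tt N55405 (iv5 F364202)) (tt N89967 (iv6 F388129)) (tt N70074 (iv7 F364199)))
theorem Q64670 : ∀ i, i < 64670 → P i := stepQ 64669 Q64669 (allL N64669 (tt N35067 (iv1 D123606)) (tt N98087 F419406) (tt N70074 (iv2 F364188)) (tt N101201 D204352) (tt N76037 (iv4 F361070)) (tt N58957 (iv5 F368899)) (tt N101202 D204353) (tt N98086 (iv7 F419399)))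
theorem Q64671 : ∀ i, i < 64671 → P i := stepQ 64670 Q64670 (allL N64670 (tt N39632 F347382) (tt N84253 (iv0 F368703)) (tt N90404 (iv2 F389528)) (tt N35069 F198024) (tt N37310 F329635) (tt N35067 (iv5 D123607)) (tt N35068 F198025) (tt N38446 F329636))
theorem Q64672 : ∀ i, i < 64672 → P i := stepQ 64671 Q64671 (allL N64671 (tt N70074 (iv1 F355302)) (tt N98086 F419400) (tt N98087 (iv2 F419402)) (tt N35070 F198026) (tt N61138 F198027) (tt N38446 F329683) (tt N72147 (iv6 F336381)) (tt N35067 (iv7 D123608)))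
theorem Q64673 : ∀ i, i < 64673 → P i := stepQ 64672 Q64672 (allL N64672 (tt N90392 (iv1 F389492)) (tt N35068 (iv0 D123619)) (tt N90402 F389522) (tt N77455 F338732) (tt N86020 F374920) (tt N101203 D204354) (tt N90624 (iv6 F390305)) (tt N85988 (iv7 F374921)))
theorem Q64674 : ∀ i, i < 64674 → P i := stepQ 64673 Q64673 (allL N64673 (tt N35068 (iv1 D123620)) (tt N90392 (iv0 F389490)) (tt N85988 (iv2 F374764)) (tt N84089 (iv3 F374926)) (tt N50262 F365802) (tt N88483 (iv5 F383236)) (tt N50199 (iv6 F365801)) (tt N90402 (iv7 F389521)))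
theorem Q64675 : ∀ i, i < 64675 → P i := stepQ 64674 Q64674 (allL N64674 (tt N85982 (iv1 F374742)) (tt N50195 F365363) (tt N85980 F374725) (tt N37312 F365364) (tt N35068 (iv4 D123621)) (tt N101204 D204355) (tt N37310 F365365) (tt N85981 (iv7 F374730)))
theorem Q64676 : ∀ i, i < 64676 → P i := stepQ 64675 Q64675 (allL N64675 (tt N43744 F240102) (tt N35089 F240103) (tt N43741 F198037) (tt N35071 (iv3 D123637)) (tt N101205 D204356) (tt N76875 (iv5 F240123)) (tt N51601 F306922) (tt N43742 F198036))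
theorem Q64677 : ∀ i, i < 64677 → P i := stepQ 64676 Q64676 (allL N64676 (tt N95137 F407194) (tt N70288 F363082) (tt N70011 F329429) (tt N51601 (iv3 F366836)) (tt N38832 F329430) (tt N101206 D204357) (tt N35071 (iv6 D123638)) (tt N70007 F329431))
theorem Q64678 : ∀ i, i < 64678 → P i := stepQ 64677 Q64677 (allL N64677 (tt N90234 F389023) (tt N90232 (iv0 F389012)) (tt N101020 (iv2 F431309)) (tt N35072 (iv3 D123639)) (tt N101207 D204358) (tt N64339 (iv5 F303727)) (tt N101208 D204359) (tt N101016 (iv7 F431282)))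
theorem Q64679 : ∀ i, i < 64679 → P i := stepQ 64678 Q64678 (allL N64678 (tt N69818 F329432) (tt N70261 F329433) (tt N70254 F329434) (tt N101208 (iv3 F432203)) (tt N37334 F329435) (tt N64341 (iv5 F304300)) (tt N35072 (iv6 D123640)) (tt N70253 F329436))
theorem Q64680 : ∀ i, i < 64680 → P i := stepQ 64679 Q64679 (allL N64679 (tt N68596 F328648) (tt N35073 (iv0 D123641)) (tt N64601 (iv2 F198043)) (tt N36915 F328649) (tt N64442 F198044) (tt N96077 (iv5 F410934)) (tt N67502 F328650) (tt N64605 F198045))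
theorem Q64681 : ∀ i, i < 64681 → P i := stepQ 64680 Q64680 (allL N64680 (tt N35073 (iv1 D123642)) (tt N68596 F328651) (tt N64605 (iv2 F198041)) (tt N68651 F328652) (tt N64443 F198040) (tt N94310 (iv5 F403996)) (tt N69817 F328653) (tt N64601 (iv7 F198042)))
theorem Q64682 : ∀ i, i < 64682 → P i := stepQ 64681 Q64681 (allL N64681 (tt N101209 D204360) (tt N68941 F329389) (tt N36762 F329390) (tt N35073 (iv3 D123643)) (tt N37312 F329391) (tt N38697 F329392) (tt N35918 F329393) (tt N68653 F329394))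
theorem Q64683 : ∀ i, i < 64683 → P i := stepQ 64682 Q64682 (allL N64682 (tt N64605 (iv1 F198048)) (tt N64601 F198049) (tt N68596 F329067) (tt N68653 F329068) (tt N35074 F198047) (tt N38702 F329069) (tt N57795 F329070) (tt N35073 (iv7 D123645)))
theorem Q64684 : ∀ i, i < 64684 → P i := stepQ 64683 Q64683 (allL N64683 (tt N49415 F366861) (tt N49713 F366862) (tt N49711 (iv2 F307588)) (tt N35080 F198054) (tt N88078 (iv4 F381711)) (tt N89077 (iv5 F385062)) (tt N35077 (iv6 D123649)) (tt N49710 F352512))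
theorem Q64685 : ∀ i, i < 64685 → P i := stepQ 64684 Q64684 (allL N64684 (tt N44880 F345974) (tt N77260 F345975) (tt N36533 F198062) (tt N88080 (iv3 F381720)) (tt N35080 F198063) (tt N65301 (iv5 F339309)) (tt N35079 (iv6 D123654)) (tt N82170 F339310))
theorem Q64686 : ∀ i, i < 64686 → P i := stepQ 64685 Q64685 (allL N64685 (tt N43758 (iv1 F198069)) (tt N35080 (iv0 D123655)) (tt N43755 F336363) (tt N81346 F336364) (tt N77187 (iv4 F342698)) (tt N51204 F336365) (tt N49613 F336366) (tt N43756 F336367))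
theorem Q64687 : ∀ i, i < 64687 → P i := stepQ 64686 Q64686 (allL N64686 (tt N69779 (iv1 F354239)) (tt N57346 F336383) (tt N43757 F198065) (tt N89077 (iv3 F385061)) (tt N101210 D204361) (tt N35080 (iv5 D123657)) (tt N35082 F198066) (tt N69778 (iv7 F354231)))
theorem Q64688 : ∀ i, i < 64688 → P i := stepQ 64687 Q64687 (allL N64687 (tt N43756 (iv1 F198070)) (tt N43755 F198071) (tt N43758 F198067) (tt N49710 F352511) (tt N82170 F345980) (tt N69778 (iv5 F354230)) (tt N43740 F198068) (tt N35080 (iv7 D123658)))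
theorem Q64689 : ∀ i, i < 64689 → P i := stepQ 64688 Q64688 (allL N64688 (tt N54092 (iv1 F332022)) (tt N53946 F332023) (tt N43713 F198072) (tt N101018 (iv3 F431293)) (tt N101211 D204362) (tt N35081 (iv5 D123659)) (tt N83214 (iv6 F358761)) (tt N43718 F198073))
theorem Q64690 : ∀ i, i < 64690 → P i := stepQ 64689 Q64689 (allL N64689 (tt N77273 F242200) (tt N48931 F307394) (tt N43760 F198076) (tt N74713 F342401) (tt N35082 (iv4 D123662)) (tt N47185 F332021) (tt N101210 (iv6 F432214)) (tt N89976 (iv7 F388166)))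
theorem Q64691 : ∀ i, i < 64691 → P i := stepQ 64690 Q64690 (allL N64690 (tt N76331 F342016) (tt N35107 F311848) (tt N43747 F198086) (tt N79113 (iv3 F252670)) (tt N48455 F198087) (tt N71294 (iv5 F342018)) (tt N35084 (iv6 D123664)) (tt N76478 F342017))
theorem Q64692 : ∀ i, i < 64692 → P i := stepQ 64691 Q64691 (allL N64691 (tt N90411 (iv1 F389550)) (tt N90410 F389549) (tt N84091 (iv2 F368068)) (tt N35089 F198091) (tt N101212 D204363) (tt N35086 (iv5 D123668)) (tt N76356 (iv6 F238433)) (tt N89159 (iv7 F385393)))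
theorem Q64693 : ∀ i, i < 64693 → P i := stepQ 64692 Q64692 (allL N64692 (tt N77222 F349792) (tt N77225 (iv0 F347355)) (tt N36551 F198094) (tt N43255 F198095) (tt N35088 F198096) (tt N89737 (iv5 F387366)) (tt N35087 (iv6 D123670)) (tt N94069 (iv7 F403057)))
theorem Q64694 : ∀ i, i < 64694 → P i := stepQ 64693 Q64693 (allL N64693 (tt N35088 (iv1 D123672)) (tt N43740 F198097) (tt N43739 F349798) (tt N69891 F349805) (tt N80906 F349799) (tt N58052 (iv5 F349804)) (tt N101213 D204364) (tt N43738 F349800))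
theorem Q64695 : ∀ i, i < 64695 → P i := stepQ 64694 Q64694 (allL N64694 (tt N38410 F329131) (tt N38450 F329132) (tt N38448 F336388) (tt N76356 (iv3 F238432)) (tt N67264 F329133) (tt N35088 (iv5 D123673)) (tt N35089 F198099) (tt N38449 F336389))
theorem Q64696 : ∀ i, i < 64696 → P i := stepQ 64695 Q64695 (allL N64695 (tt N43739 (iv1 F198103)) (tt N43738 F198104) (tt N43740 F198100) (tt N76357 (iv3 F238434)) (tt N94069 (iv4 F403056)) (tt N38449 F336386) (tt N43758 F198101) (tt N35088 (iv7 D123674)))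
theorem Q64697 : ∀ i, i < 64697 → P i := stepQ 64696 Q64696 (allL N64696 (tt N35089 (iv1 D123678)) (tt N43744 F198109) (tt N43742 F240100) (tt N101020 (iv3 F431310)) (tt N101214 D204365) (tt N76869 (iv5 F240099)) (tt N101215 D204366) (tt N43741 (iv7 F240101)))
theorem Q64698 : ∀ i, i < 64698 → P i := stepQ 64697 Q64697 (allL N64697 (tt N77228 F242055) (tt N77231 (iv0 F242046)) (tt N43743 F198110) (tt N67267 (iv3 F359794)) (tt N35089 (iv4 D123679)) (tt N97546 (iv5 F417336)) (tt N67264 F359793) (tt N90237 (iv7 F389039)))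
theorem Q64699 : ∀ i, i < 64699 → P i := stepQ 64698 Q64698 (allL N64698 (tt N35104 (iv1 F198122)) (tt N35090 (iv0 D123681)) (tt N35101 F354950) (tt N45113 F352397) (tt N101216 D204367) (tt N101217 D204368) (tt N84132 (iv6 F368245)) (tt N35102 F354951))
theorem Q64700 : ∀ i, i < 64700 → P i := stepQ 64699 Q64699 (allL N64699 (tt N35090 (iv1 D123682)) (tt N35104 F198116) (tt N35102 F354952) (tt N84152 F368350) (tt N91379 F392922) (tt N101218 D204369) (tt N96278 (iv6 F411850)) (tt N35101 F354953))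
theorem Q64701 : ∀ i, i < 64701 → P i := stepQ 64700 Q64700 (allL N64700 (tt N50638 F366877) (tt N50657 F366878) (tt N35103 F198117) (tt N101023 (iv3 F431324)) (tt N101219 D204370) (tt N35090 (iv5 D123683)) (tt N35093 F198118) (tt N50655 F359721))
theorem Q64702 : ∀ i, i < 64702 → P i := stepQ 64701 Q64701 (allL N64701 (tt N35102 (iv1 F198123)) (tt N35101 F198124) (tt N35104 F198119) (tt N101024 (iv3 F431330)) (tt N36581 F198120) (tt N50655 (iv5 F359719)) (tt N43610 F198121) (tt N35090 (iv7 D123684)))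
theorem Q64703 : ∀ i, i < 64703 → P i := stepQ 64702 Q64702 (allL N64702 (tt N81877 (iv1 F338876)) (tt N91726 (iv0 F394196)) (tt N35113 F198155) (tt N101220 D204371) (tt N35093 (iv4 D123694)) (tt N101221 D204372) (tt N101219 (iv6 F432257)) (tt N101222 D204373))
theorem Q64704 : ∀ i, i < 64704 → P i := stepQ 64703 Q64703 (allL N64703 (tt N35112 (iv1 F198159)) (tt N35111 F198160) (tt N35114 F198156) (tt N101026 (iv3 F431344)) (tt N101222 (iv4 F432268)) (tt N35094 F198157) (tt N101223 D204374) (tt N35093 (iv7 D123695)))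
theorem Q64705 : ∀ i, i < 64705 → P i := stepQ 64704 Q64704 (allL N64704 (tt N77051 (iv1 F348668)) (tt N77054 (iv0 F356777)) (tt N36448 F198162) (tt N63597 F342720) (tt N35096 F198163) (tt N63594 (iv5 F342719)) (tt N35095 (iv6 D123697)) (tt N81043 (iv7 F342717)))
theorem Q64706 : ∀ i, i < 64706 → P i := stepQ 64705 Q64705 (allL N64705 (tt N43765 (iv1 F198169)) (tt N35096 (iv0 D123698)) (tt N43762 F356980) (tt N97093 (iv3 F415456)) (tt N76899 (iv4 F343392)) (tt N101224 D204375) (tt N96302 (iv6 F411924)) (tt N43763 F356981))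
theorem Q64707 : ∀ i, i < 64707 → P i := stepQ 64706 Q64706 (allL N64706 (tt N35096 (iv1 D123699)) (tt N43765 F198164) (tt N43763 F356469) (tt N35119 F356467) (tt N76900 F343518) (tt N101225 D204376) (tt N101226 D204377) (tt N43762 F356470))
theorem Q64708 : ∀ i, i < 64708 → P i := stepQ 64707 Q64707 (allL N64707 (tt N101227 D204378) (tt N101228 D204379) (tt N43764 F198165) (tt N84158 (iv3 F368391)) (tt N101229 D204380) (tt N35096 (iv5 D123700)) (tt N44557 F198166) (tt N48594 F307556))
theorem Q64709 : ∀ i, i < 64709 → P i := stepQ 64708 Q64708 (allL N64708 (tt N43768 (iv1 F198186)) (tt N35099 (iv0 D123708)) (tt N43767 (iv2 F198187)) (tt N45575 F298809) (tt N78542 (iv4 F249075)) (tt N45419 F198185) (tt N45572 F298810) (tt N43766 (iv7 F198188)))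
theorem Q64710 : ∀ i, i < 64710 → P i := stepQ 64709 Q64709 (allL N64709 (tt N35099 (iv1 D123709)) (tt N43768 F198189) (tt N43766 (iv2 F198193)) (tt N51907 (iv3 F198192)) (tt N78544 (iv4 F249090)) (tt N45418 F198191) (tt N95841 (iv6 F409892)) (tt N43767 F198190))
theorem Q64711 : ∀ i, i < 64711 → P i := stepQ 64710 Q64710 (allL N64710 (tt N75761 F347967) (tt N101230 D204381) (tt N77135 (iv2 F241654)) (tt N35100 F198194) (tt N35128 F198195) (tt N60097 (iv5 F360259)) (tt N35099 (iv6 D123710)) (tt N101231 D204382))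
theorem Q64712 : ∀ i, i < 64712 → P i := stepQ 64711 Q64711 (allL N64711 (tt N36581 (iv1 F198202)) (tt N35100 (iv0 D123711)) (tt N36578 F354959) (tt N61476 F354960) (tt N99844 (iv4 F426490)) (tt N91436 (iv5 F393122)) (tt N99842 F426485) (tt N36579 F354961))
theorem Q64713 : ∀ i, i < 64713 → P i := stepQ 64712 Q64712 (allL N64712 (tt N35100 (iv1 D123712)) (tt N36581 F198196) (tt N36579 F357694) (tt N74247 F357695) (tt N101232 D204383) (tt N91281 (iv5 F392531)) (tt N101233 D204384) (tt N36578 F357696))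
theorem Q64714 : ∀ i, i < 64714 → P i := stepQ 64713 Q64713 (allL N64713 (tt N99263 F423865) (tt N74242 (iv0 F415296)) (tt N36580 F198197) (tt N60097 (iv3 F360258)) (tt N101234 D204385) (tt N35100 (iv5 D123713)) (tt N36515 F198198) (tt N71363 F347137))
theorem Q64715 : ∀ i, i < 64715 → P i := stepQ 64714 Q64714 (allL N64714 (tt N36579 (iv1 F198203)) (tt N36578 F198204) (tt N36581 F198199) (tt N101231 (iv3 F432321)) (tt N35104 F198200) (tt N71363 (iv5 F347134)) (tt N43773 F198201) (tt N35100 (iv7 D123714)))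
theorem Q64716 : ∀ i, i < 64716 → P i := stepQ 64715 Q64715 (allL N64715 (tt N84153 (iv1 F368354)) (tt N51852 (iv0 F355153)) (tt N84151 F368345) (tt N35101 (iv3 D123716)) (tt N101235 D204386) (tt N101236 D204387) (tt N54490 F355152) (tt N84152 (iv7 F368348)))
theorem Q64717 : ∀ i, i < 64717 → P i := stepQ 64716 Q64716 (allL N64716 (tt N101237 D204388) (tt N76908 (iv0 F354074)) (tt N101216 (iv2 F432240)) (tt N101238 D204389) (tt N35101 (iv4 D123717)) (tt N91380 (iv5 F392928)) (tt N62781 F355149) (tt N91379 F392920))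
theorem Q64718 : ∀ i, i < 64718 → P i := stepQ 64717 Q64717 (allL N64717 (tt N91687 F432227) (tt N101239 D204390) (tt N101217 (iv2 F432247)) (tt N101236 (iv3 F432343)) (tt N101240 D204391) (tt N35101 (iv5 D123718)) (tt N101241 D204392) (tt N101218 (iv7 F432253)))
theorem Q64719 : ∀ i, i < 64719 → P i := stepQ 64718 Q64718 (allL N64718 (tt N54189 (iv1 F357285)) (tt N84133 F368252) (tt N84132 F368242) (tt N54490 (iv3 F355151)) (tt N62781 (iv4 F355150)) (tt N101242 D204393) (tt N35101 (iv6 D123719)) (tt N84131 F368236))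
theorem Q64720 : ∀ i, i < 64720 → P i := stepQ 64719 Q64719 (allL N64719 (tt N76265 (iv1 F354955)) (tt N77636 F355762) (tt N45117 F354947) (tt N35102 (iv3 D123721)) (tt N45104 F354948) (tt N101243 D204394) (tt N98758 (iv6 F422182)) (tt N45113 F354949))
theorem Q64721 : ∀ i, i < 64721 → P i := stepQ 64720 Q64720 (allL N64720 (tt N76908 F355764) (tt N101237 F432348) (tt N91379 (iv2 F392918)) (tt N57381 (iv3 F354954)) (tt N35102 (iv4 D123722)) (tt N91272 (iv5 F392486)) (tt N57380 F354958) (tt N101216 (iv7 F432243)))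
theorem Q64722 : ∀ i, i < 64722 → P i := stepQ 64721 Q64721 (allL N64721 (tt N101239 (iv1 F432357)) (tt N91687 (iv0 F394042)) (tt N101218 (iv2 F432251)) (tt N101243 (iv3 F432374)) (tt N101244 D204395) (tt N35102 (iv5 D123723)) (tt N85640 F373323) (tt N101217 (iv7 F432250)))
theorem Q64723 : ∀ i, i < 64723 → P i := stepQ 64722 Q64722 (allL N64722 (tt N59268 F354233) (tt N96302 F411927) (tt N96278 (iv2 F411846)) (tt N98758 (iv3 F422181)) (tt N57380 (iv4 F345976)) (tt N59238 (iv5 F336362)) (tt N35102 (iv6 D123724)) (tt N96281 (iv7 F411860)))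
theorem Q64724 : ∀ i, i < 64724 → P i := stepQ 64723 Q64723 (allL N64723 (tt N35103 (iv1 D123726)) (tt N50655 F359723) (tt N50657 (iv2 F359724)) (tt N101245 D204396) (tt N73482 F359725) (tt N101246 D204397) (tt N73481 F359726) (tt N50638 F359727))
theorem Q64725 : ∀ i, i < 64725 → P i := stepQ 64724 Q64724 (allL N64724 (tt N91426 (iv1 F425305)) (tt N99589 (iv0 F425304)) (tt N101219 (iv2 F432255)) (tt N101247 D204398) (tt N35103 (iv4 D123727)) (tt N101248 D204399) (tt N35113 F198207) (tt N101249 D204400))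
theorem Q64726 : ∀ i, i < 64726 → P i := stepQ 64725 Q64725 (allL N64725 (tt N50657 (iv1 F366880)) (tt N50638 F366879) (tt N50655 F359720) (tt N35143 F198208) (tt N101249 (iv4 F432396)) (tt N35104 F198209) (tt N101250 D204401) (tt N35103 (iv7 D123728)))
theorem Q64727 : ∀ i, i < 64727 → P i := stepQ 64726 Q64726 (allL N64726 (tt N35477 F198219) (tt N42532 (iv0 F198222)) (tt N42533 F198217) (tt N35105 (iv3 D123735)) (tt N43192 (iv4 F199896)) (tt N44314 F314589) (tt N81360 (iv6 F307159)) (tt N42534 F198218))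
theorem Q64728 : ∀ i, i < 64728 → P i := stepQ 64727 Q64727 (allL N64727 (tt N35107 (iv1 D123747)) (tt N76331 F316789) (tt N76478 F316790) (tt N35148 F316791) (tt N48476 F316792) (tt N71291 F316793) (tt N43792 F338140) (tt N43747 F316794))
theorem Q64729 : ∀ i, i < 64729 → P i := stepQ 64728 Q64728 (allL N64728 (tt N43747 F342020) (tt N76478 F342021) (tt N35107 (iv2 D123748)) (tt N81358 F274481) (tt N48502 F342022) (tt N89109 (iv5 F385190)) (tt N76466 (iv6 F342023)) (tt N76331 (iv7 F342024)))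
theorem Q64730 : ∀ i, i < 64730 → P i := stepQ 64729 Q64729 (allL N64729 (tt N89141 (iv1 F385331)) (tt N88378 (iv0 F382813)) (tt N89109 (iv2 F385189)) (tt N35109 F198235) (tt N72366 (iv4 F352848)) (tt N35107 (iv5 D123750)) (tt N101251 D204402) (tt N76479 F352849))
theorem Q64731 : ∀ i, i < 64731 → P i := stepQ 64730 Q64730 (allL N64730 (tt N76464 F361482) (tt N76463 F361487) (tt N76466 (iv2 F361484)) (tt N35110 F198236) (tt N63037 (iv4 F361486)) (tt N101252 D204403) (tt N35107 (iv6 D123751)) (tt N76327 F361483))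
theorem Q64732 : ∀ i, i < 64732 → P i := stepQ 64731 Q64731 (allL N64731 (tt N48474 F330110) (tt N77266 (iv0 F242183)) (tt N72227 F312134) (tt N42715 F198239) (tt N35110 F198240) (tt N62438 (iv5 F319689)) (tt N35108 (iv6 D123753)) (tt N87926 (iv7 F381164)))
theorem Q64733 : ∀ i, i < 64733 → P i := stepQ 64732 Q64732 (allL N64732 (tt N91728 (iv1 F394213)) (tt N48878 F351235) (tt N58343 F351236) (tt N90711 (iv3 F390603)) (tt N35109 (iv4 D123754)) (tt N101253 D204404) (tt N101254 D204405) (tt N89318 (iv7 F386069)))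
theorem Q64734 : ∀ i, i < 64734 → P i := stepQ 64733 Q64733 (allL N64733 (tt N91691 F394061) (tt N101255 D204406) (tt N89317 (iv2 F386063)) (tt N101251 (iv3 F432404)) (tt N101254 (iv4 F432412)) (tt N82685 F306666) (tt N35109 (iv6 D123755)) (tt N101256 D204407))
theorem Q64735 : ∀ i, i < 64735 → P i := stepQ 64734 Q64734 (allL N64734 (tt N63378 F198242) (tt N76868 (iv0 F240096)) (tt N76870 F240116) (tt N101252 (iv3 F432405)) (tt N101257 D204408) (tt N35110 (iv5 D123757)) (tt N82685 F366796) (tt N76871 (iv7 F240118)))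
theorem Q64736 : ∀ i, i < 64736 → P i := stepQ 64735 Q64735 (allL N64735 (tt N101258 D204409) (tt N77198 (iv0 F366780)) (tt N83256 (iv2 F366882)) (tt N59658 F362327) (tt N35111 (iv4 D123761)) (tt N59656 (iv5 F362328)) (tt N78464 (iv6 F362329)) (tt N83258 F366884))
theorem Q64737 : ∀ i, i < 64737 → P i := stepQ 64736 Q64736 (allL N64736 (tt N85619 F373226) (tt N95939 (iv0 F410355)) (tt N83257 F366883) (tt N54036 (iv3 F362331)) (tt N78464 F362330) (tt N90241 (iv5 F389063)) (tt N35111 (iv6 D123763)) (tt N101259 D204410))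
theorem Q64738 : ∀ i, i < 64738 → P i := stepQ 64737 Q64737 (allL N64737 (tt N71294 F351901) (tt N71291 F351902) (tt N54040 F351898) (tt N35112 (iv3 D123765)) (tt N82583 F351900) (tt N53302 (iv5 F351897)) (tt N72357 F351896) (tt N83254 F351899))
theorem Q64739 : ∀ i, i < 64739 → P i := stepQ 64738 Q64738 (allL N64738 (tt N77198 (iv1 F241955)) (tt N101258 F432432) (tt N83258 (iv2 F366885)) (tt N90121 (iv3 F388606)) (tt N35112 (iv4 D123766)) (tt N86158 F375242) (tt N90120 F388604) (tt N83256 F366881))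
theorem Q64740 : ∀ i, i < 64740 → P i := stepQ 64739 Q64739 (allL N64739 (tt N85613 (iv1 F373352)) (tt N50646 (iv0 F351894)) (tt N83259 F366839) (tt N72357 (iv3 F351895)) (tt N90120 (iv4 F388603)) (tt N72356 F351893) (tt N35112 (iv6 D123768)) (tt N85612 (iv7 F373208)))
theorem Q64741 : ∀ i, i < 64741 → P i := stepQ 64740 Q64740 (allL N64740 (tt N101222 (iv1 F432272)) (tt N35113 (iv0 D123769)) (tt N81877 (iv2 F338872)) (tt N70511 F338873) (tt N48873 F338874) (tt N96456 F412593) (tt N96459 (iv6 F412611)) (tt N91726 (iv7 F394195)))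
theorem Q64742 : ∀ i, i < 64742 → P i := stepQ 64741 Q64741 (allL N64741 (tt N35113 (iv1 D123770)) (tt N101222 F432271) (tt N91726 (iv2 F394194)) (tt N57760 F338867) (tt N48875 F338865) (tt N80622 (iv5 F338866)) (tt N57758 (iv6 F338869)) (tt N81877 (iv7 F338870)))
theorem Q64743 : ∀ i, i < 64743 → P i := stepQ 64742 Q64742 (allL N64742 (tt N101260 D204411) (tt N101261 D204412) (tt N101262 D204413) (tt N35113 (iv3 D123771)) (tt N35174 F198250) (tt N101263 D204414) (tt N101247 (iv6 F432393)) (tt N101264 D204415))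
theorem Q64744 : ∀ i, i < 64744 → P i := stepQ 64743 Q64743 (allL N64743 (tt N101265 D204416) (tt N101266 D204417) (tt N101221 (iv2 F432263)) (tt N101263 (iv3 F432440)) (tt N101267 D204418) (tt N35113 (iv5 D123772)) (tt N101268 D204419) (tt N101269 D204420))
theorem Q64745 : ∀ i, i < 64745 → P i := stepQ 64744 Q64744 (allL N64744 (tt N91726 (iv1 F394197)) (tt N81877 F366782) (tt N101222 (iv2 F432266)) (tt N101264 (iv3 F432441)) (tt N35114 F198251) (tt N101269 (iv5 F432462)) (tt N101270 D204421) (tt N35113 (iv7 D123773)))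
theorem Q64746 : ∀ i, i < 64746 → P i := stepQ 64745 Q64745 (allL N64745 (tt N95191 F407364) (tt N85246 (iv0 F373379)) (tt N101223 (iv2 F432273)) (tt N35177 F198252) (tt N101270 (iv4 F432464)) (tt N43810 F198253) (tt N35114 (iv6 D123774)) (tt N101250 (iv7 F432403)))
theorem Q64747 : ∀ i, i < 64747 → P i := stepQ 64746 Q64746 (allL N64746 (tt N62765 F356473) (tt N62747 F356474) (tt N35117 F198254) (tt N92190 (iv3 F396165)) (tt N41651 F356475) (tt N101271 D204422) (tt N35115 (iv6 D123775)) (tt N62763 F356476))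
theorem Q64748 : ∀ i, i < 64748 → P i := stepQ 64747 Q64747 (allL N64747 (tt N61407 (iv1 F198257)) (tt N35116 (iv0 D123776)) (tt N54962 (iv2 F198256)) (tt N80760 F350143) (tt N65170 (iv4 F199430)) (tt N64367 F198255) (tt N74424 F341996) (tt N76953 (iv7 F240932)))
theorem Q64749 : ∀ i, i < 64749 → P i := stepQ 64748 Q64748 (allL N64748 (tt N101272 D204423) (tt N74413 (iv0 F340878)) (tt N41651 F356477) (tt N64426 F198258) (tt N35117 F198259) (tt N84231 (iv5 F369009)) (tt N35116 (iv6 D123777)) (tt N101273 D204424))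
theorem Q64750 : ∀ i, i < 64750 → P i := stepQ 64749 Q64749 (allL N64749 (tt N62763 (iv1 F356539)) (tt N35117 (iv0 D123778)) (tt N62765 (iv2 F356541)) (tt N76271 F340887) (tt N62750 F340879) (tt N84309 (iv5 F368869)) (tt N69986 (iv6 F356542)) (tt N62747 F356540))
theorem Q64751 : ∀ i, i < 64751 → P i := stepQ 64750 Q64750 (allL N64750 (tt N101274 D204425) (tt N101275 D204426) (tt N101271 (iv2 F432468)) (tt N35120 F198260) (tt N83508 (iv4 F369011)) (tt N35117 (iv5 D123780)) (tt N64372 F198261) (tt N101276 D204427))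
theorem Q64752 : ∀ i, i < 64752 → P i := stepQ 64751 Q64751 (allL N64751 (tt N62747 (iv1 F356482)) (tt N62765 F356481) (tt N62763 (iv2 F356480)) (tt N35121 F198262) (tt N101273 (iv4 F432482)) (tt N101276 (iv5 F432500)) (tt N100584 (iv6 F429563)) (tt N35117 (iv7 D123781)))
theorem Q64753 : ∀ i, i < 64753 → P i := stepQ 64752 Q64752 (allL N64752 (tt N101028 (iv1 F431356)) (tt N64766 (iv0 F357302)) (tt N97093 (iv2 F415455)) (tt N35118 (iv3 D123783)) (tt N64251 (iv4 F356460)) (tt N94344 (iv5 F404085)) (tt N59270 F356356) (tt N96981 (iv7 F414911)))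
theorem Q64754 : ∀ i, i < 64754 → P i := stepQ 64753 Q64753 (allL N64753 (tt N101277 D204428) (tt N101278 D204429) (tt N96304 (iv2 F411932)) (tt N94344 F404086) (tt N101279 D204430) (tt N35118 (iv5 D123785)) (tt N69816 F356357) (tt N100585 (iv7 F429566)))
theorem Q64755 : ∀ i, i < 64755 → P i := stepQ 64754 Q64754 (allL N64754 (tt N101278 (iv1 F432507)) (tt N101277 F432504) (tt N100585 (iv2 F429565)) (tt N101225 (iv3 F432282)) (tt N101280 D204431) (tt N35119 (iv5 D123790)) (tt N101281 D204432) (tt N96304 (iv7 F411935)))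
theorem Q64756 : ∀ i, i < 64756 → P i := stepQ 64755 Q64755 (allL N64755 (tt N58950 (iv1 F357134)) (tt N64772 F357133) (tt N75129 F357131) (tt N101226 (iv3 F432285)) (tt N64762 (iv4 F357130)) (tt N101282 D204433) (tt N35119 (iv6 D123791)) (tt N59269 F357132))
theorem Q64757 : ∀ i, i < 64757 → P i := stepQ 64756 Q64756 (allL N64756 (tt N100589 (iv1 F429587)) (tt N35120 (iv0 D123792)) (tt N100586 (iv2 F429570)) (tt N101283 D204434) (tt N100990 (iv4 F431184)) (tt N101284 D204435) (tt N101285 D204436) (tt N100587 (iv7 F429572)))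
theorem Q64758 : ∀ i, i < 64758 → P i := stepQ 64757 Q64757 (allL N64757 (tt N35120 (iv1 D123793)) (tt N100589 F429586) (tt N100587 (iv2 F429575)) (tt N101228 (iv3 F432296)) (tt N100991 (iv4 F431173)) (tt N38496 F329806) (tt N38499 F329807) (tt N100586 F429568))
theorem Q64759 : ∀ i, i < 64759 → P i := stepQ 64758 Q64758 (allL N64758 (tt N101286 D204437) (tt N101287 D204438) (tt N100588 (iv2 F429576)) (tt N101288 D204439) (tt N35120 (iv4 D123794)) (tt N100863 (iv5 F430815)) (tt N64373 F198266) (tt N100862 (iv7 F430812)))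
theorem Q64760 : ∀ i, i < 64760 → P i := stepQ 64759 Q64759 (allL N64759 (tt N100587 (iv1 F429571)) (tt N100586 F429569) (tt N100589 (iv2 F429581)) (tt N101276 (iv3 F432498)) (tt N100862 (iv4 F430811)) (tt N35121 F198267) (tt N84325 (iv6 F368907)) (tt N35120 (iv7 D123795)))
theorem Q64761 : ∀ i, i < 64761 → P i := stepQ 64760 Q64760 (allL N64760 (tt N64763 (iv1 F356992)) (tt N84117 (iv0 F368170)) (tt N54178 (iv2 F356990)) (tt N35124 (iv3 D123806)) (tt N68514 F356468) (tt N54173 (iv5 F356989)) (tt N101289 D204440) (tt N84128 (iv7 F368219)))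
theorem Q64762 : ∀ i, i < 64762 → P i := stepQ 64761 Q64761 (allL N64761 (tt N53470 F356439) (tt N82774 (iv0 F356510)) (tt N50659 F356440) (tt N54173 F356441) (tt N47844 F356442) (tt N35124 (iv5 D123808)) (tt N47842 F356443) (tt N82773 F357129))
theorem Q64763 : ∀ i, i < 64763 → P i := stepQ 64762 Q64762 (allL N64762 (tt N59272 F356447) (tt N35136 F356448) (tt N69989 F356449) (tt N101289 (iv3 F432544)) (tt N64755 F357130) (tt N101290 D204441) (tt N35124 (iv6 D123809)) (tt N38475 F356450))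
theorem Q64764 : ∀ i, i < 64764 → P i := stepQ 64763 Q64763 (allL N64763 (tt N49628 F348526) (tt N64760 F356992) (tt N64475 F198276) (tt N43904 F198277) (tt N81284 F334556) (tt N49604 (iv5 F343008)) (tt N35126 (iv6 D123814)) (tt N81317 (iv7 F363838)))
theorem Q64765 : ∀ i, i < 64765 → P i := stepQ 64764 Q64764 (allL N64764 (tt N45284 (iv1 F198282)) (tt N45283 (iv0 F198283)) (tt N45286 F198278) (tt N35127 (iv3 D123815)) (tt N45298 F198281) (tt N49645 (iv5 F302431)) (tt N101291 D204442) (tt N45285 F198280))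
theorem Q64766 : ∀ i, i < 64766 → P i := stepQ 64765 Q64765 (allL N64765 (tt N60997 (iv1 F198286)) (tt N78884 (iv0 F251195)) (tt N63852 F198284) (tt N80430 (iv3 F267385)) (tt N35127 (iv4 D123816)) (tt N63223 (iv5 F305815)) (tt N96972 F414868) (tt N64474 F198285))
theorem Q64767 : ∀ i, i < 64767 → P i := stepQ 64766 Q64766 (allL N64766 (tt N64752 F357302) (tt N77330 (iv0 F414870)) (tt N64473 F198287) (tt N101291 (iv3 F432557)) (tt N96972 (iv4 F414864)) (tt N101292 D204443) (tt N35127 (iv6 D123817)) (tt N101293 D204444))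
theorem Q64768 : ∀ i, i < 64768 → P i := stepQ 64767 Q64767 (allL N64767 (tt N77139 (iv1 F241665)) (tt N35128 (iv0 D123818)) (tt N77136 F415426) (tt N99544 (iv3 F425078)) (tt N94087 (iv4 F415424)) (tt N101294 D204445) (tt N99543 F425076) (tt N77137 (iv7 F415427)))
theorem Q64769 : ∀ i, i < 64769 → P i := stepQ 64768 Q64768 (allL N64768 (tt N35128 (iv1 D123819)) (tt N77139 F241664) (tt N77137 (iv2 F415429)) (tt N99847 (iv3 F426503)) (tt N101295 D204446) (tt N101296 D204447) (tt N69828 (iv6 F365395)) (tt N77136 F415428))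
theorem Q64770 : ∀ i, i < 64770 → P i := stepQ 64769 Q64769 (allL N64769 (tt N101297 D204448) (tt N99865 (iv0 F426601)) (tt N77138 (iv2 F241658)) (tt N35131 F198288) (tt N101298 D204449) (tt N35128 (iv5 D123820)) (tt N64348 F198289) (tt N101299 D204450))
theorem Q64771 : ∀ i, i < 64771 → P i := stepQ 64770 Q64770 (allL N64770 (tt N77137 (iv1 F241657)) (tt N77136 F241663) (tt N77139 (iv2 F241661)) (tt N35132 F198290) (tt N101231 (iv4 F432322)) (tt N101299 (iv5 F432578)) (tt N64479 F198291) (tt N35128 (iv7 D123821)))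
theorem Q64772 : ∀ i, i < 64772 → P i := stepQ 64771 Q64771 (allL N64771 (tt N83414 (iv1 F353710)) (tt N83408 F353713) (tt N64811 (iv2 F341498)) (tt N54613 (iv3 F358615)) (tt N101300 D204451) (tt N35129 (iv5 D123825)) (tt N101301 D204452) (tt N64813 (iv7 F341490)))
theorem Q64773 : ∀ i, i < 64773 → P i := stepQ 64772 Q64772 (allL N64772 (tt N64755 (iv1 F357133)) (tt N59313 (iv0 F342807)) (tt N41909 F341491) (tt N84722 (iv3 F370341)) (tt N90945 (iv4 F391329)) (tt N63960 F198293) (tt N35129 (iv6 D123826)) (tt N58960 F341492))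
theorem Q64774 : ∀ i, i < 64774 → P i := stepQ 64773 Q64773 (allL N64773 (tt N64626 (iv1 F354938)) (tt N44040 F354939) (tt N84723 (iv2 F370346)) (tt N35130 (iv3 D123828)) (tt N101302 D204453) (tt N89355 (iv5 F386228)) (tt N69799 F341481) (tt N41911 F341482))
theorem Q64775 : ∀ i, i < 64775 → P i := stepQ 64774 Q64774 (allL N64774 (tt N83408 (iv1 F353712)) (tt N83414 (iv0 F353711)) (tt N64813 (iv2 F341501)) (tt N89355 (iv3 F386227)) (tt N101303 D204454) (tt N35130 (iv5 D123830)) (tt N69852 F363285) (tt N64811 F341500))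
theorem Q64776 : ∀ i, i < 64776 → P i := stepQ 64775 Q64775 (allL N64775 (tt N64809 (iv1 F198334)) (tt N35131 (iv0 D123832)) (tt N64814 F370314) (tt N53009 (iv3 F370309)) (tt N101304 D204455) (tt N84714 F370308) (tt N101305 D204456) (tt N64815 F370312))
theorem Q64777 : ∀ i, i < 64777 → P i := stepQ 64776 Q64776 (allL N64776 (tt N35131 (iv1 D123833)) (tt N64809 F198333) (tt N64815 (iv2 F370313)) (tt N101306 D204457) (tt N101307 D204458) (tt N79151 (iv5 F253206)) (tt N101308 D204459) (tt N64814 (iv7 F370315)))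
theorem Q64778 : ∀ i, i < 64778 → P i := stepQ 64777 Q64777 (allL N64777 (tt N101309 D204460) (tt N101310 D204461) (tt N64816 (iv2 F198339)) (tt N99247 (iv3 F472448)) (tt N35131 (iv4 D123834)) (tt N101311 D204463) (tt N64351 F198295) (tt N101312 D204464))
theorem Q64779 : ∀ i, i < 64779 → P i := stepQ 64778 Q64778 (allL N64778 (tt N64815 (iv1 F198338)) (tt N64814 F198337) (tt N64809 (iv2 F198330)) (tt N101299 (iv3 F432577)) (tt N101312 (iv4 F432610)) (tt N35132 F198296) (tt N81949 F366914) (tt N35131 (iv7 D123835)))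
theorem Q64780 : ∀ i, i < 64780 → P i := stepQ 64779 Q64779 (allL N64779 (tt N49041 F361112) (tt N91529 F393506) (tt N77656 F331654) (tt N100407 (iv3 F428836)) (tt N35133 (iv4 D123845)) (tt N101313 D204465) (tt N101314 D204466) (tt N77654 (iv7 F331656)))
theorem Q64781 : ∀ i, i < 64781 → P i := stepQ 64780 Q64780 (allL N64780 (tt N100011 (iv1 F427183)) (tt N42311 F331650) (tt N77657 F331651) (tt N35135 F198305) (tt N101315 D204467) (tt N35133 (iv5 D123846)) (tt N101316 D204468) (tt N69718 F331652))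
theorem Q64782 : ∀ i, i < 64782 → P i := stepQ 64781 Q64781 (allL N64781 (tt N101317 D204469) (tt N73723 (iv0 F359464)) (tt N77658 F331655) (tt N35136 F198306) (tt N101314 (iv4 F432617)) (tt N99988 (iv5 F427070)) (tt N35133 (iv6 D123847)) (tt N69988 (iv7 F353342)))
theorem Q64783 : ∀ i, i < 64783 → P i := stepQ 64782 Q64782 (allL N64782 (tt N35138 (iv1 F198312)) (tt N35134 (iv0 D123849)) (tt N64403 (iv2 F341421)) (tt N79111 (iv3 F341422)) (tt N64407 (iv4 F341423)) (tt N81906 (iv5 F341424)) (tt N64407 (iv6 F341425)) (tt N63907 F341420))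
theorem Q64784 : ∀ i, i < 64784 → P i := stepQ 64783 Q64783 (allL N64783 (tt N63526 (iv1 F355072)) (tt N63521 (iv0 F355071)) (tt N63646 F364974) (tt N35134 (iv3 D123851)) (tt N100407 (iv4 F428835)) (tt N99952 (iv5 F426931)) (tt N69979 (iv6 F364973)) (tt N63647 F364972))
theorem Q64785 : ∀ i, i < 64785 → P i := stepQ 64784 Q64784 (allL N64784 (tt N72259 F341436) (tt N81889 (iv0 F406349)) (tt N101050 (iv2 F431450)) (tt N99952 F426932) (tt N101318 D204470) (tt N35134 (iv5 D123852)) (tt N101319 D204471) (tt N69995 F343234))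
theorem Q64786 : ∀ i, i < 64786 → P i := stepQ 64785 Q64785 (allL N64785 (tt N35139 (iv1 F198317)) (tt N35135 (iv0 D123855)) (tt N69722 (iv2 F362800)) (tt N101320 D204472) (tt N95993 (iv4 F410546)) (tt N38516 F329808) (tt N38519 F329809) (tt N69721 (iv7 F362803)))
theorem Q64787 : ∀ i, i < 64787 → P i := stepQ 64786 Q64786 (allL N64786 (tt N35135 (iv1 D123856)) (tt N35139 F198314) (tt N69721 F362804) (tt N101239 (iv3 F438230)) (tt N93547 (iv4 F401099)) (tt N94921 (iv5 F406345)) (tt N101064 F431506) (tt N69722 F362802))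
theorem Q64788 : ∀ i, i < 64788 → P i := stepQ 64787 Q64787 (allL N64787 (tt N101321 D204474) (tt N101322 D204475) (tt N101051 (iv2 F431456)) (tt N101323 D204476) (tt N35135 (iv4 D123857)) (tt N101324 D204477) (tt N101325 D204478) (tt N59445 (iv7 F365248)))
theorem Q64789 : ∀ i, i < 64789 → P i := stepQ 64788 Q64788 (allL N64788 (tt N72429 (iv1 F363104)) (tt N72428 F363103) (tt N72430 (iv2 F363101)) (tt N101316 (iv3 F432627)) (tt N101325 (iv4 F432657)) (tt N101326 D204479) (tt N35135 (iv6 D123858)) (tt N62253 F363102))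
theorem Q64790 : ∀ i, i < 64790 → P i := stepQ 64789 Q64789 (allL N64789 (tt N35136 (iv1 D123861)) (tt N59272 F342803) (tt N38475 F342804) (tt N84133 (iv3 F368249)) (tt N59313 F342805) (tt N98816 (iv5 F422448)) (tt N38411 F342806) (tt N69989 (iv7 F342815)))
theorem Q64791 : ∀ i, i < 64791 → P i := stepQ 64790 Q64790 (allL N64790 (tt N63952 F198318) (tt N79155 F253212) (tt N79153 F363100) (tt N99988 F427071) (tt N101327 D204480) (tt N35136 (iv5 D123862)) (tt N101326 (iv6 F432663)) (tt N69990 F365244))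
theorem Q64792 : ∀ i, i < 64792 → P i := stepQ 64791 Q64791 (allL N64791 (tt N35137 (iv1 D123866)) (tt N77655 F352388) (tt N86786 (iv2 F377192)) (tt N84153 (iv3 F368351)) (tt N51302 (iv4 F352389)) (tt N91703 (iv5 F394097)) (tt N51301 F352390) (tt N61483 F347684))
theorem Q64793 : ∀ i, i < 64793 → P i := stepQ 64792 Q64792 (allL N64792 (tt N101328 D204481) (tt N101329 D204482) (tt N98114 (iv2 F419510)) (tt N35139 F198320) (tt N101330 D204483) (tt N35137 (iv5 D123869)) (tt N38393 F329925) (tt N98109 (iv7 F419484)))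
theorem Q64794 : ∀ i, i < 64794 → P i := stepQ 64793 Q64793 (allL N64793 (tt N81889 F364407) (tt N72259 (iv0 F343231)) (tt N69995 F341435) (tt N81839 F391060) (tt N81851 (iv4 F391061)) (tt N35138 (iv5 D123872)) (tt N69772 (iv6 F341426)) (tt N101050 (iv7 F431453)))
theorem Q64795 : ∀ i, i < 64795 → P i := stepQ 64794 Q64794 (allL N64794 (tt N101322 (iv1 F432646)) (tt N101321 F432643) (tt N59445 F329926) (tt N101331 D204484) (tt N35139 (iv4 D123874)) (tt N101332 D204485) (tt N38394 F329927) (tt N101051 (iv7 F431458)))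
theorem Q64796 : ∀ i, i < 64796 → P i := stepQ 64795 Q64795 (allL N64795 (tt N77637 (iv1 F355577)) (tt N63754 F355581) (tt N75647 (iv2 F355574)) (tt N35140 (iv3 D123881)) (tt N61001 (iv4 F355576)) (tt N63049 F355573) (tt N61091 F355601) (tt N75576 (iv7 F355575)))
theorem Q64797 : ∀ i, i < 64797 → P i := stepQ 64796 Q64796 (allL N64796 (tt N101333 D204486) (tt N101334 D204487) (tt N101053 (iv2 F431466)) (tt N86104 (iv3 F375428)) (tt N35140 (iv4 D123882)) (tt N99488 (iv5 F424818)) (tt N94607 F405175) (tt N101054 (iv7 F431473)))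
theorem Q64798 : ∀ i, i < 64798 → P i := stepQ 64797 Q64797 (allL N64797 (tt N69902 (iv1 F363292)) (tt N58053 (iv0 F363289)) (tt N69901 F357150) (tt N63049 (iv3 F355572)) (tt N96195 (iv4 F411439)) (tt N35140 (iv5 D123883)) (tt N96213 F411524) (tt N63955 F355569))
theorem Q64799 : ∀ i, i < 64799 → P i := stepQ 64798 Q64798 (allL N64798 (tt N85609 (iv1 F373196)) (tt N50647 F355602) (tt N53469 F355603) (tt N61091 F355604) (tt N94607 (iv4 F405171)) (tt N46747 F355605) (tt N35140 (iv6 D123884)) (tt N53468 F355606))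
theorem Q64800 : ∀ i, i < 64800 → P i := stepQ 64799 Q64799 (allL N64799 (tt N101195 (iv1 F432135)) (tt N91703 F432136) (tt N101335 D204488) (tt N35141 (iv3 D123886)) (tt N101336 D204489) (tt N101337 D204490) (tt N101338 D204491) (tt N101052 (iv7 F431464)))
theorem Q64801 : ∀ i, i < 64801 → P i := stepQ 64800 Q64800 (allL N64800 (tt N101334 (iv1 F432685)) (tt N101333 F432683) (tt N101054 (iv2 F431470)) (tt N96503 (iv3 F412783)) (tt N35141 (iv4 D123887)) (tt N101339 D204492) (tt N59518 F363296) (tt N101053 (iv7 F431468)))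
theorem Q64802 : ∀ i, i < 64802 → P i := stepQ 64801 Q64801 (allL N64801 (tt N58053 (iv1 F363290)) (tt N69902 F363291) (tt N63955 (iv2 F355566)) (tt N101337 (iv3 F432694)) (tt N96196 (iv4 F411448)) (tt N35141 (iv5 D123888)) (tt N63895 (iv6 F198326)) (tt N69901 F357151))
theorem Q64803 : ∀ i, i < 64803 → P i := stepQ 64802 Q64802 (allL N64802 (tt N66414 F363294) (tt N95241 (iv0 F407553)) (tt N95951 (iv2 F410399)) (tt N101338 (iv3 F432698)) (tt N59518 (iv4 F363295)) (tt N95684 (iv5 F409131)) (tt N35141 (iv6 D123889)) (tt N95950 F410393))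
theorem Q64804 : ∀ i, i < 64804 → P i := stepQ 64803 Q64803 (allL N64803 (tt N101056 (iv1 F431482)) (tt N35142 (iv0 D123890)) (tt N99335 (iv2 F424147)) (tt N73097 F384911) (tt N89037 (iv4 F384912)) (tt N97021 (iv5 F415067)) (tt N89036 F384909) (tt N73094 (iv7 F384910)))
theorem Q64805 : ∀ i, i < 64805 → P i := stepQ 64804 Q64804 (allL N64804 (tt N35142 (iv1 D123891)) (tt N101056 F431481) (tt N73094 F364128) (tt N93864 (iv3 F402195)) (tt N99517 (iv4 F424954)) (tt N93863 F402192) (tt N73092 (iv6 F364127)) (tt N99335 (iv7 F424151)))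
theorem Q64806 : ∀ i, i < 64806 → P i := stepQ 64805 Q64805 (allL N64805 (tt N77504 (iv1 F471584)) (tt N101340 D204494) (tt N101341 D204495) (tt N35142 (iv3 D123892)) (tt N101247 (iv4 F432392)) (tt N91603 (iv5 F393760)) (tt N35174 F198327) (tt N101342 D204496))
theorem Q64807 : ∀ i, i < 64807 → P i := stepQ 64806 Q64806 (allL N64806 (tt N96716 F413592) (tt N56830 (iv0 F365204)) (tt N96719 F413596) (tt N91603 F393759) (tt N101343 D204497) (tt N35142 (iv5 D123893)) (tt N101344 D204498) (tt N96720 (iv7 F413601)))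
theorem Q64808 : ∀ i, i < 64808 → P i := stepQ 64807 Q64807 (allL N64807 (tt N73094 (iv1 F364124)) (tt N99335 (iv0 F424152)) (tt N101056 (iv2 F431477)) (tt N101342 (iv3 F432705)) (tt N35143 F198328) (tt N96720 F413602) (tt N96630 F413256) (tt N35142 (iv7 D123894)))
theorem Q64809 : ∀ i, i < 64809 → P i := stepQ 64808 Q64808 (allL N64808 (tt N95022 (iv1 F406690)) (tt N40074 F363106) (tt N95021 F406682) (tt N101250 (iv3 F432400)) (tt N96630 F413255) (tt N101345 D204499) (tt N35143 (iv6 D123895)) (tt N35177 F198329))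
theorem Q64810 : ∀ i, i < 64810 → P i := stepQ 64809 Q64809 (allL N64809 (tt N64776 (iv1 F198333)) (tt N64775 F198334) (tt N64778 F198330) (tt N43784 F198331) (tt N101346 D204500) (tt N35144 (iv5 D123896)) (tt N101345 (iv6 F432714)) (tt N35147 F198332))
theorem Q64811 : ∀ i, i < 64811 → P i := stepQ 64810 Q64810 (allL N64810 (tt N64407 F341512) (tt N45549 F341513) (tt N64405 (iv2 F354942)) (tt N62859 (iv3 F341507)) (tt N35145 (iv4 D123899)) (tt N59049 F341505) (tt N62858 F341506) (tt N58978 (iv7 F341499)))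
theorem Q64812 : ∀ i, i < 64812 → P i := stepQ 64811 Q64811 (allL N64811 (tt N96274 (iv1 F411830)) (tt N49111 F362807) (tt N64771 F341498) (tt N75132 F363299) (tt N101347 D204501) (tt N35145 (iv5 D123900)) (tt N101348 D204502) (tt N64774 (iv7 F341500)))
theorem Q64813 : ∀ i, i < 64813 → P i := stepQ 64812 Q64812 (allL N64812 (tt N45549 F341510) (tt N64407 F341511) (tt N58978 F341502) (tt N45109 F346101) (tt N35146 (iv4 D123904)) (tt N58968 F341503) (tt N44335 F341504) (tt N64405 (iv7 F354944)))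
theorem Q64814 : ∀ i, i < 64814 → P i := stepQ 64813 Q64813 (allL N64813 (tt N49111 F362806) (tt N96274 (iv0 F411831)) (tt N64774 F341501) (tt N53175 F358616) (tt N101349 D204503) (tt N35146 (iv5 D123905)) (tt N94918 (iv6 F406333)) (tt N64771 F341490))
theorem Q64815 : ∀ i, i < 64815 → P i := stepQ 64814 Q64814 (allL N64814 (tt N64778 (iv1 F198337)) (tt N35147 (iv0 D123907)) (tt N64775 (iv2 F370314)) (tt N101350 D204504) (tt N101351 D204505) (tt N96209 (iv5 F411502)) (tt N83351 (iv6 F411839)) (tt N64776 F370315))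
theorem Q64816 : ∀ i, i < 64816 → P i := stepQ 64815 Q64815 (allL N64815 (tt N35147 (iv1 D123908)) (tt N64778 F198338) (tt N64776 F370313) (tt N54813 (iv3 F358595)) (tt N101352 D204506) (tt N85820 (iv5 F374105)) (tt N101353 D204507) (tt N64775 (iv7 F370312)))
theorem Q64817 : ∀ i, i < 64817 → P i := stepQ 64816 Q64816 (allL N64816 (tt N101354 D204508) (tt N101355 D204509) (tt N64777 F198339) (tt N101356 D204510) (tt N35147 (iv4 D123909)) (tt N101357 D204511) (tt N35185 F198340) (tt N101346 (iv7 F432722)))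
theorem Q64818 : ∀ i, i < 64818 → P i := stepQ 64817 Q64817 (allL N64817 (tt N38266 F314231) (tt N35166 F314887) (tt N68276 F314232) (tt N71291 F314233) (tt N101358 D204512) (tt N35148 (iv5 D123913)) (tt N101359 D204513) (tt N68277 F314234))
theorem Q64819 : ∀ i, i < 64819 → P i := stepQ 64818 Q64818 (allL N64818 (tt N37470 F314898) (tt N35149 (iv0 D123927)) (tt N69566 F314899) (tt N88378 (iv3 F382809)) (tt N61395 (iv4 F356873)) (tt N36429 F314900) (tt N61394 F356969) (tt N69567 F314901))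
theorem Q64820 : ∀ i, i < 64820 → P i := stepQ 64819 Q64819 (allL N64819 (tt N35149 (iv1 D123928)) (tt N37470 F314902) (tt N69567 F314903) (tt N101360 D204514) (tt N74488 (iv4 F356869)) (tt N37379 F314904) (tt N69716 F356868) (tt N69566 F314905))
theorem Q64821 : ∀ i, i < 64821 → P i := stepQ 64820 Q64820 (allL N64820 (tt N91723 (iv1 F394184)) (tt N92995 (iv0 F399057)) (tt N69613 F314906) (tt N83754 (iv3 F352839)) (tt N35149 (iv4 D123929)) (tt N37457 F314907) (tt N101361 D204515) (tt N69586 F314908))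
theorem Q64822 : ∀ i, i < 64822 → P i := stepQ 64821 Q64821 (allL N64821 (tt N101362 D204516) (tt N101363 D204517) (tt N69614 (iv2 F366747)) (tt N35154 F198353) (tt N101361 (iv4 F432781)) (tt N101364 D204518) (tt N35149 (iv6 D123930)) (tt N101365 D204519))
theorem Q64823 : ∀ i, i < 64823 → P i := stepQ 64822 Q64822 (allL N64822 (tt N69616 (iv1 F306371)) (tt N35150 (iv0 D123931)) (tt N69615 (iv2 F342006)) (tt N57440 (iv3 F342008)) (tt N46599 F341993) (tt N100611 (iv5 F429698)) (tt N89158 (iv6 F385388)) (tt N57438 F342007))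
theorem Q64824 : ∀ i, i < 64824 → P i := stepQ 64823 Q64823 (allL N64823 (tt N35150 (iv1 D123932)) (tt N69616 (iv0 F306370)) (tt N57438 F314262) (tt N77247 F314263) (tt N82555 F314264) (tt N100612 (iv5 F429705)) (tt N46679 F314265) (tt N69615 (iv7 F342005)))
theorem Q64825 : ∀ i, i < 64825 → P i := stepQ 64824 Q64824 (allL N64824 (tt N75573 F357329) (tt N75586 F357331) (tt N67868 F352313) (tt N35155 F198354) (tt N67864 (iv4 F352312)) (tt N35150 (iv5 D123933)) (tt N101364 (iv6 F432789)) (tt N63976 (iv7 F198355)))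
theorem Q64826 : ∀ i, i < 64826 → P i := stepQ 64825 Q64825 (allL N64825 (tt N86057 F390618) (tt N101366 D204520) (tt N101367 D204521) (tt N35153 (iv3 D123944)) (tt N83754 F352842) (tt N100628 (iv5 F429759)) (tt N86119 (iv6 F412283)) (tt N101061 (iv7 F431496)))
theorem Q64827 : ∀ i, i < 64827 → P i := stepQ 64826 Q64826 (allL N64826 (tt N58711 (iv1 F360060)) (tt N58701 (iv0 F360059)) (tt N59951 (iv2 F360050)) (tt N86119 F412281) (tt N35154 F198375) (tt N58616 F360056) (tt N35153 (iv6 D123945)) (tt N59949 (iv7 F360058)))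
theorem Q64828 : ∀ i, i < 64828 → P i := stepQ 64827 Q64827 (allL N64827 (tt N95233 (iv1 F407524)) (tt N38736 F360077) (tt N63980 F198376) (tt N101364 (iv3 F432788)) (tt N58686 F360048) (tt N35154 (iv5 D123948)) (tt N35155 F198377) (tt N95238 (iv7 F407544)))
theorem Q64829 : ∀ i, i < 64829 → P i := stepQ 64828 Q64828 (allL N64828 (tt N95229 (iv1 F407509)) (tt N95217 F407460) (tt N96673 F413392) (tt N101365 (iv3 F432790)) (tt N59949 F360072) (tt N95238 (iv5 F407540)) (tt N101065 (iv6 F431511)) (tt N35154 (iv7 D123949)))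
theorem Q64830 : ∀ i, i < 64830 → P i := stepQ 64829 Q64829 (allL N64829 (tt N65361 F304363) (tt N65363 F304364) (tt N63979 F198378) (tt N101368 D204522) (tt N35155 (iv4 D123950)) (tt N64499 F198380) (tt N58686 (iv6 F360046)) (tt N63977 F198379))
theorem Q64831 : ∀ i, i < 64831 → P i := stepQ 64830 Q64830 (allL N64830 (tt N67032 F206390) (tt N70475 (iv0 F354627)) (tt N67821 (iv2 F315810)) (tt N47595 F303629) (tt N35156 (iv4 D123958)) (tt N68313 F357922) (tt N67016 F303630) (tt N66989 (iv7 F357921)))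
theorem Q64832 : ∀ i, i < 64832 → P i := stepQ 64831 Q64831 (allL N64831 (tt N35169 F358064) (tt N68037 (iv0 F357925)) (tt N101057 (iv2 F431483)) (tt N54033 F357947) (tt N70341 (iv4 F357924)) (tt N35156 (iv5 D123959)) (tt N101369 D204523) (tt N101009 (iv7 F431251)))
theorem Q64833 : ∀ i, i < 64833 → P i := stepQ 64832 Q64832 (allL N64832 (tt N89088 (iv1 F385115)) (tt N76081 (iv0 F355371)) (tt N35159 F198384) (tt N37470 F315061) (tt N101370 D204524) (tt N35157 (iv5 D123962)) (tt N101371 D204525) (tt N69198 F315062))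
theorem Q64834 : ∀ i, i < 64834 → P i := stepQ 64833 Q64833 (allL N64833 (tt N47277 F334682) (tt N80922 F344936) (tt N37167 F315287) (tt N45695 F198387) (tt N35160 F198388) (tt N48257 (iv5 F322580)) (tt N35158 (iv6 D123967)) (tt N47010 (iv7 F303644)))
theorem Q64835 : ∀ i, i < 64835 → P i := stepQ 64834 Q64834 (allL N64834 (tt N69198 F366656) (tt N35159 (iv0 D123968)) (tt N89088 (iv2 F385109)) (tt N76090 F366653) (tt N94586 (iv4 F405072)) (tt N69328 (iv5 F366652)) (tt N72423 F366654) (tt N76081 F366655))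
theorem Q64836 : ∀ i, i < 64836 → P i := stepQ 64835 Q64835 (allL N64835 (tt N101372 D204526) (tt N101373 D204527) (tt N101370 (iv2 F432803)) (tt N101374 D204528) (tt N35159 (iv4 D123970)) (tt N69192 F366658) (tt N101375 D204529) (tt N101058 (iv7 F431488)))
theorem Q64837 : ∀ i, i < 64837 → P i := stepQ 64836 Q64836 (allL N64836 (tt N101376 D204530) (tt N101377 D204531) (tt N101371 (iv2 F432804)) (tt N35163 F198389) (tt N101375 (iv4 F432807)) (tt N101378 D204532) (tt N35159 (iv6 D123971)) (tt N101379 D204533))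
theorem Q64838 : ∀ i, i < 64838 → P i := stepQ 64837 Q64837 (allL N64837 (tt N88479 (iv1 F383234)) (tt N88482 (iv0 F383231)) (tt N90510 (iv2 F389890)) (tt N35164 F198390) (tt N89535 (iv4 F386728)) (tt N35160 (iv5 D123974)) (tt N101378 (iv6 F432809)) (tt N80508 (iv7 F268111)))
theorem Q64839 : ∀ i, i < 64839 → P i := stepQ 64838 Q64838 (allL N64838 (tt N101380 D204534) (tt N77533 (iv0 F432820)) (tt N101381 D204536) (tt N35162 (iv3 D123976)) (tt N101374 (iv4 F432806)) (tt N100624 (iv5 F429750)) (tt N101382 D204537) (tt N101060 (iv7 F431494)))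
theorem Q64840 : ∀ i, i < 64840 → P i := stepQ 64839 Q64839 (allL N64839 (tt N101383 D204538) (tt N101384 D204539) (tt N101062 (iv2 F431497)) (tt N101382 (iv3 F432821)) (tt N35163 F198392) (tt N101385 D204540) (tt N35162 (iv6 D123977)) (tt N101386 D204541))
theorem Q64841 : ∀ i, i < 64841 → P i := stepQ 64840 Q64840 (allL N64840 (tt N101065 (iv1 F431513)) (tt N35163 (iv0 D123978)) (tt N101063 F431501) (tt N91691 (iv3 F394058)) (tt N95725 (iv4 F436651)) (tt N101387 D204543) (tt N91688 F394048) (tt N101064 (iv7 F431505)))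
theorem Q64842 : ∀ i, i < 64842 → P i := stepQ 64841 Q64841 (allL N64841 (tt N35163 (iv1 D123979)) (tt N101065 F431512) (tt N101064 (iv2 F431507)) (tt N101388 D204544) (tt N93598 F401234) (tt N101285 (iv5 F432528)) (tt N69721 (iv6 F363298)) (tt N101063 F431502))
theorem Q64843 : ∀ i, i < 64843 → P i := stepQ 64842 Q64842 (allL N64842 (tt N82683 F364136) (tt N101389 D204545) (tt N80507 (iv2 F268108)) (tt N101378 (iv3 F432808)) (tt N101390 D204546) (tt N35163 (iv5 D123980)) (tt N35164 F198393) (tt N101391 D204547))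
theorem Q64844 : ∀ i, i < 64844 → P i := stepQ 64843 Q64843 (allL N64843 (tt N101064 (iv1 F431504)) (tt N101063 (iv0 F431503)) (tt N101065 (iv2 F431508)) (tt N101379 (iv3 F432814)) (tt N101386 (iv4 F432826)) (tt N101391 (iv5 F432835)) (tt N96673 F413395) (tt N35163 (iv7 D123981)))
theorem Q64845 : ∀ i, i < 64845 → P i := stepQ 64844 Q64844 (allL N64844 (tt N80316 (iv1 F304437)) (tt N82292 F366889) (tt N80506 (iv2 F268104)) (tt N96264 (iv3 F411794)) (tt N35164 (iv4 D123982)) (tt N80506 (iv5 F268105)) (tt N101390 (iv6 F432834)) (tt N80509 (iv7 F268112)))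
theorem Q64846 : ∀ i, i < 64846 → P i := stepQ 64845 Q64845 (allL N64845 (tt N78301 F314239) (tt N78293 F314240) (tt N68278 F314241) (tt N51074 (iv3 F374377)) (tt N35166 (iv4 D123986)) (tt N38207 F314242) (tt N101392 D204548) (tt N68146 F314243))
theorem Q64847 : ∀ i, i < 64847 → P i := stepQ 64846 Q64846 (allL N64846 (tt N101393 D204549) (tt N88889 (iv0 F384438)) (tt N68279 F366698) (tt N35168 F198395) (tt N101392 (iv4 F432837)) (tt N69906 F358468) (tt N35166 (iv6 D123988)) (tt N101394 D204550))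
theorem Q64848 : ∀ i, i < 64848 → P i := stepQ 64847 Q64847 (allL N64847 (tt N35170 (iv1 F198398)) (tt N35167 (iv0 D123989)) (tt N64895 (iv2 F198470)) (tt N101395 D204551) (tt N48203 F304462) (tt N48189 F304463) (tt N96443 F412539) (tt N64532 (iv7 F198399)))
theorem Q64849 : ∀ i, i < 64849 → P i := stepQ 64848 Q64848 (allL N64848 (tt N35167 (iv1 D123990)) (tt N35170 F198400) (tt N64532 (iv2 F198401)) (tt N101266 F432450) (tt N45550 (iv4 F198402)) (tt N48185 F303324) (tt N101334 F432687) (tt N64895 (iv7 F198471)))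
theorem Q64850 : ∀ i, i < 64850 → P i := stepQ 64849 Q64849 (allL N64849 (tt N85868 (iv1 F374384)) (tt N86081 F375068) (tt N86079 F375065) (tt N35167 (iv3 D123991)) (tt N51074 F374383) (tt N90717 (iv5 F390626)) (tt N101396 D204552) (tt N86078 F375377))
theorem Q64851 : ∀ i, i < 64851 → P i := stepQ 64850 Q64850 (allL N64850 (tt N59548 (iv1 F360054)) (tt N59357 F350347) (tt N59545 F357725) (tt N101396 (iv3 F432843)) (tt N35168 F198403) (tt N96583 (iv5 F413079)) (tt N35167 (iv6 D123992)) (tt N59546 (iv7 F357727)))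
theorem Q64852 : ∀ i, i < 64852 → P i := stepQ 64851 Q64851 (allL N64851 (tt N69707 (iv1 F343842)) (tt N38739 F328923) (tt N69904 F328924) (tt N101394 (iv3 F432838)) (tt N59546 F357728) (tt N58042 F328925) (tt N101071 (iv6 F431539)) (tt N35168 (iv7 D123996)))
theorem Q64853 : ∀ i, i < 64853 → P i := stepQ 64852 Q64852 (allL N64852 (tt N101009 (iv1 F431254)) (tt N101057 (iv0 F431486)) (tt N35169 (iv2 D123999)) (tt N38266 F358060) (tt N101397 D204553) (tt N38088 F358061) (tt N71128 (iv6 F346573)) (tt N68037 F358062))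
theorem Q64854 : ∀ i, i < 64854 → P i := stepQ 64853 Q64853 (allL N64853 (tt N101398 D204554) (tt N101399 D204555) (tt N101397 (iv2 F432846)) (tt N101400 D204556) (tt N35169 (iv4 D124000)) (tt N68316 F358065) (tt N81427 F344854) (tt N101066 (iv7 F431514)))
theorem Q64855 : ∀ i, i < 64855 → P i := stepQ 64854 Q64854 (allL N64854 (tt N68911 F344856) (tt N54508 (iv0 F354507)) (tt N71128 (iv2 F346571)) (tt N35171 F198406) (tt N81427 (iv4 F344853)) (tt N61911 (iv5 F344851)) (tt N35169 (iv6 D124002)) (tt N71129 (iv7 F346580)))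
theorem Q64856 : ∀ i, i < 64856 → P i := stepQ 64855 Q64855 (allL N64855 (tt N101401 D204557) (tt N101402 D204558) (tt N101403 D204559) (tt N35170 (iv3 D124003)) (tt N101400 (iv4 F432854)) (tt N100618 (iv5 F429722)) (tt N101404 D204560) (tt N101068 (iv7 F431526)))
theorem Q64857 : ∀ i, i < 64857 → P i := stepQ 64856 Q64856 (allL N64856 (tt N101405 D204561) (tt N93346 (iv0 F400482)) (tt N101069 (iv2 F431527)) (tt N101404 (iv3 F432859)) (tt N35171 F198407) (tt N101406 D204562) (tt N35170 (iv6 D124004)) (tt N101407 D204563))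
theorem Q64858 : ∀ i, i < 64858 → P i := stepQ 64857 Q64857 (allL N64857 (tt N101071 (iv1 F431541)) (tt N35171 (iv0 D124005)) (tt N101070 F431533) (tt N85613 (iv3 F400485)) (tt N58345 F400483) (tt N101408 D204564) (tt N99381 F424366) (tt N85610 (iv7 F400484)))
theorem Q64859 : ∀ i, i < 64859 → P i := stepQ 64858 Q64858 (allL N64858 (tt N35171 (iv1 D124006)) (tt N101071 F431540) (tt N85610 (iv2 F373200)) (tt N101409 D204565) (tt N58342 F373199) (tt N101410 D204566) (tt N85609 (iv6 F373198)) (tt N101070 (iv7 F431535)))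
theorem Q64860 : ∀ i, i < 64860 → P i := stepQ 64859 Q64859 (allL N64859 (tt N101411 D204567) (tt N101412 D204568) (tt N79157 (iv2 F253225)) (tt N61911 (iv3 F344849)) (tt N82105 (iv4 F344858)) (tt N35171 (iv5 D124007)) (tt N79142 (iv6 F253131)) (tt N71168 (iv7 F344820)))
theorem Q64861 : ∀ i, i < 64861 → P i := stepQ 64860 Q64860 (allL N64860 (tt N85610 F373204) (tt N101070 F431536) (tt N101071 (iv2 F431537)) (tt N71129 (iv3 F346578)) (tt N101407 (iv4 F432867)) (tt N71168 (iv5 F344818)) (tt N69904 (iv6 F331014)) (tt N35171 (iv7 D124008)))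
theorem Q64862 : ∀ i, i < 64862 → P i := stepQ 64861 Q64861 (allL N64861 (tt N58342 F363278) (tt N58345 F363280) (tt N70879 F363277) (tt N35172 (iv3 D124010)) (tt N70876 (iv4 F363276)) (tt N73513 (iv5 F363279)) (tt N96365 F412251) (tt N99329 (iv7 F424126)))
theorem Q64863 : ∀ i, i < 64863 → P i := stepQ 64862 Q64862 (allL N64862 (tt N101413 D204569) (tt N101414 D204570) (tt N71093 (iv2 F366024)) (tt N35173 (iv3 D124013)) (tt N71090 F366023) (tt N92969 (iv5 F398958)) (tt N71093 (iv6 F366022)) (tt N100653 (iv7 F429860)))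
theorem Q64864 : ∀ i, i < 64864 → P i := stepQ 64863 Q64863 (allL N64863 (tt N58345 (iv1 F359224)) (tt N58342 (iv0 F351229)) (tt N99329 F424124) (tt N71093 F366021) (tt N44922 F306415) (tt N82424 (iv5 F345425)) (tt N35173 (iv6 D124014)) (tt N70879 F363281))
theorem Q64865 : ∀ i, i < 64865 → P i := stepQ 64864 Q64864 (allL N64864 (tt N101415 D204571) (tt N35174 (iv0 D124015)) (tt N101416 D204572) (tt N100836 (iv3 F430710)) (tt N100837 F430709) (tt N101417 D204573) (tt N96654 F430711) (tt N101418 D204574))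
theorem Q64866 : ∀ i, i < 64866 → P i := stepQ 64865 Q64865 (allL N64865 (tt N35174 (iv1 D124016)) (tt N101415 F432906) (tt N101418 (iv2 F432909)) (tt N101419 D204575) (tt N101420 D204576) (tt N101421 D204577) (tt N101422 D204578) (tt N101416 F432907))
theorem Q64867 : ∀ i, i < 64867 → P i := stepQ 64866 Q64866 (allL N64866 (tt N101416 (iv1 F432916)) (tt N101418 F432915) (tt N35174 (iv2 D124017)) (tt N101073 (iv3 F431543)) (tt N101262 (iv4 F432439)) (tt N101423 D204579) (tt N101341 (iv6 F432704)) (tt N101415 (iv7 F432905)))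
theorem Q64868 : ∀ i, i < 64868 → P i := stepQ 64867 Q64867 (allL N64867 (tt N101424 D204580) (tt N77127 (iv0 F432943)) (tt N101423 (iv2 F432936)) (tt N35175 F198410) (tt N101425 D204582) (tt N35174 (iv5 D124018)) (tt N101426 D204583) (tt N82278 (iv7 F366868)))
theorem Q64869 : ∀ i, i < 64869 → P i := stepQ 64868 Q64868 (allL N64868 (tt N101418 F432913) (tt N101416 F432914) (tt N101415 F432904) (tt N35176 F198411) (tt N101264 (iv4 F432442)) (tt N82278 F366869) (tt N101427 D204584) (tt N35174 (iv7 D124019)))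
theorem Q64870 : ∀ i, i < 64870 → P i := stepQ 64869 Q64869 (allL N64869 (tt N95200 F407385) (tt N101428 D204585) (tt N82277 (iv2 F366870)) (tt N101426 (iv3 F432941)) (tt N100570 (iv4 F429513)) (tt N101344 (iv5 F432708)) (tt N35175 (iv6 D124020)) (tt N101429 D204586))
theorem Q64871 : ∀ i, i < 64871 → P i := stepQ 64870 Q64870 (allL N64870 (tt N59411 F364126) (tt N96632 F413253) (tt N96631 (iv2 F413248)) (tt N101427 (iv3 F432946)) (tt N35177 F198412) (tt N99313 (iv5 F424061)) (tt N35176 (iv6 D124021)) (tt N96630 (iv7 F413254)))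
theorem Q64872 : ∀ i, i < 64872 → P i := stepQ 64871 Q64871 (allL N64871 (tt N35177 (iv1 D124023)) (tt N95021 F406684) (tt N95022 (iv2 F406685)) (tt N101430 D204587) (tt N96445 (iv4 F412552)) (tt N101431 D204588) (tt N99384 (iv6 F424360)) (tt N40074 F364224))
theorem Q64873 : ∀ i, i < 64873 → P i := stepQ 64872 Q64872 (allL N64872 (tt N101432 D204589) (tt N90880 (iv0 F391138)) (tt N47872 F304594) (tt N43810 F198413) (tt N101433 D204590) (tt N35177 (iv5 D124024)) (tt N35178 F198414) (tt N101345 (iv7 F432715)))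
theorem Q64874 : ∀ i, i < 64874 → P i := stepQ 64873 Q64873 (allL N64873 (tt N100637 (iv1 F429784)) (tt N100908 F430920) (tt N47871 F304593) (tt N101434 D204591) (tt N35178 (iv4 D124025)) (tt N100916 (iv5 F430952)) (tt N101433 (iv6 F432966)) (tt N35185 F198415))
theorem Q64875 : ∀ i, i < 64875 → P i := stepQ 64874 Q64874 (allL N64874 (tt N101435 D204592) (tt N101436 D204593) (tt N101163 (iv2 F432008)) (tt N35180 F198416) (tt N101437 D204594) (tt N35179 (iv5 D124029)) (tt N101438 D204595) (tt N82541 F304481))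
theorem Q64876 : ∀ i, i < 64876 → P i := stepQ 64875 Q64875 (allL N64875 (tt N89148 F385344) (tt N89163 F385407) (tt N78366 (iv2 F351870)) (tt N35181 F198417) (tt N45715 F304177) (tt N101439 D204596) (tt N35179 (iv6 D124030)) (tt N46680 F304178))
theorem Q64877 : ∀ i, i < 64877 → P i := stepQ 64876 Q64876 (allL N64876 (tt N35182 (iv1 F198419)) (tt N35180 (iv0 D124031)) (tt N49051 F310413) (tt N101440 D204597) (tt N47865 F302095) (tt N47884 F302096) (tt N83401 F364084) (tt N82542 F302097))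
theorem Q64878 : ∀ i, i < 64878 → P i := stepQ 64877 Q64877 (allL N64877 (tt N35180 (iv1 D124032)) (tt N35182 F198421) (tt N82542 F303654) (tt N43789 F241697) (tt N47864 F303655) (tt N47881 (iv5 F304030)) (tt N101206 (iv6 F432194)) (tt N49051 F310358))
theorem Q64879 : ∀ i, i < 64879 → P i := stepQ 64878 Q64878 (allL N64878 (tt N81847 F304482) (tt N81846 F304483) (tt N81916 F304484) (tt N101441 D204598) (tt N35180 (iv4 D124033)) (tt N101442 D204599) (tt N101443 D204600) (tt N81917 F304485))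
theorem Q64880 : ∀ i, i < 64880 → P i := stepQ 64879 Q64879 (allL N64879 (tt N101444 D204601) (tt N101445 D204602) (tt N100907 (iv2 F430914)) (tt N101438 (iv3 F432972)) (tt N101443 (iv4 F432984)) (tt N101446 D204603) (tt N35180 (iv6 D124034)) (tt N90874 (iv7 F391122)))
theorem Q64881 : ∀ i, i < 64881 → P i := stepQ 64880 Q64880 (allL N64880 (tt N45336 F198426) (tt N45352 (iv0 F198427)) (tt N45350 F198424) (tt N101439 (iv3 F432973)) (tt N100947 (iv4 F431072)) (tt N35181 (iv5 D124035)) (tt N101446 (iv6 F432988)) (tt N45349 F198425))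
theorem Q64882 : ∀ i, i < 64882 → P i := stepQ 64881 Q64881 (allL N64881 (tt N81846 F303657) (tt N81847 F303658) (tt N81917 F303659) (tt N76818 (iv3 F356036)) (tt N35182 (iv4 D124042)) (tt N76814 F356035) (tt N89312 (iv6 F386045)) (tt N81916 F303660))
theorem Q64883 : ∀ i, i < 64883 → P i := stepQ 64882 Q64882 (allL N64882 (tt N101166 F432014) (tt N101010 (iv0 F431256)) (tt N101164 F432011) (tt N35183 (iv3 D124044)) (tt N101447 D204604) (tt N100617 (iv5 F429719)) (tt N101448 D204605) (tt N100616 F429715))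
theorem Q64884 : ∀ i, i < 64884 → P i := stepQ 64883 Q64883 (allL N64883 (tt N81843 F304470) (tt N64527 F198432) (tt N81901 F304471) (tt N101449 D204606) (tt N35183 (iv4 D124045)) (tt N101450 D204607) (tt N101451 D204608) (tt N81902 F304472))
theorem Q64885 : ∀ i, i < 64885 → P i := stepQ 64884 Q64884 (allL N64884 (tt N95006 (iv1 F406625)) (tt N77163 F349420) (tt N96205 (iv2 F411484)) (tt N101448 (iv3 F432989)) (tt N101451 (iv4 F433004)) (tt N39938 F336654) (tt N35183 (iv6 D124046)) (tt N96203 (iv7 F411473)))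
theorem Q64886 : ∀ i, i < 64886 → P i := stepQ 64885 Q64885 (allL N64885 (tt N86785 (iv1 F390225)) (tt N81379 F390226) (tt N90604 F390230) (tt N35184 (iv3 D124047)) (tt N54817 (iv4 F390227)) (tt N100565 (iv5 F429485)) (tt N101452 D204609) (tt N90603 (iv7 F390224)))
theorem Q64887 : ∀ i, i < 64887 → P i := stepQ 64886 Q64886 (allL N64886 (tt N64527 F198433) (tt N81843 F304473) (tt N81902 F304474) (tt N101453 D204610) (tt N35184 (iv4 D124048)) (tt N101454 D204611) (tt N101455 D204612) (tt N81901 F304475))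
theorem Q64888 : ∀ i, i < 64888 → P i := stepQ 64887 Q64887 (allL N64887 (tt N49087 F306745) (tt N101456 D204613) (tt N100621 (iv2 F429736)) (tt N101452 (iv3 F433005)) (tt N101455 (iv4 F433024)) (tt N100566 (iv5 F429491)) (tt N35184 (iv6 D124049)) (tt N101457 D204614))
theorem Q64889 : ∀ i, i < 64889 → P i := stepQ 64888 Q64888 (allL N64888 (tt N47871 F306746) (tt N35185 (iv0 D124050)) (tt N100908 F430919) (tt N101354 F432755) (tt N47851 F306747) (tt N101458 D204615) (tt N101459 D204616) (tt N100637 (iv7 F429782)))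
theorem Q64890 : ∀ i, i < 64890 → P i := stepQ 64889 Q64889 (allL N64889 (tt N35185 (iv1 D124051)) (tt N47871 F306748) (tt N100637 (iv2 F429781)) (tt N101460 D204617) (tt N47852 F306749) (tt N101461 D204618) (tt N101462 D204619) (tt N100908 (iv7 F430921)))
theorem Q64891 : ∀ i, i < 64891 → P i := stepQ 64890 Q64890 (allL N64890 (tt N101463 D204620) (tt N101464 D204621) (tt N101465 D204622) (tt N35185 (iv3 D124052)) (tt N43807 F198434) (tt N77965 (iv5 F457388)) (tt N101356 (iv6 F432763)) (tt N101434 (iv7 F432968)))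
theorem Q64892 : ∀ i, i < 64892 → P i := stepQ 64891 Q64891 (allL N64891 (tt N47898 F306750) (tt N47867 F306751) (tt N100910 (iv2 F430923)) (tt N77965 (iv3 F457387)) (tt N47874 F306752) (tt N35185 (iv5 D124053)) (tt N101466 D204624) (tt N100916 (iv7 F430953)))
theorem Q64893 : ∀ i, i < 64893 → P i := stepQ 64892 Q64892 (allL N64892 (tt N48465 F309848) (tt N35186 (iv0 D124054)) (tt N48476 F311153) (tt N68479 F310013) (tt N76478 F310014) (tt N44524 F310015) (tt N81370 (iv6 F348226)) (tt N48455 F311162))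
theorem Q64894 : ∀ i, i < 64894 → P i := stepQ 64893 Q64893 (allL N64893 (tt N47429 (iv1 F198464)) (tt N35188 (iv0 D124065)) (tt N53119 (iv2 F310439)) (tt N46991 F198463) (tt N80718 F310426) (tt N53211 F310427) (tt N53131 F310428) (tt N49464 (iv7 F310436)))
theorem Q64895 : ∀ i, i < 64895 → P i := stepQ 64894 Q64894 (allL N64894 (tt N53119 (iv1 F310438)) (tt N49464 (iv0 F310433)) (tt N35188 (iv2 D124067)) (tt N53086 F198465) (tt N46999 F310386) (tt N89043 (iv5 F384936)) (tt N46997 F310387) (tt N47429 F198467))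
theorem Q64896 : ∀ i, i < 64896 → P i := stepQ 64895 Q64895 (allL N64895 (tt N64506 F198472) (tt N64504 F198473) (tt N64847 F198470) (tt N101467 D204625) (tt N35189 (iv4 D124069)) (tt N65361 F305163) (tt N96546 F412933) (tt N64848 F198471))
theorem Q64897 : ∀ i, i < 64897 → P i := stepQ 64896 Q64896 (allL N64896 (tt N40547 F343242) (tt N72543 F343243) (tt N72541 (iv2 F343236)) (tt N89727 (iv3 F387333)) (tt N96546 F412936) (tt N47856 F305165) (tt N35189 (iv6 D124070)) (tt N72540 (iv7 F343251)))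
theorem Q64898 : ∀ i, i < 64898 → P i := stepQ 64897 Q64897 (allL N64897 (tt N70503 F314445) (tt N35382 (iv0 F198476)) (tt N67952 F314446) (tt N35190 (iv3 D124072)) (tt N37423 (iv4 F315057)) (tt N101468 D204626) (tt N43820 F363620) (tt N43650 F312104))
theorem Q64899 : ∀ i, i < 64899 → P i := stepQ 64898 Q64898 (allL N64898 (tt N43118 F314461) (tt N43013 F314462) (tt N37485 F314463) (tt N67904 F314464) (tt N35190 (iv4 D124073)) (tt N44545 F314465) (tt N74934 F314466) (tt N43117 F314467))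
theorem Q64900 : ∀ i, i < 64900 → P i := stepQ 64899 Q64899 (allL N64899 (tt N71301 (iv1 F342613)) (tt N71288 (iv0 F342611)) (tt N71296 (iv2 F337495)) (tt N101468 (iv3 F433049)) (tt N101469 D204627) (tt N35190 (iv5 D124074)) (tt N101470 D204628) (tt N71297 F342620))
theorem Q64901 : ∀ i, i < 64901 → P i := stepQ 64900 Q64900 (allL N64900 (tt N80593 F342604) (tt N96698 (iv0 F413512)) (tt N35192 F198482) (tt N76095 (iv3 F355286)) (tt N71109 (iv4 F337461)) (tt N35191 (iv5 D124081)) (tt N96685 (iv6 F413444)) (tt N101075 (iv7 F431553)))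
theorem Q64902 : ∀ i, i < 64902 → P i := stepQ 64901 Q64901 (allL N64901 (tt N101075 (iv1 F431555)) (tt N35192 (iv0 D124083)) (tt N80593 (iv2 F359388)) (tt N101471 D204629) (tt N40022 F352850) (tt N64294 (iv5 F359384)) (tt N88377 (iv6 F382803)) (tt N96698 (iv7 F413514)))
theorem Q64903 : ∀ i, i < 64903 → P i := stepQ 64902 Q64902 (allL N64902 (tt N35192 (iv1 D124084)) (tt N101075 (iv0 F431554)) (tt N96698 (iv2 F413510)) (tt N101472 D204630) (tt N40012 F359389) (tt N78730 (iv5 F359393)) (tt N95911 F410219) (tt N80593 F359391))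
theorem Q64904 : ∀ i, i < 64904 → P i := stepQ 64903 Q64903 (allL N64903 (tt N38341 F313752) (tt N35193 (iv0 D124087)) (tt N37479 F313753) (tt N80889 F303846) (tt N37478 F313754) (tt N57471 F313755) (tt N100822 (iv6 F430636)) (tt N43103 F313756))
theorem Q64905 : ∀ i, i < 64905 → P i := stepQ 64904 Q64904 (allL N64904 (tt N43018 F314627) (tt N43141 F314628) (tt N43138 F314629) (tt N35194 F198485) (tt N101473 D204631) (tt N35193 (iv5 D124089)) (tt N95235 (iv6 F407533)) (tt N43137 (iv7 F316248)))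
theorem Q64906 : ∀ i, i < 64906 → P i := stepQ 64905 Q64905 (allL N64905 (tt N35370 (iv1 F198599)) (tt N35366 F198600) (tt N35381 F198594) (tt N35195 (iv3 D124140)) (tt N44370 F313360) (tt N91724 (iv5 F394186)) (tt N42544 F306488) (tt N35338 F199724))
theorem Q64907 : ∀ i, i < 64907 → P i := stepQ 64906 Q64906 (allL N64906 (tt N82241 F306489) (tt N76043 F306490) (tt N69638 (iv2 F310047)) (tt N35417 F198606) (tt N35195 (iv4 D124141)) (tt N87495 (iv5 F379551)) (tt N35353 F306492) (tt N43905 (iv7 F199747)))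
theorem Q64908 : ∀ i, i < 64908 → P i := stepQ 64907 Q64907 (allL N64907 (tt N44920 F306493) (tt N71298 (iv0 F314222)) (tt N71328 (iv2 F318994)) (tt N91724 F394190) (tt N92287 (iv4 F396583)) (tt N35195 (iv5 D124142)) (tt N98683 (iv6 F421840)) (tt N71327 (iv7 F318992)))
theorem Q64909 : ∀ i, i < 64909 → P i := stepQ 64908 Q64908 (allL N64908 (tt N76097 (iv1 F355291)) (tt N63126 F361481) (tt N35197 F198608) (tt N101075 (iv3 F431551)) (tt N67875 F335149) (tt N35196 (iv5 D124144)) (tt N101474 D204632) (tt N76095 (iv7 F355288)))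
theorem Q64910 : ∀ i, i < 64910 → P i := stepQ 64909 Q64909 (allL N64909 (tt N48182 F306497) (tt N48181 F306498) (tt N35198 F198609) (tt N100004 F427149) (tt N48215 F306499) (tt N101475 D204633) (tt N35196 (iv6 D124145)) (tt N48176 F306500))
theorem Q64911 : ∀ i, i < 64911 → P i := stepQ 64910 Q64910 (allL N64910 (tt N76095 (iv1 F361480)) (tt N35197 (iv0 D124146)) (tt N76097 (iv2 F361477)) (tt N63456 (iv3 F361478)) (tt N98745 (iv4 F422124)) (tt N63127 F361476) (tt N95980 F410510) (tt N63126 (iv7 F361479)))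
theorem Q64912 : ∀ i, i < 64912 → P i := stepQ 64911 Q64911 (allL N64911 (tt N90067 (iv1 F388475)) (tt N76089 F355370) (tt N67875 (iv2 F355290)) (tt N101476 D204634) (tt N35197 (iv4 D124148)) (tt N68896 (iv5 F355287)) (tt N101477 D204635) (tt N82297 F355289))
theorem Q64913 : ∀ i, i < 64913 → P i := stepQ 64912 Q64912 (allL N64912 (tt N101478 D204636) (tt N101479 D204637) (tt N101474 (iv2 F433076)) (tt N35200 F198610) (tt N101477 (iv4 F433091)) (tt N101480 D204638) (tt N35197 (iv6 D124149)) (tt N101481 D204639))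
theorem Q64914 : ∀ i, i < 64914 → P i := stepQ 64913 Q64913 (allL N64913 (tt N35198 (iv1 D124151)) (tt N48176 F306502) (tt N48181 F306503) (tt N43706 F361460) (tt N48081 F306504) (tt N100035 (iv5 F427312)) (tt N43703 F361461) (tt N48182 F306505))
theorem Q64915 : ∀ i, i < 64915 → P i := stepQ 64914 Q64914 (allL N64914 (tt N63129 F304679) (tt N63131 (iv0 F306357)) (tt N101475 (iv2 F433078)) (tt N35202 F198611) (tt N101482 D204640) (tt N35198 (iv5 D124152)) (tt N101480 (iv6 F433096)) (tt N48183 F304680))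
theorem Q64916 : ∀ i, i < 64916 → P i := stepQ 64915 Q64915 (allL N64915 (tt N96387 (iv1 F412319)) (tt N96394 F412326) (tt N96395 (iv2 F412321)) (tt N35199 (iv3 D124154)) (tt N101476 (iv4 F433085)) (tt N82246 F366892) (tt N74563 (iv6 F371922)) (tt N82299 F366920))
theorem Q64917 : ∀ i, i < 64917 → P i := stepQ 64916 Q64916 (allL N64916 (tt N95725 (iv1 F409323)) (tt N93598 F401233) (tt N82279 (iv2 F366922)) (tt N74563 F371923) (tt N35200 F198614) (tt N97575 (iv5 F417432)) (tt N35199 (iv6 D124155)) (tt N95705 (iv7 F409222)))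
theorem Q64918 : ∀ i, i < 64918 → P i := stepQ 64917 Q64917 (allL N64917 (tt N95724 (iv1 F409322)) (tt N35200 (iv0 D124156)) (tt N101078 F431564) (tt N101483 D204641) (tt N101484 D204642) (tt N101485 D204643) (tt N101486 D204644) (tt N95998 F410565))
theorem Q64919 : ∀ i, i < 64919 → P i := stepQ 64918 Q64918 (allL N64918 (tt N35200 (iv1 D124157)) (tt N95724 F409321) (tt N95998 (iv2 F410562)) (tt N101487 D204645) (tt N101488 D204646) (tt N100988 (iv5 F431167)) (tt N95912 (iv6 F410224)) (tt N101078 (iv7 F431566)))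
theorem Q64920 : ∀ i, i < 64920 → P i := stepQ 64919 Q64919 (allL N64919 (tt N88591 F383540) (tt N101489 D204647) (tt N101079 (iv2 F431568)) (tt N101480 (iv3 F433095)) (tt N101490 D204648) (tt N35200 (iv5 D124158)) (tt N35202 F198615) (tt N101491 D204649))
theorem Q64921 : ∀ i, i < 64921 → P i := stepQ 64920 Q64920 (allL N64920 (tt N95998 (iv1 F410564)) (tt N101078 F431565) (tt N95724 (iv2 F409318)) (tt N101481 (iv3 F433097)) (tt N95705 (iv4 F409220)) (tt N101491 (iv5 F433122)) (tt N82302 F366926) (tt N35200 (iv7 D124159)))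
theorem Q64922 : ∀ i, i < 64922 → P i := stepQ 64921 Q64921 (allL N64921 (tt N53092 (iv1 F343482)) (tt N101090 (iv0 F431627)) (tt N101492 D204650) (tt N35201 (iv3 D124160)) (tt N48198 F198616) (tt N89662 F387144) (tt N35252 F304439) (tt N48198 F304440))
theorem Q64923 : ∀ i, i < 64923 → P i := stepQ 64922 Q64922 (allL N64922 (tt N64335 F304681) (tt N64340 F304682) (tt N80511 F268117) (tt N101493 D204651) (tt N35202 (iv4 D124161)) (tt N80511 (iv5 F268115)) (tt N101490 (iv6 F433120)) (tt N48201 F304683))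
theorem Q64924 : ∀ i, i < 64924 → P i := stepQ 64923 Q64923 (allL N64923 (tt N101494 D204652) (tt N101495 D204653) (tt N101496 D204654) (tt N35203 (iv3 D124168)) (tt N35500 F198628) (tt N94527 F404853) (tt N65045 F304738) (tt N35218 F198629))
theorem Q64925 : ∀ i, i < 64925 → P i := stepQ 64924 Q64924 (allL N64924 (tt N82544 F304739) (tt N100915 F430948) (tt N47874 F304740) (tt N94527 F404852) (tt N100910 (iv4 F430925)) (tt N35203 (iv5 D124169)) (tt N101497 D204655) (tt N35219 F198630))
theorem Q64926 : ∀ i, i < 64926 → P i := stepQ 64925 Q64925 (allL N64925 (tt N81370 F348241) (tt N48456 F348251) (tt N100023 (iv2 F427244)) (tt N35204 (iv3 D124170)) (tt N35206 F198631) (tt N101498 D204656) (tt N47677 (iv6 F299771)) (tt N35288 F297821))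
theorem Q64927 : ∀ i, i < 64927 → P i := stepQ 64926 Q64926 (allL N64926 (tt N35301 (iv1 F299836)) (tt N35300 F297822) (tt N35303 F297823) (tt N101498 (iv3 F433154)) (tt N75343 (iv4 F348854)) (tt N35204 (iv5 D124171)) (tt N75342 F348853) (tt N35290 F297824))
theorem Q64928 : ∀ i, i < 64928 → P i := stepQ 64927 Q64927 (allL N64927 (tt N35313 F297506) (tt N35312 F297507) (tt N35316 F297508) (tt N101499 D204657) (tt N35205 (iv4 D124173)) (tt N101500 D204658) (tt N35792 F325188) (tt N35293 F297509))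
theorem Q64929 : ∀ i, i < 64929 → P i := stepQ 64928 Q64928 (allL N64928 (tt N101501 D204659) (tt N101502 D204660) (tt N100278 (iv2 F428221)) (tt N35207 F198643) (tt N90855 F391056) (tt N35206 (iv5 D124178)) (tt N100189 (iv6 F427917)) (tt N47820 F302894))
theorem Q64930 : ∀ i, i < 64930 → P i := stepQ 64929 Q64929 (allL N64929 (tt N72064 (iv1 F339052)) (tt N41015 F341195) (tt N100026 (iv2 F427262)) (tt N35208 F198644) (tt N47677 F301977) (tt N100190 (iv5 F427924)) (tt N35206 (iv6 D124179)) (tt N35246 F301978))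
theorem Q64931 : ∀ i, i < 64931 → P i := stepQ 64930 Q64930 (allL N64930 (tt N47865 F305170) (tt N47864 F305171) (tt N47868 F305172) (tt N101503 D204661) (tt N35207 (iv4 D124182)) (tt N47898 F305173) (tt N101504 D204662) (tt N47826 F305174))
theorem Q64932 : ∀ i, i < 64932 → P i := stepQ 64931 Q64931 (allL N64931 (tt N101505 D204663) (tt N101506 D204664) (tt N47869 F305175) (tt N100189 (iv3 F427914)) (tt N101504 (iv4 F433187)) (tt N100186 (iv5 F427901)) (tt N35207 (iv6 D124183)) (tt N90912 (iv7 F391250)))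
theorem Q64933 : ∀ i, i < 64933 → P i := stepQ 64932 Q64932 (allL N64932 (tt N35257 F301972) (tt N35256 F301973) (tt N35259 F301974) (tt N100190 (iv3 F427922)) (tt N100444 (iv4 F428999)) (tt N35208 (iv5 D124184)) (tt N100186 (iv6 F427902)) (tt N35247 F301975))
theorem Q64934 : ∀ i, i < 64934 → P i := stepQ 64933 Q64933 (allL N64933 (tt N101507 D204665) (tt N101508 D204666) (tt N101509 D204667) (tt N35209 (iv3 D124188)) (tt N101499 (iv4 F433157)) (tt N101510 D204668) (tt N96414 (iv6 F412423)) (tt N47831 F302598))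
theorem Q64935 : ∀ i, i < 64935 → P i := stepQ 64934 Q64934 (allL N64934 (tt N47897 F302599) (tt N47896 F302600) (tt N47900 F302601) (tt N101510 (iv3 F433208)) (tt N47867 F302602) (tt N35209 (iv5 D124189)) (tt N96679 (iv6 F413418)) (tt N47832 F302603))
theorem Q64936 : ∀ i, i < 64936 → P i := stepQ 64935 Q64935 (allL N64935 (tt N45877 F198698) (tt N45863 (iv0 F198699)) (tt N45874 F198696) (tt N101511 D204669) (tt N35212 (iv4 D124206)) (tt N67436 F337896) (tt N65911 F333463) (tt N45875 F198697))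
theorem Q64937 : ∀ i, i < 64937 → P i := stepQ 64936 Q64936 (allL N64936 (tt N35215 (iv1 F198702)) (tt N35213 (iv0 D124208)) (tt N65049 F299745) (tt N58182 F360089) (tt N45625 F299746) (tt N47897 F299747) (tt N45624 F299748) (tt N45634 F198703))
theorem Q64938 : ∀ i, i < 64938 → P i := stepQ 64937 Q64937 (allL N64937 (tt N101512 D204670) (tt N100545 (iv0 F452104)) (tt N101513 D204672) (tt N35213 (iv3 D124209)) (tt N101511 (iv4 F433214)) (tt N101514 D204673) (tt N94434 F404470) (tt N100640 (iv7 F429799)))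
theorem Q64939 : ∀ i, i < 64939 → P i := stepQ 64938 Q64938 (allL N64938 (tt N62187 (iv1 F345325)) (tt N81857 F302542) (tt N81975 F302543) (tt N101514 (iv3 F433220)) (tt N101461 (iv4 F433037)) (tt N35213 (iv5 D124210)) (tt N101515 D204674) (tt N81974 F302544))
theorem Q64940 : ∀ i, i < 64940 → P i := stepQ 64939 Q64939 (allL N64939 (tt N35214 (iv1 D124213)) (tt N35508 (iv0 F299721)) (tt N48338 F299646) (tt N35511 F254958) (tt N95111 (iv4 F407092)) (tt N48261 F254959) (tt N46707 F299647) (tt N48261 F254960))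
theorem Q64941 : ∀ i, i < 64941 → P i := stepQ 64940 Q64940 (allL N64940 (tt N101516 D204675) (tt N101517 D204676) (tt N101518 D204677) (tt N35215 (iv3 D124214)) (tt N47902 (iv4 F304735)) (tt N101519 D204678) (tt N48264 F302545) (tt N80114 F302546))
theorem Q64942 : ∀ i, i < 64942 → P i := stepQ 64941 Q64941 (allL N64941 (tt N81857 F302547) (tt N62187 (iv0 F345324)) (tt N81974 F302549) (tt N101519 (iv3 F433231)) (tt N101458 (iv4 F433035)) (tt N35215 (iv5 D124215)) (tt N93369 (iv6 F400550)) (tt N81975 F302550))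
theorem Q64943 : ∀ i, i < 64943 → P i := stepQ 64942 Q64942 (allL N64942 (tt N101520 D204679) (tt N101521 D204680) (tt N101522 D204681) (tt N35216 (iv3 D124216)) (tt N86932 (iv4 F377751)) (tt N73134 F390356) (tt N93444 F400758) (tt N100912 (iv7 F430935)))
theorem Q64944 : ∀ i, i < 64944 → P i := stepQ 64943 Q64943 (allL N64943 (tt N81854 F304486) (tt N81774 (iv0 F276956)) (tt N81962 F304487) (tt N73134 (iv3 F390355)) (tt N101454 (iv4 F433018)) (tt N35216 (iv5 D124217)) (tt N101523 D204682) (tt N81961 F304488))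
theorem Q64945 : ∀ i, i < 64945 → P i := stepQ 64944 Q64944 (allL N64944 (tt N101524 D204683) (tt N95081 (iv0 F407675)) (tt N101525 D204684) (tt N35217 (iv3 D124219)) (tt N91837 (iv4 F394624)) (tt N72946 (iv5 F406099)) (tt N91836 F394621) (tt N100911 (iv7 F430930)))
theorem Q64946 : ∀ i, i < 64946 → P i := stepQ 64945 Q64945 (allL N64945 (tt N81774 (iv1 F276957)) (tt N81854 F303664) (tt N81961 F303665) (tt N72946 F406100) (tt N101450 (iv4 F432998)) (tt N35217 (iv5 D124220)) (tt N93361 (iv6 F400524)) (tt N81962 F303666))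
theorem Q64947 : ∀ i, i < 64947 → P i := stepQ 64946 Q64946 (allL N64946 (tt N101496 (iv1 F433151)) (tt N35218 (iv0 D124221)) (tt N101495 F433145) (tt N59677 F360093) (tt N101526 D204685) (tt N72952 (iv5 F360094)) (tt N59675 (iv6 F360095)) (tt N101494 (iv7 F433139)))
theorem Q64948 : ∀ i, i < 64948 → P i := stepQ 64947 Q64947 (allL N64947 (tt N35218 (iv1 D124222)) (tt N101496 F433152) (tt N101494 (iv2 F433138)) (tt N101527 D204686) (tt N82068 (iv4 F360091)) (tt N101528 D204687) (tt N82067 F360092) (tt N101495 (iv7 F433141)))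
theorem Q64949 : ∀ i, i < 64949 → P i := stepQ 64948 Q64948 (allL N64948 (tt N101495 F433144) (tt N101494 F433136) (tt N35218 (iv2 D124223)) (tt N100913 (iv3 F430936)) (tt N35520 F198707) (tt N94526 (iv5 F404849)) (tt N35238 F198708) (tt N101496 (iv7 F433150)))
theorem Q64950 : ∀ i, i < 64950 → P i := stepQ 64949 Q64949 (allL N64949 (tt N59482 F360090) (tt N94525 F404848) (tt N94526 F404850) (tt N35219 F198709) (tt N101529 D204688) (tt N35218 (iv5 D124224)) (tt N101530 D204689) (tt N94527 (iv7 F404851)))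
theorem Q64951 : ∀ i, i < 64951 → P i := stepQ 64950 Q64950 (allL N64950 (tt N47874 F304969) (tt N35219 (iv0 D124225)) (tt N100915 F430947) (tt N75181 F356030) (tt N76814 (iv4 F356031)) (tt N47876 F304970) (tt N75182 (iv6 F356032)) (tt N82544 F304971))
theorem Q64952 : ∀ i, i < 64952 → P i := stepQ 64951 Q64951 (allL N64951 (tt N35219 (iv1 D124226)) (tt N47874 F304972) (tt N82544 F304973) (tt N57842 F363360) (tt N101442 (iv4 F432981)) (tt N47877 F304974) (tt N57839 (iv6 F363359)) (tt N100915 (iv7 F430949)))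
theorem Q64953 : ∀ i, i < 64953 → P i := stepQ 64952 Q64952 (allL N64952 (tt N47867 F304975) (tt N47898 F304976) (tt N100916 (iv2 F430951)) (tt N101531 D204690) (tt N35219 (iv4 D124227)) (tt N47871 F304977) (tt N101532 D204691) (tt N100910 (iv7 F430924)))
theorem Q64954 : ∀ i, i < 64954 → P i := stepQ 64953 Q64953 (allL N64953 (tt N99588 (iv1 F457849)) (tt N99119 (iv0 F459168)) (tt N100917 (iv2 F430956)) (tt N101530 (iv3 F433263)) (tt N101532 (iv4 F433270)) (tt N35243 F198710) (tt N35219 (iv6 D124228)) (tt N101533 D204694))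
theorem Q64955 : ∀ i, i < 64955 → P i := stepQ 64954 Q64954 (allL N64954 (tt N82498 F281219) (tt N101534 D204695) (tt N58034 (iv2 F364144)) (tt N35221 (iv3 D124230)) (tt N48307 F198717) (tt N101535 D204696) (tt N48307 F297087) (tt N56822 (iv7 F337393)))
theorem Q64956 : ∀ i, i < 64956 → P i := stepQ 64955 Q64955 (allL N64955 (tt N45368 F198722) (tt N45330 F198723) (tt N63879 F198719) (tt N101535 (iv3 F433279)) (tt N63880 F198720) (tt N35221 (iv5 D124231)) (tt N101536 D204697) (tt N63880 F198721))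
theorem Q64957 : ∀ i, i < 64957 → P i := stepQ 64956 Q64956 (allL N64956 (tt N79187 (iv1 F253363)) (tt N35222 (iv0 D124233)) (tt N79186 (iv2 F433298)) (tt N101537 D204699) (tt N101538 D204700) (tt N101539 D204701) (tt N101540 D204702) (tt N79185 F433301))
theorem Q64958 : ∀ i, i < 64958 → P i := stepQ 64957 Q64957 (allL N64957 (tt N35222 (iv1 D124234)) (tt N79187 F253365) (tt N79185 F433300) (tt N101541 D204703) (tt N101542 D204704) (tt N101543 D204705) (tt N78429 (iv6 F433305)) (tt N79186 (iv7 F433299)))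
theorem Q64959 : ∀ i, i < 64959 → P i := stepQ 64958 Q64958 (allL N64958 (tt N79186 (iv1 F253364)) (tt N79185 F253360) (tt N35222 (iv2 D124235)) (tt N63886 F198728) (tt N67459 (iv4 F341825)) (tt N101544 D204706) (tt N101008 (iv6 F431242)) (tt N79187 (iv7 F253362)))
theorem Q64960 : ∀ i, i < 64960 → P i := stepQ 64959 Q64959 (allL N64959 (tt N100542 F429405) (tt N87988 F394873) (tt N101544 (iv2 F433326)) (tt N35223 F198729) (tt N84531 (iv4 F381513)) (tt N35222 (iv5 D124236)) (tt N100120 (iv6 F427554)) (tt N79188 (iv7 F253367)))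
theorem Q64961 : ∀ i, i < 64961 → P i := stepQ 64960 Q64960 (allL N64960 (tt N73449 F341382) (tt N73447 F341383) (tt N63889 F198730) (tt N100120 (iv3 F427553)) (tt N64996 (iv4 F198788)) (tt N44310 F341384) (tt N35223 (iv6 D124237)) (tt N44309 F341385))
theorem Q64962 : ∀ i, i < 64962 → P i := stepQ 64961 Q64961 (allL N64961 (tt N63886 (iv1 F198741)) (tt N35224 (iv0 D124242)) (tt N63885 (iv2 F261330)) (tt N101545 D204707) (tt N101546 D204708) (tt N101547 D204709) (tt N48311 F330797) (tt N63884 F261331))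
theorem Q64963 : ∀ i, i < 64963 → P i := stepQ 64962 Q64962 (allL N64962 (tt N35224 (iv1 D124243)) (tt N63886 F198745) (tt N63884 F261329) (tt N82486 F281181) (tt N46168 (iv4 F198742)) (tt N101548 D204710) (tt N81220 F365184) (tt N63885 (iv7 F261328)))
theorem Q64964 : ∀ i, i < 64964 → P i := stepQ 64963 Q64963 (allL N64963 (tt N63885 (iv1 F198746)) (tt N63884 F198744) (tt N35224 (iv2 D124244)) (tt N79187 (iv3 F253361)) (tt N78478 (iv4 F336085)) (tt N101549 D204711) (tt N96969 (iv6 F414845)) (tt N63886 F198743))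
theorem Q64965 : ∀ i, i < 64965 → P i := stepQ 64964 Q64964 (allL N64964 (tt N101550 D204712) (tt N101551 D204713) (tt N101549 (iv2 F433351)) (tt N35225 F198747) (tt N101552 D204714) (tt N35224 (iv5 D124245)) (tt N101553 D204715) (tt N63887 F198748))
theorem Q64966 : ∀ i, i < 64966 → P i := stepQ 64965 Q64965 (allL N64965 (tt N72905 (iv1 F353646)) (tt N101554 D204716) (tt N96969 (iv2 F414844)) (tt N35226 F198749) (tt N58868 (iv4 F320724)) (tt N58311 F366062) (tt N35224 (iv6 D124246)) (tt N96783 (iv7 F413916)))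
theorem Q64967 : ∀ i, i < 64967 → P i := stepQ 64966 Q64966 (allL N64966 (tt N73533 F343834) (tt N73527 F362809) (tt N79190 (iv2 F253369)) (tt N101553 (iv3 F433372)) (tt N64994 (iv4 F198786)) (tt N58313 (iv5 F343829)) (tt N35225 (iv6 D124247)) (tt N94504 (iv7 F404744)))
theorem Q64968 : ∀ i, i < 64968 → P i := stepQ 64967 Q64967 (allL N64967 (tt N79135 (iv1 F253108)) (tt N35228 (iv0 D124255)) (tt N79134 (iv2 F262238)) (tt N96645 F413307) (tt N101555 D204717) (tt N101550 (iv5 F433356)) (tt N101516 F433225) (tt N79133 F262239))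
theorem Q64969 : ∀ i, i < 64969 → P i := stepQ 64968 Q64968 (allL N64968 (tt N35228 (iv1 D124256)) (tt N79135 F253110) (tt N79133 F262237) (tt N79231 F262235) (tt N64079 (iv4 F198754)) (tt N101551 (iv5 F433361)) (tt N65052 F413343) (tt N79134 (iv7 F262236)))
theorem Q64970 : ∀ i, i < 64970 → P i := stepQ 64969 Q64969 (allL N64969 (tt N79134 (iv1 F253109)) (tt N79133 F253105) (tt N35228 (iv2 D124257)) (tt N79193 (iv3 F253400)) (tt N80054 (iv4 F261042)) (tt N101556 D204718) (tt N95715 (iv6 F409275)) (tt N79135 (iv7 F253107)))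
theorem Q64971 : ∀ i, i < 64971 → P i := stepQ 64970 Q64970 (allL N64970 (tt N100550 F429435) (tt N100551 (iv0 F429436)) (tt N101556 (iv2 F433388)) (tt N35229 F198755) (tt N101557 D204719) (tt N35228 (iv5 D124258)) (tt N101558 D204720) (tt N79136 (iv7 F253112)))
theorem Q64972 : ∀ i, i < 64972 → P i := stepQ 64971 Q64971 (allL N64971 (tt N73539 F362798) (tt N94909 (iv0 F406294)) (tt N79195 (iv2 F253408)) (tt N101558 (iv3 F433392)) (tt N64977 (iv4 F198773)) (tt N95717 (iv5 F409285)) (tt N35229 (iv6 D124260)) (tt N96337 (iv7 F412117)))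
theorem Q64973 : ∀ i, i < 64973 → P i := stepQ 64972 Q64972 (allL N64972 (tt N79198 (iv1 F253424)) (tt N35231 (iv0 D124274)) (tt N79197 F412084) (tt N95060 F406894) (tt N96651 F413334) (tt N101559 D204721) (tt N95059 (iv6 F406895)) (tt N79196 (iv7 F412082)))
theorem Q64974 : ∀ i, i < 64974 → P i := stepQ 64973 Q64973 (allL N64973 (tt N35231 (iv1 D124275)) (tt N79198 F253426) (tt N79196 (iv2 F412085)) (tt N101560 D204722) (tt N96650 (iv4 F413331)) (tt N101561 D204723) (tt N101521 (iv6 F433237)) (tt N79197 F412086))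
theorem Q64975 : ∀ i, i < 64975 → P i := stepQ 64974 Q64974 (allL N64974 (tt N79197 (iv1 F253425)) (tt N79196 F253421) (tt N35231 (iv2 D124276)) (tt N79202 (iv3 F253439)) (tt N86954 (iv4 F377819)) (tt N101562 D204724) (tt N101563 D204725) (tt N79198 (iv7 F253423)))
theorem Q64976 : ∀ i, i < 64976 → P i := stepQ 64975 Q64975 (allL N64975 (tt N101564 D204726) (tt N101565 D204727) (tt N101562 (iv2 F433399)) (tt N35232 F198771) (tt N101566 D204728) (tt N35231 (iv5 D124277)) (tt N101567 D204729) (tt N79199 (iv7 F253428)))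
theorem Q64977 : ∀ i, i < 64977 → P i := stepQ 64976 Q64976 (allL N64976 (tt N97597 F417534) (tt N101568 D204730) (tt N101563 (iv2 F433400)) (tt N35233 F198772) (tt N81740 (iv4 F276772)) (tt N59512 F363322) (tt N35231 (iv6 D124278)) (tt N59511 (iv7 F341322)))
theorem Q64978 : ∀ i, i < 64978 → P i := stepQ 64977 Q64977 (allL N64977 (tt N58025 (iv1 F362790)) (tt N58027 (iv0 F362797)) (tt N59556 (iv2 F343782)) (tt N101567 (iv3 F433407)) (tt N64971 F198773) (tt N59361 F362789) (tt N35232 (iv6 D124279)) (tt N59360 (iv7 F362788)))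
theorem Q64979 : ∀ i, i < 64979 → P i := stepQ 64978 Q64978 (allL N64978 (tt N79202 (iv1 F253441)) (tt N35234 (iv0 D124281)) (tt N59549 (iv2 F365918)) (tt N101569 D204731) (tt N95647 (iv4 F408997)) (tt N101570 D204732) (tt N101524 (iv6 F433250)) (tt N79201 (iv7 F365920)))
theorem Q64980 : ∀ i, i < 64980 → P i := stepQ 64979 Q64979 (allL N64979 (tt N35234 (iv1 D124282)) (tt N79202 F253443) (tt N79201 F365919) (tt N59359 (iv3 F365916)) (tt N95586 (iv4 F408772)) (tt N94896 (iv5 F406263)) (tt N94707 (iv6 F405613)) (tt N59549 F365917))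
theorem Q64981 : ∀ i, i < 64981 → P i := stepQ 64980 Q64980 (allL N64980 (tt N59549 (iv1 F358385)) (tt N79201 F253438) (tt N35234 (iv2 D124283)) (tt N79198 (iv3 F253422)) (tt N79313 (iv4 F254032)) (tt N101571 D204733) (tt N59496 (iv6 F382029)) (tt N79202 (iv7 F253440)))
theorem Q64982 : ∀ i, i < 64982 → P i := stepQ 64981 Q64981 (allL N64981 (tt N101572 D204734) (tt N101573 D204735) (tt N101571 (iv2 F433425)) (tt N35235 F198776) (tt N101574 D204736) (tt N35234 (iv5 D124284)) (tt N101575 D204737) (tt N79203 (iv7 F253445)))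
theorem Q64983 : ∀ i, i < 64983 → P i := stepQ 64982 Q64982 (allL N64982 (tt N94885 (iv1 F406241)) (tt N94891 (iv0 F406256)) (tt N79200 (iv2 F253430)) (tt N101575 (iv3 F433434)) (tt N59621 (iv4 F343765)) (tt N59548 F343781) (tt N35235 (iv6 D124286)) (tt N59547 (iv7 F343780)))
theorem Q64984 : ∀ i, i < 64984 → P i := stepQ 64983 Q64983 (allL N64983 (tt N80232 (iv1 F262230)) (tt N44640 (iv0 F248713)) (tt N45882 F257950) (tt N59534 (iv3 F326795)) (tt N35236 (iv4 D124293)) (tt N79848 (iv5 F258618)) (tt N81810 F351049) (tt N59531 (iv7 F327516)))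
theorem Q64985 : ∀ i, i < 64985 → P i := stepQ 64984 Q64984 (allL N64984 (tt N79807 (iv1 F258434)) (tt N64154 F257965) (tt N79206 (iv2 F257960)) (tt N59556 (iv3 F353993)) (tt N91773 F394371) (tt N35236 (iv5 D124294)) (tt N79203 F353992) (tt N59544 (iv7 F327526)))
theorem Q64986 : ∀ i, i < 64986 → P i := stepQ 64985 Q64985 (allL N64985 (tt N79582 F353983) (tt N46738 F353984) (tt N79207 (iv2 F257961)) (tt N59350 F353985) (tt N81810 F353986) (tt N79204 (iv5 F353987)) (tt N35236 (iv6 D124295)) (tt N59347 (iv7 F353990)))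
theorem Q64987 : ∀ i, i < 64987 → P i := stepQ 64986 Q64986 (allL N64986 (tt N101576 D204738) (tt N95060 (iv0 F412058)) (tt N59356 F365642) (tt N35237 (iv3 D124297)) (tt N65971 (iv4 F328512)) (tt N101577 D204739) (tt N59354 F365643) (tt N79205 F257962))
theorem Q64988 : ∀ i, i < 64988 → P i := stepQ 64987 Q64987 (allL N64987 (tt N64154 (iv1 F254078)) (tt N79807 F258435) (tt N59544 (iv2 F327525)) (tt N101577 (iv3 F433448)) (tt N101578 D204740) (tt N35237 (iv5 D124298)) (tt N101579 D204741) (tt N79206 F257963))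
theorem Q64989 : ∀ i, i < 64989 → P i := stepQ 64988 Q64988 (allL N64988 (tt N79210 (iv1 F253462)) (tt N79209 F253461) (tt N35239 F198783) (tt N100925 (iv3 F431001)) (tt N81638 (iv4 F276266)) (tt N35238 (iv5 D124300)) (tt N101580 D204742) (tt N79208 (iv7 F253457)))
theorem Q64990 : ∀ i, i < 64990 → P i := stepQ 64989 Q64989 (allL N64989 (tt N79208 (iv1 F253459)) (tt N35239 (iv0 D124301)) (tt N79210 (iv2 F254252)) (tt N94682 (iv3 F405505)) (tt N101581 D204743) (tt N45942 F253460) (tt N101582 D204744) (tt N79209 F254251))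
theorem Q64991 : ∀ i, i < 64991 → P i := stepQ 64990 Q64990 (allL N64990 (tt N35239 (iv1 D124302)) (tt N79208 F253458) (tt N79209 (iv2 F254249)) (tt N94859 (iv3 F406176)) (tt N101583 D204745) (tt N45943 F250820) (tt N101584 D204746) (tt N79210 (iv7 F254246)))
theorem Q64992 : ∀ i, i < 64992 → P i := stepQ 64991 Q64991 (allL N64991 (tt N101585 D204747) (tt N101586 D204748) (tt N81638 (iv2 F276265)) (tt N101587 D204749) (tt N35239 (iv4 D124303)) (tt N81629 (iv5 F276261)) (tt N101588 D204750) (tt N79211 (iv7 F253463)))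
theorem Q64993 : ∀ i, i < 64993 → P i := stepQ 64992 Q64992 (allL N64992 (tt N101589 D204751) (tt N90362 (iv0 F433266)) (tt N101580 (iv2 F433456)) (tt N35243 F198784) (tt N101588 (iv4 F433466)) (tt N101530 (iv5 F433264)) (tt N35239 (iv6 D124304)) (tt N101590 D204752))
theorem Q64994 : ∀ i, i < 64994 → P i := stepQ 64993 Q64993 (allL N64993 (tt N101559 F433395) (tt N101561 (iv0 F433398)) (tt N90364 (iv2 F389422)) (tt N35240 (iv3 D124305)) (tt N87303 (iv4 F379019)) (tt N45939 F198785) (tt N84529 F369634) (tt N79213 (iv7 F253466)))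
theorem Q64995 : ∀ i, i < 64995 → P i := stepQ 64994 Q64994 (allL N64994 (tt N73457 F343791) (tt N73455 F343800) (tt N73552 (iv2 F343802)) (tt N84529 (iv3 F369633)) (tt N64966 F198786) (tt N72938 (iv5 F343795)) (tt N35240 (iv6 D124306)) (tt N73553 F343801))
theorem Q64996 : ∀ i, i < 64996 → P i := stepQ 64995 Q64995 (allL N64995 (tt N101570 (iv1 F449454)) (tt N94896 (iv0 F449453)) (tt N101591 D204755) (tt N35241 (iv3 D124307)) (tt N101592 D204756) (tt N45941 F198787) (tt N95496 (iv6 F455791)) (tt N79215 (iv7 F253470)))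
theorem Q64997 : ∀ i, i < 64997 → P i := stepQ 64996 Q64996 (allL N64996 (tt N101593 D204758) (tt N101594 D204759) (tt N79214 (iv2 F253467)) (tt N95496 (iv3 F455790)) (tt N64960 F198788) (tt N94549 (iv5 F404926)) (tt N35241 (iv6 D124308)) (tt N78076 (iv7 F343179)))
theorem Q64998 : ∀ i, i < 64998 → P i := stepQ 64997 Q64997 (allL N64997 (tt N101595 D204760) (tt N101596 D204761) (tt N101597 D204762) (tt N35242 (iv3 D124309)) (tt N101587 (iv4 F433464)) (tt N45340 F198789) (tt N101598 D204763) (tt N64360 F198790))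
theorem Q64999 : ∀ i, i < 64999 → P i := stepQ 64998 Q64998 (allL N64998 (tt N101599 D204764) (tt N101600 D204765) (tt N45379 F198791) (tt N101598 (iv3 F433501)) (tt N35243 F198792) (tt N101601 D204766) (tt N35242 (iv6 D124310)) (tt N101602 D204767))
theorem Q65000 : ∀ i, i < 65000 → P i := stepQ 64999 Q64999 (allL N64999 (tt N100931 (iv1 F431011)) (tt N35243 (iv0 D124311)) (tt N100930 F431005) (tt N101603 D204768) (tt N93553 (iv4 F436682)) (tt N101604 D204770) (tt N94882 F406236) (tt N94904 (iv7 F406276)))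
theorem Q65001 : ∀ i, i < 65001 → P i := stepQ 65000 Q65000 (allL N65000 (tt N35243 (iv1 D124312)) (tt N100931 F431010) (tt N94904 (iv2 F406275)) (tt N101582 (iv3 F433462)) (tt N101605 D204771) (tt N94992 (iv5 F406581)) (tt N94682 (iv6 F405509)) (tt N100930 (iv7 F431006)))
theorem Q65002 : ∀ i, i < 65002 → P i := stepQ 65001 Q65001 (allL N65001 (tt N94904 (iv1 F406278)) (tt N100930 F431007) (tt N100931 (iv2 F431008)) (tt N101590 (iv3 F433469)) (tt N101602 (iv4 F433512)) (tt N101533 (iv5 F433272)) (tt N79218 (iv6 F253473)) (tt N35243 (iv7 D124313)))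
theorem Q65003 : ∀ i, i < 65003 → P i := stepQ 65002 Q65002 (allL N65002 (tt N100026 (iv1 F427268)) (tt N35246 (iv0 D124316)) (tt N41015 F319519) (tt N81196 (iv3 F273584)) (tt N40886 F319520) (tt N71305 (iv5 F339092)) (tt N100002 (iv6 F427134)) (tt N72064 (iv7 F339054)))
theorem Q65004 : ∀ i, i < 65004 → P i := stepQ 65003 Q65003 (allL N65003 (tt N77779 (iv1 F348204)) (tt N64387 (iv0 F339055)) (tt N100025 (iv2 F427255)) (tt N35247 F198798) (tt N100176 (iv4 F427848)) (tt N35246 (iv5 D124318)) (tt N53512 F198799) (tt N100190 (iv7 F427925)))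
theorem Q65005 : ∀ i, i < 65005 → P i := stepQ 65004 Q65004 (allL N65004 (tt N35259 (iv1 F198814)) (tt N35247 (iv0 D124322)) (tt N35256 F198817) (tt N52945 (iv3 F286890)) (tt N101606 D204772) (tt N45354 F301971) (tt N101607 D204773) (tt N35257 F198816))
theorem Q65006 : ∀ i, i < 65006 → P i := stepQ 65005 Q65005 (allL N65005 (tt N101608 D204774) (tt N45351 (iv0 F303364)) (tt N35258 F198810) (tt N100448 (iv3 F429022)) (tt N35247 (iv4 D124323)) (tt N95221 (iv5 F407476)) (tt N53514 F198811) (tt N100444 (iv7 F429000)))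
theorem Q65007 : ∀ i, i < 65007 → P i := stepQ 65006 Q65006 (allL N65006 (tt N79142 F366001) (tt N79143 F366002) (tt N35260 F198825) (tt N71759 F351611) (tt N101609 D204775) (tt N35248 (iv5 D124326)) (tt N101610 D204776) (tt N35264 F198826))
theorem Q65008 : ∀ i, i < 65008 → P i := stepQ 65007 Q65007 (allL N65007 (tt N101611 D204777) (tt N95158 (iv0 F436866)) (tt N91615 (iv2 F393781)) (tt N35249 (iv3 D124333)) (tt N47684 F198849) (tt N91490 (iv5 F393353)) (tt N48394 F198850) (tt N95204 (iv7 F407404)))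
theorem Q65009 : ∀ i, i < 65009 → P i := stepQ 65008 Q65008 (allL N65008 (tt N79422 (iv1 F255965)) (tt N95220 F407469) (tt N35271 F198851) (tt N91490 (iv3 F393351)) (tt N101612 D204779) (tt N35249 (iv5 D124334)) (tt N91489 F393349) (tt N95207 (iv7 F407413)))
theorem Q65010 : ∀ i, i < 65010 → P i := stepQ 65009 Q65009 (allL N65009 (tt N63967 (iv1 F304518)) (tt N63975 (iv0 F303683)) (tt N47840 F198880) (tt N85557 (iv3 F373057)) (tt N35250 (iv4 D124344)) (tt N59326 F350348) (tt N49455 F198881) (tt N48173 F198882))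
theorem Q65011 : ∀ i, i < 65011 → P i := stepQ 65010 Q65010 (allL N65010 (tt N53451 (iv1 F289743)) (tt N35251 (iv0 D124355)) (tt N49798 (iv2 F357226)) (tt N53682 (iv3 F367365)) (tt N101613 D204780) (tt N49797 F357225) (tt N101614 D204781) (tt N53513 (iv7 F357227)))
theorem Q65012 : ∀ i, i < 65012 → P i := stepQ 65011 Q65011 (allL N65011 (tt N35251 (iv1 D124356)) (tt N53451 (iv0 F289742)) (tt N53513 F357221) (tt N49434 F357229) (tt N101615 D204782) (tt N49433 (iv5 F335699)) (tt N101616 D204783) (tt N49798 (iv7 F357228)))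
theorem Q65013 : ∀ i, i < 65013 → P i := stepQ 65012 Q65012 (allL N65012 (tt N90215 (iv1 F388947)) (tt N90340 (iv0 F389388)) (tt N53514 F198887) (tt N39692 F357236) (tt N35251 (iv4 D124357)) (tt N101617 D204784) (tt N35258 F198888) (tt N54662 F357237))
theorem Q65014 : ∀ i, i < 65014 → P i := stepQ 65013 Q65013 (allL N65013 (tt N52942 (iv1 F351770)) (tt N35252 (iv0 D124359)) (tt N53083 F351757) (tt N43622 F351758) (tt N99457 (iv4 F424672)) (tt N89995 (iv5 F388242)) (tt N43620 F351759) (tt N47834 F351760))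
theorem Q65015 : ∀ i, i < 65015 → P i := stepQ 65014 Q65014 (allL N65014 (tt N53083 F351779) (tt N47834 F351780) (tt N35252 (iv2 D124361)) (tt N47484 F311718) (tt N43696 F198894) (tt N101618 D204785) (tt N101492 (iv6 F433128)) (tt N52942 F311719))
theorem Q65016 : ∀ i, i < 65016 → P i := stepQ 65015 Q65015 (allL N65015 (tt N89671 F387180) (tt N100943 (iv0 F431052)) (tt N101618 (iv2 F433577)) (tt N35253 F198895) (tt N101619 D204786) (tt N35252 (iv5 D124362)) (tt N101620 D204787) (tt N101115 (iv7 F431754)))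
theorem Q65017 : ∀ i, i < 65017 → P i := stepQ 65016 Q65016 (allL N65016 (tt N99111 F423379) (tt N101621 D204788) (tt N79420 (iv2 F255953)) (tt N101622 D204789) (tt N35253 (iv4 D124366)) (tt N101623 D204790) (tt N101624 D204791) (tt N101116 (iv7 F431759)))
theorem Q65018 : ∀ i, i < 65018 → P i := stepQ 65017 Q65017 (allL N65017 (tt N101625 D204792) (tt N101626 D204793) (tt N79421 (iv2 F255955)) (tt N101620 (iv3 F433586)) (tt N101624 (iv4 F433599)) (tt N100578 (iv5 F429545)) (tt N35253 (iv6 D124367)) (tt N73996 (iv7 F332954)))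
theorem Q65019 : ∀ i, i < 65019 → P i := stepQ 65018 Q65018 (allL N65018 (tt N54791 F311711) (tt N89047 (iv0 F384954)) (tt N52943 F311712) (tt N35255 F198904) (tt N101627 D204794) (tt N35254 (iv5 D124371)) (tt N54699 F311713) (tt N52941 (iv7 F314157)))
theorem Q65020 : ∀ i, i < 65020 → P i := stepQ 65019 Q65019 (allL N65019 (tt N101621 (iv1 F433587)) (tt N99111 (iv0 F423378)) (tt N101116 (iv2 F431757)) (tt N99063 (iv3 F423196)) (tt N35255 (iv4 D124373)) (tt N101628 D204795) (tt N101629 D204796) (tt N79420 (iv7 F255954)))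
theorem Q65021 : ∀ i, i < 65021 → P i := stepQ 65020 Q65020 (allL N65020 (tt N73994 F332950) (tt N54671 (iv0 F343869)) (tt N62571 (iv2 F332952)) (tt N54699 (iv3 F366767)) (tt N101629 (iv4 F433616)) (tt N59051 F332948) (tt N35255 (iv6 D124374)) (tt N72439 F332951))
theorem Q65022 : ∀ i, i < 65022 → P i := stepQ 65021 Q65021 (allL N65021 (tt N89995 (iv1 F388245)) (tt N53082 (iv0 F338922)) (tt N101630 D204797) (tt N35256 (iv3 D124378)) (tt N100266 (iv4 F428172)) (tt N64380 (iv5 F301780)) (tt N101631 D204798) (tt N64379 (iv7 F301779)))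
theorem Q65023 : ∀ i, i < 65023 → P i := stepQ 65022 Q65022 (allL N65022 (tt N79163 F356081) (tt N79162 (iv0 F304174)) (tt N101606 (iv2 F433516)) (tt N101632 D204799) (tt N35256 (iv4 D124379)) (tt N101633 D204800) (tt N101634 D204801) (tt N64384 (iv7 F301790)))
theorem Q65024 : ∀ i, i < 65024 → P i := stepQ 65023 Q65023 (allL N65023 (tt N101635 D204802) (tt N39420 F365136) (tt N101607 (iv2 F433522)) (tt N101631 (iv3 F433623)) (tt N101634 (iv4 F433635)) (tt N48187 F198919) (tt N35256 (iv6 D124380)) (tt N101636 D204803))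
theorem Q65025 : ∀ i, i < 65025 → P i := stepQ 65024 Q65024 (allL N65024 (tt N49458 (iv1 F286960)) (tt N52948 F286962) (tt N52946 F286893) (tt N35257 (iv3 D124381)) (tt N53391 (iv4 F286964)) (tt N46376 F303337) (tt N95446 (iv6 F408212)) (tt N52945 F286891))
theorem Q65026 : ∀ i, i < 65026 → P i := stepQ 65025 Q65025 (allL N65025 (tt N79162 (iv1 F304175)) (tt N79163 F303344) (tt N64384 F303345) (tt N62167 (iv3 F351087)) (tt N35257 (iv4 D124382)) (tt N62166 F351086) (tt N101111 (iv6 F431726)) (tt N101606 (iv7 F433519)))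
theorem Q65027 : ∀ i, i < 65027 → P i := stepQ 65026 Q65026 (allL N65026 (tt N100444 (iv1 F429003)) (tt N35258 (iv0 D124384)) (tt N101608 F433530) (tt N99614 (iv3 F425426)) (tt N45352 F304597) (tt N101637 D204804) (tt N98860 (iv6 F434658)) (tt N45351 F304598))
theorem Q65028 : ∀ i, i < 65028 → P i := stepQ 65027 Q65027 (allL N65027 (tt N35258 (iv1 D124385)) (tt N100444 F429002) (tt N45351 (iv2 F303365)) (tt N101638 D204806) (tt N45336 F301835) (tt N101639 D204807) (tt N100603 (iv6 F429658)) (tt N101608 (iv7 F433532)))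
theorem Q65029 : ∀ i, i < 65029 → P i := stepQ 65028 Q65028 (allL N65028 (tt N98866 F422625) (tt N98984 F422915) (tt N74002 F357243) (tt N35258 (iv3 D124386)) (tt N39693 F357244) (tt N101640 D204808) (tt N39692 F357245) (tt N71539 F357246))
theorem Q65030 : ∀ i, i < 65030 → P i := stepQ 65029 Q65029 (allL N65029 (tt N101641 D204809) (tt N101638 (iv0 F433651)) (tt N95221 (iv2 F407474)) (tt N101640 (iv3 F433662)) (tt N95207 (iv4 F407414)) (tt N35258 (iv5 D124387)) (tt N101642 D204810) (tt N101612 (iv7 F433546)))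
theorem Q65031 : ∀ i, i < 65031 → P i := stepQ 65030 Q65030 (allL N65030 (tt N45351 F304501) (tt N101608 F433531) (tt N100444 (iv2 F428997)) (tt N71539 F357239) (tt N35259 F198920) (tt N101612 (iv5 F433545)) (tt N71537 (iv6 F357238)) (tt N35258 (iv7 D124388)))
theorem Q65032 : ∀ i, i < 65032 → P i := stepQ 65031 Q65031 (allL N65031 (tt N100185 (iv1 F427893)) (tt N100184 (iv0 F427892)) (tt N100186 (iv2 F427898)) (tt N39131 F357240) (tt N71537 F357241) (tt N47869 F198921) (tt N35259 (iv6 D124389)) (tt N39489 F357242))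
theorem Q65033 : ∀ i, i < 65033 → P i := stepQ 65032 Q65032 (allL N65032 (tt N79167 F346597) (tt N61812 F346599) (tt N101609 (iv2 F433533)) (tt N101643 D204811) (tt N35260 (iv4 D124401)) (tt N101641 (iv5 F433669)) (tt N101644 D204812) (tt N90260 (iv7 F389137)))
theorem Q65034 : ∀ i, i < 65034 → P i := stepQ 65033 Q65033 (allL N65033 (tt N101645 D204813) (tt N101646 D204814) (tt N101610 (iv2 F433538)) (tt N90203 (iv3 F388881)) (tt N101644 (iv4 F433679)) (tt N80521 F366924) (tt N35260 (iv6 D124402)) (tt N101647 D204815))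
theorem Q65035 : ∀ i, i < 65035 → P i := stepQ 65034 Q65034 (allL N65034 (tt N35265 (iv1 F198958)) (tt N35261 (iv0 D124407)) (tt N73210 (iv2 F325836)) (tt N101648 D204816) (tt N45610 F198957) (tt N79181 F301181) (tt N47774 (iv6 F301654)) (tt N73209 (iv7 F351534)))
theorem Q65036 : ∀ i, i < 65036 → P i := stepQ 65035 Q65035 (allL N65035 (tt N35261 (iv1 D124408)) (tt N35265 F198959) (tt N73209 F351532) (tt N101649 D204817) (tt N45611 F198960) (tt N79182 F302251) (tt N78443 (iv6 F250607)) (tt N73210 (iv7 F325838)))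
theorem Q65037 : ∀ i, i < 65037 → P i := stepQ 65036 Q65036 (allL N65036 (tt N73076 (iv1 F364762)) (tt N101650 D204818) (tt N94970 (iv2 F406541)) (tt N35261 (iv3 D124409)) (tt N46262 F305789) (tt N101651 D204819) (tt N46261 F305790) (tt N59474 F353075))
theorem Q65038 : ∀ i, i < 65038 → P i := stepQ 65037 Q65037 (allL N65037 (tt N58697 F362607) (tt N80570 (iv0 F268462)) (tt N101149 (iv2 F431935)) (tt N101651 (iv3 F433702)) (tt N101638 (iv4 F433652)) (tt N35261 (iv5 D124410)) (tt N62367 F344435) (tt N101122 (iv7 F431786)))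
theorem Q65039 : ∀ i, i < 65039 → P i := stepQ 65038 Q65038 (allL N65038 (tt N90231 (iv1 F389007)) (tt N90244 F389080) (tt N80945 F335270) (tt N35262 (iv3 D124412)) (tt N35263 F198964) (tt N80942 (iv5 F335273)) (tt N46918 F302566) (tt N47053 F198965))
theorem Q65040 : ∀ i, i < 65040 → P i := stepQ 65039 Q65039 (allL N65039 (tt N44811 F302567) (tt N44809 F302568) (tt N47056 F198966) (tt N80942 F318026) (tt N101101 (iv4 F431677)) (tt N35262 (iv5 D124413)) (tt N67955 (iv6 F344932)) (tt N47054 F198967))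
theorem Q65041 : ∀ i, i < 65041 → P i := stepQ 65040 Q65040 (allL N65040 (tt N71758 F351825) (tt N71162 F351808) (tt N71760 (iv2 F351626)) (tt N35264 F199008) (tt N101652 D204820) (tt N35263 (iv5 D124424)) (tt N101653 D204821) (tt N71759 F351612))
theorem Q65042 : ∀ i, i < 65042 → P i := stepQ 65041 Q65041 (allL N65041 (tt N61812 F351830) (tt N79167 (iv0 F366894)) (tt N90260 (iv2 F389136)) (tt N101639 (iv3 F433657)) (tt N35264 (iv4 D124426)) (tt N101638 (iv5 F433654)) (tt N101654 D204822) (tt N101609 (iv7 F433535)))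
theorem Q65043 : ∀ i, i < 65043 → P i := stepQ 65042 Q65042 (allL N65042 (tt N101655 D204823) (tt N72622 (iv0 F342824)) (tt N90261 (iv2 F389139)) (tt N101653 (iv3 F433710)) (tt N101654 (iv4 F433712)) (tt N40052 F342821) (tt N35264 (iv6 D124427)) (tt N96244 (iv7 F411715)))
theorem Q65044 : ∀ i, i < 65044 → P i := stepQ 65043 Q65043 (allL N65043 (tt N57146 F402112) (tt N101656 D204824) (tt N101657 D204825) (tt N35265 (iv3 D124431)) (tt N96853 (iv4 F414265)) (tt N101658 D204826) (tt N96852 (iv6 F414260)) (tt N101148 (iv7 F431933)))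
theorem Q65045 : ∀ i, i < 65045 → P i := stepQ 65044 Q65044 (allL N65044 (tt N80570 (iv1 F268463)) (tt N58697 (iv0 F358856)) (tt N101122 (iv2 F431784)) (tt N101658 (iv3 F433732)) (tt N101641 (iv4 F433670)) (tt N35265 (iv5 D124432)) (tt N101659 D204827) (tt N101149 (iv7 F431937)))
theorem Q65046 : ∀ i, i < 65046 → P i := stepQ 65045 Q65045 (allL N65045 (tt N57896 (iv1 F362471)) (tt N101660 D204828) (tt N80947 F351613) (tt N35266 (iv3 D124437)) (tt N45394 F302225) (tt N101652 (iv5 F433708)) (tt N64923 (iv6 F304738)) (tt N45362 F302226))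
theorem Q65047 : ∀ i, i < 65047 → P i := stepQ 65046 Q65046 (allL N65046 (tt N81719 F351527) (tt N101661 D204829) (tt N81956 (iv2 F277624)) (tt N101652 (iv3 F433707)) (tt N101639 (iv4 F433658)) (tt N35266 (iv5 D124438)) (tt N101662 D204830) (tt N45363 F302227))
theorem Q65048 : ∀ i, i < 65048 → P i := stepQ 65047 Q65047 (allL N65047 (tt N80578 F401157) (tt N101663 D204831) (tt N93815 (iv2 F402030)) (tt N35267 (iv3 D124441)) (tt N78484 F302230) (tt N93468 F400817) (tt N45340 F302231) (tt N81954 F277623))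
theorem Q65049 : ∀ i, i < 65049 → P i := stepQ 65048 Q65048 (allL N65048 (tt N101661 (iv1 F433744)) (tt N81719 F351530) (tt N45363 F302232) (tt N93468 F400816) (tt N101637 (iv4 F433647)) (tt N35267 (iv5 D124442)) (tt N101601 (iv6 F433504)) (tt N81956 (iv7 F277625)))
theorem Q65050 : ∀ i, i < 65050 → P i := stepQ 65049 Q65049 (allL N65049 (tt N63990 (iv1 F300047)) (tt N64352 (iv0 F301766)) (tt N64936 (iv2 F299745)) (tt N96179 (iv3 F411360)) (tt N64366 (iv4 F297437)) (tt N81862 (iv5 F277306)) (tt N35268 (iv6 D124446)) (tt N63874 (iv7 F297436)))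
theorem Q65051 : ∀ i, i < 65051 → P i := stepQ 65050 Q65050 (allL N65050 (tt N78736 (iv1 F250666)) (tt N57001 (iv0 F345405)) (tt N57161 F351089) (tt N59886 (iv3 F351097)) (tt N101633 (iv4 F433631)) (tt N35269 (iv5 D124448)) (tt N101664 D204832) (tt N79428 (iv7 F256149)))
theorem Q65052 : ∀ i, i < 65052 → P i := stepQ 65051 Q65051 (allL N65051 (tt N95210 (iv1 F407436)) (tt N35270 (iv0 D124450)) (tt N95214 (iv2 F411309)) (tt N94732 F405716) (tt N100704 (iv4 F430097)) (tt N101665 D204833) (tt N101666 D204834) (tt N95213 F411308))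
theorem Q65053 : ∀ i, i < 65053 → P i := stepQ 65052 Q65052 (allL N65052 (tt N35270 (iv1 D124451)) (tt N95210 F407435) (tt N95213 F411306) (tt N96165 (iv3 F411315)) (tt N100679 (iv4 F429976)) (tt N96163 (iv5 F411305)) (tt N64968 (iv6 F413343)) (tt N95214 (iv7 F411307)))
theorem Q65054 : ∀ i, i < 65054 → P i := stepQ 65053 Q65053 (allL N65053 (tt N95214 (iv1 F407445)) (tt N95213 F407444) (tt N35270 (iv2 D124452)) (tt N91615 (iv3 F393782)) (tt N35283 F199040) (tt N81725 (iv5 F351540)) (tt N48398 F199041) (tt N95210 (iv7 F407434)))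
theorem Q65055 : ∀ i, i < 65055 → P i := stepQ 65054 Q65054 (allL N65054 (tt N65082 F433673) (tt N81727 (iv0 F433811)) (tt N81725 F351541) (tt N35271 F199042) (tt N101667 D204836) (tt N35270 (iv5 D124453)) (tt N77113 (iv6 F353009)) (tt N81726 (iv7 F351544)))
theorem Q65056 : ∀ i, i < 65056 → P i := stepQ 65055 Q65055 (allL N65055 (tt N95207 (iv1 F407416)) (tt N35271 (iv0 D124455)) (tt N79422 (iv2 F255962)) (tt N57165 (iv3 F353083)) (tt N101628 (iv4 F433612)) (tt N79168 (iv5 F303293)) (tt N62355 F344459) (tt N95220 (iv7 F407470)))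
theorem Q65057 : ∀ i, i < 65057 → P i := stepQ 65056 Q65056 (allL N65056 (tt N35271 (iv1 D124456)) (tt N95207 (iv0 F407415)) (tt N95220 F407468) (tt N40422 F325847) (tt N101623 (iv4 F433598)) (tt N40421 F325848) (tt N93546 (iv6 F401093)) (tt N79422 (iv7 F255963)))
theorem Q65058 : ∀ i, i < 65058 → P i := stepQ 65057 Q65057 (allL N65057 (tt N101638 F433653) (tt N101641 F433671) (tt N101612 (iv2 F433543)) (tt N62133 F404600) (tt N35271 (iv4 D124457)) (tt N100444 F429001) (tt N93554 (iv6 F401113)) (tt N95221 (iv7 F407475)))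
theorem Q65059 : ∀ i, i < 65059 → P i := stepQ 65058 Q65058 (allL N65058 (tt N49308 F199062) (tt N49307 F199063) (tt N44833 F199059) (tt N55518 (iv3 F358402)) (tt N35273 (iv4 D124464)) (tt N81020 (iv5 F273033)) (tt N44836 F199060) (tt N47131 F199061))
theorem Q65060 : ∀ i, i < 65060 → P i := stepQ 65059 Q65059 (allL N65059 (tt N49307 F199078) (tt N49308 F199079) (tt N47131 F199075) (tt N39579 F326662) (tt N35274 (iv4 D124466)) (tt N81019 (iv5 F273027)) (tt N45979 F199076) (tt N44833 F199077))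
theorem Q65061 : ∀ i, i < 65061 → P i := stepQ 65060 Q65060 (allL N65060 (tt N101668 D204837) (tt N81621 (iv0 F349873)) (tt N91940 (iv2 F395039)) (tt N35275 (iv3 D124469)) (tt N35276 F199090) (tt N91940 (iv5 F395042)) (tt N55434 (iv6 F331199)) (tt N47138 F199091))
theorem Q65062 : ∀ i, i < 65062 → P i := stepQ 65061 Q65061 (allL N65061 (tt N81604 (iv1 F276223)) (tt N78664 (iv0 F250185)) (tt N47134 F346342) (tt N91940 (iv3 F395040)) (tt N101121 (iv4 F431778)) (tt N35275 (iv5 D124470)) (tt N91938 (iv6 F395029)) (tt N47139 F199093))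
theorem Q65063 : ∀ i, i < 65063 → P i := stepQ 65062 Q65062 (allL N65062 (tt N47784 (iv1 F199094)) (tt N35276 (iv0 D124471)) (tt N47783 F345346) (tt N101669 D204838) (tt N101670 D204839) (tt N36166 F345347) (tt N100807 (iv6 F430565)) (tt N47782 F345348))
theorem Q65064 : ∀ i, i < 65064 → P i := stepQ 65063 Q65063 (allL N65063 (tt N35276 (iv1 D124472)) (tt N47784 F199098) (tt N47782 F345349) (tt N80376 F354777) (tt N82484 F345350) (tt N36167 F345351) (tt N45988 F345352) (tt N47783 F345353))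
theorem Q65065 : ∀ i, i < 65065 → P i := stepQ 65064 Q65064 (allL N65064 (tt N47783 (iv1 F199099)) (tt N47782 F199097) (tt N35276 (iv2 D124473)) (tt N47781 F199095) (tt N91940 (iv4 F395041)) (tt N82491 (iv5 F338784)) (tt N46827 F322456) (tt N47784 F199096))
theorem Q65066 : ∀ i, i < 65066 → P i := stepQ 65065 Q65065 (allL N65065 (tt N47781 (iv1 F199100)) (tt N35277 (iv0 D124474)) (tt N47780 F341241) (tt N101671 D204840) (tt N101672 D204841) (tt N79585 (iv5 F341244)) (tt N76747 F341242) (tt N47779 F341243))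
theorem Q65067 : ∀ i, i < 65067 → P i := stepQ 65066 Q65066 (allL N65066 (tt N35277 (iv1 D124475)) (tt N47781 F199104) (tt N47779 F341235) (tt N47126 F341236) (tt N101673 D204842) (tt N79586 F353880) (tt N47088 F341237) (tt N47780 F341238))
theorem Q65068 : ∀ i, i < 65068 → P i := stepQ 65067 Q65067 (allL N65067 (tt N47780 (iv1 F199105)) (tt N47779 F199103) (tt N35277 (iv2 D124476)) (tt N47784 F199101) (tt N94671 (iv4 F405463)) (tt N77777 F339278) (tt N66401 F339276) (tt N47781 F199102))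
theorem Q65069 : ∀ i, i < 65069 → P i := stepQ 65068 Q65068 (allL N65068 (tt N47078 F353079) (tt N47088 F353080) (tt N47086 F330284) (tt N35279 (iv3 D124477)) (tt N59474 (iv4 F353077)) (tt N68362 F353081) (tt N59472 F336511) (tt N46262 F199106))
theorem Q65070 : ∀ i, i < 65070 → P i := stepQ 65069 Q65069 (allL N65069 (tt N81009 (iv1 F272984)) (tt N81008 (iv0 F272981)) (tt N47141 F199111) (tt N79593 (iv3 F353267)) (tt N100852 (iv4 F430778)) (tt N35280 (iv5 D124479)) (tt N101674 D204843) (tt N47142 F199112))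
theorem Q65071 : ∀ i, i < 65071 → P i := stepQ 65070 Q65070 (allL N65070 (tt N35282 (iv1 F199116)) (tt N35281 (iv0 D124480)) (tt N35285 (iv2 F199113)) (tt N47793 F199114) (tt N95210 (iv4 F407433)) (tt N101675 D204844) (tt N57496 (iv6 F319459)) (tt N35283 F199115))
theorem Q65072 : ∀ i, i < 65072 → P i := stepQ 65071 Q65071 (allL N65071 (tt N35285 F362193) (tt N35283 F362194) (tt N35281 (iv2 D124481)) (tt N97365 (iv3 F416523)) (tt N101676 D204845) (tt N93810 (iv5 F402009)) (tt N81993 F362195) (tt N35282 (iv7 F199117)))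
theorem Q65073 : ∀ i, i < 65073 → P i := stepQ 65072 Q65072 (allL N65072 (tt N101677 D204846) (tt N101678 D204847) (tt N101676 (iv2 F433813)) (tt N57899 F362198) (tt N35281 (iv4 D124483)) (tt N57142 (iv5 F402005)) (tt N101679 D204848) (tt N58169 (iv7 F362197)))
theorem Q65074 : ∀ i, i < 65074 → P i := stepQ 65073 Q65073 (allL N65073 (tt N93809 (iv1 F401992)) (tt N47327 F345558) (tt N93810 (iv2 F402006)) (tt N65859 (iv3 F365857)) (tt N93795 (iv4 F401917)) (tt N35281 (iv5 D124484)) (tt N81453 F345559) (tt N93792 (iv7 F401902)))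
theorem Q65075 : ∀ i, i < 65075 → P i := stepQ 65074 Q65074 (allL N65074 (tt N81994 F345555) (tt N46203 F345556) (tt N81993 (iv2 F345551)) (tt N65860 F345557) (tt N101679 (iv4 F433832)) (tt N81454 (iv5 F345554)) (tt N35281 (iv6 D124485)) (tt N81992 F345548))
theorem Q65076 : ∀ i, i < 65076 → P i := stepQ 65075 Q65075 (allL N65075 (tt N35283 F345543) (tt N35285 F345544) (tt N35282 F199118) (tt N65834 F345545) (tt N58169 F345547) (tt N93792 (iv5 F401901)) (tt N65884 F345546) (tt N35281 (iv7 D124486)))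
theorem Q65077 : ∀ i, i < 65077 → P i := stepQ 65076 Q65076 (allL N65076 (tt N81619 (iv1 F353250)) (tt N42124 F353248) (tt N65854 (iv2 F351043)) (tt N35282 (iv3 D124487)) (tt N95589 (iv4 F408792)) (tt N39387 F336030) (tt N101680 D204849) (tt N97365 (iv7 F416525)))
theorem Q65078 : ∀ i, i < 65078 → P i := stepQ 65077 Q65077 (allL N65077 (tt N101678 (iv1 F433826)) (tt N101677 F433821) (tt N58169 (iv2 F362196)) (tt N95592 (iv3 F408805)) (tt N35282 (iv4 D124488)) (tt N57141 (iv5 F402000)) (tt N96585 (iv6 F413082)) (tt N101676 (iv7 F433815)))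
theorem Q65079 : ∀ i, i < 65079 → P i := stepQ 65078 Q65078 (allL N65078 (tt N46153 F336023) (tt N68250 F336024) (tt N65884 (iv2 F345537)) (tt N101680 (iv3 F433835)) (tt N96585 (iv4 F413081)) (tt N67939 F336025) (tt N35282 (iv6 D124490)) (tt N67959 (iv7 F342180)))
theorem Q65080 : ∀ i, i < 65080 → P i := stepQ 65079 Q65079 (allL N65079 (tt N101681 D204850) (tt N97076 (iv0 F415357)) (tt N35284 F199121) (tt N47804 F199122) (tt N101682 D204851) (tt N35283 (iv5 D124493)) (tt N101683 D204852) (tt N101675 (iv7 F433807)))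
theorem Q65081 : ∀ i, i < 65081 → P i := stepQ 65080 Q65080 (allL N65080 (tt N101675 F433809) (tt N35284 (iv0 D124494)) (tt N101681 F433841) (tt N97081 (iv3 F415381)) (tt N101684 D204853) (tt N79518 F360733) (tt N88503 (iv6 F383304)) (tt N97076 (iv7 F415356)))
theorem Q65082 : ∀ i, i < 65082 → P i := stepQ 65081 Q65081 (allL N65081 (tt N35284 (iv1 D124495)) (tt N101675 (iv0 F433808)) (tt N97076 (iv2 F415353)) (tt N66328 F346530) (tt N96062 (iv4 F410864)) (tt N79519 F346531) (tt N66326 (iv6 F346529)) (tt N101681 (iv7 F433843)))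
theorem Q65083 : ∀ i, i < 65083 → P i := stepQ 65082 Q65082 (allL N65082 (tt N101685 D204854) (tt N65054 (iv0 F433673)) (tt N101682 (iv2 F433846)) (tt N47736 F199123) (tt N35284 (iv4 D124496)) (tt N101686 D204855) (tt N97410 F416765) (tt N47734 (iv7 F199124)))
theorem Q65084 : ∀ i, i < 65084 → P i := stepQ 65083 Q65083 (allL N65083 (tt N81238 F342145) (tt N97698 (iv0 F417950)) (tt N101683 (iv2 F433851)) (tt N35286 F199125) (tt N97410 (iv4 F416763)) (tt N35526 F199126) (tt N35284 (iv6 D124497)) (tt N82236 F313778))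
theorem Q65085 : ∀ i, i < 65085 → P i := stepQ 65084 Q65084 (allL N65084 (tt N97076 F415358) (tt N101681 F433842) (tt N101675 (iv2 F433805)) (tt N35287 F199127) (tt N47734 F199128) (tt N35285 F199129) (tt N81147 F346560) (tt N35284 (iv7 D124498)))
theorem Q65086 : ∀ i, i < 65086 → P i := stepQ 65085 Q65085 (allL N65085 (tt N42329 F309219) (tt N42334 F309220) (tt N47815 F199145) (tt N81147 (iv3 F346558)) (tt N42651 F199146) (tt N82451 (iv5 F281040)) (tt N35287 (iv6 D124503)) (tt N74255 (iv7 F322407)))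
theorem Q65087 : ∀ i, i < 65087 → P i := stepQ 65086 Q65086 (allL N65086 (tt N35288 (iv1 D124505)) (tt N100023 F427248) (tt N81370 F348243) (tt N47709 F338142) (tt N43792 F300043) (tt N47707 F338143) (tt N48476 F338144) (tt N48456 F338145))
theorem Q65088 : ∀ i, i < 65088 → P i := stepQ 65087 Q65087 (allL N65087 (tt N94168 (iv1 F403510)) (tt N80471 (iv0 F338079)) (tt N99745 (iv2 F426021)) (tt N35290 F199147) (tt N80485 (iv4 F354306)) (tt N35288 (iv5 D124506)) (tt N54964 F199148) (tt N101498 (iv7 F433156)))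
theorem Q65089 : ∀ i, i < 65089 → P i := stepQ 65088 Q65088 (allL N65088 (tt N47688 F343386) (tt N87700 F380179) (tt N87698 (iv2 F380172)) (tt N35289 (iv3 D124508)) (tt N46932 F199152) (tt N74424 F341983) (tt N48131 F199153) (tt N35297 F199154))
theorem Q65090 : ∀ i, i < 65090 → P i := stepQ 65089 Q65089 (allL N65089 (tt N48480 (iv1 F299087)) (tt N48479 (iv0 F299083)) (tt N35299 F199155) (tt N74424 F341982) (tt N67997 (iv4 F342197)) (tt N35289 (iv5 D124509)) (tt N80760 F350145) (tt N35298 F199156))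
theorem Q65091 : ∀ i, i < 65091 → P i := stepQ 65090 Q65090 (allL N65090 (tt N35303 (iv1 F199159)) (tt N35290 (iv0 D124510)) (tt N35300 (iv2 F199157)) (tt N92573 F397432) (tt N69139 (iv4 F341963)) (tt N46498 (iv5 F301034)) (tt N73144 (iv6 F339603)) (tt N35301 F199158))
theorem Q65092 : ∀ i, i < 65092 → P i := stepQ 65091 Q65091 (allL N65091 (tt N75494 (iv1 F354282)) (tt N80497 (iv0 F268021)) (tt N35302 F199160) (tt N57402 F356285) (tt N35290 (iv4 D124511)) (tt N101687 D204856) (tt N54969 F199161) (tt N75343 F348856))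
theorem Q65093 : ∀ i, i < 65093 → P i := stepQ 65092 Q65092 (allL N65092 (tt N80390 F297503) (tt N52176 (iv0 F199176)) (tt N35310 F199174) (tt N97855 (iv3 F418524)) (tt N35292 (iv4 D124517)) (tt N67990 (iv5 F354348)) (tt N58474 (iv6 F325530)) (tt N35311 F199175))
theorem Q65094 : ∀ i, i < 65094 → P i := stepQ 65093 Q65093 (allL N65093 (tt N35293 (iv1 D124518)) (tt N35316 F199177) (tt N35313 (iv2 F199180)) (tt N69137 (iv3 F358171)) (tt N46490 F297643) (tt N69136 (iv5 F341955)) (tt N48433 (iv6 F299821)) (tt N35312 F199178))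
theorem Q65095 : ∀ i, i < 65095 → P i := stepQ 65094 Q65094 (allL N65094 (tt N94851 F406144) (tt N101688 D204857) (tt N101689 D204858) (tt N35293 (iv3 D124519)) (tt N47831 F199181) (tt N101690 D204859) (tt N46539 F199182) (tt N101499 (iv7 F433159)))
theorem Q65096 : ∀ i, i < 65096 → P i := stepQ 65095 Q65095 (allL N65095 (tt N45876 F301895) (tt N81750 (iv0 F276856)) (tt N35315 F199183) (tt N101690 (iv3 F433879)) (tt N101691 D204860) (tt N35293 (iv5 D124520)) (tt N86924 (iv6 F377713)) (tt N101500 (iv7 F433162)))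
theorem Q65097 : ∀ i, i < 65097 → P i := stepQ 65096 Q65096 (allL N65096 (tt N41653 F315632) (tt N64426 (iv0 F356973)) (tt N97942 (iv2 F418895)) (tt N35294 (iv3 D124523)) (tt N49416 F337277) (tt N101272 (iv5 F432475)) (tt N69971 (iv6 F352610)) (tt N36287 F315633))
theorem Q65098 : ∀ i, i < 65098 → P i := stepQ 65097 Q65097 (allL N65097 (tt N75219 F315635) (tt N41676 F315636) (tt N54966 (iv2 F317937)) (tt N101272 (iv3 F432476)) (tt N99789 (iv4 F426219)) (tt N35294 (iv5 D124525)) (tt N75781 F315638) (tt N36291 F315639))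
theorem Q65099 : ∀ i, i < 65099 → P i := stepQ 65098 Q65098 (allL N65098 (tt N54970 (iv1 F199199)) (tt N35296 (iv0 D124532)) (tt N54967 (iv2 F315759)) (tt N101692 D204861) (tt N101693 D204862) (tt N66682 F313326) (tt N42433 F313327) (tt N54968 (iv7 F356804)))
theorem Q65100 : ∀ i, i < 65100 → P i := stepQ 65099 Q65099 (allL N65099 (tt N35296 (iv1 D124533)) (tt N54970 F199192) (tt N54968 F356805) (tt N92577 (iv3 F397452)) (tt N42144 F310998) (tt N51998 (iv5 F199193)) (tt N42142 F310999) (tt N54967 (iv7 F315763)))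
theorem Q65101 : ∀ i, i < 65101 → P i := stepQ 65100 Q65100 (allL N65100 (tt N75487 (iv1 F334518)) (tt N75323 F313328) (tt N54969 F199194) (tt N88643 (iv3 F383683)) (tt N35296 (iv4 D124534)) (tt N75221 F313329) (tt N35302 F199195) (tt N75341 F313330))
theorem Q65102 : ∀ i, i < 65102 → P i := stepQ 65101 Q65101 (allL N65101 (tt N87698 (iv1 F380167)) (tt N35297 (iv0 D124536)) (tt N87700 (iv2 F380176)) (tt N81313 F364613) (tt N101694 D204863) (tt N101695 D204864) (tt N47720 F364614) (tt N47688 F364615))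
theorem Q65103 : ∀ i, i < 65103 → P i := stepQ 65102 Q65102 (allL N65102 (tt N74425 F332052) (tt N74421 (iv0 F341977)) (tt N74423 (iv2 F341978)) (tt N35298 F199203) (tt N99770 (iv4 F426151)) (tt N35297 (iv5 D124539)) (tt N49041 F297820) (tt N74424 (iv7 F341980)))
theorem Q65104 : ∀ i, i < 65104 → P i := stepQ 65103 Q65103 (allL N65103 (tt N35299 (iv1 F199207)) (tt N35298 (iv0 D124541)) (tt N48479 (iv2 F299084)) (tt N79919 (iv3 F337875)) (tt N70481 (iv4 F337894)) (tt N46582 F199206) (tt N75767 F355137) (tt N48480 (iv7 F299089)))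
theorem Q65105 : ∀ i, i < 65105 → P i := stepQ 65104 Q65104 (allL N65104 (tt N67964 (iv1 F337904)) (tt N41820 F337903) (tt N48481 (iv2 F299090)) (tt N101696 D204865) (tt N35298 (iv4 D124543)) (tt N101697 D204866) (tt N49046 F297825) (tt N67997 F342199))
theorem Q65106 : ∀ i, i < 65106 → P i := stepQ 65105 Q65105 (allL N65105 (tt N41820 F312109) (tt N67964 F333924) (tt N67997 F333925) (tt N36925 F333926) (tt N35299 (iv4 D124550)) (tt N36921 F333927) (tt N81300 (iv6 F354070)) (tt N48481 F301888))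
theorem Q65107 : ∀ i, i < 65107 → P i := stepQ 65106 Q65106 (allL N65106 (tt N101695 F433911) (tt N87699 (iv0 F380175)) (tt N92580 (iv2 F397469)) (tt N35300 (iv3 D124552)) (tt N101698 D204867) (tt N68505 (iv5 F337051)) (tt N101699 D204868) (tt N80479 F267908))
theorem Q65108 : ∀ i, i < 65108 → P i := stepQ 65107 Q65107 (allL N65107 (tt N101700 D204869) (tt N80401 (iv0 F267224)) (tt N69139 F341964) (tt N69268 F341965) (tt N35300 (iv4 D124553)) (tt N37192 F341966) (tt N42150 F341967) (tt N80482 (iv7 F267930)))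
theorem Q65109 : ∀ i, i < 65109 → P i := stepQ 65108 Q65108 (allL N65108 (tt N73143 F335053) (tt N41600 F335055) (tt N73144 F339604) (tt N101699 (iv3 F433931)) (tt N42150 F335056) (tt N62231 (iv5 F335054)) (tt N35300 (iv6 D124554)) (tt N62230 F335057))
theorem Q65110 : ∀ i, i < 65110 → P i := stepQ 65109 Q65109 (allL N65109 (tt N80401 (iv1 F267225)) (tt N101700 F433942) (tt N80482 (iv2 F267929)) (tt N37087 F341959) (tt N35301 (iv4 D124556)) (tt N37086 F341960) (tt N44883 F341961) (tt N69139 F341962))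
theorem Q65111 : ∀ i, i < 65111 → P i := stepQ 65110 Q65110 (allL N65110 (tt N75636 F350196) (tt N101701 D204870) (tt N80481 (iv2 F267927)) (tt N44881 F350197) (tt N44883 F350198) (tt N46496 F302678) (tt N35301 (iv6 D124557)) (tt N73141 F350199))
theorem Q65112 : ∀ i, i < 65112 → P i := stepQ 65111 Q65111 (allL N65111 (tt N75343 F348859) (tt N35302 (iv0 D124558)) (tt N75494 F354284) (tt N51092 (iv3 F339575)) (tt N69414 (iv4 F310635)) (tt N83635 F348861) (tt N75178 (iv6 F348864)) (tt N80497 (iv7 F268028)))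
theorem Q65113 : ∀ i, i < 65113 → P i := stepQ 65112 Q65112 (allL N65112 (tt N35302 (iv1 D124559)) (tt N75343 F348860) (tt N80497 (iv2 F268020)) (tt N69130 (iv3 F354317)) (tt N69412 (iv4 F310633)) (tt N69128 F354300) (tt N101702 D204871) (tt N75494 (iv7 F354283)))
theorem Q65114 : ∀ i, i < 65114 → P i := stepQ 65113 Q65113 (allL N65113 (tt N101703 D204872) (tt N101704 D204873) (tt N101705 D204874) (tt N35302 (iv3 D124560)) (tt N100024 (iv4 F427251)) (tt N82503 (iv5 F374621)) (tt N88643 F383682) (tt N80330 (iv7 F361189)))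
theorem Q65115 : ∀ i, i < 65115 → P i := stepQ 65114 Q65114 (allL N65114 (tt N50897 F365116) (tt N69047 F348877) (tt N101687 (iv2 F433868)) (tt N82503 F374622) (tt N101500 (iv4 F433161)) (tt N35302 (iv5 D124561)) (tt N101706 D204875) (tt N101691 (iv7 F433887)))
theorem Q65116 : ∀ i, i < 65116 → P i := stepQ 65115 Q65115 (allL N65115 (tt N80497 (iv1 F268022)) (tt N75494 (iv0 F354281)) (tt N75343 F348855) (tt N80330 F361188) (tt N35303 F199216) (tt N101691 (iv5 F433885)) (tt N75276 (iv6 F361187)) (tt N35302 (iv7 D124562)))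
theorem Q65117 : ∀ i, i < 65117 → P i := stepQ 65116 Q65116 (allL N65116 (tt N45863 F297828) (tt N45877 F297829) (tt N45875 F297830) (tt N80117 (iv3 F261642)) (tt N35305 (iv4 D124584)) (tt N67427 F337897) (tt N35512 F199266) (tt N45874 F297831))
theorem Q65118 : ∀ i, i < 65118 → P i := stepQ 65117 Q65117 (allL N65117 (tt N60692 F326807) (tt N101707 D204876) (tt N60571 F326808) (tt N35306 (iv3 D124587)) (tt N35833 F326809) (tt N60507 F326810) (tt N35832 F326811) (tt N65691 (iv7 F326942)))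
theorem Q65119 : ∀ i, i < 65119 → P i := stepQ 65118 Q65118 (allL N65118 (tt N82562 F299382) (tt N82566 F299383) (tt N87900 (iv2 F381026)) (tt N60507 (iv3 F365868)) (tt N69047 (iv4 F348875)) (tt N35306 (iv5 D124588)) (tt N69046 F348876) (tt N81743 (iv7 F276796)))
theorem Q65120 : ∀ i, i < 65120 → P i := stepQ 65119 Q65119 (allL N65119 (tt N35307 (iv1 D124592)) (tt N78309 (iv0 F343988)) (tt N78308 (iv2 F343999)) (tt N63737 (iv3 F199284)) (tt N68413 (iv4 F306819)) (tt N75326 F343997) (tt N47746 F199285) (tt N46553 F199283))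
theorem Q65121 : ∀ i, i < 65121 → P i := stepQ 65120 Q65120 (allL N65120 (tt N74743 (iv1 F348880)) (tt N70481 F337899) (tt N50078 (iv2 F331168)) (tt N52502 F348881) (tt N35308 (iv4 D124595)) (tt N69047 F348873) (tt N52376 (iv6 F348879)) (tt N74990 F348878))
theorem Q65122 : ∀ i, i < 65122 → P i := stepQ 65121 Q65121 (allL N65121 (tt N67963 (iv1 F354304)) (tt N67991 F354303) (tt N67990 F354350) (tt N60020 F354374) (tt N69128 F354299) (tt N35310 (iv5 D124602)) (tt N101708 D204877) (tt N67989 (iv7 F354291)))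
theorem Q65123 : ∀ i, i < 65123 → P i := stepQ 65122 Q65122 (allL N65122 (tt N97664 (iv1 F417840)) (tt N93974 (iv0 F402671)) (tt N60503 F366000) (tt N35311 (iv3 D124606)) (tt N80499 (iv4 F299401)) (tt N91042 (iv5 F391724)) (tt N101081 (iv6 F431580)) (tt N97855 (iv7 F418528)))
theorem Q65124 : ∀ i, i < 65124 → P i := stepQ 65123 Q65123 (allL N65123 (tt N67991 F348869) (tt N67963 F354307) (tt N67989 (iv2 F354287)) (tt N91042 (iv3 F391723)) (tt N83635 (iv4 F348862)) (tt N35311 (iv5 D124607)) (tt N101709 D204878) (tt N67990 F354351))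
theorem Q65125 : ∀ i, i < 65125 → P i := stepQ 65124 Q65124 (allL N65124 (tt N36848 F347419) (tt N79743 (iv0 F299823)) (tt N80039 (iv2 F260879)) (tt N36805 F341952) (tt N37086 F341953) (tt N35312 (iv5 D124610)) (tt N101710 D204879) (tt N69136 F341954))
theorem Q65126 : ∀ i, i < 65126 → P i := stepQ 65125 Q65125 (allL N65125 (tt N49197 F299408) (tt N48253 F280421) (tt N58846 (iv2 F323183)) (tt N65499 (iv3 F358202)) (tt N48492 F299410) (tt N101711 D204880) (tt N35312 (iv6 D124611)) (tt N65633 (iv7 F325536)))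
theorem Q65127 : ∀ i, i < 65127 → P i := stepQ 65126 Q65126 (allL N65126 (tt N101712 D204881) (tt N101713 D204882) (tt N97846 (iv2 F418487)) (tt N35313 (iv3 D124612)) (tt N46512 (iv4 F299822)) (tt N101714 D204883) (tt N64087 F297644) (tt N80038 (iv7 F260878)))
theorem Q65128 : ∀ i, i < 65128 → P i := stepQ 65127 Q65127 (allL N65127 (tt N79743 (iv1 F299824)) (tt N36848 F347418) (tt N69136 F341755) (tt N101714 (iv3 F434008)) (tt N37192 F341968) (tt N35313 (iv5 D124613)) (tt N68798 (iv6 F359048)) (tt N80039 (iv7 F260880)))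
theorem Q65129 : ∀ i, i < 65129 → P i := stepQ 65128 Q65128 (allL N65128 (tt N97480 F417028) (tt N35314 (iv0 D124615)) (tt N65577 (iv2 F352204)) (tt N55169 (iv3 F352209)) (tt N55174 F352207) (tt N52972 F352205) (tt N65575 F352206) (tt N90422 (iv7 F389590)))
theorem Q65130 : ∀ i, i < 65130 → P i := stepQ 65129 Q65129 (allL N65129 (tt N65577 F332210) (tt N90422 (iv0 F389591)) (tt N35314 (iv2 D124617)) (tt N101689 (iv3 F433875)) (tt N35327 F199307) (tt N88650 (iv5 F383714)) (tt N48295 F199308) (tt N97480 (iv7 F417026)))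
theorem Q65131 : ∀ i, i < 65131 → P i := stepQ 65130 Q65130 (allL N65130 (tt N83980 (iv1 F367701)) (tt N83978 (iv0 F367694)) (tt N88650 F383717) (tt N35315 F199309) (tt N54257 F352184) (tt N35314 (iv5 D124618)) (tt N101715 D204884) (tt N88651 (iv7 F383719)))
theorem Q65132 : ∀ i, i < 65132 → P i := stepQ 65131 Q65131 (allL N65131 (tt N90422 (iv1 F389592)) (tt N65577 (iv0 F365908)) (tt N97480 (iv2 F417023)) (tt N35316 F199310) (tt N35329 F199311) (tt N88651 F383721) (tt N56981 (iv6 F344707)) (tt N35314 (iv7 D124619)))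
theorem Q65133 : ∀ i, i < 65133 → P i := stepQ 65132 Q65132 (allL N65132 (tt N101500 (iv1 F433164)) (tt N35315 (iv0 D124620)) (tt N45876 (iv2 F299102)) (tt N36914 F341756) (tt N36921 F341757) (tt N45863 F297832) (tt N36912 F341758) (tt N81750 (iv7 F276855)))
theorem Q65134 : ∀ i, i < 65134 → P i := stepQ 65133 Q65133 (allL N65133 (tt N35315 (iv1 D124621)) (tt N101500 (iv0 F433163)) (tt N81750 (iv2 F276854)) (tt N95677 (iv3 F409103)) (tt N101697 (iv4 F433919)) (tt N45877 F299760) (tt N95675 (iv6 F409096)) (tt N45876 F299761))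
theorem Q65135 : ∀ i, i < 65135 → P i := stepQ 65134 Q65134 (allL N65134 (tt N69047 (iv1 F348874)) (tt N50897 (iv0 F348858)) (tt N101691 (iv2 F433883)) (tt N101716 D204885) (tt N35315 (iv4 D124622)) (tt N75343 F348857) (tt N77341 F348866) (tt N101687 (iv7 F433870)))
theorem Q65136 : ∀ i, i < 65136 → P i := stepQ 65135 Q65135 (allL N65135 (tt N68935 F361750) (tt N101717 D204886) (tt N86924 (iv2 F377712)) (tt N101715 (iv3 F434011)) (tt N77341 (iv4 F348867)) (tt N48297 F199312) (tt N35315 (iv6 D124623)) (tt N101718 D204887))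
theorem Q65137 : ∀ i, i < 65137 → P i := stepQ 65136 Q65136 (allL N65136 (tt N81750 (iv1 F276857)) (tt N45876 F301894) (tt N101500 (iv2 F433160)) (tt N88651 (iv3 F383722)) (tt N101687 (iv4 F433871)) (tt N35316 F199313) (tt N101719 D204888) (tt N35315 (iv7 D124624)))
theorem Q65138 : ∀ i, i < 65138 → P i := stepQ 65137 Q65137 (allL N65137 (tt N47910 (iv1 F199323)) (tt N35317 (iv0 D124626)) (tt N47909 F353912) (tt N52279 (iv3 F341259)) (tt N81281 F353914) (tt N77577 (iv5 F341257)) (tt N78701 (iv6 F341254)) (tt N47908 F353913))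
theorem Q65139 : ∀ i, i < 65139 → P i := stepQ 65138 Q65138 (allL N65138 (tt N35317 (iv1 D124627)) (tt N47910 F199327) (tt N47908 F353910) (tt N98292 (iv3 F420361)) (tt N101720 D204889) (tt N66930 F330645) (tt N35519 F330646) (tt N47909 F353911))
theorem Q65140 : ∀ i, i < 65140 → P i := stepQ 65139 Q65139 (allL N65139 (tt N47909 (iv1 F199328)) (tt N47908 F199326) (tt N35317 (iv2 D124628)) (tt N47905 F199324) (tt N95123 (iv4 F407129)) (tt N63544 F331711) (tt N64078 (iv6 F339246)) (tt N47910 F199325))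
theorem Q65141 : ∀ i, i < 65141 → P i := stepQ 65140 Q65140 (allL N65140 (tt N46689 F298757) (tt N35318 (iv0 D124631)) (tt N47230 (iv2 F199337)) (tt N81485 F353797) (tt N81110 (iv4 F273402)) (tt N46444 (iv5 F300631)) (tt N47528 (iv6 F199338)) (tt N47229 (iv7 F199339)))
theorem Q65142 : ∀ i, i < 65142 → P i := stepQ 65141 Q65141 (allL N65141 (tt N35318 (iv1 D124632)) (tt N46689 F298756) (tt N47229 (iv2 F199343)) (tt N68043 F344764) (tt N81109 (iv4 F273399)) (tt N44812 F199342) (tt N77687 (iv6 F344763)) (tt N47230 F199341))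
theorem Q65143 : ∀ i, i < 65143 → P i := stepQ 65142 Q65142 (allL N65142 (tt N79452 F360152) (tt N79449 F365169) (tt N41477 F330947) (tt N93532 (iv3 F401062)) (tt N35318 (iv4 D124633)) (tt N101721 D204890) (tt N41476 F330948) (tt N47231 F199345))
theorem Q65144 : ∀ i, i < 65144 → P i := stepQ 65143 Q65143 (allL N65143 (tt N71350 F330918) (tt N71349 F330919) (tt N36044 F330920) (tt N71357 F330921) (tt N41476 F330922) (tt N38246 F319763) (tt N35318 (iv6 D124634)) (tt N68346 (iv7 F346548)))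
theorem Q65145 : ∀ i, i < 65145 → P i := stepQ 65144 Q65144 (allL N65144 (tt N46690 F298310) (tt N35321 (iv0 D124639)) (tt N45665 (iv2 F300462)) (tt N91837 (iv3 F394623)) (tt N45644 F298311) (tt N81157 (iv5 F273503)) (tt N46220 (iv6 F299454)) (tt N45663 (iv7 F300459)))
theorem Q65146 : ∀ i, i < 65146 → P i := stepQ 65145 Q65145 (allL N65145 (tt N35321 (iv1 D124640)) (tt N46690 F298306) (tt N45663 (iv2 F300458)) (tt N101722 D204891) (tt N45643 F298307) (tt N81158 (iv5 F273509)) (tt N96900 F414516) (tt N45665 (iv7 F300464)))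
theorem Q65147 : ∀ i, i < 65147 → P i := stepQ 65146 Q65146 (allL N65146 (tt N54847 F199387) (tt N83775 F289078) (tt N47239 F199385) (tt N91986 (iv3 F395258)) (tt N101723 D204892) (tt N35321 (iv5 D124642)) (tt N101724 D204893) (tt N47236 F199386))
theorem Q65148 : ∀ i, i < 65148 → P i := stepQ 65147 Q65147 (allL N65147 (tt N47905 (iv1 F199388)) (tt N35322 (iv0 D124643)) (tt N47904 F340173) (tt N101725 D204894) (tt N101726 D204895) (tt N61004 F340174) (tt N48246 F340175) (tt N47903 F340176))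
theorem Q65149 : ∀ i, i < 65149 → P i := stepQ 65148 Q65148 (allL N65148 (tt N35322 (iv1 D124644)) (tt N47905 F199393) (tt N47903 F340147) (tt N80673 F348640) (tt N101727 D204896) (tt N74827 (iv5 F348637)) (tt N65310 (iv6 F336477)) (tt N47904 F340148))
theorem Q65150 : ∀ i, i < 65150 → P i := stepQ 65149 Q65149 (allL N65149 (tt N47904 (iv1 F199394)) (tt N47903 F199392) (tt N35322 (iv2 D124645)) (tt N47910 F199389) (tt N55483 (iv4 F352059)) (tt N61760 (iv5 F335984)) (tt N48372 F338771) (tt N47905 F199391))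
theorem Q65151 : ∀ i, i < 65151 → P i := stepQ 65150 Q65150 (allL N65150 (tt N79466 (iv1 F303299)) (tt N79470 (iv0 F303303)) (tt N47243 F199395) (tt N91895 F394849) (tt N101728 D204897) (tt N35323 (iv5 D124646)) (tt N101729 D204898) (tt N47240 F199396))
theorem Q65152 : ∀ i, i < 65152 → P i := stepQ 65151 Q65151 (allL N65151 (tt N45688 F302200) (tt N45690 F302201) (tt N47055 F302202) (tt N100805 (iv3 F430555)) (tt N35324 F199398) (tt N101730 D204899) (tt N35323 (iv6 D124647)) (tt N47057 F302203))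
theorem Q65153 : ∀ i, i < 65153 → P i := stepQ 65152 Q65152 (allL N65152 (tt N35326 (iv1 F199405)) (tt N35325 (iv0 D124648)) (tt N35329 (iv2 F199402)) (tt N47922 F199403) (tt N97480 (iv4 F417024)) (tt N101731 D204900) (tt N80750 F360730) (tt N35327 F199404))
theorem Q65154 : ∀ i, i < 65154 → P i := stepQ 65153 Q65153 (allL N65153 (tt N35329 F347457) (tt N35327 F347458) (tt N35325 (iv2 D124649)) (tt N94929 F406377) (tt N88680 (iv4 F383870)) (tt N75788 F347459) (tt N101732 D204901) (tt N35326 (iv7 F199406)))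
theorem Q65155 : ∀ i, i < 65155 → P i := stepQ 65154 Q65154 (allL N65154 (tt N80161 F362445) (tt N96565 (iv0 F413024)) (tt N80048 F354870) (tt N35325 (iv3 D124650)) (tt N63480 (iv4 F322773)) (tt N84135 (iv5 F368256)) (tt N79790 (iv6 F330810)) (tt N80049 (iv7 F347456)))
theorem Q65156 : ∀ i, i < 65156 → P i := stepQ 65155 Q65155 (allL N65155 (tt N101733 D204902) (tt N101734 D204903) (tt N88680 (iv2 F383867)) (tt N60496 F341642) (tt N35325 (iv4 D124651)) (tt N67335 (iv5 F361729)) (tt N101735 D204904) (tt N88682 (iv7 F383875)))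
theorem Q65157 : ∀ i, i < 65157 → P i := stepQ 65156 Q65156 (allL N65156 (tt N45429 F336447) (tt N75011 F336448) (tt N75788 F336444) (tt N84135 F368257) (tt N78576 (iv4 F336443)) (tt N35325 (iv5 D124652)) (tt N74744 F336445) (tt N80288 F336446))
theorem Q65158 : ∀ i, i < 65158 → P i := stepQ 65157 Q65157 (allL N65157 (tt N96968 (iv1 F414843)) (tt N47517 F354869) (tt N101732 (iv2 F434079)) (tt N79790 F354867) (tt N101735 (iv4 F434095)) (tt N101736 D204905) (tt N35325 (iv6 D124653)) (tt N81212 (iv7 F347455)))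
theorem Q65159 : ∀ i, i < 65159 → P i := stepQ 65158 Q65158 (allL N65158 (tt N35327 F347450) (tt N35329 F347451) (tt N35326 F199407) (tt N80049 F347452) (tt N88682 (iv4 F383873)) (tt N80288 F347453) (tt N79222 F347454) (tt N35325 (iv7 D124654)))
theorem Q65160 : ∀ i, i < 65160 → P i := stepQ 65159 Q65159 (allL N65159 (tt N94930 (iv1 F406386)) (tt N80158 F406373) (tt N94928 F406369) (tt N35326 (iv3 D124655)) (tt N101737 D204906) (tt N47979 F363189) (tt N81210 F363188) (tt N94929 (iv7 F406375)))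
theorem Q65161 : ∀ i, i < 65161 → P i := stepQ 65160 Q65160 (allL N65160 (tt N101734 (iv1 F434089)) (tt N101733 F434087) (tt N88682 (iv2 F383872)) (tt N47769 F347461) (tt N35326 (iv4 D124656)) (tt N67334 F347462) (tt N47764 F347463) (tt N88680 (iv7 F383869)))
theorem Q65162 : ∀ i, i < 65162 → P i := stepQ 65161 Q65161 (allL N65161 (tt N75011 F342136) (tt N45429 F342137) (tt N80288 (iv2 F346443)) (tt N47979 F342138) (tt N78575 F342139) (tt N35326 (iv5 D124657)) (tt N80892 F344800) (tt N75788 (iv7 F347460)))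
theorem Q65163 : ∀ i, i < 65163 → P i := stepQ 65162 Q65162 (allL N65162 (tt N99606 (iv1 F425389)) (tt N81809 (iv0 F277088)) (tt N35328 F199410) (tt N47930 F199411) (tt N80332 F352177) (tt N35327 (iv5 D124661)) (tt N80331 (iv6 F352175)) (tt N101731 (iv7 F434073)))
theorem Q65164 : ∀ i, i < 65164 → P i := stepQ 65163 Q65163 (allL N65163 (tt N101731 (iv1 F434074)) (tt N35328 (iv0 D124662)) (tt N99606 (iv2 F425384)) (tt N96563 F413015) (tt N47441 F334606) (tt N80115 (iv5 F334607)) (tt N69201 F364315) (tt N81809 F336433))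
theorem Q65165 : ∀ i, i < 65165 → P i := stepQ 65164 Q65164 (allL N65164 (tt N35328 (iv1 D124663)) (tt N101731 (iv0 F434075)) (tt N81809 F336437) (tt N99603 (iv3 F425370)) (tt N47444 F336438) (tt N80116 (iv5 F336440)) (tt N79241 F342673) (tt N99606 (iv7 F425385)))
theorem Q65166 : ∀ i, i < 65166 → P i := stepQ 65165 Q65165 (allL N65165 (tt N46893 F334604) (tt N46895 F334605) (tt N80332 (iv2 F352178)) (tt N75341 F350714) (tt N35328 (iv4 D124664)) (tt N89725 (iv5 F387325)) (tt N75338 (iv6 F350713)) (tt N88643 (iv7 F383681)))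
theorem Q65167 : ∀ i, i < 65167 → P i := stepQ 65166 Q65166 (allL N65166 (tt N81809 (iv1 F277089)) (tt N99606 (iv0 F425386)) (tt N101731 (iv2 F434070)) (tt N35330 F199412) (tt N88643 (iv4 F383678)) (tt N35329 F199413) (tt N100024 (iv6 F427252)) (tt N35328 (iv7 D124665)))
theorem Q65168 : ∀ i, i < 65168 → P i := stepQ 65167 Q65167 (allL N65167 (tt N64343 (iv1 F339191)) (tt N80751 (iv0 F339188)) (tt N80750 (iv2 F360727)) (tt N35331 F199414) (tt N56981 F344706) (tt N82236 (iv5 F366645)) (tt N35329 (iv6 D124666)) (tt N35526 F199415))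
theorem Q65169 : ∀ i, i < 65169 → P i := stepQ 65168 Q65168 (allL N65168 (tt N36555 F199418) (tt N36509 (iv0 F199419)) (tt N36552 F199416) (tt N66966 F363230) (tt N35332 (iv4 D124667)) (tt N66965 F331982) (tt N68012 (iv6 F330127)) (tt N36553 F199417))
theorem Q65170 : ∀ i, i < 65170 → P i := stepQ 65169 Q65169 (allL N65169 (tt N72343 (iv1 F314341)) (tt N80523 F268177) (tt N43722 F199420) (tt N35439 (iv3 F199922)) (tt N68012 F330125) (tt N43349 (iv5 F199425)) (tt N35332 (iv6 D124668)) (tt N77034 (iv7 F241480)))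
theorem Q65171 : ∀ i, i < 65171 → P i := stepQ 65170 Q65170 (allL N65170 (tt N79125 (iv1 F252765)) (tt N53884 F199432) (tt N89421 (iv2 F386440)) (tt N35335 F199429) (tt N64747 F199430) (tt N35334 (iv5 D124669)) (tt N75115 (iv6 F357744)) (tt N43483 F199431))
theorem Q65172 : ∀ i, i < 65172 → P i := stepQ 65171 Q65171 (allL N65171 (tt N82956 (iv1 F348276)) (tt N49460 (iv0 F348272)) (tt N42542 F302796) (tt N35336 F199433) (tt N44508 F307980) (tt N101738 D204907) (tt N35334 (iv6 D124670)) (tt N43818 (iv7 F199435)))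
theorem Q65173 : ∀ i, i < 65173 → P i := stepQ 65172 Q65172 (allL N65172 (tt N91172 (iv1 F392162)) (tt N84726 (iv0 F370368)) (tt N43485 F199436) (tt N75115 F357741) (tt N66843 (iv4 F205814)) (tt N101739 D204908) (tt N35335 (iv6 D124671)) (tt N91171 (iv7 F392157)))
theorem Q65174 : ∀ i, i < 65174 → P i := stepQ 65173 Q65173 (allL N65173 (tt N77394 (iv1 F353743)) (tt N83556 (iv0 F338007)) (tt N43648 F199437) (tt N101738 (iv3 F434113)) (tt N77392 F242547) (tt N35336 (iv5 D124672)) (tt N101739 (iv6 F434116)) (tt N43819 F199438))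
theorem Q65175 : ∀ i, i < 65175 → P i := stepQ 65174 Q65174 (allL N65174 (tt N99844 F426491) (tt N101232 (iv0 F432330)) (tt N43484 F199439) (tt N74391 (iv3 F338172)) (tt N66844 (iv4 F205817)) (tt N91428 F393089) (tt N35337 (iv6 D124673)) (tt N100437 (iv7 F428973)))
theorem Q65176 : ∀ i, i < 65176 → P i := stepQ 65175 Q65175 (allL N65175 (tt N48873 F366750) (tt N48875 F366751) (tt N43647 F199441) (tt N71327 F366497) (tt N101740 D204909) (tt N35338 (iv5 D124676)) (tt N91428 F393088) (tt N91724 (iv7 F394189)))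
theorem Q65177 : ∀ i, i < 65177 → P i := stepQ 65176 Q65176 (allL N65176 (tt N35382 F317262) (tt N70503 F312100) (tt N43650 F199447) (tt N80941 (iv3 F272553)) (tt N37427 F312101) (tt N101741 D204910) (tt N35339 (iv6 D124678)) (tt N67952 F312102))
theorem Q65178 : ∀ i, i < 65178 → P i := stepQ 65177 Q65177 (allL N65177 (tt N101101 (iv1 F431679)) (tt N81208 (iv0 F341199)) (tt N35341 F199449) (tt N43694 F199450) (tt N44835 F321522) (tt N99422 (iv5 F424500)) (tt N35340 (iv6 D124679)) (tt N79494 (iv7 F334414)))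
theorem Q65179 : ∀ i, i < 65179 → P i := stepQ 65178 Q65178 (allL N65178 (tt N35341 (iv1 D124681)) (tt N79494 F318024) (tt N81208 (iv2 F356178)) (tt N80946 (iv3 F272613)) (tt N47054 F318025) (tt N101742 D204911) (tt N81197 F356179) (tt N101101 (iv7 F431678)))
theorem Q65180 : ∀ i, i < 65180 → P i := stepQ 65179 Q65179 (allL N65179 (tt N101106 F431702) (tt N101743 D204912) (tt N99422 (iv2 F424498)) (tt N35345 F199451) (tt N79502 (iv4 F356154)) (tt N35341 (iv5 D124682)) (tt N98180 (iv6 F419876)) (tt N83188 F356171))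
theorem Q65181 : ∀ i, i < 65181 → P i := stepQ 65180 Q65180 (allL N65180 (tt N81208 F356169) (tt N101101 F431680) (tt N79494 (iv2 F334413)) (tt N35346 F199452) (tt N44839 F317252) (tt N83188 (iv5 F356170)) (tt N43658 F199453) (tt N35341 (iv7 D124683)))
theorem Q65182 : ∀ i, i < 65182 → P i := stepQ 65181 Q65181 (allL N65181 (tt N35342 (iv1 D124685)) (tt N43702 F199454) (tt N43700 F342701) (tt N64015 (iv3 F342700)) (tt N64016 F342699) (tt N91422 (iv5 F393066)) (tt N84477 (iv6 F369457)) (tt N43699 F342702))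
theorem Q65183 : ∀ i, i < 65183 → P i := stepQ 65182 Q65182 (allL N65182 (tt N101744 D204913) (tt N101745 D204914) (tt N43701 F199455) (tt N98180 (iv3 F419875)) (tt N48086 F327052) (tt N35342 (iv5 D124686)) (tt N35345 F199456) (tt N101746 D204915))
theorem Q65184 : ∀ i, i < 65184 → P i := stepQ 65183 Q65183 (allL N65183 (tt N43700 (iv1 F199460)) (tt N43699 F199461) (tt N43702 F199457) (tt N98181 (iv3 F419878)) (tt N77190 (iv4 F241897)) (tt N101746 (iv5 F434150)) (tt N43664 F199458) (tt N35342 (iv7 D124687)))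
theorem Q65185 : ∀ i, i < 65185 → P i := stepQ 65184 Q65184 (allL N65184 (tt N82959 F345818) (tt N101084 (iv0 F431601)) (tt N73641 F346696) (tt N35343 (iv3 D124688)) (tt N43991 F199462) (tt N89449 (iv5 F386545)) (tt N68401 (iv6 F330119)) (tt N43707 F199463))
theorem Q65186 : ∀ i, i < 65186 → P i := stepQ 65185 Q65185 (allL N65185 (tt N48927 F343504) (tt N48929 F343505) (tt N43705 F199464) (tt N89449 (iv3 F386546)) (tt N81052 F332003) (tt N35343 (iv5 D124689)) (tt N81056 F358775) (tt N43708 F199465))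
theorem Q65187 : ∀ i, i < 65187 → P i := stepQ 65186 Q65186 (allL N65186 (tt N35397 F268184) (tt N80524 (iv0 F268182)) (tt N43706 F199466) (tt N68401 F330117) (tt N63106 F199467) (tt N43562 F199468) (tt N35343 (iv6 D124690)) (tt N82559 (iv7 F330115)))
theorem Q65188 : ∀ i, i < 65188 → P i := stepQ 65187 Q65187 (allL N65187 (tt N48929 F312387) (tt N48927 F312388) (tt N43708 F199469) (tt N100028 (iv3 F427275)) (tt N81061 F332001) (tt N35344 (iv5 D124691)) (tt N101747 D204916) (tt N43705 F199470))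
theorem Q65189 : ∀ i, i < 65189 → P i := stepQ 65188 Q65188 (allL N65188 (tt N66359 F334191) (tt N49021 F308467) (tt N43711 F199480) (tt N91395 (iv3 F392971)) (tt N35345 (iv4 D124695)) (tt N80303 F331984) (tt N48086 F325323) (tt N66362 (iv7 F329829)))
theorem Q65190 : ∀ i, i < 65190 → P i := stepQ 65189 Q65189 (allL N65189 (tt N43925 F199494) (tt N77002 (iv0 F241356)) (tt N35354 F199491) (tt N42669 F199492) (tt N75919 F234599) (tt N35349 (iv5 D124699)) (tt N42668 F199493) (tt N101748 D204917))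
theorem Q65191 : ∀ i, i < 65191 → P i := stepQ 65190 Q65190 (allL N65190 (tt N35353 (iv1 F199499)) (tt N35352 F199500) (tt N35355 F199495) (tt N43631 F199496) (tt N53982 F199497) (tt N101748 (iv5 F434158)) (tt N43681 F199498) (tt N35349 (iv7 D124700)))
theorem Q65192 : ∀ i, i < 65192 → P i := stepQ 65191 Q65191 (allL N65191 (tt N77307 F366929) (tt N101749 D204918) (tt N77141 (iv2 F304377)) (tt N35351 F199504) (tt N35357 F199505) (tt N101750 D204919) (tt N35350 (iv6 D124701)) (tt N75891 (iv7 F234540)))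
theorem Q65193 : ∀ i, i < 65193 → P i := stepQ 65192 Q65192 (allL N65192 (tt N101751 D204920) (tt N54440 (iv0 F338132)) (tt N53981 F199506) (tt N101750 (iv3 F434169)) (tt N101752 D204921) (tt N35351 (iv5 D124702)) (tt N53228 F199507) (tt N71519 (iv7 F365484)))
theorem Q65194 : ∀ i, i < 65194 → P i := stepQ 65193 Q65193 (allL N65193 (tt N73805 F346228) (tt N73932 (iv0 F346235)) (tt N73898 (iv2 F346244)) (tt N43903 F199511) (tt N49815 (iv4 F337112)) (tt N35353 (iv5 D124705)) (tt N75241 (iv6 F230847)) (tt N43914 F199512))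
theorem Q65195 : ∀ i, i < 65195 → P i := stepQ 65194 Q65194 (allL N65194 (tt N101748 (iv1 F434161)) (tt N35354 (iv0 D124707)) (tt N43925 F199525) (tt N45290 (iv3 F199516)) (tt N42576 F199515) (tt N77003 (iv5 F241371)) (tt N101753 D204922) (tt N77002 (iv7 F241357)))
theorem Q65196 : ∀ i, i < 65196 → P i := stepQ 65195 Q65195 (allL N65195 (tt N35354 (iv1 D124708)) (tt N101748 F434160) (tt N77002 (iv2 F241353)) (tt N40941 F316933) (tt N42577 F199520) (tt N63329 (iv5 F199517)) (tt N40906 F316934) (tt N43925 (iv7 F199519)))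
theorem Q65197 : ∀ i, i < 65197 → P i := stepQ 65196 Q65196 (allL N65196 (tt N75856 F234424) (tt N75858 (iv0 F234431)) (tt N75919 F234598) (tt N46061 F199526) (tt N35354 (iv4 D124709)) (tt N101754 D204923) (tt N46060 F199527) (tt N75918 F234596))
theorem Q65198 : ∀ i, i < 65198 → P i := stepQ 65197 Q65197 (allL N65197 (tt N77002 (iv1 F241355)) (tt N43925 F241368) (tt N101748 (iv2 F434156)) (tt N35364 F199528) (tt N75918 (iv4 F234594)) (tt N35355 F199529) (tt N101748 (iv6 F434159)) (tt N35354 (iv7 D124710)))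
theorem Q65199 : ∀ i, i < 65199 → P i := stepQ 65198 Q65198 (allL N65198 (tt N69918 (iv1 F336887)) (tt N69749 F336886) (tt N69921 (iv2 F335175)) (tt N35359 F199530) (tt N45316 F199531) (tt N87855 (iv5 F380865)) (tt N35356 (iv6 D124711)) (tt N69920 F359707))
theorem Q65200 : ∀ i, i < 65200 → P i := stepQ 65199 Q65199 (allL N65199 (tt N97937 (iv1 F418870)) (tt N101006 F431233) (tt N101089 (iv2 F431618)) (tt N35360 F199532) (tt N84933 F371127) (tt N35357 (iv5 D124712)) (tt N87855 (iv6 F380866)) (tt N82971 (iv7 F366818)))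
theorem Q65201 : ∀ i, i < 65201 → P i := stepQ 65200 Q65200 (allL N65200 (tt N69859 F336888) (tt N80906 F336897) (tt N36571 F199533) (tt N70092 (iv3 F330253)) (tt N35359 F199534) (tt N70091 (iv5 F342736)) (tt N35358 (iv6 D124713)) (tt N81050 (iv7 F348434)))
theorem Q65202 : ∀ i, i < 65202 → P i := stepQ 65201 Q65201 (allL N65201 (tt N43664 (iv1 F199540)) (tt N35359 (iv0 D124714)) (tt N43661 F347349) (tt N67969 (iv3 F342763)) (tt N66960 (iv4 F342766)) (tt N67968 F342762) (tt N81046 F336900) (tt N43662 F347350))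
theorem Q65203 : ∀ i, i < 65203 → P i := stepQ 65202 Q65202 (allL N65202 (tt N35359 (iv1 D124715)) (tt N43664 F199535) (tt N43662 F347346) (tt N101755 D204924) (tt N66961 (iv4 F347337)) (tt N69964 F347342) (tt N75425 F361779) (tt N43661 F347347))
theorem Q65204 : ∀ i, i < 65204 → P i := stepQ 65203 Q65203 (allL N65203 (tt N43662 (iv1 F199541)) (tt N43661 F199542) (tt N43664 F199538) (tt N69920 (iv3 F359708)) (tt N81050 (iv4 F347344)) (tt N51697 F345949) (tt N43702 F199539) (tt N35359 (iv7 D124717)))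
theorem Q65205 : ∀ i, i < 65205 → P i := stepQ 65204 Q65204 (allL N65204 (tt N43670 (iv1 F199559)) (tt N35360 (iv0 D124723)) (tt N43667 (iv2 F240985)) (tt N92608 F397632) (tt N77301 (iv4 F242342)) (tt N77065 (iv5 F241545)) (tt N82996 F365545) (tt N43668 F240984))
theorem Q65206 : ∀ i, i < 65206 → P i := stepQ 65205 Q65205 (allL N65205 (tt N35360 (iv1 D124724)) (tt N43670 F199555) (tt N43668 F240982) (tt N101756 D204925) (tt N77302 (iv4 F242338)) (tt N76965 (iv5 F240981)) (tt N86023 (iv6 F374939)) (tt N43667 (iv7 F240983)))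
theorem Q65207 : ∀ i, i < 65207 → P i := stepQ 65206 Q65206 (allL N65206 (tt N101205 (iv1 F432192)) (tt N101214 (iv0 F432232)) (tt N43669 F199556) (tt N101757 D204926) (tt N35360 (iv4 D124725)) (tt N92764 (iv5 F398124)) (tt N67288 (iv6 F347320)) (tt N82972 (iv7 F363722)))
theorem Q65208 : ∀ i, i < 65208 → P i := stepQ 65207 Q65207 (allL N65207 (tt N61335 F199569) (tt N61433 F199571) (tt N40879 F320223) (tt N61441 (iv3 F199570)) (tt N35363 (iv4 D124729)) (tt N101758 D204927) (tt N40861 F320224) (tt N43677 F199568))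
theorem Q65209 : ∀ i, i < 65209 → P i := stepQ 65208 Q65208 (allL N65208 (tt N43643 (iv1 F199577)) (tt N43642 F199578) (tt N43644 F199574) (tt N101748 (iv3 F434157)) (tt N75969 (iv4 F234843)) (tt N43631 F199575) (tt N35364 (iv6 D124731)) (tt N42669 F199576))
theorem Q65210 : ∀ i, i < 65210 → P i := stepQ 65209 Q65209 (allL N65209 (tt N69561 (iv1 F340783)) (tt N48074 F236027) (tt N57654 (iv2 F311289)) (tt N35367 F199602) (tt N82308 (iv4 F280174)) (tt N35365 (iv5 D124734)) (tt N101759 D204928) (tt N35393 F199603))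
theorem Q65211 : ∀ i, i < 65211 → P i := stepQ 65210 Q65210 (allL N65210 (tt N69638 (iv1 F310046)) (tt N43905 F308107) (tt N76043 (iv2 F236029)) (tt N35368 F199604) (tt N54276 F199605) (tt N64004 (iv5 F199606)) (tt N35365 (iv6 D124735)) (tt N82241 (iv7 F279816)))
theorem Q65212 : ∀ i, i < 65212 → P i := stepQ 65211 Q65211 (allL N65211 (tt N35367 (iv1 D124738)) (tt N35371 F199611) (tt N35385 (iv2 F199613)) (tt N37438 F313652) (tt N72223 F313653) (tt N48444 F306661) (tt N43349 F199615) (tt N35384 F199612))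
theorem Q65213 : ∀ i, i < 65213 → P i := stepQ 65212 Q65212 (allL N65212 (tt N48065 (iv1 F243052)) (tt N75325 (iv0 F231195)) (tt N35387 F199618) (tt N101759 (iv3 F434217)) (tt N78065 (iv4 F366688)) (tt N64006 F199619) (tt N35367 (iv6 D124740)) (tt N91561 (iv7 F393659)))
theorem Q65214 : ∀ i, i < 65214 → P i := stepQ 65213 Q65213 (allL N65213 (tt N77034 F241482) (tt N43722 (iv0 F200418)) (tt N72343 (iv2 F314342)) (tt N35372 F199656) (tt N67034 (iv4 F206393)) (tt N40880 F322370) (tt N35369 (iv6 D124744)) (tt N80523 (iv7 F268174)))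
theorem Q65215 : ∀ i, i < 65215 → P i := stepQ 65214 Q65214 (allL N65214 (tt N43650 F357810) (tt N67952 F357809) (tt N70503 (iv2 F354631)) (tt N35370 (iv3 D124745)) (tt N67032 (iv4 F206388)) (tt N83104 (iv5 F366801)) (tt N101760 D204929) (tt N35382 F199657))
theorem Q65216 : ∀ i, i < 65216 → P i := stepQ 65215 Q65215 (allL N65215 (tt N82559 (iv1 F330114)) (tt N43706 F240995) (tt N35397 F199660) (tt N101760 (iv3 F434221)) (tt N35372 F199661) (tt N77061 (iv5 F241539)) (tt N35370 (iv6 D124747)) (tt N80524 (iv7 F268181)))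
theorem Q65217 : ∀ i, i < 65217 → P i := stepQ 65216 Q65216 (allL N65216 (tt N41552 (iv1 F320488)) (tt N41562 F318465) (tt N35399 F199664) (tt N41551 F318450) (tt N40387 F318451) (tt N40882 (iv5 F320568)) (tt N35371 (iv6 D124749)) (tt N41554 F321162))
theorem Q65218 : ∀ i, i < 65218 → P i := stepQ 65217 Q65217 (allL N65217 (tt N94625 F405285) (tt N58340 (iv0 F332971)) (tt N94627 (iv2 F405292)) (tt N35375 (iv3 D124759)) (tt N44423 (iv4 F317014)) (tt N101761 D204930) (tt N43407 F200388) (tt N94626 F405289))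
theorem Q65219 : ∀ i, i < 65219 → P i := stepQ 65218 Q65218 (allL N65218 (tt N72230 F314707) (tt N72225 F314708) (tt N35410 F200389) (tt N101761 (iv3 F434223)) (tt N101269 (iv4 F432461)) (tt N35375 (iv5 D124760)) (tt N101261 (iv6 F467954)) (tt N101267 (iv7 F432457)))
theorem Q65220 : ∀ i, i < 65220 → P i := stepQ 65219 Q65219 (allL N65219 (tt N35409 (iv1 F200393)) (tt N35408 F200396) (tt N35411 F200390) (tt N94626 (iv3 F405286)) (tt N35376 F200391) (tt N101267 (iv5 F432452)) (tt N101762 D204932) (tt N35375 (iv7 D124761)))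
theorem Q65221 : ∀ i, i < 65221 → P i := stepQ 65220 Q65220 (allL N65220 (tt N42189 (iv1 F200402)) (tt N42188 F200403) (tt N35412 F200398) (tt N43363 F200399) (tt N101762 (iv4 F434230)) (tt N41949 F200400) (tt N35376 (iv6 D124762)) (tt N41948 F200401))
theorem Q65222 : ∀ i, i < 65222 → P i := stepQ 65221 Q65221 (allL N65221 (tt N43641 F200421) (tt N48050 F200422) (tt N35380 F200419) (tt N76043 (iv3 F236030)) (tt N52795 (iv4 F300719)) (tt N41323 F200420) (tt N35378 (iv6 D124766)) (tt N75199 (iv7 F230725)))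
theorem Q65223 : ∀ i, i < 65223 → P i := stepQ 65222 Q65222 (allL N65222 (tt N67821 F357872) (tt N66989 F357874) (tt N70475 (iv2 F357806)) (tt N35379 (iv3 D124767)) (tt N35382 F200428) (tt N67430 (iv5 F357873)) (tt N81048 (iv6 F357875)) (tt N67032 (iv7 F206389)))
theorem Q65224 : ∀ i, i < 65224 → P i := stepQ 65223 Q65223 (allL N65223 (tt N35380 (iv1 D124774)) (tt N75199 (iv0 F230726)) (tt N48050 F200436) (tt N63020 (iv3 F200435)) (tt N63570 F357831) (tt N63019 F200437) (tt N63569 (iv6 F302790)) (tt N43641 F200438))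
theorem Q65225 : ∀ i, i < 65225 → P i := stepQ 65224 Q65224 (allL N65224 (tt N48050 (iv1 F200442)) (tt N43641 F200443) (tt N75199 (iv2 F230724)) (tt N35389 F200440) (tt N52796 F303523) (tt N41322 F200441) (tt N80523 (iv6 F268173)) (tt N35380 (iv7 D124775)))
theorem Q65226 : ∀ i, i < 65226 → P i := stepQ 65225 Q65225 (allL N65225 (tt N48875 F310400) (tt N48873 F310401) (tt N91724 F394187) (tt N44504 F313361) (tt N101763 D204933) (tt N35381 (iv5 D124777)) (tt N101764 D204934) (tt N43647 F200447))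
theorem Q65227 : ∀ i, i < 65227 → P i := stepQ 65226 Q65226 (allL N65226 (tt N67952 F357808) (tt N43650 F354628) (tt N35382 (iv2 D124779)) (tt N53084 F200449) (tt N70475 F354629) (tt N101765 D204935) (tt N53087 (iv6 F366732)) (tt N70503 F354630))
theorem Q65228 : ∀ i, i < 65228 → P i := stepQ 65227 Q65227 (allL N65227 (tt N101471 F433066) (tt N101766 D204936) (tt N101765 (iv2 F434246)) (tt N35383 F200450) (tt N94587 (iv4 F405078)) (tt N35382 (iv5 D124780)) (tt N101767 D204937) (tt N83104 F366804))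
theorem Q65229 : ∀ i, i < 65229 → P i := stepQ 65228 Q65228 (allL N65228 (tt N48999 F309406) (tt N89321 F386085) (tt N83107 F309407) (tt N95263 (iv3 F407625)) (tt N35383 (iv4 D124784)) (tt N101265 (iv5 F432443)) (tt N95261 F407621) (tt N83105 F309408))
theorem Q65230 : ∀ i, i < 65230 → P i := stepQ 65229 Q65229 (allL N65229 (tt N73003 F366752) (tt N73000 F366753) (tt N83108 F366813) (tt N101767 (iv3 F434256)) (tt N95261 (iv4 F407620)) (tt N82872 (iv5 F366835)) (tt N35383 (iv6 D124785)) (tt N101768 D204938))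
theorem Q65231 : ∀ i, i < 65231 → P i := stepQ 65230 Q65230 (allL N65230 (tt N44318 F316706) (tt N44315 F316707) (tt N48052 F200456) (tt N94694 (iv3 F405561)) (tt N35384 (iv4 D124789)) (tt N94692 (iv5 F405550)) (tt N48446 F306660) (tt N72223 (iv7 F366663)))
theorem Q65232 : ∀ i, i < 65232 → P i := stepQ 65231 Q65231 (allL N65231 (tt N44315 F366610) (tt N44318 F366611) (tt N72223 F366661) (tt N69845 F351351) (tt N35385 (iv4 D124791)) (tt N101769 D204939) (tt N77035 (iv6 F241488)) (tt N48052 F200459))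
theorem Q65233 : ∀ i, i < 65233 → P i := stepQ 65232 Q65232 (allL N65232 (tt N89764 F387463) (tt N89761 (iv0 F404407)) (tt N101770 D204940) (tt N35386 (iv3 D124794)) (tt N78250 F312826) (tt N101771 D204941) (tt N101772 D204942) (tt N78066 F312827))
theorem Q65234 : ∀ i, i < 65234 → P i := stepQ 65233 Q65233 (allL N65233 (tt N44353 F312828) (tt N72290 F312829) (tt N72291 F312830) (tt N101771 (iv3 F434269)) (tt N101266 (iv4 F432449)) (tt N35386 (iv5 D124795)) (tt N101773 D204943) (tt N72292 F312831))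
theorem Q65235 : ∀ i, i < 65235 → P i := stepQ 65234 Q65234 (allL N65234 (tt N99637 (iv1 F425534)) (tt N101774 D204944) (tt N78065 F312832) (tt N101772 (iv3 F434275)) (tt N35387 F200462) (tt N101775 D204945) (tt N35386 (iv6 D124796)) (tt N101776 D204946))
theorem Q65236 : ∀ i, i < 65236 → P i := stepQ 65235 Q65235 (allL N65235 (tt N91561 (iv1 F393661)) (tt N35387 (iv0 D124797)) (tt N48065 (iv2 F243053)) (tt N48005 F243070) (tt N101777 D204947) (tt N51720 (iv5 F337298)) (tt N43864 (iv6 F231178)) (tt N75325 (iv7 F231194)))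
theorem Q65237 : ∀ i, i < 65237 → P i := stepQ 65236 Q65236 (allL N65236 (tt N35387 (iv1 D124798)) (tt N91561 (iv0 F393660)) (tt N75325 (iv2 F231193)) (tt N35429 F243042) (tt N101778 D204948) (tt N51723 (iv5 F337317)) (tt N75005 F243044) (tt N48065 (iv7 F243055)))
theorem Q65238 : ∀ i, i < 65238 → P i := stepQ 65237 Q65237 (allL N65237 (tt N77417 F242596) (tt N78716 F250381) (tt N64006 F200463) (tt N62465 (iv3 F318118)) (tt N87380 (iv4 F379169)) (tt N35387 (iv5 D124799)) (tt N35388 F200464) (tt N91474 (iv7 F393284)))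
theorem Q65239 : ∀ i, i < 65239 → P i := stepQ 65238 Q65238 (allL N65238 (tt N75325 (iv1 F231196)) (tt N48065 (iv0 F243051)) (tt N91561 (iv2 F393657)) (tt N41557 F322223) (tt N101776 (iv4 F434291)) (tt N91474 (iv5 F393283)) (tt N41554 F322224) (tt N35387 (iv7 D124800)))
theorem Q65240 : ∀ i, i < 65240 → P i := stepQ 65239 Q65239 (allL N65239 (tt N48081 (iv1 F242147)) (tt N43689 (iv0 F242144)) (tt N35394 F200478) (tt N72343 (iv3 F314343)) (tt N54279 F200479) (tt N77001 (iv5 F241347)) (tt N35391 (iv6 D124807)) (tt N100492 (iv7 F429158)))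
theorem Q65241 : ∀ i, i < 65241 → P i := stepQ 65240 Q65240 (allL N65240 (tt N53328 F363204) (tt N94143 F403410) (tt N70512 (iv2 F319767)) (tt N35392 (iv3 D124808)) (tt N35395 F200480) (tt N53714 (iv5 F338889)) (tt N101779 D204949) (tt N54274 F200481))
theorem Q65242 : ∀ i, i < 65242 → P i := stepQ 65241 Q65241 (allL N65241 (tt N94466 (iv1 F404586)) (tt N84145 (iv0 F368320)) (tt N54278 F200482) (tt N53714 F338890) (tt N53766 (iv4 F338891)) (tt N35392 (iv5 D124809)) (tt N53731 (iv6 F338892)) (tt N54275 F200483))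
theorem Q65243 : ∀ i, i < 65243 → P i := stepQ 65242 Q65242 (allL N65242 (tt N82306 (iv1 F280156)) (tt N53366 (iv0 F321083)) (tt N54279 F200484) (tt N101779 (iv3 F434307)) (tt N35394 F200485) (tt N100063 (iv5 F427400)) (tt N35392 (iv6 D124810)) (tt N82319 (iv7 F280232)))
theorem Q65244 : ∀ i, i < 65244 → P i := stepQ 65243 Q65243 (allL N65243 (tt N57654 (iv1 F311288)) (tt N35393 (iv0 D124811)) (tt N48074 F232985) (tt N39879 F313678) (tt N48220 (iv4 F201197)) (tt N40027 F313679) (tt N43520 (iv6 F233001)) (tt N69561 F313680))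
theorem Q65245 : ∀ i, i < 65245 → P i := stepQ 65244 Q65244 (allL N65244 (tt N35393 (iv1 D124812)) (tt N57654 (iv0 F311287)) (tt N69561 F340782) (tt N35418 F232988) (tt N48221 F232989) (tt N63325 (iv5 F305866)) (tt N80405 (iv6 F340751)) (tt N48074 F232990))
theorem Q65246 : ∀ i, i < 65246 → P i := stepQ 65245 Q65245 (allL N65245 (tt N57556 (iv1 F312674)) (tt N65374 (iv0 F201209)) (tt N78252 (iv2 F314337)) (tt N94183 F403594) (tt N35393 (iv4 D124813)) (tt N57585 (iv5 F343143)) (tt N92519 F397217) (tt N82308 F280176))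
theorem Q65247 : ∀ i, i < 65247 → P i := stepQ 65246 Q65246 (allL N65246 (tt N95523 F408476) (tt N43524 (iv0 F233170)) (tt N41558 F342425) (tt N35399 F200487) (tt N92519 (iv4 F397216)) (tt N101780 D204950) (tt N35393 (iv6 D124814)) (tt N100249 (iv7 F428126)))
theorem Q65248 : ∀ i, i < 65248 → P i := stepQ 65247 Q65247 (allL N65247 (tt N100492 (iv1 F429157)) (tt N35394 (iv0 D124815)) (tt N48081 (iv2 F241308)) (tt N69640 F361465) (tt N48181 (iv4 F278979)) (tt N43519 F241307) (tt N87917 F381110) (tt N43689 (iv7 F241309)))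
theorem Q65249 : ∀ i, i < 65249 → P i := stepQ 65248 Q65248 (allL N65248 (tt N76980 (iv1 F241290)) (tt N40911 F322287) (tt N77001 F241350) (tt N35400 F200488) (tt N100068 (iv4 F427417)) (tt N35394 (iv5 D124817)) (tt N101780 (iv6 F434313)) (tt N40883 F322361))
theorem Q65250 : ∀ i, i < 65250 → P i := stepQ 65249 Q65249 (allL N65249 (tt N43689 (iv1 F242146)) (tt N48081 F242148) (tt N100492 (iv2 F429163)) (tt N35401 F200489) (tt N82319 (iv4 F280230)) (tt N40883 F322380) (tt N82241 (iv6 F279815)) (tt N35394 (iv7 D124818)))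
theorem Q65251 : ∀ i, i < 65251 → P i := stepQ 65250 Q65250 (allL N65250 (tt N53715 F338824) (tt N53691 F364538) (tt N53712 F338895) (tt N35396 F200490) (tt N48184 F338886) (tt N35395 (iv5 D124819)) (tt N101781 D204951) (tt N53713 (iv7 F338888)))
theorem Q65252 : ∀ i, i < 65252 → P i := stepQ 65251 Q65251 (allL N65251 (tt N101492 (iv1 F433130)) (tt N48198 F366943) (tt N101090 (iv2 F431625)) (tt N35397 F200491) (tt N101779 (iv4 F434308)) (tt N101782 D204952) (tt N35395 (iv6 D124820)) (tt N53092 (iv7 F366778)))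
theorem Q65253 : ∀ i, i < 65253 → P i := stepQ 65252 Q65252 (allL N65252 (tt N89321 (iv1 F386086)) (tt N48999 F309403) (tt N83105 F309404) (tt N48185 F338887) (tt N35396 (iv4 D124821)) (tt N101266 (iv5 F432448)) (tt N101783 D204953) (tt N83107 F309405))
theorem Q65254 : ∀ i, i < 65254 → P i := stepQ 65253 Q65253 (allL N65253 (tt N101784 D204954) (tt N101785 D204955) (tt N83106 F366814) (tt N101781 (iv3 F434316)) (tt N101783 (iv4 F434326)) (tt N101257 F432429) (tt N35396 (iv6 D124822)) (tt N101786 D204956))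
theorem Q65255 : ∀ i, i < 65255 → P i := stepQ 65254 Q65254 (allL N65254 (tt N80524 (iv1 F268183)) (tt N35397 (iv0 D124823)) (tt N82559 F330116) (tt N48182 F330123) (tt N54139 (iv4 F330120)) (tt N43561 (iv5 F240087)) (tt N43828 F240088) (tt N43706 (iv7 F240089)))
theorem Q65256 : ∀ i, i < 65256 → P i := stepQ 65255 Q65255 (allL N65255 (tt N76966 F240988) (tt N76964 (iv0 F240978)) (tt N77061 F241541) (tt N101782 (iv3 F434319)) (tt N82685 (iv4 F364080)) (tt N35397 (iv5 D124825)) (tt N101257 (iv6 F432425)) (tt N77062 (iv7 F241543)))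
theorem Q65257 : ∀ i, i < 65257 → P i := stepQ 65256 Q65256 (allL N65256 (tt N94369 (iv1 F404162)) (tt N94366 (iv0 F404151)) (tt N94258 (iv2 F403869)) (tt N35398 (iv3 D124827)) (tt N94183 F403595) (tt N101787 D204957) (tt N101788 D204958) (tt N78064 F312818))
theorem Q65258 : ∀ i, i < 65258 → P i := stepQ 65257 Q65257 (allL N65257 (tt N72290 F312819) (tt N44353 F312820) (tt N72292 F312821) (tt N101787 (iv3 F434338)) (tt N101265 F432445) (tt N35398 (iv5 D124828)) (tt N43586 F345113) (tt N72291 F312822))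
theorem Q65259 : ∀ i, i < 65259 → P i := stepQ 65258 Q65258 (allL N65258 (tt N40381 F342396) (tt N40389 F342397) (tt N40387 F342407) (tt N101788 (iv3 F434344)) (tt N35399 F200493) (tt N43587 F342507) (tt N35398 (iv6 D124829)) (tt N40386 F342408))
theorem Q65260 : ∀ i, i < 65260 → P i := stepQ 65259 Q65259 (allL N65259 (tt N41052 F342465) (tt N101789 D204959) (tt N40882 F322364) (tt N101780 (iv3 F434312)) (tt N40388 F342437) (tt N35399 (iv5 D124831)) (tt N35400 F200494) (tt N77107 (iv7 F241583)))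
theorem Q65261 : ∀ i, i < 65261 → P i := stepQ 65260 Q65260 (allL N65260 (tt N41562 F318466) (tt N41552 (iv0 F320487)) (tt N41554 F322222) (tt N100249 F428127) (tt N40386 F342412) (tt N77107 (iv5 F241584)) (tt N91561 (iv6 F393658)) (tt N35399 (iv7 D124832)))
theorem Q65262 : ∀ i, i < 65262 → P i := stepQ 65261 Q65261 (allL N65261 (tt N101790 D204960) (tt N66560 (iv0 F348357)) (tt N40881 F322362) (tt N40396 F342501) (tt N35400 (iv4 D124833)) (tt N40385 F342502) (tt N40388 F342503) (tt N40884 F322363))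
theorem Q65263 : ∀ i, i < 65263 → P i := stepQ 65262 Q65262 (allL N65262 (tt N56865 F316129) (tt N56870 F358690) (tt N53767 (iv2 F333017)) (tt N35402 (iv3 D124842)) (tt N72334 F316130) (tt N53212 F333015) (tt N57106 (iv6 F366265)) (tt N72288 F316131))
theorem Q65264 : ∀ i, i < 65264 → P i := stepQ 65263 Q65263 (allL N65263 (tt N44305 F316132) (tt N72213 F316133) (tt N72214 F316134) (tt N53212 (iv3 F333013)) (tt N80622 F333014) (tt N35402 (iv5 D124843)) (tt N53226 F333016) (tt N72215 F316135))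
theorem Q65265 : ∀ i, i < 65265 → P i := stepQ 65264 Q65264 (allL N65264 (tt N43389 F200525) (tt N43394 (iv0 F200527)) (tt N43393 F200523) (tt N69654 (iv3 F309116)) (tt N48874 F304665) (tt N43672 F200526) (tt N35403 (iv6 D124847)) (tt N43392 F200524))
theorem Q65266 : ∀ i, i < 65266 → P i := stepQ 65265 Q65265 (allL N65265 (tt N57587 (iv1 F315139)) (tt N57672 (iv0 F315136)) (tt N57676 (iv2 F313651)) (tt N57585 F340260) (tt N35404 (iv4 D124855)) (tt N94183 (iv5 F403593)) (tt N101791 D204961) (tt N57677 (iv7 F315149)))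
theorem Q65267 : ∀ i, i < 65267 → P i := stepQ 65266 Q65266 (allL N65266 (tt N44544 F311683) (tt N72391 (iv0 F314140)) (tt N69655 F311684) (tt N35406 F200536) (tt N76066 (iv4 F236181)) (tt N35404 (iv5 D124856)) (tt N42503 (iv6 F232759)) (tt N72348 F311685))
theorem Q65268 : ∀ i, i < 65268 → P i := stepQ 65267 Q65267 (allL N65267 (tt N72402 F339002) (tt N73743 (iv0 F347178)) (tt N72336 (iv2 F347180)) (tt N35407 F200538) (tt N101791 (iv4 F434362)) (tt N63599 (iv5 F347177)) (tt N35404 (iv6 D124857)) (tt N73737 F339011))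
theorem Q65269 : ∀ i, i < 65269 → P i := stepQ 65268 Q65268 (allL N65268 (tt N70232 F343132) (tt N94356 (iv0 F404120)) (tt N101792 D204962) (tt N35405 (iv3 D124858)) (tt N57585 F316982) (tt N101793 D204963) (tt N101794 D204964) (tt N72287 F316983))
theorem Q65270 : ∀ i, i < 65270 → P i := stepQ 65269 Q65269 (allL N65269 (tt N72213 F316984) (tt N44305 F316985) (tt N72215 F316986) (tt N101793 (iv3 F434370)) (tt N96456 (iv4 F412592)) (tt N35405 (iv5 D124859)) (tt N71892 F350376) (tt N72214 F316987))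
theorem Q65271 : ∀ i, i < 65271 → P i := stepQ 65270 Q65270 (allL N65270 (tt N73479 F351570) (tt N62565 (iv0 F344026)) (tt N72289 F316988) (tt N101794 (iv3 F434375)) (tt N35407 F200539) (tt N71893 (iv5 F338941)) (tt N35405 (iv6 D124860)) (tt N62342 F338955))
theorem Q65272 : ∀ i, i < 65272 → P i := stepQ 65271 Q65271 (allL N65271 (tt N62446 (iv1 F338951)) (tt N35407 (iv0 D124862)) (tt N62550 (iv2 F345691)) (tt N35452 F209892) (tt N90276 (iv4 F389186)) (tt N44521 F200542) (tt N73199 F351581) (tt N48108 F209893))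
theorem Q65273 : ∀ i, i < 65273 → P i := stepQ 65272 Q65272 (allL N65272 (tt N35407 (iv1 D124863)) (tt N62446 (iv0 F359321)) (tt N48108 (iv2 F209902)) (tt N44435 F316178) (tt N90274 (iv4 F389181)) (tt N38364 (iv5 F200545)) (tt N43876 (iv6 F200551)) (tt N62550 (iv7 F345694)))
theorem Q65274 : ∀ i, i < 65274 → P i := stepQ 65273 Q65273 (allL N65273 (tt N48108 (iv1 F209849)) (tt N62550 (iv0 F345689)) (tt N62446 F338947) (tt N73737 (iv3 F338948)) (tt N62342 (iv4 F338949)) (tt N44582 F200552) (tt N62341 (iv6 F338950)) (tt N35407 (iv7 D124865)))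
theorem Q65275 : ∀ i, i < 65275 → P i := stepQ 65274 Q65274 (allL N65274 (tt N57764 F314695) (tt N97147 F415672) (tt N94608 (iv2 F405176)) (tt N35408 (iv3 D124867)) (tt N72319 F314696) (tt N61225 F340014) (tt N40729 F322931) (tt N78151 F314697))
theorem Q65276 : ∀ i, i < 65276 → P i := stepQ 65275 Q65275 (allL N65275 (tt N101795 D204965) (tt N82137 (iv0 F341163)) (tt N78155 F314698) (tt N61225 (iv3 F340013)) (tt N86158 (iv4 F375241)) (tt N35408 (iv5 D124868)) (tt N61223 F340012) (tt N78152 F314699))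
theorem Q65277 : ∀ i, i < 65277 → P i := stepQ 65276 Q65276 (allL N65276 (tt N82137 (iv1 F278779)) (tt N101795 F434381) (tt N78152 F314710) (tt N73572 (iv3 F351890)) (tt N59656 F362332) (tt N35409 (iv5 D124873)) (tt N71903 F351891) (tt N78155 F314711))
theorem Q65278 : ∀ i, i < 65278 → P i := stepQ 65277 Q65277 (allL N65277 (tt N90276 (iv1 F389189)) (tt N90274 (iv0 F389182)) (tt N78153 F314712) (tt N73575 F351593) (tt N39976 F314713) (tt N71904 (iv5 F345681)) (tt N35409 (iv6 D124874)) (tt N40733 F322934))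
theorem Q65279 : ∀ i, i < 65279 → P i := stepQ 65278 Q65278 (allL N65278 (tt N101267 (iv1 F432454)) (tt N35410 (iv0 D124880)) (tt N72230 F350068) (tt N93752 (iv3 F401771)) (tt N101253 (iv4 F432408)) (tt N44315 F350069) (tt N91562 (iv6 F393664)) (tt N72225 F350070))
theorem Q65280 : ∀ i, i < 65280 → P i := stepQ 65279 Q65279 (allL N65279 (tt N35410 (iv1 D124881)) (tt N101267 (iv0 F432453)) (tt N72225 F350063) (tt N85611 (iv3 F373205)) (tt N76207 F350064) (tt N44318 F350065) (tt N76206 F350066) (tt N72230 F350067))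
theorem Q65281 : ∀ i, i < 65281 → P i := stepQ 65280 Q65280 (allL N65280 (tt N101266 (iv1 F432447)) (tt N101265 F432446) (tt N101269 (iv2 F432460)) (tt N101796 D204966) (tt N35410 (iv4 D124882)) (tt N101222 (iv5 F432269)) (tt N101797 D204967) (tt N101221 F432265))
theorem Q65282 : ∀ i, i < 65282 → P i := stepQ 65281 Q65281 (allL N65281 (tt N101262 (iv1 F451464)) (tt N101264 (iv0 F451463)) (tt N101261 (iv2 F467952)) (tt N94635 (iv3 F405323)) (tt N101797 (iv4 F434386)) (tt N43898 F200562) (tt N35410 (iv6 D124883)) (tt N101260 (iv7 F467949)))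
theorem Q65283 : ∀ i, i < 65283 → P i := stepQ 65282 Q65282 (allL N65282 (tt N72225 (iv1 F366679)) (tt N72230 F366680) (tt N101267 (iv2 F432451)) (tt N94623 (iv3 F405271)) (tt N101221 (iv4 F432264)) (tt N35411 F200563) (tt N101798 D204971) (tt N35410 (iv7 D124884)))
theorem Q65284 : ∀ i, i < 65284 → P i := stepQ 65283 Q65283 (allL N65283 (tt N78157 (iv1 F363749)) (tt N78158 F339601) (tt N101762 (iv2 F434228)) (tt N94624 (iv3 F405275)) (tt N35412 F200564) (tt N101799 D204972) (tt N35411 (iv6 D124885)) (tt N42190 F200565))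
theorem Q65285 : ∀ i, i < 65285 → P i := stepQ 65284 Q65284 (allL N65284 (tt N41948 (iv1 F200566)) (tt N35412 (iv0 D124886)) (tt N42189 (iv2 F230730)) (tt N43580 F227732) (tt N73501 (iv4 F322939)) (tt N55201 (iv5 F308699)) (tt N62524 (iv6 F322143)) (tt N42188 (iv7 F230732)))
theorem Q65286 : ∀ i, i < 65286 → P i := stepQ 65285 Q65285 (allL N65285 (tt N35412 (iv1 D124887)) (tt N41948 F200567) (tt N42188 F230733) (tt N72354 F363420) (tt N76195 (iv4 F237581)) (tt N99559 (iv5 F425157)) (tt N74700 (iv6 F318456)) (tt N42189 F230731))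
theorem Q65287 : ∀ i, i < 65287 → P i := stepQ 65286 Q65286 (allL N65286 (tt N39940 F316923) (tt N39943 F316924) (tt N48070 F200581) (tt N59302 F316925) (tt N35414 (iv4 D124893)) (tt N99755 (iv5 F426076)) (tt N101800 D204973) (tt N42978 (iv7 F232451)))
theorem Q65288 : ∀ i, i < 65288 → P i := stepQ 65287 Q65287 (allL N65287 (tt N72328 F361405) (tt N42335 F233412) (tt N48071 F200583) (tt N72349 F334984) (tt N101800 (iv4 F434397)) (tt N41728 F232267) (tt N35414 (iv6 D124894)) (tt N41727 F232268))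
theorem Q65289 : ∀ i, i < 65289 → P i := stepQ 65288 Q65288 (allL N65288 (tt N44342 F314740) (tt N44344 F314741) (tt N48078 F232994) (tt N72153 F314742) (tt N35418 (iv4 D124930)) (tt N73386 F338217) (tt N72792 F348292) (tt N48075 F232981))
theorem Q65290 : ∀ i, i < 65290 → P i := stepQ 65289 Q65289 (allL N65289 (tt N78277 F363463) (tt N99406 (iv0 F424429)) (tt N48079 (iv2 F232995)) (tt N80405 F340752) (tt N72792 (iv4 F348290)) (tt N43909 F307714) (tt N35418 (iv6 D124932)) (tt N90409 (iv7 F389546)))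
theorem Q65291 : ∀ i, i < 65291 → P i := stepQ 65290 Q65290 (allL N65290 (tt N44344 F314745) (tt N44342 F314746) (tt N48075 F232991) (tt N101801 D204974) (tt N35419 (iv4 D124935)) (tt N73353 F338219) (tt N92595 F397551) (tt N48078 (iv7 F232993)))
theorem Q65292 : ∀ i, i < 65292 → P i := stepQ 65291 Q65291 (allL N65291 (tt N101745 (iv1 F434143)) (tt N101744 (iv0 F434141)) (tt N101746 (iv2 F434148)) (tt N35420 (iv3 D124940)) (tt N35426 F200671) (tt N43702 F327053) (tt N101802 D204975) (tt N43701 F327054))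
theorem Q65293 : ∀ i, i < 65293 → P i := stepQ 65292 Q65292 (allL N65292 (tt N72248 F315852) (tt N44388 F315853) (tt N72250 F364178) (tt N43702 F328075) (tt N75978 F328076) (tt N35420 (iv5 D124941)) (tt N69920 F359706) (tt N43695 F328077))
theorem Q65294 : ∀ i, i < 65294 → P i := stepQ 65293 Q65293 (allL N65293 (tt N92150 F395982) (tt N92139 (iv0 F395925)) (tt N78104 F363450) (tt N101802 (iv3 F434404)) (tt N35421 F200674) (tt N73269 F363453) (tt N35420 (iv6 D124942)) (tt N92148 (iv7 F395968)))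
theorem Q65295 : ∀ i, i < 65295 → P i := stepQ 65294 Q65294 (allL N65294 (tt N74414 F317207) (tt N35421 (iv0 D124943)) (tt N75565 (iv2 F243242)) (tt N101803 D204976) (tt N101804 D204977) (tt N41731 F317208) (tt N44059 (iv6 F233207)) (tt N92568 (iv7 F397413)))
theorem Q65296 : ∀ i, i < 65296 → P i := stepQ 65295 Q65295 (allL N65295 (tt N35421 (iv1 D124944)) (tt N74414 F317211) (tt N92568 F397411) (tt N69560 (iv3 F314622)) (tt N101805 D204978) (tt N41806 F317212) (tt N74968 F233136) (tt N75565 (iv7 F243240)))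
theorem Q65297 : ∀ i, i < 65297 → P i := stepQ 65296 Q65296 (allL N65296 (tt N72188 F313688) (tt N77891 F332228) (tt N47997 F200679) (tt N97210 F415914) (tt N35422 (iv4 D124956)) (tt N82101 F278653) (tt N99342 (iv6 F424195)) (tt N47999 F200680))
theorem Q65298 : ∀ i, i < 65298 → P i := stepQ 65297 Q65297 (allL N65297 (tt N60402 (iv1 F351331)) (tt N58809 (iv0 F351330)) (tt N60401 F351346) (tt N35423 (iv3 D124958)) (tt N97210 (iv4 F415913)) (tt N77576 (iv5 F243736)) (tt N81103 (iv6 F344767)) (tt N48057 F200685))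
theorem Q65299 : ∀ i, i < 65299 → P i := stepQ 65298 Q65298 (allL N65298 (tt N72239 (iv1 F341145)) (tt N40664 F319097) (tt N48056 F200686) (tt N81103 F344766) (tt N35424 F200687) (tt N70114 F319098) (tt N35423 (iv6 D124959)) (tt N70113 F319099))
theorem Q65300 : ∀ i, i < 65300 → P i := stepQ 65299 Q65299 (allL N65299 (tt N35424 (iv1 D124960)) (tt N44071 F200688) (tt N41279 F321839) (tt N99406 (iv3 F424426)) (tt N66521 (iv4 F320395)) (tt N68298 (iv5 F209489)) (tt N41028 F318248) (tt N42330 F200689))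
theorem Q65301 : ∀ i, i < 65301 → P i := stepQ 65300 Q65300 (allL N65300 (tt N101806 D204979) (tt N101807 D204980) (tt N100434 (iv2 F428959)) (tt N35425 (iv3 D124961)) (tt N69845 F351352) (tt N78707 (iv5 F250316)) (tt N88462 (iv6 F383149)) (tt N48054 F200692))
theorem Q65302 : ∀ i, i < 65302 → P i := stepQ 65301 Q65301 (allL N65301 (tt N35426 (iv1 D124963)) (tt N48086 F200697) (tt N48084 F339307) (tt N57339 (iv3 F345606)) (tt N69779 (iv4 F354237)) (tt N64684 F339309) (tt N66907 (iv6 F339306)) (tt N48085 F339308))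
theorem Q65303 : ∀ i, i < 65303 → P i := stepQ 65302 Q65302 (allL N65302 (tt N48085 (iv1 F200698)) (tt N48084 F200696) (tt N35426 (iv2 D124964)) (tt N48063 F200694) (tt N101746 (iv4 F434149)) (tt N82160 (iv5 F278847)) (tt N97373 F416577) (tt N48086 F200695))
theorem Q65304 : ∀ i, i < 65304 → P i := stepQ 65303 Q65303 (allL N65303 (tt N79717 F358996) (tt N94036 (iv0 F402913)) (tt N97373 (iv2 F416578)) (tt N35427 F200699) (tt N101802 (iv4 F434405)) (tt N58673 (iv5 F323946)) (tt N35426 (iv6 D124965)) (tt N96945 (iv7 F414720)))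
theorem Q65305 : ∀ i, i < 65305 → P i := stepQ 65304 Q65304 (allL N65304 (tt N48008 (iv1 F240024)) (tt N37437 F313718) (tt N48005 F200711) (tt N35428 (iv3 D124970)) (tt N58810 F349443) (tt N62995 F200708) (tt N43385 (iv6 F200717)) (tt N48006 F200710))
theorem Q65306 : ∀ i, i < 65306 → P i := stepQ 65305 Q65305 (allL N65305 (tt N81301 (iv1 F274201)) (tt N45558 (iv0 F200730)) (tt N67919 F313257) (tt N35431 (iv3 D124974)) (tt N38049 F313258) (tt N55546 F334262) (tt N44021 F200728) (tt N43190 F200729))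
theorem Q65307 : ∀ i, i < 65307 → P i := stepQ 65306 Q65306 (allL N65306 (tt N95751 (iv1 F409460)) (tt N59967 F345390) (tt N48032 F200731) (tt N55546 F352024) (tt N55569 (iv4 F352025)) (tt N35431 (iv5 D124975)) (tt N55544 (iv6 F352026)) (tt N43194 F200732))
theorem Q65308 : ∀ i, i < 65308 → P i := stepQ 65307 Q65307 (allL N65307 (tt N45527 F305097) (tt N48039 F303120) (tt N45562 F200735) (tt N35432 (iv3 D124977)) (tt N48036 (iv4 F305191)) (tt N76746 F303121) (tt N99601 (iv6 F425357)) (tt N48033 F200737))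
theorem Q65309 : ∀ i, i < 65309 → P i := stepQ 65308 Q65308 (allL N65308 (tt N45988 F322694) (tt N45987 F322695) (tt N35435 F200738) (tt N76746 F361227) (tt N101808 D204981) (tt N35432 (iv5 D124978)) (tt N46166 F322696) (tt N45986 F322697))
theorem Q65310 : ∀ i, i < 65310 → P i := stepQ 65309 Q65309 (allL N65309 (tt N70553 (iv1 F308621)) (tt N43966 F239428) (tt N35436 F200742) (tt N99601 (iv3 F425356)) (tt N35433 F200743) (tt N76757 (iv5 F239880)) (tt N35432 (iv6 D124979)) (tt N99601 (iv7 F425358)))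
theorem Q65311 : ∀ i, i < 65311 → P i := stepQ 65310 Q65310 (allL N65310 (tt N79376 (iv1 F345378)) (tt N82372 F345379) (tt N48038 F200753) (tt N46846 F200754) (tt N95631 (iv4 F408953)) (tt N35434 (iv5 D124982)) (tt N65148 F336477) (tt N43955 F200755))
theorem Q65312 : ∀ i, i < 65312 → P i := stepQ 65311 Q65311 (allL N65311 (tt N45986 F322692) (tt N35435 (iv0 D124983)) (tt N45988 F323615) (tt N101809 D204982) (tt N101810 D204983) (tt N80291 (iv5 F303237)) (tt N47782 F345356) (tt N45987 F323616))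
theorem Q65313 : ∀ i, i < 65313 → P i := stepQ 65312 Q65312 (allL N65312 (tt N35435 (iv1 D124984)) (tt N45986 F322693) (tt N45987 F323611) (tt N84146 (iv3 F368324)) (tt N101811 D204984) (tt N63220 F200758) (tt N100808 F430573) (tt N45988 F323612))
theorem Q65314 : ∀ i, i < 65314 → P i := stepQ 65313 Q65313 (allL N65313 (tt N101812 D204985) (tt N101813 D204986) (tt N101808 (iv2 F434435)) (tt N45976 F322698) (tt N35435 (iv4 D124985)) (tt N101814 D204987) (tt N46167 F322699) (tt N45971 F322700))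
theorem Q65315 : ∀ i, i < 65315 → P i := stepQ 65314 Q65314 (allL N65314 (tt N99601 (iv1 F425360)) (tt N35436 (iv0 D124987)) (tt N70553 (iv2 F308622)) (tt N101815 D204988) (tt N82318 F280214) (tt N38640 F309873) (tt N45529 F350953) (tt N43966 F239439))
theorem Q65316 : ∀ i, i < 65316 → P i := stepQ 65315 Q65315 (allL N65315 (tt N35436 (iv1 D124988)) (tt N99601 (iv0 F425359)) (tt N43966 (iv2 F200762)) (tt N53367 F344098) (tt N63102 (iv4 F200760)) (tt N36160 (iv5 F325866)) (tt N39533 F324784) (tt N70553 (iv7 F308625)))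
theorem Q65317 : ∀ i, i < 65317 → P i := stepQ 65316 Q65316 (allL N65316 (tt N76588 (iv1 F239423)) (tt N76585 (iv0 F239414)) (tt N76757 F239882) (tt N36970 F307028) (tt N101816 D204989) (tt N35436 (iv5 D124989)) (tt N36969 F307029) (tt N68264 F307030))
theorem Q65318 : ∀ i, i < 65318 → P i := stepQ 65317 Q65317 (allL N65317 (tt N43966 F239427) (tt N70553 (iv0 F308620)) (tt N99601 (iv2 F425355)) (tt N45563 F303126) (tt N35440 F200765) (tt N68264 (iv5 F305442)) (tt N45562 F303127) (tt N35436 (iv7 D124990)))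
theorem Q65319 : ∀ i, i < 65319 → P i := stepQ 65318 Q65318 (allL N65318 (tt N48034 (iv1 F200774)) (tt N35437 (iv0 D124994)) (tt N48042 (iv2 F201204)) (tt N68682 F355485) (tt N78082 (iv4 F316788)) (tt N82174 (iv5 F279042)) (tt N96877 (iv6 F414403)) (tt N48041 (iv7 F201206)))
theorem Q65320 : ∀ i, i < 65320 → P i := stepQ 65319 Q65319 (allL N65319 (tt N35437 (iv1 D124995)) (tt N48034 F200775) (tt N48041 F201205) (tt N59915 (iv3 F390583)) (tt N65373 (iv4 F201202)) (tt N82175 (iv5 F279038)) (tt N99721 (iv6 F425904)) (tt N48042 F201203))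
theorem Q65321 : ∀ i, i < 65321 → P i := stepQ 65320 Q65320 (allL N65320 (tt N97236 (iv1 F416014)) (tt N101817 D204990) (tt N78275 F348065) (tt N69443 F366282) (tt N101818 D204991) (tt N35437 (iv5 D124997)) (tt N96862 (iv6 F414322)) (tt N48043 F200778))
theorem Q65322 : ∀ i, i < 65322 → P i := stepQ 65321 Q65321 (allL N65321 (tt N90468 (iv1 F389764)) (tt N90458 (iv0 F389723)) (tt N43974 F200783) (tt N69322 F347000) (tt N35439 (iv4 D125001)) (tt N36080 F331977) (tt N36083 F331978) (tt N90462 (iv7 F389741)))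
theorem Q65323 : ∀ i, i < 65323 → P i := stepQ 65322 Q65322 (allL N65322 (tt N48063 (iv1 F200785)) (tt N35441 (iv0 D125003)) (tt N48062 F355441) (tt N75162 F339816) (tt N87484 (iv4 F379497)) (tt N75161 (iv5 F339815)) (tt N87486 (iv6 F379523)) (tt N48061 F355442))
theorem Q65324 : ∀ i, i < 65324 → P i := stepQ 65323 Q65323 (allL N65323 (tt N35441 (iv1 D125004)) (tt N48063 F200789) (tt N48061 F355439) (tt N81350 F355520) (tt N91335 (iv4 F392785)) (tt N78711 (iv5 F350203)) (tt N101819 D204992) (tt N48062 F355440))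
theorem Q65325 : ∀ i, i < 65325 → P i := stepQ 65324 Q65324 (allL N65324 (tt N48062 (iv1 F200790)) (tt N48061 F200788) (tt N35441 (iv2 D125005)) (tt N48086 F200786) (tt N37265 F323572) (tt N75168 (iv5 F355165)) (tt N91395 (iv6 F392972)) (tt N48063 F200787))
theorem Q65326 : ∀ i, i < 65326 → P i := stepQ 65325 Q65325 (allL N65325 (tt N91396 F392978) (tt N90201 (iv0 F388873)) (tt N91395 F392974) (tt N35442 F200791) (tt N69444 (iv4 F366413)) (tt N45510 F325016) (tt N35441 (iv6 D125006)) (tt N79424 F325017))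
theorem Q65327 : ∀ i, i < 65327 → P i := stepQ 65326 Q65326 (allL N65326 (tt N91422 (iv1 F393069)) (tt N84483 (iv0 F369481)) (tt N91421 F393061) (tt N35444 (iv3 D125019)) (tt N35445 F200833) (tt N101820 D204993) (tt N62401 F366092) (tt N48099 F200834))
theorem Q65328 : ∀ i, i < 65328 → P i := stepQ 65327 Q65327 (allL N65327 (tt N72164 F313391) (tt N44333 F313392) (tt N72166 F313393) (tt N101820 (iv3 F434503)) (tt N40624 F356822) (tt N35444 (iv5 D125020)) (tt N75985 (iv6 F356827)) (tt N48100 F200835))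
theorem Q65329 : ∀ i, i < 65329 → P i := stepQ 65328 Q65328 (allL N65328 (tt N36002 F321554) (tt N36116 F321555) (tt N36114 F321556) (tt N35446 F200849) (tt N62401 F321557) (tt N69144 F322390) (tt N35445 (iv6 D125030)) (tt N36115 F321558))
theorem Q65330 : ∀ i, i < 65330 → P i := stepQ 65329 Q65329 (allL N65329 (tt N35449 (iv1 D125043)) (tt N44411 F316036) (tt N48087 F201187) (tt N97228 (iv3 F415985)) (tt N57671 F316037) (tt N101817 (iv5 F434487)) (tt N101821 D204994) (tt N48088 F201185))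
theorem Q65331 : ∀ i, i < 65331 → P i := stepQ 65330 Q65330 (allL N65330 (tt N82122 (iv1 F279025)) (tt N82124 (iv0 F278740)) (tt N72312 F316046) (tt N68103 (iv3 F355408)) (tt N101822 D204995) (tt N35449 (iv5 D125045)) (tt N87628 (iv6 F379939)) (tt N48090 F200882))
theorem Q65332 : ∀ i, i < 65332 → P i := stepQ 65331 Q65331 (allL N65331 (tt N73634 (iv1 F366287)) (tt N73633 F366286) (tt N72313 F316047) (tt N81792 (iv3 F366322)) (tt N35450 F200883) (tt N101823 D204996) (tt N35449 (iv6 D125046)) (tt N62480 (iv7 F366285)))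
theorem Q65333 : ∀ i, i < 65333 → P i := stepQ 65332 Q65332 (allL N65332 (tt N35451 (iv1 D125051)) (tt N48095 F200891) (tt N48093 F355154) (tt N94077 F403093) (tt N85273 (iv4 F372123)) (tt N75167 F355155) (tt N91380 (iv6 F392929)) (tt N48094 F355156))
theorem Q65334 : ∀ i, i < 65334 → P i := stepQ 65333 Q65333 (allL N65333 (tt N48094 (iv1 F200892)) (tt N48093 F200890) (tt N35451 (iv2 D125052)) (tt N48106 F200888) (tt N55068 (iv4 F354246)) (tt N100650 (iv5 F429842)) (tt N81789 (iv6 F350212)) (tt N48095 F200889))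
theorem Q65335 : ∀ i, i < 65335 → P i := stepQ 65334 Q65334 (allL N65334 (tt N48111 (iv1 F200917)) (tt N35455 (iv0 D125063)) (tt N48110 F351006) (tt N101824 D204997) (tt N96250 (iv4 F411743)) (tt N82238 (iv5 F351005)) (tt N101825 D204998) (tt N48109 F351007))
theorem Q65336 : ∀ i, i < 65336 → P i := stepQ 65335 Q65335 (allL N65335 (tt N35455 (iv1 D125064)) (tt N48111 F200921) (tt N48109 F351008) (tt N92877 (iv3 F398600)) (tt N96254 (iv4 F411757)) (tt N82239 (iv5 F353469)) (tt N44102 F351009) (tt N48110 F351010))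
theorem Q65337 : ∀ i, i < 65337 → P i := stepQ 65336 Q65336 (allL N65336 (tt N35460 F352304) (tt N35458 F352305) (tt N35456 (iv2 D125082)) (tt N96277 (iv3 F411842)) (tt N94512 (iv4 F404779)) (tt N69895 F352306) (tt N66475 (iv6 F352295)) (tt N35457 (iv7 F200956)))
theorem Q65338 : ∀ i, i < 65338 → P i := stepQ 65337 Q65337 (allL N65337 (tt N39286 F352323) (tt N57395 F352324) (tt N57393 F352325) (tt N35456 (iv3 D125083)) (tt N97999 (iv4 F419112)) (tt N80328 F352326) (tt N39600 F352327) (tt N57394 F352328))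
theorem Q65339 : ∀ i, i < 65339 → P i := stepQ 65338 Q65338 (allL N65338 (tt N70227 F403095) (tt N101826 D204999) (tt N94512 F404780) (tt N101827 D205000) (tt N35456 (iv4 D125084)) (tt N101828 D205001) (tt N101829 D205002) (tt N101830 D205003))
theorem Q65340 : ∀ i, i < 65340 → P i := stepQ 65339 Q65339 (allL N65339 (tt N101831 D205004) (tt N82140 F352320) (tt N69895 (iv2 F352307)) (tt N80328 F352321) (tt N69891 F352319) (tt N35456 (iv5 D125085)) (tt N101832 D205005) (tt N97095 (iv7 F415469)))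
theorem Q65341 : ∀ i, i < 65341 → P i := stepQ 65340 Q65340 (allL N65340 (tt N66476 F352296) (tt N37025 F352297) (tt N66475 F352298) (tt N39600 F352299) (tt N101829 (iv4 F434549)) (tt N101833 D205006) (tt N35456 (iv6 D125086)) (tt N66467 F352300))
theorem Q65342 : ∀ i, i < 65342 → P i := stepQ 65341 Q65341 (allL N65341 (tt N35458 F352302) (tt N35460 F352303) (tt N35457 F200957) (tt N57394 (iv3 F352329)) (tt N101830 (iv4 F434554)) (tt N97095 (iv5 F415466)) (tt N45772 F352301) (tt N35456 (iv7 D125087)))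
theorem Q65343 : ∀ i, i < 65343 → P i := stepQ 65342 Q65342 (allL N65342 (tt N86366 F375967) (tt N101824 (iv0 F434523)) (tt N96280 (iv2 F411853)) (tt N35457 (iv3 D125088)) (tt N59237 (iv4 F350807)) (tt N66981 (iv5 F353925)) (tt N101834 D205007) (tt N96277 (iv7 F411843)))
theorem Q65344 : ∀ i, i < 65344 → P i := stepQ 65343 Q65343 (allL N65343 (tt N101826 (iv1 F434532)) (tt N70227 (iv0 F366592)) (tt N101830 (iv2 F434552)) (tt N57812 F366474) (tt N35457 (iv4 D125089)) (tt N101835 D205008) (tt N101836 D205009) (tt N94512 (iv7 F404778)))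
theorem Q65345 : ∀ i, i < 65345 → P i := stepQ 65344 Q65344 (allL N65344 (tt N82140 F350813) (tt N101831 F434560) (tt N97095 (iv2 F415463)) (tt N66981 (iv3 F353923)) (tt N69739 F350811) (tt N35457 (iv5 D125090)) (tt N64254 (iv6 F350820)) (tt N69895 F350812))
theorem Q65346 : ∀ i, i < 65346 → P i := stepQ 65345 Q65345 (allL N65345 (tt N74739 F350815) (tt N82061 F350816) (tt N45772 F350817) (tt N101834 (iv3 F434575)) (tt N101836 (iv4 F434582)) (tt N35756 F350818) (tt N35457 (iv6 D125091)) (tt N45775 F350819))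
theorem Q65347 : ∀ i, i < 65347 → P i := stepQ 65346 Q65346 (allL N65346 (tt N44899 (iv1 F200963)) (tt N44898 F200964) (tt N35459 F200960) (tt N48122 F200961) (tt N91025 (iv4 F391636)) (tt N35458 (iv5 D125094)) (tt N101230 F432317) (tt N44900 F200962))
theorem Q65348 : ∀ i, i < 65348 → P i := stepQ 65347 Q65347 (allL N65347 (tt N44900 (iv1 F200965)) (tt N35459 (iv0 D125095)) (tt N44899 F354748) (tt N101837 D205010) (tt N69825 F354749) (tt N101806 (iv5 F434422)) (tt N82458 (iv6 F353674)) (tt N44898 F354750))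
theorem Q65349 : ∀ i, i < 65349 → P i := stepQ 65348 Q65348 (allL N65348 (tt N35459 (iv1 D125096)) (tt N44900 F200966) (tt N44898 F354746) (tt N96303 (iv3 F411928)) (tt N69730 F354745) (tt N101807 F434432) (tt N88528 F383412) (tt N44899 F354747))
theorem Q65350 : ∀ i, i < 65350 → P i := stepQ 65349 Q65349 (allL N65349 (tt N101838 D205011) (tt N88526 F411697) (tt N91025 (iv2 F391634)) (tt N44872 F200967) (tt N35459 (iv4 D125097)) (tt N101839 D205012) (tt N85825 (iv6 F374130)) (tt N44870 F200968))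
theorem Q65351 : ∀ i, i < 65351 → P i := stepQ 65350 Q65350 (allL N65350 (tt N77135 F355102) (tt N101231 F432325) (tt N101230 (iv2 F432318)) (tt N35461 F200969) (tt N85825 (iv4 F374129)) (tt N44122 F200970) (tt N35459 (iv6 D125098)) (tt N75761 (iv7 F233685)))
theorem Q65352 : ∀ i, i < 65352 → P i := stepQ 65351 Q65351 (allL N65351 (tt N101840 D205013) (tt N101841 D205014) (tt N94628 (iv2 F405298)) (tt N35462 F200971) (tt N94624 (iv4 F405276)) (tt N74836 (iv5 F229436)) (tt N35460 (iv6 D125099)) (tt N42342 F200972))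
theorem Q65353 : ∀ i, i < 65353 → P i := stepQ 65352 Q65352 (allL N65352 (tt N41691 (iv1 F200974)) (tt N35461 (iv0 D125100)) (tt N48128 (iv2 F200975)) (tt N45292 F309862) (tt N41668 F200973) (tt N66762 (iv5 F205378)) (tt N42650 F309863) (tt N48129 (iv7 F200976)))
theorem Q65354 : ∀ i, i < 65354 → P i := stepQ 65353 Q65353 (allL N65353 (tt N35461 (iv1 D125101)) (tt N41691 F200977) (tt N48129 (iv2 F200980)) (tt N98079 (iv3 F419368)) (tt N41688 F200979) (tt N66763 (iv5 F205382)) (tt N37078 F317753) (tt N48128 F200978))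
theorem Q65355 : ∀ i, i < 65355 → P i := stepQ 65354 Q65354 (allL N65354 (tt N53094 (iv1 F201005)) (tt N53093 F201006) (tt N53096 F201002) (tt N35465 F201003) (tt N53710 F338868) (tt N35464 (iv5 D125111)) (tt N38797 F327317) (tt N47839 F201004))
theorem Q65356 : ∀ i, i < 65356 → P i := stepQ 65355 Q65355 (allL N65355 (tt N49465 F201012) (tt N53112 F272723) (tt N53111 F201014) (tt N35466 (iv3 D125114)) (tt N38298 F308186) (tt N101842 D205015) (tt N52962 F210915) (tt N42538 (iv7 F232560)))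
theorem Q65357 : ∀ i, i < 65357 → P i := stepQ 65356 Q65356 (allL N65356 (tt N57469 (iv1 F312697)) (tt N82853 F284622) (tt N48174 F201015) (tt N101842 (iv3 F434611)) (tt N101843 D205016) (tt N35466 (iv5 D125115)) (tt N38805 F337791) (tt N42539 (iv7 F232561)))
theorem Q65358 : ∀ i, i < 65358 → P i := stepQ 65357 Q65357 (allL N65357 (tt N48178 (iv1 F201026)) (tt N48177 F201027) (tt N35468 F201024) (tt N43138 F315931) (tt N94522 (iv4 F404819)) (tt N35467 (iv5 D125120)) (tt N95245 (iv6 F407565)) (tt N48175 F201025))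
theorem Q65359 : ∀ i, i < 65359 → P i := stepQ 65358 Q65358 (allL N65358 (tt N48175 (iv1 F201028)) (tt N35468 (iv0 D125121)) (tt N48178 (iv2 F236102)) (tt N101844 D205017) (tt N101845 D205018) (tt N57690 (iv5 F311688)) (tt N99887 (iv6 F426687)) (tt N48177 (iv7 F236105)))
theorem Q65360 : ∀ i, i < 65360 → P i := stepQ 65359 Q65359 (allL N65359 (tt N35468 (iv1 D125122)) (tt N48175 F201029) (tt N48177 F236106) (tt N76936 (iv3 F308832)) (tt N101846 D205019) (tt N57689 (iv5 F315116)) (tt N95506 (iv6 F408402)) (tt N48178 F236104))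
theorem Q65361 : ∀ i, i < 65361 → P i := stepQ 65360 Q65360 (allL N65360 (tt N53091 (iv1 F281966)) (tt N53089 (iv0 F275528)) (tt N53704 (iv2 F338825)) (tt N35469 (iv3 D125125)) (tt N53713 (iv4 F338883)) (tt N53688 (iv5 F300552)) (tt N79103 (iv6 F359691)) (tt N48184 F201032))
theorem Q65362 : ∀ i, i < 65362 → P i := stepQ 65361 Q65361 (allL N65361 (tt N80529 (iv1 F268238)) (tt N64829 (iv0 F304363)) (tt N48189 F201033) (tt N83107 F338898) (tt N35469 (iv4 D125126)) (tt N64895 (iv5 F305163)) (tt N94565 F404988) (tt N48185 F201034))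
theorem Q65363 : ∀ i, i < 65363 → P i := stepQ 65362 Q65362 (allL N65362 (tt N49463 (iv1 F286912)) (tt N49466 F287033) (tt N53115 F287075) (tt N35470 (iv3 D125128)) (tt N51183 (iv4 F367992)) (tt N53566 (iv5 F286903)) (tt N51181 (iv6 F367997)) (tt N48188 F201036))
theorem Q65364 : ∀ i, i < 65364 → P i := stepQ 65363 Q65363 (allL N65363 (tt N64829 (iv1 F304364)) (tt N80529 (iv0 F268237)) (tt N48185 F201037) (tt N101847 D205020) (tt N35470 (iv4 D125129)) (tt N64532 (iv5 F301733)) (tt N101848 D205021) (tt N48189 F201038))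
theorem Q65365 : ∀ i, i < 65365 → P i := stepQ 65364 Q65364 (allL N65364 (tt N84756 F370514) (tt N99523 (iv0 F424976)) (tt N48187 F201039) (tt N51181 (iv3 F367996)) (tt N101848 (iv4 F434649)) (tt N101607 (iv5 F433524)) (tt N35470 (iv6 D125130)) (tt N101849 D205022))
theorem Q65366 : ∀ i, i < 65366 → P i := stepQ 65365 Q65365 (allL N65365 (tt N48148 (iv1 F201133)) (tt N35482 F201132) (tt N36616 (iv2 F201120)) (tt N47408 F201080) (tt N57646 F312964) (tt N35471 (iv5 D125151)) (tt N73150 (iv6 F348840)) (tt N36613 F201118))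
theorem Q65367 : ∀ i, i < 65367 → P i := stepQ 65366 Q65366 (allL N65366 (tt N36593 F201157) (tt N36592 (iv0 F201158)) (tt N35474 F201154) (tt N37121 F312120) (tt N35473 (iv4 D125157)) (tt N37856 F312121) (tt N36516 F201155) (tt N36413 F201156))
theorem Q65368 : ∀ i, i < 65368 → P i := stepQ 65367 Q65367 (allL N65367 (tt N36619 (iv1 F201162)) (tt N36618 F201163) (tt N35475 F201159) (tt N39343 F312156) (tt N78180 F312157) (tt N35473 (iv5 D125158)) (tt N91536 F393541) (tt N36414 F201161))
theorem Q65369 : ∀ i, i < 65369 → P i := stepQ 65368 Q65368 (allL N65368 (tt N36413 (iv1 F201167)) (tt N35474 (iv0 D125159)) (tt N36593 (iv2 F201166)) (tt N38880 F312116) (tt N39999 F312117) (tt N36851 F312118) (tt N79491 F264117) (tt N36592 F201168))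
theorem Q65370 : ∀ i, i < 65370 → P i := stepQ 65369 Q65369 (allL N65369 (tt N67610 F316702) (tt N67746 F316703) (tt N37856 F316704) (tt N44818 F300833) (tt N101850 D205023) (tt N35474 (iv5 D125160)) (tt N71365 F347131) (tt N36594 F201170))
theorem Q65371 : ∀ i, i < 65371 → P i := stepQ 65370 Q65370 (allL N65370 (tt N36414 (iv1 F201173)) (tt N35475 (iv0 D125161)) (tt N36619 F234251) (tt N48021 F201171) (tt N44405 F309720) (tt N37211 F309721) (tt N47678 F315481) (tt N36618 F234252))
theorem Q65372 : ∀ i, i < 65372 → P i := stepQ 65371 Q65371 (allL N65371 (tt N39993 F313643) (tt N39991 F313644) (tt N78180 F313645) (tt N82179 (iv3 F279068)) (tt N35475 (iv4 D125163)) (tt N96602 F413143) (tt N101851 D205024) (tt N36620 F201177))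
theorem Q65373 : ∀ i, i < 65373 → P i := stepQ 65372 Q65372 (allL N65372 (tt N47712 F341037) (tt N47715 F341038) (tt N91536 (iv2 F393542)) (tt N35476 F201179) (tt N101851 (iv4 F434665)) (tt N36349 F201180) (tt N35475 (iv6 D125164)) (tt N36352 F201181))
theorem Q65374 : ∀ i, i < 65374 → P i := stepQ 65373 Q65373 (allL N65373 (tt N48499 (iv1 F280165)) (tt N44314 F312678) (tt N72221 (iv2 F314451)) (tt N35478 (iv3 D125169)) (tt N65319 F201202) (tt N57688 F312679) (tt N73104 (iv6 F357102)) (tt N48216 F201201))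
theorem Q65375 : ∀ i, i < 65375 → P i := stepQ 65374 Q65374 (allL N65374 (tt N65245 F201209) (tt N94262 F403880) (tt N48219 F201207) (tt N92423 (iv3 F396965)) (tt N35478 (iv4 D125170)) (tt N94184 (iv5 F403601)) (tt N101852 D205025) (tt N48217 F201208))
theorem Q65376 : ∀ i, i < 65376 → P i := stepQ 65375 Q65375 (allL N65375 (tt N41259 F312680) (tt N41255 F312681) (tt N41256 (iv2 F315133)) (tt N73104 F357104) (tt N101852 (iv4 F434670)) (tt N68422 (iv5 F210366)) (tt N35478 (iv6 D125171)) (tt N41257 (iv7 F315135)))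
theorem Q65377 : ∀ i, i < 65377 → P i := stepQ 65376 Q65376 (allL N65376 (tt N44343 F312528) (tt N47408 (iv0 F239968)) (tt N72187 (iv2 F314993)) (tt N35479 (iv3 D125172)) (tt N44281 (iv4 F313716)) (tt N57686 F312529) (tt N76798 F239956) (tt N48218 F201211))
theorem Q65378 : ∀ i, i < 65378 → P i := stepQ 65377 Q65377 (allL N65377 (tt N44313 F316478) (tt N35480 (iv0 D125174)) (tt N48221 (iv2 F232983)) (tt N101853 D205026) (tt N69561 F316479) (tt N57615 F316480) (tt N101854 D205027) (tt N48220 (iv7 F232986)))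
theorem Q65379 : ∀ i, i < 65379 → P i := stepQ 65378 Q65378 (allL N65378 (tt N35480 (iv1 D125175)) (tt N44313 F316476) (tt N48220 F232984) (tt N75149 F356548) (tt N48074 (iv4 F201217)) (tt N57614 F316477) (tt N100039 F427333) (tt N48221 F232982))
theorem Q65380 : ∀ i, i < 65380 → P i := stepQ 65379 Q65379 (allL N65379 (tt N94365 F404148) (tt N101855 D205028) (tt N57526 (iv2 F353527)) (tt N35480 (iv3 D125176)) (tt N35485 F201219) (tt N94354 (iv5 F404114)) (tt N55974 F353526) (tt N48222 F201220))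
theorem Q65381 : ∀ i, i < 65381 → P i := stepQ 65380 Q65380 (allL N65380 (tt N72351 (iv1 F366615)) (tt N94202 F403683) (tt N69040 F343121) (tt N94354 F404112) (tt N57830 F343126) (tt N35480 (iv5 D125177)) (tt N101856 D205029) (tt N48223 F201221))
theorem Q65382 : ∀ i, i < 65382 → P i := stepQ 65381 Q65381 (allL N65381 (tt N101857 D205030) (tt N101858 D205031) (tt N69038 (iv2 F353529)) (tt N55974 F353525) (tt N35481 F201222) (tt N55973 (iv5 F353530)) (tt N35480 (iv6 D125178)) (tt N101859 D205032))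
theorem Q65383 : ∀ i, i < 65383 → P i := stepQ 65382 Q65382 (allL N65382 (tt N69062 F317332) (tt N69061 F317333) (tt N41578 F317334) (tt N35489 F201223) (tt N101859 (iv4 F434703)) (tt N82336 (iv5 F280367)) (tt N41576 (iv6 F318706)) (tt N35481 (iv7 D125179)))
theorem Q65384 : ∀ i, i < 65384 → P i := stepQ 65383 Q65383 (allL N65383 (tt N36616 (iv1 F201232)) (tt N36613 (iv0 F201229)) (tt N35482 (iv2 D125180)) (tt N48142 F201225) (tt N94430 (iv4 F404446)) (tt N46517 F304880) (tt N92602 (iv6 F397589)) (tt N48148 F201227))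
theorem Q65385 : ∀ i, i < 65385 → P i := stepQ 65384 Q65384 (allL N65384 (tt N44461 F314349) (tt N44458 F314350) (tt N94430 F404447) (tt N82146 (iv3 F278799)) (tt N35482 (iv4 D125181)) (tt N101860 D205033) (tt N74673 F341149) (tt N48149 F201238))
theorem Q65386 : ∀ i, i < 65386 → P i := stepQ 65385 Q65385 (allL N65385 (tt N81709 F341025) (tt N62293 F333344) (tt N92602 (iv2 F397587)) (tt N35483 F201240) (tt N74673 (iv4 F341147)) (tt N46519 F304901) (tt N35482 (iv6 D125182)) (tt N72749 F366106))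
theorem Q65387 : ∀ i, i < 65387 → P i := stepQ 65386 Q65386 (allL N65386 (tt N48135 (iv1 F201255)) (tt N44317 F312125) (tt N35484 (iv2 D125185)) (tt N48148 F201252) (tt N71107 (iv4 F313704)) (tt N72394 F312126) (tt N78822 F251024) (tt N48142 F201253))
theorem Q65388 : ∀ i, i < 65388 → P i := stepQ 65387 Q65387 (allL N65387 (tt N38242 F314590) (tt N71108 F314591) (tt N71107 F314592) (tt N81487 (iv3 F313971)) (tt N35484 (iv4 D125186)) (tt N71286 F314593) (tt N63339 F201256) (tt N48143 F201257))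
theorem Q65389 : ∀ i, i < 65389 → P i := stepQ 65388 Q65388 (allL N65388 (tt N48235 (iv1 F201258)) (tt N35485 (iv0 D125187)) (tt N48234 F350996) (tt N101861 D205034) (tt N96255 (iv4 F411759)) (tt N78728 F350997) (tt N101862 D205035) (tt N48233 F350998))
theorem Q65390 : ∀ i, i < 65390 → P i := stepQ 65389 Q65389 (allL N65389 (tt N35485 (iv1 D125188)) (tt N48235 F201262) (tt N48233 F350999) (tt N98303 (iv3 F420419)) (tt N96256 (iv4 F411766)) (tt N75996 (iv5 F351001)) (tt N100515 F429266) (tt N48234 F351000))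
theorem Q65391 : ∀ i, i < 65391 → P i := stepQ 65390 Q65390 (allL N65390 (tt N79876 F353473) (tt N101863 D205036) (tt N73809 F353521) (tt N35486 F201264) (tt N55974 (iv4 F353474)) (tt N58675 (iv5 F353475)) (tt N35485 (iv6 D125190)) (tt N79624 F353476))
theorem Q65392 : ∀ i, i < 65392 → P i := stepQ 65391 Q65391 (allL N65391 (tt N48497 F282911) (tt N101864 D205037) (tt N101865 D205038) (tt N35488 (iv3 D125197)) (tt N76378 (iv4 F355798)) (tt N62603 F201279) (tt N73127 (iv6 F334906)) (tt N48152 F201280))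
theorem Q65393 : ∀ i, i < 65393 → P i := stepQ 65392 Q65392 (allL N65392 (tt N54276 F201290) (tt N64482 (iv0 F357832)) (tt N48240 F201288) (tt N54288 (iv3 F342026)) (tt N35490 (iv4 D125200)) (tt N90057 (iv5 F388439)) (tt N64462 (iv6 F303904)) (tt N48237 F201289))
theorem Q65394 : ∀ i, i < 65394 → P i := stepQ 65393 Q65393 (allL N65393 (tt N45139 F338622) (tt N41644 F233096) (tt N61447 (iv2 F335145)) (tt N37302 F322395) (tt N35492 (iv4 D125201)) (tt N37301 F322396) (tt N61330 (iv6 F355270)) (tt N48242 F201292))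
theorem Q65395 : ∀ i, i < 65395 → P i := stepQ 65394 Q65394 (allL N65394 (tt N41655 F205368) (tt N61408 (iv0 F333624)) (tt N61445 (iv2 F315695)) (tt N35493 F201293) (tt N61330 F333649) (tt N39950 F319598) (tt N35492 (iv6 D125202)) (tt N61449 (iv7 F333648)))
theorem Q65396 : ∀ i, i < 65396 → P i := stepQ 65395 Q65395 (allL N65395 (tt N75801 F313747) (tt N68419 F313748) (tt N38342 F313749) (tt N35495 F201327) (tt N48168 F201328) (tt N63086 F313750) (tt N35494 (iv6 D125214)) (tt N48477 F302263))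
theorem Q65397 : ∀ i, i < 65397 → P i := stepQ 65396 Q65396 (allL N65396 (tt N68457 F341882) (tt N68451 F344135) (tt N68455 F337669) (tt N35496 (iv3 D125248)) (tt N47593 F201395) (tt N46631 F201396) (tt N48432 F300307) (tt N47723 F201397))
theorem Q65398 : ∀ i, i < 65398 → P i := stepQ 65397 Q65397 (allL N65397 (tt N35520 (iv1 F201455)) (tt N35500 (iv0 D125273)) (tt N35519 F353891) (tt N76110 F344668) (tt N101866 D205039) (tt N76109 F341200) (tt N47908 F341201) (tt N35518 F353892))
theorem Q65399 : ∀ i, i < 65399 → P i := stepQ 65398 Q65398 (allL N65398 (tt N35500 (iv1 D125274)) (tt N35520 F201459) (tt N35518 F353889) (tt N101867 D205040) (tt N101868 D205041) (tt N76521 F345820) (tt N78702 (iv6 F353946)) (tt N35519 F353890))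
theorem Q65400 : ∀ i, i < 65400 → P i := stepQ 65399 Q65399 (allL N65399 (tt N35519 (iv1 F201460)) (tt N35518 F201458) (tt N35500 (iv2 D125275)) (tt N48247 F201456) (tt N101496 (iv4 F433147)) (tt N70515 (iv5 F341219)) (tt N47085 F319514) (tt N35520 F201457))
theorem Q65401 : ∀ i, i < 65401 → P i := stepQ 65400 Q65400 (allL N65400 (tt N101869 D205042) (tt N70516 (iv0 F353953)) (tt N94954 (iv2 F406488)) (tt N35501 (iv3 D125287)) (tt N47878 F302659) (tt N82364 (iv5 F280552)) (tt N45929 F201494) (tt N46147 (iv7 F304724)))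
theorem Q65402 : ∀ i, i < 65402 → P i := stepQ 65401 Q65401 (allL N65401 (tt N48256 (iv1 F201503)) (tt N48255 F201501) (tt N35502 (iv2 D125291)) (tt N47012 F323359) (tt N101153 (iv4 F431965)) (tt N47010 F323360) (tt N58867 F334724) (tt N48257 F201500))
theorem Q65403 : ∀ i, i < 65403 → P i := stepQ 65402 Q65402 (allL N65402 (tt N80922 (iv1 F344935)) (tt N47277 F334684) (tt N47010 F319528) (tt N35503 F201504) (tt N84050 (iv4 F367927)) (tt N35502 (iv5 D125292)) (tt N47008 F319529) (tt N37167 F319530))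
theorem Q65404 : ∀ i, i < 65404 → P i := stepQ 65403 Q65403 (allL N65403 (tt N44891 F318680) (tt N45936 F201511) (tt N47512 F318697) (tt N94181 F403583) (tt N48156 F318681) (tt N35504 (iv5 D125295)) (tt N47511 F318698) (tt N69212 (iv7 F319957)))
theorem Q65405 : ∀ i, i < 65405 → P i := stepQ 65404 Q65404 (allL N65404 (tt N46848 F322046) (tt N46854 F322047) (tt N80373 F322048) (tt N35505 (iv3 D125304)) (tt N35506 F201537) (tt N80373 F322049) (tt N49195 F297613) (tt N47519 F322050))
theorem Q65406 : ∀ i, i < 65406 → P i := stepQ 65405 Q65405 (allL N65405 (tt N51610 F201540) (tt N64238 F297620) (tt N79686 (iv2 F354382)) (tt N80373 F358447) (tt N101008 (iv4 F431240)) (tt N35505 (iv5 D125305)) (tt N67459 (iv6 F358446)) (tt N48252 F201539))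
theorem Q65407 : ∀ i, i < 65407 → P i := stepQ 65406 Q65406 (allL N65406 (tt N46700 (iv1 F201553)) (tt N35507 (iv0 D125311)) (tt N48263 (iv2 F201552)) (tt N101870 D205043) (tt N63881 F301636) (tt N57810 F360008) (tt N64435 F301637) (tt N48262 F201554))
theorem Q65408 : ∀ i, i < 65408 → P i := stepQ 65407 Q65407 (allL N65407 (tt N101871 D205044) (tt N82511 F358719) (tt N52832 F358716) (tt N35507 (iv3 D125312)) (tt N35509 F201555) (tt N101872 D205045) (tt N79396 (iv6 F358715)) (tt N48264 F201556))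
theorem Q65409 : ∀ i, i < 65409 → P i := stepQ 65408 Q65408 (allL N65408 (tt N64615 (iv1 F303754)) (tt N64616 (iv0 F303767)) (tt N70027 F341361) (tt N101872 (iv3 F434765)) (tt N38775 F341362) (tt N35507 (iv5 D125313)) (tt N58180 F341363) (tt N48265 F201557))
theorem Q65410 : ∀ i, i < 65410 → P i := stepQ 65409 Q65409 (allL N65409 (tt N48275 (iv1 F201601)) (tt N35515 (iv0 D125334)) (tt N48274 F330723) (tt N47114 F330724) (tt N101873 D205046) (tt N82041 F344885) (tt N47112 F330725) (tt N45901 F330726))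
theorem Q65411 : ∀ i, i < 65411 → P i := stepQ 65410 Q65410 (allL N65410 (tt N77028 F353893) (tt N77027 F353894) (tt N76167 F353895) (tt N35518 (iv3 D125348)) (tt N87015 (iv4 F378049)) (tt N46467 F353896) (tt N75218 (iv6 F353907)) (tt N76110 F353897))
theorem Q65412 : ∀ i, i < 65412 → P i := stepQ 65411 Q65411 (allL N65411 (tt N88507 (iv1 F383316)) (tt N101874 D205047) (tt N101868 (iv2 F434743)) (tt N101875 D205048) (tt N35518 (iv4 D125349)) (tt N101876 D205049) (tt N101877 D205050) (tt N101866 (iv7 F434736)))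
theorem Q65413 : ∀ i, i < 65413 → P i := stepQ 65412 Q65412 (allL N65412 (tt N80667 F353898) (tt N79406 F353899) (tt N76521 F353900) (tt N46467 F353901) (tt N63890 F353902) (tt N35518 (iv5 D125350)) (tt N52811 F353903) (tt N76109 F353904))
theorem Q65414 : ∀ i, i < 65414 → P i := stepQ 65413 Q65413 (allL N65413 (tt N76727 F353905) (tt N64014 F353906) (tt N78702 F353945) (tt N75218 F353908) (tt N101877 (iv4 F434781)) (tt N64217 (iv5 F341221)) (tt N35518 (iv6 D125351)) (tt N78701 F353943))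
theorem Q65415 : ∀ i, i < 65415 → P i := stepQ 65414 Q65414 (allL N65414 (tt N90506 F389879) (tt N47114 F353949) (tt N77026 F353909) (tt N35519 (iv3 D125353)) (tt N101878 D205051) (tt N77024 (iv5 F353948)) (tt N98292 (iv6 F420362)) (tt N101867 (iv7 F434740)))
theorem Q65416 : ∀ i, i < 65416 → P i := stepQ 65415 Q65415 (allL N65415 (tt N101874 (iv1 F434778)) (tt N88507 (iv0 F383315)) (tt N101866 (iv2 F434734)) (tt N101879 D205052) (tt N35519 (iv4 D125354)) (tt N101880 D205053) (tt N101720 (iv6 F434026)) (tt N101868 (iv7 F434745)))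
theorem Q65417 : ∀ i, i < 65417 → P i := stepQ 65416 Q65416 (allL N65416 (tt N79406 F339280) (tt N80667 F339282) (tt N76109 F330647) (tt N77024 F330648) (tt N48975 F330649) (tt N35519 (iv5 D125355)) (tt N48974 F330650) (tt N76521 (iv7 F353885)))
theorem Q65418 : ∀ i, i < 65418 → P i := stepQ 65417 Q65417 (allL N65417 (tt N70517 (iv1 F348592)) (tt N70494 (iv0 F345831)) (tt N35521 F201628) (tt N48282 F201629) (tt N101881 D205054) (tt N35520 (iv5 D125357)) (tt N78748 (iv6 F250765)) (tt N70515 (iv7 F341220)))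
theorem Q65419 : ∀ i, i < 65419 → P i := stepQ 65418 Q65418 (allL N65418 (tt N70515 F357868) (tt N35521 (iv0 D125358)) (tt N70517 (iv2 F357870)) (tt N80381 (iv3 F357867)) (tt N64485 F357866) (tt N101869 (iv5 F434747)) (tt N64483 (iv6 F357871)) (tt N70494 F357869))
theorem Q65420 : ∀ i, i < 65420 → P i := stepQ 65419 Q65419 (allL N65419 (tt N101882 D205055) (tt N53124 (iv0 F351633)) (tt N101881 (iv2 F434791)) (tt N69581 F361497) (tt N35521 (iv4 D125360)) (tt N89401 (iv5 F386370)) (tt N78749 (iv6 F250766)) (tt N100005 (iv7 F427154)))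
theorem Q65421 : ∀ i, i < 65421 → P i := stepQ 65420 Q65420 (allL N65420 (tt N79877 (iv1 F258685)) (tt N101883 D205056) (tt N48302 F261367) (tt N68799 (iv3 F358972)) (tt N35523 (iv4 D125366)) (tt N68793 (iv5 F358981)) (tt N80287 (iv6 F358984)) (tt N48299 F261363))
theorem Q65422 : ∀ i, i < 65422 → P i := stepQ 65421 Q65421 (allL N65421 (tt N79712 (iv1 F258468)) (tt N64118 F258467) (tt N79711 (iv2 F261299)) (tt N35524 (iv3 D125369)) (tt N79819 (iv4 F258465)) (tt N48321 F201643) (tt N76723 (iv6 F342068)) (tt N48301 (iv7 F261300)))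
theorem Q65423 : ∀ i, i < 65423 → P i := stepQ 65422 Q65422 (allL N65422 (tt N101883 (iv1 F434802)) (tt N79877 (iv0 F258686)) (tt N48299 (iv2 F261364)) (tt N86942 (iv3 F377794)) (tt N35524 (iv4 D125370)) (tt N101884 D205057) (tt N81361 F355052) (tt N48302 (iv7 F261366)))
theorem Q65424 : ∀ i, i < 65424 → P i := stepQ 65423 Q65423 (allL N65423 (tt N80751 F339187) (tt N64343 F339192) (tt N35526 F201644) (tt N48324 F201645) (tt N56982 F355864) (tt N101683 (iv5 F433853)) (tt N35525 (iv6 D125372)) (tt N80750 (iv7 F360728)))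
theorem Q65425 : ∀ i, i < 65425 → P i := stepQ 65424 Q65424 (allL N65424 (tt N80750 (iv1 F360742)) (tt N35526 (iv0 D125373)) (tt N80751 (iv2 F360732)) (tt N96965 (iv3 F414825)) (tt N60485 F366129) (tt N101885 D205058) (tt N79514 F360740) (tt N64343 F360741))
theorem Q65426 : ∀ i, i < 65426 → P i := stepQ 65425 Q65425 (allL N65425 (tt N44632 (iv1 F201652)) (tt N35527 (iv0 D125376)) (tt N44631 F254366) (tt N97052 (iv3 F415224)) (tt N48375 (iv4 F201653)) (tt N88708 (iv5 F383935)) (tt N52837 (iv6 F334381)) (tt N44630 F254367))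
theorem Q65427 : ∀ i, i < 65427 → P i := stepQ 65426 Q65426 (allL N65426 (tt N82386 (iv1 F280668)) (tt N56527 (iv0 F334355)) (tt N97449 (iv2 F416936)) (tt N35528 F201658) (tt N101886 D205059) (tt N35527 (iv5 D125378)) (tt N97709 (iv6 F418007)) (tt N44633 F201659))
theorem Q65428 : ∀ i, i < 65428 → P i := stepQ 65427 Q65427 (allL N65427 (tt N101887 D205060) (tt N101888 D205061) (tt N48648 F201662) (tt N97709 F418009) (tt N48631 F201663) (tt N65903 (iv5 F366132)) (tt N35528 (iv6 D125380)) (tt N97717 (iv7 F418048)))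
theorem Q65429 : ∀ i, i < 65429 → P i := stepQ 65428 Q65428 (allL N65428 (tt N78758 F250793) (tt N82492 (iv0 F281205)) (tt N44641 F256555) (tt N100682 (iv3 F429987)) (tt N35529 (iv4 D125395)) (tt N88794 (iv5 F384167)) (tt N46862 F328761) (tt N44638 F256556))
theorem Q65430 : ∀ i, i < 65430 → P i := stepQ 65429 Q65429 (allL N65429 (tt N59531 (iv1 F327513)) (tt N45882 F257782) (tt N80232 (iv2 F262233)) (tt N35530 (iv3 D125399)) (tt N65434 (iv4 F201715)) (tt N48402 (iv5 F248744)) (tt N81201 (iv6 F342071)) (tt N44640 F256545))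
theorem Q65431 : ∀ i, i < 65431 → P i := stepQ 65430 Q65430 (allL N65430 (tt N82492 (iv1 F281204)) (tt N78758 (iv0 F254413)) (tt N44638 F256546) (tt N86952 (iv3 F377814)) (tt N35530 (iv4 D125400)) (tt N88798 (iv5 F384179)) (tt N81206 F355910) (tt N44641 F256547))
theorem Q65432 : ∀ i, i < 65432 → P i := stepQ 65431 Q65431 (allL N65431 (tt N81796 (iv1 F277064)) (tt N35532 (iv0 D125404)) (tt N81829 F353632) (tt N75295 F353847) (tt N65721 (iv4 F353848)) (tt N47515 F353633) (tt N97695 F417937) (tt N81828 F353630))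
theorem Q65433 : ∀ i, i < 65433 → P i := stepQ 65432 Q65432 (allL N65432 (tt N35532 (iv1 D125405)) (tt N81796 F277063) (tt N81828 (iv2 F353629)) (tt N59528 (iv3 F342073)) (tt N101889 D205062) (tt N47516 F336016) (tt N47437 F336017) (tt N81829 (iv7 F353631)))
theorem Q65434 : ∀ i, i < 65434 → P i := stepQ 65433 Q65433 (allL N65433 (tt N65848 F368205) (tt N79604 F394738) (tt N79603 (iv2 F353262)) (tt N35536 F201713) (tt N79321 (iv4 F254099)) (tt N101890 D205063) (tt N35534 (iv6 D125426)) (tt N75216 (iv7 F339262)))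
theorem Q65435 : ∀ i, i < 65435 → P i := stepQ 65434 Q65434 (allL N65434 (tt N35538 (iv1 F201720)) (tt N35535 (iv0 D125428)) (tt N79231 F256577) (tt N96646 F413311) (tt N65429 F201715) (tt N101891 D205064) (tt N101892 D205065) (tt N78416 (iv7 F256575)))
theorem Q65436 : ∀ i, i < 65436 → P i := stepQ 65435 Q65435 (allL N65435 (tt N35535 (iv1 D125429)) (tt N35538 F201716) (tt N78416 (iv2 F256578)) (tt N79134 F256581) (tt N78415 F256579) (tt N101893 D205066) (tt N101874 F434856) (tt N79231 F256580))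
theorem Q65437 : ∀ i, i < 65437 → P i := stepQ 65436 Q65436 (allL N65436 (tt N100540 F429395) (tt N101894 D205067) (tt N101895 D205068) (tt N35535 (iv3 D125430)) (tt N79319 (iv4 F254097)) (tt N101896 D205069) (tt N101897 D205070) (tt N79232 (iv7 F254442)))
theorem Q65438 : ∀ i, i < 65438 → P i := stepQ 65437 Q65437 (allL N65437 (tt N101898 D205071) (tt N101899 D205072) (tt N79238 (iv2 F254444)) (tt N101896 (iv3 F434860)) (tt N101900 D205073) (tt N35535 (iv5 D125431)) (tt N101896 F434876) (tt N79233 (iv7 F254443)))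
theorem Q65439 : ∀ i, i < 65439 → P i := stepQ 65438 Q65438 (allL N65438 (tt N101901 D205074) (tt N101902 D205075) (tt N79239 (iv2 F254432)) (tt N101897 (iv3 F434861)) (tt N35536 F201717) (tt N101897 (iv5 F434877)) (tt N35535 (iv6 D125432)) (tt N79580 (iv7 F339263)))
theorem Q65440 : ∀ i, i < 65440 → P i := stepQ 65439 Q65439 (allL N65439 (tt N79621 (iv1 F351013)) (tt N44133 F351011) (tt N79240 (iv2 F254433)) (tt N101890 (iv3 F434842)) (tt N101903 D205076) (tt N35536 (iv5 D125441)) (tt N79876 (iv6 F258684)) (tt N79581 (iv7 F339264)))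
theorem Q65441 : ∀ i, i < 65441 → P i := stepQ 65440 Q65440 (allL N65440 (tt N64138 (iv1 F254364)) (tt N35537 (iv0 D125444)) (tt N45894 (iv2 F254392)) (tt N48361 F201727) (tt N48330 F201726) (tt N45892 (iv5 F254403)) (tt N90506 (iv6 F389875)) (tt N47108 F330709))
theorem Q65442 : ∀ i, i < 65442 → P i := stepQ 65441 Q65441 (allL N65441 (tt N45894 F254061) (tt N47108 F330704) (tt N35537 (iv2 D125446)) (tt N75214 (iv3 F344725)) (tt N80579 (iv4 F268477)) (tt N64257 (iv5 F254062)) (tt N75213 (iv6 F358635)) (tt N64138 (iv7 F254352)))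
theorem Q65443 : ∀ i, i < 65443 → P i := stepQ 65442 Q65442 (allL N65442 (tt N48403 (iv1 F254414)) (tt N48401 (iv0 F201728)) (tt N80579 F268478) (tt N96380 (iv3 F412310)) (tt N35537 (iv4 D125447)) (tt N54064 F354677) (tt N58142 (iv6 F349856)) (tt N79235 F254462))
theorem Q65444 : ∀ i, i < 65444 → P i := stepQ 65443 Q65443 (allL N65443 (tt N97630 F417687) (tt N89724 (iv0 F387320)) (tt N75213 F358636) (tt N35539 F201730) (tt N58142 F349852) (tt N45440 F347988) (tt N35537 (iv6 D125449)) (tt N101904 D205077))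
theorem Q65445 : ∀ i, i < 65445 → P i := stepQ 65444 Q65444 (allL N65444 (tt N101899 (iv1 F434866)) (tt N101898 F434865) (tt N79233 (iv2 F254451)) (tt N96383 (iv3 F412314)) (tt N101905 D205078) (tt N35538 (iv5 D125451)) (tt N101906 D205079) (tt N79238 F254450))
theorem Q65446 : ∀ i, i < 65446 → P i := stepQ 65445 Q65445 (allL N65445 (tt N35539 (iv1 D125456)) (tt N75215 F339251) (tt N48349 F339252) (tt N48385 F345364) (tt N59343 (iv4 F347816)) (tt N62529 F339254) (tt N76727 F339255) (tt N59537 F339256))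
theorem Q65447 : ∀ i, i < 65447 → P i := stepQ 65446 Q65446 (allL N65446 (tt N61366 F352158) (tt N62538 (iv0 F336517)) (tt N43268 F336473) (tt N45440 F347987) (tt N43199 F336474) (tt N35539 (iv5 D125457)) (tt N79882 (iv6 F258692)) (tt N43265 F336475))
theorem Q65448 : ∀ i, i < 65448 → P i := stepQ 65447 Q65447 (allL N65447 (tt N48349 (iv1 F336505)) (tt N59537 F336502) (tt N75215 (iv2 F339248)) (tt N101904 (iv3 F434890)) (tt N96366 (iv4 F412257)) (tt N43265 F341252) (tt N64104 F341253) (tt N35539 (iv7 D125458)))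
theorem Q65449 : ∀ i, i < 65449 → P i := stepQ 65448 Q65448 (allL N65448 (tt N101907 D205080) (tt N101908 D205081) (tt N83073 F352688) (tt N35540 (iv3 D125459)) (tt N54222 (iv4 F352691)) (tt N39356 F201732) (tt N51464 (iv6 F352684)) (tt N69537 (iv7 F214691)))
theorem Q65450 : ∀ i, i < 65450 → P i := stepQ 65449 Q65449 (allL N65449 (tt N39278 F201735) (tt N39279 F201736) (tt N57517 F201733) (tt N51464 F352676) (tt N35541 F201734) (tt N51463 (iv5 F335570)) (tt N35540 (iv6 D125460)) (tt N78090 (iv7 F245934)))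
theorem Q65451 : ∀ i, i < 65451 → P i := stepQ 65450 Q65450 (allL N65450 (tt N57518 (iv1 F201744)) (tt N35541 (iv0 D125461)) (tt N54494 (iv2 F328175)) (tt N38438 F201740) (tt N53396 (iv4 F328170)) (tt N57321 F201737) (tt N36032 F201741) (tt N53977 (iv7 F328169)))
theorem Q65452 : ∀ i, i < 65452 → P i := stepQ 65451 Q65451 (allL N65451 (tt N53977 (iv1 F328165)) (tt N54494 (iv0 F328173)) (tt N57518 F201745) (tt N59019 F201746) (tt N78090 (iv4 F245931)) (tt N59006 F201747) (tt N70215 (iv6 F216997)) (tt N35541 (iv7 D125462)))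
theorem Q65453 : ∀ i, i < 65453 → P i := stepQ 65452 Q65452 (allL N65452 (tt N101909 D205082) (tt N101910 D205083) (tt N101911 D205084) (tt N35542 (iv3 D125463)) (tt N57502 F201750) (tt N39358 F201751) (tt N101912 D205085) (tt N57516 F201752))
theorem Q65454 : ∀ i, i < 65454 → P i := stepQ 65453 Q65453 (allL N65453 (tt N39285 (iv1 F201757)) (tt N38978 (iv0 F201755)) (tt N39434 F201753) (tt N101912 (iv3 F434918)) (tt N35543 F201754) (tt N101913 D205086) (tt N35542 (iv6 D125464)) (tt N39435 (iv7 F201756)))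
theorem Q65455 : ∀ i, i < 65455 → P i := stepQ 65454 Q65454 (allL N65454 (tt N57563 (iv1 F201761)) (tt N35544 (iv0 D125465)) (tt N57561 (iv2 F201760)) (tt N58970 F201758) (tt N70846 (iv4 F218578)) (tt N101914 D205087) (tt N39745 F201759) (tt N57562 F201762))
theorem Q65456 : ∀ i, i < 65456 → P i := stepQ 65455 Q65455 (allL N65455 (tt N70223 (iv1 F217031)) (tt N35545 (iv0 D125466)) (tt N70222 F217023) (tt N35551 (iv3 F201766)) (tt N61904 F201763) (tt N59111 (iv5 F201765)) (tt N97967 (iv6 F419005)) (tt N41192 (iv7 F201764)))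
theorem Q65457 : ∀ i, i < 65457 → P i := stepQ 65456 Q65456 (allL N65456 (tt N41192 (iv1 F201778)) (tt N70222 F217025) (tt N70223 (iv2 F217026)) (tt N36061 F201774) (tt N39339 F201775) (tt N36027 F201776) (tt N57563 F201777) (tt N35545 (iv7 D125468)))
theorem Q65458 : ∀ i, i < 65458 → P i := stepQ 65457 Q65457 (allL N65457 (tt N71161 (iv1 F219575)) (tt N35546 (iv0 D125469)) (tt N71160 (iv2 F400780)) (tt N101412 F432898) (tt N93450 F400781) (tt N101915 D205088) (tt N101916 D205089) (tt N71159 F400782))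
theorem Q65459 : ∀ i, i < 65459 → P i := stepQ 65458 Q65458 (allL N65458 (tt N35546 (iv1 D125470)) (tt N71161 F219576) (tt N71159 F400779) (tt N101917 D205090) (tt N93453 F400777) (tt N76719 (iv5 F412018)) (tt N101918 D205091) (tt N71160 (iv7 F400778)))
theorem Q65460 : ∀ i, i < 65460 → P i := stepQ 65459 Q65459 (allL N65459 (tt N71160 F219572) (tt N71159 F219570) (tt N35546 (iv2 D125471)) (tt N71165 (iv3 F219583)) (tt N35562 F201779) (tt N101919 D205092) (tt N58899 F201780) (tt N71161 (iv7 F219574)))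
theorem Q65461 : ∀ i, i < 65461 → P i := stepQ 65460 Q65460 (allL N65460 (tt N101409 F432879) (tt N101920 D205093) (tt N101919 (iv2 F434945)) (tt N35547 F201781) (tt N101921 D205094) (tt N35546 (iv5 D125472)) (tt N101922 D205095) (tt N71132 (iv7 F219505)))
theorem Q65462 : ∀ i, i < 65462 → P i := stepQ 65461 Q65461 (allL N65461 (tt N96122 F411146) (tt N101923 D205096) (tt N71134 (iv2 F219508)) (tt N101922 (iv3 F434953)) (tt N68854 (iv4 F211731)) (tt N58901 F201782) (tt N35547 (iv6 D125473)) (tt N101924 D205097))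
theorem Q65463 : ∀ i, i < 65463 → P i := stepQ 65462 Q65462 (allL N65462 (tt N36028 (iv1 F201785)) (tt N35548 (iv0 D125474)) (tt N39839 (iv2 F202572)) (tt N41076 F201783) (tt N39208 F201784) (tt N74553 (iv5 F228349)) (tt N101925 D205098) (tt N39835 (iv7 F202575)))
theorem Q65464 : ∀ i, i < 65464 → P i := stepQ 65463 Q65463 (allL N65463 (tt N59058 (iv1 F201786)) (tt N35549 (iv0 D125475)) (tt N59057 (iv2 F409336)) (tt N95728 (iv3 F409342)) (tt N101926 D205099) (tt N95727 (iv5 F409334)) (tt N93931 F409335) (tt N59056 (iv7 F409339)))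
theorem Q65465 : ∀ i, i < 65465 → P i := stepQ 65464 Q65464 (allL N65464 (tt N35549 (iv1 D125476)) (tt N59058 F201791) (tt N59056 F409340) (tt N101927 D205100) (tt N97172 (iv4 F415748)) (tt N96022 (iv5 F410680)) (tt N101928 D205101) (tt N59057 F409338))
theorem Q65466 : ∀ i, i < 65466 → P i := stepQ 65465 Q65465 (allL N65465 (tt N59057 (iv1 F201792)) (tt N59056 F201790) (tt N35549 (iv2 D125477)) (tt N57648 F201787) (tt N60218 F201788) (tt N67456 (iv5 F207275)) (tt N93919 (iv6 F407860)) (tt N59058 F201789))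
theorem Q65467 : ∀ i, i < 65467 → P i := stepQ 65466 Q65466 (allL N65466 (tt N93921 (iv1 F402437)) (tt N59101 (iv0 F390651)) (tt N93919 F407857) (tt N35550 F201793) (tt N60219 F201794) (tt N101929 D205102) (tt N35549 (iv6 D125478)) (tt N93536 (iv7 F401072)))
theorem Q65468 : ∀ i, i < 65468 → P i := stepQ 65467 Q65467 (allL N65467 (tt N93675 (iv1 F401528)) (tt N101930 D205103) (tt N57652 F201795) (tt N101929 (iv3 F434979)) (tt N101931 D205104) (tt N35550 (iv5 D125479)) (tt N93472 (iv6 F400825)) (tt N93537 (iv7 F401075)))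
theorem Q65469 : ∀ i, i < 65469 → P i := stepQ 65468 Q65468 (allL N65468 (tt N56847 F201800) (tt N35559 F201799) (tt N41190 F201796) (tt N101932 D205105) (tt N35551 (iv4 D125480)) (tt N56927 F201798) (tt N96176 F411350) (tt N41193 F201797))
theorem Q65470 : ∀ i, i < 65470 → P i := stepQ 65469 Q65469 (allL N65469 (tt N36238 F201804) (tt N37729 (iv0 F201805)) (tt N41191 F201801) (tt N97967 (iv3 F419003)) (tt N96176 (iv4 F411349)) (tt N37841 F201802) (tt N35551 (iv6 D125481)) (tt N36179 F201803))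
theorem Q65471 : ∀ i, i < 65471 → P i := stepQ 65470 Q65470 (allL N65470 (tt N35559 F201809) (tt N56847 F201810) (tt N41193 F201806) (tt N89381 (iv3 F386295)) (tt N35552 (iv4 D125482)) (tt N56928 (iv5 F201811)) (tt N36176 F201807) (tt N41190 F201808))
theorem Q65472 : ∀ i, i < 65472 → P i := stepQ 65471 Q65471 (allL N65471 (tt N56842 (iv1 F201813)) (tt N35554 (iv0 D125483)) (tt N56841 F214172) (tt N39993 F201812) (tt N94457 (iv4 F404547)) (tt N78445 (iv5 F351103)) (tt N73082 F351102) (tt N56840 (iv7 F214171)))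
theorem Q65473 : ∀ i, i < 65473 → P i := stepQ 65472 Q65472 (allL N65472 (tt N35554 (iv1 D125484)) (tt N56842 F201818) (tt N56840 (iv2 F214173)) (tt N89770 (iv3 F387501)) (tt N94311 (iv4 F404000)) (tt N45993 F344465) (tt N56369 (iv6 F345396)) (tt N56841 F214174))
theorem Q65474 : ∀ i, i < 65474 → P i := stepQ 65473 Q65473 (allL N65473 (tt N101933 D205106) (tt N101934 D205107) (tt N95726 (iv2 F409324)) (tt N35556 F201822) (tt N57598 F201823) (tt N95705 (iv5 F409221)) (tt N35554 (iv6 D125487)) (tt N97575 (iv7 F417434)))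
theorem Q65475 : ∀ i, i < 65475 → P i := stepQ 65474 Q65474 (allL N65474 (tt N57180 F201827) (tt N74565 F228362) (tt N56833 F201826) (tt N95705 (iv3 F409219)) (tt N101935 D205108) (tt N35556 (iv5 D125489)) (tt N95704 (iv6 F409214)) (tt N74563 F228360))
theorem Q65476 : ∀ i, i < 65476 → P i := stepQ 65475 Q65475 (allL N65475 (tt N85656 (iv1 F373421)) (tt N93271 (iv0 F400236)) (tt N58348 F362344) (tt N35559 F201837) (tt N44239 F201838) (tt N56788 (iv5 F362343)) (tt N35557 (iv6 D125494)) (tt N99475 (iv7 F424747)))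
theorem Q65477 : ∀ i, i < 65477 → P i := stepQ 65476 Q65476 (allL N65476 (tt N57205 F201842) (tt N57202 F201843) (tt N56846 F201841) (tt N56788 F345194) (tt N50120 (iv4 F345193)) (tt N35559 (iv5 D125496)) (tt N56787 F356665) (tt N50373 F345195))
theorem Q65478 : ∀ i, i < 65478 → P i := stepQ 65477 Q65477 (allL N65477 (tt N41193 (iv1 F201847)) (tt N41190 F201848) (tt N56847 F201844) (tt N99475 F424749) (tt N44234 F201845) (tt N50373 F339955) (tt N56834 F201846) (tt N35559 (iv7 D125497)))
theorem Q65479 : ∀ i, i < 65479 → P i := stepQ 65478 Q65478 (allL N65478 (tt N35561 (iv1 F201852)) (tt N35560 (iv0 D125498)) (tt N35564 (iv2 F201849)) (tt N59077 F201850) (tt N71161 (iv4 F219573)) (tt N101936 D205109) (tt N96156 (iv6 F411272)) (tt N35562 F201851))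
theorem Q65480 : ∀ i, i < 65480 → P i := stepQ 65479 Q65479 (allL N65479 (tt N35564 F219720) (tt N35562 F219721) (tt N35560 (iv2 D125499)) (tt N78180 F246675) (tt N39342 F219722) (tt N101937 D205110) (tt N101938 D205111) (tt N35561 (iv7 F201853)))
theorem Q65481 : ∀ i, i < 65481 → P i := stepQ 65480 Q65480 (allL N65480 (tt N96724 (iv1 F413615)) (tt N101939 D205112) (tt N82179 (iv2 F366486)) (tt N35560 (iv3 D125500)) (tt N82178 F366485) (tt N96353 F412200) (tt N101940 D205113) (tt N97361 (iv7 F416501)))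
theorem Q65482 : ∀ i, i < 65482 → P i := stepQ 65481 Q65481 (allL N65481 (tt N101941 D205114) (tt N101942 D205115) (tt N39342 F219723) (tt N101943 D205116) (tt N35560 (iv4 D125501)) (tt N101944 D205117) (tt N90955 (iv6 F473671)) (tt N101945 D205119))
theorem Q65483 : ∀ i, i < 65483 → P i := stepQ 65482 Q65482 (allL N65482 (tt N101946 D205120) (tt N67315 (iv0 F414595)) (tt N101937 (iv2 F435013)) (tt N96353 (iv3 F412197)) (tt N91947 F395083) (tt N35560 (iv5 D125502)) (tt N96351 F412190) (tt N91998 (iv7 F395308)))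
theorem Q65484 : ∀ i, i < 65484 → P i := stepQ 65483 Q65483 (allL N65483 (tt N101947 D205121) (tt N94118 (iv0 F473667)) (tt N101938 (iv2 F435018)) (tt N101940 (iv3 F435026)) (tt N90955 (iv4 F473670)) (tt N101948 D205123) (tt N35560 (iv6 D125503)) (tt N101949 D205124))
theorem Q65485 : ∀ i, i < 65485 → P i := stepQ 65484 Q65484 (allL N65484 (tt N35562 F219724) (tt N35564 F219725) (tt N35561 F201854) (tt N97361 (iv3 F416504)) (tt N101945 (iv4 F435052)) (tt N91998 F395309) (tt N101950 D205125) (tt N35560 (iv7 D125504)))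
theorem Q65486 : ∀ i, i < 65486 → P i := stepQ 65485 Q65485 (allL N65485 (tt N39991 (iv1 F219751)) (tt N39993 F219752) (tt N36620 (iv2 F314327)) (tt N35561 (iv3 D125505)) (tt N36414 F312154) (tt N101951 D205126) (tt N36415 F312155) (tt N78180 (iv7 F246672)))
theorem Q65487 : ∀ i, i < 65487 → P i := stepQ 65486 Q65486 (allL N65486 (tt N101942 (iv1 F435034)) (tt N101941 (iv0 F435030)) (tt N101945 (iv2 F435050)) (tt N39346 F219718) (tt N35561 (iv4 D125506)) (tt N101952 D205127) (tt N78811 F312158) (tt N39342 F219719))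
theorem Q65488 : ∀ i, i < 65488 → P i := stepQ 65487 Q65487 (allL N65487 (tt N67315 F414314) (tt N101946 F435059) (tt N91998 (iv2 F395310)) (tt N101951 (iv3 F435066)) (tt N73682 F395311) (tt N35561 (iv5 D125507)) (tt N73690 (iv6 F395312)) (tt N101937 (iv7 F435015)))
theorem Q65489 : ∀ i, i < 65489 → P i := stepQ 65488 Q65488 (allL N65488 (tt N101932 F434994) (tt N101953 D205128) (tt N101950 (iv2 F435062)) (tt N36415 F366756) (tt N78811 F366757) (tt N77124 F366758) (tt N35561 (iv6 D125508)) (tt N101954 D205129))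
theorem Q65490 : ∀ i, i < 65490 → P i := stepQ 65489 Q65489 (allL N65489 (tt N101955 D205130) (tt N101956 D205131) (tt N35563 F201859) (tt N59088 F201860) (tt N101957 D205132) (tt N35562 (iv5 D125511)) (tt N96107 (iv6 F411087)) (tt N101936 (iv7 F435010)))
theorem Q65491 : ∀ i, i < 65491 → P i := stepQ 65490 Q65490 (allL N65490 (tt N101936 (iv1 F435012)) (tt N35563 (iv0 D125512)) (tt N101955 (iv2 F435083)) (tt N101958 D205133) (tt N91186 F435085) (tt N74229 F435084) (tt N91185 (iv6 F435086)) (tt N101956 (iv7 F435088)))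
theorem Q65492 : ∀ i, i < 65492 → P i := stepQ 65491 Q65491 (allL N65491 (tt N35563 (iv1 D125513)) (tt N101936 F435011) (tt N101956 (iv2 F435090)) (tt N101540 (iv3 F433311)) (tt N101959 D205134) (tt N74230 F433312) (tt N101537 F433313) (tt N101955 F435082))
theorem Q65493 : ∀ i, i < 65493 → P i := stepQ 65492 Q65492 (allL N65492 (tt N101960 D205135) (tt N101961 D205136) (tt N101957 (iv2 F435092)) (tt N80792 (iv3 F361576)) (tt N35563 (iv4 D125514)) (tt N86847 (iv5 F377413)) (tt N58601 F361568) (tt N101962 D205137))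
theorem Q65494 : ∀ i, i < 65494 → P i := stepQ 65493 Q65493 (allL N65493 (tt N101956 (iv1 F435087)) (tt N101955 F435080) (tt N101936 (iv2 F435008)) (tt N35568 F201861) (tt N101962 (iv4 F435100)) (tt N35564 F201862) (tt N93844 (iv6 F402118)) (tt N35563 (iv7 D125515)))
theorem Q65495 : ∀ i, i < 65495 → P i := stepQ 65494 Q65494 (allL N65494 (tt N96408 F412387) (tt N96483 F412706) (tt N58039 F337398) (tt N35566 (iv3 D125518)) (tt N57881 (iv4 F337397)) (tt N44205 F201867) (tt N57880 F337400) (tt N56805 F201868))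
theorem Q65496 : ∀ i, i < 65496 → P i := stepQ 65495 Q65495 (allL N65495 (tt N101534 (iv1 F433273)) (tt N82498 (iv0 F364143)) (tt N56822 F201869) (tt N57880 (iv3 F364141)) (tt N56807 F201870) (tt N101963 D205138) (tt N35566 (iv6 D125519)) (tt N58034 F364142))
theorem Q65497 : ∀ i, i < 65497 → P i := stepQ 65496 Q65496 (allL N65496 (tt N101964 D205139) (tt N82406 (iv0 F364146)) (tt N81034 F346354) (tt N35567 (iv3 D125520)) (tt N80792 (iv4 F346355)) (tt N56366 F201871) (tt N80791 (iv6 F346356)) (tt N56365 F201872))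
theorem Q65498 : ∀ i, i < 65498 → P i := stepQ 65497 Q65497 (allL N65497 (tt N58838 F201877) (tt N58841 (iv0 F201876)) (tt N35611 F201873) (tt N96979 (iv3 F414897)) (tt N35598 F201874) (tt N65530 (iv5 F361377)) (tt N35570 (iv6 D125521)) (tt N60512 F201875))
theorem Q65499 : ∀ i, i < 65499 → P i := stepQ 65498 Q65498 (allL N65498 (tt N35645 (iv1 F201878)) (tt N35571 (iv0 D125522)) (tt N35644 (iv2 F201881)) (tt N101965 D205140) (tt N95393 (iv4 F408093)) (tt N58138 (iv5 F349546)) (tt N58140 F349549) (tt N35643 (iv7 F201883)))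
theorem Q65500 : ∀ i, i < 65500 → P i := stepQ 65499 Q65499 (allL N65499 (tt N35571 (iv1 D125523)) (tt N35645 F201884) (tt N35643 F201882) (tt N65125 F358202) (tt N59809 (iv4 F201879)) (tt N65707 F349557) (tt N60766 (iv6 F358214)) (tt N35644 F201880))
theorem Q65501 : ∀ i, i < 65501 → P i := stepQ 65500 Q65500 (allL N65500 (tt N35644 (iv1 F201888)) (tt N35643 F201887) (tt N35571 (iv2 D125524)) (tt N35617 F201885) (tt N92530 F397268) (tt N101966 D205141) (tt N85674 (iv6 F373481)) (tt N35645 F201886))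
theorem Q65502 : ∀ i, i < 65502 → P i := stepQ 65501 Q65501 (allL N65501 (tt N65813 (iv1 F356062)) (tt N101967 D205142) (tt N101966 (iv2 F435119)) (tt N35572 F201889) (tt N101968 D205143) (tt N35571 (iv5 D125525)) (tt N65793 (iv6 F349551)) (tt N35646 F201890))
theorem Q65503 : ∀ i, i < 65503 → P i := stepQ 65502 Q65502 (allL N65502 (tt N85675 (iv1 F373488)) (tt N45818 F365832) (tt N85674 F373479) (tt N35573 F201891) (tt N96802 (iv4 F414022)) (tt N83601 F347544) (tt N35571 (iv6 D125526)) (tt N85673 F373471))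
theorem Q65504 : ∀ i, i < 65504 → P i := stepQ 65503 Q65503 (allL N65503 (tt N101969 D205144) (tt N101970 D205145) (tt N35621 F201892) (tt N65793 F349552) (tt N60411 F201893) (tt N68664 (iv5 F342980)) (tt N35572 (iv6 D125527)) (tt N101971 D205146))
theorem Q65505 : ∀ i, i < 65505 → P i := stepQ 65504 Q65504 (allL N65504 (tt N35625 (iv1 F201896)) (tt N35573 (iv0 D125528)) (tt N35622 (iv2 F201895)) (tt N82387 (iv3 F334360)) (tt N35601 F201894) (tt N56528 (iv5 F332827)) (tt N55628 F201898) (tt N35623 F201897))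
theorem Q65506 : ∀ i, i < 65506 → P i := stepQ 65505 Q65505 (allL N65505 (tt N60575 F201900) (tt N60578 F201901) (tt N35624 F201899) (tt N83601 (iv3 F347542)) (tt N60934 (iv4 F332867)) (tt N35573 (iv5 D125529)) (tt N68664 (iv6 F342981)) (tt N97007 (iv7 F415001)))
theorem Q65507 : ∀ i, i < 65507 → P i := stepQ 65506 Q65506 (allL N65506 (tt N35617 (iv1 F201903)) (tt N35574 (iv0 D125530)) (tt N35616 F203762) (tt N58003 F201902) (tt N101972 D205147) (tt N65666 F360423) (tt N101973 D205148) (tt N35615 F203763))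
theorem Q65508 : ∀ i, i < 65508 → P i := stepQ 65507 Q65507 (allL N65507 (tt N35574 (iv1 D125531)) (tt N35617 F201908) (tt N35615 F203764) (tt N101974 D205149) (tt N59426 (iv4 F201904)) (tt N65667 (iv5 F360426)) (tt N65762 (iv6 F360410)) (tt N35616 F203765))
theorem Q65509 : ∀ i, i < 65509 → P i := stepQ 65508 Q65508 (allL N65508 (tt N35616 (iv1 F201909)) (tt N35615 F201907) (tt N35574 (iv2 D125532)) (tt N35645 F201905) (tt N95932 (iv4 F410324)) (tt N101975 D205150) (tt N101976 D205151) (tt N35617 F201906))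
theorem Q65510 : ∀ i, i < 65510 → P i := stepQ 65509 Q65509 (allL N65509 (tt N94790 (iv1 F405961)) (tt N96649 (iv0 F413329)) (tt N101975 (iv2 F435172)) (tt N35575 F201910) (tt N95045 (iv4 F406795)) (tt N35574 (iv5 D125533)) (tt N101977 D205152) (tt N35618 F201911))
theorem Q65511 : ∀ i, i < 65511 → P i := stepQ 65510 Q65510 (allL N65510 (tt N100798 (iv1 F430521)) (tt N60708 (iv0 F360413)) (tt N101976 (iv2 F435177)) (tt N35576 F201912) (tt N76196 (iv4 F362486)) (tt N82020 (iv5 F356071)) (tt N35574 (iv6 D125534)) (tt N97115 (iv7 F415507)))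
theorem Q65512 : ∀ i, i < 65512 → P i := stepQ 65511 Q65511 (allL N65511 (tt N55615 F395484) (tt N101978 D205153) (tt N35648 F201913) (tt N101977 (iv3 F435183)) (tt N57957 F201914) (tt N96745 F413745) (tt N35575 (iv6 D125535)) (tt N101979 D205154))
theorem Q65513 : ∀ i, i < 65513 → P i := stepQ 65512 Q65512 (allL N65512 (tt N35652 (iv1 F201917)) (tt N35576 (iv0 D125536)) (tt N35649 (iv2 F201916)) (tt N101980 D205155) (tt N35641 F201915) (tt N101981 D205156) (tt N60045 (iv6 F201919)) (tt N35650 F201918))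
theorem Q65514 : ∀ i, i < 65514 → P i := stepQ 65513 Q65513 (allL N65513 (tt N101980 F435201) (tt N80727 (iv0 F345730)) (tt N35651 F201920) (tt N82020 F356070) (tt N91962 (iv4 F395146)) (tt N35576 (iv5 D125537)) (tt N96745 (iv6 F413743)) (tt N97116 (iv7 F415513)))
theorem Q65515 : ∀ i, i < 65515 → P i := stepQ 65514 Q65514 (allL N65514 (tt N35684 (iv1 F201921)) (tt N35578 (iv0 D125538)) (tt N35683 (iv2 F201925)) (tt N101982 D205157) (tt N67151 (iv4 F349583)) (tt N65813 F349577) (tt N101983 D205158) (tt N35682 (iv7 F201927)))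
theorem Q65516 : ∀ i, i < 65516 → P i := stepQ 65515 Q65515 (allL N65515 (tt N35578 (iv1 D125539)) (tt N35684 F201928) (tt N35682 F201926) (tt N35787 (iv3 F201922)) (tt N59908 (iv4 F201923)) (tt N101967 (iv5 F435127)) (tt N55649 (iv6 F358188)) (tt N35683 F201924))
theorem Q65517 : ∀ i, i < 65517 → P i := stepQ 65516 Q65516 (allL N65516 (tt N35683 (iv1 F201932)) (tt N35682 F201931) (tt N35578 (iv2 D125540)) (tt N35660 F201929) (tt N71029 (iv4 F219309)) (tt N93110 (iv5 F399519)) (tt N101984 D205159) (tt N35684 F201930))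
theorem Q65518 : ∀ i, i < 65518 → P i := stepQ 65517 Q65517 (allL N65517 (tt N65631 F349574) (tt N35702 F349575) (tt N93110 (iv2 F399518)) (tt N35579 F201933) (tt N56418 F349576) (tt N35578 (iv5 D125541)) (tt N101985 D205160) (tt N35685 F201934))
theorem Q65519 : ∀ i, i < 65519 → P i := stepQ 65518 Q65518 (allL N65518 (tt N82537 (iv1 F358242)) (tt N47758 F358189) (tt N101984 (iv2 F435220)) (tt N35580 F201935) (tt N71030 (iv4 F219316)) (tt N101986 D205161) (tt N35578 (iv6 D125542)) (tt N86959 (iv7 F377857)))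
theorem Q65520 : ∀ i, i < 65520 → P i := stepQ 65519 Q65519 (allL N65519 (tt N93028 (iv1 F399168)) (tt N101987 D205162) (tt N35665 F201936) (tt N101985 (iv3 F435225)) (tt N60419 F201937) (tt N101988 D205163) (tt N35579 (iv6 D125543)) (tt N101989 D205164))
theorem Q65521 : ∀ i, i < 65521 → P i := stepQ 65520 Q65520 (allL N65520 (tt N35669 (iv1 F201940)) (tt N35580 (iv0 D125544)) (tt N35666 (iv2 F201939)) (tt N47762 F341722) (tt N55609 F201938) (tt N101990 D205165) (tt N55647 F201942) (tt N35667 F201941))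
theorem Q65522 : ∀ i, i < 65522 → P i := stepQ 65521 Q65521 (allL N65521 (tt N56979 F201944) (tt N97045 F415201) (tt N35668 F201943) (tt N101986 (iv3 F435227)) (tt N101991 D205166) (tt N35580 (iv5 D125545)) (tt N101988 (iv6 F435240)) (tt N93957 (iv7 F402590)))
theorem Q65523 : ∀ i, i < 65523 → P i := stepQ 65522 Q65522 (allL N65522 (tt N37700 F342982) (tt N93029 F399173) (tt N35687 F201945) (tt N92753 (iv3 F398075)) (tt N58138 F201946) (tt N92752 F398074) (tt N35582 (iv6 D125546)) (tt N93027 (iv7 F399164)))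
theorem Q65524 : ∀ i, i < 65524 → P i := stepQ 65523 Q65523 (allL N65523 (tt N35691 (iv1 F201957)) (tt N35583 (iv0 D125547)) (tt N35688 (iv2 F201948)) (tt N74378 (iv3 F364819)) (tt N55610 F201947) (tt N60714 (iv5 F201950)) (tt N101992 D205167) (tt N35689 (iv7 F201949)))
theorem Q65525 : ∀ i, i < 65525 → P i := stepQ 65524 Q65524 (allL N65524 (tt N35689 (iv1 F201962)) (tt N35688 F201963) (tt N35691 F201959) (tt N96652 (iv3 F413336)) (tt N35585 F201960) (tt N37741 F332765) (tt N35669 F201961) (tt N35583 (iv7 D125550)))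
theorem Q65526 : ∀ i, i < 65526 → P i := stepQ 65525 Q65525 (allL N65525 (tt N35587 (iv1 F201968)) (tt N35586 (iv0 D125551)) (tt N35590 (iv2 F201964)) (tt N35713 F201965) (tt N56218 F201966) (tt N65802 (iv5 F202398)) (tt N36796 F343589) (tt N35588 F201967))
theorem Q65527 : ∀ i, i < 65527 → P i := stepQ 65526 Q65526 (allL N65526 (tt N35590 F342901) (tt N35588 F342902) (tt N35586 (iv2 D125552)) (tt N101993 D205168) (tt N55664 F342903) (tt N65571 F361379) (tt N60597 (iv6 F361373)) (tt N35587 (iv7 F201969)))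
theorem Q65528 : ∀ i, i < 65528 → P i := stepQ 65527 Q65527 (allL N65527 (tt N97434 (iv1 F416895)) (tt N96635 (iv0 F413272)) (tt N97368 (iv2 F416539)) (tt N35586 (iv3 D125553)) (tt N65837 F202629) (tt N101994 D205169) (tt N101995 D205170) (tt N97370 (iv7 F416562)))
theorem Q65529 : ∀ i, i < 65529 → P i := stepQ 65528 Q65528 (allL N65528 (tt N67395 F362949) (tt N60583 (iv0 F201970)) (tt N55664 (iv2 F342905)) (tt N101996 D205171) (tt N35586 (iv4 D125554)) (tt N101997 D205172) (tt N101998 D205173) (tt N101999 D205174))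
theorem Q65530 : ∀ i, i < 65530 → P i := stepQ 65529 Q65529 (allL N65529 (tt N102000 D205175) (tt N65558 F361387) (tt N65571 F361383) (tt N101994 (iv3 F435272)) (tt N65578 F361384) (tt N35586 (iv5 D125555)) (tt N35664 F361385) (tt N102001 D205176))
theorem Q65531 : ∀ i, i < 65531 → P i := stepQ 65530 Q65530 (allL N65530 (tt N47756 F361374) (tt N55652 F361375) (tt N60597 F361376) (tt N101995 (iv3 F435276)) (tt N101998 (iv4 F435293)) (tt N65497 F361377) (tt N35586 (iv6 D125556)) (tt N60598 F361378))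
theorem Q65532 : ∀ i, i < 65532 → P i := stepQ 65531 Q65531 (allL N65531 (tt N35588 F342907) (tt N35590 F342908) (tt N35587 F201971) (tt N97370 (iv3 F416564)) (tt N101999 (iv4 F435299)) (tt N102001 (iv5 F435309)) (tt N52363 (iv6 F361389)) (tt N35586 (iv7 D125557)))
theorem Q65533 : ∀ i, i < 65533 → P i := stepQ 65532 Q65532 (allL N65532 (tt N102002 D205177) (tt N92532 (iv0 F397274)) (tt N102003 D205178) (tt N35587 (iv3 D125558)) (tt N68090 (iv4 F349587)) (tt N101987 F435236) (tt N88470 (iv6 F383181)) (tt N101993 (iv7 F435269)))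
theorem Q65534 : ∀ i, i < 65534 → P i := stepQ 65533 Q65533 (allL N65533 (tt N60583 (iv1 F342906)) (tt N67395 (iv0 F362952)) (tt N101999 (iv2 F435297)) (tt N55667 (iv3 F342898)) (tt N35587 (iv4 D125559)) (tt N68628 F342899) (tt N93088 (iv6 F399429)) (tt N55664 F342900))
theorem Q65535 : ∀ i, i < 65535 → P i := stepQ 65534 Q65534 (allL N65534 (tt N65558 (iv1 F348403)) (tt N102000 (iv0 F435307)) (tt N102001 (iv2 F435308)) (tt N101987 (iv3 F435237)) (tt N102004 D205179) (tt N35587 (iv5 D125560)) (tt N102004 F435323) (tt N65571 (iv7 F361386)))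
theorem Q65536 : ∀ i, i < 65536 → P i := stepQ 65535 Q65535 (allL N65535 (tt N52364 F361396) (tt N48405 F361397) (tt N52363 F361398) (tt N88470 (iv3 F383183)) (tt N93088 F399431) (tt N102005 D205180) (tt N35587 (iv6 D125561)) (tt N52362 F361399))
theorem Q65537 : ∀ i, i < 65537 → P i := stepQ 65536 Q65536 (allL N65536 (tt N65801 (iv1 F202401)) (tt N65800 F202396) (tt N35589 F201976) (tt N35720 F201977) (tt N102006 D205181) (tt N35588 (iv5 D125564)) (tt N97469 (iv6 F416984)) (tt N65802 (iv7 F202399)))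
theorem Q65538 : ∀ i, i < 65538 → P i := stepQ 65537 Q65537 (allL N65537 (tt N65802 (iv1 F202400)) (tt N35589 (iv0 D125565)) (tt N65801 (iv2 F405921)) (tt N102007 D205182) (tt N102008 D205183) (tt N94781 (iv5 F405907)) (tt N65601 F405908) (tt N65800 F405927))
theorem Q65539 : ∀ i, i < 65539 → P i := stepQ 65538 Q65538 (allL N65538 (tt N35589 (iv1 D125566)) (tt N65802 F202402) (tt N65800 F405926) (tt N102009 D205184) (tt N102010 D205185) (tt N94782 F405916) (tt N102009 (iv6 F435605)) (tt N65801 (iv7 F405925)))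
theorem Q65540 : ∀ i, i < 65540 → P i := stepQ 65539 Q65539 (allL N65539 (tt N97476 F417006) (tt N102011 D205187) (tt N102006 (iv2 F435328)) (tt N65782 (iv3 F202381)) (tt N35589 (iv4 D125567)) (tt N97743 F418127) (tt N35733 F398107) (tt N65779 F202377))
theorem Q65541 : ∀ i, i < 65541 → P i := stepQ 65540 Q65540 (allL N65540 (tt N97472 (iv1 F417001)) (tt N65599 (iv0 F361388)) (tt N97469 F416985) (tt N35591 F201978) (tt N35733 F398108) (tt N56233 F201979) (tt N35589 (iv6 D125568)) (tt N97470 (iv7 F416990)))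
theorem Q65542 : ∀ i, i < 65542 → P i := stepQ 65541 Q65541 (allL N65541 (tt N35735 (iv1 F201986)) (tt N35591 (iv0 D125570)) (tt N35733 F399526) (tt N102012 D205188) (tt N97469 (iv4 F416989)) (tt N102013 D205189) (tt N102006 (iv6 F435330)) (tt N35734 F399527))
theorem Q65543 : ∀ i, i < 65543 → P i := stepQ 65542 Q65542 (allL N65542 (tt N35591 (iv1 D125571)) (tt N35735 F201983) (tt N35734 F399523) (tt N102014 D205190) (tt N97470 (iv4 F416991)) (tt N102015 D205191) (tt N65637 F399524) (tt N35733 F399525))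
theorem Q65544 : ∀ i, i < 65544 → P i := stepQ 65543 Q65543 (allL N65543 (tt N35734 (iv1 F201987)) (tt N35733 F201988) (tt N35735 F201984) (tt N97470 (iv3 F416994)) (tt N65814 (iv4 F202410)) (tt N56236 F201985) (tt N65807 (iv6 F202406)) (tt N35591 (iv7 D125572)))
theorem Q65545 : ∀ i, i < 65545 → P i := stepQ 65544 Q65544 (allL N65544 (tt N95932 (iv1 F410327)) (tt N35593 (iv0 D125574)) (tt N81730 F361646) (tt N76652 F361644) (tt N81767 F361647) (tt N59608 (iv5 F406157)) (tt N81666 (iv6 F361645)) (tt N95931 (iv7 F410321)))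
theorem Q65546 : ∀ i, i < 65546 → P i := stepQ 65545 Q65545 (allL N65545 (tt N35593 (iv1 D125575)) (tt N95932 F410328) (tt N95931 F410319) (tt N101155 F431974) (tt N97419 (iv4 F416816)) (tt N59609 F406153) (tt N72911 F406154) (tt N81730 F361648))
theorem Q65547 : ∀ i, i < 65547 → P i := stepQ 65546 Q65546 (allL N65546 (tt N81730 (iv1 F410322)) (tt N95931 F410320) (tt N35593 (iv2 D125576)) (tt N95925 (iv3 F410289)) (tt N35617 F201991) (tt N94862 F406190) (tt N102016 D205192) (tt N95932 (iv7 F410326)))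
theorem Q65548 : ∀ i, i < 65548 → P i := stepQ 65547 Q65547 (allL N65547 (tt N102017 D205193) (tt N78455 (iv0 F364551)) (tt N102016 (iv2 F435355)) (tt N35594 F201992) (tt N35619 F201993) (tt N102018 D205194) (tt N35593 (iv6 D125577)) (tt N96482 (iv7 F412700)))
theorem Q65549 : ∀ i, i < 65549 → P i := stepQ 65548 Q65548 (allL N65548 (tt N58221 F201994) (tt N58225 (iv0 F201995)) (tt N52767 F336677) (tt N102018 (iv3 F435361)) (tt N52759 F336671) (tt N35594 (iv5 D125578)) (tt N64293 F336672) (tt N44355 F336673))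
theorem Q65550 : ∀ i, i < 65550 → P i := stepQ 65549 Q65549 (allL N65549 (tt N55685 F201998) (tt N55689 (iv0 F202000)) (tt N55688 F201996) (tt N35596 (iv3 D125579)) (tt N44703 (iv4 F326929)) (tt N65699 (iv5 F202261)) (tt N102019 D205195) (tt N55687 F201997))
theorem Q65551 : ∀ i, i < 65551 → P i := stepQ 65550 Q65550 (allL N65550 (tt N65821 F202425) (tt N95272 (iv0 F407664)) (tt N58825 F202001) (tt N102019 (iv3 F435372)) (tt N59449 F202002) (tt N60700 F202003) (tt N35596 (iv6 D125580)) (tt N60700 F202004))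
theorem Q65552 : ∀ i, i < 65552 → P i := stepQ 65551 Q65551 (allL N65551 (tt N60408 (iv1 F202005)) (tt N35599 (iv0 D125581)) (tt N60407 (iv2 F375978)) (tt N102020 D205196) (tt N102021 D205197) (tt N97437 (iv5 F416910)) (tt N102022 D205198) (tt N60406 F375979))
theorem Q65553 : ∀ i, i < 65553 → P i := stepQ 65552 Q65552 (allL N65552 (tt N35599 (iv1 D125582)) (tt N60408 F202010) (tt N60406 F375977) (tt N101735 (iv3 F434094)) (tt N79789 F363243) (tt N97438 (iv5 F416916)) (tt N60496 F363257) (tt N60407 (iv7 F375975)))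
theorem Q65554 : ∀ i, i < 65554 → P i := stepQ 65553 Q65553 (allL N65553 (tt N60407 (iv1 F202011)) (tt N60406 F202009) (tt N35599 (iv2 D125583)) (tt N57954 F202006) (tt N45848 F329024) (tt N65790 (iv5 F202387)) (tt N45847 F329025) (tt N60408 F202008))
theorem Q65555 : ∀ i, i < 65555 → P i := stepQ 65554 Q65554 (allL N65554 (tt N60570 F202015) (tt N60572 F202016) (tt N57959 F202014) (tt N100712 (iv3 F430139)) (tt N60792 F332821) (tt N35600 (iv5 D125585)) (tt N65795 (iv6 F202390)) (tt N95822 (iv7 F409805)))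
theorem Q65556 : ∀ i, i < 65556 → P i := stepQ 65555 Q65555 (allL N65555 (tt N94783 (iv1 F405914)) (tt N35603 (iv0 D125586)) (tt N94782 F405924) (tt N81532 F356083) (tt N102023 D205199) (tt N65800 (iv5 F361381)) (tt N81533 (iv6 F356084)) (tt N94781 F405922))
theorem Q65557 : ∀ i, i < 65557 → P i := stepQ 65556 Q65556 (allL N65556 (tt N35603 (iv1 D125587)) (tt N94783 F405917) (tt N94781 (iv2 F405920)) (tt N102024 D205200) (tt N102025 D205201) (tt N65801 (iv5 F405918)) (tt N70725 F405919) (tt N94782 (iv7 F405923)))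
theorem Q65558 : ∀ i, i < 65558 → P i := stepQ 65557 Q65557 (allL N65557 (tt N94782 (iv1 F405915)) (tt N94781 F405909) (tt N35603 (iv2 D125588)) (tt N58830 F202017) (tt N57254 F202018) (tt N102026 D205202) (tt N67301 F348393) (tt N94783 (iv7 F405913)))
theorem Q65559 : ∀ i, i < 65559 → P i := stepQ 65558 Q65558 (allL N65558 (tt N65529 (iv1 F361387)) (tt N65534 F348403) (tt N102026 (iv2 F435413)) (tt N35604 F202019) (tt N102027 D205203) (tt N35603 (iv5 D125589)) (tt N92038 F395483) (tt N65731 (iv7 F202323)))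
theorem Q65560 : ∀ i, i < 65560 → P i := stepQ 65559 Q65559 (allL N65559 (tt N67175 F348404) (tt N67302 F348405) (tt N67301 (iv2 F348395)) (tt N35605 F202020) (tt N57249 F202021) (tt N92039 (iv5 F395487)) (tt N35603 (iv6 D125590)) (tt N67300 F402649))
theorem Q65561 : ∀ i, i < 65561 → P i := stepQ 65560 Q65560 (allL N65560 (tt N102028 D205204) (tt N102029 D205205) (tt N58833 F202022) (tt N92038 (iv3 F395482)) (tt N60019 F202023) (tt N92036 (iv5 F395476)) (tt N35604 (iv6 D125591)) (tt N92690 (iv7 F397889)))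
theorem Q65562 : ∀ i, i < 65562 → P i := stepQ 65561 Q65561 (allL N65561 (tt N58837 (iv1 F202025)) (tt N35605 (iv0 D125592)) (tt N58834 (iv2 F202026)) (tt N102030 D205206) (tt N59750 F202024) (tt N97606 (iv5 F417569)) (tt N60690 (iv6 F202027)) (tt N58835 (iv7 F202028)))
theorem Q65563 : ∀ i, i < 65563 → P i := stepQ 65562 Q65562 (allL N65562 (tt N35605 (iv1 D125593)) (tt N58837 F202029) (tt N58835 (iv2 F202032)) (tt N79554 F348408) (tt N56977 F202031) (tt N97605 (iv5 F417563)) (tt N56976 (iv6 F202033)) (tt N58834 F202030))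
theorem Q65564 : ∀ i, i < 65564 → P i := stepQ 65563 Q65563 (allL N65563 (tt N60539 F202036) (tt N35842 F202037) (tt N58836 F202034) (tt N92039 (iv3 F395485)) (tt N92678 (iv4 F397855)) (tt N35605 (iv5 D125594)) (tt N92036 (iv6 F395477)) (tt N60537 F202035))
theorem Q65565 : ∀ i, i < 65565 → P i := stepQ 65564 Q65564 (allL N65564 (tt N60512 F202040) (tt N35611 (iv0 F202041)) (tt N58838 F202038) (tt N57250 F348398) (tt N35606 (iv4 D125595)) (tt N57249 (iv5 F348397)) (tt N65832 (iv6 F202449)) (tt N58841 F202039))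
theorem Q65566 : ∀ i, i < 65566 → P i := stepQ 65565 Q65565 (allL N65565 (tt N35611 F202045) (tt N60512 (iv0 F202046)) (tt N58841 F202042) (tt N81667 (iv3 F360020)) (tt N35607 (iv4 D125596)) (tt N67280 (iv5 F361368)) (tt N57248 F202043) (tt N58838 F202044))
theorem Q65567 : ∀ i, i < 65567 → P i := stepQ 65566 Q65566 (allL N65566 (tt N88189 (iv1 F382096)) (tt N35609 (iv0 D125597)) (tt N96745 F413744) (tt N97486 (iv3 F417055)) (tt N102031 D205207) (tt N35648 F366352) (tt N35651 F366353) (tt N96744 (iv7 F413735)))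
theorem Q65568 : ∀ i, i < 65568 → P i := stepQ 65567 Q65567 (allL N65567 (tt N35609 (iv1 D125598)) (tt N88189 F382095) (tt N96744 (iv2 F413736)) (tt N85677 (iv3 F413738)) (tt N96752 (iv4 F413768)) (tt N101979 (iv5 F435192)) (tt N85676 F413737) (tt N96745 (iv7 F413741)))
theorem Q65569 : ∀ i, i < 65569 → P i := stepQ 65568 Q65568 (allL N65568 (tt N96745 (iv1 F413740)) (tt N96744 F413730) (tt N35609 (iv2 D125599)) (tt N75362 (iv3 F231342)) (tt N39594 F202047) (tt N102032 D205208) (tt N102033 D205209) (tt N88189 (iv7 F382094)))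
theorem Q65570 : ∀ i, i < 65570 → P i := stepQ 65569 Q65569 (allL N65569 (tt N92038 F413739) (tt N92041 (iv0 F395492)) (tt N102032 (iv2 F435452)) (tt N35610 F202048) (tt N68666 F366349) (tt N35609 (iv5 D125600)) (tt N65676 (iv6 F366350)) (tt N65673 (iv7 F202223)))
theorem Q65571 : ∀ i, i < 65571 → P i := stepQ 65570 Q65570 (allL N65570 (tt N102034 D205210) (tt N102035 D205211) (tt N102033 (iv2 F435455)) (tt N35611 F202049) (tt N39583 F202050) (tt N97667 (iv5 F417852)) (tt N35609 (iv6 D125601)) (tt N102036 D205212))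
theorem Q65572 : ∀ i, i < 65572 → P i := stepQ 65571 Q65571 (allL N65571 (tt N65731 F366359) (tt N102026 (iv0 F435417)) (tt N65529 (iv2 F361383)) (tt N65676 F366351) (tt N65674 (iv4 F202225)) (tt N65526 (iv5 F361379)) (tt N35610 (iv6 D125602)) (tt N65534 F361386))
theorem Q65573 : ∀ i, i < 65573 → P i := stepQ 65572 Q65572 (allL N65572 (tt N58841 (iv1 F202054)) (tt N58838 F202055) (tt N60512 F202051) (tt N102036 (iv3 F435462)) (tt N39528 F202052) (tt N81744 (iv5 F361392)) (tt N36263 F202053) (tt N35611 (iv7 D125603)))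
theorem Q65574 : ∀ i, i < 65574 → P i := stepQ 65573 Q65573 (allL N65573 (tt N75362 (iv1 F231345)) (tt N35612 (iv0 D125604)) (tt N96978 F414893) (tt N35912 F202056) (tt N79836 (iv4 F356082)) (tt N60429 F356086) (tt N45825 F325537) (tt N81447 F356085))
theorem Q65575 : ∀ i, i < 65575 → P i := stepQ 65574 Q65574 (allL N65574 (tt N35612 (iv1 D125605)) (tt N75362 F231344) (tt N81447 F343346) (tt N82348 (iv3 F362995)) (tt N80896 (iv4 F343345)) (tt N60430 (iv5 F355839)) (tt N80726 F343347) (tt N96978 (iv7 F414891)))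
theorem Q65576 : ∀ i, i < 65576 → P i := stepQ 65575 Q65575 (allL N65575 (tt N96978 (iv1 F414890)) (tt N81447 F342089) (tt N35612 (iv2 D125606)) (tt N88189 (iv3 F382092)) (tt N58875 F202057) (tt N97443 (iv5 F416929)) (tt N65128 (iv6 F352206)) (tt N75362 (iv7 F231343)))
theorem Q65577 : ∀ i, i < 65577 → P i := stepQ 65576 Q65576 (allL N65576 (tt N65901 F362996) (tt N97442 (iv0 F416928)) (tt N97443 F416930) (tt N35613 F202058) (tt N102037 D205213) (tt N35612 (iv5 D125607)) (tt N102038 D205214) (tt N65675 (iv7 F202227)))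
theorem Q65578 : ∀ i, i < 65578 → P i := stepQ 65577 Q65577 (allL N65577 (tt N65131 F365908) (tt N65129 (iv0 F332210)) (tt N65128 F352204) (tt N35614 F202059) (tt N58877 F202060) (tt N54266 (iv5 F352189)) (tt N35612 (iv6 D125608)) (tt N60510 (iv7 F202061)))
theorem Q65579 : ∀ i, i < 65579 → P i := stepQ 65578 Q65578 (allL N65578 (tt N102039 D205215) (tt N93108 (iv0 F435438)) (tt N65674 (iv2 F202224)) (tt N102038 (iv3 F435466)) (tt N65529 (iv4 F361384)) (tt N102040 D205216) (tt N35613 (iv6 D125609)) (tt N102041 D205217))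
theorem Q65580 : ∀ i, i < 65580 → P i := stepQ 65579 Q65579 (allL N65579 (tt N67383 (iv1 F352194)) (tt N67391 (iv0 F352191)) (tt N60515 F202062) (tt N54266 F352190) (tt N102042 D205218) (tt N35614 (iv5 D125610)) (tt N102040 (iv6 F435473)) (tt N60511 F202063))
theorem Q65581 : ∀ i, i < 65581 → P i := stepQ 65580 Q65580 (allL N65580 (tt N82348 (iv1 F366141)) (tt N83570 (iv0 F366140)) (tt N57999 (iv2 F203773)) (tt N35615 (iv3 D125612)) (tt N57883 F202065) (tt N65668 F202218) (tt N102043 D205219) (tt N58003 (iv7 F203761)))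
theorem Q65582 : ∀ i, i < 65582 → P i := stepQ 65581 Q65581 (allL N65581 (tt N58700 F408193) (tt N102044 D205220) (tt N59426 F203772) (tt N93486 (iv3 F400885)) (tt N35615 (iv4 D125613)) (tt N95046 (iv5 F406798)) (tt N93484 (iv6 F400877)) (tt N101972 (iv7 F435157)))
theorem Q65583 : ∀ i, i < 65583 → P i := stepQ 65582 Q65582 (allL N65582 (tt N65664 (iv1 F360420)) (tt N59606 (iv0 F360417)) (tt N65667 (iv2 F360424)) (tt N65668 (iv3 F202217)) (tt N35708 F202066) (tt N35615 (iv5 D125614)) (tt N59947 (iv6 F360400)) (tt N65666 F360421))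
theorem Q65584 : ∀ i, i < 65584 → P i := stepQ 65583 Q65583 (allL N65583 (tt N74656 F360404) (tt N81667 F360405) (tt N65762 F360406) (tt N102043 (iv3 F435480)) (tt N93484 F400876) (tt N46300 F360407) (tt N35615 (iv6 D125615)) (tt N81736 F360408))
theorem Q65585 : ∀ i, i < 65585 → P i := stepQ 65584 Q65584 (allL N65584 (tt N97484 F417046) (tt N97486 F417059) (tt N97774 (iv2 F418256)) (tt N35616 (iv3 D125617)) (tt N97773 F418253) (tt N102028 (iv5 F435426)) (tt N102045 D205221) (tt N101974 (iv7 F435169)))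
theorem Q65586 : ∀ i, i < 65586 → P i := stepQ 65585 Q65585 (allL N65585 (tt N102044 (iv1 F435485)) (tt N58700 (iv0 F202068)) (tt N101972 (iv2 F435155)) (tt N59330 (iv3 F202069)) (tt N35616 (iv4 D125618)) (tt N94715 (iv5 F405645)) (tt N102046 D205222) (tt N59426 F203766))
theorem Q65587 : ∀ i, i < 65587 → P i := stepQ 65586 Q65586 (allL N65586 (tt N59606 (iv1 F360419)) (tt N65664 F360429) (tt N65666 F360422) (tt N102028 F435429) (tt N95026 (iv4 F406712)) (tt N35616 (iv5 D125619)) (tt N102047 D205223) (tt N65667 (iv7 F360428)))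
theorem Q65588 : ∀ i, i < 65588 → P i := stepQ 65587 Q65587 (allL N65587 (tt N36261 F360430) (tt N102048 D205224) (tt N101973 (iv2 F435160)) (tt N102045 (iv3 F435489)) (tt N102046 (iv4 F435495)) (tt N102049 D205225) (tt N35616 (iv6 D125620)) (tt N102050 D205226))
theorem Q65589 : ∀ i, i < 65589 → P i := stepQ 65588 Q65588 (allL N65588 (tt N96649 (iv1 F413330)) (tt N94790 (iv0 F405960)) (tt N35618 F202070) (tt N101966 (iv3 F435120)) (tt N95043 (iv4 F406787)) (tt N35617 (iv5 D125621)) (tt N102051 D205227) (tt N101975 (iv7 F435174)))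
theorem Q65590 : ∀ i, i < 65590 → P i := stepQ 65589 Q65589 (allL N65589 (tt N102052 D205228) (tt N102053 D205229) (tt N35619 F202071) (tt N85674 F373482) (tt N102016 (iv4 F435356)) (tt N102054 D205230) (tt N35617 (iv6 D125622)) (tt N102055 D205231))
theorem Q65591 : ∀ i, i < 65591 → P i := stepQ 65590 Q65590 (allL N65590 (tt N101975 (iv1 F435176)) (tt N35618 (iv0 D125623)) (tt N96649 (iv2 F413325)) (tt N65592 F355944) (tt N35729 F355945) (tt N35658 F355946) (tt N65784 F360432) (tt N94790 (iv7 F405958)))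
theorem Q65592 : ∀ i, i < 65592 → P i := stepQ 65591 Q65591 (allL N65591 (tt N35618 (iv1 D125624)) (tt N101975 (iv0 F435175)) (tt N94790 (iv2 F405957)) (tt N102056 D205232) (tt N94787 F405943) (tt N35659 F405944) (tt N102057 D205233) (tt N96649 (iv7 F413327)))
theorem Q65593 : ∀ i, i < 65593 → P i := stepQ 65592 Q65592 (allL N65592 (tt N97456 F416962) (tt N102058 D205234) (tt N95043 (iv2 F406786)) (tt N65590 (iv3 F355944)) (tt N35618 (iv4 D125625)) (tt N65659 (iv5 F202205)) (tt N102059 D205235) (tt N95045 (iv7 F406796)))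
theorem Q65594 : ∀ i, i < 65594 → P i := stepQ 65593 Q65593 (allL N65593 (tt N102060 D205236) (tt N65773 (iv0 F360409)) (tt N102051 (iv2 F435514)) (tt N35621 F202072) (tt N102059 (iv4 F435549)) (tt N102061 D205237) (tt N35618 (iv6 D125626)) (tt N102062 D205238))
theorem Q65595 : ∀ i, i < 65595 → P i := stepQ 65594 Q65594 (allL N65594 (tt N102055 (iv1 F435538)) (tt N35619 (iv0 D125627)) (tt N102052 F435520) (tt N83568 (iv3 F405946)) (tt N102063 D205239) (tt N83608 F405945) (tt N60710 (iv6 F405947)) (tt N102053 (iv7 F435526)))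
theorem Q65596 : ∀ i, i < 65596 → P i := stepQ 65595 Q65595 (allL N65595 (tt N35619 (iv1 D125628)) (tt N102055 F435537) (tt N102053 (iv2 F435530)) (tt N36719 F358325) (tt N102064 D205240) (tt N56563 F358326) (tt N36715 F358327) (tt N102052 F435523))
theorem Q65597 : ∀ i, i < 65597 → P i := stepQ 65596 Q65596 (allL N65596 (tt N102065 D205241) (tt N102066 D205242) (tt N102054 (iv2 F435532)) (tt N35624 F202073) (tt N102067 D205243) (tt N35619 (iv5 D125629)) (tt N102061 (iv6 F435556)) (tt N102068 D205244))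
theorem Q65598 : ∀ i, i < 65598 → P i := stepQ 65597 Q65597 (allL N65597 (tt N102053 (iv1 F435525)) (tt N102052 (iv0 F435524)) (tt N102055 (iv2 F435534)) (tt N35625 F202074) (tt N96482 (iv4 F412697)) (tt N102068 (iv5 F435580)) (tt N97115 (iv6 F415506)) (tt N35619 (iv7 D125630)))
theorem Q65599 : ∀ i, i < 65599 → P i := stepQ 65598 Q65598 (allL N65598 (tt N35648 F366358) (tt N101979 F435194) (tt N101978 F435188) (tt N35620 (iv3 D125631)) (tt N101970 F435145) (tt N35656 F202075) (tt N102069 D205245) (tt N55615 F202076))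
theorem Q65600 : ∀ i, i < 65600 → P i := stepQ 65599 Q65599 (allL N65599 (tt N65540 F361388) (tt N65811 (iv0 F377847)) (tt N60435 F202077) (tt N102069 (iv3 F435583)) (tt N55616 F202078) (tt N102070 D205246) (tt N35620 (iv6 D125632)) (tt N102071 D205247))
theorem Q65601 : ∀ i, i < 65601 → P i := stepQ 65600 Q65600 (allL N65600 (tt N101971 (iv1 F435154)) (tt N35621 (iv0 D125633)) (tt N101969 F435139) (tt N101970 (iv3 F435146)) (tt N55615 F356047) (tt N102072 D205248) (tt N102073 D205249) (tt N101970 (iv7 F435143)))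
theorem Q65602 : ∀ i, i < 65602 → P i := stepQ 65601 Q65601 (allL N65601 (tt N35621 (iv1 D125634)) (tt N101971 F435153) (tt N101970 F435144) (tt N102074 D205250) (tt N101978 (iv4 F435186)) (tt N102075 D205251) (tt N65537 (iv6 F405908)) (tt N101969 F435141))
theorem Q65603 : ∀ i, i < 65603 → P i := stepQ 65602 Q65602 (allL N65602 (tt N68659 (iv1 F347759)) (tt N56500 (iv0 F356965)) (tt N68664 F342978) (tt N102061 (iv3 F435555)) (tt N56412 F342969) (tt N35621 (iv5 D125635)) (tt N35624 F202079) (tt N68665 F342976))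
theorem Q65604 : ∀ i, i < 65604 → P i := stepQ 65603 Q65603 (allL N65603 (tt N101970 (iv1 F435142)) (tt N101969 F435140) (tt N101971 (iv2 F435148)) (tt N102062 (iv3 F435559)) (tt N65771 (iv4 F356045)) (tt N68665 (iv5 F342977)) (tt N101979 (iv6 F435193)) (tt N35621 (iv7 D125636)))
theorem Q65605 : ∀ i, i < 65605 → P i := stepQ 65604 Q65604 (allL N65604 (tt N102076 D205252) (tt N85676 (iv0 F373493)) (tt N83779 F334367) (tt N35622 (iv3 D125637)) (tt N54848 (iv4 F364547)) (tt N68738 F364796) (tt N60471 F202080) (tt N83776 F364544))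
theorem Q65606 : ∀ i, i < 65606 → P i := stepQ 65605 Q65605 (allL N65605 (tt N45825 F334369) (tt N83567 F334370) (tt N83566 F334380) (tt N35623 (iv3 D125638)) (tt N80033 F334371) (tt N97691 (iv5 F417915)) (tt N80719 F334372) (tt N82387 F334373))
theorem Q65607 : ∀ i, i < 65607 → P i := stepQ 65606 Q65606 (allL N65606 (tt N65826 (iv1 F202438)) (tt N65832 (iv0 F203118)) (tt N96779 (iv2 F413889)) (tt N80719 (iv3 F362308)) (tt N57961 F202081) (tt N97749 (iv5 F418151)) (tt N35623 (iv6 D125639)) (tt N60474 F202082))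
theorem Q65608 : ∀ i, i < 65608 → P i := stepQ 65607 Q65607 (allL N65607 (tt N97007 (iv1 F415003)) (tt N35624 (iv0 D125640)) (tt N60575 (iv2 F202084)) (tt N86669 F376750) (tt N56671 F332818) (tt N55644 F202083) (tt N56670 (iv6 F332816)) (tt N60578 (iv7 F202085)))
theorem Q65609 : ∀ i, i < 65609 → P i := stepQ 65608 Q65608 (allL N65608 (tt N35624 (iv1 D125641)) (tt N97007 (iv0 F415002)) (tt N60578 (iv2 F202088)) (tt N102077 D205253) (tt N87589 (iv4 F379824)) (tt N55647 F202087) (tt N87588 F379825) (tt N60575 F202086))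
theorem Q65610 : ∀ i, i < 65610 → P i := stepQ 65609 Q65609 (allL N65609 (tt N57284 F332833) (tt N95894 F410130) (tt N60934 F342959) (tt N61742 F342960) (tt N35624 (iv4 D125642)) (tt N55744 (iv5 F342958)) (tt N56412 (iv6 F342967)) (tt N60931 F342961))
theorem Q65611 : ∀ i, i < 65611 → P i := stepQ 65610 Q65610 (allL N65610 (tt N60578 (iv1 F202090)) (tt N60575 F202091) (tt N97007 (iv2 F414998)) (tt N102068 (iv3 F435579)) (tt N60931 F332834) (tt N35625 F202089) (tt N86673 F376760) (tt N35624 (iv7 D125643)))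
theorem Q65612 : ∀ i, i < 65612 → P i := stepQ 65611 Q65611 (allL N65611 (tt N70726 (iv1 F362860)) (tt N70725 F362864) (tt N70727 F343666) (tt N35626 (iv3 D125644)) (tt N60715 F202092) (tt N56727 (iv5 F343665)) (tt N60715 F202093) (tt N56707 F343668))
theorem Q65613 : ∀ i, i < 65613 → P i := stepQ 65612 Q65612 (allL N65612 (tt N36842 F202100) (tt N36711 F202101) (tt N36821 F202098) (tt N65994 F360389) (tt N35627 (iv4 D125646)) (tt N92926 (iv5 F398783)) (tt N65992 (iv6 F360388)) (tt N36823 F202099))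
theorem Q65614 : ∀ i, i < 65614 → P i := stepQ 65613 Q65613 (allL N65613 (tt N35628 (iv1 D125649)) (tt N36820 F202112) (tt N36818 (iv2 F202115)) (tt N102078 D205254) (tt N39016 F202114) (tt N68647 (iv5 F211263)) (tt N56514 (iv6 F202116)) (tt N36817 F202113))
theorem Q65615 : ∀ i, i < 65615 → P i := stepQ 65614 Q65614 (allL N65614 (tt N36793 (iv1 F202125)) (tt N35630 (iv0 D125653)) (tt N36792 F355037) (tt N69857 (iv3 F216265)) (tt N70486 F217531) (tt N81362 F352565) (tt N56523 (iv6 F352568)) (tt N36791 F355038))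
theorem Q65616 : ∀ i, i < 65616 → P i := stepQ 65615 Q65615 (allL N65615 (tt N35630 (iv1 D125654)) (tt N36793 F202130) (tt N36791 F355047) (tt N102079 D205255) (tt N70330 (iv4 F217212)) (tt N81361 (iv5 F332711)) (tt N92172 (iv6 F396084)) (tt N36792 F355048))
theorem Q65617 : ∀ i, i < 65617 → P i := stepQ 65616 Q65616 (allL N65616 (tt N67266 (iv1 F333050)) (tt N67270 F333057) (tt N80725 (iv2 F332679)) (tt N35631 F202132) (tt N78564 F332677) (tt N35630 (iv5 D125656)) (tt N83986 (iv6 F367721)) (tt N36794 F202133))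
theorem Q65618 : ∀ i, i < 65618 → P i := stepQ 65617 Q65617 (allL N65617 (tt N60595 F364828) (tt N97648 F417765) (tt N36816 F202134) (tt N83986 (iv3 F367720)) (tt N67192 (iv4 F206889)) (tt N83985 F367718) (tt N35631 (iv6 D125657)) (tt N102080 D205256))
theorem Q65619 : ∀ i, i < 65619 → P i := stepQ 65618 Q65618 (allL N65618 (tt N92530 (iv1 F397267)) (tt N35634 (iv0 D125658)) (tt N96801 F414019) (tt N52226 F363492) (tt N102081 D205257) (tt N68073 F349594) (tt N52237 (iv6 F363493)) (tt N96800 F414014))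
theorem Q65620 : ∀ i, i < 65620 → P i := stepQ 65619 Q65619 (allL N65619 (tt N35634 (iv1 D125659)) (tt N92530 (iv0 F397266)) (tt N96800 (iv2 F414015)) (tt N102082 D205258) (tt N65678 F360470) (tt N68072 (iv5 F349543)) (tt N65685 (iv6 F360475)) (tt N96801 (iv7 F414017)))
theorem Q65621 : ∀ i, i < 65621 → P i := stepQ 65620 Q65620 (allL N65620 (tt N96801 (iv1 F414016)) (tt N96800 F414013) (tt N35634 (iv2 D125660)) (tt N96805 (iv3 F414034)) (tt N35645 F202135) (tt N40560 F355934) (tt N54956 F355935) (tt N92530 (iv7 F397265)))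
theorem Q65622 : ∀ i, i < 65622 → P i := stepQ 65621 Q65621 (allL N65621 (tt N54996 (iv1 F360497)) (tt N53610 (iv0 F360496)) (tt N54998 (iv2 F355197)) (tt N59114 (iv3 F360494)) (tt N55901 F202139) (tt N84639 (iv5 F369957)) (tt N35635 (iv6 D125663)) (tt N54997 F360498))
theorem Q65623 : ∀ i, i < 65623 → P i := stepQ 65622 Q65622 (allL N65622 (tt N96896 (iv1 F414497)) (tt N49918 (iv0 F346839)) (tt N88276 (iv2 F382433)) (tt N84649 (iv3 F370031)) (tt N102083 D205259) (tt N35636 (iv5 D125664)) (tt N84639 (iv6 F369958)) (tt N51914 F356021))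
theorem Q65624 : ∀ i, i < 65624 → P i := stepQ 65623 Q65623 (allL N65623 (tt N58768 (iv1 F202145)) (tt N57244 F202146) (tt N58769 F202140) (tt N58085 F202141) (tt N59710 F202142) (tt N57235 F202144) (tt N35637 (iv6 D125665)) (tt N55686 F202143))
theorem Q65625 : ∀ i, i < 65625 → P i := stepQ 65624 Q65624 (allL N65624 (tt N57954 (iv1 F202147)) (tt N35639 (iv0 D125666)) (tt N57953 F406720) (tt N102084 D205260) (tt N102085 D205261) (tt N95027 (iv5 F406718)) (tt N102086 D205262) (tt N57952 F406721))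
theorem Q65626 : ∀ i, i < 65626 → P i := stepQ 65625 Q65625 (allL N65625 (tt N35639 (iv1 D125667)) (tt N57954 F202152) (tt N57952 F406723) (tt N102087 D205263) (tt N102088 D205264) (tt N95028 (iv5 F406727)) (tt N102089 D205265) (tt N57953 F406724))
theorem Q65627 : ∀ i, i < 65627 → P i := stepQ 65626 Q65626 (allL N65626 (tt N57953 (iv1 F202153)) (tt N57952 F202151) (tt N35639 (iv2 D125668)) (tt N60408 F202148) (tt N57884 F202149) (tt N65776 (iv5 F356041)) (tt N82554 (iv6 F356039)) (tt N57954 F202150))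
theorem Q65628 : ∀ i, i < 65628 → P i := stepQ 65627 Q65627 (allL N65627 (tt N82551 F354273) (tt N46537 F354274) (tt N82554 F354275) (tt N35640 F202154) (tt N57886 F202155) (tt N46177 F354276) (tt N35639 (iv6 D125669)) (tt N82530 F354277))
theorem Q65629 : ∀ i, i < 65629 → P i := stepQ 65628 Q65628 (allL N65628 (tt N102090 D205266) (tt N91303 (iv0 F392632)) (tt N60412 F202156) (tt N46177 F345717) (tt N83772 F345718) (tt N35640 (iv5 D125670)) (tt N65799 (iv6 F202394)) (tt N82529 F345719))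
theorem Q65630 : ∀ i, i < 65630 → P i := stepQ 65629 Q65629 (allL N65629 (tt N85677 F373496) (tt N102091 D205267) (tt N82435 (iv2 F358203)) (tt N35643 (iv3 D125671)) (tt N60365 F202157) (tt N102092 D205268) (tt N102093 D205269) (tt N101965 (iv7 F435117)))
theorem Q65631 : ∀ i, i < 65631 → P i := stepQ 65630 Q65630 (allL N65630 (tt N95392 F408090) (tt N95377 F408040) (tt N59809 F202158) (tt N87814 (iv3 F380629)) (tt N35643 (iv4 D125672)) (tt N68076 F349537) (tt N81166 (iv6 F358205)) (tt N95393 (iv7 F408096)))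
theorem Q65632 : ∀ i, i < 65632 → P i := stepQ 65631 Q65631 (allL N65631 (tt N65706 (iv1 F349585)) (tt N65517 (iv0 F349574)) (tt N65707 (iv2 F349553)) (tt N102092 (iv3 F435681)) (tt N93027 (iv4 F399162)) (tt N35643 (iv5 D125673)) (tt N65751 (iv6 F349547)) (tt N58138 F349544))
theorem Q65633 : ∀ i, i < 65633 → P i := stepQ 65632 Q65632 (allL N65632 (tt N60764 (iv1 F358186)) (tt N60768 F358185) (tt N60766 (iv2 F358210)) (tt N102093 (iv3 F435687)) (tt N81166 F358204) (tt N67185 (iv5 F358187)) (tt N35643 (iv6 D125674)) (tt N60765 (iv7 F358209)))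
theorem Q65634 : ∀ i, i < 65634 → P i := stepQ 65633 Q65633 (allL N65633 (tt N35909 (iv1 F202162)) (tt N35912 (iv0 F202161)) (tt N45733 F325533) (tt N35644 (iv3 D125675)) (tt N45720 F325534) (tt N65728 (iv5 F349542)) (tt N45719 F325535) (tt N65125 F325536))
theorem Q65635 : ∀ i, i < 65635 → P i := stepQ 65634 Q65634 (allL N65634 (tt N101967 (iv1 F435125)) (tt N65813 (iv0 F356061)) (tt N35646 F202163) (tt N101975 (iv3 F435173)) (tt N102094 D205270) (tt N35645 (iv5 D125678)) (tt N102095 D205271) (tt N101966 (iv7 F435121)))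
theorem Q65636 : ∀ i, i < 65636 → P i := stepQ 65635 Q65635 (allL N65635 (tt N82344 F355999) (tt N51643 F355998) (tt N35647 F202164) (tt N101976 (iv3 F435178)) (tt N54956 (iv4 F355936)) (tt N102096 D205272) (tt N35645 (iv6 D125679)) (tt N91953 (iv7 F395109)))
theorem Q65637 : ∀ i, i < 65637 → P i := stepQ 65636 Q65636 (allL N65636 (tt N101966 (iv1 F435123)) (tt N35646 (iv0 D125680)) (tt N101967 F435131) (tt N102097 D205273) (tt N68670 F358191) (tt N35682 F358192) (tt N102098 D205274) (tt N65813 F358193))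
theorem Q65638 : ∀ i, i < 65638 → P i := stepQ 65637 Q65637 (allL N65637 (tt N35646 (iv1 D125681)) (tt N101966 (iv0 F435122)) (tt N65813 F362564) (tt N102099 D205275) (tt N68668 F362565) (tt N35683 F362566) (tt N65542 (iv6 F399524)) (tt N101967 (iv7 F435126)))
theorem Q65639 : ∀ i, i < 65639 → P i := stepQ 65638 Q65638 (allL N65638 (tt N67258 (iv1 F360474)) (tt N93030 (iv0 F399178)) (tt N102094 (iv2 F435692)) (tt N65791 (iv3 F202388)) (tt N35646 (iv4 D125682)) (tt N68836 F360473) (tt N102011 F435335) (tt N101968 (iv7 F435134)))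
theorem Q65640 : ∀ i, i < 65640 → P i := stepQ 65639 Q65639 (allL N65639 (tt N102056 F435540) (tt N102100 D205276) (tt N102095 (iv2 F435696)) (tt N35648 F202165) (tt N102011 F435334) (tt N97486 F417057) (tt N35646 (iv6 D125683)) (tt N102101 D205277))
theorem Q65641 : ∀ i, i < 65641 → P i := stepQ 65640 Q65640 (allL N65640 (tt N91953 (iv1 F395111)) (tt N35647 (iv0 D125684)) (tt N82344 (iv2 F355927)) (tt N82016 F355926) (tt N51644 (iv4 F355928)) (tt N67396 (iv5 F362281)) (tt N102102 D205278) (tt N51643 F355930))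
theorem Q65642 : ∀ i, i < 65642 → P i := stepQ 65641 Q65641 (allL N65641 (tt N35647 (iv1 D125685)) (tt N91953 (iv0 F395110)) (tt N51643 F356005) (tt N46240 F356006) (tt N51631 F356007) (tt N67397 F358176) (tt N55691 (iv6 F356010)) (tt N82344 F356008))
theorem Q65643 : ∀ i, i < 65643 → P i := stepQ 65642 Q65642 (allL N65642 (tt N102103 D205279) (tt N86939 (iv0 F377783)) (tt N102096 (iv2 F435699)) (tt N35651 F202166) (tt N97487 (iv4 F417061)) (tt N35647 (iv5 D125686)) (tt N97486 F417058) (tt N102104 D205280))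
theorem Q65644 : ∀ i, i < 65644 → P i := stepQ 65643 Q65643 (allL N65643 (tt N51643 (iv1 F356015)) (tt N82344 F356016) (tt N91953 (iv2 F395108)) (tt N35652 F202167) (tt N54957 F356017) (tt N102104 (iv5 F435743)) (tt N85673 F373470) (tt N35647 (iv7 D125687)))
theorem Q65645 : ∀ i, i < 65645 → P i := stepQ 65644 Q65644 (allL N65644 (tt N101979 (iv1 F435195)) (tt N35648 (iv0 D125688)) (tt N55615 (iv2 F366356)) (tt N60428 (iv3 F366357)) (tt N101969 (iv4 F435138)) (tt N55614 F366354) (tt N102105 D205281) (tt N101978 (iv7 F435185)))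
theorem Q65646 : ∀ i, i < 65646 → P i := stepQ 65645 Q65645 (allL N65645 (tt N101978 (iv1 F435184)) (tt N55615 F399419) (tt N101979 (iv2 F435190)) (tt N102101 (iv3 F435726)) (tt N65796 (iv4 F202391)) (tt N96744 F413734) (tt N101971 (iv6 F435152)) (tt N35648 (iv7 D125691)))
theorem Q65647 : ∀ i, i < 65647 → P i := stepQ 65646 Q65646 (allL N65646 (tt N97751 (iv1 F418164)) (tt N67389 (iv0 F362304)) (tt N101981 (iv2 F435203)) (tt N46858 F329145) (tt N91862 (iv4 F394749)) (tt N35649 (iv5 D125693)) (tt N102106 D205282) (tt N60442 F202171))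
theorem Q65648 : ∀ i, i < 65648 → P i := stepQ 65647 Q65647 (allL N65647 (tt N35651 F366355) (tt N97116 (iv0 F415515)) (tt N80727 F345731) (tt N35650 (iv3 D125694)) (tt N58420 F202172) (tt N101992 (iv5 F435262)) (tt N36256 F202173) (tt N101980 (iv7 F435199)))
theorem Q65649 : ∀ i, i < 65649 → P i := stepQ 65648 Q65648 (allL N65648 (tt N67389 (iv1 F395242)) (tt N97751 (iv0 F418163)) (tt N60442 F202174) (tt N101992 (iv3 F435260)) (tt N102107 D205283) (tt N35650 (iv5 D125695)) (tt N74378 (iv6 F227656)) (tt N101981 (iv7 F435205)))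
theorem Q65650 : ∀ i, i < 65650 → P i := stepQ 65649 Q65649 (allL N65649 (tt N97116 (iv1 F415514)) (tt N35651 (iv0 D125696)) (tt N101980 (iv2 F435196)) (tt N46473 F345722) (tt N83770 F345721) (tt N60546 F202175) (tt N102108 D205284) (tt N80727 (iv7 F345725)))
theorem Q65651 : ∀ i, i < 65651 → P i := stepQ 65650 Q65650 (allL N65650 (tt N91963 (iv1 F395156)) (tt N54961 (iv0 F369671)) (tt N91962 (iv2 F395151)) (tt N102109 D205285) (tt N35651 (iv4 D125698)) (tt N102110 D205286) (tt N102031 (iv6 F435447)) (tt N91961 F395144))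
theorem Q65652 : ∀ i, i < 65652 → P i := stepQ 65651 Q65651 (allL N65651 (tt N80727 (iv1 F345729)) (tt N101980 (iv0 F435200)) (tt N97116 (iv2 F415510)) (tt N102104 (iv3 F435741)) (tt N91961 (iv4 F395142)) (tt N35652 F202176) (tt N102076 F435616) (tt N35651 (iv7 D125699)))
theorem Q65653 : ∀ i, i < 65653 → P i := stepQ 65652 Q65652 (allL N65652 (tt N56211 F202179) (tt N56214 (iv0 F202181)) (tt N56213 F202177) (tt N35654 (iv3 D125701)) (tt N59836 (iv4 F202180)) (tt N95747 (iv5 F409434)) (tt N99651 (iv6 F425589)) (tt N56212 F202178))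
theorem Q65654 : ∀ i, i < 65654 → P i := stepQ 65653 Q65653 (allL N65653 (tt N94114 F403278) (tt N72414 (iv0 F222470)) (tt N66036 (iv2 F203150)) (tt N99651 (iv3 F425588)) (tt N59522 F202184) (tt N58983 F202185) (tt N35654 (iv6 D125702)) (tt N72921 (iv7 F223593)))
theorem Q65655 : ∀ i, i < 65655 → P i := stepQ 65654 Q65654 (allL N65654 (tt N55614 (iv1 F202188)) (tt N35656 (iv0 D125703)) (tt N55613 F395473) (tt N56226 F202187) (tt N87716 (iv4 F380248)) (tt N102111 D205287) (tt N102112 D205288) (tt N55612 (iv7 F395471)))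
theorem Q65656 : ∀ i, i < 65656 → P i := stepQ 65655 Q65655 (allL N65655 (tt N35656 (iv1 D125704)) (tt N55614 F202193) (tt N55612 F395474) (tt N102113 D205289) (tt N87717 (iv4 F380250)) (tt N102114 D205290) (tt N99712 F425866) (tt N55613 F395475))
theorem Q65657 : ∀ i, i < 65657 → P i := stepQ 65656 Q65656 (allL N65656 (tt N55613 (iv1 F202194)) (tt N55612 F202192) (tt N35656 (iv2 D125705)) (tt N60421 F202189) (tt N58487 F202190) (tt N101978 (iv5 F435187)) (tt N67387 (iv6 F362946)) (tt N55614 F202191))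
theorem Q65658 : ∀ i, i < 65658 → P i := stepQ 65657 Q65657 (allL N65657 (tt N67198 F362934) (tt N67382 F395673) (tt N67387 F362944) (tt N35657 F202195) (tt N58489 F202196) (tt N67235 F395753) (tt N35656 (iv6 D125706)) (tt N55675 F202197))
theorem Q65659 : ∀ i, i < 65659 → P i := stepQ 65658 Q65658 (allL N65658 (tt N60686 (iv1 F202200)) (tt N60685 F202201) (tt N60439 F202198) (tt N67235 F395752) (tt N97755 (iv4 F418181)) (tt N35657 (iv5 D125707)) (tt N102070 (iv6 F435590)) (tt N55679 F202199))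
theorem Q65660 : ∀ i, i < 65660 → P i := stepQ 65659 Q65659 (allL N65659 (tt N60424 (iv1 F202206)) (tt N35788 (iv0 F202204)) (tt N58149 F204640) (tt N35658 (iv3 D125709)) (tt N57905 F202203) (tt N65592 F202205) (tt N67432 (iv6 F348808)) (tt N58152 (iv7 F204637)))
theorem Q65661 : ∀ i, i < 65661 → P i := stepQ 65660 Q65660 (allL N65660 (tt N58715 F202207) (tt N59953 F204655) (tt N59498 F204653) (tt N59071 (iv3 F361199)) (tt N35658 (iv4 D125710)) (tt N94856 (iv5 F406168)) (tt N59069 (iv6 F343552)) (tt N59952 F204642))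
theorem Q65662 : ∀ i, i < 65662 → P i := stepQ 65661 Q65661 (allL N65661 (tt N67209 (iv1 F358323)) (tt N60679 (iv0 F343554)) (tt N67392 F343548) (tt N67432 (iv3 F343549)) (tt N59069 F343551) (tt N102115 D205291) (tt N35658 (iv6 D125712)) (tt N60582 (iv7 F343550)))
theorem Q65663 : ∀ i, i < 65663 → P i := stepQ 65662 Q65662 (allL N65662 (tt N56221 F202213) (tt N56226 F395472) (tt N97651 (iv2 F417776)) (tt N35659 (iv3 D125714)) (tt N92086 (iv4 F395684)) (tt N102056 (iv5 F435539)) (tt N60583 (iv6 F343543)) (tt N67393 F343541))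
theorem Q65664 : ∀ i, i < 65664 → P i := stepQ 65663 Q65663 (allL N65663 (tt N59953 (iv1 F202214)) (tt N58715 (iv0 F202212)) (tt N59952 F204654) (tt N59352 F202211) (tt N35659 (iv4 D125715)) (tt N94691 (iv5 F405547)) (tt N60584 (iv6 F343546)) (tt N59498 F204645))
theorem Q65665 : ∀ i, i < 65665 → P i := stepQ 65664 Q65664 (allL N65664 (tt N65586 (iv1 F360429)) (tt N65582 F360420) (tt N35661 F202215) (tt N93110 F399528) (tt N94840 (iv4 F406120)) (tt N35660 (iv5 D125718)) (tt N95028 F406729) (tt N96643 (iv7 F413298)))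
theorem Q65666 : ∀ i, i < 65666 → P i := stepQ 65665 Q65665 (allL N65665 (tt N97598 (iv1 F417545)) (tt N97588 F417493) (tt N35662 F202216) (tt N101984 (iv3 F435221)) (tt N96345 (iv4 F412162)) (tt N102089 (iv5 F435668)) (tt N35660 (iv6 D125719)) (tt N97596 (iv7 F417530)))
theorem Q65667 : ∀ i, i < 65667 → P i := stepQ 65666 Q65666 (allL N65666 (tt N96643 (iv1 F413300)) (tt N35661 (iv0 D125720)) (tt N65586 (iv2 F360422)) (tt N94850 (iv3 F406135)) (tt N58136 F360418) (tt N65506 (iv5 F360423)) (tt N102116 D205292) (tt N65582 (iv7 F360421)))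
theorem Q65668 : ∀ i, i < 65668 → P i := stepQ 65667 Q65667 (allL N65667 (tt N35661 (iv1 D125721)) (tt N96643 (iv0 F413299)) (tt N65582 F360424) (tt N95814 (iv3 F416872)) (tt N65741 F360425) (tt N65507 F360426) (tt N35715 F360427) (tt N65586 F360428))
theorem Q65669 : ∀ i, i < 65669 → P i := stepQ 65668 Q65668 (allL N65668 (tt N102117 D205293) (tt N95224 (iv0 F407486)) (tt N94840 (iv2 F406119)) (tt N65582 F202217) (tt N35661 (iv4 D125722)) (tt N65580 (iv5 F202218)) (tt N96947 F414734) (tt N94850 (iv7 F406136)))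
theorem Q65670 : ∀ i, i < 65670 → P i := stepQ 65669 Q65669 (allL N65669 (tt N95026 (iv1 F406713)) (tt N35708 F360459) (tt N95028 F406728) (tt N35665 F202219) (tt N96947 (iv4 F414733)) (tt N57952 F360431) (tt N35661 (iv6 D125723)) (tt N95027 F406719))
theorem Q65671 : ∀ i, i < 65671 → P i := stepQ 65670 Q65670 (allL N65670 (tt N97596 (iv1 F417529)) (tt N35662 (iv0 D125724)) (tt N97598 (iv2 F417540)) (tt N102118 D205294) (tt N101568 F433414) (tt N97589 (iv5 F417501)) (tt N102119 D205295) (tt N97588 F417502))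
theorem Q65672 : ∀ i, i < 65672 → P i := stepQ 65671 Q65671 (allL N65671 (tt N97770 (iv1 F418242)) (tt N95817 (iv0 F409782)) (tt N102089 (iv2 F435667)) (tt N35668 F202220) (tt N81225 (iv4 F407490)) (tt N35662 (iv5 D125726)) (tt N57952 F360477) (tt N102120 D205296))
theorem Q65673 : ∀ i, i < 65673 → P i := stepQ 65672 Q65672 (allL N65672 (tt N97588 F417491) (tt N97598 F417544) (tt N97596 F417531) (tt N35669 F202221) (tt N64585 (iv4 F362846)) (tt N102120 (iv5 F435835)) (tt N96652 (iv6 F413339)) (tt N35662 (iv7 D125727)))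
theorem Q65674 : ∀ i, i < 65674 → P i := stepQ 65673 Q65673 (allL N65673 (tt N102111 (iv1 F435785)) (tt N102114 (iv0 F435800)) (tt N102121 D205297) (tt N35663 (iv3 D125728)) (tt N102122 D205298) (tt N59701 F202222) (tt N102123 D205299) (tt N65569 F202223))
theorem Q65675 : ∀ i, i < 65675 → P i := stepQ 65674 Q65674 (allL N65674 (tt N102124 D205300) (tt N102125 D205301) (tt N65578 F202224) (tt N102123 (iv3 F435847)) (tt N65571 F202225) (tt N97578 (iv5 F417439)) (tt N35663 (iv6 D125729)) (tt N102004 (iv7 F435322)))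
theorem Q65676 : ∀ i, i < 65676 → P i := stepQ 65675 Q65675 (allL N65675 (tt N60423 F364296) (tt N60426 F232044) (tt N102126 D205302) (tt N35664 (iv3 D125730)) (tt N102127 D205303) (tt N59994 F202226) (tt N101994 F435273) (tt N65576 F202227))
theorem Q65677 : ∀ i, i < 65677 → P i := stepQ 65676 Q65676 (allL N65676 (tt N101989 (iv1 F435246)) (tt N35665 (iv0 D125732)) (tt N93028 (iv2 F399167)) (tt N65571 (iv3 F366351)) (tt N37700 F360468) (tt N101993 (iv5 F435267)) (tt N65569 F366350) (tt N101987 (iv7 F435233)))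
theorem Q65678 : ∀ i, i < 65678 → P i := stepQ 65677 Q65677 (allL N65677 (tt N35665 (iv1 D125733)) (tt N101989 F435245) (tt N101987 F435235) (tt N102128 D205304) (tt N93029 (iv4 F399171)) (tt N102003 (iv5 F435318)) (tt N102129 D205305) (tt N93028 F399169))
theorem Q65679 : ∀ i, i < 65679 → P i := stepQ 65678 Q65678 (allL N65678 (tt N102130 D205306) (tt N102131 D205307) (tt N101988 (iv2 F435239)) (tt N57952 (iv3 F360476)) (tt N65619 (iv4 F360470)) (tt N35665 (iv5 D125734)) (tt N35668 F202230) (tt N102084 (iv7 F435647)))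
theorem Q65680 : ∀ i, i < 65680 → P i := stepQ 65679 Q65679 (allL N65679 (tt N101987 (iv1 F435232)) (tt N93028 F435238) (tt N101989 (iv2 F435242)) (tt N95027 (iv3 F406716)) (tt N65751 (iv4 F202340)) (tt N102084 (iv5 F435646)) (tt N93027 F399165) (tt N35665 (iv7 D125735)))
theorem Q65681 : ∀ i, i < 65681 → P i := stepQ 65680 Q65680 (allL N65680 (tt N74648 (iv1 F228472)) (tt N74645 (iv0 F228459)) (tt N101990 (iv2 F435247)) (tt N80444 F346881) (tt N102132 D205308) (tt N35666 (iv5 D125737)) (tt N102133 D205309) (tt N96894 (iv7 F414482)))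
theorem Q65682 : ∀ i, i < 65682 → P i := stepQ 65681 Q65681 (allL N65681 (tt N47765 F341716) (tt N47763 F341717) (tt N47761 F341719) (tt N35667 (iv3 D125738)) (tt N45770 F341718) (tt N97390 (iv5 F416671)) (tt N90427 (iv6 F389607)) (tt N47762 F341720))
theorem Q65683 : ∀ i, i < 65683 → P i := stepQ 65682 Q65682 (allL N65682 (tt N74645 (iv1 F228460)) (tt N74648 (iv0 F228471)) (tt N96894 (iv2 F414480)) (tt N97390 (iv3 F416669)) (tt N102134 D205310) (tt N35667 (iv5 D125739)) (tt N97388 F416663) (tt N101990 (iv7 F435249)))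
theorem Q65684 : ∀ i, i < 65684 → P i := stepQ 65683 Q65683 (allL N65683 (tt N94117 (iv1 F403289)) (tt N60684 (iv0 F202235)) (tt N96895 (iv2 F414486)) (tt N90427 F389606) (tt N56906 F202232) (tt N60769 (iv5 F202234)) (tt N35667 (iv6 D125740)) (tt N60576 F202233))
theorem Q65685 : ∀ i, i < 65685 → P i := stepQ 65684 Q65684 (allL N65684 (tt N35668 (iv1 D125741)) (tt N93957 (iv0 F402591)) (tt N97045 (iv2 F415197)) (tt N102135 D205311) (tt N97039 (iv4 F415153)) (tt N56980 F202237) (tt N102136 D205312) (tt N56979 F202236))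
theorem Q65686 : ∀ i, i < 65686 → P i := stepQ 65685 Q65685 (allL N65685 (tt N93969 (iv1 F402654)) (tt N93947 F402544) (tt N101991 (iv2 F435252)) (tt N102137 D205313) (tt N35668 (iv4 D125742)) (tt N93956 (iv5 F402585)) (tt N65619 F360475) (tt N102138 D205314))
theorem Q65687 : ∀ i, i < 65687 → P i := stepQ 65686 Q65686 (allL N65686 (tt N97045 (iv1 F415202)) (tt N56979 (iv0 F202239)) (tt N93957 (iv2 F402587)) (tt N102120 (iv3 F435834)) (tt N102138 (iv4 F435903)) (tt N35669 F202238) (tt N67342 (iv6 F364833)) (tt N35668 (iv7 D125743)))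
theorem Q65688 : ∀ i, i < 65688 → P i := stepQ 65687 Q65687 (allL N65687 (tt N60598 (iv1 F332912)) (tt N60597 F361393) (tt N47756 F332909) (tt N35670 (iv3 D125744)) (tt N65929 (iv4 F202896)) (tt N55653 F332899) (tt N65942 (iv6 F202937)) (tt N55652 (iv7 F332908)))
theorem Q65689 : ∀ i, i < 65689 → P i := stepQ 65688 Q65688 (allL N65688 (tt N74653 (iv1 F228480)) (tt N74651 (iv0 F228477)) (tt N66039 (iv2 F203156)) (tt N55653 (iv3 F332897)) (tt N91878 (iv4 F394803)) (tt N35670 (iv5 D125745)) (tt N60619 F332900) (tt N55651 F332901))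
theorem Q65690 : ∀ i, i < 65690 → P i := stepQ 65689 Q65689 (allL N65689 (tt N57063 F202241) (tt N74625 F228441) (tt N66040 (iv2 F203158)) (tt N102139 D205315) (tt N35671 (iv4 D125746)) (tt N93610 (iv5 F401253)) (tt N68727 (iv6 F211446)) (tt N57157 F202240))
theorem Q65691 : ∀ i, i < 65691 → P i := stepQ 65690 Q65690 (allL N65690 (tt N74651 (iv1 F228478)) (tt N74653 (iv0 F228479)) (tt N55651 (iv2 F332902)) (tt N47753 F326940) (tt N91877 (iv4 F394796)) (tt N35672 (iv5 D125747)) (tt N55650 F331157) (tt N66039 (iv7 F203157)))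
theorem Q65692 : ∀ i, i < 65692 → P i := stepQ 65691 Q65691 (allL N65691 (tt N93420 (iv1 F400680)) (tt N66018 F203088) (tt N93868 (iv2 F402211)) (tt N47754 F326941) (tt N35673 F202242) (tt N92062 (iv5 F395583)) (tt N35672 (iv6 D125748)) (tt N65117 F326942))
theorem Q65693 : ∀ i, i < 65693 → P i := stepQ 65692 Q65692 (allL N65692 (tt N35674 (iv1 D125749)) (tt N35681 F202243) (tt N35679 F202247) (tt N56216 (iv3 F202246)) (tt N59861 F202245) (tt N66147 (iv5 F203487)) (tt N56212 F202248) (tt N35678 F202244))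
theorem Q65694 : ∀ i, i < 65694 → P i := stepQ 65693 Q65693 (allL N65693 (tt N35679 (iv1 F202251)) (tt N35678 F202252) (tt N35681 F202249) (tt N69706 (iv3 F215922)) (tt N71036 (iv4 F219334)) (tt N57326 F202250) (tt N71669 (iv6 F220361)) (tt N35674 (iv7 D125750)))
theorem Q65695 : ∀ i, i < 65695 → P i := stepQ 65694 Q65694 (allL N65694 (tt N71029 (iv1 F219311)) (tt N35675 (iv0 D125751)) (tt N71028 (iv2 F349590)) (tt N91563 (iv3 F393666)) (tt N102002 (iv4 F435311)) (tt N59124 F349592) (tt N60609 (iv6 F349593)) (tt N59123 (iv7 F349591)))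
theorem Q65696 : ∀ i, i < 65696 → P i := stepQ 65695 Q65695 (allL N65695 (tt N71028 F219307) (tt N59123 F344594) (tt N35675 (iv2 D125753)) (tt N71033 (iv3 F219318)) (tt N35684 F202253) (tt N37251 F344595) (tt N86961 (iv6 F377866)) (tt N71029 (iv7 F219310)))
theorem Q65697 : ∀ i, i < 65697 → P i := stepQ 65696 Q65696 (allL N65696 (tt N55560 F362514) (tt N102140 D205316) (tt N86961 (iv2 F377865)) (tt N35677 F202255) (tt N35686 F202256) (tt N68376 F362513) (tt N35675 (iv6 D125755)) (tt N86958 (iv7 F377855)))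
theorem Q65698 : ∀ i, i < 65698 → P i := stepQ 65697 Q65697 (allL N65697 (tt N59743 F202258) (tt N59738 F202259) (tt N71035 (iv2 F219332)) (tt N68376 (iv3 F362512)) (tt N102141 D205317) (tt N35677 (iv5 D125757)) (tt N68375 F362511) (tt N96943 (iv7 F414709)))
theorem Q65699 : ∀ i, i < 65699 → P i := stepQ 65698 Q65698 (allL N65698 (tt N91292 (iv1 F392586)) (tt N91290 (iv0 F392578)) (tt N66044 (iv2 F203190)) (tt N72921 (iv3 F223592)) (tt N59920 F202260) (tt N72920 (iv5 F223590)) (tt N35678 (iv6 D125758)) (tt N99651 (iv7 F425590)))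
theorem Q65700 : ∀ i, i < 65700 → P i := stepQ 65699 Q65699 (allL N65699 (tt N57326 (iv1 F202267)) (tt N35680 (iv0 D125759)) (tt N36907 (iv2 F202265)) (tt N58942 F202263) (tt N37322 F202262) (tt N65549 F202261) (tt N56484 F202264) (tt N57325 F202266))
theorem Q65701 : ∀ i, i < 65701 → P i := stepQ 65700 Q65700 (allL N65700 (tt N59745 F202270) (tt N59739 F202271) (tt N57324 F202268) (tt N41308 F328439) (tt N35680 (iv4 D125760)) (tt N68150 F328440) (tt N35919 F202269) (tt N41304 F328441))
theorem Q65702 : ∀ i, i < 65702 → P i := stepQ 65701 Q65701 (allL N65701 (tt N57325 (iv1 F202276)) (tt N36907 F202277) (tt N57326 F202272) (tt N35695 F202273) (tt N41304 (iv4 F328039)) (tt N35681 F202274) (tt N36766 F202275) (tt N35680 (iv7 D125761)))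
theorem Q65703 : ∀ i, i < 65703 → P i := stepQ 65702 Q65702 (allL N65702 (tt N102113 (iv1 F435796)) (tt N97397 (iv0 F416714)) (tt N95668 (iv2 F409054)) (tt N35682 (iv3 D125762)) (tt N60370 F202278) (tt N102097 (iv5 F435705)) (tt N60600 (iv6 F358198)) (tt N101982 (iv7 F435212)))
theorem Q65704 : ∀ i, i < 65704 → P i := stepQ 65703 Q65703 (allL N65703 (tt N92090 (iv1 F395699)) (tt N68679 (iv0 F360766)) (tt N59908 F202279) (tt N95560 (iv3 F408650)) (tt N35682 (iv4 D125763)) (tt N67152 F344588) (tt N60601 (iv6 F358196)) (tt N67151 F349582))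
theorem Q65705 : ∀ i, i < 65705 → P i := stepQ 65704 Q65704 (allL N65704 (tt N35791 (iv1 F202284)) (tt N35785 F202285) (tt N35786 (iv2 F202283)) (tt N35683 (iv3 D125766)) (tt N52250 (iv4 F323927)) (tt N102099 (iv5 F435717)) (tt N82355 F333467) (tt N35787 F202281))
theorem Q65706 : ∀ i, i < 65706 → P i := stepQ 65705 Q65705 (allL N65705 (tt N60682 F333469) (tt N102142 D205318) (tt N101983 (iv2 F435215)) (tt N82355 (iv3 F333468)) (tt N95557 (iv4 F408644)) (tt N74664 (iv5 F349556)) (tt N35683 (iv6 D125768)) (tt N60605 F358195))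
theorem Q65707 : ∀ i, i < 65707 → P i := stepQ 65706 Q65706 (allL N65706 (tt N35702 F349584) (tt N65631 F349585) (tt N35685 F202286) (tt N96643 (iv3 F413297)) (tt N65749 (iv4 F360466)) (tt N35684 (iv5 D125769)) (tt N102143 D205319) (tt N93110 (iv7 F399520)))
theorem Q65708 : ∀ i, i < 65708 → P i := stepQ 65707 Q65707 (allL N65707 (tt N35685 (iv1 D125772)) (tt N93110 (iv0 F399521)) (tt N65631 F349553) (tt N101711 (iv3 F433995)) (tt N65713 F349554) (tt N65499 (iv5 F349557)) (tt N92945 F398860) (tt N35702 F349555))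
theorem Q65709 : ∀ i, i < 65709 → P i := stepQ 65708 Q65708 (allL N65708 (tt N60419 F360480) (tt N65751 F360482) (tt N65749 F360464) (tt N65727 (iv3 F202318)) (tt N35685 (iv4 D125773)) (tt N56419 (iv5 F349561)) (tt N102144 D205320) (tt N56418 F349562))
theorem Q65710 : ∀ i, i < 65710 → P i := stepQ 65709 Q65709 (allL N65709 (tt N97742 F435855) (tt N97745 (iv0 F435980)) (tt N102143 (iv2 F435928)) (tt N35687 F202288) (tt N102144 (iv4 F435929)) (tt N102145 D205322) (tt N35685 (iv6 D125774)) (tt N102146 D205323))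
theorem Q65711 : ∀ i, i < 65711 → P i := stepQ 65710 Q65710 (allL N65710 (tt N83012 F359014) (tt N56720 F359015) (tt N83011 F359012) (tt N35690 F202289) (tt N67881 F332791) (tt N35686 (iv5 D125777)) (tt N102145 (iv6 F435933)) (tt N83010 (iv7 F359008)))
theorem Q65712 : ∀ i, i < 65712 → P i := stepQ 65711 Q65711 (allL N65711 (tt N35687 (iv1 D125780)) (tt N93027 F399166) (tt N93029 (iv2 F399170)) (tt N102147 D205324) (tt N101987 (iv4 F435234)) (tt N37701 F342879) (tt N102147 F435937) (tt N37700 F342880))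
theorem Q65713 : ∀ i, i < 65713 → P i := stepQ 65712 Q65712 (allL N65712 (tt N67506 F332793) (tt N55674 (iv0 F342877)) (tt N92752 F398070) (tt N102145 (iv3 F435932)) (tt N56711 F332794) (tt N35687 (iv5 D125781)) (tt N35690 F202291) (tt N67345 F332795))
theorem Q65714 : ∀ i, i < 65714 → P i := stepQ 65713 Q65713 (allL N65713 (tt N93029 (iv1 F399174)) (tt N37700 F349559) (tt N93027 F399163) (tt N102146 (iv3 F435934)) (tt N65707 (iv4 F349554)) (tt N67345 F349560) (tt N101989 (iv6 F435244)) (tt N35687 (iv7 D125782)))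
theorem Q65715 : ∀ i, i < 65715 → P i := stepQ 65714 Q65714 (allL N65714 (tt N60681 (iv1 F202298)) (tt N97134 (iv0 F415617)) (tt N101992 (iv2 F435259)) (tt N46860 F345726) (tt N60420 F202296) (tt N80727 F345727) (tt N35688 (iv6 D125785)) (tt N60546 F202297))
theorem Q65716 : ∀ i, i < 65716 → P i := stepQ 65715 Q65715 (allL N65715 (tt N102112 (iv1 F435791)) (tt N102148 D205325) (tt N78400 (iv2 F358383)) (tt N35689 (iv3 D125786)) (tt N58663 F202299) (tt N65717 (iv5 F364822)) (tt N60540 F202300) (tt N74378 F364821))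
theorem Q65717 : ∀ i, i < 65717 → P i := stepQ 65716 Q65716 (allL N65716 (tt N52363 F327440) (tt N52362 F327441) (tt N48405 F327442) (tt N35693 (iv3 D125791)) (tt N65942 (iv4 F202936)) (tt N67237 F362766) (tt N65929 (iv6 F202897)) (tt N52364 F327443))
theorem Q65718 : ∀ i, i < 65718 → P i := stepQ 65717 Q65717 (allL N65717 (tt N93988 F402725) (tt N92670 F397825) (tt N97053 (iv2 F415228)) (tt N35694 (iv3 D125792)) (tt N41308 F364798) (tt N65715 F364822) (tt N36696 F202307) (tt N41305 F364799))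
theorem Q65719 : ∀ i, i < 65719 → P i := stepQ 65718 Q65718 (allL N65718 (tt N97396 (iv1 F416697)) (tt N97385 (iv0 F416644)) (tt N97379 (iv2 F416604)) (tt N89747 (iv3 F387408)) (tt N35696 (iv4 D125796)) (tt N102149 D205326) (tt N89745 F387397) (tt N97395 F416694))
theorem Q65720 : ∀ i, i < 65720 → P i := stepQ 65719 Q65719 (allL N65719 (tt N97424 (iv1 F416840)) (tt N35727 F416842) (tt N97426 F416849) (tt N96638 (iv3 F413279)) (tt N102150 D205327) (tt N35696 (iv5 D125797)) (tt N102150 (iv6 F436177)) (tt N97425 F416846))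
theorem Q65721 : ∀ i, i < 65721 → P i := stepQ 65720 Q65720 (allL N65720 (tt N97631 (iv1 F417688)) (tt N66015 (iv0 F378172)) (tt N97435 (iv2 F416896)) (tt N96639 (iv3 F413281)) (tt N89745 (iv4 F387394)) (tt N87047 F378171) (tt N35696 (iv6 D125798)) (tt N65946 F359810))
theorem Q65722 : ∀ i, i < 65722 → P i := stepQ 65721 Q65721 (allL N65721 (tt N97368 (iv1 F416542)) (tt N97370 (iv0 F416563)) (tt N96635 (iv2 F413269)) (tt N35697 (iv3 D125800)) (tt N65431 F353848) (tt N102151 D205329) (tt N65947 (iv6 F359811)) (tt N97434 (iv7 F416892)))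
theorem Q65723 : ∀ i, i < 65723 → P i := stepQ 65722 Q65722 (allL N65722 (tt N97385 (iv1 F416645)) (tt N97396 F416698) (tt N97395 F416692) (tt N65864 (iv3 F202671)) (tt N35697 (iv4 D125801)) (tt N102152 D205330) (tt N65948 (iv6 F348488)) (tt N97379 (iv7 F416606)))
theorem Q65724 : ∀ i, i < 65724 → P i := stepQ 65723 Q65723 (allL N65723 (tt N35727 F416579) (tt N97424 (iv0 F416841)) (tt N97425 F416845) (tt N102151 (iv3 F435947)) (tt N102153 D205331) (tt N35697 (iv5 D125802)) (tt N102154 D205332) (tt N97426 (iv7 F416848)))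
theorem Q65725 : ∀ i, i < 65725 → P i := stepQ 65724 Q65724 (allL N65724 (tt N97438 (iv1 F416914)) (tt N97437 F416909) (tt N35699 F202316) (tt N95026 (iv3 F406710)) (tt N102155 D205333) (tt N35698 (iv5 D125804)) (tt N79547 F360841) (tt N97436 (iv7 F416905)))
theorem Q65726 : ∀ i, i < 65726 → P i := stepQ 65725 Q65725 (allL N65725 (tt N97436 (iv1 F416907)) (tt N35699 (iv0 D125806)) (tt N97438 F416917) (tt N102156 D205334) (tt N82784 F416828) (tt N60406 F416829) (tt N102157 D205335) (tt N97437 F416912))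
theorem Q65727 : ∀ i, i < 65727 → P i := stepQ 65726 Q65726 (allL N65726 (tt N35699 (iv1 D125807)) (tt N97436 (iv0 F416906)) (tt N97437 F416911) (tt N102158 D205336) (tt N102159 D205337) (tt N60407 (iv5 F358966)) (tt N102117 (iv6 F435819)) (tt N97438 (iv7 F416915)))
theorem Q65728 : ∀ i, i < 65728 → P i := stepQ 65727 Q65727 (allL N65727 (tt N102160 D205338) (tt N102116 F435814) (tt N102155 (iv2 F435952)) (tt N65708 F202318) (tt N35699 (iv4 D125808)) (tt N92944 (iv5 F398855)) (tt N102161 D205339) (tt N92943 F398852))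
theorem Q65729 : ∀ i, i < 65729 → P i := stepQ 65728 Q65728 (allL N65728 (tt N35789 F349540) (tt N35794 F349541) (tt N79547 (iv2 F360840)) (tt N35702 F202319) (tt N102161 (iv4 F435978)) (tt N65633 F349542) (tt N35699 (iv6 D125809)) (tt N101711 (iv7 F433996)))
theorem Q65730 : ∀ i, i < 65730 → P i := stepQ 65729 Q65729 (allL N65729 (tt N35700 (iv1 D125811)) (tt N64088 (iv0 F341731)) (tt N66057 F341726) (tt N47796 F341727) (tt N101080 (iv4 F431573)) (tt N45388 F341728) (tt N102162 D205340) (tt N78744 F341729))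
theorem Q65731 : ∀ i, i < 65731 → P i := stepQ 65730 Q65730 (allL N65730 (tt N66057 F330154) (tt N78744 F330155) (tt N64088 F330156) (tt N35704 F202321) (tt N69678 F330157) (tt N48433 F330158) (tt N80059 F363212) (tt N35700 (iv7 D125813)))
theorem Q65732 : ∀ i, i < 65732 → P i := stepQ 65731 Q65731 (allL N65731 (tt N102001 F435310) (tt N65571 (iv0 F366359)) (tt N102000 F435305) (tt N35701 (iv3 D125814)) (tt N97000 (iv4 F414979)) (tt N57951 F202322) (tt N60677 F366360) (tt N65558 F202323))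
theorem Q65733 : ∀ i, i < 65733 → P i := stepQ 65732 Q65732 (allL N65732 (tt N102163 D205341) (tt N102027 (iv0 F435424)) (tt N60019 F202324) (tt N60677 (iv3 F366361)) (tt N58833 F202325) (tt N60676 F366365) (tt N35701 (iv6 D125815)) (tt N102164 D205342))
theorem Q65734 : ∀ i, i < 65734 → P i := stepQ 65733 Q65733 (allL N65733 (tt N35703 (iv1 D125820)) (tt N93614 (iv0 F401280)) (tt N93971 (iv2 F402660)) (tt N47743 F325925) (tt N93947 (iv4 F402541)) (tt N41520 F202329) (tt N97842 F418466) (tt N41519 F202328))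
theorem Q65735 : ∀ i, i < 65735 → P i := stepQ 65734 Q65734 (allL N65734 (tt N93622 (iv1 F401310)) (tt N93607 F401266) (tt N95032 (iv2 F406732)) (tt N58441 F356155) (tt N35703 (iv4 D125821)) (tt N93611 (iv5 F401265)) (tt N58440 (iv6 F356156)) (tt N79485 (iv7 F356157)))
theorem Q65736 : ∀ i, i < 65736 → P i := stepQ 65735 Q65735 (allL N65735 (tt N93971 (iv1 F402665)) (tt N41519 (iv0 F202331)) (tt N93614 (iv2 F401277)) (tt N48433 F330150) (tt N79485 F330151) (tt N35704 F202330) (tt N69137 F358170) (tt N35703 (iv7 D125822)))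
theorem Q65737 : ∀ i, i < 65737 → P i := stepQ 65736 Q65736 (allL N65736 (tt N101993 F435271) (tt N102003 F435321) (tt N102002 F435313) (tt N35705 (iv3 D125824)) (tt N71028 F219306) (tt N102165 D205343) (tt N65965 (iv6 F355939)) (tt N92532 (iv7 F397273)))
theorem Q65738 : ∀ i, i < 65738 → P i := stepQ 65737 Q65737 (allL N65737 (tt N94787 (iv1 F405942)) (tt N35729 F355943) (tt N94789 F405956) (tt N102165 (iv3 F435999)) (tt N65774 F202375) (tt N35705 (iv5 D125825)) (tt N102166 D205344) (tt N94788 F405952))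
theorem Q65739 : ∀ i, i < 65739 → P i := stepQ 65738 Q65738 (allL N65738 (tt N95451 (iv1 F408238)) (tt N35714 F405756) (tt N102167 D205345) (tt N35706 (iv3 D125828)) (tt N95140 (iv4 F407207)) (tt N97432 (iv5 F416882)) (tt N102168 D205346) (tt N95025 (iv7 F406706)))
theorem Q65740 : ∀ i, i < 65740 → P i := stepQ 65739 Q65739 (allL N65739 (tt N35729 F355982) (tt N94787 (iv0 F405948)) (tt N94788 F405951) (tt N97432 (iv3 F416885)) (tt N102169 D205347) (tt N35706 (iv5 D125829)) (tt N102170 D205348) (tt N94789 (iv7 F405954)))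
theorem Q65741 : ∀ i, i < 65741 → P i := stepQ 65740 Q65740 (allL N65740 (tt N37202 F355971) (tt N37186 F355972) (tt N95024 (iv2 F406700)) (tt N102168 (iv3 F436012)) (tt N67065 (iv4 F355974)) (tt N68968 F355973) (tt N35706 (iv6 D125830)) (tt N65969 F355947))
theorem Q65742 : ∀ i, i < 65742 → P i := stepQ 65741 Q65741 (allL N65741 (tt N95028 (iv1 F406725)) (tt N95027 F406717) (tt N35708 F202334) (tt N97436 (iv3 F416904)) (tt N65667 (iv4 F360425)) (tt N35707 (iv5 D125831)) (tt N65760 F360416) (tt N95026 (iv7 F406711)))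
theorem Q65743 : ∀ i, i < 65743 → P i := stepQ 65742 Q65742 (allL N65742 (tt N102171 D205349) (tt N97594 (iv0 F417522)) (tt N35709 F202335) (tt N80056 F360223) (tt N94714 (iv4 F405642)) (tt N102172 D205350) (tt N35707 (iv6 D125832)) (tt N102173 D205351))
theorem Q65744 : ∀ i, i < 65744 → P i := stepQ 65743 Q65743 (allL N65743 (tt N35708 (iv1 D125834)) (tt N95026 (iv0 F406714)) (tt N95027 (iv2 F406722)) (tt N102174 D205352) (tt N102175 D205353) (tt N57953 (iv5 F386117)) (tt N92750 (iv6 F418937)) (tt N95028 (iv7 F406726)))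
theorem Q65745 : ∀ i, i < 65745 → P i := stepQ 65744 Q65744 (allL N65744 (tt N102176 D205354) (tt N102161 F435979) (tt N65760 (iv2 F360399)) (tt N35710 F202336) (tt N59947 F360398) (tt N65993 (iv5 F360397)) (tt N35708 (iv6 D125835)) (tt N65765 (iv7 F360401)))
theorem Q65746 : ∀ i, i < 65746 → P i := stepQ 65745 Q65745 (allL N65745 (tt N102173 (iv1 F436038)) (tt N35709 (iv0 D125836)) (tt N102171 F436021) (tt N102177 D205355) (tt N80561 F364837) (tt N97512 (iv5 F417180)) (tt N82343 (iv6 F386116)) (tt N97594 (iv7 F417520)))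
theorem Q65747 : ∀ i, i < 65747 → P i := stepQ 65746 Q65746 (allL N65746 (tt N35709 (iv1 D125837)) (tt N102173 F436037) (tt N97594 (iv2 F417518)) (tt N80419 (iv3 F365755)) (tt N80562 (iv4 F365754)) (tt N97513 (iv5 F417202)) (tt N97586 (iv6 F417478)) (tt N102171 (iv7 F436022)))
theorem Q65748 : ∀ i, i < 65748 → P i := stepQ 65747 Q65747 (allL N65747 (tt N102178 D205356) (tt N56558 F399378) (tt N102172 (iv2 F436027)) (tt N35711 F202337) (tt N65994 (iv4 F360390)) (tt N35709 (iv5 D125838)) (tt N65993 F360395) (tt N68747 (iv7 F360393)))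
theorem Q65749 : ∀ i, i < 65749 → P i := stepQ 65748 Q65748 (allL N65748 (tt N97594 F417521) (tt N102171 F436024) (tt N102173 (iv2 F436033)) (tt N35712 F202338) (tt N94720 (iv4 F405660)) (tt N68747 F360394) (tt N93613 (iv6 F401275)) (tt N35709 (iv7 D125839)))
theorem Q65750 : ∀ i, i < 65750 → P i := stepQ 65749 Q65749 (allL N65749 (tt N35710 (iv1 D125841)) (tt N92945 F398858) (tt N65708 (iv2 F360464)) (tt N102124 F435853) (tt N65706 F360466) (tt N56591 (iv5 F360465)) (tt N102179 D205357) (tt N56590 F360461))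
theorem Q65751 : ∀ i, i < 65751 → P i := stepQ 65750 Q65750 (allL N65750 (tt N68836 (iv1 F360471)) (tt N93669 (iv0 F401505)) (tt N68746 (iv2 F360469)) (tt N65993 (iv3 F360396)) (tt N56532 F360467) (tt N35710 (iv5 D125842)) (tt N35711 F202339) (tt N102180 D205358))
theorem Q65752 : ∀ i, i < 65752 → P i := stepQ 65751 Q65751 (allL N65751 (tt N65708 (iv1 F360482)) (tt N56590 F360483) (tt N92945 F398857) (tt N65765 F360402) (tt N65679 F202340) (tt N102180 (iv5 F436066)) (tt N65631 F349547) (tt N35710 (iv7 D125843)))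
theorem Q65753 : ∀ i, i < 65753 → P i := stepQ 65752 Q65752 (allL N65752 (tt N35722 F202346) (tt N35721 F202347) (tt N35725 F202344) (tt N65802 (iv3 F202397)) (tt N92757 (iv4 F398093)) (tt N35713 (iv5 D125846)) (tt N97940 (iv6 F418888)) (tt N35720 F202345))
theorem Q65754 : ∀ i, i < 65754 → P i := stepQ 65753 Q65753 (allL N65753 (tt N65907 (iv1 F202831)) (tt N65906 F202830) (tt N35726 F202348) (tt N36796 F330427) (tt N35784 F202349) (tt N67165 F330428) (tt N35713 (iv6 D125847)) (tt N65904 (iv7 F202801)))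
theorem Q65755 : ∀ i, i < 65755 → P i := stepQ 65754 Q65754 (allL N65754 (tt N35714 (iv1 D125849)) (tt N95451 F408239) (tt N95025 (iv2 F408240)) (tt N102002 (iv3 F435312)) (tt N96854 (iv4 F414272)) (tt N97431 (iv5 F416870)) (tt N65980 F408241) (tt N102167 (iv7 F436009)))
theorem Q65756 : ∀ i, i < 65756 → P i := stepQ 65755 Q65755 (allL N65755 (tt N102167 (iv1 F436010)) (tt N95025 (iv0 F406707)) (tt N35714 (iv2 D125850)) (tt N96634 F413268) (tt N44150 F202350) (tt N102181 D205359) (tt N102182 D205360) (tt N95451 (iv7 F408237)))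
theorem Q65757 : ∀ i, i < 65757 → P i := stepQ 65756 Q65756 (allL N65756 (tt N102174 F436041) (tt N101985 (iv0 F435698)) (tt N102181 (iv2 F436070)) (tt N35715 F202351) (tt N102183 D205361) (tt N35714 (iv5 D125851)) (tt N95814 F416871) (tt N102184 D205362))
theorem Q65758 : ∀ i, i < 65758 → P i := stepQ 65757 Q65757 (allL N65757 (tt N71603 F394723) (tt N102185 D205363) (tt N102182 (iv2 F436072)) (tt N35716 F202352) (tt N62666 F346882) (tt N67474 F365658) (tt N35714 (iv6 D125852)) (tt N80229 F326457))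
theorem Q65759 : ∀ i, i < 65759 → P i := stepQ 65758 Q65758 (allL N65758 (tt N95025 F406708) (tt N102167 F436011) (tt N95451 (iv2 F408235)) (tt N35717 F202353) (tt N44151 F202354) (tt N102184 (iv5 F436079)) (tt N51618 (iv6 F365910)) (tt N35714 (iv7 D125853)))
theorem Q65760 : ∀ i, i < 65760 → P i := stepQ 65759 Q65759 (allL N65759 (tt N35719 (iv1 F202357)) (tt N35715 (iv0 D125854)) (tt N58476 (iv2 F202356)) (tt N102000 (iv3 F435306)) (tt N102186 D205364) (tt N58474 F202355) (tt N102187 D205365) (tt N95810 (iv7 F409762)))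
theorem Q65761 : ∀ i, i < 65761 → P i := stepQ 65760 Q65760 (allL N65760 (tt N102188 D205366) (tt N102189 D205367) (tt N65744 F360399) (tt N102190 D205368) (tt N35715 (iv4 D125855)) (tt N92776 (iv5 F398172)) (tt N65741 (iv6 F360416)) (tt N102191 D205369))
theorem Q65762 : ∀ i, i < 65762 → P i := stepQ 65761 Q65761 (allL N65761 (tt N95810 (iv1 F409764)) (tt N58476 (iv0 F202360)) (tt N35719 F202358) (tt N102184 (iv3 F436078)) (tt N102191 (iv4 F436106)) (tt N35717 F202359) (tt N102160 (iv6 F435974)) (tt N35715 (iv7 D125857)))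
theorem Q65763 : ∀ i, i < 65763 → P i := stepQ 65762 Q65762 (allL N65762 (tt N47751 F326458) (tt N47743 F326459) (tt N65583 (iv2 F360406)) (tt N67474 (iv3 F365657)) (tt N96448 (iv4 F412564)) (tt N35716 (iv5 D125860)) (tt N65507 F360410) (tt N80230 F326460))
theorem Q65764 : ∀ i, i < 65764 → P i := stepQ 65763 Q65763 (allL N65763 (tt N96343 F412154) (tt N96340 (iv0 F412136)) (tt N35718 (iv2 D125864)) (tt N95451 F408242) (tt N95706 (iv4 F409224)) (tt N102175 (iv5 F436044)) (tt N80425 F365909) (tt N96634 (iv7 F413267)))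
theorem Q65765 : ∀ i, i < 65765 → P i := stepQ 65764 Q65764 (allL N65764 (tt N102192 D205370) (tt N102156 F435959) (tt N102175 (iv2 F436042)) (tt N35719 F202362) (tt N95027 (iv4 F406715)) (tt N35718 (iv5 D125865)) (tt N102193 D205371) (tt N96947 (iv7 F414732)))
theorem Q65766 : ∀ i, i < 65766 → P i := stepQ 65765 Q65765 (allL N65765 (tt N102189 (iv1 F436098)) (tt N102188 F436097) (tt N102191 (iv2 F436105)) (tt N65751 (iv3 F360402)) (tt N35719 (iv4 D125867)) (tt N92773 (iv5 F398162)) (tt N102092 (iv6 F435685)) (tt N65744 F360401))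
theorem Q65767 : ∀ i, i < 65767 → P i := stepQ 65766 Q65766 (allL N65766 (tt N92943 F398851) (tt N102155 (iv0 F435954)) (tt N102160 F435973) (tt N102193 (iv3 F436117)) (tt N102092 (iv4 F435683)) (tt N80427 F366009) (tt N35719 (iv6 D125868)) (tt N102116 (iv7 F435812)))
theorem Q65768 : ∀ i, i < 65768 → P i := stepQ 65767 Q65767 (allL N65767 (tt N35725 (iv1 F202365)) (tt N35720 (iv0 D125873)) (tt N35721 (iv2 F202366)) (tt N102194 D205372) (tt N65783 (iv4 F360445)) (tt N48491 F326398) (tt N88285 (iv6 F382461)) (tt N35722 (iv7 F202367)))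
theorem Q65769 : ∀ i, i < 65769 → P i := stepQ 65768 Q65768 (allL N65768 (tt N35720 (iv1 D125874)) (tt N35725 F202368) (tt N35722 (iv2 F202371)) (tt N35730 F356042) (tt N65784 (iv4 F360433)) (tt N58829 F202370) (tt N35729 F356043) (tt N35721 F202369))
theorem Q65770 : ∀ i, i < 65770 → P i := stepQ 65769 Q65769 (allL N65769 (tt N102195 D205373) (tt N102196 D205374) (tt N35723 F202372) (tt N92762 (iv3 F398112)) (tt N35720 (iv4 D125875)) (tt N35860 F202373) (tt N95669 (iv6 F409061)) (tt N92757 (iv7 F398094)))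
theorem Q65771 : ∀ i, i < 65771 → P i := stepQ 65770 Q65770 (allL N65770 (tt N65772 (iv1 F360449)) (tt N65775 (iv0 F349597)) (tt N35724 F202374) (tt N97469 F416986) (tt N95669 (iv4 F409063)) (tt N65991 (iv5 F203031)) (tt N35720 (iv6 D125876)) (tt N102197 D205375))
theorem Q65772 : ∀ i, i < 65772 → P i := stepQ 65771 Q65771 (allL N65771 (tt N97432 (iv1 F416880)) (tt N97431 F416874) (tt N97433 (iv2 F416886)) (tt N35721 (iv3 D125877)) (tt N65603 F356045) (tt N71734 F220430) (tt N94796 (iv6 F405974)) (tt N35730 F356046))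
theorem Q65773 : ∀ i, i < 65773 → P i := stepQ 65772 Q65772 (allL N65772 (tt N65785 (iv1 F360484)) (tt N65770 F360449) (tt N65783 F360446) (tt N102198 D205376) (tt N35721 (iv4 D125878)) (tt N95676 (iv5 F409100)) (tt N102199 D205377) (tt N65784 F360435))
theorem Q65774 : ∀ i, i < 65774 → P i := stepQ 65773 Q65773 (allL N65773 (tt N65593 F360409) (tt N102200 D205378) (tt N88285 (iv2 F382460)) (tt N94796 (iv3 F405972)) (tt N102199 (iv4 F436145)) (tt N79680 (iv5 F366006)) (tt N35721 (iv6 D125879)) (tt N94791 (iv7 F405963)))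
theorem Q65775 : ∀ i, i < 65775 → P i := stepQ 65774 Q65774 (allL N65774 (tt N96636 F417258) (tt N96638 (iv0 F413280)) (tt N97428 (iv2 F416854)) (tt N35722 (iv3 D125880)) (tt N65737 (iv4 F202375)) (tt N95440 (iv5 F408190)) (tt N97424 (iv6 F416838)) (tt N102194 (iv7 F436123)))
theorem Q65776 : ∀ i, i < 65776 → P i := stepQ 65775 Q65775 (allL N65775 (tt N65770 F349597) (tt N65785 F349598) (tt N65784 F360434) (tt N68675 (iv3 F349596)) (tt N35722 (iv4 D125881)) (tt N68674 F349573) (tt N96649 (iv6 F413326)) (tt N65783 F360448))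
theorem Q65777 : ∀ i, i < 65777 → P i := stepQ 65776 Q65776 (allL N65776 (tt N94789 (iv1 F405953)) (tt N94788 F405949) (tt N35729 F356040) (tt N97424 (iv3 F416837)) (tt N96649 (iv4 F413328)) (tt N65626 F356041) (tt N35722 (iv6 D125882)) (tt N94787 (iv7 F405940)))
theorem Q65778 : ∀ i, i < 65778 → P i := stepQ 65777 Q65777 (allL N65777 (tt N92757 (iv1 F398095)) (tt N35723 (iv0 D125883)) (tt N102195 F436128) (tt N102201 D205379) (tt N83571 F366142) (tt N97696 (iv5 F417941)) (tt N102202 D205380) (tt N102196 (iv7 F436132)))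
theorem Q65779 : ∀ i, i < 65779 → P i := stepQ 65778 Q65778 (allL N65778 (tt N35723 (iv1 D125884)) (tt N92757 (iv0 F398096)) (tt N102196 F436136) (tt N102203 D205381) (tt N82349 (iv4 F360443)) (tt N102204 D205382) (tt N102205 D205383) (tt N102195 F436129))
theorem Q65780 : ∀ i, i < 65780 → P i := stepQ 65779 Q65779 (allL N65779 (tt N102206 D205384) (tt N102207 D205385) (tt N102098 (iv2 F435709)) (tt N35723 (iv3 D125885)) (tt N35731 F202376) (tt N102208 D205386) (tt N101967 (iv6 F435130)) (tt N65539 (iv7 F202377)))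
theorem Q65781 : ∀ i, i < 65781 → P i := stepQ 65780 Q65780 (allL N65780 (tt N82781 F359712) (tt N92755 F398083) (tt N35860 F202378) (tt N102208 (iv3 F436191)) (tt N35857 F202379) (tt N35723 (iv5 D125886)) (tt N66050 (iv6 F360439)) (tt N92756 (iv7 F398087)))
theorem Q65782 : ∀ i, i < 65782 → P i := stepQ 65781 Q65781 (allL N65781 (tt N83571 (iv1 F360442)) (tt N82349 (iv0 F360441)) (tt N95669 (iv2 F409060)) (tt N101967 F435128) (tt N35724 F202380) (tt N35787 F360438) (tt N35723 (iv6 D125887)) (tt N102099 (iv7 F435719)))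
theorem Q65783 : ∀ i, i < 65783 → P i := stepQ 65782 Q65782 (allL N65782 (tt N102196 (iv1 F436131)) (tt N102195 F436127) (tt N92757 (iv2 F398091)) (tt N65539 F202381) (tt N35725 F202382) (tt N92756 (iv5 F398090)) (tt N65808 (iv6 F398106)) (tt N35723 (iv7 D125888)))
theorem Q65784 : ∀ i, i < 65784 → P i := stepQ 65783 Q65783 (allL N65783 (tt N102197 (iv1 F436142)) (tt N35724 (iv0 D125889)) (tt N65772 (iv2 F360446)) (tt N93030 (iv3 F399176)) (tt N65767 F360445) (tt N65984 (iv5 F360447)) (tt N102209 D205387) (tt N65775 (iv7 F360448)))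
theorem Q65785 : ∀ i, i < 65785 → P i := stepQ 65784 Q65784 (allL N65784 (tt N35724 (iv1 D125890)) (tt N102197 F436141) (tt N65775 (iv2 F360434)) (tt N102059 (iv3 F435548)) (tt N65768 F360433) (tt N65989 (iv5 F360436)) (tt N65590 (iv6 F360432)) (tt N65772 (iv7 F360435)))
theorem Q65786 : ∀ i, i < 65786 → P i := stepQ 65785 Q65785 (allL N65785 (tt N65775 (iv1 F349598)) (tt N65772 F360484) (tt N102197 (iv2 F436137)) (tt N35735 F202383) (tt N102099 (iv4 F435716)) (tt N66001 (iv5 F203035)) (tt N102210 D205388) (tt N35724 (iv7 D125891)))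
theorem Q65787 : ∀ i, i < 65787 → P i := stepQ 65786 Q65786 (allL N65786 (tt N92760 (iv1 F398103)) (tt N56260 (iv0 F397950)) (tt N97940 (iv2 F418886)) (tt N35736 F202384) (tt N65808 (iv4 F398104)) (tt N92714 F397949) (tt N35725 (iv6 D125892)) (tt N102210 (iv7 F436204)))
theorem Q65788 : ∀ i, i < 65788 → P i := stepQ 65787 Q65787 (allL N65787 (tt N65904 (iv1 F202803)) (tt N35726 (iv0 D125893)) (tt N65907 F330420) (tt N102211 D205389) (tt N45879 F330421) (tt N39019 F330422) (tt N45878 F330423) (tt N65906 (iv7 F330432)))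
theorem Q65789 : ∀ i, i < 65789 → P i := stepQ 65788 Q65788 (allL N65788 (tt N35726 (iv1 D125894)) (tt N65904 F202802) (tt N65906 (iv2 F330429)) (tt N102212 D205390) (tt N51607 (iv4 F327885)) (tt N39018 F330398) (tt N51606 (iv6 F330411)) (tt N65907 F330414))
theorem Q65790 : ∀ i, i < 65790 → P i := stepQ 65789 Q65789 (allL N65789 (tt N67260 F360022) (tt N67259 F360027) (tt N67165 F360026) (tt N35737 F202386) (tt N69359 (iv4 F360025)) (tt N35726 (iv5 D125895)) (tt N92714 (iv6 F397945)) (tt N65908 (iv7 F202834)))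
theorem Q65791 : ∀ i, i < 65791 → P i := stepQ 65790 Q65790 (allL N65790 (tt N97426 (iv1 F416847)) (tt N97425 F416844) (tt N35727 (iv2 D125898)) (tt N94787 (iv3 F405939)) (tt N102213 D205391) (tt N65553 F202387) (tt N102214 D205392) (tt N97424 (iv7 F416839)))
theorem Q65792 : ∀ i, i < 65792 → P i := stepQ 65791 Q65791 (allL N65791 (tt N65810 F395500) (tt N92761 (iv0 F435708)) (tt N102213 (iv2 F436216)) (tt N65638 F202388) (tt N35727 (iv4 D125899)) (tt N102215 D205393) (tt N102216 D205394) (tt N97427 (iv7 F416851)))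
theorem Q65793 : ∀ i, i < 65793 → P i := stepQ 65792 Q65792 (allL N65792 (tt N88355 F382720) (tt N102217 D205395) (tt N102214 (iv2 F436222)) (tt N35728 F202389) (tt N102216 (iv4 F436234)) (tt N102218 D205396) (tt N35727 (iv6 D125900)) (tt N102219 D205397))
theorem Q65794 : ∀ i, i < 65794 → P i := stepQ 65793 Q65793 (allL N65793 (tt N94796 F405978) (tt N35728 (iv0 D125901)) (tt N94794 (iv2 F416875)) (tt N65503 (iv3 F349552)) (tt N65797 F411043) (tt N102220 D205398) (tt N65501 F349551) (tt N94795 F416879))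
theorem Q65795 : ∀ i, i < 65795 → P i := stepQ 65794 Q65794 (allL N65794 (tt N35728 (iv1 D125902)) (tt N94796 F405976) (tt N94795 F416878) (tt N102200 F436152) (tt N65798 (iv4 F405977)) (tt N102221 D205399) (tt N102222 D205400) (tt N94794 (iv7 F416877)))
theorem Q65796 : ∀ i, i < 65796 → P i := stepQ 65795 Q65795 (allL N65795 (tt N93087 (iv1 F399426)) (tt N37780 F360462) (tt N93084 F399409) (tt N102218 (iv3 F436236)) (tt N56459 (iv4 F332823)) (tt N35728 (iv5 D125903)) (tt N65554 F202390) (tt N93085 (iv7 F399414)))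
theorem Q65797 : ∀ i, i < 65797 → P i := stepQ 65796 Q65796 (allL N65796 (tt N94795 (iv1 F405970)) (tt N94794 F405975) (tt N94796 (iv2 F405971)) (tt N102219 (iv3 F436239)) (tt N65645 F202391) (tt N93085 F399418) (tt N97433 (iv6 F416888)) (tt N35728 (iv7 D125904)))
theorem Q65798 : ∀ i, i < 65798 → P i := stepQ 65797 Q65797 (allL N65797 (tt N97433 (iv1 F416890)) (tt N35730 (iv0 D125909)) (tt N97431 F416873) (tt N94789 (iv3 F411042)) (tt N65793 (iv4 F411043)) (tt N95025 F411038) (tt N101968 (iv6 F435133)) (tt N97432 (iv7 F416881)))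
theorem Q65799 : ∀ i, i < 65799 → P i := stepQ 65798 Q65798 (allL N65798 (tt N35730 (iv1 D125910)) (tt N97433 F416889) (tt N97432 F416884) (tt N97477 (iv3 F417009)) (tt N65794 F405977) (tt N102167 (iv5 F436008)) (tt N97476 F417010) (tt N97431 F416876))
theorem Q65800 : ∀ i, i < 65800 → P i := stepQ 65799 Q65799 (allL N65799 (tt N94785 F405933) (tt N102223 D205401) (tt N71731 F356050) (tt N58829 F356044) (tt N59703 (iv4 F356049)) (tt N35730 (iv5 D125911)) (tt N65628 F202394) (tt N71734 F356048))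
theorem Q65801 : ∀ i, i < 65801 → P i := stepQ 65800 Q65800 (allL N65800 (tt N65536 (iv1 F202396)) (tt N35731 (iv0 D125913)) (tt N65538 (iv2 F405926)) (tt N102224 D205402) (tt N102225 D205403) (tt N65555 F361381) (tt N102226 D205404) (tt N65537 (iv7 F405927)))
theorem Q65802 : ∀ i, i < 65802 → P i := stepQ 65801 Q65801 (allL N65801 (tt N35731 (iv1 D125914)) (tt N65536 F202401) (tt N65537 F405921) (tt N102073 (iv3 F435601)) (tt N102069 (iv4 F435584)) (tt N65556 F405918) (tt N101970 (iv6 F435147)) (tt N65538 F405925))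
theorem Q65803 : ∀ i, i < 65803 → P i := stepQ 65802 Q65802 (allL N65802 (tt N65538 (iv1 F202402)) (tt N65537 F202400) (tt N35731 (iv2 D125915)) (tt N65752 F202397) (tt N102098 (iv4 F435711)) (tt N65525 F202398) (tt N68670 (iv6 F362925)) (tt N65536 F202399))
theorem Q65804 : ∀ i, i < 65804 → P i := stepQ 65803 Q65803 (allL N65803 (tt N102105 F435749) (tt N102227 D205405) (tt N68670 F362926) (tt N35732 F202403) (tt N101967 (iv4 F435129)) (tt N36748 F362927) (tt N35731 (iv6 D125916)) (tt N68668 F362928))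
theorem Q65805 : ∀ i, i < 65805 → P i := stepQ 65804 Q65804 (allL N65804 (tt N65814 (iv1 F202413)) (tt N35732 (iv0 D125917)) (tt N65815 F395513) (tt N102057 (iv3 F435543)) (tt N60436 (iv4 F395518)) (tt N102228 D205406) (tt N102056 F435541) (tt N65816 F395511))
theorem Q65806 : ∀ i, i < 65806 → P i := stepQ 65805 Q65805 (allL N65805 (tt N35732 (iv1 D125918)) (tt N65814 F202412) (tt N65816 (iv2 F395510)) (tt N102229 D205407) (tt N60437 F395509) (tt N102230 D205408) (tt N68672 (iv6 F360463)) (tt N65815 (iv7 F395512)))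
theorem Q65807 : ∀ i, i < 65807 → P i := stepQ 65806 Q65806 (allL N65806 (tt N102231 D205409) (tt N102232 D205410) (tt N65817 (iv2 F202416)) (tt N36748 F343577) (tt N69003 F343578) (tt N35732 (iv5 D125919)) (tt N36746 F343579) (tt N68667 F343580))
theorem Q65808 : ∀ i, i < 65808 → P i := stepQ 65807 Q65807 (allL N65807 (tt N65816 (iv1 F202415)) (tt N65815 F202414) (tt N65814 (iv2 F202409)) (tt N68668 (iv3 F362929)) (tt N35735 F202405) (tt N68667 F362930) (tt N65543 F202406) (tt N35732 (iv7 D125920)))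
theorem Q65809 : ∀ i, i < 65809 → P i := stepQ 65808 Q65808 (allL N65808 (tt N102233 D205411) (tt N102154 F435951) (tt N102234 D205412) (tt N35733 (iv3 D125922)) (tt N65786 F398104) (tt N56246 F398105) (tt N65782 F398106) (tt N102014 (iv7 F435346)))
theorem Q65810 : ∀ i, i < 65810 → P i := stepQ 65809 Q65809 (allL N65809 (tt N102235 D205413) (tt N97643 (iv0 F417744)) (tt N102013 (iv2 F435341)) (tt N56246 F398109) (tt N97918 (iv4 F418800)) (tt N35733 (iv5 D125924)) (tt N102236 D205414) (tt N102015 (iv7 F435352)))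
theorem Q65811 : ∀ i, i < 65811 → P i := stepQ 65810 Q65810 (allL N65810 (tt N102166 (iv1 F436005)) (tt N65791 (iv0 F395500)) (tt N102237 D205415) (tt N35734 (iv3 D125927)) (tt N102238 D205416) (tt N102239 D205417) (tt N102240 D205418) (tt N102012 (iv7 F435337)))
theorem Q65812 : ∀ i, i < 65812 → P i := stepQ 65811 Q65811 (allL N65811 (tt N65599 F377847) (tt N97472 F417000) (tt N97470 (iv2 F416993)) (tt N102197 (iv3 F436138)) (tt N35734 (iv4 D125928)) (tt N102241 D205419) (tt N92946 (iv6 F398865)) (tt N97469 F416988))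
theorem Q65813 : ∀ i, i < 65813 → P i := stepQ 65812 Q65812 (allL N65812 (tt N97643 (iv1 F435345)) (tt N102235 F436297) (tt N102015 (iv2 F435349)) (tt N102239 (iv3 F436311)) (tt N97914 (iv4 F418776)) (tt N35734 (iv5 D125929)) (tt N93977 (iv6 F402685)) (tt N102013 (iv7 F435343)))
theorem Q65814 : ∀ i, i < 65814 → P i := stepQ 65813 Q65813 (allL N65813 (tt N65634 F356061) (tt N65501 F356062) (tt N65637 (iv2 F362564)) (tt N102240 (iv3 F436318)) (tt N92946 (iv4 F398864)) (tt N65514 (iv5 F349577)) (tt N35734 (iv6 D125930)) (tt N65636 (iv7 F358193)))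
theorem Q65815 : ∀ i, i < 65815 → P i := stepQ 65814 Q65814 (allL N65814 (tt N65805 (iv1 F202412)) (tt N65804 F202413) (tt N65807 F202409) (tt N102210 (iv3 F436201)) (tt N65543 F202410) (tt N102242 D205420) (tt N35735 (iv6 D125931)) (tt N35736 F202411))
theorem Q65816 : ∀ i, i < 65816 → P i := stepQ 65815 Q65815 (allL N65815 (tt N65807 (iv1 F202414)) (tt N35736 (iv0 D125932)) (tt N65804 (iv2 F395513)) (tt N102243 D205421) (tt N92043 F395516) (tt N102244 D205422) (tt N102245 D205423) (tt N65805 F395512))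
theorem Q65817 : ∀ i, i < 65817 → P i := stepQ 65816 Q65816 (allL N65816 (tt N35736 (iv1 D125933)) (tt N65807 F202415) (tt N65805 F395510) (tt N102209 (iv3 F436197)) (tt N92044 F395504) (tt N102246 D205424) (tt N93030 (iv6 F399179)) (tt N65804 (iv7 F395511)))
theorem Q65818 : ∀ i, i < 65818 → P i := stepQ 65817 Q65817 (allL N65817 (tt N102247 D205425) (tt N102248 D205426) (tt N65806 F202416) (tt N92714 F397948) (tt N97943 (iv4 F418902)) (tt N35736 (iv5 D125934)) (tt N35737 F202417) (tt N102242 (iv7 F436331)))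
theorem Q65819 : ∀ i, i < 65819 → P i := stepQ 65818 Q65818 (allL N65818 (tt N56237 (iv1 F202419)) (tt N35737 (iv0 D125935)) (tt N66020 F359783) (tt N52316 (iv3 F347328)) (tt N97754 (iv4 F418175)) (tt N60693 F202418) (tt N52315 F347329) (tt N66019 (iv7 F359795)))
theorem Q65820 : ∀ i, i < 65820 → P i := stepQ 65819 Q65819 (allL N65819 (tt N35737 (iv1 D125936)) (tt N56237 F202420) (tt N66019 (iv2 F359797)) (tt N67599 (iv3 F359798)) (tt N97753 (iv4 F418172)) (tt N60690 F202421) (tt N97657 (iv6 F417806)) (tt N66020 F359796))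
theorem Q65821 : ∀ i, i < 65821 → P i := stepQ 65820 Q65820 (allL N65820 (tt N67531 F343590) (tt N67530 F343591) (tt N37879 F343592) (tt N36892 F343593) (tt N35737 (iv4 D125937)) (tt N36891 F343594) (tt N97943 (iv6 F418903)) (tt N66021 (iv7 F203091)))
theorem Q65822 : ∀ i, i < 65822 → P i := stepQ 65821 Q65821 (allL N65821 (tt N60014 F202423) (tt N65550 (iv0 F202425)) (tt N72413 (iv2 F222460)) (tt N35740 F202422) (tt N93382 (iv4 F400594)) (tt N35738 (iv5 D125938)) (tt N40327 F202424) (tt N66022 (iv7 F203093)))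
theorem Q65823 : ∀ i, i < 65823 → P i := stepQ 65822 Q65822 (allL N65822 (tt N66036 F203153) (tt N72921 (iv0 F223594)) (tt N72414 (iv2 F222468)) (tt N35741 F202426) (tt N58355 F202427) (tt N58971 F202428) (tt N35738 (iv6 D125939)) (tt N94114 (iv7 F403276)))
theorem Q65824 : ∀ i, i < 65824 → P i := stepQ 65823 Q65823 (allL N65823 (tt N60582 F348764) (tt N67392 F348765) (tt N67209 F358324) (tt N35739 (iv3 D125940)) (tt N58353 F202430) (tt N67206 (iv5 F358328)) (tt N102249 D205427) (tt N60679 F202431))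
theorem Q65825 : ∀ i, i < 65825 → P i := stepQ 65824 Q65824 (allL N65824 (tt N67378 F413895) (tt N97521 (iv0 F417236)) (tt N60683 F202432) (tt N67206 F358329) (tt N38946 F358333) (tt N35739 (iv5 D125941)) (tt N88743 (iv6 F384036)) (tt N60680 F202433))
theorem Q65826 : ∀ i, i < 65826 → P i := stepQ 65825 Q65825 (allL N65825 (tt N96895 (iv1 F414491)) (tt N60576 (iv0 F202436)) (tt N60684 F202434) (tt N102249 (iv3 F436361)) (tt N35741 F202435) (tt N97572 (iv5 F417416)) (tt N35739 (iv6 D125942)) (tt N94117 (iv7 F403286)))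
theorem Q65827 : ∀ i, i < 65827 → P i := stepQ 65826 Q65826 (allL N65826 (tt N92052 F395559) (tt N65606 F202438) (tt N66027 (iv2 F203113)) (tt N67212 F358264) (tt N35740 (iv4 D125943)) (tt N92111 (iv5 F395792)) (tt N41511 F202437) (tt N66024 (iv7 F203104)))
theorem Q65828 : ∀ i, i < 65828 → P i := stepQ 65827 Q65827 (allL N65827 (tt N92332 F396732) (tt N92117 (iv0 F395824)) (tt N96960 (iv2 F414792)) (tt N35744 F202439) (tt N95342 (iv4 F407928)) (tt N35742 (iv5 D125944)) (tt N59977 F202440) (tt N66025 (iv7 F203108)))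
theorem Q65829 : ∀ i, i < 65829 → P i := stepQ 65828 Q65828 (allL N65828 (tt N99651 (iv1 F425592)) (tt N66044 (iv0 F203193)) (tt N91292 (iv2 F392582)) (tt N35745 F202441) (tt N91287 (iv4 F392561)) (tt N57665 F202442) (tt N35742 (iv6 D125945)) (tt N91290 (iv7 F392576)))
theorem Q65830 : ∀ i, i < 65830 → P i := stepQ 65829 Q65829 (allL N65829 (tt N101983 F435219) (tt N60605 (iv0 F377948)) (tt N102142 F435925) (tt N35743 (iv3 D125946)) (tt N91299 (iv4 F392613)) (tt N102250 D205428) (tt N86936 F377772) (tt N60682 F202443))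
theorem Q65831 : ∀ i, i < 65831 → P i := stepQ 65830 Q65830 (allL N65830 (tt N97521 (iv1 F417237)) (tt N67378 (iv0 F413897)) (tt N60680 F202444) (tt N102250 (iv3 F436365)) (tt N38945 F358337) (tt N35743 (iv5 D125947)) (tt N102251 D205429) (tt N60683 F202445))
theorem Q65832 : ∀ i, i < 65832 → P i := stepQ 65831 Q65831 (allL N65831 (tt N60546 (iv1 F202448)) (tt N101992 (iv0 F435264)) (tt N60681 F202446) (tt N86936 (iv3 F377771)) (tt N35745 F202447) (tt N97482 F417035) (tt N35743 (iv6 D125948)) (tt N97134 (iv7 F415615)))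
theorem Q65833 : ∀ i, i < 65833 → P i := stepQ 65832 Q65832 (allL N65832 (tt N65606 F203118) (tt N92052 (iv0 F395558)) (tt N66024 (iv2 F203102)) (tt N93970 (iv3 F402657)) (tt N35744 (iv4 D125949)) (tt N92110 (iv5 F395783)) (tt N65564 F202449) (tt N66027 (iv7 F203115)))
theorem Q65834 : ∀ i, i < 65834 → P i := stepQ 65833 Q65833 (allL N65833 (tt N45778 (iv1 F326494)) (tt N45777 F325662) (tt N35757 F202459) (tt N95762 (iv3 F409515)) (tt N102252 D205430) (tt N35747 (iv5 D125954)) (tt N95638 (iv6 F408976)) (tt N45776 F325663))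
theorem Q65835 : ∀ i, i < 65835 → P i := stepQ 65834 Q65834 (allL N65834 (tt N80235 (iv1 F338336)) (tt N57490 (iv0 F202618)) (tt N35759 F202615) (tt N65075 (iv3 F345545)) (tt N35748 (iv4 D125957)) (tt N102253 D205431) (tt N35783 F202616) (tt N35763 F202617))
theorem Q65836 : ∀ i, i < 65836 → P i := stepQ 65835 Q65835 (allL N65835 (tt N55954 F202623) (tt N58781 (iv0 F202624)) (tt N35760 F202621) (tt N65925 (iv3 F202883)) (tt N102254 D205432) (tt N35748 (iv5 D125958)) (tt N69074 (iv6 F212734)) (tt N35764 F202622))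
theorem Q65837 : ∀ i, i < 65837 → P i := stepQ 65836 Q65836 (allL N65836 (tt N57490 F202627) (tt N80235 (iv0 F338337)) (tt N35763 F202625) (tt N75399 F353278) (tt N35749 (iv4 D125959)) (tt N94079 F403113) (tt N97104 (iv6 F415484)) (tt N35759 F202626))
theorem Q65838 : ∀ i, i < 65838 → P i := stepQ 65837 Q65837 (allL N65837 (tt N35751 (iv1 D125961)) (tt N42011 (iv0 F202630)) (tt N60360 F351026) (tt N102255 D205433) (tt N65527 (iv4 F202629)) (tt N42086 F351027) (tt N90560 (iv6 F390108)) (tt N60361 F351028))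
theorem Q65839 : ∀ i, i < 65839 → P i := stepQ 65838 Q65838 (allL N65838 (tt N60361 (iv1 F202636)) (tt N60360 F202635) (tt N35751 (iv2 D125962)) (tt N41954 F202631) (tt N60421 F202632) (tt N41953 F202633) (tt N46843 F343356) (tt N42011 F202634))
theorem Q65840 : ∀ i, i < 65840 → P i := stepQ 65839 Q65839 (allL N65839 (tt N46846 F327355) (tt N44745 F327356) (tt N46843 F327357) (tt N35752 F202637) (tt N60434 F202638) (tt N81080 F327358) (tt N35751 (iv6 D125963)) (tt N46844 F327359))
theorem Q65841 : ∀ i, i < 65841 → P i := stepQ 65840 Q65840 (allL N65840 (tt N41954 (iv1 F202642)) (tt N35753 (iv0 D125965)) (tt N41981 (iv2 F202643)) (tt N79282 (iv3 F359846)) (tt N51655 (iv4 F318901)) (tt N42029 F202641) (tt N102256 D205434) (tt N41980 (iv7 F202644)))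
theorem Q65842 : ∀ i, i < 65842 → P i := stepQ 65841 Q65841 (allL N65841 (tt N35753 (iv1 D125966)) (tt N41954 F202645) (tt N41980 (iv2 F202648)) (tt N45399 F336508) (tt N51652 (iv4 F318890)) (tt N42028 F202647) (tt N45397 F336509) (tt N41981 F202646))
theorem Q65843 : ∀ i, i < 65843 → P i := stepQ 65842 Q65842 (allL N65842 (tt N95639 (iv1 F408986)) (tt N35754 (iv0 D125967)) (tt N42159 F342263) (tt N80904 F342264) (tt N102257 D205435) (tt N101840 (iv5 F434598)) (tt N63838 F342265) (tt N95637 (iv7 F408971)))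
theorem Q65844 : ∀ i, i < 65844 → P i := stepQ 65843 Q65843 (allL N65843 (tt N35754 (iv1 D125968)) (tt N95639 F408985) (tt N95637 F408972) (tt N42060 F342266) (tt N66706 F342267) (tt N101841 (iv5 F434606)) (tt N102258 D205436) (tt N42159 F342268))
theorem Q65845 : ∀ i, i < 65845 → P i := stepQ 65844 Q65844 (allL N65844 (tt N100372 F428650) (tt N102259 D205437) (tt N95638 (iv2 F408975)) (tt N45787 F325669) (tt N102260 D205438) (tt N35754 (iv5 D125969)) (tt N35757 F202649) (tt N102261 D205439))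
theorem Q65846 : ∀ i, i < 65846 → P i := stepQ 65845 Q65845 (allL N65845 (tt N95637 (iv1 F408970)) (tt N42159 F360254) (tt N95639 (iv2 F408982)) (tt N46280 F323165) (tt N95619 (iv4 F408911)) (tt N102261 (iv5 F436431)) (tt N46277 F323166) (tt N35754 (iv7 D125970)))
theorem Q65847 : ∀ i, i < 65847 → P i := stepQ 65846 Q65846 (allL N65846 (tt N78759 F353282) (tt N90560 (iv0 F390107)) (tt N102262 D205440) (tt N35755 (iv3 D125971)) (tt N47762 F325664) (tt N66468 F352336) (tt N100667 (iv6 F429920)) (tt N45770 F327212))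
theorem Q65848 : ∀ i, i < 65848 → P i := stepQ 65847 Q65847 (allL N65847 (tt N82061 (iv1 F342297)) (tt N74739 (iv0 F228795)) (tt N45775 F327214) (tt N66468 F352335) (tt N102263 D205441) (tt N35755 (iv5 D125972)) (tt N66467 F352293) (tt N45772 F327215))
theorem Q65849 : ∀ i, i < 65849 → P i := stepQ 65848 Q65848 (allL N65848 (tt N102256 F436404) (tt N65433 (iv0 F368205)) (tt N91858 (iv2 F394732)) (tt N35756 (iv3 D125974)) (tt N55254 (iv4 F359595)) (tt N101834 (iv5 F434577)) (tt N55543 F359599) (tt N45774 F327220))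
theorem Q65850 : ∀ i, i < 65850 → P i := stepQ 65849 Q65849 (allL N65849 (tt N64235 F332158) (tt N80105 F332160) (tt N45773 F327223) (tt N55543 (iv3 F332159)) (tt N72667 F222831) (tt N64254 F325665) (tt N35756 (iv6 D125976)) (tt N80104 (iv7 F332146)))
theorem Q65851 : ∀ i, i < 65851 → P i := stepQ 65850 Q65850 (allL N65850 (tt N35757 (iv1 D125977)) (tt N45776 F325667) (tt N45777 F327229) (tt N102264 D205442) (tt N102265 D205443) (tt N60094 F202656) (tt N102266 D205444) (tt N45778 F327230))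
theorem Q65852 : ∀ i, i < 65852 → P i := stepQ 65851 Q65851 (allL N65851 (tt N95772 (iv1 F409566)) (tt N102267 D205445) (tt N102252 (iv2 F436378)) (tt N77476 (iv3 F366127)) (tt N35757 (iv4 D125978)) (tt N102268 D205446) (tt N102260 (iv6 F436423)) (tt N45779 F325668))
theorem Q65853 : ∀ i, i < 65853 → P i := stepQ 65852 Q65852 (allL N65852 (tt N71957 F221063) (tt N94277 (iv0 F403929)) (tt N95587 (iv2 F408780)) (tt N35760 F202659) (tt N71869 F220779) (tt N35758 (iv5 D125980)) (tt N69104 (iv6 F212786)) (tt N72128 F221401))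
theorem Q65854 : ∀ i, i < 65854 → P i := stepQ 65853 Q65853 (allL N65853 (tt N35763 (iv1 F202661)) (tt N35759 (iv0 D125981)) (tt N80235 (iv2 F338334)) (tt N81810 (iv3 F351047)) (tt N59340 F202660) (tt N95771 (iv5 F409560)) (tt N59534 (iv6 F202663)) (tt N57490 F202662))
theorem Q65855 : ∀ i, i < 65855 → P i := stepQ 65854 Q65854 (allL N65854 (tt N75400 (iv1 F353271)) (tt N75391 F351042) (tt N65076 F351043) (tt N35759 (iv3 D125982)) (tt N82483 F351044) (tt N36091 F351045) (tt N95104 (iv6 F407060)) (tt N75399 (iv7 F353249)))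
theorem Q65856 : ∀ i, i < 65856 → P i := stepQ 65855 Q65855 (allL N65855 (tt N81283 F366441) (tt N97078 (iv0 F415369)) (tt N102253 (iv2 F436385)) (tt N36091 F351687) (tt N40296 F351688) (tt N35759 (iv5 D125983)) (tt N36090 F351689) (tt N94079 (iv7 F403112)))
theorem Q65857 : ∀ i, i < 65857 → P i := stepQ 65856 Q65856 (allL N65856 (tt N102269 D205447) (tt N94303 F403987) (tt N102254 (iv2 F436392)) (tt N102270 D205448) (tt N35760 (iv4 D125984)) (tt N102271 D205449) (tt N69108 (iv6 F212791)) (tt N94408 (iv7 F404338)))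
theorem Q65858 : ∀ i, i < 65858 → P i := stepQ 65857 Q65857 (allL N65857 (tt N97074 (iv1 F415346)) (tt N66536 (iv0 F204374)) (tt N65927 (iv2 F202890)) (tt N35764 F202664) (tt N72846 (iv4 F223447)) (tt N35762 (iv5 D125985)) (tt N38717 F202665) (tt N65925 (iv7 F202884)))
theorem Q65859 : ∀ i, i < 65859 → P i := stepQ 65858 Q65858 (allL N65858 (tt N70220 F217014) (tt N66023 (iv0 F203100)) (tt N65928 (iv2 F202892)) (tt N35765 F202666) (tt N94520 (iv4 F404811)) (tt N41100 F202667) (tt N35762 (iv6 D125986)) (tt N94798 (iv7 F405990)))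
theorem Q65860 : ∀ i, i < 65860 → P i := stepQ 65859 Q65859 (allL N65859 (tt N97078 (iv1 F415370)) (tt N81283 F366440) (tt N94079 (iv2 F403109)) (tt N65073 F365857) (tt N94622 (iv4 F405265)) (tt N35763 (iv5 D125988)) (tt N94078 F403108) (tt N102253 (iv7 F436387)))
theorem Q65861 : ∀ i, i < 65861 → P i := stepQ 65860 Q65860 (allL N65860 (tt N80121 F366442) (tt N95286 (iv0 F407728)) (tt N97104 (iv2 F415482)) (tt N65074 (iv3 F345557)) (tt N35765 F202668) (tt N94933 (iv5 F406397)) (tt N35763 (iv6 D125989)) (tt N95103 (iv7 F407054)))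
theorem Q65862 : ∀ i, i < 65862 → P i := stepQ 65861 Q65861 (allL N65861 (tt N94303 (iv1 F403986)) (tt N102269 F436472) (tt N94408 (iv2 F404335)) (tt N99734 (iv3 F425968)) (tt N35764 (iv4 D125990)) (tt N102272 D205450) (tt N55999 F202669) (tt N102254 (iv7 F436393)))
theorem Q65863 : ∀ i, i < 65863 → P i := stepQ 65862 Q65862 (allL N65862 (tt N66533 F204367) (tt N94442 F404492) (tt N65930 (iv2 F202901)) (tt N96822 (iv3 F414123)) (tt N35766 (iv4 D125991)) (tt N96819 (iv5 F414109)) (tt N69138 (iv6 F212919)) (tt N65933 (iv7 F202909)))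
theorem Q65864 : ∀ i, i < 65864 → P i := stepQ 65863 Q65863 (allL N65863 (tt N59866 F348137) (tt N62331 (iv0 F348136)) (tt N73207 (iv2 F359944)) (tt N35767 (iv3 D125992)) (tt N96822 (iv4 F414124)) (tt N78221 F348130) (tt N69140 (iv6 F212934)) (tt N62563 F202670))
theorem Q65865 : ∀ i, i < 65865 → P i := stepQ 65864 Q65864 (allL N65864 (tt N58674 (iv1 F202672)) (tt N35768 (iv0 D125993)) (tt N60378 (iv2 F361323)) (tt N65722 F202671) (tt N75295 F231093) (tt N79619 F348489) (tt N66042 F348487) (tt N60377 (iv7 F361328)))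
theorem Q65866 : ∀ i, i < 65866 → P i := stepQ 65865 Q65865 (allL N65865 (tt N35768 (iv1 D125994)) (tt N58674 F202673) (tt N60377 (iv2 F361326)) (tt N80967 (iv3 F352288)) (tt N68532 (iv4 F352286)) (tt N79618 F352282) (tt N37586 F352283) (tt N60378 (iv7 F361325)))
theorem Q65867 : ∀ i, i < 65867 → P i := stepQ 65866 Q65866 (allL N65866 (tt N44117 F354213) (tt N82057 (iv0 F342291)) (tt N66477 (iv2 F350841)) (tt N35769 F202674) (tt N70133 F350842) (tt N35768 (iv5 D125995)) (tt N66476 F350843) (tt N60379 F202675))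
theorem Q65868 : ∀ i, i < 65868 → P i := stepQ 65867 Q65867 (allL N65867 (tt N62050 (iv1 F350849)) (tt N48117 F351327) (tt N35775 F202677) (tt N66476 (iv3 F350844)) (tt N56992 F202678) (tt N68972 (iv5 F359744)) (tt N35769 (iv6 D125997)) (tt N66478 F350847))
theorem Q65869 : ∀ i, i < 65869 → P i := stepQ 65868 Q65868 (allL N65868 (tt N36964 F324938) (tt N36963 F324939) (tt N35778 F202679) (tt N67886 (iv3 F345865)) (tt N102273 D205451) (tt N35770 (iv5 D125998)) (tt N68972 (iv6 F359745)) (tt N36959 F324942))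
theorem Q65870 : ∀ i, i < 65870 → P i := stepQ 65869 Q65869 (allL N65869 (tt N42013 (iv1 F202687)) (tt N35773 (iv0 D126000)) (tt N60359 (iv2 F355460)) (tt N102274 D205452) (tt N96917 (iv4 F414601)) (tt N66451 (iv5 F354122)) (tt N102275 D205453) (tt N60358 F355465))
theorem Q65871 : ∀ i, i < 65871 → P i := stepQ 65870 Q65870 (allL N65870 (tt N35773 (iv1 D126001)) (tt N42013 F202693) (tt N60358 F355464) (tt N66465 (iv3 F354125)) (tt N96911 (iv4 F414573)) (tt N66460 (iv5 F354126)) (tt N102276 D205454) (tt N60359 (iv7 F355463)))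
theorem Q65872 : ∀ i, i < 65872 → P i := stepQ 65871 Q65871 (allL N65871 (tt N60359 (iv1 F202694)) (tt N60358 F202692) (tt N35773 (iv2 D126002)) (tt N60383 F202688) (tt N58370 F202689) (tt N62137 F202690) (tt N69300 (iv6 F362987)) (tt N42013 F202691))
theorem Q65873 : ∀ i, i < 65873 → P i := stepQ 65872 Q65872 (allL N65872 (tt N102277 D205455) (tt N87809 (iv0 F380604)) (tt N69300 F333682) (tt N35774 F202695) (tt N55547 (iv4 F352021)) (tt N37639 F333683) (tt N35773 (iv6 D126003)) (tt N41982 F202697))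
theorem Q65874 : ∀ i, i < 65874 → P i := stepQ 65873 Q65873 (allL N65873 (tt N66478 (iv1 F351372)) (tt N35775 (iv0 D126005)) (tt N62050 F351369) (tt N92909 F398740) (tt N61784 (iv4 F351376)) (tt N69169 (iv5 F351373)) (tt N100680 (iv6 F429980)) (tt N48117 F351370))
theorem Q65875 : ∀ i, i < 65875 → P i := stepQ 65874 Q65874 (allL N65874 (tt N35775 (iv1 D126006)) (tt N66478 F350850) (tt N48117 F351362) (tt N66242 (iv3 F359994)) (tt N61785 F350851) (tt N69131 F350852) (tt N48114 F351363) (tt N62050 F351364))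
theorem Q65876 : ∀ i, i < 65876 → P i := stepQ 65875 Q65875 (allL N65875 (tt N100672 F429950) (tt N60393 (iv0 F363989)) (tt N102278 D205456) (tt N35776 (iv3 D126009)) (tt N60574 F202702) (tt N70072 F363988) (tt N102279 D205457) (tt N100667 (iv7 F429921)))
theorem Q65877 : ∀ i, i < 65877 → P i := stepQ 65876 Q65876 (allL N65876 (tt N80105 (iv1 F332162)) (tt N64235 F332161) (tt N80104 (iv2 F332144)) (tt N102279 (iv3 F436524)) (tt N58194 F202703) (tt N64253 (iv5 F364893)) (tt N35776 (iv6 D126010)) (tt N45773 F332163))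
theorem Q65878 : ∀ i, i < 65878 → P i := stepQ 65877 Q65877 (allL N65877 (tt N102275 (iv1 F436501)) (tt N100675 F429965) (tt N102280 D205458) (tt N35777 (iv3 D126011)) (tt N91853 (iv4 F394699)) (tt N96986 (iv5 F414932)) (tt N45774 F327219) (tt N91852 (iv7 F394688)))
theorem Q65879 : ∀ i, i < 65879 → P i := stepQ 65878 Q65878 (allL N65878 (tt N36959 F324943) (tt N35778 (iv0 D126012)) (tt N36964 F325144) (tt N102281 D205459) (tt N102282 D205460) (tt N46126 F327266) (tt N80311 (iv6 F350907)) (tt N36963 F325145))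
theorem Q65880 : ∀ i, i < 65880 → P i := stepQ 65879 Q65879 (allL N65879 (tt N102283 D205461) (tt N102284 D205462) (tt N102273 (iv2 F436486)) (tt N36906 F324946) (tt N35778 (iv4 D126014)) (tt N102285 D205463) (tt N69019 F324947) (tt N36901 F324948))
theorem Q65881 : ∀ i, i < 65881 → P i := stepQ 65880 Q65880 (allL N65880 (tt N66026 F203112) (tt N101914 (iv0 F434931)) (tt N65940 (iv2 F202926)) (tt N35781 F202713) (tt N95494 (iv4 F408362)) (tt N41464 F202714) (tt N35779 (iv6 D126016)) (tt N95591 (iv7 F408801)))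
theorem Q65882 : ∀ i, i < 65882 → P i := stepQ 65881 Q65881 (allL N65881 (tt N80063 F394704) (tt N94032 (iv0 F402898)) (tt N102286 D205464) (tt N35780 (iv3 D126017)) (tt N95620 (iv4 F408923)) (tt N102287 D205465) (tt N91970 (iv6 F395184)) (tt N95104 (iv7 F407061)))
theorem Q65883 : ∀ i, i < 65883 → P i := stepQ 65882 Q65882 (allL N65882 (tt N69272 F351656) (tt N69281 F351658) (tt N69279 (iv2 F351680)) (tt N102287 (iv3 F436563)) (tt N96989 (iv4 F414941)) (tt N35780 (iv5 D126018)) (tt N102288 D205466) (tt N69278 F351684))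
theorem Q65884 : ∀ i, i < 65884 → P i := stepQ 65883 Q65883 (allL N65883 (tt N95286 F407727) (tt N80121 (iv0 F363261)) (tt N95103 (iv2 F407051)) (tt N91970 F395183) (tt N35781 F202715) (tt N94934 F406403) (tt N35780 (iv6 D126019)) (tt N97104 (iv7 F415485)))
theorem Q65885 : ∀ i, i < 65885 → P i := stepQ 65884 Q65884 (allL N65884 (tt N80054 F345535) (tt N37357 F345536) (tt N65078 F345537) (tt N35783 (iv3 D126020)) (tt N59553 F202716) (tt N37168 F345539) (tt N65075 (iv6 F345546)) (tt N80053 F345538))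
theorem Q65886 : ∀ i, i < 65886 → P i := stepQ 65885 Q65885 (allL N65885 (tt N69281 F351660) (tt N69272 F351657) (tt N69278 F351683) (tt N37168 F345540) (tt N96990 (iv4 F414947)) (tt N35783 (iv5 D126021)) (tt N102289 D205467) (tt N69279 (iv7 F351682)))
theorem Q65887 : ∀ i, i < 65887 → P i := stepQ 65886 Q65886 (allL N65886 (tt N101711 (iv1 F433998)) (tt N79547 F357904) (tt N35789 F202718) (tt N60423 F202719) (tt N102290 D205468) (tt N35785 (iv5 D126023)) (tt N102192 (iv6 F436114)) (tt N35794 F202720))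
theorem Q65888 : ∀ i, i < 65888 → P i := stepQ 65887 Q65887 (allL N65887 (tt N97397 F416715) (tt N102113 F435795) (tt N101982 (iv2 F435210)) (tt N35786 (iv3 D126035)) (tt N59942 F202737) (tt N102238 (iv5 F436308)) (tt N67414 F360218) (tt N95668 (iv7 F409057)))
theorem Q65889 : ∀ i, i < 65889 → P i := stepQ 65888 Q65888 (allL N65888 (tt N82349 F333476) (tt N83571 (iv0 F333480)) (tt N102099 F435720) (tt N102238 (iv3 F436307)) (tt N102197 (iv4 F436139)) (tt N35786 (iv5 D126036)) (tt N92718 (iv6 F397962)) (tt N95669 (iv7 F409062)))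
theorem Q65890 : ∀ i, i < 65890 → P i := stepQ 65889 Q65889 (allL N65889 (tt N65910 (iv1 F333477)) (tt N65909 (iv0 F333475)) (tt N82355 F333466) (tt N67414 (iv3 F360219)) (tt N59941 F202738) (tt N92719 F397961) (tt N35786 (iv6 D126037)) (tt N66049 (iv7 F333472)))
theorem Q65891 : ∀ i, i < 65891 → P i := stepQ 65890 Q65890 (allL N65890 (tt N35788 (iv1 D126040)) (tt N60424 F202744) (tt N58152 (iv2 F204641)) (tt N97651 (iv3 F417777)) (tt N57904 (iv4 F202740)) (tt N102291 D205469) (tt N60639 (iv6 F348807)) (tt N58149 (iv7 F204634)))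
theorem Q65892 : ∀ i, i < 65892 → P i := stepQ 65891 Q65891 (allL N65891 (tt N58149 (iv1 F202745)) (tt N58152 F202743) (tt N35788 (iv2 D126041)) (tt N60422 F202741) (tt N95138 (iv4 F407200)) (tt N102117 (iv5 F435816)) (tt N102292 D205470) (tt N60424 F202742))
theorem Q65893 : ∀ i, i < 65893 → P i := stepQ 65892 Q65892 (allL N65892 (tt N94850 (iv1 F406138)) (tt N94840 F406121) (tt N102117 F435817) (tt N35789 F202746) (tt N102156 (iv4 F435956)) (tt N35788 (iv5 D126042)) (tt N97437 F416913) (tt N95224 (iv7 F407485)))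
theorem Q65894 : ∀ i, i < 65894 → P i := stepQ 65893 Q65893 (allL N65893 (tt N102118 F435825) (tt N65958 (iv0 F407405)) (tt N102292 (iv2 F436589)) (tt N35790 F202747) (tt N95204 (iv4 F407403)) (tt N102022 (iv5 F435392)) (tt N35788 (iv6 D126043)) (tt N47684 F325211))
theorem Q65895 : ∀ i, i < 65895 → P i := stepQ 65894 Q65894 (allL N65894 (tt N35794 (iv1 F202749)) (tt N35789 (iv0 D126044)) (tt N101711 (iv2 F433994)) (tt N102293 D205471) (tt N102176 (iv4 F436046)) (tt N58846 F202748) (tt N102294 D205472) (tt N79547 F360842))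
theorem Q65896 : ∀ i, i < 65896 → P i := stepQ 65895 Q65895 (allL N65895 (tt N102186 (iv1 F436088)) (tt N95811 (iv0 F409766)) (tt N102290 (iv2 F436576)) (tt N82784 (iv3 F359714)) (tt N35789 (iv4 D126046)) (tt N82781 F359711) (tt N95224 (iv6 F407484)) (tt N102157 (iv7 F435962)))
theorem Q65897 : ∀ i, i < 65897 → P i := stepQ 65896 Q65896 (allL N65896 (tt N96947 F416961) (tt N102175 (iv0 F436045)) (tt N102192 F436112) (tt N97437 (iv3 F416908)) (tt N95224 F407487) (tt N102020 (iv5 F435378)) (tt N35789 (iv6 D126047)) (tt N102156 (iv7 F435958)))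
theorem Q65898 : ∀ i, i < 65898 → P i := stepQ 65897 Q65897 (allL N65897 (tt N79547 F357903) (tt N101711 (iv0 F433997)) (tt N35794 F202753) (tt N95224 (iv3 F407483)) (tt N102157 (iv4 F435961)) (tt N35791 F202754) (tt N82784 F366130) (tt N35789 (iv7 D126048)))
theorem Q65899 : ∀ i, i < 65899 → P i := stepQ 65898 Q65898 (allL N65898 (tt N47767 F325212) (tt N47766 F325213) (tt N47770 F325214) (tt N102022 (iv3 F435390)) (tt N47735 F325215) (tt N35790 (iv5 D126051)) (tt N102020 F435382) (tt N47685 F325216))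
theorem Q65900 : ∀ i, i < 65900 → P i := stepQ 65899 Q65899 (allL N65899 (tt N59431 F202758) (tt N59427 F377793) (tt N97479 (iv2 F417018)) (tt N35792 (iv3 D126054)) (tt N96414 (iv4 F412421)) (tt N97712 (iv5 F418026)) (tt N101499 (iv6 F433158)) (tt N87828 F380726))
theorem Q65901 : ∀ i, i < 65901 → P i := stepQ 65900 Q65900 (allL N65900 (tt N66000 (iv1 F360454)) (tt N92015 F395369) (tt N92016 (iv2 F395370)) (tt N97712 (iv3 F418024)) (tt N92755 (iv4 F398081)) (tt N35792 (iv5 D126055)) (tt N102295 D205473) (tt N87829 (iv7 F380730)))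
theorem Q65902 : ∀ i, i < 65902 → P i := stepQ 65901 Q65901 (allL N65901 (tt N102126 (iv1 F435865)) (tt N65576 (iv0 F362996)) (tt N60426 F202787) (tt N35794 F202788) (tt N102296 D205474) (tt N35793 (iv5 D126085)) (tt N102297 D205475) (tt N60423 F202789))
theorem Q65903 : ∀ i, i < 65903 → P i := stepQ 65902 Q65902 (allL N65902 (tt N95811 (iv1 F409767)) (tt N102186 (iv0 F436087)) (tt N102157 (iv2 F435960)) (tt N102298 D205476) (tt N35794 (iv4 D126087)) (tt N92755 F398085) (tt N97438 (iv6 F416919)) (tt N102290 (iv7 F436579)))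
theorem Q65904 : ∀ i, i < 65904 → P i := stepQ 65903 Q65903 (allL N65903 (tt N102299 D205477) (tt N102300 D205478) (tt N82784 (iv2 F366131)) (tt N102297 (iv3 F436608)) (tt N97438 F416918) (tt N65427 F366132) (tt N35794 (iv6 D126088)) (tt N102159 (iv7 F435969)))
theorem Q65905 : ∀ i, i < 65905 → P i := stepQ 65904 Q65904 (allL N65904 (tt N65788 (iv1 F202802)) (tt N65787 F202803) (tt N35799 F202799) (tt N36744 F330425) (tt N35796 F202800) (tt N36743 F330426) (tt N35795 (iv6 D126113)) (tt N65753 F202801))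
theorem Q65906 : ∀ i, i < 65906 → P i := stepQ 65905 Q65905 (allL N65905 (tt N95849 (iv1 F409948)) (tt N97683 F417893) (tt N35911 F202804) (tt N71915 F220909) (tt N102204 (iv4 F436166)) (tt N35797 (iv5 D126114)) (tt N102301 D205479) (tt N35907 F202805))
theorem Q65907 : ∀ i, i < 65907 → P i := stepQ 65906 Q65906 (allL N65906 (tt N65753 (iv1 F202830)) (tt N35799 (iv0 D126128)) (tt N65788 F330429) (tt N102302 D205480) (tt N45843 F330430) (tt N67323 (iv5 F330435)) (tt N46184 F330431) (tt N65787 F330432))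
theorem Q65908 : ∀ i, i < 65908 → P i := stepQ 65907 Q65907 (allL N65907 (tt N35799 (iv1 D126129)) (tt N65753 F202831) (tt N65787 (iv2 F330420)) (tt N93074 (iv3 F399371)) (tt N45845 F327889) (tt N67322 (iv5 F330438)) (tt N79730 F327890) (tt N65788 (iv7 F330414)))
theorem Q65909 : ∀ i, i < 65909 → P i := stepQ 65908 Q65908 (allL N65908 (tt N102303 D205481) (tt N97881 (iv0 F418653)) (tt N36743 F330455) (tt N35871 F202833) (tt N68303 F330456) (tt N35799 (iv5 D126130)) (tt N92780 (iv6 F398191)) (tt N65789 F202834))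
theorem Q65910 : ∀ i, i < 65910 → P i := stepQ 65909 Q65909 (allL N65909 (tt N65889 F333475) (tt N97671 (iv0 F417867)) (tt N48260 F325652) (tt N36847 F330408) (tt N35800 (iv4 D126133)) (tt N36845 F330409) (tt N46535 F325653) (tt N65911 (iv7 F333453)))
theorem Q65911 : ∀ i, i < 65911 → P i := stepQ 65910 Q65910 (allL N65910 (tt N97671 F417868) (tt N65889 F333477) (tt N65911 (iv2 F333462)) (tt N97467 (iv3 F416974)) (tt N35801 (iv4 D126138)) (tt N70803 F333457) (tt N45874 F325644) (tt N48260 F325645))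
theorem Q65912 : ∀ i, i < 65912 → P i := stepQ 65911 Q65911 (allL N65911 (tt N66049 (iv1 F333474)) (tt N82355 F333464) (tt N65910 F333462) (tt N67435 F333451) (tt N35802 (iv4 D126143)) (tt N39075 F333452) (tt N64935 (iv6 F333463)) (tt N65909 F333453))
theorem Q65913 : ∀ i, i < 65913 → P i := stepQ 65912 Q65912 (allL N65912 (tt N102304 D205482) (tt N102305 D205483) (tt N56962 F202846) (tt N41540 F202847) (tt N35806 (iv4 D126154)) (tt N102306 D205484) (tt N102307 D205485) (tt N56959 F202848))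
theorem Q65914 : ∀ i, i < 65914 → P i := stepQ 65913 Q65913 (allL N65913 (tt N73085 F365132) (tt N93865 (iv0 F402200)) (tt N56963 F202849) (tt N41544 F202850) (tt N102307 (iv4 F436643)) (tt N102308 D205486) (tt N35806 (iv6 D126155)) (tt N102309 D205487))
theorem Q65915 : ∀ i, i < 65915 → P i := stepQ 65914 Q65914 (allL N65914 (tt N72924 (iv1 F223616)) (tt N72927 F223621) (tt N41530 F202851) (tt N35807 (iv3 D126156)) (tt N99324 (iv4 F424102)) (tt N56915 F202852) (tt N102310 D205488) (tt N56961 F202853))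
theorem Q65916 : ∀ i, i < 65916 → P i := stepQ 65915 Q65915 (allL N65915 (tt N102305 (iv1 F436632)) (tt N102304 F436628) (tt N56959 F202854) (tt N55914 (iv3 F202856)) (tt N35807 (iv4 D126157)) (tt N102311 D205489) (tt N102312 D205490) (tt N56962 F202855))
theorem Q65917 : ∀ i, i < 65917 → P i := stepQ 65916 Q65916 (allL N65916 (tt N56821 F364147) (tt N102313 D205491) (tt N56960 F202857) (tt N102310 (iv3 F436661)) (tt N102312 (iv4 F436670)) (tt N102314 D205492) (tt N35807 (iv6 D126158)) (tt N102315 D205493))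
theorem Q65918 : ∀ i, i < 65918 → P i := stepQ 65917 Q65917 (allL N65917 (tt N43591 F331117) (tt N43593 F331118) (tt N35809 F202858) (tt N56918 F202859) (tt N95325 (iv4 F407863)) (tt N99474 (iv5 F424743)) (tt N35808 (iv6 D126159)) (tt N43590 F326611))
theorem Q65919 : ∀ i, i < 65919 → P i := stepQ 65918 Q65918 (allL N65918 (tt N35809 (iv1 D126161)) (tt N43590 F326608) (tt N43593 F326609) (tt N102316 D205494) (tt N102317 D205495) (tt N95246 (iv5 F407570)) (tt N58263 (iv6 F331105)) (tt N43591 F326610))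
theorem Q65920 : ∀ i, i < 65920 → P i := stepQ 65919 Q65919 (allL N65919 (tt N102318 D205496) (tt N98312 (iv0 F420458)) (tt N99474 (iv2 F424742)) (tt N35810 F202860) (tt N102319 D205497) (tt N35809 (iv5 D126162)) (tt N92900 (iv6 F398701)) (tt N72298 (iv7 F364951)))
theorem Q65921 : ∀ i, i < 65921 → P i := stepQ 65920 Q65920 (allL N65920 (tt N43593 F331119) (tt N43591 F331120) (tt N43590 F326612) (tt N35811 F202861) (tt N95329 (iv4 F407872)) (tt N72298 F331814) (tt N40403 F331815) (tt N35809 (iv7 D126163)))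
theorem Q65922 : ∀ i, i < 65922 → P i := stepQ 65921 Q65921 (allL N65921 (tt N56929 (iv1 F202866)) (tt N35810 (iv0 D126164)) (tt N56927 (iv2 F202864)) (tt N102320 D205498) (tt N85903 (iv4 F374386)) (tt N41190 F202863) (tt N97828 (iv6 F418439)) (tt N56928 (iv7 F202865)))
theorem Q65923 : ∀ i, i < 65923 → P i := stepQ 65922 Q65922 (allL N65922 (tt N35810 (iv1 D126165)) (tt N56929 F202867) (tt N56928 (iv2 F202870)) (tt N102321 D205499) (tt N66773 (iv4 F339934)) (tt N41193 F202869) (tt N66772 F339931) (tt N56927 F202868))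
theorem Q65924 : ∀ i, i < 65924 → P i := stepQ 65923 Q65923 (allL N65923 (tt N56928 (iv1 F202874)) (tt N56927 F202875) (tt N56929 F202872) (tt N72298 (iv3 F364950)) (tt N75990 F335539) (tt N35811 F202873) (tt N72297 F364952) (tt N35810 (iv7 D126167)))
theorem Q65925 : ∀ i, i < 65925 → P i := stepQ 65924 Q65924 (allL N65924 (tt N60350 F202881) (tt N60349 (iv0 F202882)) (tt N56932 F202876) (tt N40066 F202877) (tt N41173 F202878) (tt N60164 F202879) (tt N35812 (iv6 D126168)) (tt N60164 F202880))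
theorem Q65926 : ∀ i, i < 65926 → P i := stepQ 65925 Q65925 (allL N65925 (tt N73526 F225002) (tt N70221 (iv0 F217019)) (tt N95168 (iv2 F407283)) (tt N65835 F202883) (tt N102322 D205500) (tt N35816 (iv5 D126169)) (tt N67320 (iv6 F207085)) (tt N65857 F202884))
theorem Q65927 : ∀ i, i < 65927 → P i := stepQ 65926 Q65926 (allL N65926 (tt N59588 F202887) (tt N57236 (iv0 F202889)) (tt N58595 F202885) (tt N35817 (iv3 D126170)) (tt N58561 (iv4 F202888)) (tt N101925 (iv5 F434966)) (tt N74552 (iv6 F228346)) (tt N58591 F202886))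
theorem Q65928 : ∀ i, i < 65928 → P i := stepQ 65927 Q65927 (allL N65927 (tt N70221 F217018) (tt N73526 (iv0 F225001)) (tt N65857 F202890) (tt N101925 (iv3 F434964)) (tt N93364 (iv4 F400535)) (tt N35817 (iv5 D126171)) (tt N41076 F202891) (tt N95168 (iv7 F407285)))
theorem Q65929 : ∀ i, i < 65929 → P i := stepQ 65928 Q65928 (allL N65928 (tt N94445 (iv1 F404510)) (tt N95273 (iv0 F407671)) (tt N65858 F202892) (tt N74552 (iv3 F228344)) (tt N58173 F202893) (tt N57963 (iv5 F202894)) (tt N35817 (iv6 D126172)) (tt N74053 (iv7 F226739)))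
theorem Q65930 : ∀ i, i < 65930 → P i := stepQ 65929 Q65929 (allL N65929 (tt N92685 (iv1 F397878)) (tt N92678 F397857) (tt N46584 F327959) (tt N35820 (iv3 D126173)) (tt N65687 F202896) (tt N67467 (iv5 F343934)) (tt N65716 F202897) (tt N60534 F202898))
theorem Q65931 : ∀ i, i < 65931 → P i := stepQ 65930 Q65930 (allL N65930 (tt N93725 (iv1 F401686)) (tt N97130 F415597) (tt N65862 F202901) (tt N102323 D205501) (tt N35821 (iv4 D126175)) (tt N102324 D205502) (tt N67351 (iv6 F207116)) (tt N92675 (iv7 F397847)))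
theorem Q65932 : ∀ i, i < 65932 → P i := stepQ 65931 Q65931 (allL N65931 (tt N67469 (iv1 F365654)) (tt N67468 F355904) (tt N60535 F202902) (tt N87920 (iv3 F381126)) (tt N97620 (iv4 F417631)) (tt N35822 (iv5 D126176)) (tt N67476 (iv6 F365652)) (tt N60533 F202903))
theorem Q65933 : ∀ i, i < 65933 → P i := stepQ 65932 Q65932 (allL N65932 (tt N97289 (iv1 F416239)) (tt N60689 (iv0 F202907)) (tt N60536 F202904) (tt N46538 F326219) (tt N35824 F202905) (tt N102090 (iv5 F435670)) (tt N35822 (iv6 D126177)) (tt N46536 (iv7 F326908)))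
theorem Q65934 : ∀ i, i < 65934 → P i := stepQ 65933 Q65933 (allL N65933 (tt N97130 F415596) (tt N93725 (iv0 F401685)) (tt N92675 (iv2 F397845)) (tt N59794 (iv3 F346858)) (tt N35823 (iv4 D126178)) (tt N59790 F346857) (tt N36239 F202908) (tt N65862 F202909))
theorem Q65935 : ∀ i, i < 65935 → P i := stepQ 65934 Q65934 (allL N65934 (tt N74056 (iv1 F332885)) (tt N74624 (iv0 F362761)) (tt N97040 (iv2 F415157)) (tt N35825 (iv3 D126179)) (tt N40402 F202910) (tt N97044 (iv5 F415192)) (tt N38179 F202911) (tt N56968 (iv7 F331786)))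
theorem Q65936 : ∀ i, i < 65936 → P i := stepQ 65935 Q65935 (allL N65935 (tt N97617 (iv1 F417617)) (tt N97622 (iv0 F417642)) (tt N62671 F202913) (tt N97044 (iv3 F415191)) (tt N67467 F343932) (tt N35825 (iv5 D126180)) (tt N67466 (iv6 F343931)) (tt N62668 F202914))
theorem Q65937 : ∀ i, i < 65937 → P i := stepQ 65936 Q65936 (allL N65936 (tt N35826 (iv1 D126181)) (tt N35831 F202915) (tt N35830 F202919) (tt N59616 (iv3 F202918)) (tt N58593 F202917) (tt N66068 (iv5 F203293)) (tt N58591 F202920) (tt N35829 F202916))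
theorem Q65938 : ∀ i, i < 65938 → P i := stepQ 65937 Q65937 (allL N65937 (tt N35830 (iv1 F202922)) (tt N35829 F202923) (tt N35831 F202921) (tt N70204 (iv3 F216957)) (tt N77797 (iv4 F244995)) (tt N66076 (iv5 F203324)) (tt N92672 (iv6 F397835)) (tt N35826 (iv7 D126182)))
theorem Q65939 : ∀ i, i < 65939 → P i := stepQ 65938 Q65938 (allL N65938 (tt N102257 F436409) (tt N66706 (iv0 F390765)) (tt N77795 (iv2 F244992)) (tt N88223 (iv3 F382249)) (tt N94174 (iv4 F403548)) (tt N102325 D205503) (tt N35827 (iv6 D126183)) (tt N102326 D205504))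
theorem Q65940 : ∀ i, i < 65940 → P i := stepQ 65939 Q65939 (allL N65939 (tt N58469 F202924) (tt N58467 F202925) (tt N77796 (iv2 F244993)) (tt N97679 (iv3 F417883)) (tt N102327 D205505) (tt N35828 (iv5 D126184)) (tt N102325 (iv6 F436737)) (tt N95660 (iv7 F409033)))
theorem Q65941 : ∀ i, i < 65941 → P i := stepQ 65940 Q65940 (allL N65940 (tt N94276 (iv1 F403923)) (tt N94275 (iv0 F403919)) (tt N65880 F202926) (tt N74053 (iv3 F226738)) (tt N58654 F202927) (tt N66270 F203877) (tt N35829 (iv6 D126185)) (tt N74552 (iv7 F228345)))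
theorem Q65942 : ∀ i, i < 65942 → P i := stepQ 65941 Q65941 (allL N65941 (tt N95822 (iv1 F409807)) (tt N57959 F202930) (tt N60570 F202928) (tt N48681 F326806) (tt N58936 (iv4 F347537)) (tt N35832 (iv5 D126186)) (tt N56663 F347535) (tt N60572 F202929))
theorem Q65943 : ∀ i, i < 65943 → P i := stepQ 65942 Q65942 (allL N65942 (tt N87902 (iv1 F381036)) (tt N87901 F381034) (tt N79351 (iv2 F364787)) (tt N35834 (iv3 D126188)) (tt N65716 F202936) (tt N97692 (iv5 F417925)) (tt N65687 F202937) (tt N60569 F202938))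
theorem Q65944 : ∀ i, i < 65944 → P i := stepQ 65943 Q65943 (allL N65943 (tt N57959 F202941) (tt N95822 (iv0 F409806)) (tt N60572 F202939) (tt N97692 (iv3 F417923)) (tt N94021 (iv4 F402844)) (tt N35834 (iv5 D126189)) (tt N52672 (iv6 F362869)) (tt N60570 F202940))
theorem Q65945 : ∀ i, i < 65945 → P i := stepQ 65944 Q65944 (allL N65944 (tt N78752 (iv1 F353612)) (tt N102255 (iv0 F436399)) (tt N60556 F359770) (tt N80963 F358634) (tt N35835 (iv4 D126191)) (tt N102328 D205506) (tt N80958 (iv6 F358829)) (tt N60554 F359769))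
theorem Q65946 : ∀ i, i < 65946 → P i := stepQ 65945 Q65945 (allL N65945 (tt N60489 F358830) (tt N35862 F358831) (tt N60492 (iv2 F359802)) (tt N95179 (iv3 F407325)) (tt N102329 D205507) (tt N35835 (iv5 D126192)) (tt N77304 F358874) (tt N60491 F359801))
theorem Q65947 : ∀ i, i < 65947 → P i := stepQ 65946 Q65946 (allL N65946 (tt N67983 (iv1 F358869)) (tt N60691 F358871) (tt N60557 (iv2 F359777)) (tt N95180 (iv3 F407327)) (tt N80958 F358866) (tt N69792 (iv5 F358867)) (tt N35835 (iv6 D126193)) (tt N65720 (iv7 F359810)))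
theorem Q65948 : ∀ i, i < 65948 → P i := stepQ 65947 Q65947 (allL N65947 (tt N60386 F353618) (tt N60391 F381055) (tt N92679 (iv2 F397862)) (tt N35836 (iv3 D126195)) (tt N97695 (iv4 F417936)) (tt N88770 (iv5 F384088)) (tt N65721 F359811) (tt N60555 (iv7 F352266)))
theorem Q65949 : ∀ i, i < 65949 → P i := stepQ 65948 Q65948 (allL N65948 (tt N102255 (iv1 F436400)) (tt N78752 F353602) (tt N60554 (iv2 F359768)) (tt N66042 (iv3 F203162)) (tt N35836 (iv4 D126196)) (tt N102330 D205508) (tt N65722 F348488) (tt N60556 (iv7 F352267)))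
theorem Q65950 : ∀ i, i < 65950 → P i := stepQ 65949 Q65949 (allL N65949 (tt N35862 F359803) (tt N60489 F359804) (tt N60491 F352269) (tt N88770 F384089) (tt N97929 (iv4 F418836)) (tt N35836 (iv5 D126197)) (tt N92736 (iv6 F398035)) (tt N60492 (iv7 F352268)))
theorem Q65951 : ∀ i, i < 65951 → P i := stepQ 65950 Q65950 (allL N65950 (tt N42129 (iv1 F202947)) (tt N59939 (iv0 F202946)) (tt N35838 F202944) (tt N94172 (iv3 F403530)) (tt N35837 (iv4 D126199)) (tt N42098 F231073) (tt N47787 F338325) (tt N46303 F328752))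
theorem Q65952 : ∀ i, i < 65952 → P i := stepQ 65951 Q65951 (allL N65951 (tt N60560 (iv1 F202952)) (tt N60559 F202953) (tt N35839 F202949) (tt N60521 F202950) (tt N99809 (iv4 F426320)) (tt N35837 (iv5 D126200)) (tt N102331 D205509) (tt N60558 F202951))
theorem Q65953 : ∀ i, i < 65953 → P i := stepQ 65952 Q65952 (allL N65952 (tt N100710 F430128) (tt N102332 D205510) (tt N35840 F202954) (tt N60522 F202955) (tt N47787 F338326) (tt N81669 (iv5 F365983)) (tt N35837 (iv6 D126201)) (tt N79576 (iv7 F338327)))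
theorem Q65954 : ∀ i, i < 65954 → P i := stepQ 65953 Q65953 (allL N65953 (tt N35838 (iv1 D126202)) (tt N46303 F328753) (tt N59939 (iv2 F202959)) (tt N42049 (iv3 F202960)) (tt N60600 (iv4 F202958)) (tt N74392 (iv5 F227723)) (tt N60370 (iv6 F358199)) (tt N42129 F202957))
theorem Q65955 : ∀ i, i < 65955 → P i := stepQ 65954 Q65954 (allL N65954 (tt N42099 (iv1 F202964)) (tt N42040 (iv0 F202963)) (tt N42098 F231072) (tt N55637 F202961) (tt N63940 F353597) (tt N35838 (iv5 D126203)) (tt N102333 D205511) (tt N42097 F202962))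
theorem Q65956 : ∀ i, i < 65956 → P i := stepQ 65955 Q65955 (allL N65955 (tt N101690 F433881) (tt N102334 D205512) (tt N102331 (iv2 F436766)) (tt N35841 F202969) (tt N86742 F377049) (tt N102335 D205513) (tt N35839 (iv6 D126207)) (tt N102336 D205514))
theorem Q65957 : ∀ i, i < 65957 → P i := stepQ 65956 Q65956 (allL N65956 (tt N79576 (iv1 F365326)) (tt N35840 (iv0 D126208)) (tt N100710 (iv2 F430129)) (tt N80228 (iv3 F406813)) (tt N82468 (iv4 F429413)) (tt N67450 F406812) (tt N102337 D205515) (tt N102332 (iv7 F436769)))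
theorem Q65958 : ∀ i, i < 65958 → P i := stepQ 65957 Q65957 (allL N65957 (tt N35840 (iv1 D126209)) (tt N79576 F338328) (tt N102332 (iv2 F436772)) (tt N81209 (iv3 F345739)) (tt N82467 (iv4 F355480)) (tt N102338 D205516) (tt N102339 D205517) (tt N100710 (iv7 F430126)))
theorem Q65959 : ∀ i, i < 65959 → P i := stepQ 65958 Q65958 (allL N65958 (tt N65893 F407405) (tt N81671 (iv0 F406811)) (tt N81669 F365982) (tt N35842 F202970) (tt N95048 F406807) (tt N35840 (iv5 D126210)) (tt N102335 (iv6 F436782)) (tt N81670 F365981))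
theorem Q65960 : ∀ i, i < 65960 → P i := stepQ 65959 Q65959 (allL N65959 (tt N102332 (iv1 F436768)) (tt N100710 (iv0 F430127)) (tt N79576 (iv2 F329758)) (tt N35843 F202971) (tt N46306 F327957) (tt N81670 F365980) (tt N46305 F327958) (tt N35840 (iv7 D126211)))
theorem Q65961 : ∀ i, i < 65961 → P i := stepQ 65960 Q65960 (allL N65960 (tt N102340 D205518) (tt N36840 F363268) (tt N60531 F202973) (tt N102335 (iv3 F436781)) (tt N67396 F362292) (tt N35841 (iv5 D126212)) (tt N35842 F202974) (tt N102341 D205519))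
theorem Q65962 : ∀ i, i < 65962 → P i := stepQ 65961 Q65961 (allL N65961 (tt N60530 (iv1 F202978)) (tt N60529 F202979) (tt N60532 F202975) (tt N102336 (iv3 F436785)) (tt N55716 F202976) (tt N102341 (iv5 F436808)) (tt N60568 F202977) (tt N35841 (iv7 D126213)))
theorem Q65963 : ∀ i, i < 65963 → P i := stepQ 65962 Q65962 (allL N65962 (tt N35842 (iv1 D126214)) (tt N60539 F202980) (tt N60537 (iv2 F202983)) (tt N80223 (iv3 F348407)) (tt N92685 (iv4 F397876)) (tt N58837 F202982) (tt N87781 (iv6 F380484)) (tt N58836 F202981))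
theorem Q65964 : ∀ i, i < 65964 → P i := stepQ 65963 Q65963 (allL N65963 (tt N101998 F435294) (tt N102342 D205520) (tt N60538 F202984) (tt N60592 (iv3 F362296)) (tt N35842 (iv4 D126215)) (tt N80358 F362295) (tt N67396 (iv6 F362294)) (tt N102343 D205521))
theorem Q65965 : ∀ i, i < 65965 → P i := stepQ 65964 Q65964 (allL N65964 (tt N60537 (iv1 F202987)) (tt N58836 F202988) (tt N60539 F202985) (tt N81670 (iv3 F365979)) (tt N102343 (iv4 F436819)) (tt N35843 F202986) (tt N102344 D205522) (tt N35842 (iv7 D126216)))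
theorem Q65966 : ∀ i, i < 65966 → P i := stepQ 65965 Q65965 (allL N65965 (tt N92676 F397850) (tt N92687 F414334) (tt N92686 F397881) (tt N35844 (iv3 D126218)) (tt N77786 F244963) (tt N102345 D205523) (tt N65736 F355939) (tt N60516 F355951))
theorem Q65967 : ∀ i, i < 65967 → P i := stepQ 65966 Q65966 (allL N65966 (tt N60456 F219115) (tt N35864 F219116) (tt N60459 (iv2 F355962)) (tt N102345 (iv3 F436829)) (tt N102346 D205524) (tt N35844 (iv5 D126219)) (tt N102347 D205525) (tt N60458 F355963))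
theorem Q65968 : ∀ i, i < 65968 → P i := stepQ 65967 Q65967 (allL N65967 (tt N66515 (iv1 F355993)) (tt N35852 F355990) (tt N96098 F411047) (tt N35845 (iv3 D126222)) (tt N92088 (iv4 F395691)) (tt N57027 F355991) (tt N102348 D205526) (tt N60519 (iv7 F355958)))
theorem Q65969 : ∀ i, i < 65969 → P i := stepQ 65968 Q65968 (allL N65968 (tt N35864 F219113) (tt N60456 F219114) (tt N60458 F355961) (tt N57027 (iv3 F355992)) (tt N102349 D205527) (tt N35845 (iv5 D126223)) (tt N67498 F355995) (tt N60459 (iv7 F355960)))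
theorem Q65970 : ∀ i, i < 65970 → P i := stepQ 65969 Q65969 (allL N65969 (tt N60688 (iv1 F355986)) (tt N67988 (iv0 F355985)) (tt N60518 (iv2 F355969)) (tt N102348 (iv3 F436842)) (tt N96602 (iv4 F413141)) (tt N67747 F355970) (tt N35845 (iv6 D126224)) (tt N65740 (iv7 F355947)))
theorem Q65971 : ∀ i, i < 65971 → P i := stepQ 65970 Q65970 (allL N65970 (tt N60523 (iv1 F202994)) (tt N52366 (iv0 F345923)) (tt N35847 F202991) (tt N60558 F202992) (tt N39714 (iv4 F219126)) (tt N35846 (iv5 D126225)) (tt N56577 (iv6 F349652)) (tt N60521 F202993))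
theorem Q65972 : ∀ i, i < 65972 → P i := stepQ 65971 Q65971 (allL N65971 (tt N100544 F429422) (tt N100541 (iv0 F429401)) (tt N35848 F202996) (tt N46302 F328511) (tt N64986 F328512) (tt N102350 D205528) (tt N35846 (iv6 D126226)) (tt N79748 F328513))
theorem Q65973 : ∀ i, i < 65973 → P i := stepQ 65972 Q65972 (allL N65972 (tt N39707 (iv1 F203003)) (tt N39185 (iv0 F203002)) (tt N39714 F219124) (tt N55709 F203000) (tt N35847 (iv4 D126229)) (tt N66272 (iv5 F203887)) (tt N92937 (iv6 F398837)) (tt N39713 F203001))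
theorem Q65974 : ∀ i, i < 65974 → P i := stepQ 65973 Q65973 (allL N65973 (tt N79748 F358048) (tt N35848 (iv0 D126231)) (tt N100544 (iv2 F429415)) (tt N102351 D205529) (tt N79191 F358047) (tt N88375 (iv5 F382791)) (tt N102352 D205530) (tt N100541 (iv7 F429399)))
theorem Q65975 : ∀ i, i < 65975 → P i := stepQ 65974 Q65974 (allL N65974 (tt N35848 (iv1 D126232)) (tt N79748 F365638) (tt N100541 (iv2 F429398)) (tt N79352 F365640) (tt N79192 F365641) (tt N81579 F365639) (tt N102353 D205531) (tt N100544 (iv7 F429417)))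
theorem Q65976 : ∀ i, i < 65976 → P i := stepQ 65975 Q65975 (allL N65975 (tt N102354 D205532) (tt N86859 (iv0 F377464)) (tt N102350 (iv2 F436851)) (tt N35850 F203005) (tt N85698 (iv4 F373571)) (tt N35848 (iv5 D126233)) (tt N85696 F373570) (tt N102355 D205533))
theorem Q65977 : ∀ i, i < 65977 → P i := stepQ 65976 Q65976 (allL N65976 (tt N100541 F429402) (tt N100544 (iv0 F429418)) (tt N79748 F358049) (tt N35851 F203006) (tt N96333 (iv4 F412097)) (tt N102355 (iv5 F436873)) (tt N60528 F203007) (tt N35848 (iv7 D126234)))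
theorem Q65978 : ∀ i, i < 65978 → P i := stepQ 65977 Q65977 (allL N65977 (tt N86860 F377471) (tt N100522 (iv0 F429312)) (tt N60567 F203009) (tt N85696 F373569) (tt N93125 (iv4 F399589)) (tt N35849 (iv5 D126237)) (tt N35850 F203010) (tt N102356 D205534))
theorem Q65979 : ∀ i, i < 65979 → P i := stepQ 65978 Q65978 (allL N65978 (tt N60566 (iv1 F203015)) (tt N60565 F203016) (tt N60568 F203011) (tt N56576 F349656) (tt N55713 F203012) (tt N102356 (iv5 F436878)) (tt N60532 F203013) (tt N35849 (iv7 D126238)))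
theorem Q65980 : ∀ i, i < 65980 → P i := stepQ 65979 Q65979 (allL N65979 (tt N37758 F328930) (tt N56724 (iv0 F343616)) (tt N60573 F203018) (tt N102355 (iv3 F436872)) (tt N56440 F349627) (tt N35851 F203019) (tt N102357 D205535) (tt N35850 (iv7 D126240)))
theorem Q65981 : ∀ i, i < 65981 → P i := stepQ 65980 Q65980 (allL N65980 (tt N35852 (iv1 D126242)) (tt N66515 F342887) (tt N60519 (iv2 F355994)) (tt N92686 (iv3 F397880)) (tt N92089 (iv4 F395695)) (tt N57022 F342895) (tt N65754 (iv6 F408241)) (tt N96098 (iv7 F411045)))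
theorem Q65982 : ∀ i, i < 65982 → P i := stepQ 65981 Q65981 (allL N65981 (tt N96098 (iv1 F411044)) (tt N60519 F203211) (tt N35852 (iv2 D126243)) (tt N81749 F342873) (tt N39231 F203022) (tt N36777 F342874) (tt N81748 F342875) (tt N66515 F342876))
theorem Q65983 : ∀ i, i < 65983 → P i := stepQ 65982 Q65982 (allL N65982 (tt N102358 D205536) (tt N102359 D205537) (tt N81748 F358231) (tt N35854 F203024) (tt N79294 F326405) (tt N81747 (iv5 F358235)) (tt N35852 (iv6 D126245)) (tt N48435 F326406))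
theorem Q65984 : ∀ i, i < 65984 → P i := stepQ 65983 Q65983 (allL N65983 (tt N35856 (iv1 F203027)) (tt N35853 (iv0 D126246)) (tt N57260 (iv2 F203026)) (tt N92682 (iv3 F397869)) (tt N102360 D205538) (tt N55598 (iv5 F324559)) (tt N97512 (iv6 F417183)) (tt N74661 (iv7 F228491)))
theorem Q65985 : ∀ i, i < 65985 → P i := stepQ 65984 Q65984 (allL N65984 (tt N102361 D205539) (tt N102362 D205540) (tt N95676 (iv2 F409099)) (tt N56503 F349564) (tt N35853 (iv4 D126247)) (tt N65783 F360447) (tt N102363 D205541) (tt N68674 (iv7 F349565)))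
theorem Q65986 : ∀ i, i < 65986 → P i := stepQ 65985 Q65985 (allL N65985 (tt N102364 D205542) (tt N97910 (iv0 F418759)) (tt N95677 (iv2 F409102)) (tt N68608 (iv3 F349572)) (tt N102363 (iv4 F436913)) (tt N102365 D205543) (tt N35853 (iv6 D126248)) (tt N68604 F349571))
theorem Q65987 : ∀ i, i < 65987 → P i := stepQ 65986 Q65986 (allL N65986 (tt N80224 F326407) (tt N80223 (iv0 F341708)) (tt N79533 F326408) (tt N81747 F358237) (tt N80238 F341707) (tt N35854 (iv5 D126251)) (tt N102365 (iv6 F436922)) (tt N48436 F326409))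
theorem Q65988 : ∀ i, i < 65988 → P i := stepQ 65987 Q65987 (allL N65987 (tt N60553 (iv1 F358841)) (tt N94726 F405690) (tt N35855 (iv2 D126254)) (tt N66515 F358838) (tt N95039 (iv4 F406763)) (tt N66514 F358839) (tt N79669 F358840) (tt N81749 (iv7 F358835)))
theorem Q65989 : ∀ i, i < 65989 → P i := stepQ 65988 Q65988 (allL N65988 (tt N102366 D205544) (tt N97525 (iv0 F417253)) (tt N66514 F349599) (tt N35856 F203028) (tt N66356 (iv4 F204041)) (tt N35855 (iv5 D126255)) (tt N68614 F360839) (tt N95675 (iv7 F409097)))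
theorem Q65990 : ∀ i, i < 65990 → P i := stepQ 65989 Q65989 (allL N65989 (tt N102362 (iv1 F436907)) (tt N102361 F436906) (tt N68674 F349600) (tt N102367 D205545) (tt N35856 (iv4 D126257)) (tt N65784 F360436) (tt N102115 (iv6 F435805)) (tt N95676 (iv7 F409101)))
theorem Q65991 : ∀ i, i < 65991 → P i := stepQ 65990 Q65990 (allL N65990 (tt N68601 (iv1 F349615)) (tt N68600 F349605) (tt N56487 F349601) (tt N68614 (iv3 F349602)) (tt N102115 (iv4 F435804)) (tt N79671 (iv5 F349603)) (tt N35856 (iv6 D126258)) (tt N68602 (iv7 F349604)))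
theorem Q65992 : ∀ i, i < 65992 → P i := stepQ 65991 Q65991 (allL N65991 (tt N92776 (iv1 F398175)) (tt N92773 (iv0 F398163)) (tt N35861 F203030) (tt N92695 (iv3 F397897)) (tt N66050 (iv4 F360456)) (tt N65770 F203031) (tt N35857 (iv6 D126263)) (tt N102368 D205546))
theorem Q65993 : ∀ i, i < 65993 → P i := stepQ 65992 Q65992 (allL N65992 (tt N57027 F350307) (tt N57022 F360386) (tt N67371 (iv2 F360387)) (tt N35858 (iv3 D126264)) (tt N60894 F203032) (tt N86950 F377808) (tt N65612 F360388) (tt N92772 (iv7 F398155)))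
theorem Q65994 : ∀ i, i < 65994 → P i := stepQ 65993 Q65993 (allL N65993 (tt N102368 (iv1 F436941)) (tt N35861 F360437) (tt N92776 (iv2 F398171)) (tt N65750 F360396) (tt N35858 (iv4 D126265)) (tt N65744 F360397) (tt N65747 (iv6 F360395)) (tt N92773 (iv7 F398161)))
theorem Q65995 : ∀ i, i < 65995 → P i := stepQ 65994 Q65994 (allL N65994 (tt N102369 D205547) (tt N67210 (iv0 F360392)) (tt N92777 (iv2 F398176)) (tt N65612 (iv3 F360389)) (tt N65747 F360390) (tt N86951 (iv5 F377812)) (tt N35858 (iv6 D126266)) (tt N67372 F360391))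
theorem Q65996 : ∀ i, i < 65996 → P i := stepQ 65995 Q65995 (allL N65995 (tt N95177 F407320) (tt N95179 (iv0 F409799)) (tt N102370 D205548) (tt N35859 (iv3 D126267)) (tt N66360 (iv4 F204049)) (tt N95820 (iv5 F409794)) (tt N102371 D205549) (tt N92775 (iv7 F398170)))
theorem Q65997 : ∀ i, i < 65997 → P i := stepQ 65996 Q65996 (allL N65996 (tt N35861 F360450) (tt N102368 F436940) (tt N92773 (iv2 F398160)) (tt N102372 D205550) (tt N35859 (iv4 D126268)) (tt N102191 (iv5 F436107)) (tt N102373 D205551) (tt N92776 (iv7 F398173)))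
theorem Q65998 : ∀ i, i < 65998 → P i := stepQ 65997 Q65997 (allL N65997 (tt N93060 F399332) (tt N93070 F399359) (tt N92774 (iv2 F398165)) (tt N102371 (iv3 F436951)) (tt N102373 (iv4 F436962)) (tt N102374 D205552) (tt N35859 (iv6 D126269)) (tt N93069 (iv7 F399356)))
theorem Q65999 : ∀ i, i < 65999 → P i := stepQ 65998 Q65998 (allL N65998 (tt N92756 (iv1 F398088)) (tt N35860 (iv0 D126270)) (tt N82781 F380734) (tt N60656 (iv3 F383817)) (tt N87829 (iv4 F380733)) (tt N102290 (iv5 F436577)) (tt N82780 F380736) (tt N92755 (iv7 F398084)))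
theorem Q66000 : ∀ i, i < 66000 → P i := stepQ 65999 Q65999 (allL N65999 (tt N35860 (iv1 D126271)) (tt N92756 F398089) (tt N92755 F398082) (tt N82785 (iv3 F380738)) (tt N92016 (iv4 F395372)) (tt N102157 (iv5 F435963)) (tt N102375 D205553) (tt N82781 F380737))
theorem Q66001 : ∀ i, i < 66001 → P i := stepQ 66000 Q66000 (allL N66000 (tt N55596 F360453) (tt N65900 F360454) (tt N66050 F360451) (tt N92765 (iv3 F398127)) (tt N35861 F203033) (tt N59938 (iv5 F360440)) (tt N35860 (iv6 D126272)) (tt N66048 F360452))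
theorem Q66002 : ∀ i, i < 66002 → P i := stepQ 66001 Q66001 (allL N66001 (tt N92773 (iv1 F398164)) (tt N92776 (iv0 F398174)) (tt N102368 (iv2 F436936)) (tt N35868 F203034) (tt N66048 (iv4 F360455)) (tt N65785 F203035) (tt N92781 (iv6 F398196)) (tt N35861 (iv7 D126275)))
theorem Q66003 : ∀ i, i < 66003 → P i := stepQ 66002 Q66002 (allL N66002 (tt N60492 (iv1 F203042)) (tt N60491 F203040) (tt N35862 (iv2 D126278)) (tt N60456 F203037) (tt N92769 (iv4 F398145)) (tt N55624 F203038) (tt N102376 D205554) (tt N60489 F203039))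
theorem Q66004 : ∀ i, i < 66004 → P i := stepQ 66003 Q66003 (allL N66003 (tt N92768 F398144) (tt N92712 F417299) (tt N92769 F398146) (tt N55741 F203043) (tt N35862 (iv4 D126279)) (tt N102377 D205555) (tt N102378 D205556) (tt N60493 F203044))
theorem Q66005 : ∀ i, i < 66005 → P i := stepQ 66004 Q66004 (allL N66004 (tt N102379 D205557) (tt N84099 (iv0 F368100)) (tt N102376 (iv2 F436971)) (tt N35863 F203045) (tt N102378 (iv4 F436979)) (tt N67650 (iv5 F364570)) (tt N35862 (iv6 D126280)) (tt N102380 D205558))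
theorem Q66006 : ∀ i, i < 66006 → P i := stepQ 66005 Q66005 (allL N66005 (tt N60466 (iv1 F203053)) (tt N36841 F329263) (tt N60467 F203049) (tt N102380 (iv3 F436987)) (tt N55745 F203050) (tt N37686 F329264) (tt N60502 F203051) (tt N35863 (iv7 D126284)))
theorem Q66007 : ∀ i, i < 66007 → P i := stepQ 66006 Q66006 (allL N66006 (tt N60459 (iv1 F203061)) (tt N60458 F203059) (tt N35864 (iv2 D126287)) (tt N60489 F203056) (tt N70989 (iv4 F219098)) (tt N55633 F203057) (tt N82975 (iv6 F345943)) (tt N60456 F203058))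
theorem Q66008 : ∀ i, i < 66008 → P i := stepQ 66007 Q66007 (allL N66007 (tt N90242 (iv1 F389070)) (tt N49037 F345929) (tt N82975 (iv2 F345941)) (tt N35865 F203062) (tt N71894 (iv4 F220832)) (tt N102381 D205559) (tt N35864 (iv6 D126288)) (tt N82977 (iv7 F345933)))
theorem Q66009 : ∀ i, i < 66009 → P i := stepQ 66008 Q66008 (allL N66008 (tt N102382 D205560) (tt N92855 (iv0 F418742)) (tt N60501 F203064) (tt N102381 (iv3 F436992)) (tt N102383 D205561) (tt N35865 (iv5 D126291)) (tt N55635 F203065) (tt N102384 D205562))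
theorem Q66010 : ∀ i, i < 66010 → P i := stepQ 66009 Q66009 (allL N66009 (tt N60500 (iv1 F203070)) (tt N60499 F203071) (tt N60502 F203066) (tt N82977 F345934) (tt N55740 F203067) (tt N102384 (iv5 F437001)) (tt N60467 F203068) (tt N35865 (iv7 D126292)))
theorem Q66011 : ∀ i, i < 66011 → P i := stepQ 66010 Q66010 (allL N66010 (tt N102385 D205563) (tt N102144 (iv0 F435930)) (tt N92707 (iv2 F397922)) (tt N92744 (iv3 F398052)) (tt N102386 D205564) (tt N35866 (iv5 D126296)) (tt N102387 D205565) (tt N92709 (iv7 F397928)))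
theorem Q66012 : ∀ i, i < 66012 → P i := stepQ 66011 Q66011 (allL N66011 (tt N97822 F418424) (tt N93073 (iv0 F399367)) (tt N83006 (iv2 F377838)) (tt N92745 (iv3 F398054)) (tt N60972 F377839) (tt N86957 F377837) (tt N35866 (iv6 D126297)) (tt N102388 D205566))
theorem Q66013 : ∀ i, i < 66013 → P i := stepQ 66012 Q66012 (allL N66012 (tt N102347 (iv1 F436840)) (tt N102215 (iv0 F436229)) (tt N92738 (iv2 F398038)) (tt N35867 (iv3 D126299)) (tt N83009 (iv4 F377852)) (tt N102047 F435499) (tt N102049 (iv6 F435506)) (tt N83007 F377851))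
theorem Q66014 : ∀ i, i < 66014 → P i := stepQ 66013 Q66013 (allL N66013 (tt N102144 F435931) (tt N102385 F437005) (tt N92709 (iv2 F397927)) (tt N102047 (iv3 F435498)) (tt N102389 D205567) (tt N35867 (iv5 D126301)) (tt N102028 (iv6 F435427)) (tt N92707 (iv7 F397923)))
theorem Q66015 : ∀ i, i < 66015 → P i := stepQ 66014 Q66014 (allL N66014 (tt N102390 D205568) (tt N97862 F418561) (tt N92710 (iv2 F397929)) (tt N102049 (iv3 F435505)) (tt N55399 F377844) (tt N102045 (iv5 F435491)) (tt N35867 (iv6 D126302)) (tt N86575 (iv7 F377843)))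
theorem Q66016 : ∀ i, i < 66016 → P i := stepQ 66015 Q66015 (allL N66015 (tt N65720 F378172) (tt N60557 (iv0 F359780)) (tt N67983 (iv2 F349816)) (tt N35869 (iv3 D126303)) (tt N81510 (iv4 F349817)) (tt N67982 F349815) (tt N100801 (iv6 F430537)) (tt N60691 F203074))
theorem Q66017 : ∀ i, i < 66017 → P i := stepQ 66016 Q66016 (allL N66016 (tt N56705 (iv1 F343604)) (tt N56703 F343602) (tt N56701 (iv2 F343569)) (tt N67982 (iv3 F349814)) (tt N66193 F343606) (tt N35869 (iv5 D126304)) (tt N102391 D205569) (tt N56702 (iv7 F343568)))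
theorem Q66018 : ∀ i, i < 66018 → P i := stepQ 66017 Q66017 (allL N66017 (tt N60536 (iv1 F203080)) (tt N46536 F327511) (tt N60689 F203077) (tt N100801 (iv3 F430536)) (tt N55682 F203078) (tt N97118 (iv5 F415523)) (tt N35869 (iv6 D126305)) (tt N97289 (iv7 F416236)))
theorem Q66019 : ∀ i, i < 66019 → P i := stepQ 66018 Q66018 (allL N66018 (tt N65691 (iv1 F203088)) (tt N60571 (iv0 F203087)) (tt N60692 F203085) (tt N68008 F362948) (tt N55684 F203086) (tt N97005 (iv5 F414994)) (tt N35870 (iv6 D126308)) (tt N101707 (iv7 F433975)))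
theorem Q66020 : ∀ i, i < 66020 → P i := stepQ 66019 Q66019 (allL N66019 (tt N36746 F343575) (tt N35871 (iv0 D126309)) (tt N65819 F359797) (tt N87854 (iv3 F380859)) (tt N102392 D205570) (tt N92114 (iv5 F395807)) (tt N102393 D205571) (tt N65818 F359795))
theorem Q66021 : ∀ i, i < 66021 → P i := stepQ 66020 Q66020 (allL N66020 (tt N35871 (iv1 D126310)) (tt N36746 F343573) (tt N65818 (iv2 F359783)) (tt N68945 F343574) (tt N102394 D205572) (tt N92115 (iv5 F395813)) (tt N87852 (iv6 F380849)) (tt N65819 (iv7 F359796)))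
theorem Q66022 : ∀ i, i < 66022 → P i := stepQ 66021 Q66021 (allL N66021 (tt N69002 F343596) (tt N69001 F343597) (tt N36891 F343598) (tt N37043 F343599) (tt N35871 (iv4 D126311)) (tt N37879 F343600) (tt N92782 (iv6 F398200)) (tt N65820 F203091))
theorem Q66023 : ∀ i, i < 66023 → P i := stepQ 66022 Q66022 (allL N66022 (tt N58825 F203094) (tt N60700 (iv0 F203096)) (tt N95272 (iv2 F407662)) (tt N35873 F203092) (tt N96408 (iv4 F412383)) (tt N35872 (iv5 D126312)) (tt N58082 F203095) (tt N65821 F203093))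
theorem Q66024 : ∀ i, i < 66024 → P i := stepQ 66023 Q66023 (allL N66023 (tt N65858 F203100) (tt N74053 (iv0 F226740)) (tt N95273 (iv2 F407668)) (tt N35874 F203097) (tt N59666 F203098) (tt N38704 F203099) (tt N35872 (iv6 D126313)) (tt N94445 (iv7 F404508)))
theorem Q66025 : ∀ i, i < 66025 → P i := stepQ 66024 Q66024 (allL N66024 (tt N96779 F413896) (tt N60474 F203106) (tt N65832 F203102) (tt N67477 F349609) (tt N35873 (iv4 D126314)) (tt N60685 F203105) (tt N58838 F203103) (tt N65826 F203104))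
theorem Q66026 : ∀ i, i < 66026 → P i := stepQ 66025 Q66025 (allL N66025 (tt N102019 F435377) (tt N95418 (iv0 F408156)) (tt N95745 (iv2 F409417)) (tt N35876 F203107) (tt N96742 (iv4 F413718)) (tt N35875 (iv5 D126315)) (tt N57244 F203109) (tt N65827 F203108))
theorem Q66027 : ∀ i, i < 66027 → P i := stepQ 66026 Q66026 (allL N66026 (tt N74552 F228352) (tt N65880 (iv0 F203112)) (tt N94276 (iv2 F403921)) (tt N35877 F203110) (tt N95295 (iv4 F407762)) (tt N57415 F203111) (tt N35875 (iv6 D126316)) (tt N94275 (iv7 F403918)))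
theorem Q66028 : ∀ i, i < 66028 → P i := stepQ 66027 Q66027 (allL N66027 (tt N60474 F203117) (tt N96779 (iv0 F413894)) (tt N65826 F203113) (tt N102395 D205573) (tt N35876 (iv4 D126317)) (tt N60686 F203116) (tt N57245 F203114) (tt N65832 F203115))
theorem Q66029 : ∀ i, i < 66029 → P i := stepQ 66028 Q66028 (allL N66028 (tt N36125 F203127) (tt N59985 (iv0 F203128)) (tt N35887 F203124) (tt N47771 F332917) (tt N80852 F331935) (tt N35878 (iv5 D126319)) (tt N66102 (iv6 F203385)) (tt N35890 F203126))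
theorem Q66030 : ∀ i, i < 66030 → P i := stepQ 66029 Q66029 (allL N66029 (tt N47944 F326826) (tt N97382 F416624) (tt N97384 (iv2 F416634)) (tt N36152 F326827) (tt N76778 (iv4 F336260)) (tt N37906 F326828) (tt N36151 F326829) (tt N35881 (iv7 D126324)))
theorem Q66031 : ∀ i, i < 66031 → P i := stepQ 66030 Q66030 (allL N66030 (tt N97366 F416533) (tt N79226 (iv0 F364968)) (tt N80733 (iv2 F344715)) (tt N35882 (iv3 D126327)) (tt N95541 (iv4 F408561)) (tt N46907 F320703) (tt N77028 F344714) (tt N79760 (iv7 F344716)))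
theorem Q66032 : ∀ i, i < 66032 → P i := stepQ 66031 Q66031 (allL N66031 (tt N35883 (iv1 D126330)) (tt N44863 F313817) (tt N67637 F313818) (tt N102396 D205574) (tt N77601 F313819) (tt N58882 F203136) (tt N44429 F313820) (tt N58881 F203135))
theorem Q66033 : ∀ i, i < 66033 → P i := stepQ 66032 Q66032 (allL N66032 (tt N95819 (iv1 F409792)) (tt N94075 (iv0 F403089)) (tt N92673 (iv2 F397838)) (tt N35887 F203139) (tt N99148 (iv4 F423472)) (tt N35885 (iv5 D126333)) (tt N67800 (iv6 F207853)) (tt N92674 (iv7 F397843)))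
theorem Q66034 : ∀ i, i < 66034 → P i := stepQ 66033 Q66033 (allL N66033 (tt N35889 (iv1 F203142)) (tt N35886 (iv0 D126334)) (tt N60374 (iv2 F203141)) (tt N102397 D205575) (tt N39536 F203140) (tt N44790 F326675) (tt N58193 (iv6 F203144)) (tt N57289 F203143))
theorem Q66035 : ∀ i, i < 66035 → P i := stepQ 66034 Q66034 (allL N66034 (tt N79332 F364246) (tt N95749 (iv0 F409444)) (tt N47127 F326682) (tt N35886 (iv3 D126335)) (tt N96855 (iv4 F414275)) (tt N46964 F333743) (tt N79341 F358668) (tt N96883 (iv7 F414433)))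
theorem Q66036 : ∀ i, i < 66036 → P i := stepQ 66035 Q66035 (allL N66035 (tt N92601 (iv1 F397586)) (tt N81240 (iv0 F343947)) (tt N80852 (iv2 F343950)) (tt N63606 F332520) (tt N35887 (iv4 D126337)) (tt N43985 F332521) (tt N67804 (iv6 F207859)) (tt N94112 (iv7 F403265)))
theorem Q66037 : ∀ i, i < 66037 → P i := stepQ 66036 Q66036 (allL N66036 (tt N95916 (iv1 F410248)) (tt N65822 (iv0 F203153)) (tt N65653 F203150) (tt N35891 F203151) (tt N96326 (iv4 F412048)) (tt N40340 F203152) (tt N35888 (iv6 D126339)) (tt N74252 (iv7 F227104)))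
theorem Q66038 : ∀ i, i < 66038 → P i := stepQ 66037 Q66037 (allL N66037 (tt N79756 F363259) (tt N95753 (iv0 F409468)) (tt N74251 (iv2 F227099)) (tt N47137 F326693) (tt N35891 F203154) (tt N96492 (iv5 F412743)) (tt N35889 (iv6 D126342)) (tt N74253 (iv7 F227109)))
theorem Q66039 : ∀ i, i < 66039 → P i := stepQ 66038 Q66038 (allL N66038 (tt N81240 (iv1 F343948)) (tt N92601 (iv0 F397585)) (tt N94112 (iv2 F403262)) (tt N90266 (iv3 F389158)) (tt N35890 (iv4 D126343)) (tt N47957 F343949) (tt N36173 F203155) (tt N80852 (iv7 F332373)))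
theorem Q66040 : ∀ i, i < 66040 → P i := stepQ 66039 Q66039 (allL N66039 (tt N82532 (iv1 F332906)) (tt N92074 F395635) (tt N65688 F203156) (tt N81668 F332898) (tt N102398 D205576) (tt N35892 (iv5 D126344)) (tt N80204 F358159) (tt N65690 F203157))
theorem Q66041 : ∀ i, i < 66041 → P i := stepQ 66040 Q66040 (allL N66040 (tt N59155 F203160) (tt N89986 F388205) (tt N65689 F203158) (tt N102399 D205577) (tt N35893 (iv4 D126345)) (tt N74616 F228433) (tt N67840 (iv6 F208144)) (tt N57151 F203159))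
theorem Q66042 : ∀ i, i < 66042 → P i := stepQ 66041 Q66041 (allL N66041 (tt N40882 F351579) (tt N77107 F351582) (tt N101789 (iv2 F434353)) (tt N35894 (iv3 D126346)) (tt N102399 (iv4 F437067)) (tt N73199 (iv5 F224062)) (tt N67842 (iv6 F208148)) (tt N41052 F203161))
theorem Q66043 : ∀ i, i < 66043 → P i := stepQ 66042 Q66042 (allL N66042 (tt N48358 F321901) (tt N35895 (iv0 D126347)) (tt N48355 F352270) (tt N65948 F203162) (tt N102400 D205578) (tt N78724 F348486) (tt N65864 (iv6 F348487)) (tt N48356 F352271))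
theorem Q66044 : ∀ i, i < 66044 → P i := stepQ 66043 Q66043 (allL N66043 (tt N35895 (iv1 D126348)) (tt N48358 F321900) (tt N48356 F352274) (tt N89724 (iv3 F387318)) (tt N102401 D205579) (tt N82097 F352278) (tt N68487 (iv6 F352276)) (tt N48355 F352275))
theorem Q66045 : ∀ i, i < 66045 → P i := stepQ 66044 Q66044 (allL N66044 (tt N65828 F203193) (tt N97204 (iv0 F415886)) (tt N65698 F203190) (tt N35899 F203191) (tt N87756 (iv4 F380385)) (tt N62622 F203192) (tt N35897 (iv6 D126364)) (tt N74248 (iv7 F227091)))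
theorem Q66046 : ∀ i, i < 66046 → P i := stepQ 66045 Q66045 (allL N66045 (tt N46330 F326797) (tt N78666 F326798) (tt N48402 F326799) (tt N35898 (iv3 D126365)) (tt N48366 F326800) (tt N80232 F326801) (tt N91941 F395051) (tt N79341 F326802))
theorem Q66047 : ∀ i, i < 66047 → P i := stepQ 66046 Q66046 (allL N66046 (tt N95753 F409469) (tt N79756 F363260) (tt N74253 (iv2 F227107)) (tt N91941 F395050) (tt N35899 F203195) (tt N42273 F351644) (tt N35898 (iv6 D126367)) (tt N74251 (iv7 F227101)))
theorem Q66048 : ∀ i, i < 66048 → P i := stepQ 66047 Q66047 (allL N66047 (tt N80219 F416548) (tt N92083 F416552) (tt N75409 (iv2 F231446)) (tt N35904 (iv3 D126377)) (tt N45935 F320735) (tt N98007 (iv5 F419146)) (tt N102402 D205580) (tt N92097 (iv7 F395723)))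
theorem Q66049 : ∀ i, i < 66049 → P i := stepQ 66048 Q66048 (allL N66048 (tt N92016 (iv1 F395375)) (tt N87829 (iv0 F380731)) (tt N92015 F395366) (tt N98007 (iv3 F419148)) (tt N66001 F360455) (tt N35904 (iv5 D126378)) (tt N102403 D205581) (tt N66000 (iv7 F360452)))
theorem Q66050 : ∀ i, i < 66050 → P i := stepQ 66049 Q66049 (allL N66049 (tt N48260 F333471) (tt N65911 F333474) (tt N97671 (iv2 F417863)) (tt N102402 (iv3 F437082)) (tt N45934 F323931) (tt N102404 D205582) (tt N35904 (iv6 D126379)) (tt N65889 F333472))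
theorem Q66051 : ∀ i, i < 66051 → P i := stepQ 66050 Q66050 (allL N66050 (tt N87829 (iv1 F380732)) (tt N92016 F395374) (tt N66000 (iv2 F360451)) (tt N66616 F204923) (tt N65991 F360456) (tt N35905 (iv5 D126380)) (tt N65780 F360439) (tt N92015 (iv7 F395367)))
theorem Q66052 : ∀ i, i < 66052 → P i := stepQ 66051 Q66051 (allL N66051 (tt N52256 (iv1 F329352)) (tt N71902 F220882) (tt N71914 F220912) (tt N35907 F203215) (tt N71620 (iv4 F220911)) (tt N35906 (iv5 D126382)) (tt N102405 D205583) (tt N71915 F220910))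
theorem Q66053 : ∀ i, i < 66053 → P i := stepQ 66052 Q66052 (allL N66052 (tt N97660 F417820) (tt N97612 (iv0 F417600)) (tt N97694 (iv2 F417930)) (tt N35908 F203216) (tt N64586 F326138) (tt N102406 D205584) (tt N35906 (iv6 D126383)) (tt N64521 F326139))
theorem Q66054 : ∀ i, i < 66054 → P i := stepQ 66053 Q66053 (allL N66053 (tt N35911 (iv1 F203218)) (tt N35907 (iv0 D126384)) (tt N97683 F417892) (tt N102407 D205585) (tt N102408 D205586) (tt N46245 F323913) (tt N82804 F358302) (tt N95849 (iv7 F409946)))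
theorem Q66055 : ∀ i, i < 66055 → P i := stepQ 66054 Q66054 (allL N66054 (tt N35907 (iv1 D126385)) (tt N35911 F203219) (tt N95849 (iv2 F409944)) (tt N60762 (iv3 F203221)) (tt N102409 D205587) (tt N55595 (iv5 F324453)) (tt N102410 D205588) (tt N97683 (iv7 F417891)))
theorem Q66056 : ∀ i, i < 66056 → P i := stepQ 66055 Q66055 (allL N66055 (tt N102360 (iv1 F436902)) (tt N74662 (iv0 F228495)) (tt N97696 (iv2 F417939)) (tt N71625 F220916) (tt N35907 (iv4 D126386)) (tt N102195 (iv5 F436125)) (tt N102411 D205589) (tt N102204 (iv7 F436167)))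
theorem Q66057 : ∀ i, i < 66057 → P i := stepQ 66056 Q66056 (allL N66056 (tt N102412 D205590) (tt N60497 F417946) (tt N97697 (iv2 F417943)) (tt N102405 (iv3 F437098)) (tt N102411 (iv4 F437123)) (tt N102413 D205591) (tt N35907 (iv6 D126387)) (tt N102414 D205592))
theorem Q66058 : ∀ i, i < 66058 → P i := stepQ 66057 Q66057 (allL N66057 (tt N45732 F326140) (tt N65730 (iv0 F330154)) (tt N65729 (iv2 F341726)) (tt N102406 (iv3 F437099)) (tt N76028 F326143) (tt N35908 (iv5 D126390)) (tt N102413 (iv6 F437130)) (tt N64522 F326144))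
theorem Q66059 : ∀ i, i < 66059 → P i := stepQ 66058 Q66058 (allL N66058 (tt N58003 F203223) (tt N57999 F405517) (tt N82348 F362997) (tt N35909 (iv3 D126392)) (tt N94816 (iv4 F406051)) (tt N102415 D205593) (tt N80411 (iv6 F362998)) (tt N83570 F362999))
theorem Q66060 : ∀ i, i < 66060 → P i := stepQ 66059 Q66059 (allL N66059 (tt N95669 (iv1 F409065)) (tt N102099 F435721) (tt N82349 (iv2 F366017)) (tt N102415 (iv3 F437139)) (tt N102196 (iv4 F436133)) (tt N35909 (iv5 D126393)) (tt N102415 (iv6 F437140)) (tt N83571 F366016))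
theorem Q66061 : ∀ i, i < 66061 → P i := stepQ 66060 Q66060 (allL N66060 (tt N74662 (iv1 F228496)) (tt N102360 (iv0 F436901)) (tt N102204 (iv2 F436164)) (tt N102416 D205594) (tt N35911 (iv4 D126418)) (tt N102196 (iv5 F436134)) (tt N102417 D205595) (tt N97696 (iv7 F417940)))
theorem Q66062 : ∀ i, i < 66062 → P i := stepQ 66061 Q66061 (allL N66061 (tt N102418 D205596) (tt N102419 D205597) (tt N102301 (iv2 F436614)) (tt N37676 F352532) (tt N102417 (iv4 F437149)) (tt N52671 F352535) (tt N35911 (iv6 D126419)) (tt N93018 (iv7 F399136)))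
theorem Q66063 : ∀ i, i < 66063 → P i := stepQ 66062 Q66062 (allL N66062 (tt N102099 (iv1 F435722)) (tt N95669 (iv0 F409064)) (tt N83571 F325538) (tt N60429 (iv3 F356087)) (tt N102195 (iv4 F436126)) (tt N35912 (iv5 D126424)) (tt N102420 D205598) (tt N82349 (iv7 F360444)))
theorem Q66064 : ∀ i, i < 66064 → P i := stepQ 66063 Q66063 (allL N66063 (tt N41422 F203258) (tt N41382 (iv0 F203260)) (tt N41421 F203254) (tt N35917 F203255) (tt N41439 F203256) (tt N42744 F203259) (tt N35916 (iv6 D126447)) (tt N41370 F203257))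
theorem Q66065 : ∀ i, i < 66065 → P i := stepQ 66064 Q66064 (allL N66064 (tt N36764 (iv1 F203281)) (tt N36763 F203282) (tt N36766 F203277) (tt N40558 F328809) (tt N39655 F203279) (tt N71670 (iv5 F220366)) (tt N57326 F203280) (tt N35921 (iv7 D126452)))
theorem Q66066 : ∀ i, i < 66066 → P i := stepQ 66065 Q66065 (allL N66065 (tt N94481 (iv1 F404666)) (tt N35922 (iv0 D126453)) (tt N37049 (iv2 F203492)) (tt N58944 (iv3 F203493)) (tt N38576 (iv4 F203494)) (tt N102421 D205599) (tt N66147 F203491) (tt N68693 (iv7 F211406)))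
theorem Q66067 : ∀ i, i < 66067 → P i := stepQ 66066 Q66066 (allL N66066 (tt N35922 (iv1 D126454)) (tt N94481 F404665) (tt N68693 (iv2 F211405)) (tt N35941 F203495) (tt N38577 F203496) (tt N66498 (iv5 F204304)) (tt N97968 F419013) (tt N37049 F203497))
theorem Q66068 : ∀ i, i < 66068 → P i := stepQ 66067 Q66067 (allL N66067 (tt N68693 F211408) (tt N37049 (iv0 F203289)) (tt N94481 (iv2 F404660)) (tt N36705 F203285) (tt N61700 F203286) (tt N41120 F203287) (tt N36810 F203288) (tt N35922 (iv7 D126455)))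
theorem Q66069 : ∀ i, i < 66069 → P i := stepQ 66068 Q66068 (allL N66068 (tt N35923 (iv1 D126456)) (tt N36810 F203291) (tt N36809 F203295) (tt N56521 (iv3 F203294)) (tt N61730 (iv4 F203297)) (tt N65936 F203293) (tt N56505 F203296) (tt N36808 F203292))
theorem Q66070 : ∀ i, i < 66070 → P i := stepQ 66069 Q66069 (allL N66069 (tt N36809 (iv1 F203302)) (tt N36808 F203303) (tt N36810 F203298) (tt N52912 (iv3 F326760)) (tt N61707 F203300) (tt N55882 F203301) (tt N94481 (iv6 F404664)) (tt N35923 (iv7 D126457)))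
theorem Q66071 : ∀ i, i < 66071 → P i := stepQ 66070 Q66070 (allL N66070 (tt N45043 (iv1 F332595)) (tt N35924 (iv0 D126458)) (tt N61019 F332577) (tt N93201 (iv3 F399950)) (tt N102422 D205600) (tt N55771 F332578) (tt N84912 (iv6 F371071)) (tt N70462 (iv7 F358369)))
theorem Q66072 : ∀ i, i < 66072 → P i := stepQ 66071 Q66071 (allL N66071 (tt N35924 (iv1 D126459)) (tt N45043 (iv0 F332594)) (tt N70462 (iv2 F358367)) (tt N66624 F332579) (tt N102423 D205601) (tt N61020 F332580) (tt N66622 F332581) (tt N61019 F332582))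
theorem Q66073 : ∀ i, i < 66073 → P i := stepQ 66072 Q66072 (allL N66072 (tt N76572 F327113) (tt N76667 F327114) (tt N69534 (iv2 F214662)) (tt N45041 F332575) (tt N82034 F335994) (tt N56277 (iv5 F332592)) (tt N35925 (iv6 D126462)) (tt N76665 (iv7 F359196)))
theorem Q66074 : ∀ i, i < 66074 → P i := stepQ 66073 Q66073 (allL N66073 (tt N68343 F209692) (tt N41765 F319932) (tt N60837 F363644) (tt N35927 (iv3 D126464)) (tt N58940 F203310) (tt N38998 F203311) (tt N102424 D205602) (tt N66144 (iv7 F203471)))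
theorem Q66075 : ∀ i, i < 66075 → P i := stepQ 66074 Q66074 (allL N66074 (tt N38132 (iv1 F203315)) (tt N38133 (iv0 F203314)) (tt N56483 F203312) (tt N102424 (iv3 F437177)) (tt N35928 F203313) (tt N97964 (iv5 F418987)) (tt N35927 (iv6 D126465)) (tt N70610 (iv7 F217951)))
theorem Q66076 : ∀ i, i < 66076 → P i := stepQ 66075 Q66075 (allL N66075 (tt N35928 (iv1 D126466)) (tt N56486 F203316) (tt N56485 F203320) (tt N36729 (iv3 F203318)) (tt N38957 F203321) (tt N58455 (iv5 F203319)) (tt N102425 D205603) (tt N56484 F203317))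
theorem Q66077 : ∀ i, i < 66077 → P i := stepQ 66076 Q66076 (allL N66076 (tt N56485 (iv1 F203325)) (tt N56484 F203326) (tt N56486 F203322) (tt N58943 F203323) (tt N70610 (iv4 F217948)) (tt N65937 F203324) (tt N66146 (iv6 F203480)) (tt N35928 (iv7 D126467)))
theorem Q66078 : ∀ i, i < 66078 → P i := stepQ 66077 Q66077 (allL N66077 (tt N56506 (iv1 F203337)) (tt N56505 F203338) (tt N56507 F203334) (tt N58945 F203335) (tt N39060 F203336) (tt N70214 (iv5 F216987)) (tt N66148 (iv6 F203501)) (tt N35929 (iv7 D126469)))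
theorem Q66079 : ∀ i, i < 66079 → P i := stepQ 66078 Q66078 (allL N66078 (tt N35930 (iv1 D126470)) (tt N67943 F208650) (tt N38124 F208652) (tt N70592 (iv3 F217914)) (tt N102426 D205604) (tt N38123 (iv5 F208651)) (tt N102427 D205605) (tt N68314 (iv7 F209550)))
theorem Q66080 : ∀ i, i < 66080 → P i := stepQ 66079 Q66079 (allL N66079 (tt N68314 (iv1 F209551)) (tt N38124 F203341) (tt N35930 (iv2 D126471)) (tt N66151 (iv3 F203504)) (tt N57798 F203339) (tt N38004 F203340) (tt N70461 (iv6 F217437)) (tt N67943 (iv7 F208649)))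
theorem Q66081 : ∀ i, i < 66081 → P i := stepQ 66080 Q66080 (allL N66080 (tt N60730 F359184) (tt N75063 F359186) (tt N56277 (iv2 F332590)) (tt N67944 (iv3 F208654)) (tt N66211 (iv4 F203666)) (tt N69534 (iv5 F214663)) (tt N35931 (iv6 D126472)) (tt N75062 F361693))
theorem Q66082 : ∀ i, i < 66082 → P i := stepQ 66081 Q66081 (allL N66081 (tt N66155 (iv1 F203525)) (tt N35933 (iv0 D126473)) (tt N66154 F380827) (tt N93104 (iv3 F399510)) (tt N102428 D205606) (tt N70298 F365160) (tt N102429 D205607) (tt N66153 (iv7 F380828)))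
theorem Q66083 : ∀ i, i < 66083 → P i := stepQ 66082 Q66082 (allL N66082 (tt N35933 (iv1 D126474)) (tt N66155 F203527) (tt N66153 (iv2 F380830)) (tt N67541 (iv3 F380831)) (tt N102430 D205608) (tt N67539 (iv5 F380832)) (tt N102431 D205609) (tt N66154 F380829))
theorem Q66084 : ∀ i, i < 66084 → P i := stepQ 66083 Q66083 (allL N66083 (tt N66154 (iv1 F203526)) (tt N66153 F203522) (tt N35933 (iv2 D126475)) (tt N36899 F203342) (tt N68858 (iv4 F211736)) (tt N102432 D205610) (tt N102433 D205611) (tt N66155 (iv7 F203524)))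
theorem Q66085 : ∀ i, i < 66085 → P i := stepQ 66084 Q66084 (allL N66084 (tt N102434 D205612) (tt N69146 (iv0 F212954)) (tt N102432 (iv2 F437204)) (tt N35934 F203343) (tt N102435 D205613) (tt N35933 (iv5 D126476)) (tt N67799 (iv6 F362142)) (tt N66156 (iv7 F203529)))
theorem Q66086 : ∀ i, i < 66086 → P i := stepQ 66085 Q66085 (allL N66085 (tt N68918 F345888) (tt N68920 F345889) (tt N102433 (iv2 F437208)) (tt N35935 F203344) (tt N68860 (iv4 F211744)) (tt N37974 F345890) (tt N35933 (iv6 D126477)) (tt N37973 F345891))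
theorem Q66087 : ∀ i, i < 66087 → P i := stepQ 66086 Q66086 (allL N66086 (tt N102436 D205614) (tt N102437 D205615) (tt N36902 F203345) (tt N67799 F345880) (tt N37409 F203346) (tt N67786 F345882) (tt N35934 (iv6 D126478)) (tt N67785 (iv7 F345878)))
theorem Q66088 : ∀ i, i < 66088 → P i := stepQ 66087 Q66087 (allL N66087 (tt N36906 (iv1 F203350)) (tt N35935 (iv0 D126479)) (tt N36903 (iv2 F203348)) (tt N102438 D205616) (tt N38131 F203347) (tt N67885 (iv5 F208204)) (tt N68210 (iv6 F209271)) (tt N36904 (iv7 F203349)))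
theorem Q66089 : ∀ i, i < 66089 → P i := stepQ 66088 Q66088 (allL N66088 (tt N35935 (iv1 D126480)) (tt N36906 F203351) (tt N36904 (iv2 F203354)) (tt N102439 D205617) (tt N38941 F203353) (tt N67884 (iv5 F208200)) (tt N102440 D205618) (tt N36903 F203352))
theorem Q66090 : ∀ i, i < 66090 → P i := stepQ 66089 Q66089 (allL N66089 (tt N102441 D205619) (tt N102442 D205620) (tt N36905 F203355) (tt N37974 F345884) (tt N37989 F345885) (tt N35935 (iv5 D126481)) (tt N67786 F345886) (tt N37969 F345887))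
theorem Q66091 : ∀ i, i < 66091 → P i := stepQ 66090 Q66090 (allL N66090 (tt N36904 (iv1 F203358)) (tt N36903 F203359) (tt N36906 F203356) (tt N37973 F326010) (tt N35936 F203357) (tt N37969 F326011) (tt N66161 (iv6 F203540)) (tt N35935 (iv7 D126482)))
theorem Q66092 : ∀ i, i < 66092 → P i := stepQ 66091 Q66091 (allL N66091 (tt N66165 (iv1 F203549)) (tt N35937 (iv0 D126483)) (tt N66164 (iv2 F336993)) (tt N93057 (iv3 F399318)) (tt N102443 D205621) (tt N102434 (iv5 F437218)) (tt N102444 D205622) (tt N66163 F336994))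
theorem Q66093 : ∀ i, i < 66093 → P i := stepQ 66092 Q66092 (allL N66092 (tt N35937 (iv1 D126484)) (tt N66165 F203551) (tt N66163 F336992) (tt N69014 F216362) (tt N102445 D205623) (tt N69146 (iv5 F216363)) (tt N69064 (iv6 F437760)) (tt N66164 (iv7 F336991)))
theorem Q66094 : ∀ i, i < 66094 → P i := stepQ 66093 Q66093 (allL N66093 (tt N66164 (iv1 F203550)) (tt N66163 F203546) (tt N35937 (iv2 D126485)) (tt N37040 F203360) (tt N69065 (iv4 F212701)) (tt N102446 D205625) (tt N102447 D205626) (tt N66165 (iv7 F203548)))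
theorem Q66095 : ∀ i, i < 66095 → P i := stepQ 66094 Q66094 (allL N66094 (tt N102448 D205627) (tt N69007 (iv0 F212447)) (tt N102446 (iv2 F437263)) (tt N35938 F203361) (tt N102449 D205628) (tt N35937 (iv5 D126486)) (tt N102450 D205629) (tt N66166 (iv7 F203553)))
theorem Q66096 : ∀ i, i < 66096 → P i := stepQ 66095 Q66095 (allL N66095 (tt N102451 D205630) (tt N102452 D205631) (tt N102447 (iv2 F437267)) (tt N35939 F203362) (tt N69067 (iv4 F212709)) (tt N102453 D205632) (tt N35937 (iv6 D126487)) (tt N102454 D205633))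
theorem Q66097 : ∀ i, i < 66097 → P i := stepQ 66096 Q66096 (allL N66096 (tt N102438 F437240) (tt N102455 D205634) (tt N37044 F203363) (tt N102450 (iv3 F437275)) (tt N38590 F203364) (tt N102456 D205635) (tt N35938 (iv6 D126488)) (tt N102457 D205636))
theorem Q66098 : ∀ i, i < 66098 → P i := stepQ 66097 Q66097 (allL N66097 (tt N37048 (iv1 F203368)) (tt N35939 (iv0 D126489)) (tt N37045 F203369) (tt N102436 F437225) (tt N38844 F203365) (tt N102458 D205637) (tt N37105 (iv6 F203366)) (tt N37046 (iv7 F203367)))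
theorem Q66099 : ∀ i, i < 66099 → P i := stepQ 66098 Q66098 (allL N66098 (tt N35939 (iv1 D126490)) (tt N37048 F203371) (tt N37046 (iv2 F203373)) (tt N102459 D205638) (tt N38943 (iv4 F203374)) (tt N102460 D205639) (tt N102461 D205640) (tt N37045 F203372))
theorem Q66100 : ∀ i, i < 66100 → P i := stepQ 66099 Q66099 (allL N66099 (tt N67702 (iv1 F207625)) (tt N102462 D205641) (tt N37047 F203375) (tt N102453 (iv3 F437277)) (tt N102463 D205642) (tt N35939 (iv5 D126491)) (tt N102456 (iv6 F437286)) (tt N102464 D205643))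
theorem Q66101 : ∀ i, i < 66101 → P i := stepQ 66100 Q66100 (allL N66100 (tt N37046 (iv1 F203378)) (tt N37045 F203379) (tt N37048 F203376) (tt N102454 (iv3 F437278)) (tt N35942 F203377) (tt N102464 (iv5 F437323)) (tt N66172 (iv6 F203569)) (tt N35939 (iv7 D126492)))
theorem Q66102 : ∀ i, i < 66102 → P i := stepQ 66101 Q66101 (allL N66101 (tt N66182 (iv1 F203609)) (tt N35945 (iv0 F203383)) (tt N37050 F203380) (tt N102465 D205644) (tt N35940 (iv4 D126493)) (tt N102466 D205645) (tt N37112 F203381) (tt N37054 F203382))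
theorem Q66103 : ∀ i, i < 66103 → P i := stepQ 66102 Q66102 (allL N66102 (tt N57386 F203387) (tt N66236 (iv0 F203787)) (tt N37051 F203384) (tt N68692 (iv3 F211402)) (tt N46974 F332372) (tt N35940 (iv5 D126494)) (tt N66028 F203385) (tt N37055 F203386))
theorem Q66104 : ∀ i, i < 66104 → P i := stepQ 66103 Q66103 (allL N66103 (tt N35945 F203397) (tt N66182 F203608) (tt N37054 F203395) (tt N102467 D205646) (tt N35941 (iv4 D126496)) (tt N102468 D205647) (tt N102469 D205648) (tt N37050 F203396))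
theorem Q66105 : ∀ i, i < 66105 → P i := stepQ 66104 Q66104 (allL N66104 (tt N36103 F203401) (tt N36105 F203402) (tt N37056 F203398) (tt N97968 F419012) (tt N102469 (iv4 F437341)) (tt N37006 F203399) (tt N35941 (iv6 D126497)) (tt N37110 F203400))
theorem Q66106 : ∀ i, i < 66106 → P i := stepQ 66105 Q66105 (allL N66105 (tt N66185 (iv1 F203614)) (tt N35943 (iv0 D126498)) (tt N66184 (iv2 F437756)) (tt N102470 D205650) (tt N102471 D205651) (tt N102470 (iv5 F437448)) (tt N102472 D205653) (tt N66183 (iv7 F437754)))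
theorem Q66107 : ∀ i, i < 66107 → P i := stepQ 66106 Q66106 (allL N66106 (tt N35943 (iv1 D126499)) (tt N66185 F203616) (tt N66183 F437755) (tt N102473 D205655) (tt N70377 (iv4 F217311)) (tt N102474 D205656) (tt N92251 (iv6 F396471)) (tt N66184 (iv7 F437757)))
theorem Q66108 : ∀ i, i < 66108 → P i := stepQ 66107 Q66107 (allL N66107 (tt N66184 (iv1 F203615)) (tt N66183 F203610) (tt N35943 (iv2 D126500)) (tt N66177 (iv3 F203592)) (tt N70166 (iv4 F216854)) (tt N102475 D205657) (tt N102476 D205658) (tt N66185 (iv7 F203613)))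
theorem Q66109 : ∀ i, i < 66109 → P i := stepQ 66108 Q66108 (allL N66108 (tt N102477 D205659) (tt N102478 D205660) (tt N102475 (iv2 F437358)) (tt N35944 F203403) (tt N102479 D205661) (tt N35943 (iv5 D126501)) (tt N102480 D205662) (tt N66186 (iv7 F203618)))
theorem Q66110 : ∀ i, i < 66110 → P i := stepQ 66109 Q66109 (allL N66109 (tt N102481 D205663) (tt N68876 F344990) (tt N102476 (iv2 F437361)) (tt N35945 F203404) (tt N64607 (iv4 F328118)) (tt N66112 (iv5 F344987)) (tt N35943 (iv6 D126502)) (tt N66111 F344988))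
theorem Q66111 : ∀ i, i < 66111 → P i := stepQ 66110 Q66110 (allL N66110 (tt N102482 D205664) (tt N102483 D205665) (tt N66180 (iv2 F203602)) (tt N102480 (iv3 F437378)) (tt N39065 F203405) (tt N102484 D205666) (tt N35944 (iv6 D126503)) (tt N102485 D205667))
theorem Q66112 : ∀ i, i < 66112 → P i := stepQ 66111 Q66111 (allL N66111 (tt N67685 (iv1 F207611)) (tt N102486 D205668) (tt N66181 (iv2 F203604)) (tt N66112 F344989) (tt N46697 F344986) (tt N35945 (iv5 D126504)) (tt N102484 (iv6 F437395)) (tt N66109 (iv7 F344988)))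
theorem Q66113 : ∀ i, i < 66113 → P i := stepQ 66112 Q66112 (allL N66112 (tt N37054 (iv1 F203407)) (tt N37050 F203408) (tt N66182 (iv2 F203605)) (tt N66111 (iv3 F344989)) (tt N38935 F203406) (tt N66109 F344987) (tt N66190 (iv6 F203626)) (tt N35945 (iv7 D126505)))
theorem Q66114 : ∀ i, i < 66114 → P i := stepQ 66113 Q66113 (allL N66113 (tt N66177 (iv1 F203595)) (tt N35946 (iv0 D126506)) (tt N35952 (iv2 F203410)) (tt N37061 F203409) (tt N93183 (iv4 F399846)) (tt N35951 (iv5 F203411)) (tt N69119 F366066) (tt N66176 (iv7 F203590)))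
theorem Q66115 : ∀ i, i < 66115 → P i := stepQ 66114 Q66114 (allL N66114 (tt N35946 (iv1 D126507)) (tt N66177 F203596) (tt N66176 F203587) (tt N35958 (iv3 F203413)) (tt N93032 (iv4 F399188)) (tt N35953 F203414) (tt N102487 D205669) (tt N35952 F203412))
theorem Q66116 : ∀ i, i < 66116 → P i := stepQ 66115 Q66115 (allL N66115 (tt N35952 F203591) (tt N66176 F203588) (tt N35946 (iv2 D126508)) (tt N66185 (iv3 F203611)) (tt N56543 F203415) (tt N42368 F333202) (tt N102488 D205670) (tt N66177 (iv7 F203594)))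
theorem Q66117 : ∀ i, i < 66117 → P i := stepQ 66116 Q66116 (allL N66116 (tt N102489 D205671) (tt N102490 D205672) (tt N102488 (iv2 F437412)) (tt N35948 F203418) (tt N56545 F203419) (tt N75730 F343669) (tt N35946 (iv6 D126510)) (tt N102491 D205673))
theorem Q66118 : ∀ i, i < 66118 → P i := stepQ 66117 Q66117 (allL N66117 (tt N96995 (iv1 F414967)) (tt N96999 (iv0 F414978)) (tt N66189 (iv2 F203623)) (tt N75730 (iv3 F362855)) (tt N102492 D205674) (tt N35948 (iv5 D126512)) (tt N75728 F362859) (tt N102493 D205675))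
theorem Q66119 : ∀ i, i < 66119 → P i := stepQ 66118 Q66118 (allL N66118 (tt N66175 F203585) (tt N66173 (iv0 F203575)) (tt N66190 (iv2 F203624)) (tt N102491 (iv3 F437418)) (tt N38937 F203421) (tt N102493 (iv5 F437423)) (tt N66182 (iv6 F203607)) (tt N35948 (iv7 D126513)))
theorem Q66120 : ∀ i, i < 66120 → P i := stepQ 66119 Q66119 (allL N66119 (tt N35950 (iv1 F203424)) (tt N35949 (iv0 D126514)) (tt N35953 (iv2 F203422)) (tt N66191 (iv3 F203630)) (tt N45043 F332607) (tt N66176 (iv5 F203589)) (tt N102494 D205676) (tt N35951 F203423))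
theorem Q66121 : ∀ i, i < 66121 → P i := stepQ 66120 Q66120 (allL N66120 (tt N35953 (iv1 F203430)) (tt N35951 F203432) (tt N35949 (iv2 D126515)) (tt N102495 D205677) (tt N45142 F327782) (tt N70575 (iv5 F217868)) (tt N85050 (iv6 F371462)) (tt N35950 (iv7 F203425)))
theorem Q66122 : ∀ i, i < 66122 → P i := stepQ 66121 Q66121 (allL N66121 (tt N42364 F327775) (tt N42361 F327776) (tt N45142 F327777) (tt N70701 (iv3 F218138)) (tt N35949 (iv4 D126516)) (tt N45036 F327778) (tt N83659 F327779) (tt N78942 F327780))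
theorem Q66123 : ∀ i, i < 66123 → P i := stepQ 66122 Q66122 (allL N66122 (tt N102496 D205678) (tt N102467 (iv0 F437335)) (tt N85050 (iv2 F371461)) (tt N66204 (iv3 F203651)) (tt N83659 F363814) (tt N102497 D205679) (tt N35949 (iv6 D126517)) (tt N85051 (iv7 F371464)))
theorem Q66124 : ∀ i, i < 66124 → P i := stepQ 66123 Q66123 (allL N66123 (tt N35951 (iv1 F203431)) (tt N35953 (iv0 F203429)) (tt N35950 F203426) (tt N35955 F203427) (tt N78942 F341607) (tt N38930 F203428) (tt N102498 D205680) (tt N35949 (iv7 D126518)))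
theorem Q66125 : ∀ i, i < 66125 → P i := stepQ 66124 Q66124 (allL N66124 (tt N102474 F437356) (tt N102470 F437349) (tt N66205 (iv2 F203653)) (tt N35950 (iv3 D126519)) (tt N102499 D205681) (tt N70292 (iv5 F217129)) (tt N102500 D205682) (tt N102495 (iv7 F437434)))
theorem Q66126 : ∀ i, i < 66126 → P i := stepQ 66125 Q66125 (allL N66125 (tt N42361 F327783) (tt N42364 F327784) (tt N78942 F327785) (tt N61712 (iv3 F203439)) (tt N35950 (iv4 D126520)) (tt N45143 F327786) (tt N78920 F327787) (tt N45142 F327788))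
theorem Q66127 : ∀ i, i < 66127 → P i := stepQ 66126 Q66126 (allL N66126 (tt N67511 (iv1 F212550)) (tt N69048 F212549) (tt N38930 F203442) (tt N70292 (iv3 F217127)) (tt N56588 (iv4 F203443)) (tt N35950 (iv5 D126521)) (tt N102501 D205683) (tt N70575 (iv7 F217869)))
theorem Q66128 : ∀ i, i < 66128 → P i := stepQ 66127 Q66127 (allL N66127 (tt N69160 (iv1 F365589)) (tt N102502 D205684) (tt N102498 (iv2 F437438)) (tt N102500 (iv3 F437449)) (tt N78920 (iv4 F364740)) (tt N102503 D205685) (tt N35950 (iv6 D126522)) (tt N102504 D205686))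
theorem Q66129 : ∀ i, i < 66129 → P i := stepQ 66128 Q66128 (allL N66128 (tt N56472 F392334) (tt N93185 F399859) (tt N93183 (iv2 F399848)) (tt N37735 (iv3 F203444)) (tt N35952 (iv4 D126524)) (tt N79896 (iv5 F363067)) (tt N67354 F342928) (tt N93032 (iv7 F399191)))
theorem Q66130 : ∀ i, i < 66130 → P i := stepQ 66129 Q66129 (allL N66129 (tt N36827 F347620) (tt N92258 F396500) (tt N69119 (iv2 F366063)) (tt N35957 F203445) (tt N67354 F347621) (tt N92271 (iv5 F396533)) (tt N35952 (iv6 D126525)) (tt N92257 (iv7 F396492)))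
theorem Q66131 : ∀ i, i < 66131 → P i := stepQ 66130 Q66130 (allL N66130 (tt N102505 D205687) (tt N97901 (iv0 F418720)) (tt N102494 (iv2 F437427)) (tt N35959 F203446) (tt N56159 (iv4 F332604)) (tt N102506 D205688) (tt N35953 (iv6 D126526)) (tt N68853 (iv7 F211729)))
theorem Q66132 : ∀ i, i < 66132 → P i := stepQ 66131 Q66131 (allL N66131 (tt N102470 F437348) (tt N102474 F437435) (tt N102495 (iv2 F437431)) (tt N35954 (iv3 D126527)) (tt N102507 D205689) (tt N38925 F203447) (tt N102508 D205690) (tt N66205 (iv7 F203655)))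
theorem Q66133 : ∀ i, i < 66133 → P i := stepQ 66132 Q66132 (allL N66132 (tt N102509 D205691) (tt N60734 (iv0 F365935)) (tt N66204 (iv2 F203650)) (tt N102508 (iv3 F437470)) (tt N38997 F203448) (tt N102510 D205692) (tt N35954 (iv6 D126528)) (tt N102511 D205693))
theorem Q66134 : ∀ i, i < 66134 → P i := stepQ 66133 Q66133 (allL N66133 (tt N102512 D205694) (tt N102513 D205695) (tt N66206 (iv2 F203656)) (tt N102498 (iv3 F437439)) (tt N38999 F203449) (tt N82793 F365382) (tt N35955 (iv6 D126529)) (tt N87847 (iv7 F380819)))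
theorem Q66135 : ∀ i, i < 66135 → P i := stepQ 66134 Q66134 (allL N66134 (tt N60742 F342934) (tt N92635 F397710) (tt N67942 (iv2 F208645)) (tt N35956 (iv3 D126530)) (tt N37735 F203450) (tt N38588 F203451) (tt N67355 F342929) (tt N56278 (iv7 F332602)))
theorem Q66136 : ∀ i, i < 66136 → P i := stepQ 66135 Q66135 (allL N66135 (tt N85963 F374642) (tt N74450 (iv0 F347601)) (tt N66207 (iv2 F203658)) (tt N67355 (iv3 F342931)) (tt N35957 F203452) (tt N78893 F347599) (tt N35956 (iv6 D126531)) (tt N92634 (iv7 F397705)))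
theorem Q66137 : ∀ i, i < 66137 → P i := stepQ 66136 Q66136 (allL N66136 (tt N66209 (iv1 F203660)) (tt N66208 F203662) (tt N66210 (iv2 F203661)) (tt N92257 F396494) (tt N92634 (iv4 F397704)) (tt N92276 (iv5 F396556)) (tt N92633 F397701) (tt N35957 (iv7 D126534)))
theorem Q66138 : ∀ i, i < 66138 → P i := stepQ 66137 Q66137 (allL N66137 (tt N70708 (iv1 F364262)) (tt N70709 (iv0 F364215)) (tt N66211 (iv2 F203665)) (tt N102487 (iv3 F437409)) (tt N56277 (iv4 F332591)) (tt N102514 D205696) (tt N35958 (iv6 D126535)) (tt N92633 (iv7 F397698)))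
theorem Q66139 : ∀ i, i < 66139 → P i := stepQ 66138 Q66138 (allL N66138 (tt N36977 (iv1 F203454)) (tt N35959 (iv0 D126536)) (tt N66212 F203669) (tt N102515 D205697) (tt N38570 F203453) (tt N102516 D205698) (tt N99489 (iv6 F424820)) (tt N66213 (iv7 F203672)))
theorem Q66140 : ∀ i, i < 66140 → P i := stepQ 66139 Q66139 (allL N66139 (tt N35959 (iv1 D126537)) (tt N36977 F203455) (tt N66213 (iv2 F203674)) (tt N102517 D205699) (tt N38938 (iv4 F203456)) (tt N102518 D205700) (tt N99059 (iv6 F423179)) (tt N66212 F203670))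
theorem Q66141 : ∀ i, i < 66141 → P i := stepQ 66140 Q66140 (allL N66140 (tt N102519 D205701) (tt N102520 D205702) (tt N66214 (iv2 F203675)) (tt N102506 (iv3 F437463)) (tt N102521 D205703) (tt N35959 (iv5 D126538)) (tt N102514 (iv6 F437485)) (tt N68855 (iv7 F211733)))
theorem Q66142 : ∀ i, i < 66142 → P i := stepQ 66141 Q66141 (allL N66141 (tt N37095 F203458) (tt N37037 (iv0 F203459)) (tt N37237 F203457) (tt N102522 D205704) (tt N35960 (iv4 D126539)) (tt N102523 D205705) (tt N102524 D205706) (tt N66215 (iv7 F203677)))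
theorem Q66143 : ∀ i, i < 66143 → P i := stepQ 66142 Q66142 (allL N66142 (tt N37837 F203461) (tt N58823 (iv0 F203463)) (tt N37238 F203460) (tt N66216 (iv3 F203681)) (tt N102525 D205707) (tt N35960 (iv5 D126540)) (tt N37809 F203462) (tt N66216 (iv7 F203682)))
theorem Q66144 : ∀ i, i < 66144 → P i := stepQ 66143 Q66143 (allL N66143 (tt N37056 F203465) (tt N37110 (iv0 F203467)) (tt N36105 F203464) (tt N66217 (iv3 F203687)) (tt N102524 (iv4 F437496)) (tt N36005 F203466) (tt N35960 (iv6 D126541)) (tt N36103 (iv7 F203468)))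
theorem Q66145 : ∀ i, i < 66145 → P i := stepQ 66144 Q66144 (allL N66144 (tt N62849 (iv1 F319937)) (tt N74919 F363648) (tt N74918 F363638) (tt N35961 (iv3 D126542)) (tt N58952 F203469) (tt N39002 F203470) (tt N102526 D205708) (tt N66073 F203471))
theorem Q66146 : ∀ i, i < 66146 → P i := stepQ 66145 Q66145 (allL N66145 (tt N37414 (iv1 F203475)) (tt N37309 (iv0 F203474)) (tt N37689 F203472) (tt N102526 (iv3 F437505)) (tt N35962 F203473) (tt N102527 D205709) (tt N35961 (iv6 D126543)) (tt N62000 (iv7 F203476)))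
theorem Q66147 : ∀ i, i < 66147 → P i := stepQ 66146 Q66146 (allL N66146 (tt N36088 (iv1 F203481)) (tt N37690 F203482) (tt N37692 F203477) (tt N58954 F203478) (tt N62000 F203479) (tt N94217 (iv5 F403739)) (tt N66076 F203480) (tt N35962 (iv7 D126544)))
theorem Q66148 : ∀ i, i < 66148 → P i := stepQ 66147 Q66147 (allL N66147 (tt N35963 (iv1 D126545)) (tt N37734 F203485) (tt N37733 F203489) (tt N57721 (iv3 F203488)) (tt N39047 F203490) (tt N65692 F203487) (tt N66065 (iv6 F203491)) (tt N37732 F203486))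
theorem Q66149 : ∀ i, i < 66149 → P i := stepQ 66148 Q66148 (allL N66148 (tt N37733 (iv1 F203502)) (tt N37732 F203503) (tt N37734 F203498) (tt N58956 F203499) (tt N38995 F203500) (tt N92116 (iv5 F395818)) (tt N66077 F203501) (tt N35963 (iv7 D126546)))
theorem Q66150 : ∀ i, i < 66150 → P i := stepQ 66149 Q66149 (allL N66149 (tt N70028 (iv1 F216443)) (tt N35964 (iv0 D126547)) (tt N60815 (iv2 F364675)) (tt N102528 D205710) (tt N98634 (iv4 F421666)) (tt N55707 F364674) (tt N75735 (iv6 F364677)) (tt N60811 (iv7 F364676)))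
theorem Q66151 : ∀ i, i < 66151 → P i := stepQ 66150 Q66150 (allL N66150 (tt N35964 (iv1 D126548)) (tt N70028 F216445) (tt N60811 (iv2 F364682)) (tt N92635 F397712) (tt N102529 D205711) (tt N55706 F364683) (tt N102530 D205712) (tt N60815 F364684))
theorem Q66152 : ∀ i, i < 66152 → P i := stepQ 66151 Q66151 (allL N66151 (tt N60815 (iv1 F333538)) (tt N60811 (iv0 F349618)) (tt N35964 (iv2 D126549)) (tt N66079 F203504) (tt N55843 F203505) (tt N56174 (iv5 F332609)) (tt N60984 (iv6 F332587)) (tt N70028 (iv7 F216442)))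
theorem Q66153 : ∀ i, i < 66153 → P i := stepQ 66152 Q66152 (allL N66152 (tt N35966 (iv1 D126552)) (tt N58951 F203517) (tt N37790 F203520) (tt N57727 (iv3 F203519)) (tt N39008 F203521) (tt N102531 D205713) (tt N66376 (iv6 F204067)) (tt N60876 (iv7 F327842)))
theorem Q66154 : ∀ i, i < 66154 → P i := stepQ 66153 Q66153 (allL N66153 (tt N66083 (iv1 F203522)) (tt N35967 (iv0 D126553)) (tt N66082 F380830) (tt N92925 (iv3 F398782)) (tt N102532 D205714) (tt N102448 (iv5 F437272)) (tt N102533 D205715) (tt N66081 F380828))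
theorem Q66155 : ∀ i, i < 66155 → P i := stepQ 66154 Q66154 (allL N66154 (tt N35967 (iv1 D126554)) (tt N66083 F203526) (tt N66081 (iv2 F380827)) (tt N67779 (iv3 F380823)) (tt N102534 D205716) (tt N69007 F380826) (tt N102535 D205717) (tt N66082 (iv7 F380829)))
theorem Q66156 : ∀ i, i < 66156 → P i := stepQ 66155 Q66155 (allL N66155 (tt N66082 (iv1 F203527)) (tt N66081 F203525) (tt N35967 (iv2 D126555)) (tt N37884 F203523) (tt N67665 (iv4 F207597)) (tt N102536 D205718) (tt N102537 D205719) (tt N66083 F203524))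
theorem Q66157 : ∀ i, i < 66157 → P i := stepQ 66156 Q66156 (allL N66156 (tt N70348 F217260) (tt N67774 (iv0 F208386)) (tt N102536 (iv2 F437549)) (tt N35968 F203528) (tt N102538 D205720) (tt N35967 (iv5 D126556)) (tt N102539 D205721) (tt N66084 F203529))
theorem Q66158 : ∀ i, i < 66158 → P i := stepQ 66157 Q66157 (allL N66157 (tt N102540 D205722) (tt N102541 D205723) (tt N102537 (iv2 F437556)) (tt N35969 F203530) (tt N67667 (iv4 F207600)) (tt N69154 F345899) (tt N35967 (iv6 D126557)) (tt N69153 (iv7 F345893)))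
theorem Q66159 : ∀ i, i < 66159 → P i := stepQ 66158 Q66158 (allL N66158 (tt N102542 D205724) (tt N88761 F384070) (tt N37887 F203531) (tt N102539 (iv3 F437566)) (tt N38126 F203532) (tt N102543 D205725) (tt N35968 (iv6 D126558)) (tt N102544 D205726))
theorem Q66160 : ∀ i, i < 66160 → P i := stepQ 66159 Q66159 (allL N66159 (tt N37890 (iv1 F203536)) (tt N35969 (iv0 D126559)) (tt N37888 (iv2 F203534)) (tt N102545 D205727) (tt N37413 F203533) (tt N102546 D205728) (tt N67703 (iv6 F207626)) (tt N37820 F203535))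
theorem Q66161 : ∀ i, i < 66161 → P i := stepQ 66160 Q66160 (allL N66160 (tt N102547 D205729) (tt N102548 D205730) (tt N37889 F203537) (tt N69154 (iv3 F345900)) (tt N102549 D205731) (tt N35969 (iv5 D126560)) (tt N102543 (iv6 F437578)) (tt N69151 F345901))
theorem Q66162 : ∀ i, i < 66162 → P i := stepQ 66161 Q66161 (allL N66161 (tt N37820 (iv1 F203541)) (tt N37888 F203542) (tt N37890 F203538) (tt N69153 F345898) (tt N35971 F203539) (tt N69151 (iv5 F345903)) (tt N66090 F203540) (tt N35969 (iv7 D126561)))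
theorem Q66163 : ∀ i, i < 66163 → P i := stepQ 66162 Q66162 (allL N66162 (tt N67675 (iv1 F207606)) (tt N38744 (iv0 F203545)) (tt N37891 F203543) (tt N102550 D205732) (tt N35970 (iv4 D126562)) (tt N72081 F344613) (tt N67686 (iv6 F207613)) (tt N37816 F203544))
theorem Q66164 : ∀ i, i < 66164 → P i := stepQ 66163 Q66163 (allL N66163 (tt N66093 (iv1 F203546)) (tt N35972 (iv0 D126563)) (tt N66092 (iv2 F336992)) (tt N68753 (iv3 F211510)) (tt N102551 D205733) (tt N70348 F336995) (tt N67846 F396541) (tt N66091 (iv7 F336994)))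
theorem Q66165 : ∀ i, i < 66165 → P i := stepQ 66164 Q66164 (allL N66164 (tt N35972 (iv1 D126564)) (tt N66093 F203550) (tt N66091 F336993) (tt N67548 (iv3 F336989)) (tt N102552 D205734) (tt N67774 F336990) (tt N102553 D205735) (tt N66092 F336991))
theorem Q66166 : ∀ i, i < 66166 → P i := stepQ 66165 Q66165 (allL N66165 (tt N66092 (iv1 F203551)) (tt N66091 F203549) (tt N35972 (iv2 D126565)) (tt N37967 F203547) (tt N67848 (iv4 F208154)) (tt N102554 D205736) (tt N102285 F436556) (tt N66093 F203548))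
theorem Q66167 : ∀ i, i < 66167 → P i := stepQ 66166 Q66166 (allL N66166 (tt N70298 (iv1 F217154)) (tt N67539 (iv0 F212217)) (tt N102554 (iv2 F437631)) (tt N35973 F203552) (tt N102555 D205737) (tt N35972 (iv5 D126566)) (tt N102556 D205738) (tt N66094 F203553))
theorem Q66168 : ∀ i, i < 66168 → P i := stepQ 66167 Q66167 (allL N66167 (tt N102557 D205739) (tt N102558 D205740) (tt N102285 (iv2 F436553)) (tt N35974 F203554) (tt N67850 (iv4 F208157)) (tt N102273 (iv5 F436488)) (tt N35972 (iv6 D126567)) (tt N68924 (iv7 F361166)))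
theorem Q66169 : ∀ i, i < 66169 → P i := stepQ 66168 Q66168 (allL N66168 (tt N102545 F437594) (tt N102559 D205741) (tt N37970 F203555) (tt N102556 (iv3 F437641)) (tt N38839 F203556) (tt N102560 D205742) (tt N35973 (iv6 D126568)) (tt N102561 D205743))
theorem Q66170 : ∀ i, i < 66170 → P i := stepQ 66169 Q66169 (allL N66169 (tt N37974 (iv1 F203560)) (tt N35974 (iv0 D126569)) (tt N37971 (iv2 F203558)) (tt N102542 (iv3 F437572)) (tt N38595 F203557) (tt N102562 D205744) (tt N102563 D205745) (tt N37972 (iv7 F203559)))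
theorem Q66171 : ∀ i, i < 66171 → P i := stepQ 66170 Q66170 (allL N66170 (tt N35974 (iv1 D126570)) (tt N37974 F203561) (tt N37972 (iv2 F203564)) (tt N102564 D205746) (tt N38936 F203563) (tt N102565 D205747) (tt N37928 (iv6 F203565)) (tt N37971 F203562))
theorem Q66172 : ∀ i, i < 66172 → P i := stepQ 66171 Q66171 (allL N66171 (tt N68920 (iv1 F211893)) (tt N68918 (iv0 F211892)) (tt N37973 F203566) (tt N102273 (iv3 F436487)) (tt N67872 F345894) (tt N35974 (iv5 D126571)) (tt N102560 (iv6 F437655)) (tt N102433 (iv7 F437214)))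
theorem Q66173 : ∀ i, i < 66173 → P i := stepQ 66172 Q66172 (allL N66172 (tt N37972 (iv1 F203570)) (tt N37971 F203571) (tt N37974 F203567) (tt N68924 (iv3 F361170)) (tt N35977 F203568) (tt N102433 F437212) (tt N66100 F203569) (tt N35974 (iv7 D126572)))
theorem Q66174 : ∀ i, i < 66174 → P i := stepQ 66173 Q66173 (allL N66173 (tt N66118 F203575) (tt N35983 F203574) (tt N37976 F203572) (tt N102566 D205748) (tt N35975 (iv4 D126573)) (tt N102567 D205749) (tt N102568 D205750) (tt N37979 F203573))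
theorem Q66175 : ∀ i, i < 66175 → P i := stepQ 66174 Q66174 (allL N66174 (tt N38107 F203579) (tt N55939 (iv0 F203580)) (tt N37977 F203576) (tt N93046 (iv3 F399256)) (tt N102568 (iv4 F437696)) (tt N37893 F203577) (tt N35975 (iv6 D126574)) (tt N37938 F203578))
theorem Q66176 : ∀ i, i < 66176 → P i := stepQ 66175 Q66175 (allL N66175 (tt N35983 F203584) (tt N66118 (iv0 F203585)) (tt N37979 F203581) (tt N102569 D205751) (tt N35976 (iv4 D126575)) (tt N102570 D205752) (tt N37933 F203582) (tt N37976 F203583))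
theorem Q66177 : ∀ i, i < 66177 → P i := stepQ 66176 Q66176 (allL N66176 (tt N66115 (iv1 F203588)) (tt N35978 (iv0 D126576)) (tt N66114 (iv2 F203587)) (tt N37982 F203586) (tt N69246 (iv4 F213555)) (tt N66119 F203589) (tt N102571 D205753) (tt N66113 F203590))
theorem Q66178 : ∀ i, i < 66178 → P i := stepQ 66177 Q66177 (allL N66177 (tt N66114 (iv1 F203596)) (tt N66113 F203595) (tt N35978 (iv2 D126577)) (tt N66107 F203592) (tt N37748 F203593) (tt N67509 F212400) (tt N93220 (iv6 F400014)) (tt N66115 F203594))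
theorem Q66179 : ∀ i, i < 66179 → P i := stepQ 66178 Q66178 (allL N66178 (tt N67510 (iv1 F207330)) (tt N37872 (iv0 F203599)) (tt N67509 F212399) (tt N35979 F203597) (tt N45086 F333194) (tt N35978 (iv5 D126578)) (tt N102572 D205754) (tt N45085 F333195))
theorem Q66180 : ∀ i, i < 66180 → P i := stepQ 66179 Q66179 (allL N66179 (tt N102573 D205755) (tt N97732 (iv0 F418103)) (tt N93220 (iv2 F400013)) (tt N35980 F203600) (tt N37749 F203601) (tt N102574 D205756) (tt N35978 (iv6 D126579)) (tt N102575 D205757))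
theorem Q66181 : ∀ i, i < 66181 → P i := stepQ 66180 Q66180 (allL N66180 (tt N88694 F399492) (tt N102576 D205758) (tt N66110 F203602) (tt N102572 (iv3 F437715)) (tt N38993 F203603) (tt N82650 F344978) (tt N35979 (iv6 D126580)) (tt N102577 D205759))
theorem Q66182 : ∀ i, i < 66182 → P i := stepQ 66181 Q66181 (allL N66181 (tt N68876 (iv1 F211798)) (tt N102481 F437384) (tt N66111 F203604) (tt N102574 (iv3 F437720)) (tt N54123 F344985) (tt N35980 (iv5 D126581)) (tt N82650 (iv6 F344983)) (tt N102476 (iv7 F437364)))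
theorem Q66183 : ∀ i, i < 66183 → P i := stepQ 66182 Q66182 (allL N66182 (tt N66103 (iv1 F203608)) (tt N66101 F203609) (tt N66112 F203605) (tt N102575 (iv3 F437726)) (tt N38944 F203606) (tt N102476 F437365) (tt N66118 F203607) (tt N35980 (iv7 D126582)))
theorem Q66184 : ∀ i, i < 66184 → P i := stepQ 66183 Q66183 (allL N66183 (tt N66107 (iv1 F203610)) (tt N35981 (iv0 D126583)) (tt N66106 (iv2 F437755)) (tt N102578 D205761) (tt N102579 D205762) (tt N102578 F437747) (tt N69879 F437753) (tt N66105 F437754))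
theorem Q66185 : ∀ i, i < 66185 → P i := stepQ 66184 Q66184 (allL N66184 (tt N35981 (iv1 D126584)) (tt N66107 F203615) (tt N66105 F437756) (tt N102580 D205763) (tt N102581 D205764) (tt N102582 D205765) (tt N102583 D205766) (tt N66106 F437757))
theorem Q66186 : ∀ i, i < 66186 → P i := stepQ 66185 Q66185 (allL N66185 (tt N66106 (iv1 F203616)) (tt N66105 F203614) (tt N35981 (iv2 D126585)) (tt N66115 F203611) (tt N38783 F203612) (tt N75705 (iv5 F364736)) (tt N82801 F344980) (tt N66107 F203613))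
theorem Q66187 : ∀ i, i < 66187 → P i := stepQ 66186 Q66186 (allL N66186 (tt N102584 D205767) (tt N102585 D205768) (tt N75705 F364737) (tt N35982 F203617) (tt N102586 D205769) (tt N35981 (iv5 D126586)) (tt N75726 (iv6 F364738)) (tt N66108 F203618))
theorem Q66188 : ∀ i, i < 66188 → P i := stepQ 66187 Q66187 (allL N66187 (tt N102587 D205770) (tt N53011 F344981) (tt N82801 (iv2 F344979)) (tt N35983 F203619) (tt N38785 F203620) (tt N102485 (iv5 F437402)) (tt N35981 (iv6 D126587)) (tt N102484 (iv7 F437397)))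
theorem Q66189 : ∀ i, i < 66189 → P i := stepQ 66188 Q66188 (allL N66188 (tt N102588 D205771) (tt N102589 D205772) (tt N45088 F333187) (tt N75726 F333188) (tt N38985 F203622) (tt N102590 D205773) (tt N35982 (iv6 D126588)) (tt N102591 D205774))
theorem Q66190 : ∀ i, i < 66190 → P i := stepQ 66189 Q66189 (allL N66189 (tt N68930 (iv1 F211909)) (tt N68927 (iv0 F211903)) (tt N66117 F203623) (tt N102485 (iv3 F437400)) (tt N102592 D205775) (tt N35983 (iv5 D126589)) (tt N102590 (iv6 F437818)) (tt N102480 F437380))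
theorem Q66191 : ∀ i, i < 66191 → P i := stepQ 66190 Q66190 (allL N66190 (tt N37979 (iv1 F203627)) (tt N37976 F203628) (tt N66118 F203624) (tt N102484 (iv3 F437394)) (tt N38780 F203625) (tt N102480 (iv5 F437379)) (tt N66112 F203626) (tt N35983 (iv7 D126590)))
theorem Q66192 : ∀ i, i < 66192 → P i := stepQ 66191 Q66191 (allL N66191 (tt N35985 (iv1 F203633)) (tt N35984 (iv0 D126591)) (tt N35988 (iv2 F203629)) (tt N66119 F203630) (tt N69850 (iv4 F216254)) (tt N37982 F203631) (tt N102593 D205776) (tt N35986 F203632))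
theorem Q66193 : ∀ i, i < 66193 → P i := stepQ 66192 Q66192 (allL N66192 (tt N35988 F208368) (tt N35986 F208369) (tt N35984 (iv2 D126592)) (tt N67813 F208370) (tt N38542 F208371) (tt N67623 F208372) (tt N102594 D205777) (tt N35985 (iv7 F203634)))
theorem Q66194 : ∀ i, i < 66194 → P i := stepQ 66193 Q66193 (allL N66193 (tt N102580 F437770) (tt N102595 D205778) (tt N93227 (iv2 F400034)) (tt N35984 (iv3 D126593)) (tt N66016 (iv4 F343606)) (tt N102394 (iv5 F437041)) (tt N102596 D205779) (tt N93230 (iv7 F400048)))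
theorem Q66195 : ∀ i, i < 66195 → P i := stepQ 66194 Q66194 (allL N66194 (tt N78700 F336987) (tt N75127 F336998) (tt N38542 (iv2 F208380)) (tt N77223 (iv3 F349810)) (tt N35984 (iv4 D126594)) (tt N77221 F360769) (tt N102597 D205780) (tt N78699 (iv7 F337004)))
theorem Q66196 : ∀ i, i < 66196 → P i := stepQ 66195 Q66195 (allL N66195 (tt N37901 (iv1 F203636)) (tt N37898 F203635) (tt N67623 (iv2 F208373)) (tt N102394 (iv3 F437040)) (tt N68944 F211991) (tt N35984 (iv5 D126595)) (tt N102598 D205781) (tt N67622 F208376))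
theorem Q66197 : ∀ i, i < 66197 → P i := stepQ 66196 Q66196 (allL N66196 (tt N102599 D205782) (tt N67807 (iv0 F437843)) (tt N102594 (iv2 F437833)) (tt N102596 (iv3 F437841)) (tt N102597 (iv4 F437846)) (tt N102600 D205783) (tt N35984 (iv6 D126596)) (tt N102601 D205784))
theorem Q66198 : ∀ i, i < 66198 → P i := stepQ 66197 Q66197 (allL N66197 (tt N35986 F208377) (tt N35988 F208378) (tt N35985 F203637) (tt N93230 (iv3 F400047)) (tt N78699 F337003) (tt N67622 F208379) (tt N102602 D205785) (tt N35984 (iv7 D126597)))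
theorem Q66199 : ∀ i, i < 66199 → P i := stepQ 66198 Q66198 (allL N66198 (tt N35987 F208390) (tt N37982 F208391) (tt N37198 F208383) (tt N35985 (iv3 D126598)) (tt N37197 F208382) (tt N67522 F208392) (tt N102603 D205786) (tt N67813 (iv7 F208381)))
theorem Q66200 : ∀ i, i < 66200 → P i := stepQ 66199 Q66199 (allL N66199 (tt N75127 (iv1 F336997)) (tt N78700 F336988) (tt N78699 F337002) (tt N38545 (iv3 F208366)) (tt N35985 (iv4 D126599)) (tt N102604 D205787) (tt N39827 F333874) (tt N38542 F208367))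
theorem Q66201 : ∀ i, i < 66201 → P i := stepQ 66200 Q66200 (allL N66200 (tt N37898 (iv1 F203640)) (tt N37901 F203639) (tt N67622 F208375) (tt N67522 (iv3 F208393)) (tt N69541 (iv4 F214705)) (tt N35985 (iv5 D126600)) (tt N99181 (iv6 F423607)) (tt N67623 (iv7 F208374)))
theorem Q66202 : ∀ i, i < 66202 → P i := stepQ 66201 Q66201 (allL N66201 (tt N102566 F437689) (tt N102605 D205788) (tt N102602 (iv2 F437855)) (tt N102603 (iv3 F437858)) (tt N39827 F364602) (tt N102606 D205789) (tt N35985 (iv6 D126601)) (tt N102607 D205790))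
theorem Q66203 : ∀ i, i < 66203 → P i := stepQ 66202 Q66202 (allL N66202 (tt N37982 (iv1 F203645)) (tt N35987 (iv0 D126604)) (tt N67813 F208388) (tt N93227 (iv3 F400035)) (tt N37173 (iv4 F208362)) (tt N67521 (iv5 F207344)) (tt N102608 D205791) (tt N37198 F208389))
theorem Q66204 : ∀ i, i < 66204 → P i := stepQ 66203 Q66203 (allL N66203 (tt N102609 D205792) (tt N102610 D205793) (tt N102593 (iv2 F437831)) (tt N35994 F203649) (tt N69851 (iv4 F216259)) (tt N102611 D205794) (tt N35988 (iv6 D126607)) (tt N67660 (iv7 F207594)))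
theorem Q66205 : ∀ i, i < 66205 → P i := stepQ 66204 Q66204 (allL N66204 (tt N97810 F418387) (tt N97793 (iv0 F418328)) (tt N66132 F203650) (tt N66122 F203651) (tt N39003 F203652) (tt N102612 D205795) (tt N35989 (iv6 D126608)) (tt N97809 (iv7 F418382)))
theorem Q66206 : ∀ i, i < 66206 → P i := stepQ 66205 Q66205 (allL N66205 (tt N102578 F437745) (tt N102582 (iv0 F437779)) (tt N66124 F203653) (tt N35990 (iv3 D126609)) (tt N92265 (iv4 F396518)) (tt N38743 F203654) (tt N102613 D205796) (tt N66131 F203655))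
theorem Q66207 : ∀ i, i < 66207 → P i := stepQ 66206 Q66206 (allL N66206 (tt N102614 D205797) (tt N102615 D205798) (tt N66133 F203656) (tt N102613 (iv3 F437892)) (tt N39001 F203657) (tt N71953 (iv5 F365383)) (tt N35990 (iv6 D126610)) (tt N102616 D205799))
theorem Q66208 : ∀ i, i < 66208 → P i := stepQ 66207 Q66207 (allL N66207 (tt N84994 F371306) (tt N74780 (iv0 F355298)) (tt N66135 F203658) (tt N37137 F326068) (tt N35992 F203659) (tt N63410 (iv5 F347600)) (tt N35991 (iv6 D126611)) (tt N69220 F326069))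
theorem Q66209 : ∀ i, i < 66209 → P i := stepQ 66208 Q66208 (allL N66208 (tt N66136 (iv1 F203662)) (tt N35992 (iv0 D126612)) (tt N61710 (iv2 F355359)) (tt N55841 (iv3 F355361)) (tt N61709 F355358) (tt N98695 F421884) (tt N102617 D205800) (tt N61714 (iv7 F355360)))
theorem Q66210 : ∀ i, i < 66210 → P i := stepQ 66209 Q66209 (allL N66209 (tt N35992 (iv1 D126613)) (tt N66136 F203660) (tt N61714 (iv2 F355362)) (tt N102499 (iv3 F437444)) (tt N61712 F355363) (tt N102618 D205801) (tt N102619 D205802) (tt N61710 F355364))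
theorem Q66211 : ∀ i, i < 66211 → P i := stepQ 66210 Q66210 (allL N66210 (tt N61714 (iv1 F326945)) (tt N61710 (iv0 F326946)) (tt N66136 F203661) (tt N37939 F326070) (tt N69220 F326071) (tt N90058 (iv5 F388444)) (tt N102620 D205803) (tt N35992 (iv7 D126614)))
theorem Q66212 : ∀ i, i < 66212 → P i := stepQ 66211 Q66211 (allL N66211 (tt N70830 F350917) (tt N70832 (iv0 F362724)) (tt N66137 F203665) (tt N67814 (iv3 F207875)) (tt N66080 F203666) (tt N102621 D205804) (tt N35993 (iv6 D126615)) (tt N102620 (iv7 F437928)))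
theorem Q66213 : ∀ i, i < 66213 → P i := stepQ 66212 Q66212 (allL N66212 (tt N37797 (iv1 F203668)) (tt N35994 (iv0 D126616)) (tt N66138 (iv2 F203669)) (tt N102622 D205805) (tt N38949 F203667) (tt N102623 D205806) (tt N71752 (iv6 F220485)) (tt N66139 (iv7 F203670)))
theorem Q66214 : ∀ i, i < 66214 → P i := stepQ 66213 Q66213 (allL N66213 (tt N35994 (iv1 D126617)) (tt N37797 F203671) (tt N66139 F203674) (tt N102624 D205807) (tt N38834 (iv4 F203673)) (tt N102625 D205808) (tt N73303 (iv6 F224326)) (tt N66138 F203672))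
theorem Q66215 : ∀ i, i < 66215 → P i := stepQ 66214 Q66214 (allL N66214 (tt N102626 D205809) (tt N102627 D205810) (tt N66140 F203675) (tt N102611 (iv3 F437885)) (tt N102628 D205811) (tt N35994 (iv5 D126618)) (tt N102621 (iv6 F437932)) (tt N67662 (iv7 F207595)))
theorem Q66216 : ∀ i, i < 66216 → P i := stepQ 66215 Q66215 (allL N66215 (tt N37964 F203678) (tt N37921 (iv0 F203679)) (tt N38105 F203676) (tt N102629 D205812) (tt N35995 (iv4 D126619)) (tt N102630 D205813) (tt N102631 D205814) (tt N66141 F203677))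
theorem Q66217 : ∀ i, i < 66217 → P i := stepQ 66216 Q66216 (allL N66216 (tt N36911 F203683) (tt N60013 (iv0 F203685)) (tt N38106 F203680) (tt N66142 F203681) (tt N102632 D205815) (tt N35995 (iv5 D126620)) (tt N36882 F203684) (tt N66142 F203682))
theorem Q66218 : ∀ i, i < 66218 → P i := stepQ 66217 Q66217 (allL N66217 (tt N37938 F203689) (tt N37977 (iv0 F203691)) (tt N38107 F203686) (tt N66143 F203687) (tt N102631 (iv4 F437950)) (tt N55863 F203690) (tt N35995 (iv6 D126621)) (tt N55939 F203688))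
theorem Q66219 : ∀ i, i < 66219 → P i := stepQ 66218 Q66218 (allL N66218 (tt N36077 (iv1 F203692)) (tt N35996 (iv0 D126622)) (tt N36076 (iv2 F203695)) (tt N102633 D205816) (tt N72567 (iv4 F222671)) (tt N66421 F204657) (tt N75312 (iv6 F337907)) (tt N36075 (iv7 F203697)))
theorem Q66220 : ∀ i, i < 66220 → P i := stepQ 66219 Q66219 (allL N66219 (tt N35996 (iv1 D126623)) (tt N36077 F203698) (tt N36075 F203696) (tt N36186 F323525) (tt N62274 (iv4 F203693)) (tt N36185 (iv5 F324860)) (tt N94070 F403063) (tt N36076 F203694))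
theorem Q66221 : ∀ i, i < 66221 → P i := stepQ 66220 Q66220 (allL N66220 (tt N36076 (iv1 F203703)) (tt N36075 F203702) (tt N35996 (iv2 D126624)) (tt N36049 F203699) (tt N51202 (iv4 F329618)) (tt N97654 (iv5 F417791)) (tt N51201 (iv6 F334194)) (tt N36077 F203701))
theorem Q66222 : ∀ i, i < 66222 → P i := stepQ 66221 Q66221 (allL N66221 (tt N102634 D205817) (tt N69144 (iv0 F336302)) (tt N97654 (iv2 F417790)) (tt N35997 F203704) (tt N66591 (iv4 F204614)) (tt N35996 (iv5 D126625)) (tt N102635 D205818) (tt N36078 F203705))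
theorem Q66223 : ∀ i, i < 66223 → P i := stepQ 66222 Q66222 (allL N66222 (tt N71655 F360533) (tt N71659 F362712) (tt N36053 F203708) (tt N102635 (iv3 F437972)) (tt N39204 F203709) (tt N102636 D205819) (tt N35997 (iv6 D126627)) (tt N102637 D205820))
theorem Q66224 : ∀ i, i < 66224 → P i := stepQ 66223 Q66223 (allL N66223 (tt N94096 (iv1 F403185)) (tt N94097 (iv0 F403189)) (tt N36056 F203710) (tt N52642 (iv3 F329040)) (tt N100046 (iv4 F427360)) (tt N35998 (iv5 D126628)) (tt N102636 (iv6 F437978)) (tt N55031 (iv7 F346518)))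
theorem Q66225 : ∀ i, i < 66225 → P i := stepQ 66224 Q66224 (allL N66224 (tt N36049 (iv1 F203712)) (tt N35999 (iv0 D126629)) (tt N36048 F203951) (tt N39458 F203711) (tt N102638 D205821) (tt N66387 F220092) (tt N102639 D205822) (tt N36047 (iv7 F203950)))
theorem Q66226 : ∀ i, i < 66226 → P i := stepQ 66225 Q66225 (allL N66225 (tt N35999 (iv1 D126630)) (tt N36049 F203717) (tt N36047 F203952) (tt N102640 D205823) (tt N61863 (iv4 F203713)) (tt N66388 F220098) (tt N98946 (iv6 F422835)) (tt N36048 F203953))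
theorem Q66227 : ∀ i, i < 66227 → P i := stepQ 66226 Q66226 (allL N66226 (tt N36048 (iv1 F203718)) (tt N36047 F203716) (tt N35999 (iv2 D126631)) (tt N36077 F203714) (tt N62148 F357037) (tt N102641 D205824) (tt N62146 (iv6 F357036)) (tt N36049 F203715))
theorem Q66228 : ∀ i, i < 66228 → P i := stepQ 66227 Q66227 (allL N66227 (tt N99177 F423588) (tt N99179 (iv0 F423599)) (tt N102641 (iv2 F438004)) (tt N36000 F203719) (tt N102642 D205825) (tt N35999 (iv5 D126632)) (tt N78599 (iv6 F347024)) (tt N36050 F203720))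
theorem Q66229 : ∀ i, i < 66229 → P i := stepQ 66228 Q66228 (allL N66228 (tt N60059 F362019) (tt N94059 (iv0 F403020)) (tt N62146 (iv2 F357033)) (tt N36001 F203721) (tt N61818 (iv4 F357067)) (tt N43973 F331936) (tt N35999 (iv6 D126633)) (tt N62142 F350930))
theorem Q66230 : ∀ i, i < 66230 → P i := stepQ 66229 Q66229 (allL N66229 (tt N71500 (iv1 F347047)) (tt N69215 F347019) (tt N36080 F203722) (tt N78599 F347021) (tt N39202 F203723) (tt N43974 F347020) (tt N36000 (iv6 D126634)) (tt N90469 (iv7 F389772)))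
theorem Q66231 : ∀ i, i < 66231 → P i := stepQ 66230 Q66230 (allL N66230 (tt N36116 (iv1 F203725)) (tt N36002 (iv0 D126636)) (tt N36115 (iv2 F203729)) (tt N102643 D205826) (tt N73246 (iv4 F224196)) (tt N102634 (iv5 F437965)) (tt N75419 (iv6 F336322)) (tt N36114 (iv7 F203731)))
theorem Q66232 : ∀ i, i < 66232 → P i := stepQ 66231 Q66231 (allL N66231 (tt N36115 (iv1 F203737)) (tt N36114 F203736) (tt N36002 (iv2 D126638)) (tt N36094 F203733) (tt N58998 F203734) (tt N66520 F345628) (tt N94029 (iv6 F402884)) (tt N36116 F203735))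
theorem Q66233 : ∀ i, i < 66233 → P i := stepQ 66232 Q66232 (allL N66232 (tt N66356 F204042) (tt N37033 F325312) (tt N66520 F325313) (tt N36003 F203738) (tt N60587 (iv4 F203740)) (tt N36002 (iv5 D126639)) (tt N68986 (iv6 F338380)) (tt N36117 F203739))
theorem Q66234 : ∀ i, i < 66234 → P i := stepQ 66233 Q66233 (allL N66233 (tt N91713 F394149) (tt N82436 (iv0 F348159)) (tt N94029 (iv2 F402882)) (tt N36004 F203775) (tt N51212 (iv4 F360197)) (tt N80057 F338382) (tt N36002 (iv6 D126640)) (tt N97378 (iv7 F416600)))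
theorem Q66235 : ∀ i, i < 66235 → P i := stepQ 66234 Q66234 (allL N66234 (tt N69404 (iv1 F344345)) (tt N71852 (iv0 F338477)) (tt N36098 F203777) (tt N68986 (iv3 F338373)) (tt N39187 F203778) (tt N80055 F328565) (tt N36003 (iv6 D126641)) (tt N51691 F328566))
theorem Q66236 : ∀ i, i < 66236 → P i := stepQ 66235 Q66235 (allL N66235 (tt N36100 (iv1 F203783)) (tt N36099 F203784) (tt N36101 F203780) (tt N97378 (iv3 F416598)) (tt N36006 F203781) (tt N94026 (iv5 F402869)) (tt N36123 F203782) (tt N36004 (iv7 D126643)))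
theorem Q66237 : ∀ i, i < 66237 → P i := stepQ 66236 Q66236 (allL N66236 (tt N66102 F203787) (tt N36171 (iv0 F203788)) (tt N36106 F203785) (tt N67518 (iv3 F207337)) (tt N71748 (iv4 F220476)) (tt N37809 F203786) (tt N36005 (iv6 D126644)) (tt N67688 (iv7 F207618)))
theorem Q66238 : ∀ i, i < 66238 → P i := stepQ 66237 Q66237 (allL N66237 (tt N69394 F327902) (tt N37425 F327903) (tt N36119 F203789) (tt N69541 F327904) (tt N39182 F203790) (tt N69671 F327905) (tt N36007 (iv6 D126645)) (tt N69393 F327906))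
theorem Q66239 : ∀ i, i < 66239 → P i := stepQ 66238 Q66238 (allL N66238 (tt N36123 (iv1 F203794)) (tt N36008 (iv0 D126646)) (tt N36120 (iv2 F203792)) (tt N102644 D205827) (tt N39164 F203791) (tt N63584 F331900) (tt N92601 (iv6 F397583)) (tt N36121 F203793))
theorem Q66240 : ∀ i, i < 66240 → P i := stepQ 66239 Q66239 (allL N66239 (tt N80698 F348189) (tt N102645 D205828) (tt N36122 F203795) (tt N63624 (iv3 F348188)) (tt N100146 (iv4 F427690)) (tt N36008 (iv5 D126647)) (tt N69671 F348187) (tt N102646 D205829))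
theorem Q66241 : ∀ i, i < 66241 → P i := stepQ 66240 Q66240 (allL N66240 (tt N36121 (iv1 F203799)) (tt N36120 F203800) (tt N36123 F203796) (tt N63514 F336264) (tt N36010 F203797) (tt N102646 (iv5 F438029)) (tt N36101 F203798) (tt N36008 (iv7 D126648)))
theorem Q66242 : ∀ i, i < 66242 → P i := stepQ 66241 Q66241 (allL N66241 (tt N36147 F203804) (tt N36013 F203803) (tt N36124 F203801) (tt N102647 D205830) (tt N36009 (iv4 D126649)) (tt N43946 F324256) (tt N43948 F324257) (tt N36126 F203802))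
theorem Q66243 : ∀ i, i < 66243 → P i := stepQ 66242 Q66242 (allL N66242 (tt N36132 (iv1 F203805)) (tt N36011 (iv0 D126650)) (tt N36131 F359993) (tt N65874 F359994) (tt N91322 (iv4 F392728)) (tt N102648 D205831) (tt N82197 F359995) (tt N36130 F359996))
theorem Q66244 : ∀ i, i < 66244 → P i := stepQ 66243 Q66243 (allL N66243 (tt N36011 (iv1 D126651)) (tt N36132 F203809) (tt N36130 F359997) (tt N93797 F401930) (tt N91323 (iv4 F392737)) (tt N97739 F418116) (tt N102649 D205832) (tt N36131 F359998))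
theorem Q66245 : ∀ i, i < 66245 → P i := stepQ 66244 Q66244 (allL N66244 (tt N36131 (iv1 F203810)) (tt N36130 F203808) (tt N36011 (iv2 D126652)) (tt N36142 F203806) (tt N67130 (iv4 F206734)) (tt N102650 D205833) (tt N80134 F365698) (tt N36132 F203807))
theorem Q66246 : ∀ i, i < 66246 → P i := stepQ 66245 Q66245 (allL N66245 (tt N71362 (iv1 F333079)) (tt N71365 F333080) (tt N102650 (iv2 F438050)) (tt N36012 F203811) (tt N102651 D205834) (tt N36011 (iv5 D126653)) (tt N67603 (iv6 F347135)) (tt N36134 F203812))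
theorem Q66247 : ∀ i, i < 66247 → P i := stepQ 66246 Q66246 (allL N66246 (tt N47176 F346798) (tt N90638 F390352) (tt N80134 (iv2 F365697)) (tt N36013 F203813) (tt N67132 (iv4 F206745)) (tt N91339 (iv5 F392795)) (tt N36011 (iv6 D126654)) (tt N90639 (iv7 F390359)))
theorem Q66248 : ∀ i, i < 66248 → P i := stepQ 66247 Q66247 (allL N66247 (tt N36126 (iv1 F203820)) (tt N36124 F203821) (tt N36147 F203817) (tt N90639 (iv3 F390357)) (tt N56351 F203818) (tt N100155 (iv5 F427741)) (tt N36139 F203819) (tt N36013 (iv7 D126657)))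
theorem Q66249 : ∀ i, i < 66249 → P i := stepQ 66248 Q66248 (allL N66248 (tt N36015 (iv1 F203826)) (tt N36014 (iv0 D126658)) (tt N36018 (iv2 F203823)) (tt N36148 F203822) (tt N73323 (iv4 F224386)) (tt N39820 F203824) (tt N64106 (iv6 F353957)) (tt N36016 F203825))
theorem Q66250 : ∀ i, i < 66250 → P i := stepQ 66249 Q66249 (allL N66249 (tt N36018 F359084) (tt N36016 F359085) (tt N36014 (iv2 D126659)) (tt N102652 D205835) (tt N102653 D205836) (tt N67767 F359086) (tt N102654 D205837) (tt N36015 (iv7 F203827)))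
theorem Q66251 : ∀ i, i < 66251 → P i := stepQ 66250 Q66250 (allL N66250 (tt N99067 F423216) (tt N92417 (iv0 F396950)) (tt N102653 (iv2 F438068)) (tt N93700 (iv3 F401610)) (tt N36014 (iv4 D126660)) (tt N102655 D205838) (tt N99553 F425126) (tt N102656 D205839))
theorem Q66252 : ∀ i, i < 66252 → P i := stepQ 66251 Q66251 (allL N66251 (tt N63795 F359111) (tt N71747 F359112) (tt N102654 (iv2 F438075)) (tt N93806 (iv3 F401972)) (tt N99553 (iv4 F425122)) (tt N95671 (iv5 F409071)) (tt N36014 (iv6 D126662)) (tt N97386 (iv7 F416647)))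
theorem Q66253 : ∀ i, i < 66253 → P i := stepQ 66252 Q66252 (allL N66252 (tt N36016 F359106) (tt N36018 F359107) (tt N36015 F203828) (tt N56392 F359108) (tt N102656 (iv4 F438088)) (tt N67615 F359109) (tt N70534 F359110) (tt N36014 (iv7 D126663)))
theorem Q66254 : ∀ i, i < 66254 → P i := stepQ 66253 Q66253 (allL N66253 (tt N102657 D205840) (tt N71738 F401935) (tt N93798 (iv2 F401931)) (tt N36015 (iv3 D126664)) (tt N95972 (iv4 F410482)) (tt N73419 (iv5 F359167)) (tt N80131 F359168) (tt N102652 (iv7 F438063)))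
theorem Q66255 : ∀ i, i < 66255 → P i := stepQ 66254 Q66254 (allL N66254 (tt N92417 (iv1 F438072)) (tt N99067 (iv0 F423215)) (tt N102656 (iv2 F438086)) (tt N92410 (iv3 F396928)) (tt N36015 (iv4 D126665)) (tt N102658 D205841) (tt N102659 D205842) (tt N102653 (iv7 F438070)))
theorem Q66256 : ∀ i, i < 66256 → P i := stepQ 66255 Q66255 (allL N66255 (tt N102647 F438039) (tt N102660 D205843) (tt N70534 F359091) (tt N80131 F359092) (tt N102659 (iv4 F438100)) (tt N43161 F359093) (tt N36015 (iv6 D126667)) (tt N102661 D205844))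
theorem Q66257 : ∀ i, i < 66257 → P i := stepQ 66256 Q66256 (allL N66256 (tt N36158 (iv1 F336110)) (tt N39819 F203836) (tt N36017 F203832) (tt N36153 F203833) (tt N39816 F362700) (tt N36016 (iv5 D126670)) (tt N37952 F323652) (tt N39820 F203834))
theorem Q66258 : ∀ i, i < 66258 → P i := stepQ 66257 Q66257 (allL N66257 (tt N36017 (iv1 D126672)) (tt N39820 F203838) (tt N39819 F338719) (tt N97723 (iv3 F418071)) (tt N39562 F338720) (tt N71332 (iv5 F338729)) (tt N38640 F338718) (tt N36158 F338721))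
theorem Q66259 : ∀ i, i < 66259 → P i := stepQ 66258 Q66258 (allL N66258 (tt N39204 F360530) (tt N39818 F360531) (tt N39816 (iv2 F362697)) (tt N39799 F203839) (tt N36017 (iv4 D126673)) (tt N73289 (iv5 F357364)) (tt N102662 D205845) (tt N39796 F203840))
theorem Q66260 : ∀ i, i < 66260 → P i := stepQ 66259 Q66259 (allL N66259 (tt N38601 F337693) (tt N38615 F337694) (tt N37952 F324673) (tt N36020 F203841) (tt N102662 (iv4 F438116)) (tt N94042 (iv5 F402943)) (tt N36017 (iv6 D126674)) (tt N38613 F341746))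
theorem Q66261 : ∀ i, i < 66261 → P i := stepQ 66260 Q66260 (allL N66260 (tt N79586 F353964) (tt N79585 F353961) (tt N64106 F353958) (tt N36021 F203842) (tt N92320 (iv4 F396688)) (tt N64105 (iv5 F353959)) (tt N36018 (iv6 D126675)) (tt N79583 (iv7 F353960)))
theorem Q66262 : ∀ i, i < 66262 → P i := stepQ 66261 Q66261 (allL N66261 (tt N102648 (iv1 F438045)) (tt N97739 (iv0 F418119)) (tt N97860 (iv2 F418551)) (tt N36019 (iv3 D126676)) (tt N102663 D205846) (tt N39133 F203843) (tt N70551 (iv6 F347128)) (tt N36157 F203844))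
theorem Q66263 : ∀ i, i < 66263 → P i := stepQ 66262 Q66262 (allL N66262 (tt N36022 (iv1 D126682)) (tt N41120 F203856) (tt N41119 F203859) (tt N38468 (iv3 F203858)) (tt N77908 (iv4 F245268)) (tt N50900 (iv5 F327157)) (tt N57525 (iv6 F203860)) (tt N38463 F203857))
theorem Q66264 : ∀ i, i < 66264 → P i := stepQ 66263 Q66263 (allL N66263 (tt N41119 (iv1 F203864)) (tt N38463 F203865) (tt N41120 F203861) (tt N57550 F203862) (tt N44212 (iv4 F203866)) (tt N94481 (iv5 F404663)) (tt N94797 (iv6 F405983)) (tt N36022 (iv7 D126683)))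
theorem Q66265 : ∀ i, i < 66265 → P i := stepQ 66264 Q66264 (allL N66264 (tt N62148 F357043) (tt N36023 (iv0 D126684)) (tt N94923 F406357) (tt N60030 F203868) (tt N69056 (iv4 F357044)) (tt N62042 (iv5 F357047)) (tt N62125 (iv6 F357048)) (tt N93549 (iv7 F401103)))
theorem Q66266 : ∀ i, i < 66266 → P i := stepQ 66265 Q66265 (allL N66265 (tt N36023 (iv1 D126685)) (tt N62148 (iv0 F357041)) (tt N93549 F401107) (tt N102664 D205847) (tt N68973 (iv4 F350868)) (tt N62041 (iv5 F359763)) (tt N102665 D205848) (tt N94923 (iv7 F406355)))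
theorem Q66267 : ∀ i, i < 66267 → P i := stepQ 66266 Q66266 (allL N66266 (tt N94923 (iv1 F406354)) (tt N93549 (iv0 F401104)) (tt N36023 (iv2 D126686)) (tt N73410 (iv3 F330605)) (tt N36049 F203869) (tt N98831 (iv5 F422492)) (tt N102666 D205849) (tt N62148 (iv7 F357040)))
theorem Q66268 : ∀ i, i < 66268 → P i := stepQ 66267 Q66267 (allL N66267 (tt N77742 (iv1 F388836)) (tt N77747 (iv0 F365113)) (tt N102666 (iv2 F438133)) (tt N36024 F203870) (tt N36051 F203871) (tt N102667 D205850) (tt N36023 (iv6 D126687)) (tt N62144 F357056))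
theorem Q66269 : ∀ i, i < 66269 → P i := stepQ 66268 Q66268 (allL N66268 (tt N77955 (iv1 F245426)) (tt N77958 (iv0 F245435)) (tt N97371 (iv2 F416565)) (tt N102667 (iv3 F438139)) (tt N102668 D205851) (tt N36024 (iv5 D126688)) (tt N98836 (iv6 F422513)) (tt N98978 (iv7 F422890)))
theorem Q66270 : ∀ i, i < 66270 → P i := stepQ 66269 Q66269 (allL N66269 (tt N66497 F204302) (tt N95746 (iv0 F409427)) (tt N41183 F203872) (tt N94667 (iv3 F405449)) (tt N61892 F203873) (tt N94044 (iv5 F402955)) (tt N36026 (iv6 D126689)) (tt N94044 (iv7 F402956)))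
theorem Q66271 : ∀ i, i < 66271 → P i := stepQ 66270 Q66270 (allL N66270 (tt N36029 (iv1 D126690)) (tt N41465 F203874) (tt N41464 F203878) (tt N41101 (iv3 F203876)) (tt N39422 (iv4 F203879)) (tt N65940 (iv5 F203877)) (tt N93950 F402563) (tt N41463 F203875))
theorem Q66272 : ∀ i, i < 66272 → P i := stepQ 66271 Q66271 (allL N66271 (tt N41464 (iv1 F203885)) (tt N41463 F203886) (tt N41465 F203882) (tt N58984 F203883) (tt N70898 (iv4 F218700)) (tt N58856 F203884) (tt N70214 (iv6 F216986)) (tt N36029 (iv7 D126691)))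
theorem Q66273 : ∀ i, i < 66273 → P i := stepQ 66272 Q66272 (allL N66272 (tt N94937 (iv1 F406416)) (tt N36030 (iv0 D126692)) (tt N71912 (iv2 F220876)) (tt N71608 F220279) (tt N102669 D205852) (tt N65972 F203887) (tt N102670 D205853) (tt N71910 (iv7 F220871)))
theorem Q66274 : ∀ i, i < 66274 → P i := stepQ 66273 Q66273 (allL N66273 (tt N36030 (iv1 D126693)) (tt N94937 F406417) (tt N71910 F220879) (tt N102671 D205854) (tt N72860 (iv4 F223470)) (tt N70990 (iv5 F220880)) (tt N102672 D205855) (tt N71912 F220878))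
theorem Q66275 : ∀ i, i < 66275 → P i := stepQ 66274 Q66274 (allL N66274 (tt N71912 (iv1 F220877)) (tt N71910 F220874) (tt N36030 (iv2 D126694)) (tt N92325 (iv3 F396707)) (tt N94665 (iv4 F405438)) (tt N39807 F203888) (tt N102673 D205856) (tt N94937 (iv7 F406415)))
theorem Q66276 : ∀ i, i < 66276 → P i := stepQ 66275 Q66275 (allL N66275 (tt N55366 F365464) (tt N86162 (iv0 F375254)) (tt N102673 (iv2 F438154)) (tt N36031 F203889) (tt N66898 (iv4 F352724)) (tt N102674 D205857) (tt N36030 (iv6 D126695)) (tt N99361 (iv7 F424276)))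
theorem Q66277 : ∀ i, i < 66277 → P i := stepQ 66276 Q66276 (allL N66276 (tt N98987 (iv1 F422936)) (tt N78179 (iv0 F246603)) (tt N92327 (iv2 F396717)) (tt N102674 (iv3 F438159)) (tt N102675 D205858) (tt N36031 (iv5 D126696)) (tt N39811 F203890) (tt N99362 (iv7 F424287)))
theorem Q66278 : ∀ i, i < 66278 → P i := stepQ 66277 Q66277 (allL N66277 (tt N60210 (iv1 F203895)) (tt N36033 (iv0 D126697)) (tt N59111 (iv2 F203893)) (tt N57581 F203892) (tt N44241 F203891) (tt N70222 (iv5 F217022)) (tt N102676 D205859) (tt N60209 F203894))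
theorem Q66279 : ∀ i, i < 66279 → P i := stepQ 66278 Q66278 (allL N66278 (tt N60209 (iv1 F203900)) (tt N59111 F203901) (tt N60210 F203896) (tt N58973 F203897) (tt N77833 (iv4 F245106)) (tt N36034 F203898) (tt N60208 F203899) (tt N36033 (iv7 D126698)))
theorem Q66280 : ∀ i, i < 66280 → P i := stepQ 66279 Q66279 (allL N66279 (tt N40661 F323662) (tt N36035 (iv0 D126699)) (tt N71332 F338734) (tt N74571 (iv3 F228380)) (tt N102677 D205860) (tt N39819 F336106) (tt N100498 (iv6 F429199)) (tt N71331 (iv7 F336112)))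
theorem Q66281 : ∀ i, i < 66281 → P i := stepQ 66280 Q66280 (allL N66280 (tt N36035 (iv1 D126700)) (tt N40661 F323661) (tt N71331 (iv2 F338736)) (tt N83210 (iv3 F331750)) (tt N102678 D205861) (tt N36158 F331748) (tt N39405 F331749) (tt N71332 F338735))
theorem Q66282 : ∀ i, i < 66282 → P i := stepQ 66281 Q66281 (allL N66281 (tt N71332 (iv1 F219846)) (tt N71331 F219842) (tt N36035 (iv2 D126701)) (tt N37032 F321997) (tt N72715 (iv4 F223007)) (tt N37031 F321998) (tt N102679 D205862) (tt N40661 (iv7 F322015)))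
theorem Q66283 : ∀ i, i < 66283 → P i := stepQ 66282 Q66282 (allL N66282 (tt N40659 F325876) (tt N40658 F325877) (tt N37031 F325878) (tt N36036 F203903) (tt N102680 D205863) (tt N36035 (iv5 D126702)) (tt N102681 D205864) (tt N40660 F325879))
theorem Q66284 : ∀ i, i < 66284 → P i := stepQ 66283 Q66283 (allL N66283 (tt N102682 D205865) (tt N102683 D205866) (tt N102679 (iv2 F438173)) (tt N36037 F203904) (tt N92336 (iv4 F396745)) (tt N94101 (iv5 F403210)) (tt N36035 (iv6 D126703)) (tt N102684 D205867))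
theorem Q66285 : ∀ i, i < 66285 → P i := stepQ 66284 Q66284 (allL N66284 (tt N68231 F352077) (tt N68230 F352092) (tt N41209 F203905) (tt N102681 (iv3 F438184)) (tt N39433 F203906) (tt N81503 (iv5 F352079)) (tt N36036 (iv6 D126704)) (tt N68229 F352078))
theorem Q66286 : ∀ i, i < 66286 → P i := stepQ 66285 Q66285 (allL N66285 (tt N41213 (iv1 F203910)) (tt N36037 (iv0 D126705)) (tt N41210 (iv2 F203908)) (tt N102685 D205868) (tt N39394 F203907) (tt N75595 (iv5 F350981)) (tt N79592 F338805) (tt N41211 (iv7 F203909)))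
theorem Q66287 : ∀ i, i < 66287 → P i := stepQ 66286 Q66286 (allL N66286 (tt N36037 (iv1 D126706)) (tt N41213 F203911) (tt N41211 (iv2 F203914)) (tt N67001 (iv3 F346564)) (tt N39395 F203913) (tt N75605 (iv5 F337674)) (tt N94049 F402981) (tt N41210 F203912))
theorem Q66288 : ∀ i, i < 66288 → P i := stepQ 66287 Q66287 (allL N66287 (tt N79124 (iv1 F344910)) (tt N57391 F203916) (tt N41212 F203915) (tt N94101 F403209) (tt N64044 F337678) (tt N36037 (iv5 D126707)) (tt N81503 F337681) (tt N64042 F340124))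
theorem Q66289 : ∀ i, i < 66289 → P i := stepQ 66288 Q66288 (allL N66288 (tt N41211 (iv1 F203919)) (tt N41210 F203920) (tt N41213 F203917) (tt N102684 (iv3 F438192)) (tt N36040 F203918) (tt N64042 F331702) (tt N69427 (iv6 F214345)) (tt N36037 (iv7 D126708)))
theorem Q66290 : ∀ i, i < 66290 → P i := stepQ 66289 Q66289 (allL N66289 (tt N36043 F203928) (tt N71353 F219925) (tt N41219 F203926) (tt N58067 (iv3 F362473)) (tt N36039 (iv4 D126710)) (tt N75394 F344159) (tt N58065 F344736) (tt N41215 F203927))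
theorem Q66291 : ∀ i, i < 66291 → P i := stepQ 66290 Q66290 (allL N66290 (tt N71357 (iv1 F219938)) (tt N36041 (iv0 D126711)) (tt N71356 (iv2 F367024)) (tt N90467 F389758) (tt N102686 D205869) (tt N102687 D205870) (tt N90465 (iv6 F389763)) (tt N71355 F367023))
theorem Q66292 : ∀ i, i < 66292 → P i := stepQ 66291 Q66291 (allL N66291 (tt N36041 (iv1 D126712)) (tt N71357 F219940) (tt N71355 F367021) (tt N55040 F367015) (tt N99314 (iv4 F424063)) (tt N102688 D205871) (tt N55039 (iv6 F367016)) (tt N71356 (iv7 F367022)))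
theorem Q66293 : ∀ i, i < 66293 → P i := stepQ 66292 Q66292 (allL N66292 (tt N71356 (iv1 F219939)) (tt N71355 F219934) (tt N36041 (iv2 D126713)) (tt N68346 (iv3 F346546)) (tt N40352 F203929) (tt N68344 F362000) (tt N102689 D205872) (tt N71357 (iv7 F219937)))
theorem Q66294 : ∀ i, i < 66294 → P i := stepQ 66293 Q66293 (allL N66293 (tt N102690 D205873) (tt N102691 D205874) (tt N68344 (iv2 F362001)) (tt N36042 F203930) (tt N67717 F354177) (tt N36041 (iv5 D126714)) (tt N102692 D205875) (tt N66390 (iv7 F204089)))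
theorem Q66295 : ∀ i, i < 66295 → P i := stepQ 66294 Q66294 (allL N66294 (tt N102693 D205876) (tt N102694 D205877) (tt N102689 (iv2 F438210)) (tt N36043 F203931) (tt N40354 F203932) (tt N102695 D205878) (tt N36041 (iv6 D126715)) (tt N100377 (iv7 F428675)))
theorem Q66296 : ∀ i, i < 66296 → P i := stepQ 66295 Q66295 (allL N66295 (tt N102696 D205879) (tt N76771 (iv0 F347091)) (tt N66393 (iv2 F204094)) (tt N102692 (iv3 F438221)) (tt N39638 F203933) (tt N102697 D205880) (tt N36042 (iv6 D126716)) (tt N102698 D205881))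
theorem Q66297 : ∀ i, i < 66297 → P i := stepQ 66296 Q66296 (allL N66296 (tt N77441 (iv1 F362041)) (tt N57371 F203934) (tt N71352 (iv2 F219921)) (tt N102695 (iv3 F438226)) (tt N102699 D205882) (tt N36043 (iv5 D126717)) (tt N102697 (iv6 F438236)) (tt N64047 (iv7 F362040)))
theorem Q66298 : ∀ i, i < 66298 → P i := stepQ 66297 Q66297 (allL N66297 (tt N41219 (iv1 F203936)) (tt N41215 F203937) (tt N71353 (iv2 F219922)) (tt N100377 (iv3 F428673)) (tt N39370 F203935) (tt N64047 F344915) (tt N71359 (iv6 F219951)) (tt N36043 (iv7 D126718)))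
theorem Q66299 : ∀ i, i < 66299 → P i := stepQ 66298 Q66298 (allL N66298 (tt N68346 (iv1 F346544)) (tt N36044 (iv0 D126719)) (tt N71350 F219914) (tt N40652 F322266) (tt N74668 (iv4 F228512)) (tt N40651 F322267) (tt N42885 F322565) (tt N71349 F219908))
theorem Q66300 : ∀ i, i < 66300 → P i := stepQ 66299 Q66299 (allL N66299 (tt N36044 (iv1 D126720)) (tt N68346 (iv0 F346543)) (tt N71349 (iv2 F219916)) (tt N81420 F337538) (tt N59166 (iv4 F203939)) (tt N78610 F330917) (tt N73192 F331850) (tt N71350 F219915))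
theorem Q66301 : ∀ i, i < 66301 → P i := stepQ 66300 Q66300 (allL N66300 (tt N81420 (iv1 F337550)) (tt N72746 (iv0 F223079)) (tt N39454 (iv2 F203947)) (tt N36047 (iv3 D126727)) (tt N39137 F203946) (tt N38251 F325869) (tt N102700 D205883) (tt N39458 (iv7 F203948)))
theorem Q66302 : ∀ i, i < 66302 → P i := stepQ 66301 Q66301 (allL N66301 (tt N72674 F223106) (tt N102701 D205884) (tt N61863 F203954) (tt N102702 D205885) (tt N36047 (iv4 D126728)) (tt N99085 F423277) (tt N93509 (iv6 F400987)) (tt N102638 (iv7 F437991)))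
theorem Q66303 : ∀ i, i < 66303 → P i := stepQ 66302 Q66302 (allL N66302 (tt N66386 (iv1 F204082)) (tt N62057 (iv0 F203957)) (tt N66388 F220097) (tt N38251 F325867) (tt N78904 (iv4 F251327)) (tt N36047 (iv5 D126729)) (tt N50287 (iv6 F203956)) (tt N66387 F220093))
theorem Q66304 : ∀ i, i < 66304 → P i := stepQ 66303 Q66303 (allL N66303 (tt N75300 (iv1 F365199)) (tt N58067 (iv0 F365198)) (tt N98946 (iv2 F422834)) (tt N102700 (iv3 F438253)) (tt N93509 F400986) (tt N102703 D205886) (tt N36047 (iv6 D126730)) (tt N98949 (iv7 F422843)))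
theorem Q66305 : ∀ i, i < 66305 → P i := stepQ 66304 Q66304 (allL N66304 (tt N102636 F437981) (tt N90467 F437982) (tt N102704 D205887) (tt N36048 (iv3 D126731)) (tt N102705 D205888) (tt N102706 D205889) (tt N102707 D205890) (tt N102640 (iv7 F438002)))
theorem Q66306 : ∀ i, i < 66306 → P i := stepQ 66305 Q66305 (allL N66305 (tt N102701 (iv1 F438259)) (tt N72674 (iv0 F222842)) (tt N102638 (iv2 F437989)) (tt N61765 (iv3 F203959)) (tt N36048 (iv4 D126732)) (tt N99072 (iv5 F423235)) (tt N102708 D205891) (tt N61863 F203958))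
theorem Q66307 : ∀ i, i < 66307 → P i := stepQ 66306 Q66306 (allL N66306 (tt N62057 (iv1 F220099)) (tt N66386 F220095) (tt N66387 (iv2 F220094)) (tt N102706 (iv3 F438286)) (tt N67707 (iv4 F347269)) (tt N36048 (iv5 D126733)) (tt N67705 F347270) (tt N66388 (iv7 F220096)))
theorem Q66308 : ∀ i, i < 66308 → P i := stepQ 66307 Q66307 (allL N66307 (tt N94039 F409608) (tt N63616 (iv0 F336280)) (tt N102639 (iv2 F437994)) (tt N102707 (iv3 F438291)) (tt N102708 (iv4 F438297)) (tt N102709 D205892) (tt N36048 (iv6 D126734)) (tt N102710 D205893))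
theorem Q66309 : ∀ i, i < 66309 → P i := stepQ 66308 Q66308 (allL N66308 (tt N99179 F423601) (tt N99177 (iv0 F423585)) (tt N36050 F203964) (tt N97654 F417796) (tt N102711 D205894) (tt N36049 (iv5 D126735)) (tt N102688 (iv6 F438208)) (tt N102641 (iv7 F438007)))
theorem Q66310 : ∀ i, i < 66310 → P i := stepQ 66309 Q66309 (allL N66309 (tt N102712 D205895) (tt N102713 D205896) (tt N36051 F203965) (tt N51201 F364580) (tt N102666 (iv4 F438135)) (tt N55039 (iv5 F364581)) (tt N36049 (iv6 D126736)) (tt N54097 (iv7 F364582)))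
theorem Q66311 : ∀ i, i < 66311 → P i := stepQ 66310 Q66310 (allL N66310 (tt N102641 (iv1 F438008)) (tt N36050 (iv0 D126737)) (tt N99179 (iv2 F423596)) (tt N69226 (iv3 F324725)) (tt N75712 (iv4 F233517)) (tt N36092 F233516) (tt N69224 (iv6 F359608)) (tt N99177 (iv7 F423584)))
theorem Q66312 : ∀ i, i < 66312 → P i := stepQ 66311 Q66311 (allL N66311 (tt N36050 (iv1 D126738)) (tt N102641 (iv0 F438009)) (tt N99177 (iv2 F423582)) (tt N71659 (iv3 F364306)) (tt N102714 D205897) (tt N36093 F347037) (tt N102715 D205898) (tt N99179 (iv7 F423598)))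
theorem Q66313 : ∀ i, i < 66313 → P i := stepQ 66312 Q66312 (allL N66312 (tt N102716 D205899) (tt N102717 D205900) (tt N102711 (iv2 F438313)) (tt N39814 F203966) (tt N36050 (iv4 D126739)) (tt N102718 D205901) (tt N102719 D205902) (tt N102642 (iv7 F438011)))
theorem Q66314 : ∀ i, i < 66314 → P i := stepQ 66313 Q66313 (allL N66313 (tt N102289 F436575) (tt N70120 (iv0 F362704)) (tt N102688 (iv2 F438206)) (tt N36053 F203967) (tt N102719 (iv4 F438347)) (tt N71355 (iv5 F347031)) (tt N36050 (iv6 D126740)) (tt N102687 (iv7 F438204)))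
theorem Q66315 : ∀ i, i < 66315 → P i := stepQ 66314 Q66314 (allL N66314 (tt N54097 (iv1 F365525)) (tt N36051 (iv0 D126741)) (tt N102712 F438318) (tt N67108 (iv3 F347035)) (tt N76825 F347038) (tt N67106 F347034) (tt N63614 (iv6 F347036)) (tt N102713 (iv7 F438333)))
theorem Q66316 : ∀ i, i < 66316 → P i := stepQ 66315 Q66315 (allL N66315 (tt N36051 (iv1 D126742)) (tt N54097 F364583) (tt N102713 (iv2 F438336)) (tt N94097 (iv3 F403187)) (tt N76824 (iv4 F366267)) (tt N91375 F392903) (tt N99038 F423109) (tt N102712 F438319))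
theorem Q66317 : ∀ i, i < 66317 → P i := stepQ 66316 Q66316 (allL N66316 (tt N102720 D205903) (tt N71369 (iv0 F349889)) (tt N55039 F364584) (tt N36056 F203968) (tt N102721 D205904) (tt N36051 (iv5 D126743)) (tt N71355 F347033) (tt N102722 D205905))
theorem Q66318 : ∀ i, i < 66318 → P i := stepQ 66317 Q66317 (allL N66317 (tt N102713 (iv1 F438332)) (tt N102712 F438317) (tt N54097 (iv2 F329042)) (tt N36057 F203969) (tt N62144 (iv4 F357058)) (tt N102722 (iv5 F438359)) (tt N62142 F357059) (tt N36051 (iv7 D126744)))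
theorem Q66319 : ∀ i, i < 66319 → P i := stepQ 66318 Q66318 (allL N66318 (tt N102687 F438205) (tt N102688 (iv0 F438209)) (tt N102289 (iv2 F436572)) (tt N36052 (iv3 D126745)) (tt N102723 D205906) (tt N36090 F203970) (tt N69278 F351686) (tt N70120 (iv7 F216738)))
theorem Q66320 : ∀ i, i < 66320 → P i := stepQ 66319 Q66319 (allL N66319 (tt N39824 F351695) (tt N39828 F351696) (tt N71346 (iv2 F219891)) (tt N69278 (iv3 F351685)) (tt N58901 F203971) (tt N95104 (iv5 F407059)) (tt N36052 (iv6 D126746)) (tt N102287 (iv7 F436564)))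
theorem Q66321 : ∀ i, i < 66321 → P i := stepQ 66320 Q66320 (allL N66320 (tt N102637 (iv1 F437988)) (tt N36053 (iv0 D126747)) (tt N71655 (iv2 F362708)) (tt N99179 (iv3 F423597)) (tt N70938 F362709) (tt N99178 F423595) (tt N84087 (iv6 F368049)) (tt N71659 (iv7 F362710)))
theorem Q66322 : ∀ i, i < 66322 → P i := stepQ 66321 Q66321 (allL N66321 (tt N36053 (iv1 D126748)) (tt N102637 F437987) (tt N71659 F362711) (tt N69206 (iv3 F362703)) (tt N70939 F362705) (tt N102724 D205907) (tt N69203 F362706) (tt N71655 F362707))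
theorem Q66323 : ∀ i, i < 66323 → P i := stepQ 66322 Q66322 (allL N66322 (tt N102640 F438003) (tt N102704 F438277) (tt N102636 (iv2 F437976)) (tt N71355 F347032) (tt N92334 F396735) (tt N36053 (iv5 D126749)) (tt N36056 F203972) (tt N90467 (iv7 F389757)))
theorem Q66324 : ∀ i, i < 66324 → P i := stepQ 66323 Q66323 (allL N66323 (tt N71659 (iv1 F362713)) (tt N71655 (iv0 F360532)) (tt N102637 (iv2 F437983)) (tt N102687 (iv3 F438203)) (tt N39818 F203973) (tt N90467 F389759) (tt N90469 (iv6 F389771)) (tt N36053 (iv7 D126750)))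
theorem Q66325 : ∀ i, i < 66325 → P i := stepQ 66324 Q66324 (allL N66324 (tt N102722 (iv1 F438362)) (tt N55039 (iv0 F365114)) (tt N102720 F438350) (tt N36054 (iv3 D126751)) (tt N72623 (iv4 F222761)) (tt N95767 (iv5 F409544)) (tt N94064 (iv6 F403039)) (tt N71369 (iv7 F219978)))
theorem Q66326 : ∀ i, i < 66326 → P i := stepQ 66325 Q66325 (allL N66325 (tt N57384 F203974) (tt N91356 F392856) (tt N71368 (iv2 F219975)) (tt N95767 (iv3 F409542)) (tt N102725 D205908) (tt N36054 (iv5 D126752)) (tt N81270 (iv6 F358429)) (tt N71370 (iv7 F219980)))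
theorem Q66327 : ∀ i, i < 66327 → P i := stepQ 66326 Q66326 (allL N66326 (tt N42885 F346524) (tt N77684 F346525) (tt N77683 (iv2 F349920)) (tt N36055 (iv3 D126753)) (tt N59104 F203975) (tt N44998 F346526) (tt N65081 F346529) (tt N71367 (iv7 F219974)))
theorem Q66328 : ∀ i, i < 66328 → P i := stepQ 66327 Q66327 (allL N66327 (tt N91356 (iv1 F392855)) (tt N57384 F203976) (tt N71370 (iv2 F219979)) (tt N44998 F346527) (tt N102726 D205909) (tt N36055 (iv5 D126754)) (tt N92497 (iv6 F397169)) (tt N71368 (iv7 F219976)))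
theorem Q66329 : ∀ i, i < 66329 → P i := stepQ 66328 Q66328 (allL N66328 (tt N66503 (iv1 F219838)) (tt N66507 (iv0 F396887)) (tt N71371 (iv2 F219981)) (tt N65081 (iv3 F346530)) (tt N39382 F203977) (tt N95765 (iv5 F409533)) (tt N36055 (iv6 D126755)) (tt N94065 (iv7 F403042)))
theorem Q66330 : ∀ i, i < 66330 → P i := stepQ 66329 Q66329 (allL N66329 (tt N55031 (iv1 F362007)) (tt N36056 (iv0 D126756)) (tt N94096 (iv2 F403181)) (tt N102712 (iv3 F438320)) (tt N102727 D205910) (tt N92378 (iv5 F396868)) (tt N102728 D205911) (tt N94097 (iv7 F403188)))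
theorem Q66331 : ∀ i, i < 66331 → P i := stepQ 66330 Q66330 (allL N66330 (tt N36056 (iv1 D126757)) (tt N55031 F346517) (tt N94097 (iv2 F403186)) (tt N67111 F346515) (tt N102729 D205912) (tt N67109 (iv5 F346514)) (tt N81822 (iv6 F362009)) (tt N94096 (iv7 F403183)))
theorem Q66332 : ∀ i, i < 66332 → P i := stepQ 66331 Q66331 (allL N66331 (tt N92376 F396862) (tt N44125 F366121) (tt N100046 F427361) (tt N102730 D205913) (tt N36056 (iv4 D126758)) (tt N102731 D205914) (tt N92334 (iv6 F396736)) (tt N100045 F427357))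
theorem Q66333 : ∀ i, i < 66333 → P i := stepQ 66332 Q66332 (allL N66332 (tt N94097 (iv1 F403190)) (tt N94096 (iv0 F403184)) (tt N55031 F362006) (tt N102722 (iv3 F438358)) (tt N100045 (iv4 F427354)) (tt N36057 F203978) (tt N90463 (iv6 F389746)) (tt N36056 (iv7 D126759)))
theorem Q66334 : ∀ i, i < 66334 → P i := stepQ 66333 Q66333 (allL N66333 (tt N57605 F203983) (tt N39412 (iv0 F203984)) (tt N41298 F203981) (tt N77723 (iv3 F366456)) (tt N36059 (iv4 D126762)) (tt N95330 (iv5 F407875)) (tt N102732 D205915) (tt N57594 F203982))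
theorem Q66335 : ∀ i, i < 66335 → P i := stepQ 66334 Q66334 (allL N66334 (tt N37937 F203986) (tt N37934 (iv0 F203988)) (tt N41299 F203985) (tt N67688 (iv3 F207616)) (tt N102732 (iv4 F438398)) (tt N37877 F203987) (tt N36059 (iv6 D126763)) (tt N67518 (iv7 F207339)))
theorem Q66336 : ∀ i, i < 66336 → P i := stepQ 66335 Q66335 (allL N66335 (tt N57593 (iv1 F203992)) (tt N36060 (iv0 D126764)) (tt N57590 (iv2 F203990)) (tt N102733 D205916) (tt N39383 F203989) (tt N92372 (iv5 F396848)) (tt N102734 D205917) (tt N57591 (iv7 F203991)))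
theorem Q66337 : ∀ i, i < 66337 → P i := stepQ 66336 Q66336 (allL N66336 (tt N36060 (iv1 D126765)) (tt N57593 F203993) (tt N57591 (iv2 F203996)) (tt N55901 (iv3 F360493)) (tt N39384 F203995) (tt N92373 (iv5 F396851)) (tt N55898 F360492) (tt N57590 F203994))
theorem Q66338 : ∀ i, i < 66338 → P i := stepQ 66337 Q66337 (allL N66337 (tt N102735 D205918) (tt N102736 D205919) (tt N102737 D205920) (tt N36060 (iv3 D126766)) (tt N39336 F203997) (tt N102738 D205921) (tt N36062 F203998) (tt N102739 D205922))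
theorem Q66339 : ∀ i, i < 66339 → P i := stepQ 66338 Q66338 (allL N66338 (tt N72611 (iv1 F222743)) (tt N95333 (iv0 F407888)) (tt N57592 F203999) (tt N102738 (iv3 F438431)) (tt N102740 D205923) (tt N36060 (iv5 D126767)) (tt N102741 D205924) (tt N102742 D205925))
theorem Q66340 : ∀ i, i < 66340 → P i := stepQ 66339 Q66339 (allL N66339 (tt N57591 (iv1 F204003)) (tt N57590 F204004) (tt N57593 F204000) (tt N102739 (iv3 F438432)) (tt N36061 F204001) (tt N102742 (iv5 F438444)) (tt N57577 F204002) (tt N36060 (iv7 D126768)))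
theorem Q66341 : ∀ i, i < 66341 → P i := stepQ 66340 Q66340 (allL N66340 (tt N57568 (iv1 F204006)) (tt N36062 (iv0 D126769)) (tt N57567 F204016) (tt N57572 F204005) (tt N72360 F222283) (tt N55934 (iv5 F344606)) (tt N39734 F336212) (tt N57566 (iv7 F204007)))
theorem Q66342 : ∀ i, i < 66342 → P i := stepQ 66341 Q66341 (allL N66341 (tt N36062 (iv1 D126770)) (tt N57568 F204013) (tt N57566 (iv2 F204014)) (tt N102743 D205926) (tt N71166 (iv4 F219587)) (tt N94226 (iv5 F403765)) (tt N102744 D205927) (tt N57567 (iv7 F204015)))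
theorem Q66343 : ∀ i, i < 66343 → P i := stepQ 66342 Q66342 (allL N66342 (tt N57567 (iv1 F204017)) (tt N57566 F204012) (tt N36062 (iv2 D126771)) (tt N57586 F204008) (tt N39334 F204009) (tt N57684 F204010) (tt N102737 (iv6 F438426)) (tt N57568 F204011))
theorem Q66344 : ∀ i, i < 66344 → P i := stepQ 66343 Q66343 (allL N66343 (tt N102745 D205928) (tt N102746 D205929) (tt N57589 F204018) (tt N76053 (iv3 F366546)) (tt N77829 (iv4 F245092)) (tt N102741 (iv5 F438442)) (tt N36063 (iv6 D126772)) (tt N102747 D205930))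
theorem Q66345 : ∀ i, i < 66345 → P i := stepQ 66344 Q66344 (allL N66344 (tt N51202 (iv1 F329615)) (tt N36066 (iv0 D126773)) (tt N58986 (iv2 F220267)) (tt N53975 (iv3 F357509)) (tt N81067 F354174) (tt N94730 (iv5 F405710)) (tt N81066 (iv6 F354175)) (tt N58985 F220268))
theorem Q66346 : ∀ i, i < 66346 → P i := stepQ 66345 Q66345 (allL N66345 (tt N36066 (iv1 D126774)) (tt N51202 (iv0 F329614)) (tt N58985 F220266) (tt N102748 D205931) (tt N71334 (iv4 F219851)) (tt N95182 (iv5 F407332)) (tt N75448 (iv6 F352354)) (tt N58986 (iv7 F220265)))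
theorem Q66347 : ∀ i, i < 66347 → P i := stepQ 66346 Q66346 (allL N66346 (tt N58986 (iv1 F204025)) (tt N58985 F204023) (tt N36066 (iv2 D126775)) (tt N58993 F204020) (tt N36077 F204021) (tt N83263 (iv5 F355067)) (tt N54094 F355066) (tt N51202 (iv7 F329619)))
theorem Q66348 : ∀ i, i < 66348 → P i := stepQ 66347 Q66347 (allL N66347 (tt N83271 F345616) (tt N83270 F345622) (tt N83263 F355068) (tt N36067 F204026) (tt N97653 (iv4 F417788)) (tt N36066 (iv5 D126776)) (tt N53477 (iv6 F355069)) (tt N50643 (iv7 F329622)))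
theorem Q66349 : ∀ i, i < 66349 → P i := stepQ 66348 Q66348 (allL N66348 (tt N72922 F223599) (tt N74218 F227021) (tt N41505 F204033) (tt N71670 (iv3 F220364)) (tt N62288 F204034) (tt N40558 F328810) (tt N36069 (iv6 D126780)) (tt N38435 F204035))
theorem Q66350 : ∀ i, i < 66350 → P i := stepQ 66349 Q66349 (allL N66349 (tt N92325 (iv1 F396711)) (tt N36071 (iv0 D126781)) (tt N71950 (iv2 F386030)) (tt N102749 D205932) (tt N102750 D205933) (tt N70982 F386031) (tt N102751 D205934) (tt N71947 F386032))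
theorem Q66351 : ∀ i, i < 66351 → P i := stepQ 66350 Q66350 (allL N66350 (tt N36071 (iv1 D126782)) (tt N92325 F396712) (tt N71947 F386029) (tt N96126 F411170) (tt N95322 (iv4 F407850)) (tt N70983 F233573) (tt N102752 D205935) (tt N71950 (iv7 F386028)))
theorem Q66352 : ∀ i, i < 66352 → P i := stepQ 66351 Q66351 (allL N66351 (tt N71950 F360520) (tt N71947 F361811) (tt N36071 (iv2 D126783)) (tt N94937 (iv3 F406412)) (tt N73301 F360502) (tt N39813 F204037) (tt N102753 D205936) (tt N92325 (iv7 F396710)))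
theorem Q66353 : ∀ i, i < 66353 → P i := stepQ 66352 Q66352 (allL N66352 (tt N102754 D205937) (tt N102755 D205938) (tt N102753 (iv2 F438491)) (tt N36072 F204038) (tt N92294 (iv4 F396609)) (tt N102756 D205939) (tt N36071 (iv6 D126784)) (tt N95607 (iv7 F408865)))
theorem Q66354 : ∀ i, i < 66354 → P i := stepQ 66353 Q66353 (allL N66353 (tt N102757 D205940) (tt N72601 (iv0 F343904)) (tt N94939 (iv2 F406423)) (tt N102756 (iv3 F438495)) (tt N95087 F406985) (tt N36072 (iv5 D126785)) (tt N39817 F204039) (tt N95608 (iv7 F408867)))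
theorem Q66355 : ∀ i, i < 66355 → P i := stepQ 66354 Q66354 (allL N66354 (tt N55040 F355178) (tt N102758 D205941) (tt N67602 (iv2 F322566)) (tt N36075 (iv3 D126786)) (tt N71347 F219894) (tt N67600 F354110) (tt N67044 (iv6 F354109)) (tt N102633 (iv7 F437961)))
theorem Q66356 : ∀ i, i < 66356 → P i := stepQ 66355 Q66355 (allL N66355 (tt N48948 F331753) (tt N72550 F222658) (tt N62274 F204040) (tt N72576 (iv3 F222680)) (tt N36075 (iv4 D126787)) (tt N102759 D205942) (tt N102760 D205943) (tt N72567 (iv7 F222672)))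
theorem Q66357 : ∀ i, i < 66357 → P i := stepQ 66356 Q66356 (allL N66356 (tt N66419 (iv1 F204142)) (tt N66232 (iv0 F204042)) (tt N36185 F325895) (tt N67600 F325896) (tt N65988 F204041) (tt N36075 (iv5 D126788)) (tt N37852 F325897) (tt N66421 (iv7 F204659)))
theorem Q66358 : ∀ i, i < 66358 → P i := stepQ 66357 Q66357 (allL N66357 (tt N82171 (iv1 F354065)) (tt N94072 F403075) (tt N94070 (iv2 F403064)) (tt N67044 F354108) (tt N102760 (iv4 F438514)) (tt N67043 (iv5 F354059)) (tt N36075 (iv6 D126789)) (tt N75445 F354064))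
theorem Q66359 : ∀ i, i < 66359 → P i := stepQ 66358 Q66358 (allL N66358 (tt N69144 F350808) (tt N102634 F437968) (tt N36078 F204047) (tt N102641 (iv3 F438005)) (tt N66592 F204624) (tt N36077 (iv5 D126793)) (tt N37221 F346968) (tt N97654 (iv7 F417792)))
theorem Q66360 : ∀ i, i < 66360 → P i := stepQ 66359 Q66359 (allL N66359 (tt N73191 (iv1 F334192)) (tt N65188 (iv0 F334191)) (tt N36079 F204048) (tt N62146 (iv3 F357034)) (tt N54094 F331983) (tt N63602 (iv5 F336283)) (tt N36077 (iv6 D126794)) (tt N54093 F334193))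
theorem Q66361 : ∀ i, i < 66361 → P i := stepQ 66360 Q66360 (allL N66360 (tt N97654 (iv1 F417794)) (tt N36078 (iv0 D126795)) (tt N69144 (iv2 F336589)) (tt N102761 D205944) (tt N65995 F204049) (tt N36114 (iv5 F204050)) (tt N69142 F336588) (tt N102634 (iv7 F437969)))
theorem Q66362 : ∀ i, i < 66362 → P i := stepQ 66361 Q66361 (allL N66361 (tt N36078 (iv1 D126796)) (tt N97654 (iv0 F417793)) (tt N102634 F437967) (tt N37130 F336590) (tt N102762 D205945) (tt N36115 F336591) (tt N37129 F336592) (tt N69144 F336593))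
theorem Q66363 : ∀ i, i < 66363 → P i := stepQ 66362 Q66362 (allL N66362 (tt N54093 F329826) (tt N36079 (iv0 D126798)) (tt N73191 F329827) (tt N102763 D205946) (tt N48930 F329828) (tt N69315 (iv5 F334209)) (tt N102764 D205947) (tt N65188 F329829))
theorem Q66364 : ∀ i, i < 66364 → P i := stepQ 66363 Q66363 (allL N66363 (tt N96902 (iv1 F414530)) (tt N45541 F331974) (tt N63602 F336284) (tt N36083 F204052) (tt N66966 (iv4 F334197)) (tt N36079 (iv5 D126800)) (tt N69322 (iv6 F346999)) (tt N43977 F331975))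
theorem Q66365 : ∀ i, i < 66365 → P i := stepQ 66364 Q66364 (allL N66364 (tt N90469 (iv1 F389774)) (tt N36080 (iv0 D126802)) (tt N71500 F347083) (tt N37158 F347084) (tt N70052 F347085) (tt N43295 F347086) (tt N37156 F347087) (tt N69215 F347088))
theorem Q66366 : ∀ i, i < 66366 → P i := stepQ 66365 Q66365 (allL N66365 (tt N36080 (iv1 D126803)) (tt N90469 (iv0 F389773)) (tt N69215 F347075) (tt N78593 F347076) (tt N70914 (iv4 F347099)) (tt N43331 F347078) (tt N69214 F347079) (tt N71500 F347080))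
theorem Q66367 : ∀ i, i < 66367 → P i := stepQ 66366 Q66366 (allL N66366 (tt N69215 (iv1 F347113)) (tt N71500 F347109) (tt N90469 (iv2 F389770)) (tt N37220 F347004) (tt N39812 F204055) (tt N90462 (iv5 F389743)) (tt N102637 (iv6 F437986)) (tt N36080 (iv7 D126805)))
theorem Q66368 : ∀ i, i < 66368 → P i := stepQ 66367 Q66367 (allL N66367 (tt N45622 F331959) (tt N73192 F331960) (tt N47311 F331961) (tt N36081 (iv3 D126806)) (tt N41495 F204056) (tt N46954 F331962) (tt N102765 D205948) (tt N47313 F331963))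
theorem Q66369 : ∀ i, i < 66369 → P i := stepQ 66368 Q66368 (allL N66368 (tt N63564 F331948) (tt N46972 F331949) (tt N71613 (iv2 F220289)) (tt N46954 F331950) (tt N75812 F331951) (tt N36081 (iv5 D126807)) (tt N43296 F331952) (tt N47312 F331953))
theorem Q66370 : ∀ i, i < 66370 → P i := stepQ 66369 Q66369 (allL N66369 (tt N58065 (iv1 F344737)) (tt N94051 (iv0 F402994)) (tt N71614 (iv2 F220291)) (tt N102765 (iv3 F438541)) (tt N60041 F204057) (tt N58187 (iv5 F330501)) (tt N36081 (iv6 D126808)) (tt N68053 (iv7 F209077)))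
theorem Q66371 : ∀ i, i < 66371 → P i := stepQ 66370 Q66370 (allL N66370 (tt N90465 (iv1 F389754)) (tt N102766 D205949) (tt N100384 (iv2 F428720)) (tt N36082 (iv3 D126809)) (tt N40412 F204058) (tt N47349 F357113) (tt N68056 (iv6 F209086)) (tt N71612 (iv7 F220288)))
theorem Q66372 : ∀ i, i < 66372 → P i := stepQ 66371 Q66371 (allL N66371 (tt N46972 F331964) (tt N63564 (iv0 F358082)) (tt N47312 F331965) (tt N47349 F331966) (tt N80400 F331967) (tt N36082 (iv5 D126810)) (tt N102767 D205950) (tt N71613 (iv7 F220290)))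
theorem Q66373 : ∀ i, i < 66373 → P i := stepQ 66372 Q66372 (allL N66372 (tt N43951 F331968) (tt N36083 (iv0 D126811)) (tt N43972 F331969) (tt N45621 F331970) (tt N77600 F331971) (tt N81240 (iv5 F343946)) (tt N78572 (iv6 F343956)) (tt N43179 F331972))
theorem Q66374 : ∀ i, i < 66374 → P i := stepQ 66373 Q66373 (allL N66373 (tt N100498 (iv1 F429202)) (tt N83190 (iv0 F353472)) (tt N44586 F323811) (tt N36085 (iv3 D126815)) (tt N92408 (iv4 F396920)) (tt N43311 F323812) (tt N48235 F322251) (tt N80001 F323813))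
theorem Q66375 : ∀ i, i < 66375 → P i := stepQ 66374 Q66374 (allL N66374 (tt N46359 F324077) (tt N77606 F324078) (tt N41582 F204060) (tt N43311 F324079) (tt N63563 F324080) (tt N36085 (iv5 D126816)) (tt N100012 (iv6 F427188)) (tt N77616 F324081))
theorem Q66376 : ∀ i, i < 66376 → P i := stepQ 66375 Q66375 (allL N66375 (tt N39719 F204065) (tt N67123 F206705) (tt N59127 F204063) (tt N36087 (iv3 D126818)) (tt N56748 (iv4 F204066)) (tt N71001 (iv5 F350328)) (tt N101139 (iv6 F431887)) (tt N62352 F204064))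
theorem Q66377 : ∀ i, i < 66377 → P i := stepQ 66376 Q66376 (allL N66376 (tt N97968 (iv1 F419008)) (tt N68731 (iv0 F211458)) (tt N68845 (iv2 F211697)) (tt N71001 F342851) (tt N70712 (iv4 F218157)) (tt N36087 (iv5 D126819)) (tt N66152 F204067) (tt N97938 (iv7 F418880)))
theorem Q66378 : ∀ i, i < 66378 → P i := stepQ 66377 Q66377 (allL N66377 (tt N67800 F386190) (tt N97056 (iv0 F415246)) (tt N92534 (iv2 F397285)) (tt N101139 (iv3 F431885)) (tt N61988 F204068) (tt N93011 (iv5 F399108)) (tt N36087 (iv6 D126820)) (tt N102676 (iv7 F438166)))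
theorem Q66379 : ∀ i, i < 66379 → P i := stepQ 66378 Q66378 (allL N66378 (tt N70119 (iv1 F216734)) (tt N36090 (iv0 D126821)) (tt N70118 (iv2 F424707)) (tt N92312 (iv3 F396678)) (tt N102768 D205951) (tt N102769 D205952) (tt N102770 D205953) (tt N70117 (iv7 F424709)))
theorem Q66380 : ∀ i, i < 66380 → P i := stepQ 66379 Q66379 (allL N66379 (tt N36090 (iv1 D126822)) (tt N70119 F216736) (tt N70117 F424708) (tt N102771 D205954) (tt N99465 (iv4 F424705)) (tt N102772 D205955) (tt N102773 D205956) (tt N70118 F424706))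
theorem Q66381 : ∀ i, i < 66381 → P i := stepQ 66380 Q66380 (allL N66380 (tt N70118 (iv1 F216735)) (tt N70117 F216729) (tt N36090 (iv2 D126823)) (tt N57130 F204069) (tt N40295 F204070) (tt N102289 (iv5 F436574)) (tt N102253 F436391) (tt N70119 (iv7 F216733)))
theorem Q66382 : ∀ i, i < 66382 → P i := stepQ 66381 Q66381 (allL N66381 (tt N69554 (iv1 F323474)) (tt N36214 (iv0 F204075)) (tt N39623 (iv2 F218827)) (tt N36092 (iv3 D126827)) (tt N39167 F204074) (tt N69226 (iv5 F324727)) (tt N81808 (iv6 F344778)) (tt N39626 (iv7 F218813)))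
theorem Q66383 : ∀ i, i < 66383 → P i := stepQ 66382 Q66382 (allL N66382 (tt N61983 (iv1 F326823)) (tt N56992 (iv0 F326818)) (tt N61966 F218824) (tt N70996 F219198) (tt N36092 (iv4 D126828)) (tt N82103 (iv5 F351459)) (tt N82104 F351457) (tt N61981 (iv7 F326817)))
theorem Q66384 : ∀ i, i < 66384 → P i := stepQ 66383 Q66383 (allL N66383 (tt N102774 D205957) (tt N94110 (iv0 F403252)) (tt N99180 (iv2 F423602)) (tt N81808 F351558) (tt N82104 (iv4 F351458)) (tt N79775 F351470) (tt N36092 (iv6 D126830)) (tt N81801 (iv7 F351554)))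
theorem Q66385 : ∀ i, i < 66385 → P i := stepQ 66384 Q66384 (allL N66384 (tt N92309 (iv1 F396668)) (tt N92312 F438371) (tt N102724 (iv2 F438367)) (tt N36093 (iv3 D126832)) (tt N102775 D205958) (tt N71659 F364307) (tt N94080 (iv6 F403114)) (tt N99178 (iv7 F423594)))
theorem Q66386 : ∀ i, i < 66386 → P i := stepQ 66385 Q66385 (allL N66385 (tt N56992 (iv1 F326819)) (tt N61983 (iv0 F326822)) (tt N61981 (iv2 F326814)) (tt N61773 F204078) (tt N36093 (iv4 D126833)) (tt N102776 D205959) (tt N48024 F336215) (tt N61966 F218819))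
theorem Q66387 : ∀ i, i < 66387 → P i := stepQ 66386 Q66386 (allL N66386 (tt N66306 (iv1 F220095)) (tt N66302 F204082) (tt N36095 F204081) (tt N66520 (iv3 F345633)) (tt N102777 D205960) (tt N36094 (iv5 D126836)) (tt N94030 (iv6 F402890)) (tt N78600 (iv7 F347027)))
theorem Q66388 : ∀ i, i < 66388 → P i := stepQ 66387 Q66387 (allL N66387 (tt N78600 (iv1 F347026)) (tt N36095 (iv0 D126838)) (tt N66306 F220094) (tt N37424 F324339) (tt N68903 (iv4 F325509)) (tt N66224 (iv5 F220092)) (tt N37421 F324340) (tt N66302 (iv7 F220093)))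
theorem Q66389 : ∀ i, i < 66389 → P i := stepQ 66388 Q66388 (allL N66388 (tt N36095 (iv1 D126839)) (tt N78600 (iv0 F347025)) (tt N66302 (iv2 F220097)) (tt N102778 D205961) (tt N69017 (iv4 F347265)) (tt N66225 (iv5 F220098)) (tt N85072 (iv6 F371530)) (tt N66306 F220096))
theorem Q66390 : ∀ i, i < 66390 → P i := stepQ 66389 Q66389 (allL N66389 (tt N67744 F367915) (tt N102779 D205962) (tt N102777 (iv2 F438600)) (tt N39740 F204084) (tt N36095 (iv4 D126840)) (tt N70293 F360207) (tt N95105 (iv6 F407064)) (tt N99181 (iv7 F423608)))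
theorem Q66391 : ∀ i, i < 66391 → P i := stepQ 66390 Q66390 (allL N66390 (tt N102769 F438567) (tt N102772 (iv0 F438577)) (tt N69542 F330967) (tt N36096 (iv3 D126846)) (tt N69009 F330968) (tt N39397 F204088) (tt N69008 (iv6 F330966)) (tt N66293 F204089))
theorem Q66392 : ∀ i, i < 66392 → P i := stepQ 66391 Q66391 (allL N66391 (tt N68954 F330925) (tt N69546 F330926) (tt N37351 F330927) (tt N69008 F330928) (tt N39442 F204091) (tt N80853 (iv5 F340654)) (tt N36096 (iv6 D126847)) (tt N69547 F330929))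
theorem Q66393 : ∀ i, i < 66393 → P i := stepQ 66392 Q66392 (allL N66392 (tt N37431 (iv1 F336047)) (tt N37429 (iv0 F336048)) (tt N37430 F325984) (tt N36097 (iv3 D126848)) (tt N102780 D205963) (tt N39392 F204092) (tt N69553 F330910) (tt N37353 (iv7 F330913)))
theorem Q66394 : ∀ i, i < 66394 → P i := stepQ 66393 Q66393 (allL N66393 (tt N102781 D205964) (tt N102782 D205965) (tt N66295 F204094) (tt N69553 F347093) (tt N39451 F204095) (tt N100664 (iv5 F429905)) (tt N36097 (iv6 D126849)) (tt N69549 (iv7 F347092)))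
theorem Q66395 : ∀ i, i < 66395 → P i := stepQ 66394 Q66394 (allL N66394 (tt N51691 (iv1 F344352)) (tt N36098 (iv0 D126850)) (tt N69404 F344356) (tt N46340 F344353) (tt N49583 (iv4 F344355)) (tt N46339 F344354) (tt N102783 D205966) (tt N71852 F344357))
theorem Q66396 : ∀ i, i < 66396 → P i := stepQ 66395 Q66395 (allL N66395 (tt N36098 (iv1 D126851)) (tt N51691 F362661) (tt N71852 (iv2 F362654)) (tt N69399 (iv3 F362655)) (tt N49581 (iv4 F362656)) (tt N82398 (iv5 F362657)) (tt N102784 D205967) (tt N69404 F362653))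
theorem Q66397 : ∀ i, i < 66397 → P i := stepQ 66396 Q66396 (allL N66396 (tt N71852 (iv1 F338480)) (tt N69404 F344350) (tt N51691 (iv2 F344351)) (tt N78601 (iv3 F351670)) (tt N39750 F204097) (tt N95102 (iv5 F407049)) (tt N69393 F351671) (tt N36098 (iv7 D126853)))
theorem Q66398 : ∀ i, i < 66398 → P i := stepQ 66397 Q66397 (allL N66397 (tt N102785 D205968) (tt N102773 (iv0 F438582)) (tt N102786 D205969) (tt N36099 (iv3 D126854)) (tt N93276 (iv4 F400258)) (tt N95826 (iv5 F409826)) (tt N91375 F392902) (tt N81278 F344432))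
theorem Q66399 : ∀ i, i < 66399 → P i := stepQ 66398 Q66398 (allL N66398 (tt N58064 F352233) (tt N57861 F359828) (tt N58063 F344745) (tt N95826 (iv3 F409828)) (tt N102787 D205970) (tt N36099 (iv5 D126855)) (tt N102788 D205971) (tt N58062 (iv7 F344741)))
theorem Q66400 : ∀ i, i < 66400 → P i := stepQ 66399 Q66399 (allL N66399 (tt N57861 (iv1 F352235)) (tt N58064 F352234) (tt N58062 (iv2 F344739)) (tt N46870 F332388) (tt N72901 F352237) (tt N36100 (iv5 D126857)) (tt N46867 F332389) (tt N58063 (iv7 F344747)))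
theorem Q66401 : ∀ i, i < 66401 → P i := stepQ 66400 Q66400 (allL N66400 (tt N97386 (iv1 F416650)) (tt N102654 (iv0 F438079)) (tt N63795 F346329) (tt N36102 (iv3 D126863)) (tt N72725 (iv4 F336172)) (tt N79792 (iv5 F346327)) (tt N63793 F346330) (tt N71747 (iv7 F220472)))
theorem Q66402 : ∀ i, i < 66402 → P i := stepQ 66401 Q66401 (allL N66401 (tt N79793 (iv1 F338758)) (tt N48371 F338756) (tt N58092 (iv2 F323135)) (tt N79792 (iv3 F346328)) (tt N57870 (iv4 F359826)) (tt N36102 (iv5 D126864)) (tt N65067 (iv6 F339276)) (tt N58088 (iv7 F325295)))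
theorem Q66403 : ∀ i, i < 66403 → P i := stepQ 66402 Q66402 (allL N66402 (tt N36105 (iv1 F204106)) (tt N36103 (iv0 D126865)) (tt N37110 (iv2 F204105)) (tt N94483 (iv3 F404673)) (tt N102789 D205972) (tt N37007 F204103) (tt N37092 F204104) (tt N37056 F204107))
theorem Q66404 : ∀ i, i < 66404 → P i := stepQ 66403 Q66403 (allL N66403 (tt N97958 F418967) (tt N102461 (iv0 F437307)) (tt N92538 (iv2 F397296)) (tt N102790 D205973) (tt N36103 (iv4 D126866)) (tt N95117 (iv5 F407116)) (tt N92427 (iv6 F396985)) (tt N102524 F437498))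
theorem Q66405 : ∀ i, i < 66405 → P i := stepQ 66404 Q66404 (allL N66404 (tt N101019 (iv1 F431304)) (tt N72132 F221427) (tt N71748 (iv2 F220475)) (tt N63791 (iv3 F312223)) (tt N36106 F204108) (tt N102791 D205974) (tt N36104 (iv6 D126868)) (tt N63789 (iv7 F362317)))
theorem Q66406 : ∀ i, i < 66406 → P i := stepQ 66405 Q66405 (allL N66405 (tt N102461 (iv1 F437308)) (tt N97958 F418968) (tt N102524 (iv2 F437495)) (tt N102792 D205975) (tt N36105 (iv4 D126869)) (tt N95115 (iv5 F407109)) (tt N37237 F204109) (tt N92538 (iv7 F397298)))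
theorem Q66407 : ∀ i, i < 66407 → P i := stepQ 66406 Q66406 (allL N66406 (tt N36107 (iv1 D126870)) (tt N67528 F207355) (tt N67526 F207351) (tt N75088 (iv3 F365735)) (tt N39613 F204111) (tt N94966 (iv5 F406529)) (tt N71075 (iv6 F219395)) (tt N61670 F204110))
theorem Q66408 : ∀ i, i < 66408 → P i := stepQ 66407 Q66407 (allL N66407 (tt N75085 F350888) (tt N102793 D205976) (tt N102794 D205977) (tt N36107 (iv3 D126871)) (tt N68190 (iv4 F209241)) (tt N102795 D205978) (tt N37872 F204112) (tt N67730 (iv7 F207638)))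
theorem Q66409 : ∀ i, i < 66409 → P i := stepQ 66408 Q66408 (allL N66408 (tt N95119 (iv1 F407121)) (tt N95118 F407120) (tt N67527 (iv2 F207352)) (tt N102795 (iv3 F438676)) (tt N94702 (iv4 F405597)) (tt N36107 (iv5 D126872)) (tt N102796 D205979) (tt N67731 (iv7 F207639)))
theorem Q66410 : ∀ i, i < 66410 → P i := stepQ 66409 Q66409 (allL N66409 (tt N58998 (iv1 F204113)) (tt N36108 (iv0 D126873)) (tt N58997 (iv2 F220441)) (tt N93266 (iv3 F400202)) (tt N102657 (iv4 F438091)) (tt N83271 F345612) (tt N59299 (iv6 F345615)) (tt N58996 (iv7 F220443)))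
theorem Q66411 : ∀ i, i < 66411 → P i := stepQ 66410 Q66410 (allL N66410 (tt N36108 (iv1 D126874)) (tt N58998 F204118) (tt N58996 F220442) (tt N73871 F391763) (tt N71738 (iv4 F220439)) (tt N83270 (iv5 F345621)) (tt N102797 D205980) (tt N58997 F220440))
theorem Q66412 : ∀ i, i < 66412 → P i := stepQ 66411 Q66411 (allL N66411 (tt N58997 (iv1 F204119)) (tt N58996 F204117) (tt N36108 (iv2 D126875)) (tt N59008 F204114) (tt N36116 F204115) (tt N102798 D205981) (tt N86315 (iv6 F375802)) (tt N58998 F204116))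
theorem Q66413 : ∀ i, i < 66413 → P i := stepQ 66412 Q66412 (allL N66412 (tt N58275 F345629) (tt N95929 (iv0 F410309)) (tt N102798 (iv2 F438685)) (tt N36109 F204120) (tt N73132 (iv4 F345624)) (tt N36108 (iv5 D126876)) (tt N50622 F345623) (tt N58999 F204121))
theorem Q66414 : ∀ i, i < 66414 → P i := stepQ 66413 Q66413 (allL N66413 (tt N83276 F345611) (tt N80133 F362981) (tt N86315 (iv2 F375800)) (tt N36110 F204122) (tt N36118 F204123) (tt N82932 (iv5 F345609)) (tt N36108 (iv6 D126877)) (tt N86318 (iv7 F375813)))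
theorem Q66415 : ∀ i, i < 66415 → P i := stepQ 66414 Q66414 (allL N66414 (tt N89314 F386054) (tt N64802 (iv0 F363294)) (tt N59011 F204124) (tt N50622 F343835) (tt N58722 (iv4 F343749)) (tt N58312 (iv5 F343823)) (tt N36109 (iv6 D126878)) (tt N59629 (iv7 F343822)))
theorem Q66416 : ∀ i, i < 66416 → P i := stepQ 66415 Q66415 (allL N66415 (tt N70315 (iv1 F343815)) (tt N70314 (iv0 F336662)) (tt N59012 F204126) (tt N82932 F345610) (tt N58313 F343827) (tt N36110 (iv5 D126879)) (tt N58312 (iv6 F343824)) (tt N70162 F343810))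
theorem Q66417 : ∀ i, i < 66417 → P i := stepQ 66416 Q66416 (allL N66416 (tt N59055 F204130) (tt N47771 F332916) (tt N59015 F204127) (tt N71858 (iv3 F220755)) (tt N46735 (iv4 F332930)) (tt N40328 F204129) (tt N36111 (iv6 D126880)) (tt N89378 (iv7 F386283)))
theorem Q66418 : ∀ i, i < 66418 → P i := stepQ 66417 Q66417 (allL N66417 (tt N102771 F438570) (tt N91321 (iv0 F392725)) (tt N48096 F322873) (tt N36114 (iv3 D126881)) (tt N66452 F204188) (tt N102761 (iv5 F438519)) (tt N48095 F322874) (tt N102643 (iv7 F438015)))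
theorem Q66419 : ∀ i, i < 66419 → P i := stepQ 66418 Q66418 (allL N66418 (tt N73245 (iv1 F224198)) (tt N59035 F220523) (tt N62401 F204133) (tt N73251 (iv3 F224204)) (tt N36114 (iv4 D126882)) (tt N85631 F373282) (tt N91421 (iv6 F393060)) (tt N73246 (iv7 F224197)))
theorem Q66420 : ∀ i, i < 66420 → P i := stepQ 66419 Q66419 (allL N66419 (tt N37033 F325314) (tt N66356 F204142) (tt N36117 F204140) (tt N78600 F347029) (tt N60588 (iv4 F204141)) (tt N36116 (iv5 D126887)) (tt N36931 F325315) (tt N66520 F325316))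
theorem Q66421 : ∀ i, i < 66421 → P i := stepQ 66420 Q66420 (allL N66420 (tt N81234 (iv1 F358553)) (tt N75434 (iv0 F336323)) (tt N36118 F204144) (tt N63515 F360175) (tt N86315 (iv4 F375801)) (tt N37214 F329421) (tt N36116 (iv6 D126888)) (tt N63622 (iv7 F360173)))
theorem Q66422 : ∀ i, i < 66422 → P i := stepQ 66421 Q66421 (allL N66421 (tt N66520 F325317) (tt N36117 (iv0 D126889)) (tt N37033 F325318) (tt N69058 F325319) (tt N95675 (iv4 F409098)) (tt N66218 (iv5 F204657)) (tt N101697 (iv6 F433920)) (tt N66356 F204659))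
theorem Q66423 : ∀ i, i < 66423 → P i := stepQ 66422 Q66422 (allL N66422 (tt N63622 (iv1 F360172)) (tt N36118 (iv0 D126892)) (tt N81234 (iv2 F333394)) (tt N91319 F392714) (tt N91710 (iv4 F394134)) (tt N36534 F333393) (tt N91709 F394132) (tt N75434 (iv7 F339305)))
theorem Q66424 : ∀ i, i < 66424 → P i := stepQ 66423 Q66423 (allL N66423 (tt N36118 (iv1 D126893)) (tt N63622 (iv0 F360170)) (tt N75434 (iv2 F339303)) (tt N69338 (iv3 F333396)) (tt N102799 D205982) (tt N36535 F333397) (tt N75305 F334048) (tt N81234 F333395))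
theorem Q66425 : ∀ i, i < 66425 → P i := stepQ 66424 Q66424 (allL N66424 (tt N75434 F353102) (tt N81234 F353101) (tt N63622 F360174) (tt N36123 F204147) (tt N86318 (iv4 F375811)) (tt N69676 (iv5 F353100)) (tt N97378 (iv6 F416599)) (tt N36118 (iv7 D126895)))
theorem Q66426 : ∀ i, i < 66426 → P i := stepQ 66425 Q66425 (allL N66425 (tt N36119 (iv1 D126897)) (tt N69393 F327896) (tt N37425 F327897) (tt N68900 F327898) (tt N69824 F327899) (tt N63696 F327900) (tt N79909 (iv6 F349325)) (tt N69394 F327901))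
theorem Q66427 : ∀ i, i < 66427 → P i := stepQ 66426 Q66426 (allL N66426 (tt N37425 F327908) (tt N69394 F327909) (tt N69393 F327910) (tt N36930 F327911) (tt N39725 F204149) (tt N37210 F327912) (tt N51691 F351672) (tt N36119 (iv7 D126899)))
theorem Q66428 : ∀ i, i < 66428 → P i := stepQ 66427 Q66427 (allL N66427 (tt N94112 (iv1 F403267)) (tt N80852 (iv0 F331930)) (tt N92601 (iv2 F397581)) (tt N80830 F331926) (tt N71616 F220311) (tt N43179 F331927) (tt N36120 (iv6 D126902)) (tt N81240 (iv7 F343945)))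
theorem Q66429 : ∀ i, i < 66429 → P i := stepQ 66428 Q66428 (allL N66428 (tt N102770 (iv1 F447318)) (tt N91326 (iv0 F392749)) (tt N102800 D205984) (tt N36121 (iv3 D126903)) (tt N40721 F204151) (tt N63831 (iv5 F364930)) (tt N94092 (iv6 F403171)) (tt N102644 (iv7 F438021)))
theorem Q66430 : ∀ i, i < 66430 → P i := stepQ 66429 Q66429 (allL N66429 (tt N36530 F331893) (tt N63509 F331894) (tt N63619 (iv2 F331898)) (tt N63831 F331895) (tt N67834 F331896) (tt N36121 (iv5 D126904)) (tt N63829 F331897) (tt N63584 (iv7 F331899)))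
theorem Q66431 : ∀ i, i < 66431 → P i := stepQ 66430 Q66430 (allL N66430 (tt N102646 (iv1 F438032)) (tt N36122 (iv0 D126905)) (tt N80698 (iv2 F345594)) (tt N78615 (iv3 F345592)) (tt N80668 (iv4 F345595)) (tt N57343 F204152) (tt N78588 F345593) (tt N102645 (iv7 F438023)))
theorem Q66432 : ∀ i, i < 66432 → P i := stepQ 66431 Q66431 (allL N66431 (tt N36122 (iv1 D126906)) (tt N102646 F438031) (tt N102645 F438025) (tt N102801 D205985) (tt N77730 (iv4 F359064)) (tt N57342 F204153) (tt N102802 D205986) (tt N80698 F359065))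
theorem Q66433 : ∀ i, i < 66433 → P i := stepQ 66432 Q66432 (allL N66432 (tt N102803 D205987) (tt N102804 D205988) (tt N100146 (iv2 F427688)) (tt N100282 F428246) (tt N36122 (iv4 D126907)) (tt N102805 D205989) (tt N38635 F328681) (tt N100534 (iv7 F429374)))
theorem Q66434 : ∀ i, i < 66434 → P i := stepQ 66433 Q66433 (allL N66433 (tt N102645 (iv1 F438022)) (tt N80698 (iv0 F348184)) (tt N102646 (iv2 F438027)) (tt N69676 F353099) (tt N100534 (iv4 F429372)) (tt N36123 F204154) (tt N70102 (iv6 F348186)) (tt N36122 (iv7 D126908)))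
theorem Q66435 : ∀ i, i < 66435 → P i := stepQ 66434 Q66434 (allL N66434 (tt N70534 (iv1 F383588)) (tt N102661 F438112) (tt N102660 (iv2 F438107)) (tt N36126 (iv3 D126911)) (tt N92454 (iv4 F397053)) (tt N88608 F383587) (tt N94094 (iv6 F403178)) (tt N102647 (iv7 F438037)))
theorem Q66436 : ∀ i, i < 66436 → P i := stepQ 66435 Q66435 (allL N66435 (tt N43962 F326273) (tt N43961 F326274) (tt N43963 F326275) (tt N88608 (iv3 F383582)) (tt N47346 F328132) (tt N36126 (iv5 D126912)) (tt N47028 F326276) (tt N43946 F326277))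
theorem Q66437 : ∀ i, i < 66437 → P i := stepQ 66436 Q66436 (allL N66436 (tt N44185 F204158) (tt N77866 F245173) (tt N57548 F204156) (tt N102806 D205990) (tt N36127 (iv4 D126913)) (tt N93698 (iv5 F401598)) (tt N102807 D205991) (tt N57547 F204157))
theorem Q66438 : ∀ i, i < 66438 → P i := stepQ 66437 Q66437 (allL N66437 (tt N41296 F204162) (tt N41295 F204163) (tt N41297 F204159) (tt N66502 F204311) (tt N102807 (iv4 F438725)) (tt N41291 F204160) (tt N36127 (iv6 D126914)) (tt N41291 F204161))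
theorem Q66439 : ∀ i, i < 66439 → P i := stepQ 66438 Q66438 (allL N66438 (tt N57546 (iv1 F204168)) (tt N36128 (iv0 D126915)) (tt N57543 (iv2 F204165)) (tt N102808 D205992) (tt N44190 F204164) (tt N77728 F359066) (tt N58401 (iv6 F204166)) (tt N57544 (iv7 F204167)))
theorem Q66440 : ∀ i, i < 66440 → P i := stepQ 66439 Q66439 (allL N66439 (tt N36128 (iv1 D126916)) (tt N57546 F204169) (tt N57544 (iv2 F204172)) (tt N102809 D205993) (tt N39876 F204171) (tt N92496 F397161) (tt N102810 D205994) (tt N57543 F204170))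
theorem Q66441 : ∀ i, i < 66441 → P i := stepQ 66440 Q66440 (allL N66440 (tt N102811 D205995) (tt N92506 (iv0 F403634)) (tt N102812 D205996) (tt N36128 (iv3 D126917)) (tt N70210 (iv4 F216977)) (tt N102813 D205997) (tt N57500 F204173) (tt N102814 D205998))
theorem Q66442 : ∀ i, i < 66442 → P i := stepQ 66441 Q66441 (allL N66441 (tt N92445 (iv1 F397017)) (tt N92448 (iv0 F397030)) (tt N57545 F204174) (tt N102813 (iv3 F438751)) (tt N102815 D205999) (tt N36128 (iv5 D126918)) (tt N102816 D206000) (tt N102817 D206001))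
theorem Q66443 : ∀ i, i < 66443 → P i := stepQ 66442 Q66442 (allL N66442 (tt N57544 (iv1 F204178)) (tt N57543 F204179) (tt N57546 F204175) (tt N102814 (iv3 F438755)) (tt N36129 F204176) (tt N102817 (iv5 F438781)) (tt N41249 F204177) (tt N36128 (iv7 D126919)))
theorem Q66444 : ∀ i, i < 66444 → P i := stepQ 66443 Q66443 (allL N66443 (tt N88246 F382337) (tt N91324 F392741) (tt N91323 F392735) (tt N99172 (iv3 F423569)) (tt N36130 (iv4 D126921)) (tt N52638 (iv5 F382338)) (tt N102818 D206002) (tt N91322 F392731))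
theorem Q66445 : ∀ i, i < 66445 → P i := stepQ 66444 Q66444 (allL N66444 (tt N97860 F418556) (tt N36157 F382339) (tt N97739 (iv2 F418117)) (tt N99173 (iv3 F423574)) (tt N97738 F418118) (tt N36130 (iv5 D126922)) (tt N102819 D206003) (tt N102648 (iv7 F438043)))
theorem Q66446 : ∀ i, i < 66446 → P i := stepQ 66445 Q66445 (allL N66445 (tt N77416 F382340) (tt N94109 (iv0 F403249)) (tt N102649 (iv2 F438047)) (tt N64115 (iv3 F351380)) (tt N102818 (iv4 F438786)) (tt N64113 (iv5 F355482)) (tt N36130 (iv6 D126923)) (tt N82213 (iv7 F351384)))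
theorem Q66447 : ∀ i, i < 66447 → P i := stepQ 66446 Q66446 (allL N66446 (tt N56389 F382335) (tt N56392 F382336) (tt N82203 F355498) (tt N36131 (iv3 D126925)) (tt N93647 (iv4 F401424)) (tt N83671 (iv5 F355499)) (tt N82200 (iv6 F355497)) (tt N93797 (iv7 F401927)))
theorem Q66448 : ∀ i, i < 66448 → P i := stepQ 66447 Q66447 (allL N66447 (tt N91324 (iv1 F392742)) (tt N88246 (iv0 F382334)) (tt N91322 F392730) (tt N57087 (iv3 F204182)) (tt N36131 (iv4 D126926)) (tt N52639 F372119) (tt N85272 (iv6 F372118)) (tt N91323 (iv7 F392733)))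
theorem Q66449 : ∀ i, i < 66449 → P i := stepQ 66448 Q66448 (allL N66448 (tt N36157 F355419) (tt N97860 (iv0 F418555)) (tt N102648 (iv2 F438040)) (tt N83671 F355500) (tt N92107 (iv4 F395756)) (tt N36131 (iv5 D126927)) (tt N70480 (iv6 F355501)) (tt N97739 (iv7 F418115)))
theorem Q66450 : ∀ i, i < 66450 → P i := stepQ 66449 Q66449 (allL N66449 (tt N67129 (iv1 F206737)) (tt N40778 F204184) (tt N36133 F204183) (tt N67125 (iv3 F206719)) (tt N36132 (iv4 D126929)) (tt N102820 D206004) (tt N90681 (iv6 F390507)) (tt N67130 (iv7 F206735)))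
theorem Q66451 : ∀ i, i < 66451 → P i := stepQ 66450 Q66450 (allL N66450 (tt N71365 F226676) (tt N71362 F333078) (tt N36134 F204185) (tt N60827 F204186) (tt N102821 D206005) (tt N36132 (iv5 D126930)) (tt N102822 D206006) (tt N102650 (iv7 F438053)))
theorem Q66452 : ∀ i, i < 66452 → P i := stepQ 66451 Q66451 (allL N66451 (tt N86392 F376065) (tt N58801 F344623) (tt N36135 F204187) (tt N71741 (iv3 F220454)) (tt N90681 (iv4 F390505)) (tt N65869 F354122) (tt N36132 (iv6 D126931)) (tt N90640 (iv7 F390366)))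
theorem Q66453 : ∀ i, i < 66453 → P i := stepQ 66452 Q66452 (allL N66452 (tt N36133 (iv1 D126932)) (tt N67130 F206741) (tt N40778 (iv2 F206740)) (tt N99563 (iv3 F425176)) (tt N66417 (iv4 F204188)) (tt N52697 F355416) (tt N60223 (iv6 F355415)) (tt N67129 F206739))
theorem Q66454 : ∀ i, i < 66454 → P i := stepQ 66453 Q66453 (allL N66453 (tt N74344 F227413) (tt N102823 D206007) (tt N102820 (iv2 F438795)) (tt N36686 F204189) (tt N93179 (iv4 F399829)) (tt N36133 (iv5 D126933)) (tt N93178 (iv6 F399827)) (tt N67131 (iv7 F206743)))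
theorem Q66455 : ∀ i, i < 66455 → P i := stepQ 66454 Q66454 (allL N66454 (tt N77710 (iv1 F347147)) (tt N90680 F390502) (tt N90681 (iv2 F390503)) (tt N36687 F204190) (tt N36135 F204191) (tt N96918 (iv5 F414609)) (tt N36133 (iv6 D126934)) (tt N90679 (iv7 F390496)))
theorem Q66456 : ∀ i, i < 66456 → P i := stepQ 66455 Q66455 (allL N66455 (tt N102650 F438055) (tt N36134 (iv0 D126935)) (tt N71365 (iv2 F333075)) (tt N37858 F347129) (tt N102824 D206008) (tt N70925 F333077) (tt N37856 F347130) (tt N71362 (iv7 F333076)))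
theorem Q66457 : ∀ i, i < 66457 → P i := stepQ 66456 Q66456 (allL N66456 (tt N36134 (iv1 D126936)) (tt N102650 (iv0 F438054)) (tt N71362 F333071) (tt N102825 D206009) (tt N102826 D206010) (tt N70926 (iv5 F333070)) (tt N102827 D206011) (tt N71365 F333072))
theorem Q66458 : ∀ i, i < 66458 → P i := stepQ 66457 Q66457 (allL N66457 (tt N67256 F333069) (tt N102828 D206012) (tt N102821 (iv2 F438799)) (tt N39676 F204192) (tt N36134 (iv4 D126937)) (tt N102829 D206013) (tt N54504 (iv6 F365317)) (tt N102651 (iv7 F438058)))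
theorem Q66459 : ∀ i, i < 66459 → P i := stepQ 66458 Q66458 (allL N66458 (tt N67640 F413699) (tt N102830 D206014) (tt N102822 (iv2 F438804)) (tt N36137 F204193) (tt N54504 F365318) (tt N97367 (iv5 F416537)) (tt N36134 (iv6 D126938)) (tt N102831 D206015))
theorem Q66460 : ∀ i, i < 66460 → P i := stepQ 66459 Q66459 (allL N66459 (tt N36135 (iv1 D126940)) (tt N90640 (iv0 F390367)) (tt N58801 F347143) (tt N47222 F347144) (tt N86394 (iv4 F376075)) (tt N58800 F347145) (tt N47220 F347146) (tt N86392 (iv7 F376064)))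
theorem Q66461 : ∀ i, i < 66461 → P i := stepQ 66460 Q66460 (allL N66460 (tt N58801 F344622) (tt N86392 F376067) (tt N90640 (iv2 F390363)) (tt N36139 F204195) (tt N90679 (iv4 F390495)) (tt N65870 F354126) (tt N90639 F390362) (tt N36135 (iv7 D126942)))
theorem Q66462 : ∀ i, i < 66462 → P i := stepQ 66461 Q66461 (allL N66461 (tt N67604 (iv1 F327313)) (tt N36137 (iv0 D126945)) (tt N37363 F336493) (tt N67648 F336494) (tt N39747 F336495) (tt N79432 F336496) (tt N102832 D206016) (tt N67646 F336497))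
theorem Q66463 : ∀ i, i < 66463 → P i := stepQ 66462 Q66462 (allL N66462 (tt N64078 F353954) (tt N64057 F353955) (tt N64077 (iv2 F338714)) (tt N97367 (iv3 F416535)) (tt N102833 D206017) (tt N36137 (iv5 D126947)) (tt N36138 F204200) (tt N64076 (iv7 F341233)))
theorem Q66464 : ∀ i, i < 66464 → P i := stepQ 66463 Q66463 (allL N66463 (tt N67646 (iv1 F338460)) (tt N37363 F338457) (tt N67604 F327822) (tt N102831 (iv3 F438843)) (tt N39679 F204201) (tt N64076 (iv5 F341231)) (tt N37346 F327823) (tt N36137 (iv7 D126948)))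
theorem Q66465 : ∀ i, i < 66465 → P i := stepQ 66464 Q66464 (allL N66464 (tt N58264 F402864) (tt N102834 D206018) (tt N57936 (iv2 F330494)) (tt N95544 (iv3 F408582)) (tt N36138 (iv4 D126951)) (tt N102835 D206019) (tt N102833 (iv6 F438856)) (tt N102836 D206020))
theorem Q66466 : ∀ i, i < 66466 → P i := stepQ 66465 Q66465 (allL N66465 (tt N71749 (iv1 F220477)) (tt N59944 (iv0 F323989)) (tt N71750 (iv2 F220481)) (tt N65870 F354125) (tt N102836 (iv4 F438871)) (tt N36139 F204204) (tt N79228 F341234) (tt N36138 (iv7 D126952)))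
theorem Q66467 : ∀ i, i < 66467 → P i := stepQ 66466 Q66466 (allL N66466 (tt N102652 F438067) (tt N93798 (iv0 F401934)) (tt N102657 F438093) (tt N36140 (iv3 D126953)) (tt N58997 F204205) (tt N66593 F204667) (tt N94100 (iv6 F403203)) (tt N71738 (iv7 F220438)))
theorem Q66468 : ∀ i, i < 66468 → P i := stepQ 66467 Q66467 (allL N66467 (tt N67755 (iv1 F324046)) (tt N36149 (iv0 F204206)) (tt N67764 F352292) (tt N36141 (iv3 D126955)) (tt N71891 (iv4 F220828)) (tt N67909 F350886) (tt N65847 (iv6 F352293)) (tt N65340 (iv7 F352300)))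
theorem Q66469 : ∀ i, i < 66469 → P i := stepQ 66468 Q66468 (allL N66468 (tt N72131 F351803) (tt N89203 F385571) (tt N71740 (iv2 F220448)) (tt N65847 (iv3 F352335)) (tt N71888 (iv4 F220824)) (tt N65846 (iv5 F352336)) (tt N36141 (iv6 D126956)) (tt N79597 F352334))
theorem Q66470 : ∀ i, i < 66470 → P i := stepQ 66469 Q66469 (allL N66469 (tt N50228 (iv1 F204210)) (tt N55705 (iv0 F204211)) (tt N36143 F204207) (tt N102650 (iv3 F438051)) (tt N50281 F204209) (tt N36142 (iv5 D126957)) (tt N44725 F326572) (tt N60827 F204208))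
theorem Q66471 : ∀ i, i < 66471 → P i := stepQ 66470 Q66470 (allL N66470 (tt N36143 (iv1 D126959)) (tt N60827 F204214) (tt N55705 (iv2 F204218)) (tt N37899 F325471) (tt N50229 F204217) (tt N39374 F204216) (tt N37897 F325472) (tt N50228 F204215))
theorem Q66472 : ∀ i, i < 66472 → P i := stepQ 66471 Q66471 (allL N66471 (tt N100155 (iv1 F427744)) (tt N36146 (iv0 D126969)) (tt N46828 F340183) (tt N37386 F322445) (tt N102803 (iv4 F438708)) (tt N44465 F204225) (tt N46790 F340184) (tt N67766 F322446))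
theorem Q66473 : ∀ i, i < 66473 → P i := stepQ 66472 Q66472 (allL N66472 (tt N36146 (iv1 D126970)) (tt N100155 F427743) (tt N67766 (iv2 F320673)) (tt N70533 F358557) (tt N102804 (iv4 F438714)) (tt N57345 F204226) (tt N102837 D206021) (tt N46828 F358558))
theorem Q66474 : ∀ i, i < 66474 → P i := stepQ 66473 Q66473 (allL N66473 (tt N46824 F364588) (tt N102837 (iv0 F438878)) (tt N100154 (iv2 F427734)) (tt N44816 F327817) (tt N36146 (iv4 D126971)) (tt N79451 F327818) (tt N38633 F327819) (tt N88492 (iv7 F383269)))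
theorem Q66475 : ∀ i, i < 66475 → P i := stepQ 66474 Q66474 (allL N66474 (tt N67766 (iv1 F320672)) (tt N46828 F331734) (tt N100155 (iv2 F427739)) (tt N44821 F327820) (tt N88492 (iv4 F383268)) (tt N36147 F204227) (tt N45443 F327821) (tt N36146 (iv7 D126972)))
theorem Q66476 : ∀ i, i < 66476 → P i := stepQ 66475 Q66475 (allL N66475 (tt N36149 (iv1 D126975)) (tt N67755 (iv0 F324045)) (tt N65340 (iv2 F352298)) (tt N102657 F438096) (tt N93265 (iv4 F400196)) (tt N67829 F350890) (tt N65336 F352295) (tt N67764 (iv7 F352294)))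
theorem Q66477 : ∀ i, i < 66477 → P i := stepQ 66476 Q66476 (allL N66476 (tt N67764 F352290) (tt N65340 (iv0 F352296)) (tt N36149 (iv2 D126976)) (tt N65867 F350844) (tt N38655 F204235) (tt N67632 F350845) (tt N65866 (iv6 F350843)) (tt N67755 (iv7 F324048)))
theorem Q66478 : ∀ i, i < 66478 → P i := stepQ 66477 Q66477 (allL N66477 (tt N75685 (iv1 F359357)) (tt N77748 (iv0 F350827)) (tt N65866 F350841) (tt N36150 F204237) (tt N72837 (iv4 F223443)) (tt N48354 F320642) (tt N36149 (iv6 D126978)) (tt N77718 F350837))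
theorem Q66479 : ∀ i, i < 66479 → P i := stepQ 66478 Q66478 (allL N66478 (tt N65874 (iv1 F350850)) (tt N65873 F351372) (tt N36151 (iv2 D126991)) (tt N67755 F324735) (tt N93637 (iv4 F401382)) (tt N37904 F324736) (tt N97384 (iv6 F416637)) (tt N65867 (iv7 F350847)))
theorem Q66480 : ∀ i, i < 66480 → P i := stepQ 66479 Q66479 (allL N66479 (tt N36152 (iv1 D126997)) (tt N45595 (iv0 F324662)) (tt N45596 (iv2 F324664)) (tt N102660 F438106) (tt N36228 F321583) (tt N45533 F323275) (tt N44124 F321549) (tt N45532 F323276))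
theorem Q66481 : ∀ i, i < 66481 → P i := stepQ 66480 Q66480 (allL N66480 (tt N67909 F354178) (tt N67829 (iv0 F354183)) (tt N102838 D206022) (tt N36154 (iv3 D127004)) (tt N102839 D206023) (tt N72747 (iv5 F223102)) (tt N66518 (iv6 F359758)) (tt N66519 F359759))
theorem Q66482 : ∀ i, i < 66482 → P i := stepQ 66481 Q66481 (allL N66481 (tt N82209 F351329) (tt N99173 (iv0 F423577)) (tt N102840 D206024) (tt N36155 (iv3 D127007)) (tt N102841 D206025) (tt N72748 (iv5 F223105)) (tt N38108 F324375) (tt N66518 F324376))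
theorem Q66483 : ∀ i, i < 66483 → P i := stepQ 66482 Q66482 (allL N66482 (tt N97739 (iv1 F418120)) (tt N102648 (iv0 F438044)) (tt N36157 (iv2 D127025)) (tt N71338 (iv3 F219853)) (tt N102842 D206026) (tt N39403 F204265) (tt N97724 F418076) (tt N97860 (iv7 F418554)))
theorem Q66484 : ∀ i, i < 66484 → P i := stepQ 66483 Q66483 (allL N66483 (tt N102843 D206027) (tt N102372 (iv0 F436959)) (tt N102842 (iv2 F438894)) (tt N39553 F204266) (tt N36157 (iv4 D127026)) (tt N102844 D206028) (tt N95177 F407319) (tt N102663 (iv7 F438122)))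
theorem Q66485 : ∀ i, i < 66485 → P i := stepQ 66484 Q66484 (allL N66484 (tt N97721 (iv1 F418061)) (tt N66593 (iv0 F345852)) (tt N97724 (iv2 F418077)) (tt N36158 F204267) (tt N95177 (iv4 F407318)) (tt N83210 F331751) (tt N36157 (iv6 D127027)) (tt N97723 F418073))
theorem Q66486 : ∀ i, i < 66486 → P i := stepQ 66485 Q66485 (allL N66485 (tt N46815 F344100) (tt N67812 F344101) (tt N54353 F344102) (tt N36160 F204270) (tt N85059 (iv4 F371487)) (tt N53367 F344103) (tt N36159 (iv6 D127032)) (tt N70552 F344104))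
theorem Q66487 : ∀ i, i < 66487 → P i := stepQ 66486 Q66486 (allL N66486 (tt N39197 (iv1 F204273)) (tt N36161 (iv0 D127037)) (tt N39199 F350331) (tt N102845 D206029) (tt N95940 (iv4 F410357)) (tt N39417 F350332) (tt N73287 F350333) (tt N39198 F350334))
theorem Q66488 : ∀ i, i < 66488 → P i := stepQ 66487 Q66487 (allL N66487 (tt N36161 (iv1 D127038)) (tt N39197 F204278) (tt N39198 (iv2 F350316)) (tt N88672 (iv3 F383813)) (tt N67503 F326054) (tt N39418 F350340) (tt N38565 F326055) (tt N39199 F350315))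
theorem Q66489 : ∀ i, i < 66489 → P i := stepQ 66488 Q66488 (allL N66488 (tt N39199 (iv1 F204279)) (tt N39198 F204277) (tt N36161 (iv2 D127039)) (tt N39751 F204274) (tt N70168 F331024) (tt N39188 F204275) (tt N64599 (iv6 F331025)) (tt N39197 F204276))
theorem Q66490 : ∀ i, i < 66490 → P i := stepQ 66489 Q66489 (allL N66489 (tt N101135 (iv1 F431861)) (tt N63132 F322827) (tt N39833 F204282) (tt N45358 F322828) (tt N46511 F322829) (tt N36162 (iv5 D127043)) (tt N39209 F204283) (tt N64022 F322830))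
theorem Q66491 : ∀ i, i < 66491 → P i := stepQ 66490 Q66490 (allL N66490 (tt N39832 (iv1 F204288)) (tt N39831 F204289) (tt N39830 F204284) (tt N38585 F324676) (tt N36164 F204285) (tt N64022 (iv5 F338540)) (tt N39206 F204286) (tt N36162 (iv7 D127044)))
theorem Q66492 : ∀ i, i < 66492 → P i := stepQ 66491 Q66491 (allL N66491 (tt N92120 F395834) (tt N67823 (iv0 F438821)) (tt N82501 F355087) (tt N36163 (iv3 D127051)) (tt N102846 D206030) (tt N79438 (iv5 F355085)) (tt N70508 F355105) (tt N70476 (iv7 F355082)))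
theorem Q66493 : ∀ i, i < 66493 → P i := stepQ 66492 Q66492 (allL N66492 (tt N38625 (iv1 F333831)) (tt N36165 (iv0 D127056)) (tt N38627 F333827) (tt N102847 D206031) (tt N95860 (iv4 F409988)) (tt N46165 F338712) (tt N38615 F333828) (tt N38616 F333829))
theorem Q66494 : ∀ i, i < 66494 → P i := stepQ 66493 Q66493 (allL N66493 (tt N82213 F404289) (tt N102649 (iv0 F438048)) (tt N77416 F357889) (tt N36166 (iv3 D127059)) (tt N90527 (iv4 F389969)) (tt N101669 (iv5 F433775)) (tt N36584 F357890) (tt N94109 (iv7 F403248)))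
theorem Q66495 : ∀ i, i < 66495 → P i := stepQ 66494 Q66494 (allL N66494 (tt N71748 (iv1 F344999)) (tt N63789 (iv0 F362315)) (tt N72132 (iv2 F221425)) (tt N36584 F332351) (tt N70580 F217890) (tt N36583 F332352) (tt N36166 (iv6 D127061)) (tt N101019 (iv7 F431303)))
theorem Q66496 : ∀ i, i < 66496 → P i := stepQ 66495 Q66495 (allL N66495 (tt N71740 (iv1 F354781)) (tt N79597 (iv0 F354779)) (tt N89203 (iv2 F385567)) (tt N36167 (iv3 D127062)) (tt N71025 (iv4 F219292)) (tt N80376 (iv5 F354776)) (tt N88465 (iv6 F383160)) (tt N72131 (iv7 F221422)))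
theorem Q66497 : ∀ i, i < 66497 → P i := stepQ 66496 Q66496 (allL N66496 (tt N43971 F345374) (tt N43948 F345375) (tt N43969 F345376) (tt N88465 F383164) (tt N71024 (iv4 F219289)) (tt N74738 F228756) (tt N36167 (iv6 D127064)) (tt N43970 F345377))
theorem Q66498 : ∀ i, i < 66498 → P i := stepQ 66497 Q66497 (allL N66497 (tt N74203 F226983) (tt N66269 (iv0 F204302)) (tt N74201 F226975) (tt N36170 F204301) (tt N98838 (iv4 F422520)) (tt N36168 (iv5 D127068)) (tt N67732 (iv6 F207640)) (tt N74202 (iv7 F226977)))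
theorem Q66499 : ∀ i, i < 66499 → P i := stepQ 66498 Q66498 (allL N66498 (tt N92534 F397288) (tt N102676 (iv0 F438167)) (tt N97056 (iv2 F415242)) (tt N36171 F204303) (tt N78046 (iv4 F245595)) (tt N66066 F204304) (tt N36168 (iv6 D127069)) (tt N67800 (iv7 F207854)))
theorem Q66500 : ∀ i, i < 66500 → P i := stepQ 66499 Q66499 (allL N66499 (tt N81801 F354505) (tt N99180 (iv0 F423605)) (tt N102774 F438586) (tt N36169 (iv3 D127070)) (tt N78044 (iv4 F245590)) (tt N102848 D206032) (tt N95780 (iv6 F409610)) (tt N94110 (iv7 F403251)))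
theorem Q66501 : ∀ i, i < 66501 → P i := stepQ 66500 Q66500 (allL N66500 (tt N58774 (iv1 F349879)) (tt N102849 D206033) (tt N79522 (iv2 F349867)) (tt N102848 (iv3 F438923)) (tt N101668 (iv4 F433770)) (tt N36169 (iv5 D127071)) (tt N80844 (iv6 F353247)) (tt N94111 (iv7 F403259)))
theorem Q66502 : ∀ i, i < 66502 → P i := stepQ 66501 Q66501 (allL N66501 (tt N80854 (iv1 F344422)) (tt N80834 (iv0 F332378)) (tt N67810 (iv2 F207867)) (tt N95780 F409609) (tt N36171 F204305) (tt N80534 F332377) (tt N36169 (iv6 D127072)) (tt N67804 (iv7 F207860)))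
theorem Q66503 : ∀ i, i < 66503 → P i := stepQ 66502 Q66502 (allL N66502 (tt N36174 (iv1 F204309)) (tt N36170 (iv0 D127073)) (tt N44466 (iv2 F204308)) (tt N66437 (iv3 F204311)) (tt N82491 (iv4 F338783)) (tt N62592 F204306) (tt N44464 F204307) (tt N62592 F204310))
theorem Q66504 : ∀ i, i < 66504 → P i := stepQ 66503 Q66503 (allL N66503 (tt N102850 D206034) (tt N66328 F219838) (tt N94113 (iv2 F403268)) (tt N94035 (iv3 F402906)) (tt N36170 (iv4 D127074)) (tt N81619 (iv5 F349871)) (tt N67733 (iv6 F207642)) (tt N74250 F227097))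
theorem Q66505 : ∀ i, i < 66505 → P i := stepQ 66504 Q66504 (allL N66504 (tt N94808 F406037) (tt N69782 (iv0 F216119)) (tt N59054 F204312) (tt N36174 F204313) (tt N72477 (iv4 F222590)) (tt N36172 (iv5 D127075)) (tt N40340 F204314) (tt N59052 F204315))
theorem Q66506 : ∀ i, i < 66506 → P i := stepQ 66505 Q66505 (allL N66505 (tt N75419 F360761) (tt N45753 F360762) (tt N79527 F360763) (tt N36173 (iv3 D127076)) (tt N90264 (iv4 F389152)) (tt N64099 F360764) (tt N90266 (iv6 F389159)) (tt N79524 F360765))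
theorem Q66507 : ∀ i, i < 66507 → P i := stepQ 66506 Q66506 (allL N66506 (tt N102849 (iv1 F438927)) (tt N58774 (iv0 F349874)) (tt N94111 (iv2 F403257)) (tt N64099 F349869) (tt N81621 F349870) (tt N36173 (iv5 D127077)) (tt N102851 D206035) (tt N79522 (iv7 F349868)))
theorem Q66508 : ∀ i, i < 66508 → P i := stepQ 66507 Q66507 (allL N66507 (tt N66328 F396887) (tt N102850 F438939) (tt N74250 (iv2 F227095)) (tt N42135 F332106) (tt N36174 (iv4 D127078)) (tt N42124 F332107) (tt N42127 F332108) (tt N94113 (iv7 F403271)))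
theorem Q66509 : ∀ i, i < 66509 → P i := stepQ 66508 Q66508 (allL N66508 (tt N94483 F404678) (tt N68695 (iv0 F216109)) (tt N59002 F204317) (tt N36177 F204318) (tt N71004 (iv4 F350306)) (tt N36175 (iv5 D127079)) (tt N71003 F360385) (tt N59003 F204319))
theorem Q66510 : ∀ i, i < 66510 → P i := stepQ 66509 Q66509 (allL N66509 (tt N59177 F393160) (tt N59165 F401453) (tt N59175 F386816) (tt N36176 (iv3 D127080)) (tt N73225 (iv4 F224118)) (tt N92318 (iv5 F396683)) (tt N89381 (iv6 F386296)) (tt N57010 F204320))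
theorem Q66511 : ∀ i, i < 66511 → P i := stepQ 66510 Q66510 (allL N66510 (tt N93272 (iv1 F400242)) (tt N99480 F424779) (tt N57009 F204321) (tt N92318 (iv3 F396682)) (tt N59768 (iv4 F347201)) (tt N36176 (iv5 D127081)) (tt N40681 F339932) (tt N57011 F204322))
theorem Q66512 : ∀ i, i < 66512 → P i := stepQ 66511 Q66511 (allL N66511 (tt N58903 F401802) (tt N96162 F411300) (tt N96160 (iv2 F411293)) (tt N36178 (iv3 D127085)) (tt N70961 (iv4 F218930)) (tt N102852 D206036) (tt N102853 D206037) (tt N57008 F204329))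
theorem Q66513 : ∀ i, i < 66513 → P i := stepQ 66512 Q66512 (allL N66512 (tt N99480 (iv1 F424778)) (tt N93272 (iv0 F400240)) (tt N57011 F204330) (tt N102852 (iv3 F438948)) (tt N71055 (iv4 F347202)) (tt N36178 (iv5 D127086)) (tt N91325 (iv6 F392744)) (tt N57009 F204331))
theorem Q66514 : ∀ i, i < 66514 → P i := stepQ 66513 Q66513 (allL N66513 (tt N93200 (iv1 F399944)) (tt N57163 (iv0 F211334)) (tt N57012 F204332) (tt N102853 (iv3 F438950)) (tt N36179 F204333) (tt N102854 D206038) (tt N36178 (iv6 D127087)) (tt N96176 (iv7 F411348)))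
theorem Q66515 : ∀ i, i < 66515 → P i := stepQ 66514 Q66514 (allL N66514 (tt N97632 F417698) (tt N102855 D206039) (tt N65988 (iv2 F349599)) (tt N36180 (iv3 D127089)) (tt N36185 F204337) (tt N65987 (iv5 F358839)) (tt N37667 F204338) (tt N67305 (iv7 F207045)))
theorem Q66516 : ∀ i, i < 66516 → P i := stepQ 66515 Q66515 (allL N66515 (tt N65980 (iv1 F342887)) (tt N65967 F355993) (tt N59151 F204339) (tt N65987 (iv3 F358838)) (tt N59765 F342885) (tt N36180 (iv5 D127090)) (tt N80210 (iv6 F358232)) (tt N65981 (iv7 F342876)))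
theorem Q66517 : ∀ i, i < 66517 → P i := stepQ 66516 Q66516 (allL N66516 (tt N95322 F407851) (tt N102750 (iv0 F438486)) (tt N72724 F349986) (tt N72499 (iv3 F349984)) (tt N102856 D206040) (tt N36181 (iv5 D127091)) (tt N100106 (iv6 F427529)) (tt N92428 (iv7 F396987)))
theorem Q66518 : ∀ i, i < 66518 → P i := stepQ 66517 Q66517 (allL N66517 (tt N69156 F217257) (tt N69100 (iv0 F421985)) (tt N92427 (iv2 F396984)) (tt N102857 D206041) (tt N36182 (iv4 D127092)) (tt N102858 D206042) (tt N92538 (iv6 F397297)) (tt N69350 F213945))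
theorem Q66519 : ∀ i, i < 66519 → P i := stepQ 66518 Q66518 (allL N66518 (tt N69169 F359760) (tt N69131 (iv0 F359980)) (tt N102859 D206043) (tt N36183 (iv3 D127093)) (tt N102857 (iv4 F438966)) (tt N73425 (iv5 F224815)) (tt N66480 F359758) (tt N66481 (iv7 F324376)))
theorem Q66520 : ∀ i, i < 66520 → P i := stepQ 66519 Q66519 (allL N66519 (tt N101833 F434574) (tt N96988 (iv0 F414940)) (tt N102860 D206044) (tt N36184 (iv3 D127094)) (tt N102792 (iv4 F438671)) (tt N73426 (iv5 F224816)) (tt N37239 F204340) (tt N66480 (iv7 F359759)))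
theorem Q66521 : ∀ i, i < 66521 → P i := stepQ 66520 Q66520 (allL N66520 (tt N36185 (iv1 D127096)) (tt N66421 (iv0 F325317)) (tt N66232 (iv2 F325313)) (tt N66386 F345633) (tt N60707 F345627) (tt N66231 (iv5 F345628)) (tt N67653 F345634) (tt N66419 (iv7 F325316)))
theorem Q66522 : ∀ i, i < 66522 → P i := stepQ 66521 Q66521 (allL N66521 (tt N48146 F320394) (tt N68043 (iv0 F209044)) (tt N47308 F307728) (tt N94070 F403062) (tt N65299 F320395) (tt N37143 F204345) (tt N36186 (iv6 D127100)) (tt N47306 F307729))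
theorem Q66523 : ∀ i, i < 66523 → P i := stepQ 66522 Q66522 (allL N66522 (tt N60291 (iv1 F204354)) (tt N36192 (iv0 D127104)) (tt N54783 (iv2 F345461)) (tt N102861 D206045) (tt N99506 (iv4 F424905)) (tt N74143 (iv5 F385934)) (tt N54782 F345462) (tt N60290 F345463))
theorem Q66524 : ∀ i, i < 66524 → P i := stepQ 66523 Q66523 (allL N66523 (tt N36192 (iv1 D127105)) (tt N60291 F204358) (tt N60290 F345460) (tt N54785 F345458) (tt N95907 (iv4 F410195)) (tt N74144 F386896) (tt N96616 (iv6 F413193)) (tt N54783 (iv7 F345459)))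
theorem Q66525 : ∀ i, i < 66525 → P i := stepQ 66524 Q66524 (allL N66524 (tt N54783 (iv1 F333132)) (tt N60290 F204357) (tt N36192 (iv2 D127106)) (tt N74018 (iv3 F226616)) (tt N40047 F204355) (tt N54899 F355628) (tt N90523 (iv6 F389953)) (tt N60291 F204356))
theorem Q66526 : ∀ i, i < 66526 → P i := stepQ 66525 Q66525 (allL N66525 (tt N54408 F363875) (tt N54411 F357632) (tt N90523 (iv2 F389949)) (tt N36193 F204360) (tt N40049 F204361) (tt N89196 (iv5 F385533)) (tt N36192 (iv6 D127107)) (tt N60309 F204362))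
theorem Q66527 : ∀ i, i < 66527 → P i := stepQ 66526 Q66526 (allL N66526 (tt N97358 (iv1 F416479)) (tt N97357 F416475) (tt N74020 (iv2 F226623)) (tt N89196 F385534) (tt N102862 D206046) (tt N36193 (iv5 D127108)) (tt N99706 (iv6 F425832)) (tt N60313 F204363))
theorem Q66528 : ∀ i, i < 66528 → P i := stepQ 66527 Q66527 (allL N66527 (tt N87127 (iv1 F378457)) (tt N36194 (iv0 D127109)) (tt N80028 F355231) (tt N87346 (iv3 F379087)) (tt N102863 D206047) (tt N42733 F355232) (tt N52535 F355233) (tt N87487 (iv7 F379530)))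
theorem Q66529 : ∀ i, i < 66529 → P i := stepQ 66528 Q66528 (allL N66528 (tt N36194 (iv1 D127110)) (tt N87127 F378455) (tt N87487 (iv2 F379529)) (tt N102864 D206048) (tt N102865 D206049) (tt N80029 (iv5 F355235)) (tt N102866 D206050) (tt N80028 F355234))
theorem Q66530 : ∀ i, i < 66530 → P i := stepQ 66529 Q66529 (allL N66529 (tt N87403 F379252) (tt N102867 D206051) (tt N87504 (iv2 F379591)) (tt N81505 F355230) (tt N81506 F346743) (tt N36194 (iv5 D127111)) (tt N36197 F204364) (tt N102868 D206052))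
theorem Q66531 : ∀ i, i < 66531 → P i := stepQ 66530 Q66530 (allL N66530 (tt N87487 (iv1 F379532)) (tt N80028 F378456) (tt N87127 F378454) (tt N87499 (iv3 F379562)) (tt N92003 F395329) (tt N102868 (iv5 F439018)) (tt N92528 (iv6 F397255)) (tt N36194 (iv7 D127112)))
theorem Q66532 : ∀ i, i < 66532 → P i := stepQ 66531 Q66531 (allL N66531 (tt N39237 F381999) (tt N54974 F382000) (tt N71048 (iv2 F382048)) (tt N36195 (iv3 D127113)) (tt N92444 (iv4 F397010)) (tt N87472 F382001) (tt N102869 D206053) (tt N71047 (iv7 F382051)))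
theorem Q66533 : ∀ i, i < 66533 → P i := stepQ 66532 Q66532 (allL N66532 (tt N97123 (iv1 F415556)) (tt N57641 F204365) (tt N93724 (iv2 F401674)) (tt N87472 F381998) (tt N98476 (iv4 F421049)) (tt N36195 (iv5 D127114)) (tt N52570 (iv6 F350494)) (tt N93729 (iv7 F401700)))
theorem Q66534 : ∀ i, i < 66534 → P i := stepQ 66533 Q66533 (allL N66533 (tt N92675 (iv1 F397848)) (tt N65862 (iv0 F204367)) (tt N93725 (iv2 F401681)) (tt N102869 (iv3 F439021)) (tt N39667 F204366) (tt N77802 F350486) (tt N36195 (iv6 D127115)) (tt N97130 (iv7 F415594)))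
theorem Q66535 : ∀ i, i < 66535 → P i := stepQ 66534 Q66534 (allL N66534 (tt N54782 (iv1 F365367)) (tt N53444 (iv0 F365366)) (tt N54781 F385938) (tt N36196 (iv3 D127116)) (tt N99504 (iv4 F424896)) (tt N84359 F369047) (tt N97126 (iv6 F415571)) (tt N54780 (iv7 F362230)))
theorem Q66536 : ∀ i, i < 66536 → P i := stepQ 66535 Q66535 (allL N66535 (tt N57641 F204368) (tt N97123 F415555) (tt N93729 (iv2 F401698)) (tt N84359 (iv3 F369046)) (tt N64187 F339971) (tt N36196 (iv5 D127117)) (tt N64186 (iv6 F339972)) (tt N93724 (iv7 F401676)))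
theorem Q66537 : ∀ i, i < 66537 → P i := stepQ 66536 Q66536 (allL N66536 (tt N65857 F204374) (tt N95168 (iv0 F407286)) (tt N73526 (iv2 F224998)) (tt N36201 F204372) (tt N73049 (iv4 F223753)) (tt N60073 F204373) (tt N36199 (iv6 D127122)) (tt N70221 (iv7 F217017)))
theorem Q66538 : ∀ i, i < 66538 → P i := stepQ 66537 Q66537 (allL N66537 (tt N102870 D206054) (tt N67141 (iv0 F392747)) (tt N102871 D206055) (tt N36200 (iv3 D127123)) (tt N73446 (iv4 F224861)) (tt N102872 D206056) (tt N102873 D206057) (tt N71831 (iv7 F220702)))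
theorem Q66539 : ∀ i, i < 66539 → P i := stepQ 66538 Q66538 (allL N66538 (tt N49688 (iv1 F352673)) (tt N37272 F204375) (tt N71829 (iv2 F220693)) (tt N102872 (iv3 F439033)) (tt N61118 (iv4 F353120)) (tt N36200 (iv5 D127124)) (tt N61116 F353122) (tt N71832 (iv7 F220704)))
theorem Q66540 : ∀ i, i < 66540 → P i := stepQ 66539 Q66539 (allL N66539 (tt N72140 F221459) (tt N92068 (iv0 F395607)) (tt N71830 (iv2 F220697)) (tt N102873 (iv3 F439036)) (tt N36201 F204376) (tt N71602 F220261) (tt N36200 (iv6 D127125)) (tt N95818 (iv7 F409785)))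
theorem Q66541 : ∀ i, i < 66541 → P i := stepQ 66540 Q66540 (allL N66540 (tt N75921 F397575) (tt N75926 (iv0 F385990)) (tt N102874 D206058) (tt N36203 (iv3 D127126)) (tt N62021 F204377) (tt N102875 D206059) (tt N97132 (iv6 F415604)) (tt N71828 (iv7 F220692)))
theorem Q66542 : ∀ i, i < 66542 → P i := stepQ 66541 Q66541 (allL N66541 (tt N37272 F204378) (tt N49688 F352672) (tt N71832 (iv2 F220703)) (tt N102875 (iv3 F439049)) (tt N46037 F352674) (tt N36203 (iv5 D127127)) (tt N46036 F352675) (tt N71829 (iv7 F220694)))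
theorem Q66543 : ∀ i, i < 66543 → P i := stepQ 66542 Q66542 (allL N66542 (tt N77865 (iv1 F245169)) (tt N102876 D206060) (tt N92455 (iv2 F397054)) (tt N73613 (iv3 F225221)) (tt N98073 (iv4 F419357)) (tt N36204 (iv5 D127128)) (tt N98077 (iv6 F419363)) (tt N92452 (iv7 F397047)))
theorem Q66544 : ∀ i, i < 66544 → P i := stepQ 66543 Q66543 (allL N66543 (tt N73361 (iv1 F224494)) (tt N40252 F221133) (tt N71978 (iv2 F221129)) (tt N36208 F204380) (tt N73771 (iv4 F225716)) (tt N36206 (iv5 D127130)) (tt N73401 (iv6 F330062)) (tt N36224 F204381))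
theorem Q66545 : ∀ i, i < 66545 → P i := stepQ 66544 Q66544 (allL N66544 (tt N66734 F320647) (tt N67080 F320648) (tt N67079 (iv2 F363000)) (tt N36209 F204382) (tt N73728 (iv4 F225593)) (tt N74974 (iv5 F330054)) (tt N36206 (iv6 D127131)) (tt N67078 F320650))
theorem Q66546 : ∀ i, i < 66546 → P i := stepQ 66545 Q66545 (allL N66545 (tt N36211 (iv1 D127144)) (tt N71982 F221153) (tt N40446 F204435) (tt N73582 (iv3 F225092)) (tt N40934 F204436) (tt N40444 (iv5 F204434)) (tt N73354 F350251) (tt N71979 (iv7 F221139)))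
theorem Q66547 : ∀ i, i < 66547 → P i := stepQ 66546 Q66546 (allL N66546 (tt N40204 F204433) (tt N73714 (iv0 F225491)) (tt N71980 (iv2 F221141)) (tt N73723 (iv3 F359461)) (tt N36211 (iv4 D127145)) (tt N62950 F204406) (tt N78689 F359463) (tt N72003 (iv7 F221211)))
theorem Q66548 : ∀ i, i < 66548 → P i := stepQ 66547 Q66547 (allL N66547 (tt N40260 F334136) (tt N73376 F334137) (tt N71981 (iv2 F221149)) (tt N36217 F204407) (tt N78689 F321567) (tt N41704 F321568) (tt N36211 (iv6 D127146)) (tt N73374 (iv7 F336862)))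
theorem Q66549 : ∀ i, i < 66549 → P i := stepQ 66548 Q66548 (allL N66548 (tt N71984 (iv1 F221161)) (tt N36212 (iv0 D127147)) (tt N44991 F321571) (tt N62378 F321572) (tt N40926 F334860) (tt N45191 F321573) (tt N44978 F321574) (tt N62387 (iv7 F335433)))
theorem Q66550 : ∀ i, i < 66550 → P i := stepQ 66549 Q66549 (allL N66549 (tt N36212 (iv1 D127148)) (tt N71984 F221160) (tt N62387 F333289) (tt N102877 D206061) (tt N40927 F334855) (tt N63388 (iv5 F334851)) (tt N80085 F334852) (tt N44991 F321575))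
theorem Q66551 : ∀ i, i < 66551 → P i := stepQ 66550 Q66550 (allL N66550 (tt N82576 F340691) (tt N92231 (iv0 F396384)) (tt N71983 (iv2 F221156)) (tt N36219 F204408) (tt N81441 (iv4 F359061)) (tt N36212 (iv5 D127149)) (tt N41704 F321281) (tt N82237 F321282))
theorem Q66552 : ∀ i, i < 66552 → P i := stepQ 66551 Q66551 (allL N66551 (tt N62387 (iv1 F333288)) (tt N44991 (iv0 F323278)) (tt N71984 (iv2 F221157)) (tt N36220 F204409) (tt N71811 (iv4 F343280)) (tt N82237 F321576) (tt N66867 (iv6 F322437)) (tt N36212 (iv7 D127150)))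
theorem Q66553 : ∀ i, i < 66553 → P i := stepQ 66552 Q66552 (allL N66552 (tt N91321 (iv1 F392726)) (tt N102771 (iv0 F438569)) (tt N102643 (iv2 F438012)) (tt N36213 (iv3 D127151)) (tt N62478 F204410) (tt N69173 F322389) (tt N45760 F321550) (tt N48096 F321551))
theorem Q66554 : ∀ i, i < 66554 → P i := stepQ 66553 Q66553 (allL N66553 (tt N36214 (iv1 D127156)) (tt N69554 (iv0 F323473)) (tt N39626 (iv2 F218828)) (tt N102724 (iv3 F438368)) (tt N39166 (iv4 F204413)) (tt N69206 (iv5 F342167)) (tt N82223 (iv6 F344782)) (tt N39623 (iv7 F218810)))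
theorem Q66555 : ∀ i, i < 66555 → P i := stepQ 66554 Q66554 (allL N66554 (tt N39623 (iv1 F218829)) (tt N39626 F204416) (tt N36214 (iv2 D127157)) (tt N57138 F204414) (tt N71887 (iv4 F220814)) (tt N60825 F204415) (tt N81493 F360708) (tt N69554 (iv7 F323476)))
theorem Q66556 : ∀ i, i < 66556 → P i := stepQ 66555 Q66555 (allL N66555 (tt N60076 F349921) (tt N81492 F349933) (tt N81493 (iv2 F349934)) (tt N36215 F204417) (tt N71964 (iv4 F221095)) (tt N57301 F346482) (tt N36214 (iv6 D127158)) (tt N80645 F349925))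
theorem Q66557 : ∀ i, i < 66557 → P i := stepQ 66556 Q66556 (allL N66556 (tt N40252 F204475) (tt N73361 F224495) (tt N36224 F204474) (tt N71982 (iv3 F221151)) (tt N56313 (iv4 F350232)) (tt N36222 (iv5 D127202)) (tt N56311 F350226) (tt N71978 (iv7 F221131)))
theorem Q66558 : ∀ i, i < 66558 → P i := stepQ 66557 Q66557 (allL N66557 (tt N62438 (iv1 F319688)) (tt N76143 F321587) (tt N36225 F204476) (tt N66865 (iv3 F322432)) (tt N73729 (iv4 F225600)) (tt N43555 F321588) (tt N36222 (iv6 D127203)) (tt N66871 F321589))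
theorem Q66559 : ∀ i, i < 66559 → P i := stepQ 66558 Q66558 (allL N66558 (tt N93647 (iv1 F401427)) (tt N92895 F398690) (tt N59192 F204477) (tt N36223 (iv3 D127204)) (tt N36226 F204478) (tt N72924 F223613) (tt N102878 D206062) (tt N73726 (iv7 F225589)))
theorem Q66560 : ∀ i, i < 66560 → P i := stepQ 66559 Q66559 (allL N66559 (tt N41543 F204481) (tt N41531 F204482) (tt N55259 (iv2 F363554)) (tt N72924 (iv3 F223612)) (tt N52127 (iv4 F340462)) (tt N36223 (iv5 D127205)) (tt N52130 F340512) (tt N73727 (iv7 F225590)))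
theorem Q66561 : ∀ i, i < 66561 → P i := stepQ 66560 Q66560 (allL N66560 (tt N65261 F348357) (tt N73757 F348359) (tt N73729 (iv2 F225598)) (tt N102878 (iv3 F439069)) (tt N36225 F204484) (tt N85653 (iv5 F373403)) (tt N36223 (iv6 D127206)) (tt N73789 (iv7 F342510)))
theorem Q66562 : ∀ i, i < 66562 → P i := stepQ 66561 Q66561 (allL N66561 (tt N71978 (iv1 F221134)) (tt N36224 (iv0 D127207)) (tt N40252 (iv2 F204487)) (tt N73368 (iv3 F224513)) (tt N40876 F204486) (tt N40251 F204485) (tt N46613 F339619) (tt N73361 (iv7 F224493)))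
theorem Q66563 : ∀ i, i < 66563 → P i := stepQ 66562 Q66562 (allL N66562 (tt N41545 F204488) (tt N41533 F204489) (tt N56313 (iv2 F350230)) (tt N73725 F366050) (tt N36224 (iv4 D127208)) (tt N98152 (iv5 F419725)) (tt N56301 F350249) (tt N73771 F225718))
theorem Q66564 : ∀ i, i < 66564 → P i := stepQ 66563 Q66563 (allL N66563 (tt N66871 F350096) (tt N36225 (iv0 D127210)) (tt N62438 F350101) (tt N99592 (iv3 F425317)) (tt N40866 F350097) (tt N72227 F339622) (tt N72228 (iv6 F350100)) (tt N76143 F350098))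
theorem Q66565 : ∀ i, i < 66565 → P i := stepQ 66564 Q66564 (allL N66564 (tt N36225 (iv1 D127211)) (tt N66871 F321313) (tt N76143 F321314) (tt N46505 F321315) (tt N40867 F321586) (tt N87926 (iv5 F381163)) (tt N55187 (iv6 F330088)) (tt N62438 (iv7 F319690)))
theorem Q66566 : ∀ i, i < 66566 → P i := stepQ 66565 Q66565 (allL N66565 (tt N80824 F331851) (tt N81192 F331853) (tt N78617 (iv2 F347448)) (tt N36227 F204494) (tt N102878 (iv4 F439070)) (tt N37227 F323659) (tt N36226 (iv6 D127215)) (tt N76145 F347449))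
theorem Q66567 : ∀ i, i < 66567 → P i := stepQ 66566 Q66566 (allL N66566 (tt N36227 (iv1 D127219)) (tt N69339 F323279) (tt N69338 F323280) (tt N91320 F392719) (tt N42339 F321577) (tt N67924 F323281) (tt N42338 F321578) (tt N69337 F323282))
theorem Q66568 : ∀ i, i < 66568 → P i := stepQ 66567 Q66567 (allL N66567 (tt N72309 F333285) (tt N71977 (iv0 F333282)) (tt N72060 (iv2 F339046)) (tt N36229 (iv3 D127294)) (tt N71305 F219810) (tt N57705 F333278) (tt N67101 (iv6 F333280)) (tt N72063 (iv7 F333281)))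
theorem Q66569 : ∀ i, i < 66569 → P i := stepQ 66568 Q66568 (allL N66568 (tt N44000 (iv1 F315206)) (tt N36231 (iv0 D127306)) (tt N72811 (iv2 F360911)) (tt N46228 F314074) (tt N54800 (iv4 F337105)) (tt N76021 F314076) (tt N63053 F314077) (tt N62314 (iv7 F317436)))
theorem Q66570 : ∀ i, i < 66570 → P i := stepQ 66569 Q66569 (allL N66569 (tt N100491 (iv1 F429156)) (tt N72816 F349361) (tt N100158 (iv2 F427755)) (tt N63067 F204531) (tt N36231 (iv4 D127309)) (tt N51486 F340084) (tt N62953 F360538) (tt N75671 (iv7 F233387)))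
theorem Q66571 : ∀ i, i < 66571 → P i := stepQ 66570 Q66570 (allL N66570 (tt N73157 F350252) (tt N75965 F332440) (tt N64365 F314085) (tt N36232 F204533) (tt N62953 (iv4 F360539)) (tt N42995 F314086) (tt N36231 (iv6 D127311)) (tt N76136 F350253))
theorem Q66572 : ∀ i, i < 66572 → P i := stepQ 66571 Q66571 (allL N66571 (tt N36233 (iv1 D127321)) (tt N54130 F315739) (tt N73156 (iv2 F363056)) (tt N46194 F315740) (tt N77242 F315741) (tt N76141 F315742) (tt N63065 F315743) (tt N62243 (iv7 F318766)))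
theorem Q66573 : ∀ i, i < 66573 → P i := stepQ 66572 Q66572 (allL N66572 (tt N62243 (iv1 F339624)) (tt N73156 (iv0 F363054)) (tt N36233 (iv2 D127322)) (tt N44000 F315745) (tt N92767 (iv4 F398137)) (tt N43665 F315746) (tt N52586 F315747) (tt N54130 F315748))
theorem Q66574 : ∀ i, i < 66574 → P i := stepQ 66573 Q66573 (allL N66573 (tt N73160 (iv1 F366155)) (tt N98210 F420007) (tt N92767 (iv2 F398135)) (tt N63071 F204552) (tt N36233 (iv4 D127323)) (tt N92733 (iv5 F398020)) (tt N60979 (iv6 F361069)) (tt N75667 (iv7 F233349)))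
theorem Q66575 : ∀ i, i < 66575 → P i := stepQ 66574 Q66574 (allL N66574 (tt N62374 F344016) (tt N72310 (iv0 F338959)) (tt N73577 F350153) (tt N36235 (iv3 D127334)) (tt N43720 F315956) (tt N41074 F204571) (tt N68266 F315957) (tt N73340 (iv7 F224416)))
theorem Q66576 : ∀ i, i < 66576 → P i := stepQ 66575 Q66575 (allL N66575 (tt N93848 (iv1 F402134)) (tt N56935 F204575) (tt N59210 F204572) (tt N76888 F364419) (tt N36237 (iv4 D127337)) (tt N57158 F204574) (tt N67307 (iv6 F207049)) (tt N59211 F204573))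
theorem Q66577 : ∀ i, i < 66577 → P i := stepQ 66576 Q66576 (allL N66576 (tt N54415 (iv1 F357171)) (tt N54417 (iv0 F357168)) (tt N54414 (iv2 F357177)) (tt N59791 F346860) (tt N93662 (iv4 F401479)) (tt N36239 (iv5 D127339)) (tt N59789 (iv6 F346859)) (tt N54413 F357180))
theorem Q66578 : ∀ i, i < 66578 → P i := stepQ 66577 Q66577 (allL N66577 (tt N74048 (iv1 F226948)) (tt N54416 (iv0 F357162)) (tt N74077 (iv2 F226777)) (tt N76889 (iv3 F366678)) (tt N36240 (iv4 D127340)) (tt N97321 (iv5 F416341)) (tt N60121 F204582) (tt N74190 (iv7 F226947)))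
theorem Q66579 : ∀ i, i < 66579 → P i := stepQ 66578 Q66578 (allL N66578 (tt N63342 F204585) (tt N63348 F204586) (tt N78762 (iv2 F250827)) (tt N100636 (iv3 F429778)) (tt N36245 (iv4 D127342)) (tt N102879 D206063) (tt N91064 F391807) (tt N76496 (iv7 F366224)))
theorem Q66580 : ∀ i, i < 66580 → P i := stepQ 66579 Q66579 (allL N66579 (tt N95231 F407515) (tt N82446 (iv0 F362679)) (tt N95199 (iv2 F407376)) (tt N36246 (iv3 D127343)) (tt N100636 (iv4 F429779)) (tt N73517 F362680) (tt N97995 (iv6 F419102)) (tt N92971 (iv7 F398968)))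
theorem Q66581 : ∀ i, i < 66581 → P i := stepQ 66580 Q66580 (allL N66580 (tt N102880 D206064) (tt N102881 D206065) (tt N92559 (iv2 F397372)) (tt N61683 (iv3 F327026)) (tt N70599 (iv4 F365704)) (tt N100300 (iv5 F428327)) (tt N36250 (iv6 D127344)) (tt N61679 F365705))
theorem Q66582 : ∀ i, i < 66582 → P i := stepQ 66581 Q66581 (allL N66581 (tt N100183 (iv1 F427887)) (tt N76150 (iv0 F237095)) (tt N78828 (iv2 F251053)) (tt N78179 F366458) (tt N102882 D206066) (tt N36255 (iv5 D127347)) (tt N91158 (iv6 F403508)) (tt N76219 (iv7 F237882)))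
theorem Q66583 : ∀ i, i < 66583 → P i := stepQ 66582 Q66582 (allL N66582 (tt N60048 (iv1 F204590)) (tt N36256 (iv0 D127351)) (tt N60047 F362277) (tt N102025 (iv3 F435411)) (tt N102883 D206067) (tt N55672 F336184) (tt N102884 D206068) (tt N60046 (iv7 F362280)))
theorem Q66584 : ∀ i, i < 66584 → P i := stepQ 66583 Q66583 (allL N66583 (tt N36256 (iv1 D127352)) (tt N60048 F204595) (tt N60046 F362279) (tt N102885 D206069) (tt N91814 (iv4 F394528)) (tt N55673 F342864) (tt N91520 (iv6 F393457)) (tt N60047 F362278))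
theorem Q66585 : ∀ i, i < 66585 → P i := stepQ 66584 Q66584 (allL N66584 (tt N60047 (iv1 F204596)) (tt N60046 F204594) (tt N36256 (iv2 D127353)) (tt N60441 F204591) (tt N58418 F204592) (tt N57029 (iv5 F328812)) (tt N80727 (iv6 F345728)) (tt N60048 F204593))
theorem Q66586 : ∀ i, i < 66586 → P i := stepQ 66585 Q66585 (allL N66585 (tt N94835 (iv1 F406102)) (tt N94827 (iv0 F406107)) (tt N60706 F204597) (tt N94847 (iv3 F406126)) (tt N36257 (iv4 D127354)) (tt N99351 F424228) (tt N99354 (iv6 F424241)) (tt N60702 F204598))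
theorem Q66587 : ∀ i, i < 66587 → P i := stepQ 66586 Q66586 (allL N66586 (tt N101976 F435181) (tt N97115 (iv0 F415508)) (tt N60708 F204600) (tt N46189 F350088) (tt N99354 (iv4 F424242)) (tt N46188 F350089) (tt N36257 (iv6 D127355)) (tt N100798 (iv7 F430520)))
theorem Q66588 : ∀ i, i < 66588 → P i := stepQ 66587 Q66587 (allL N66587 (tt N102023 F435402) (tt N102025 (iv0 F435408)) (tt N96449 (iv2 F412567)) (tt N36258 (iv3 D127356)) (tt N94839 (iv4 F406118)) (tt N97657 (iv5 F417805)) (tt N97606 (iv6 F417571)) (tt N60705 F204601))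
theorem Q66589 : ∀ i, i < 66589 → P i := stepQ 66588 Q66588 (allL N66588 (tt N74644 F412412) (tt N81737 (iv0 F365130)) (tt N60704 F204602) (tt N97606 F417570) (tt N94837 (iv4 F406113)) (tt N102030 (iv5 F435442)) (tt N36258 (iv6 D127357)) (tt N102886 D206070))
theorem Q66590 : ∀ i, i < 66590 → P i := stepQ 66589 Q66589 (allL N66589 (tt N60585 (iv1 F204623)) (tt N60581 F204607) (tt N36260 F204603) (tt N60666 F204604) (tt N102887 D206071) (tt N36259 (iv5 D127358)) (tt N102888 D206072) (tt N60662 F204605))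
theorem Q66591 : ∀ i, i < 66591 → P i := stepQ 66590 Q66590 (allL N66590 (tt N102050 (iv1 F435513)) (tt N101973 (iv0 F435163)) (tt N36261 F204608) (tt N60764 F204609) (tt N72909 (iv4 F223567)) (tt N97591 (iv5 F417507)) (tt N36259 (iv6 D127359)) (tt N102048 (iv7 F435501)))
theorem Q66592 : ∀ i, i < 66592 → P i := stepQ 66591 Q66591 (allL N66591 (tt N60662 (iv1 F204610)) (tt N36260 (iv0 D127360)) (tt N60585 (iv2 F204619)) (tt N71010 (iv3 F219253)) (tt N66221 F204614) (tt N55654 (iv5 F204616)) (tt N102889 D206073) (tt N60581 (iv7 F204615)))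
theorem Q66593 : ∀ i, i < 66593 → P i := stepQ 66592 Q66592 (allL N66592 (tt N36260 (iv1 D127361)) (tt N60662 F204611) (tt N60581 F204621) (tt N102890 D206074) (tt N66358 (iv4 F204624)) (tt N55655 (iv5 F204629)) (tt N68031 F347123) (tt N60585 F204620))
theorem Q66594 : ∀ i, i < 66594 → P i := stepQ 66593 Q66593 (allL N66593 (tt N66484 F345852) (tt N102891 D206075) (tt N102887 (iv2 F439109)) (tt N55698 F204612) (tt N36260 (iv4 D127362)) (tt N66466 (iv5 F204667)) (tt N70049 (iv6 F362099)) (tt N60663 F204613))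
theorem Q66595 : ∀ i, i < 66595 → P i := stepQ 66594 Q66594 (allL N66594 (tt N38047 F362097) (tt N102892 D206076) (tt N102888 (iv2 F439118)) (tt N36262 F204668) (tt N70049 F362098) (tt N86927 (iv5 F377732)) (tt N36260 (iv6 D127363)) (tt N102893 D206077))
theorem Q66596 : ∀ i, i < 66596 → P i := stepQ 66595 Q66595 (allL N66595 (tt N102048 (iv1 F435500)) (tt N36261 (iv0 D127364)) (tt N102050 (iv2 F435509)) (tt N102894 D206078) (tt N102895 D206079) (tt N83000 (iv5 F331161)) (tt N81736 F331160) (tt N101973 (iv7 F435162)))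
theorem Q66597 : ∀ i, i < 66597 → P i := stepQ 66596 Q66596 (allL N66596 (tt N97585 (iv1 F417476)) (tt N93092 (iv0 F399451)) (tt N97591 (iv2 F417506)) (tt N36264 F204669) (tt N86928 (iv4 F377738)) (tt N36261 (iv5 D127366)) (tt N86927 F377734) (tt N97590 (iv7 F417508)))
theorem Q66598 : ∀ i, i < 66598 → P i := stepQ 66597 Q66597 (allL N66597 (tt N101973 (iv1 F435164)) (tt N102050 F435512) (tt N102048 F435502) (tt N36265 F204670) (tt N72913 (iv4 F223570)) (tt N97590 F417510) (tt N60713 F204671) (tt N36261 (iv7 D127367)))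
theorem Q66599 : ∀ i, i < 66599 → P i := stepQ 66598 Q66598 (allL N66598 (tt N36262 (iv1 D127369)) (tt N60672 F204672) (tt N60670 (iv2 F391700)) (tt N88752 F384054) (tt N55738 (iv4 F362906)) (tt N67377 (iv5 F396543)) (tt N102896 D206080) (tt N60669 (iv7 F391699)))
theorem Q66600 : ∀ i, i < 66600 → P i := stepQ 66599 Q66599 (allL N66599 (tt N102897 D206081) (tt N102898 D206082) (tt N60671 F204673) (tt N86927 F377733) (tt N102899 D206083) (tt N36262 (iv5 D127370)) (tt N36264 F204674) (tt N102900 D206084))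
theorem Q66601 : ∀ i, i < 66601 → P i := stepQ 66600 Q66600 (allL N66600 (tt N60670 (iv1 F204679)) (tt N60669 F204680) (tt N60672 F204675) (tt N102893 (iv3 F439150)) (tt N55703 F204676) (tt N102900 (iv5 F439181)) (tt N60665 F204677) (tt N36262 (iv7 D127371)))
theorem Q66602 : ∀ i, i < 66602 → P i := stepQ 66601 Q66601 (allL N66601 (tt N91521 (iv1 F393458)) (tt N91520 F393456) (tt N91522 (iv2 F393462)) (tt N36263 (iv3 D127372)) (tt N91517 (iv4 F393445)) (tt N102901 D206085) (tt N102036 (iv6 F435464)) (tt N60514 F204681))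
theorem Q66603 : ∀ i, i < 66603 → P i := stepQ 66602 Q66602 (allL N66602 (tt N67391 (iv1 F352193)) (tt N67383 F352195) (tt N60511 F204682) (tt N102901 (iv3 F439185)) (tt N102902 D206086) (tt N36263 (iv5 D127373)) (tt N87909 (iv6 F381083)) (tt N60515 F204683))
theorem Q66604 : ∀ i, i < 66604 → P i := stepQ 66603 Q66603 (allL N66603 (tt N60772 (iv1 F204690)) (tt N36264 (iv0 D127374)) (tt N60769 (iv2 F204687)) (tt N102903 D206087) (tt N102904 D206088) (tt N96895 (iv5 F414489)) (tt N102905 D206089) (tt N60770 (iv7 F204688)))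
theorem Q66605 : ∀ i, i < 66605 → P i := stepQ 66604 Q66604 (allL N66604 (tt N36264 (iv1 D127375)) (tt N60772 F204684) (tt N60770 F204689) (tt N52969 F383698) (tt N102906 D206090) (tt N60576 (iv5 F204685)) (tt N56400 (iv6 F363269)) (tt N60769 F204686))
theorem Q66606 : ∀ i, i < 66606 → P i := stepQ 66605 Q66605 (allL N66605 (tt N75092 F383701) (tt N97565 (iv0 F417398)) (tt N60771 F204691) (tt N102907 D206091) (tt N36264 (iv4 D127376)) (tt N102908 D206092) (tt N102899 (iv6 F439179)) (tt N102909 D206093))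
theorem Q66607 : ∀ i, i < 66607 → P i := stepQ 66606 Q66606 (allL N66606 (tt N60770 (iv1 F204694)) (tt N60769 F204695) (tt N60772 F204692) (tt N97590 F417509) (tt N102909 (iv4 F439220)) (tt N36265 F204693) (tt N98011 F419163) (tt N36264 (iv7 D127377)))
theorem Q66608 : ∀ i, i < 66608 → P i := stepQ 66607 Q66607 (allL N66607 (tt N60732 F204699) (tt N60731 F204700) (tt N36267 F204696) (tt N102910 D206094) (tt N36266 (iv4 D127378)) (tt N63001 F204697) (tt N102911 D206095) (tt N60724 F204698))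
theorem Q66609 : ∀ i, i < 66609 → P i := stepQ 66608 Q66608 (allL N66608 (tt N102912 D206096) (tt N102913 D206097) (tt N36268 F204701) (tt N60777 F204702) (tt N102911 (iv4 F439231)) (tt N69564 (iv5 F214879)) (tt N36266 (iv6 D127379)) (tt N91044 (iv7 F391731)))
theorem Q66610 : ∀ i, i < 66610 → P i := stepQ 66609 Q66609 (allL N66609 (tt N102914 D206098) (tt N102915 D206099) (tt N102916 D206100) (tt N36267 (iv3 D127380)) (tt N36269 F204703) (tt N98650 (iv5 F421734)) (tt N102917 D206101) (tt N60667 F204704))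
theorem Q66611 : ∀ i, i < 66611 → P i := stepQ 66610 Q66610 (allL N66610 (tt N75584 (iv1 F231955)) (tt N75583 F231952) (tt N63001 F204705) (tt N98650 (iv3 F421738)) (tt N62992 F204706) (tt N36267 (iv5 D127381)) (tt N102918 D206102) (tt N60733 F204707))
theorem Q66612 : ∀ i, i < 66612 → P i := stepQ 66611 Q66611 (allL N66611 (tt N102919 D206103) (tt N98746 (iv0 F422129)) (tt N102911 (iv2 F439229)) (tt N102917 (iv3 F439260)) (tt N36268 F204708) (tt N53011 (iv5 F344984)) (tt N36267 (iv6 D127382)) (tt N102920 D206104))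
theorem Q66613 : ∀ i, i < 66613 → P i := stepQ 66612 Q66612 (allL N66612 (tt N91044 F391732) (tt N36268 (iv0 D127383)) (tt N102912 F439236) (tt N50192 (iv3 F204710)) (tt N102921 D206105) (tt N83804 F364868) (tt N50190 F204709) (tt N102913 (iv7 F439239)))
theorem Q66614 : ∀ i, i < 66614 → P i := stepQ 66613 Q66613 (allL N66613 (tt N36268 (iv1 D127384)) (tt N91044 F391734) (tt N102913 (iv2 F439243)) (tt N102922 D206106) (tt N102923 D206107) (tt N74447 F347380) (tt N74450 (iv6 F347379)) (tt N102912 F439237))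
theorem Q66615 : ∀ i, i < 66615 → P i := stepQ 66614 Q66614 (allL N66614 (tt N102913 (iv1 F439238)) (tt N102912 F439235) (tt N91044 (iv2 F391730)) (tt N36273 F204711) (tt N102920 (iv4 F439271)) (tt N92973 (iv5 F398981)) (tt N60737 F204712) (tt N36268 (iv7 D127385)))
theorem Q66616 : ∀ i, i < 66616 → P i := stepQ 66615 Q66615 (allL N66615 (tt N60666 (iv1 F204713)) (tt N36269 (iv0 D127386)) (tt N60604 (iv2 F204918)) (tt N102924 D206108) (tt N102925 D206109) (tt N55648 F204917) (tt N102926 D206110) (tt N60602 (iv7 F204919)))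
theorem Q66617 : ∀ i, i < 66617 → P i := stepQ 66616 Q66616 (allL N66616 (tt N36269 (iv1 D127387)) (tt N60666 F204718) (tt N60602 (iv2 F204920)) (tt N66050 (iv3 F204923)) (tt N102927 D206111) (tt N55649 F204921) (tt N102208 (iv6 F436192)) (tt N60604 F204922))
theorem Q66618 : ∀ i, i < 66618 → P i := stepQ 66617 Q66617 (allL N66617 (tt N60604 (iv1 F230614)) (tt N60602 (iv0 F230611)) (tt N36269 (iv2 D127388)) (tt N60662 F204714) (tt N102916 (iv4 F439256)) (tt N55692 F204715) (tt N102928 D206112) (tt N60666 F204716))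
theorem Q66619 : ∀ i, i < 66619 → P i := stepQ 66618 Q66618 (allL N66618 (tt N102929 D206113) (tt N102930 D206114) (tt N102928 (iv2 F439301)) (tt N36270 F204720) (tt N102917 (iv4 F439261)) (tt N92928 (iv5 F398795)) (tt N36269 (iv6 D127389)) (tt N102931 D206115))
theorem Q66620 : ∀ i, i < 66620 → P i := stepQ 66619 Q66619 (allL N66619 (tt N53030 (iv1 F332862)) (tt N36819 F332806) (tt N60665 F204724) (tt N102931 (iv3 F439306)) (tt N36273 F204725) (tt N37682 F332807) (tt N60672 F204726) (tt N36270 (iv7 D127393)))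
theorem Q66621 : ∀ i, i < 66621 → P i := stepQ 66620 Q66620 (allL N66620 (tt N102932 D206116) (tt N56256 (iv0 F374542)) (tt N102933 D206117) (tt N36271 (iv3 D127394)) (tt N102934 D206118) (tt N87557 (iv5 F399899)) (tt N85944 F374541) (tt N60790 F204730))
theorem Q66622 : ∀ i, i < 66622 → P i := stepQ 66621 Q66621 (allL N66621 (tt N87589 F379823) (tt N56671 (iv0 F259067)) (tt N60788 F204733) (tt N87557 (iv3 F399898)) (tt N95822 (iv4 F409804)) (tt N36271 (iv5 D127396)) (tt N85947 (iv6 F374557)) (tt N60792 F204734))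
theorem Q66623 : ∀ i, i < 66623 → P i := stepQ 66622 Q66622 (allL N66622 (tt N45184 F331443) (tt N75739 F331444) (tt N75738 F331445) (tt N36272 (iv3 D127397)) (tt N102935 D206119) (tt N60284 F331446) (tt N66071 (iv6 F332581)) (tt N60786 F204735))
theorem Q66624 : ∀ i, i < 66624 → P i := stepQ 66623 Q66623 (allL N66623 (tt N56671 (iv1 F259068)) (tt N87589 (iv0 F379822)) (tt N60792 F204738) (tt N60284 (iv3 F331449)) (tt N57959 F332822) (tt N36272 (iv5 D127399)) (tt N56651 (iv6 F204740)) (tt N60788 F204739))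
theorem Q66625 : ∀ i, i < 66625 → P i := stepQ 66624 Q66624 (allL N66624 (tt N67355 (iv1 F364858)) (tt N56276 (iv0 F259069)) (tt N60793 F204745) (tt N66071 (iv3 F332579)) (tt N97516 (iv4 F417214)) (tt N98082 (iv5 F419381)) (tt N36272 (iv6 D127400)) (tt N85943 (iv7 F374536)))
theorem Q66626 : ∀ i, i < 66626 → P i := stepQ 66625 Q66625 (allL N66625 (tt N87515 F379623) (tt N102936 D206120) (tt N75696 (iv2 F233471)) (tt N62804 F204746) (tt N97873 (iv4 F418615)) (tt N76420 (iv5 F238569)) (tt N36274 (iv6 D127401)) (tt N102937 D206121))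
theorem Q66627 : ∀ i, i < 66627 → P i := stepQ 66626 Q66626 (allL N66626 (tt N60614 (iv1 F204752)) (tt N60613 F204750) (tt N36275 (iv2 D127403)) (tt N60586 F204747) (tt N75090 (iv4 F230267)) (tt N55650 F204748) (tt N92062 F395585) (tt N60607 F204749))
theorem Q66628 : ∀ i, i < 66628 → P i := stepQ 66627 Q66627 (allL N66627 (tt N60596 (iv1 F204765)) (tt N36276 (iv0 D127405)) (tt N60593 (iv2 F204762)) (tt N88646 (iv3 F383692)) (tt N55714 F204760) (tt N97561 F417383) (tt N102938 D206122) (tt N60594 F204761))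
theorem Q66629 : ∀ i, i < 66629 → P i := stepQ 66628 Q66628 (allL N66628 (tt N36276 (iv1 D127406)) (tt N60596 F204754) (tt N60594 (iv2 F204756)) (tt N68610 (iv3 F363887)) (tt N55715 F204755) (tt N97487 (iv5 F417062)) (tt N61568 (iv6 F204757)) (tt N60593 (iv7 F204764)))
theorem Q66630 : ∀ i, i < 66630 → P i := stepQ 66629 Q66629 (allL N66629 (tt N102080 (iv1 F435634)) (tt N36816 F362299) (tt N60595 F204768) (tt N93868 (iv3 F402212)) (tt N91956 (iv4 F395124)) (tt N36276 (iv5 D127407)) (tt N55652 F204769) (tt N97648 (iv7 F417764)))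
theorem Q66631 : ∀ i, i < 66631 → P i := stepQ 66630 Q66630 (allL N66630 (tt N60594 (iv1 F204773)) (tt N60593 F204774) (tt N60596 F204770) (tt N92063 F395596) (tt N36279 F204771) (tt N97648 (iv5 F417763)) (tt N56488 (iv6 F325756)) (tt N36276 (iv7 D127408)))
theorem Q66632 : ∀ i, i < 66632 → P i := stepQ 66631 Q66631 (allL N66631 (tt N102939 D206123) (tt N56247 (iv0 F386960)) (tt N102940 D206124) (tt N36277 (iv3 D127409)) (tt N102941 D206125) (tt N102942 D206126) (tt N102943 D206127) (tt N60831 F204775))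
theorem Q66633 : ∀ i, i < 66633 → P i := stepQ 66632 Q66632 (allL N66632 (tt N82744 (iv1 F283796)) (tt N84440 (iv0 F369266)) (tt N60829 F204776) (tt N102942 (iv3 F439360)) (tt N84568 (iv4 F369716)) (tt N36277 (iv5 D127410)) (tt N51408 F204778) (tt N60833 F204777))
theorem Q66634 : ∀ i, i < 66634 → P i := stepQ 66633 Q66633 (allL N66633 (tt N97791 F418322) (tt N102944 D206128) (tt N60830 F204784) (tt N102943 (iv3 F439364)) (tt N97601 (iv4 F417549)) (tt N86187 (iv5 F375317)) (tt N36277 (iv6 D127411)) (tt N92662 (iv7 F397801)))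
theorem Q66635 : ∀ i, i < 66635 → P i := stepQ 66634 Q66634 (allL N66634 (tt N45048 (iv1 F204788)) (tt N50179 (iv0 F204787)) (tt N50177 F251305) (tt N36278 (iv3 D127412)) (tt N85056 (iv4 F371477)) (tt N50733 F204785) (tt N92651 (iv6 F397768)) (tt N50176 F204786))
theorem Q66636 : ∀ i, i < 66636 → P i := stepQ 66635 Q66635 (allL N66635 (tt N36349 (iv1 F204798)) (tt N36281 (iv0 D127415)) (tt N36350 F341040) (tt N72776 (iv3 F341043)) (tt N87001 (iv4 F378010)) (tt N55192 (iv5 F341052)) (tt N68570 F210855) (tt N36351 F341042))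
theorem Q66637 : ∀ i, i < 66637 → P i := stepQ 66636 Q66636 (allL N66636 (tt N47715 F319123) (tt N47712 F319124) (tt N36352 F204794) (tt N78812 (iv3 F250978)) (tt N102945 D206129) (tt N36281 (iv5 D127417)) (tt N36282 F204795) (tt N91536 (iv7 F393538)))
theorem Q66638 : ∀ i, i < 66638 → P i := stepQ 66637 Q66637 (allL N66637 (tt N36351 (iv1 F204799)) (tt N36350 F204800) (tt N36349 F204796) (tt N92562 (iv3 F397389)) (tt N52598 F330078) (tt N91536 (iv5 F393539)) (tt N36321 F204797) (tt N36281 (iv7 D127418)))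
theorem Q66639 : ∀ i, i < 66639 → P i := stepQ 66638 Q66638 (allL N66638 (tt N36629 F204804) (tt N36628 F204805) (tt N36357 F204801) (tt N101954 (iv3 F435077)) (tt N36282 (iv4 D127419)) (tt N43897 F204803) (tt N102945 (iv6 F439371)) (tt N36415 F204802))
theorem Q66640 : ∀ i, i < 66640 → P i := stepQ 66639 Q66639 (allL N66639 (tt N102946 D206130) (tt N79952 F377909) (tt N90687 (iv2 F390525)) (tt N36283 (iv3 D127420)) (tt N92569 (iv4 F397414)) (tt N60601 F204811) (tt N78840 (iv6 F358197)) (tt N36310 F204806))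
theorem Q66641 : ∀ i, i < 66641 → P i := stepQ 66640 Q66640 (allL N66640 (tt N52268 (iv1 F320039)) (tt N52265 (iv0 F320026)) (tt N36297 F204807) (tt N60601 (iv3 F204810)) (tt N42049 F204808) (tt N36283 (iv5 D127421)) (tt N95560 (iv6 F408653)) (tt N36311 F204809))
theorem Q66642 : ∀ i, i < 66642 → P i := stepQ 66641 Q66641 (allL N66641 (tt N36342 (iv1 F204825)) (tt N99867 (iv0 F426608)) (tt N41394 F204820) (tt N75057 (iv3 F230219)) (tt N62918 F204821) (tt N36418 F204822) (tt N36284 (iv6 D127426)) (tt N99924 (iv7 F426842)))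
theorem Q66643 : ∀ i, i < 66643 → P i := stepQ 66642 Q66642 (allL N66642 (tt N74402 F227766) (tt N80450 (iv0 F338165)) (tt N41636 F204826) (tt N74421 (iv3 F227867)) (tt N62859 F204827) (tt N98354 (iv5 F420620)) (tt N36285 (iv6 D127427)) (tt N80452 (iv7 F359376)))
theorem Q66644 : ∀ i, i < 66644 → P i := stepQ 66643 Q66643 (allL N66643 (tt N97942 (iv1 F418900)) (tt N36287 (iv0 D127430)) (tt N64426 F337242) (tt N41624 F337243) (tt N48697 F337244) (tt N102947 D206131) (tt N47687 F337245) (tt N41653 F337246))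
theorem Q66645 : ∀ i, i < 66645 → P i := stepQ 66644 Q66644 (allL N66644 (tt N36287 (iv1 D127431)) (tt N97942 F418899) (tt N41653 F356976) (tt N101273 (iv3 F432481)) (tt N62866 F356977) (tt N102948 D206132) (tt N91537 F393545) (tt N64426 F356978))
theorem Q66646 : ∀ i, i < 66646 → P i := stepQ 66645 Q66645 (allL N66645 (tt N41651 F243222) (tt N101273 F432483) (tt N74413 (iv2 F227825)) (tt N36291 F204830) (tt N75744 (iv4 F233620)) (tt N36287 (iv5 D127432)) (tt N36288 F204831) (tt N101272 (iv7 F432478)))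
theorem Q66647 : ∀ i, i < 66647 → P i := stepQ 66646 Q66646 (allL N66646 (tt N73144 F339599) (tt N62230 F330020) (tt N41600 F204833) (tt N72774 (iv3 F359199)) (tt N75270 (iv4 F230979)) (tt N36497 F204834) (tt N36289 (iv6 D127434)) (tt N73143 (iv7 F335047)))
theorem Q66648 : ∀ i, i < 66648 → P i := stepQ 66647 Q66647 (allL N66647 (tt N60477 F204836) (tt N102949 D206133) (tt N79794 (iv2 F356781)) (tt N36290 (iv3 D127435)) (tt N75742 (iv4 F233612)) (tt N42129 F204835) (tt N77054 (iv6 F356773)) (tt N74392 (iv7 F227724)))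
theorem Q66649 : ∀ i, i < 66649 → P i := stepQ 66648 Q66648 (allL N66648 (tt N41988 F240602) (tt N41831 F243008) (tt N74394 (iv2 F227727)) (tt N77054 F356774) (tt N36291 F204838) (tt N69312 F342759) (tt N36290 (iv6 D127436)) (tt N99789 (iv7 F426224)))
theorem Q66650 : ∀ i, i < 66650 → P i := stepQ 66649 Q66649 (allL N66649 (tt N54966 (iv1 F317936)) (tt N36291 (iv0 D127437)) (tt N41676 F243300) (tt N74956 F243301) (tt N75186 F243302) (tt N87465 (iv5 F379424)) (tt N76621 (iv6 F364013)) (tt N75219 F243303))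
theorem Q66651 : ∀ i, i < 66651 → P i := stepQ 66650 Q66650 (allL N66650 (tt N36293 (iv1 D127443)) (tt N41661 F204843) (tt N41660 F204845) (tt N74439 F259440) (tt N87287 (iv4 F378981)) (tt N52389 (iv5 F305226)) (tt N62389 (iv6 F341071)) (tt N41659 (iv7 F204853)))
theorem Q66652 : ∀ i, i < 66652 → P i := stepQ 66651 Q66651 (allL N66651 (tt N41660 (iv1 F204849)) (tt N41659 F204854) (tt N41661 F204847) (tt N74407 (iv3 F227795)) (tt N52521 F363396) (tt N76008 (iv5 F235618)) (tt N47708 F317064) (tt N36293 (iv7 D127444)))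
theorem Q66653 : ∀ i, i < 66653 → P i := stepQ 66652 Q66652 (allL N66652 (tt N102950 D206134) (tt N89917 (iv0 F387992)) (tt N102951 D206135) (tt N36294 (iv3 D127445)) (tt N41905 F204855) (tt N87798 (iv5 F380547)) (tt N91028 (iv6 F391652)) (tt N75189 (iv7 F230657)))
theorem Q66654 : ∀ i, i < 66654 → P i := stepQ 66653 Q66653 (allL N66653 (tt N92556 F397358) (tt N59720 (iv0 F204861)) (tt N95461 (iv2 F408264)) (tt N36295 (iv3 D127447)) (tt N41690 F204859) (tt N59707 (iv5 F204862)) (tt N52416 (iv6 F347829)) (tt N44584 F204860))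
theorem Q66655 : ∀ i, i < 66655 → P i := stepQ 66654 Q66654 (allL N66654 (tt N75245 F230857) (tt N52468 (iv0 F320364)) (tt N36312 F204883) (tt N95469 (iv3 F408297)) (tt N36300 F204884) (tt N82949 (iv5 F332547)) (tt N36299 (iv6 D127458)) (tt N87192 (iv7 F378657)))
theorem Q66656 : ∀ i, i < 66656 → P i := stepQ 66655 Q66655 (allL N66655 (tt N41704 F252891) (tt N98729 (iv0 F422051)) (tt N36307 F204894) (tt N69972 (iv3 F331672)) (tt N99812 (iv4 F426343)) (tt N45316 F204895) (tt N36302 (iv6 D127471)) (tt N102952 D206136))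
theorem Q66657 : ∀ i, i < 66657 → P i := stepQ 66656 Q66656 (allL N66656 (tt N62803 F204896) (tt N45078 F204897) (tt N74901 F229777) (tt N102953 D206137) (tt N36303 (iv4 D127472)) (tt N102954 D206138) (tt N102955 D206139) (tt N74902 (iv7 F229780)))
theorem Q66658 : ∀ i, i < 66658 → P i := stepQ 66657 Q66657 (allL N66657 (tt N50891 (iv1 F367371)) (tt N85005 F371349) (tt N53661 F204898) (tt N53662 F204899) (tt N102955 (iv4 F439423)) (tt N50865 F204900) (tt N36303 (iv6 D127473)) (tt N54739 F349111))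
theorem Q66659 : ∀ i, i < 66659 → P i := stepQ 66658 Q66658 (allL N66658 (tt N92218 (iv1 F396318)) (tt N47707 F317065) (tt N41685 F204901) (tt N48480 F312106) (tt N62819 F204902) (tt N57429 F204903) (tt N36305 (iv6 D127474)) (tt N79919 (iv7 F337882)))
theorem Q66660 : ∀ i, i < 66660 → P i := stepQ 66659 Q66659 (allL N66659 (tt N64192 F393626) (tt N98480 F421071) (tt N98479 (iv2 F421067)) (tt N36306 (iv3 D127475)) (tt N36310 F204904) (tt N102956 D206140) (tt N97784 (iv6 F418293)) (tt N92569 (iv7 F397415)))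
theorem Q66661 : ∀ i, i < 66661 → P i := stepQ 66660 Q66660 (allL N66660 (tt N41736 F204905) (tt N41724 F204906) (tt N99795 F426254) (tt N102956 (iv3 F439430)) (tt N102957 D206141) (tt N36306 (iv5 D127476)) (tt N102957 F439440) (tt N92570 (iv7 F397418)))
theorem Q66662 : ∀ i, i < 66662 → P i := stepQ 66661 Q66661 (allL N66661 (tt N74797 (iv1 F339432)) (tt N78888 (iv0 F335169)) (tt N99812 (iv2 F426341)) (tt N97784 (iv3 F418291)) (tt N36307 F204907) (tt N70590 (iv5 F359578)) (tt N36306 (iv6 D127477)) (tt N61506 F359579))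
theorem Q66663 : ∀ i, i < 66663 → P i := stepQ 66662 Q66662 (allL N66662 (tt N102952 (iv1 F439414)) (tt N36307 (iv0 D127478)) (tt N41704 F339799) (tt N75255 F339800) (tt N61726 (iv4 F339804)) (tt N71981 F339434) (tt N71983 F339798) (tt N98729 (iv7 F422049)))
theorem Q66664 : ∀ i, i < 66664 → P i := stepQ 66663 Q66663 (allL N66663 (tt N36307 (iv1 D127479)) (tt N102952 F439413) (tt N98729 (iv2 F422046)) (tt N41696 F339435) (tt N62823 F339436) (tt N73374 F339437) (tt N67928 F339438) (tt N41704 F339439))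
theorem Q66665 : ∀ i, i < 66665 → P i := stepQ 66664 Q66664 (allL N66664 (tt N98729 (iv1 F422052)) (tt N41704 F230866) (tt N102952 (iv2 F439409)) (tt N36315 F204908) (tt N61506 F336869) (tt N75966 (iv5 F252901)) (tt N54965 F358878) (tt N36307 (iv7 D127480)))
theorem Q66666 : ∀ i, i < 66666 → P i := stepQ 66665 Q66665 (allL N66665 (tt N75781 (iv1 F233908)) (tt N36309 (iv0 D127482)) (tt N75255 F230932) (tt N41695 F230933) (tt N75224 F230934) (tt N73401 (iv5 F330061)) (tt N74974 (iv6 F330055)) (tt N41705 F230935))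
theorem Q66667 : ∀ i, i < 66667 → P i := stepQ 66666 Q66666 (allL N66666 (tt N36309 (iv1 D127483)) (tt N75781 F233907) (tt N41705 F230936) (tt N98729 (iv3 F422047)) (tt N75225 F230937) (tt N73589 (iv5 F326252)) (tt N49044 F310875) (tt N75255 F230938))
theorem Q66668 : ∀ i, i < 66668 → P i := stepQ 66667 Q66667 (allL N66667 (tt N41705 F229515) (tt N75255 F230903) (tt N75781 (iv2 F233904)) (tt N41707 F243390) (tt N64017 F324698) (tt N75635 (iv5 F313174)) (tt N54966 (iv6 F317940)) (tt N36309 (iv7 D127484)))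
theorem Q66669 : ∀ i, i < 66669 → P i := stepQ 66668 Q66668 (allL N66668 (tt N90687 (iv1 F390531)) (tt N36310 (iv0 D127485)) (tt N79952 (iv2 F366047)) (tt N87172 (iv3 F378616)) (tt N61066 F366048) (tt N95468 (iv5 F408294)) (tt N52403 F366049) (tt N102946 (iv7 F439378)))
theorem Q66670 : ∀ i, i < 66670 → P i := stepQ 66669 Q66669 (allL N66669 (tt N36310 (iv1 D127486)) (tt N90687 (iv0 F390529)) (tt N102946 F439376) (tt N73813 (iv3 F225902)) (tt N73593 (iv4 F225134)) (tt N95464 (iv5 F408278)) (tt N102958 D206142) (tt N79952 (iv7 F366046)))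
theorem Q66671 : ∀ i, i < 66671 → P i := stepQ 66670 Q66670 (allL N66670 (tt N79952 (iv1 F390530)) (tt N102946 F439377) (tt N36310 (iv2 D127487)) (tt N59718 F204911) (tt N98479 (iv4 F421064)) (tt N59850 (iv5 F204912)) (tt N102959 D206143) (tt N90687 (iv7 F390528)))
theorem Q66672 : ∀ i, i < 66672 → P i := stepQ 66671 Q66671 (allL N66671 (tt N86971 (iv1 F377899)) (tt N86972 (iv0 F377905)) (tt N59850 F204913) (tt N36311 F204914) (tt N55648 (iv4 F204916)) (tt N36310 (iv5 D127488)) (tt N102960 D206144) (tt N60601 F204915))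
theorem Q66673 : ∀ i, i < 66673 → P i := stepQ 66672 Q66672 (allL N66672 (tt N102961 D206145) (tt N87175 (iv0 F418294)) (tt N102959 (iv2 F439444)) (tt N36312 F204924) (tt N97784 (iv4 F418292)) (tt N102962 D206146) (tt N36310 (iv6 D127489)) (tt N102963 D206147))
theorem Q66674 : ∀ i, i < 66674 → P i := stepQ 66673 Q66673 (allL N66673 (tt N52280 F363611) (tt N87021 F378066) (tt N87020 (iv2 F378063)) (tt N102960 (iv3 F439452)) (tt N42130 F204925) (tt N68803 F363610) (tt N36311 (iv6 D127490)) (tt N87019 F378060))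
theorem Q66675 : ∀ i, i < 66675 → P i := stepQ 66674 Q66674 (allL N66674 (tt N87192 (iv1 F378659)) (tt N36312 (iv0 D127491)) (tt N75245 (iv2 F361087)) (tt N58887 (iv3 F361091)) (tt N75191 F361089) (tt N88376 (iv5 F382797)) (tt N58886 F361090) (tt N52468 (iv7 F361088)))
theorem Q66676 : ∀ i, i < 66676 → P i := stepQ 66675 Q66675 (allL N66675 (tt N58920 (iv1 F361092)) (tt N52218 (iv0 F361097)) (tt N82949 F332546) (tt N102962 (iv3 F439458)) (tt N52620 F361093) (tt N36312 (iv5 D127493)) (tt N68803 (iv6 F363609)) (tt N82950 (iv7 F332544)))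
theorem Q66677 : ∀ i, i < 66677 → P i := stepQ 66676 Q66676 (allL N66676 (tt N52468 (iv1 F320365)) (tt N75245 F230867) (tt N87192 (iv2 F378654)) (tt N102963 (iv3 F439463)) (tt N36315 F204926) (tt N82950 F332543) (tt N51624 F332541) (tt N36312 (iv7 D127494)))
theorem Q66678 : ∀ i, i < 66678 → P i := stepQ 66677 Q66677 (allL N66677 (tt N46617 F319121) (tt N46613 F319122) (tt N41711 F204930) (tt N73356 (iv3 F338210)) (tt N102964 D206148) (tt N36313 (iv5 D127503)) (tt N36540 (iv6 F204929)) (tt N62377 F350185))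
theorem Q66679 : ∀ i, i < 66679 → P i := stepQ 66678 Q66678 (allL N66678 (tt N75622 F233827) (tt N41597 F233828) (tt N76125 (iv2 F236550)) (tt N36319 (iv3 D127529)) (tt N91170 (iv4 F392148)) (tt N76022 (iv5 F235779)) (tt N45250 F309821) (tt N36345 F233723))
theorem Q66680 : ∀ i, i < 66680 → P i := stepQ 66679 Q66679 (allL N66679 (tt N86998 (iv1 F378001)) (tt N52266 (iv0 F320029)) (tt N36343 F233724) (tt N102965 D206149) (tt N36319 (iv4 D127530)) (tt N84633 (iv5 F369938)) (tt N52213 (iv6 F352649)) (tt N36346 F233725))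
theorem Q66681 : ∀ i, i < 66681 → P i := stepQ 66680 Q66680 (allL N66680 (tt N42901 F204989) (tt N36492 (iv0 F204991)) (tt N36344 F233720) (tt N76022 (iv3 F235778)) (tt N102966 D206150) (tt N36319 (iv5 D127531)) (tt N42839 F204990) (tt N36347 F233721))
theorem Q66682 : ∀ i, i < 66682 → P i := stepQ 66681 Q66681 (allL N66681 (tt N52266 (iv1 F320030)) (tt N86998 F378000) (tt N36346 F233731) (tt N83855 F362113) (tt N36320 (iv4 D127534)) (tt N84637 (iv5 F369949)) (tt N83854 (iv6 F337130)) (tt N36343 F233732))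
theorem Q66683 : ∀ i, i < 66683 → P i := stepQ 66682 Q66682 (allL N66682 (tt N87465 (iv1 F379422)) (tt N41433 F243337) (tt N36348 F233735) (tt N83851 (iv3 F337129)) (tt N83854 F337127) (tt N65098 (iv5 F313326)) (tt N36320 (iv6 D127535)) (tt N52388 F356803))
theorem Q66684 : ∀ i, i < 66684 → P i := stepQ 66683 Q66683 (allL N66683 (tt N80459 (iv1 F348018)) (tt N36322 (iv0 D127536)) (tt N80461 F348008) (tt N41380 F348009) (tt N62924 F348010) (tt N95567 (iv5 F408690)) (tt N84230 F368614) (tt N41412 F348011))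
theorem Q66685 : ∀ i, i < 66685 → P i := stepQ 66684 Q66684 (allL N66684 (tt N36322 (iv1 D127537)) (tt N80459 F337288) (tt N41412 F348014) (tt N92578 (iv3 F397458)) (tt N62925 F348015) (tt N102967 D206151) (tt N102968 D206152) (tt N80461 F348016))
theorem Q66686 : ∀ i, i < 66686 → P i := stepQ 66685 Q66685 (allL N66685 (tt N47150 F337360) (tt N87026 F378081) (tt N87004 (iv2 F378022)) (tt N49308 (iv3 F323914)) (tt N42112 F205013) (tt N55520 (iv5 F358116)) (tt N36324 (iv6 D127546)) (tt N52287 F358392))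
theorem Q66687 : ∀ i, i < 66687 → P i := stepQ 66686 Q66686 (allL N66686 (tt N39915 F312810) (tt N40474 F328586) (tt N41432 F243165) (tt N74978 (iv3 F341079)) (tt N101774 (iv4 F434282)) (tt N36325 (iv5 D127554)) (tt N40453 F339614) (tt N78086 (iv7 F341076)))
theorem Q66688 : ∀ i, i < 66688 → P i := stepQ 66687 Q66687 (allL N66687 (tt N36348 F261825) (tt N52388 F345668) (tt N41433 F243157) (tt N92560 (iv3 F397377)) (tt N52563 F334508) (tt N75219 (iv5 F243151)) (tt N36325 (iv6 D127555)) (tt N87465 (iv7 F379423)))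
theorem Q66689 : ∀ i, i < 66689 → P i := stepQ 66688 Q66688 (allL N66688 (tt N52568 (iv1 F316659)) (tt N36327 (iv0 D127593)) (tt N52570 F347762) (tt N89903 F387925) (tt N43053 F347763) (tt N58486 F347764) (tt N93724 (iv6 F401678)) (tt N52569 F347765))
theorem Q66690 : ∀ i, i < 66690 → P i := stepQ 66689 Q66689 (allL N66689 (tt N36327 (iv1 D127594)) (tt N52568 (iv0 F316658)) (tt N52569 F347756) (tt N52557 (iv3 F347761)) (tt N64190 (iv4 F347755)) (tt N58485 (iv5 F347760)) (tt N64189 F347757) (tt N52570 F347758))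
theorem Q66691 : ∀ i, i < 66691 → P i := stepQ 66690 Q66690 (allL N66690 (tt N91297 (iv1 F392603)) (tt N91296 F392602) (tt N59693 F205070) (tt N71710 (iv3 F220402)) (tt N42090 F205071) (tt N55541 F340601) (tt N36328 (iv6 D127597)) (tt N55176 (iv7 F340603)))
theorem Q66692 : ∀ i, i < 66692 → P i := stepQ 66691 Q66691 (allL N66691 (tt N58243 F225649) (tt N87451 (iv0 F379368)) (tt N89883 (iv2 F387856)) (tt N36329 (iv3 D127606)) (tt N75042 F230162) (tt N71717 (iv5 F351020)) (tt N59758 F346320) (tt N87087 (iv7 F378329)))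
theorem Q66693 : ∀ i, i < 66693 → P i := stepQ 66692 Q66692 (allL N66692 (tt N87458 (iv1 F379399)) (tt N72734 (iv0 F223044)) (tt N59757 F205174) (tt N71717 (iv3 F351019)) (tt N79792 F346326) (tt N36329 (iv5 D127608)) (tt N81014 (iv6 F346325)) (tt N87088 (iv7 F378335)))
theorem Q66694 : ∀ i, i < 66694 → P i := stepQ 66693 Q66693 (allL N66693 (tt N58666 F205178) (tt N92557 F397362) (tt N36332 F205176) (tt N52561 F359864) (tt N58750 F205177) (tt N36331 (iv5 D127611)) (tt N102969 D206153) (tt N87455 (iv7 F379380)))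
theorem Q66695 : ∀ i, i < 66695 → P i := stepQ 66694 Q66694 (allL N66694 (tt N87094 F378358) (tt N102970 D206154) (tt N36333 F205179) (tt N52562 F363404) (tt N36362 F205180) (tt N87428 (iv5 F379308)) (tt N36331 (iv6 D127612)) (tt N102971 D206155))
theorem Q66696 : ∀ i, i < 66696 → P i := stepQ 66695 Q66695 (allL N66695 (tt N87455 (iv1 F379383)) (tt N36332 (iv0 D127613)) (tt N58666 (iv2 F205181)) (tt N58242 (iv3 F244985)) (tt N95110 (iv4 F407086)) (tt N73399 (iv5 F224601)) (tt N75396 F353239) (tt N92557 (iv7 F397363)))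
theorem Q66697 : ∀ i, i < 66697 → P i := stepQ 66696 Q66696 (allL N66696 (tt N91989 F395275) (tt N64075 F334005) (tt N102969 (iv2 F439494)) (tt N36336 F205182) (tt N94032 (iv4 F402897)) (tt N102972 D206156) (tt N36332 (iv6 D127614)) (tt N79347 F334006))
theorem Q66698 : ∀ i, i < 66698 → P i := stepQ 66697 Q66697 (allL N66697 (tt N102971 (iv1 F439511)) (tt N36333 (iv0 D127615)) (tt N87094 (iv2 F378356)) (tt N102973 D206157) (tt N87916 (iv4 F381104)) (tt N102974 D206158) (tt N52325 F378357) (tt N102970 (iv7 F439501)))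
theorem Q66699 : ∀ i, i < 66699 → P i := stepQ 66698 Q66698 (allL N66698 (tt N36333 (iv1 D127616)) (tt N102971 F439510) (tt N102970 (iv2 F439504)) (tt N83878 (iv3 F367339)) (tt N77551 F359292) (tt N102975 D206159) (tt N77550 (iv6 F353154)) (tt N87094 (iv7 F378355)))
theorem Q66700 : ∀ i, i < 66700 → P i := stepQ 66699 Q66699 (allL N66699 (tt N87084 (iv1 F378320)) (tt N102976 D206160) (tt N87428 (iv2 F379307)) (tt N36339 F205183) (tt N102977 D206161) (tt N36333 (iv5 D127617)) (tt N102972 (iv6 F439513)) (tt N87382 (iv7 F379179)))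
theorem Q66701 : ∀ i, i < 66701 → P i := stepQ 66700 Q66700 (allL N66700 (tt N102970 (iv1 F439500)) (tt N87094 (iv0 F378359)) (tt N102971 (iv2 F439505)) (tt N36340 F205184) (tt N36366 F205185) (tt N87382 (iv5 F379178)) (tt N75896 F353139) (tt N36333 (iv7 D127618)))
theorem Q66702 : ∀ i, i < 66702 → P i := stepQ 66701 Q66701 (allL N66701 (tt N96561 F413002) (tt N97380 (iv0 F416612)) (tt N94176 (iv2 F403552)) (tt N36335 (iv3 D127619)) (tt N94031 (iv4 F402892)) (tt N41944 F205186) (tt N46332 F334010) (tt N42046 F205187))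
theorem Q66703 : ∀ i, i < 66703 → P i := stepQ 66702 Q66702 (allL N66702 (tt N46331 F333996) (tt N36336 (iv0 D127621)) (tt N45907 F333997) (tt N79259 F333998) (tt N45906 F333999) (tt N49916 F358136) (tt N87028 (iv6 F378092)) (tt N79342 F334000))
theorem Q66704 : ∀ i, i < 66704 → P i := stepQ 66703 Q66703 (allL N66703 (tt N36336 (iv1 D127622)) (tt N46331 F334001) (tt N79342 F334002) (tt N58606 (iv3 F358144)) (tt N45889 F334003) (tt N49915 (iv5 F358127)) (tt N58604 F358123) (tt N45907 F334004))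
theorem Q66705 : ∀ i, i < 66705 → P i := stepQ 66704 Q66704 (allL N66704 (tt N102978 D206162) (tt N91916 F394950) (tt N79344 F334007) (tt N102972 (iv3 F439512)) (tt N88315 (iv4 F382556)) (tt N36336 (iv5 D127623)) (tt N36339 F205190) (tt N79348 F334008))
theorem Q66706 : ∀ i, i < 66706 → P i := stepQ 66705 Q66705 (allL N66705 (tt N91859 (iv1 F394745)) (tt N55254 (iv0 F359596)) (tt N42133 F205191) (tt N92558 (iv3 F397367)) (tt N42050 F205192) (tt N91551 (iv5 F393614)) (tt N36337 (iv6 D127625)) (tt N79349 (iv7 F364598)))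
theorem Q66707 : ∀ i, i < 66707 → P i := stepQ 66706 Q66706 (allL N66706 (tt N65938 F390765) (tt N102979 D206163) (tt N102980 D206164) (tt N36338 (iv3 D127628)) (tt N65843 (iv4 F342267)) (tt N102981 D206165) (tt N87475 (iv6 F379465)) (tt N75455 (iv7 F231540)))
theorem Q66708 : ∀ i, i < 66708 → P i := stepQ 66707 Q66707 (allL N66707 (tt N51923 F363490) (tt N51925 F363491) (tt N84631 F369930) (tt N102981 (iv3 F439539)) (tt N88065 (iv4 F381652)) (tt N36338 (iv5 D127629)) (tt N84591 F369796) (tt N75456 (iv7 F231542)))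
theorem Q66709 : ∀ i, i < 66709 → P i := stepQ 66708 Q66708 (allL N66708 (tt N52471 (iv1 F340394)) (tt N87221 F378803) (tt N87218 F378793) (tt N102982 D206166) (tt N36339 (iv4 D127633)) (tt N91333 (iv5 F392775)) (tt N88315 (iv6 F382557)) (tt N87217 F378785))
theorem Q66710 : ∀ i, i < 66710 → P i := stepQ 66709 Q66709 (allL N66709 (tt N52341 F341045) (tt N52600 (iv0 F334489)) (tt N52598 F334497) (tt N75896 F353138) (tt N36349 F205194) (tt N91473 (iv5 F393276)) (tt N36340 (iv6 D127635)) (tt N36341 F205195))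
theorem Q66711 : ∀ i, i < 66711 → P i := stepQ 66710 Q66710 (allL N66710 (tt N52598 (iv1 F334496)) (tt N36341 (iv0 D127636)) (tt N52600 (iv2 F334490)) (tt N97123 (iv3 F415551)) (tt N74698 (iv4 F324928)) (tt N55130 F334492) (tt N52612 (iv6 F334495)) (tt N52341 F334493))
theorem Q66712 : ∀ i, i < 66712 → P i := stepQ 66711 Q66711 (allL N66711 (tt N99867 (iv1 F426609)) (tt N36342 (iv0 D127645)) (tt N99924 F426840) (tt N36372 (iv3 F205208)) (tt N62971 F205206) (tt N36595 (iv5 F205207)) (tt N94456 (iv6 F404544)) (tt N41394 F205209))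
theorem Q66713 : ∀ i, i < 66713 → P i := stepQ 66712 Q66712 (allL N66712 (tt N100071 (iv1 F427433)) (tt N98379 (iv0 F420701)) (tt N99925 (iv2 F426843)) (tt N36344 F205210) (tt N100342 (iv4 F428496)) (tt N36342 (iv5 D127647)) (tt N102983 D206167) (tt N75775 F233874))
theorem Q66714 : ∀ i, i < 66714 → P i := stepQ 66713 Q66713 (allL N66713 (tt N36346 (iv1 F205218)) (tt N36343 (iv0 D127650)) (tt N86998 (iv2 F377996)) (tt N84204 (iv3 F368502)) (tt N42153 (iv4 F229477)) (tt N52469 F361128) (tt N84203 F368499) (tt N52266 (iv7 F320032)))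
theorem Q66715 : ∀ i, i < 66715 → P i := stepQ 66714 Q66714 (allL N66714 (tt N84209 (iv1 F368519)) (tt N84208 (iv0 F368518)) (tt N84211 (iv2 F368524)) (tt N36343 (iv3 D127651)) (tt N83858 (iv4 F362115)) (tt N102984 D206168) (tt N84240 (iv6 F368653)) (tt N83855 F362116))
theorem Q66716 : ∀ i, i < 66716 → P i := stepQ 66715 Q66715 (allL N66715 (tt N51819 F361095) (tt N51815 F361119) (tt N84633 (iv2 F369936)) (tt N102984 (iv3 F439548)) (tt N84590 (iv4 F369791)) (tt N36343 (iv5 D127652)) (tt N102985 D206169) (tt N84637 (iv7 F369948)))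
theorem Q66717 : ∀ i, i < 66717 → P i := stepQ 66716 Q66716 (allL N66716 (tt N36347 (iv1 F205222)) (tt N36344 (iv0 D127655)) (tt N42901 (iv2 F205220)) (tt N69664 (iv3 F334078)) (tt N102986 D206170) (tt N46604 F316754) (tt N66949 (iv6 F206208)) (tt N36492 F205221))
theorem Q66718 : ∀ i, i < 66718 → P i := stepQ 66717 Q66717 (allL N66717 (tt N102987 D206171) (tt N77031 F241463) (tt N102966 (iv2 F439480)) (tt N102988 D206172) (tt N36344 (iv4 D127656)) (tt N91332 (iv5 F392770)) (tt N37217 F309699) (tt N75777 F233883))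
theorem Q66719 : ∀ i, i < 66719 → P i := stepQ 66718 Q66718 (allL N66718 (tt N36452 F205223) (tt N42840 (iv0 F205225)) (tt N42839 F233718) (tt N102983 (iv3 F439542)) (tt N37217 F309698) (tt N42720 F205224) (tt N36344 (iv6 D127657)) (tt N42838 F233715))
theorem Q66720 : ∀ i, i < 66720 → P i := stepQ 66719 Q66719 (allL N66719 (tt N41597 F233829) (tt N75622 F233830) (tt N36345 (iv2 D127666)) (tt N99867 (iv3 F426605)) (tt N84484 (iv4 F369491)) (tt N102989 D206173) (tt N99743 F426015) (tt N76125 (iv7 F236555)))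
theorem Q66721 : ∀ i, i < 66721 → P i := stepQ 66720 Q66720 (allL N66720 (tt N41737 F232274) (tt N42285 (iv0 F205243)) (tt N84484 F369493) (tt N85175 (iv3 F371805)) (tt N36345 (iv4 D127667)) (tt N54799 (iv5 F360908)) (tt N98496 (iv6 F421125)) (tt N91170 (iv7 F392147)))
theorem Q66722 : ∀ i, i < 66722 → P i := stepQ 66721 Q66721 (allL N66721 (tt N63331 (iv1 F364490)) (tt N94473 (iv0 F404624)) (tt N102989 (iv2 F439570)) (tt N36347 F205272) (tt N72192 (iv4 F309728)) (tt N36345 (iv5 D127668)) (tt N42850 (iv6 F205273)) (tt N76022 (iv7 F235780)))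
theorem Q66723 : ∀ i, i < 66723 → P i := stepQ 66722 Q66722 (allL N66722 (tt N54964 F360235) (tt N41673 F360236) (tt N99743 (iv2 F426014)) (tt N36348 F205275) (tt N98496 (iv4 F421127)) (tt N91309 (iv5 F392654)) (tt N36345 (iv6 D127669)) (tt N76123 (iv7 F236539)))
theorem Q66724 : ∀ i, i < 66724 → P i := stepQ 66723 Q66723 (allL N66723 (tt N79945 F346185) (tt N102990 D206174) (tt N84207 (iv2 F368510)) (tt N36346 (iv3 D127670)) (tt N85175 (iv4 F371808)) (tt N102991 D206175) (tt N68118 (iv6 F359659)) (tt N102965 (iv7 F439477)))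
theorem Q66725 : ∀ i, i < 66725 → P i := stepQ 66724 Q66724 (allL N66724 (tt N51815 F364589) (tt N51819 F364591) (tt N84637 (iv2 F369947)) (tt N102991 (iv3 F439580)) (tt N84591 (iv4 F369795)) (tt N36346 (iv5 D127671)) (tt N88065 F381654) (tt N84633 (iv7 F369937)))
theorem Q66726 : ∀ i, i < 66726 → P i := stepQ 66725 Q66725 (allL N66725 (tt N84237 (iv1 F368636)) (tt N52224 F360233) (tt N83854 (iv2 F337128)) (tt N68118 F359658) (tt N36348 F205276) (tt N68109 (iv5 F346786)) (tt N36346 (iv6 D127672)) (tt N68108 (iv7 F346793)))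
theorem Q66727 : ∀ i, i < 66727 → P i := stepQ 66726 Q66726 (allL N66726 (tt N77031 F334067) (tt N102987 F439561) (tt N75777 (iv2 F233881)) (tt N81348 (iv3 F364597)) (tt N36347 (iv4 D127673)) (tt N101819 (iv5 F434499)) (tt N75765 (iv6 F233838)) (tt N102966 (iv7 F439482)))
theorem Q66728 : ∀ i, i < 66728 → P i := stepQ 66727 Q66727 (allL N66727 (tt N52388 (iv1 F345664)) (tt N36348 (iv0 D127674)) (tt N87465 F379426) (tt N36376 F243095) (tt N87122 (iv4 F378423)) (tt N41676 F243096) (tt N80474 (iv6 F341020)) (tt N41433 F243097))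
theorem Q66729 : ∀ i, i < 66729 → P i := stepQ 66728 Q66728 (allL N66728 (tt N94456 F404568) (tt N97941 (iv0 F418894)) (tt N99737 F425983) (tt N36350 (iv3 D127679)) (tt N99822 (iv4 F426389)) (tt N81707 F341009) (tt N102992 D206176) (tt N80467 (iv7 F364213)))
theorem Q66730 : ∀ i, i < 66730 → P i := stepQ 66729 Q66729 (allL N66729 (tt N84203 (iv1 F368500)) (tt N52269 F361891) (tt N87001 F378011) (tt N102993 D206177) (tt N36350 (iv4 D127680)) (tt N83158 F361888) (tt N87074 F378289) (tt N80470 (iv7 F364214)))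
theorem Q66731 : ∀ i, i < 66731 → P i := stepQ 66730 Q66730 (allL N66730 (tt N80462 (iv1 F341004)) (tt N80474 F341021) (tt N68570 F340997) (tt N102992 (iv3 F439584)) (tt N87074 (iv4 F378288)) (tt N66855 F205882) (tt N36350 (iv6 D127682)) (tt N52583 (iv7 F340996)))
theorem Q66732 : ∀ i, i < 66732 → P i := stepQ 66731 Q66731 (allL N66731 (tt N52269 F365227) (tt N84203 (iv0 F368498)) (tt N80470 (iv2 F350622)) (tt N102994 D206178) (tt N36351 (iv4 D127685)) (tt N83159 F350623) (tt N52216 F350621) (tt N87001 (iv7 F378013)))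
theorem Q66733 : ∀ i, i < 66733 → P i := stepQ 66732 Q66732 (allL N66732 (tt N77106 F350189) (tt N77108 (iv0 F241585)) (tt N102945 (iv2 F439370)) (tt N102995 D206179) (tt N36352 (iv4 D127690)) (tt N102996 D206180) (tt N36357 F205280) (tt N101851 (iv7 F434666)))
theorem Q66734 : ∀ i, i < 66734 → P i := stepQ 66733 Q66733 (allL N66733 (tt N77089 (iv1 F241562)) (tt N42876 (iv0 F205283)) (tt N36479 F205281) (tt N75809 (iv3 F234148)) (tt N78232 (iv4 F361911)) (tt N36434 F205282) (tt N36353 (iv6 D127691)) (tt N48567 F307170))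
theorem Q66735 : ∀ i, i < 66735 → P i := stepQ 66734 Q66734 (allL N66734 (tt N102997 D206181) (tt N66544 (iv0 F320647)) (tt N36627 F205284) (tt N98920 (iv3 F422788)) (tt N57074 F350032) (tt N42103 F205285) (tt N36355 (iv6 D127692)) (tt N102998 D206182))
theorem Q66736 : ∀ i, i < 66736 → P i := stepQ 66735 Q66735 (allL N66735 (tt N77784 F244954) (tt N102999 D206183) (tt N36625 F205286) (tt N42913 F205287) (tt N100131 (iv4 F427604)) (tt N37495 F205288) (tt N36356 (iv6 D127693)) (tt N103000 D206184))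
theorem Q66737 : ∀ i, i < 66737 → P i := stepQ 66736 Q66736 (allL N66736 (tt N85669 F373454) (tt N81123 (iv0 F347868)) (tt N103001 D206185) (tt N36357 (iv3 D127694)) (tt N36386 F205289) (tt N77126 (iv5 F241639)) (tt N102995 (iv6 F439597)) (tt N36630 F205290))
theorem Q66738 : ∀ i, i < 66738 → P i := stepQ 66737 Q66737 (allL N66737 (tt N36358 (iv1 D127695)) (tt N62542 F205291) (tt N62315 (iv2 F205293)) (tt N45324 F320936) (tt N42259 (iv4 F205294)) (tt N62080 F205292) (tt N80438 (iv6 F354092)) (tt N72807 (iv7 F223255)))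
theorem Q66739 : ∀ i, i < 66739 → P i := stepQ 66738 Q66738 (allL N66738 (tt N36361 (iv1 F205298)) (tt N36359 (iv0 D127697)) (tt N73804 (iv2 F225885)) (tt N52200 F353322) (tt N62451 F205297) (tt N59847 F205299) (tt N75899 (iv6 F346255)) (tt N73741 (iv7 F225645)))
theorem Q66740 : ∀ i, i < 66740 → P i := stepQ 66739 Q66739 (allL N66739 (tt N36359 (iv1 D127698)) (tt N36361 F205300) (tt N73741 (iv2 F225644)) (tt N86967 F377882) (tt N63021 (iv4 F205301)) (tt N59848 (iv5 F205302)) (tt N103002 D206186) (tt N73804 (iv7 F225887)))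
theorem Q66741 : ∀ i, i < 66741 → P i := stepQ 66740 Q66740 (allL N66740 (tt N73098 F223806) (tt N36360 (iv0 D127704)) (tt N62238 (iv2 F205307)) (tt N62321 (iv3 F320911)) (tt N41017 F205306) (tt N40790 F205305) (tt N103003 D206187) (tt N73152 (iv7 F223902)))
theorem Q66742 : ∀ i, i < 66742 → P i := stepQ 66741 Q66741 (allL N66741 (tt N62238 (iv1 F205311)) (tt N73152 F223904) (tt N36360 (iv2 D127705)) (tt N62542 F205309) (tt N73636 (iv4 F225297)) (tt N62222 F205310) (tt N75164 (iv6 F330012)) (tt N73098 (iv7 F223803)))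
theorem Q66743 : ∀ i, i < 66743 → P i := stepQ 66742 Q66742 (allL N66742 (tt N62481 F205312) (tt N62476 F205313) (tt N73636 F225298) (tt N95832 (iv3 F409854)) (tt N36360 (iv4 D127706)) (tt N94091 (iv5 F403158)) (tt N48977 F321609) (tt N62544 (iv7 F323318)))
theorem Q66744 : ∀ i, i < 66744 → P i := stepQ 66743 Q66743 (allL N66743 (tt N86996 (iv1 F377992)) (tt N52267 (iv0 F320033)) (tt N58496 F205315) (tt N36361 (iv3 D127708)) (tt N95832 (iv4 F409855)) (tt N58495 F205316) (tt N52183 (iv6 F354563)) (tt N58502 F354566))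
theorem Q66745 : ∀ i, i < 66745 → P i := stepQ 66744 Q66744 (allL N66744 (tt N36366 (iv1 F205321)) (tt N36362 (iv0 D127714)) (tt N36363 F363632) (tt N103004 D206188) (tt N103005 D206189) (tt N68557 F333726) (tt N75913 (iv6 F363631)) (tt N36364 F363633))
theorem Q66746 : ∀ i, i < 66746 → P i := stepQ 66745 Q66745 (allL N66745 (tt N37532 F318798) (tt N37551 F318799) (tt N36365 F205319) (tt N41450 F318800) (tt N77611 F344087) (tt N36362 (iv5 D127716)) (tt N63107 (iv6 F318004)) (tt N37549 F318801))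
theorem Q66747 : ∀ i, i < 66747 → P i := stepQ 66746 Q66746 (allL N66746 (tt N36364 (iv1 F205322)) (tt N36363 F205323) (tt N36366 F205320) (tt N46198 F317385) (tt N102971 (iv4 F439507)) (tt N37549 F317386) (tt N46197 F317387) (tt N36362 (iv7 D127717)))
theorem Q66748 : ∀ i, i < 66748 → P i := stepQ 66747 Q66747 (allL N66747 (tt N75665 F337680) (tt N80438 (iv0 F346188)) (tt N75402 (iv2 F344147)) (tt N36363 (iv3 D127719)) (tt N75392 F231433) (tt N52381 F340797) (tt N99753 (iv6 F426068)) (tt N75406 F344142))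
theorem Q66749 : ∀ i, i < 66749 → P i := stepQ 66748 Q66748 (allL N66748 (tt N79934 (iv1 F346187)) (tt N103002 F439636) (tt N103005 (iv2 F439644)) (tt N95617 F408917) (tt N36363 (iv4 D127720)) (tt N103006 D206190) (tt N99754 (iv6 F426071)) (tt N75902 F366434))
theorem Q66750 : ∀ i, i < 66750 → P i := stepQ 66749 Q66749 (allL N66749 (tt N68518 (iv1 F350899)) (tt N68556 (iv0 F333618)) (tt N68557 F333594) (tt N52381 F333595) (tt N47947 F333596) (tt N36363 (iv5 D127721)) (tt N42738 F333597) (tt N68499 F350900))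
theorem Q66751 : ∀ i, i < 66751 → P i := stepQ 66750 Q66750 (allL N66750 (tt N103003 F439640) (tt N75631 F383449) (tt N103007 D206191) (tt N36364 (iv3 D127724)) (tt N103008 D206192) (tt N52877 (iv5 F366435)) (tt N66924 F366431) (tt N103004 (iv7 F439642)))
theorem Q66752 : ∀ i, i < 66752 → P i := stepQ 66751 Q66751 (allL N66751 (tt N103002 F439635) (tt N79934 (iv0 F346184)) (tt N75902 (iv2 F366433)) (tt N103009 D206193) (tt N36364 (iv4 D127725)) (tt N103010 D206194) (tt N75852 F366432) (tt N103005 (iv7 F439645)))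
theorem Q66753 : ∀ i, i < 66753 → P i := stepQ 66752 Q66752 (allL N66752 (tt N36365 (iv1 D127729)) (tt N37549 F318852) (tt N37551 F318853) (tt N103011 D206195) (tt N79412 (iv4 F346977)) (tt N42594 F318854) (tt N37562 F318855) (tt N37532 F318856))
theorem Q66754 : ∀ i, i < 66754 → P i := stepQ 66753 Q66753 (allL N66753 (tt N69267 F334237) (tt N69293 F334238) (tt N69291 (iv2 F341891)) (tt N36367 (iv3 D127732)) (tt N68032 (iv4 F346965)) (tt N45888 F205328) (tt N73341 (iv6 F224421)) (tt N45887 F205329))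
theorem Q66755 : ∀ i, i < 66755 → P i := stepQ 66754 Q66754 (allL N66754 (tt N37084 F320187) (tt N37087 F320188) (tt N68952 (iv2 F321653)) (tt N47475 F320189) (tt N36368 (iv4 D127733)) (tt N36923 F320190) (tt N39953 F313280) (tt N41599 F205330))
theorem Q66756 : ∀ i, i < 66756 → P i := stepQ 66755 Q66755 (allL N66755 (tt N37951 F319978) (tt N36369 (iv0 D127734)) (tt N64231 (iv2 F321247)) (tt N103012 D206196) (tt N41700 F205335) (tt N37340 F319979) (tt N44410 F312202) (tt N41604 (iv7 F205336)))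
theorem Q66757 : ∀ i, i < 66757 → P i := stepQ 66756 Q66756 (allL N66756 (tt N75473 F231596) (tt N75315 F231597) (tt N46022 (iv2 F321739)) (tt N99814 (iv3 F426354)) (tt N36372 (iv4 D127738)) (tt N46012 F325814) (tt N94463 (iv6 F404564)) (tt N41397 F205347))
theorem Q66758 : ∀ i, i < 66758 → P i := stepQ 66757 Q66757 (allL N66757 (tt N41402 F233173) (tt N92585 F397498) (tt N36374 F205348) (tt N94105 (iv3 F403226)) (tt N36373 (iv4 D127739)) (tt N57401 F338537) (tt N61719 F363905) (tt N75691 (iv7 F315077)))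
theorem Q66759 : ∀ i, i < 66759 → P i := stepQ 66758 Q66758 (allL N66758 (tt N41652 (iv1 F205371)) (tt N41411 F205367) (tt N36375 F205349) (tt N41669 F205350) (tt N61719 (iv4 F338656)) (tt N43939 F313153) (tt N36373 (iv6 D127740)) (tt N64027 F205351))
theorem Q66760 : ∀ i, i < 66760 → P i := stepQ 66759 Q66759 (allL N66759 (tt N36374 (iv1 D127742)) (tt N75691 (iv0 F315073)) (tt N92585 F397497) (tt N61495 F346177) (tt N42168 (iv4 F205353)) (tt N61414 F338541) (tt N98276 (iv6 F420290)) (tt N41402 F232259))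
theorem Q66761 : ∀ i, i < 66761 → P i := stepQ 66760 Q66760 (allL N66760 (tt N64027 (iv1 F205362)) (tt N36375 (iv0 D127745)) (tt N41652 F264336) (tt N102947 (iv3 F439380)) (tt N85807 (iv4 F374041)) (tt N41624 (iv5 F205363)) (tt N85806 (iv6 F374038)) (tt N41411 F264337))
theorem Q66762 : ∀ i, i < 66762 → P i := stepQ 66761 Q66761 (allL N66761 (tt N36375 (iv1 D127746)) (tt N64027 F205355) (tt N41411 F264328) (tt N84230 F368612) (tt N63465 F339561) (tt N41625 F205356) (tt N41380 (iv6 F205357)) (tt N41652 F264329))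
theorem Q66763 : ∀ i, i < 66763 → P i := stepQ 66762 Q66762 (allL N66762 (tt N75006 (iv1 F230056)) (tt N64117 F349404) (tt N79625 (iv2 F313788)) (tt N41213 F318610) (tt N36378 (iv4 D127755)) (tt N65352 F205378) (tt N72239 F318611) (tt N41208 (iv7 F320748)))
theorem Q66764 : ∀ i, i < 66764 → P i := stepQ 66763 Q66763 (allL N66763 (tt N64117 (iv1 F349405)) (tt N75006 (iv0 F230055)) (tt N41208 F320921) (tt N102679 (iv3 F438174)) (tt N36381 (iv4 D127762)) (tt N65353 F205382) (tt N37032 F319958) (tt N79625 (iv7 F313792)))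
theorem Q66765 : ∀ i, i < 66765 → P i := stepQ 66764 Q66764 (allL N66764 (tt N103013 D206197) (tt N103014 D206198) (tt N103015 D206199) (tt N36385 (iv3 D127765)) (tt N102995 (iv4 F439596)) (tt N82589 (iv5 F282979)) (tt N36386 F205389) (tt N82180 (iv7 F279072)))
theorem Q66766 : ∀ i, i < 66766 → P i := stepQ 66765 Q66765 (allL N66765 (tt N36659 (iv1 F205390)) (tt N36386 (iv0 D127766)) (tt N36658 F346489) (tt N77526 F243422) (tt N103016 D206200) (tt N71487 (iv5 F362166)) (tt N101885 (iv6 F434816)) (tt N36657 F346491))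
theorem Q66767 : ∀ i, i < 66767 → P i := stepQ 66766 Q66766 (allL N66766 (tt N36386 (iv1 D127767)) (tt N36659 F205394) (tt N36657 F346493) (tt N57382 (iv3 F346510)) (tt N74213 F346507) (tt N71484 (iv5 F362174)) (tt N46958 F346495) (tt N36658 F346496))
theorem Q66768 : ∀ i, i < 66768 → P i := stepQ 66767 Q66767 (allL N66767 (tt N36658 (iv1 F205395)) (tt N36657 F205393) (tt N36386 (iv2 D127768)) (tt N67113 (iv3 F206669)) (tt N103001 (iv4 F439626)) (tt N44999 F205391) (tt N103015 (iv6 F439679)) (tt N36659 F205392))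
theorem Q66769 : ∀ i, i < 66769 → P i := stepQ 66768 Q66768 (allL N66768 (tt N40747 F321180) (tt N85546 F373026) (tt N85545 F373021) (tt N36388 F205404) (tt N103017 D206201) (tt N36387 (iv5 D127773)) (tt N103018 D206202) (tt N61179 F205405))
theorem Q66770 : ∀ i, i < 66770 → P i := stepQ 66769 Q66769 (allL N66769 (tt N42289 F359301) (tt N100018 F427225) (tt N85772 (iv2 F373870)) (tt N36389 F205406) (tt N76002 (iv4 F290488)) (tt N50014 (iv5 F205407)) (tt N36387 (iv6 D127774)) (tt N98083 (iv7 F419388)))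
theorem Q66771 : ∀ i, i < 66771 → P i := stepQ 66770 Q66770 (allL N66770 (tt N36391 (iv1 F205409)) (tt N36388 (iv0 D127775)) (tt N61175 (iv2 F205410)) (tt N103019 D206203) (tt N103020 D206204) (tt N45009 F205408) (tt N103021 D206205) (tt N61176 (iv7 F205411)))
theorem Q66772 : ∀ i, i < 66772 → P i := stepQ 66771 Q66771 (allL N66771 (tt N36388 (iv1 D127776)) (tt N36391 F205412) (tt N61176 (iv2 F205415)) (tt N76659 F354425) (tt N99349 (iv4 F424218)) (tt N46038 F205414) (tt N61203 F205416) (tt N61175 F205413))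
theorem Q66773 : ∀ i, i < 66773 → P i := stepQ 66772 Q66772 (allL N66772 (tt N73508 F339984) (tt N40370 F339985) (tt N61177 F205417) (tt N103022 D206206) (tt N36388 (iv4 D127777)) (tt N62337 (iv5 F331556)) (tt N65922 (iv6 F339931)) (tt N61181 F205418))
theorem Q66774 : ∀ i, i < 66774 → P i := stepQ 66773 Q66773 (allL N66773 (tt N50844 F205421) (tt N51060 (iv0 F205422)) (tt N51061 (iv2 F205463)) (tt N103018 (iv3 F439691)) (tt N65922 F339934) (tt N50015 F205420) (tt N36388 (iv6 D127778)) (tt N51062 (iv7 F205483)))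
theorem Q66775 : ∀ i, i < 66775 → P i := stepQ 66774 Q66774 (allL N66774 (tt N36389 (iv1 D127779)) (tt N50012 F205423) (tt N61178 F205426) (tt N76661 F239682) (tt N75701 (iv4 F233491)) (tt N61015 F205427) (tt N61121 (iv6 F205425)) (tt N45070 F205424))
theorem Q66776 : ∀ i, i < 66776 → P i := stepQ 66775 Q66775 (allL N66775 (tt N51630 (iv1 F259561)) (tt N51636 (iv0 F259558)) (tt N51634 (iv2 F359247)) (tt N61116 F205527) (tt N36390 (iv4 D127780)) (tt N96866 (iv5 F414348)) (tt N102872 (iv6 F439035)) (tt N51633 (iv7 F248558)))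
theorem Q66777 : ∀ i, i < 66777 → P i := stepQ 66776 Q66776 (allL N66776 (tt N103023 D206207) (tt N103024 D206208) (tt N92641 (iv2 F397724)) (tt N36391 F205529) (tt N103025 D206209) (tt N36390 (iv5 D127781)) (tt N78868 (iv6 F251165)) (tt N61173 F205530))
theorem Q66778 : ∀ i, i < 66778 → P i := stepQ 66777 Q66777 (allL N66777 (tt N90776 F390804) (tt N90768 (iv0 F390783)) (tt N92642 (iv2 F397726)) (tt N36392 F205531) (tt N102872 (iv4 F439034)) (tt N92843 (iv5 F398469)) (tt N36390 (iv6 D127782)) (tt N85771 (iv7 F373867)))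
theorem Q66779 : ∀ i, i < 66779 → P i := stepQ 66778 Q66778 (allL N66778 (tt N40370 F331562) (tt N73508 F331563) (tt N61181 F205532) (tt N103026 D206210) (tt N36391 (iv4 D127783)) (tt N62338 (iv5 F331553)) (tt N97994 (iv6 F419097)) (tt N61177 F205533))
theorem Q66780 : ∀ i, i < 66780 → P i := stepQ 66779 Q66779 (allL N66779 (tt N60750 (iv1 F375321)) (tt N55702 (iv0 F205535)) (tt N60747 F205534) (tt N78868 F251166) (tt N97994 (iv4 F419099)) (tt N92844 (iv5 F398476)) (tt N36391 (iv6 D127784)) (tt N60748 (iv7 F205536)))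
theorem Q66781 : ∀ i, i < 66781 → P i := stepQ 66780 Q66780 (allL N66780 (tt N45041 (iv1 F205541)) (tt N56275 F205542) (tt N61182 F205537) (tt N85771 (iv3 F373866)) (tt N61123 F205538) (tt N56198 F205539) (tt N50012 F205540) (tt N36392 (iv7 D127785)))
theorem Q66782 : ∀ i, i < 66782 → P i := stepQ 66781 Q66781 (allL N66781 (tt N40468 F325368) (tt N56296 F360950) (tt N73594 F325369) (tt N36393 (iv3 D127786)) (tt N103027 D206211) (tt N62382 F325370) (tt N103028 D206212) (tt N61186 F205543))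
theorem Q66783 : ∀ i, i < 66783 → P i := stepQ 66782 Q66782 (allL N66782 (tt N86680 F376780) (tt N103029 D206213) (tt N61185 F205544) (tt N103028 (iv3 F439733)) (tt N94774 (iv4 F405877)) (tt N56449 F205545) (tt N36393 (iv6 D127787)) (tt N93129 (iv7 F399609)))
theorem Q66784 : ∀ i, i < 66784 → P i := stepQ 66783 Q66783 (allL N66783 (tt N36667 F290515) (tt N61667 F290516) (tt N61666 F290517) (tt N36394 (iv3 D127788)) (tt N98646 (iv4 F421721)) (tt N61066 F205550) (tt N78848 F290518) (tt N61183 F205551))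
theorem Q66785 : ∀ i, i < 66785 → P i := stepQ 66784 Q66784 (allL N66784 (tt N78842 F251088) (tt N78845 F353126) (tt N61188 F205552) (tt N78848 F359296) (tt N92903 (iv4 F398715)) (tt N61070 F205553) (tt N36394 (iv6 D127789)) (tt N93717 (iv7 F401654)))
theorem Q66786 : ∀ i, i < 66786 → P i := stepQ 66785 Q66785 (allL N66785 (tt N61193 (iv1 F205557)) (tt N36395 (iv0 D127790)) (tt N61189 (iv2 F205555)) (tt N56779 F363663) (tt N44612 F205554) (tt N72923 (iv5 F339976)) (tt N103030 D206214) (tt N61190 (iv7 F205556)))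
theorem Q66787 : ∀ i, i < 66787 → P i := stepQ 66786 Q66786 (allL N66786 (tt N36395 (iv1 D127791)) (tt N61193 F205558) (tt N61190 (iv2 F205561)) (tt N90164 F388745) (tt N44613 F205560) (tt N73110 (iv5 F339974)) (tt N57062 F339968) (tt N61189 F205559))
theorem Q66788 : ∀ i, i < 66788 → P i := stepQ 66787 Q66787 (allL N66787 (tt N61190 (iv1 F205566)) (tt N61189 F205567) (tt N61193 F205564) (tt N62372 F340031) (tt N36396 F205565) (tt N62371 (iv5 F340032)) (tt N98253 (iv6 F420193)) (tt N36395 (iv7 D127794)))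
theorem Q66789 : ∀ i, i < 66789 → P i := stepQ 66788 Q66788 (allL N66788 (tt N61227 (iv1 F205571)) (tt N61226 F205572) (tt N61194 F205568) (tt N76677 (iv3 F239699)) (tt N98253 (iv4 F420191)) (tt N60204 F205569) (tt N36396 (iv6 D127795)) (tt N36409 F205570))
theorem Q66790 : ∀ i, i < 66790 → P i := stepQ 66789 Q66789 (allL N66789 (tt N45172 F205576) (tt N36403 (iv0 F205577)) (tt N56298 F205573) (tt N56102 F205574) (tt N86739 (iv4 F377041)) (tt N36397 (iv5 D127796)) (tt N88454 (iv6 F383114)) (tt N56098 F205575))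
theorem Q66791 : ∀ i, i < 66791 → P i := stepQ 66790 Q66790 (allL N66790 (tt N56267 (iv1 F205579)) (tt N36398 (iv0 D127797)) (tt N56317 (iv2 F205580)) (tt N57448 (iv3 F205581)) (tt N103031 D206215) (tt N56627 F205578) (tt N103032 D206216) (tt N56318 (iv7 F205582)))
theorem Q66792 : ∀ i, i < 66792 → P i := stepQ 66791 Q66791 (allL N66791 (tt N36398 (iv1 D127798)) (tt N56267 F205583) (tt N56318 F205586) (tt N63341 F205587) (tt N103033 D206217) (tt N56632 (iv5 F205585)) (tt N103034 D206218) (tt N56317 F205584))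
theorem Q66793 : ∀ i, i < 66793 → P i := stepQ 66792 Q66792 (allL N66792 (tt N98440 (iv1 F420927)) (tt N103035 D206219) (tt N56319 F205588) (tt N103036 D206220) (tt N36398 (iv4 D127799)) (tt N103037 D206221) (tt N103038 D206222) (tt N61198 F205589))
theorem Q66794 : ∀ i, i < 66794 → P i := stepQ 66793 Q66793 (allL N66793 (tt N103039 D206223) (tt N80146 (iv0 F261822)) (tt N56316 F205590) (tt N36400 F205591) (tt N103038 (iv4 F439780)) (tt N56286 F205592) (tt N36398 (iv6 D127800)) (tt N103040 D206224))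
theorem Q66795 : ∀ i, i < 66795 → P i := stepQ 66794 Q66794 (allL N66794 (tt N85248 F372041) (tt N103041 D206225) (tt N103042 D206226) (tt N36399 (iv3 D127801)) (tt N103036 (iv4 F439775)) (tt N61323 F205593) (tt N103043 D206227) (tt N61200 F205594))
theorem Q66796 : ∀ i, i < 66796 → P i := stepQ 66795 Q66795 (allL N66795 (tt N56385 F339916) (tt N57060 F339917) (tt N57059 (iv2 F339920)) (tt N103043 (iv3 F439808)) (tt N36400 F205596) (tt N44454 F339918) (tt N36399 (iv6 D127802)) (tt N57058 F339919))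
theorem Q66797 : ∀ i, i < 66797 → P i := stepQ 66796 Q66796 (allL N66796 (tt N36400 (iv1 D127804)) (tt N61197 F205599) (tt N61196 F360288) (tt N76685 F372356) (tt N59161 (iv4 F360289)) (tt N97122 (iv5 F415545)) (tt N103044 D206228) (tt N59160 F339915))
theorem Q66798 : ∀ i, i < 66798 → P i := stepQ 66797 Q66797 (allL N66797 (tt N61196 (iv1 F205604)) (tt N59160 (iv0 F350595)) (tt N61197 F205600) (tt N103040 (iv3 F439790)) (tt N57058 (iv4 F350591)) (tt N61085 F205601) (tt N61204 F205602) (tt N36400 (iv7 D127805)))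
theorem Q66799 : ∀ i, i < 66799 → P i := stepQ 66798 Q66798 (allL N66798 (tt N84849 F370839) (tt N85309 F387669) (tt N85308 F372228) (tt N36401 (iv3 D127806)) (tt N78875 (iv4 F251170)) (tt N53814 (iv5 F365259)) (tt N94759 F405835) (tt N61195 F205607))
theorem Q66800 : ∀ i, i < 66800 → P i := stepQ 66799 Q66799 (allL N66799 (tt N61204 (iv1 F205615)) (tt N36402 (iv0 D127808)) (tt N61202 F205618) (tt N70739 F354428) (tt N76237 (iv4 F400769)) (tt N70738 (iv5 F354429)) (tt N103045 D206229) (tt N61203 F205617))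
theorem Q66801 : ∀ i, i < 66801 → P i := stepQ 66800 Q66800 (allL N66800 (tt N36402 (iv1 D127809)) (tt N61204 F205610) (tt N61203 F205612) (tt N96613 (iv3 F413178)) (tt N76238 (iv4 F406849)) (tt N98062 (iv5 F419322)) (tt N61176 (iv6 F205611)) (tt N61202 (iv7 F205619)))
theorem Q66802 : ∀ i, i < 66802 → P i := stepQ 66801 Q66801 (allL N66801 (tt N61203 (iv1 F205616)) (tt N61202 F205620) (tt N61204 F205613) (tt N78862 (iv3 F251159)) (tt N94747 F405798) (tt N92623 (iv5 F397669)) (tt N61197 F205614) (tt N36402 (iv7 D127810)))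
theorem Q66803 : ∀ i, i < 66803 → P i := stepQ 66802 Q66802 (allL N66802 (tt N56298 (iv1 F205625)) (tt N56098 F205624) (tt N36403 (iv2 D127811)) (tt N36665 F205621) (tt N50693 (iv4 F356660)) (tt N45173 F205622) (tt N50692 F356656) (tt N45172 F205623))
theorem Q66804 : ∀ i, i < 66804 → P i := stepQ 66803 Q66803 (allL N66803 (tt N98432 (iv1 F420905)) (tt N92803 (iv0 F398298)) (tt N50693 F356703) (tt N82262 F356704) (tt N36403 (iv4 D127812)) (tt N49165 F356705) (tt N48726 F356706) (tt N61212 F205626))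
theorem Q66805 : ∀ i, i < 66805 → P i := stepQ 66804 Q66804 (allL N66804 (tt N61211 (iv1 F205633)) (tt N36404 (iv0 D127814)) (tt N61209 F350583) (tt N86184 F428038) (tt N96013 (iv4 F410634)) (tt N103046 D206230) (tt N78845 F251091) (tt N61210 (iv7 F350584)))
theorem Q66806 : ∀ i, i < 66806 → P i := stepQ 66805 Q66805 (allL N66805 (tt N36404 (iv1 D127815)) (tt N61211 F205628) (tt N61210 (iv2 F350586)) (tt N76700 (iv3 F439832)) (tt N103047 D206232) (tt N103048 D206233) (tt N97818 (iv6 F420107)) (tt N61209 F350585))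
theorem Q66807 : ∀ i, i < 66807 → P i := stepQ 66806 Q66806 (allL N66806 (tt N78855 F251130) (tt N98588 F421470) (tt N61206 F205629) (tt N50692 (iv3 F356659)) (tt N98630 (iv4 F421652)) (tt N36404 (iv5 D127816)) (tt N36665 F205630) (tt N83560 F356719))
theorem Q66808 : ∀ i, i < 66808 → P i := stepQ 66807 Q66807 (allL N66807 (tt N61210 (iv1 F205634)) (tt N61209 F205635) (tt N61211 F205631) (tt N50687 (iv3 F356721)) (tt N93900 (iv4 F402343)) (tt N83560 F356718) (tt N61217 F205632) (tt N36404 (iv7 D127817)))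
theorem Q66809 : ∀ i, i < 66809 → P i := stepQ 66808 Q66808 (allL N66808 (tt N61217 (iv1 F205637)) (tt N36405 (iv0 D127818)) (tt N61215 (iv2 F205636)) (tt N76706 (iv3 F239755)) (tt N56861 (iv4 F339946)) (tt N74194 (iv5 F345177)) (tt N103049 D206234) (tt N61216 F205638))
theorem Q66810 : ∀ i, i < 66810 → P i := stepQ 66809 Q66809 (allL N66809 (tt N96013 F410635) (tt N103047 F439835) (tt N61218 F205641) (tt N85276 (iv3 F372138)) (tt N44616 F205642) (tt N103050 D206235) (tt N36406 (iv6 D127820)) (tt N93566 (iv7 F401160)))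
theorem Q66811 : ∀ i, i < 66811 → P i := stepQ 66810 Q66810 (allL N66810 (tt N98250 F420178) (tt N36408 (iv0 D127823)) (tt N98251 (iv2 F420182)) (tt N57780 F370502) (tt N91732 (iv4 F394232)) (tt N94716 F405648) (tt N94719 (iv6 F405654)) (tt N83266 (iv7 F370510)))
theorem Q66812 : ∀ i, i < 66812 → P i := stepQ 66811 Q66811 (allL N66811 (tt N36408 (iv1 D127824)) (tt N98250 (iv0 F420177)) (tt N83266 F358489) (tt N103051 D206236) (tt N48891 F358490) (tt N103052 D206237) (tt N48890 F358491) (tt N98251 (iv7 F420180)))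
theorem Q66813 : ∀ i, i < 66813 → P i := stepQ 66812 Q66812 (allL N66812 (tt N98251 (iv1 F420179)) (tt N83266 (iv0 F358528)) (tt N36408 (iv2 D127825)) (tt N61221 F205646) (tt N76715 (iv4 F239762)) (tt N98246 (iv5 F420137)) (tt N62375 (iv6 F340011)) (tt N98250 (iv7 F420176)))
theorem Q66814 : ∀ i, i < 66814 → P i := stepQ 66813 Q66813 (allL N66813 (tt N61194 (iv1 F205647)) (tt N36409 (iv0 D127826)) (tt N61226 F395865) (tt N103053 D206238) (tt N98343 (iv4 F420564)) (tt N103054 D206239) (tt N92124 (iv6 F395864)) (tt N61227 (iv7 F395866)))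
theorem Q66815 : ∀ i, i < 66815 → P i := stepQ 66814 Q66814 (allL N66814 (tt N36409 (iv1 D127827)) (tt N61194 F205648) (tt N61227 (iv2 F395868)) (tt N61659 (iv3 F399597)) (tt N94770 (iv4 F405853)) (tt N103055 D206240) (tt N94769 F405855) (tt N61226 F395867))
theorem Q66816 : ∀ i, i < 66816 → P i := stepQ 66815 Q66815 (allL N66815 (tt N36411 (iv1 D127830)) (tt N61234 F205653) (tt N61233 (iv2 F205655)) (tt N98485 F421089) (tt N92906 (iv4 F398724)) (tt N68117 F335531) (tt N103056 D206241) (tt N61232 F205654))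
theorem Q66817 : ∀ i, i < 66817 → P i := stepQ 66816 Q66816 (allL N66816 (tt N61233 (iv1 F205659)) (tt N61232 F205660) (tt N61234 F205657) (tt N76186 (iv3 F237335)) (tt N59158 (iv4 F352668)) (tt N90780 F390814) (tt N61239 F205658) (tt N36411 (iv7 D127831)))
theorem Q66818 : ∀ i, i < 66818 → P i := stepQ 66817 Q66817 (allL N66817 (tt N52386 F305607) (tt N68594 F211095) (tt N36454 F205671) (tt N64367 F305608) (tt N36416 (iv4 D127838)) (tt N80760 (iv5 F350141)) (tt N36417 F205672) (tt N68593 (iv7 F211089)))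
theorem Q66819 : ∀ i, i < 66819 → P i := stepQ 66818 Q66818 (allL N66818 (tt N103057 D206242) (tt N80456 F351943) (tt N80433 (iv2 F341995)) (tt N36417 (iv3 D127839)) (tt N57457 F205673) (tt N48131 F312113) (tt N64367 F341994) (tt N44523 F205674))
theorem Q66820 : ∀ i, i < 66820 → P i := stepQ 66819 Q66819 (allL N66819 (tt N36419 (iv1 D127841)) (tt N42777 F205679) (tt N42776 (iv2 F233755)) (tt N42851 F205681) (tt N38373 F310803) (tt N103058 D206243) (tt N76023 (iv6 F235782)) (tt N42775 (iv7 F233752)))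
theorem Q66821 : ∀ i, i < 66821 → P i := stepQ 66820 Q66820 (allL N66820 (tt N75779 F233902) (tt N74419 (iv0 F227856)) (tt N41628 F205682) (tt N74437 (iv3 F227905)) (tt N58949 (iv4 F336968)) (tt N36419 (iv5 D127842)) (tt N41627 F205683) (tt N103059 D206244))
theorem Q66822 : ∀ i, i < 66822 → P i := stepQ 66821 Q66821 (allL N66821 (tt N42776 (iv1 F205689)) (tt N42775 F205691) (tt N42777 F205686) (tt N75807 (iv3 F234138)) (tt N36961 F315085) (tt N103059 (iv5 F439896)) (tt N75815 (iv6 F234184)) (tt N36419 (iv7 D127843)))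
theorem Q66823 : ∀ i, i < 66823 → P i := stepQ 66822 Q66822 (allL N66822 (tt N76023 (iv1 F243886)) (tt N102983 (iv0 F439546)) (tt N95843 (iv2 F409904)) (tt N42757 F205706) (tt N59996 (iv4 F315491)) (tt N43967 F205708) (tt N36420 (iv6 D127845)) (tt N63101 (iv7 F205709)))
theorem Q66824 : ∀ i, i < 66824 → P i := stepQ 66823 Q66823 (allL N66823 (tt N69673 (iv1 F310794)) (tt N75819 F239708) (tt N42807 F205717) (tt N80289 (iv3 F344468)) (tt N63442 F205718) (tt N78124 (iv5 F312527)) (tt N36421 (iv6 D127848)) (tt N78214 F332249))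
theorem Q66825 : ∀ i, i < 66825 → P i := stepQ 66824 Q66824 (allL N66824 (tt N103060 D206245) (tt N101181 (iv0 F432085)) (tt N94134 (iv2 F403372)) (tt N37532 F205723) (tt N94124 (iv4 F403322)) (tt N42588 F205724) (tt N36424 (iv6 D127853)) (tt N103011 (iv7 F439662)))
theorem Q66826 : ∀ i, i < 66826 → P i := stepQ 66825 Q66825 (allL N66825 (tt N46599 F341990) (tt N82555 (iv0 F341998)) (tt N37556 F205730) (tt N82220 F342001) (tt N53112 F342000) (tt N82220 F341991) (tt N36426 (iv6 D127855)) (tt N82531 (iv7 F342013)))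
theorem Q66827 : ∀ i, i < 66827 → P i := stepQ 66826 Q66826 (allL N66826 (tt N103061 D206246) (tt N103062 D206247) (tt N98354 (iv2 F420617)) (tt N37564 F205731) (tt N53736 (iv4 F311798)) (tt N41636 F205733) (tt N36427 (iv6 D127856)) (tt N103063 D206248))
theorem Q66828 : ∀ i, i < 66828 → P i := stepQ 66827 Q66827 (allL N66827 (tt N54136 (iv1 F309064)) (tt N57479 F215548) (tt N37585 F205734) (tt N75814 (iv3 F234179)) (tt N63454 F205735) (tt N42760 F205736) (tt N36428 (iv6 D127857)) (tt N87924 (iv7 F381152)))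
theorem Q66829 : ∀ i, i < 66829 → P i := stepQ 66828 Q66828 (allL N66828 (tt N53570 F339024) (tt N83170 (iv0 F351945)) (tt N57459 F205740) (tt N36462 F205741) (tt N69568 (iv4 F214905)) (tt N98381 (iv5 F420709)) (tt N36430 (iv6 D127860)) (tt N78318 (iv7 F248071)))
theorem Q66830 : ∀ i, i < 66830 → P i := stepQ 66829 Q66829 (allL N66829 (tt N36433 (iv1 D127862)) (tt N42859 F205746) (tt N42858 (iv2 F234050)) (tt N42762 F205748) (tt N43453 F205747) (tt N68418 (iv5 F210341)) (tt N94472 (iv6 F404615)) (tt N42857 (iv7 F234055)))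
theorem Q66831 : ∀ i, i < 66831 → P i := stepQ 66830 Q66830 (allL N66830 (tt N42858 (iv1 F205752)) (tt N42857 F205753) (tt N42859 F205750) (tt N76006 (iv3 F235549)) (tt N76896 (iv4 F240481)) (tt N54140 (iv5 F309047)) (tt N76008 (iv6 F235619)) (tt N36433 (iv7 D127863)))
theorem Q66832 : ∀ i, i < 66832 → P i := stepQ 66831 Q66831 (allL N66831 (tt N37863 F330739) (tt N94123 (iv0 F403318)) (tt N45421 F205776) (tt N36436 F205777) (tt N75791 (iv4 F233951)) (tt N80196 (iv5 F330744)) (tt N36435 (iv6 D127868)) (tt N80195 F330740))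
theorem Q66833 : ∀ i, i < 66833 → P i := stepQ 66832 Q66832 (allL N66832 (tt N36436 (iv1 D127869)) (tt N42816 F205778) (tt N42814 F205781) (tt N70528 F351957) (tt N42725 (iv4 F205780)) (tt N103064 D206249) (tt N80366 F264132) (tt N42813 F205779))
theorem Q66834 : ∀ i, i < 66834 → P i := stepQ 66833 Q66833 (allL N66833 (tt N80939 (iv1 F341697)) (tt N67015 (iv0 F206364)) (tt N42815 F205782) (tt N80196 F341685) (tt N60488 (iv4 F358952)) (tt N36436 (iv5 D127870)) (tt N60486 (iv6 F341686)) (tt N80193 (iv7 F341687)))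
theorem Q66835 : ∀ i, i < 66835 → P i := stepQ 66834 Q66834 (allL N66834 (tt N42814 (iv1 F205785)) (tt N42813 F205786) (tt N42816 F205783) (tt N80195 F330745) (tt N36438 F205784) (tt N80193 F341690) (tt N75764 (iv6 F233710)) (tt N36436 (iv7 D127871)))
theorem Q66836 : ∀ i, i < 66836 → P i := stepQ 66835 Q66835 (allL N66835 (tt N36441 F205791) (tt N69333 (iv0 F308405)) (tt N42818 F234245) (tt N70102 F353098) (tt N36437 (iv4 D127878)) (tt N79546 F311611) (tt N69676 (iv6 F311949)) (tt N37212 F309726))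
theorem Q66837 : ∀ i, i < 66837 → P i := stepQ 66836 Q66836 (allL N66836 (tt N47331 (iv1 F205794)) (tt N36439 (iv0 D127880)) (tt N46810 (iv2 F205793)) (tt N63223 (iv3 F305813)) (tt N46392 F205792) (tt N80430 (iv5 F267386)) (tt N79758 F341646) (tt N75387 (iv7 F303570)))
theorem Q66838 : ∀ i, i < 66838 → P i := stepQ 66837 Q66837 (allL N66837 (tt N37640 F341900) (tt N69303 (iv0 F341902)) (tt N69302 (iv2 F351970)) (tt N36441 F205797) (tt N43305 F205798) (tt N75284 F341901) (tt N36439 (iv6 D127882)) (tt N69301 F351971))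
theorem Q66839 : ∀ i, i < 66839 → P i := stepQ 66838 Q66838 (allL N66838 (tt N47334 F340247) (tt N67050 (iv0 F206413)) (tt N45748 F318828) (tt N75284 (iv3 F341899)) (tt N79537 (iv4 F341684)) (tt N36441 (iv5 D127885)) (tt N60475 F341898) (tt N82018 F318829))
theorem Q66840 : ∀ i, i < 66840 → P i := stepQ 66839 Q66839 (allL N66839 (tt N42818 (iv1 F206093)) (tt N37212 F309724) (tt N69333 (iv2 F308406)) (tt N69301 (iv3 F351972)) (tt N43303 F205800) (tt N82018 F334038) (tt N75776 F233880) (tt N36441 (iv7 D127886)))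
theorem Q66841 : ∀ i, i < 66841 → P i := stepQ 66840 Q66840 (allL N66840 (tt N41321 F340249) (tt N47396 F340250) (tt N75197 F340251) (tt N41852 F340254) (tt N42440 F340252) (tt N36443 (iv5 D127891)) (tt N41850 F340255) (tt N75196 F340253))
theorem Q66842 : ∀ i, i < 66842 → P i := stepQ 66841 Q66841 (allL N66841 (tt N70096 (iv1 F317699)) (tt N75765 (iv0 F233840)) (tt N75776 F233877) (tt N69334 (iv3 F308403)) (tt N43413 F205807) (tt N75196 (iv5 F340256)) (tt N69333 (iv6 F308407)) (tt N36443 (iv7 D127892)))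
theorem Q66843 : ∀ i, i < 66843 → P i := stepQ 66842 Q66842 (allL N66842 (tt N78588 (iv1 F307597)) (tt N78587 F305569) (tt N76539 (iv2 F239272)) (tt N36451 F205812) (tt N44775 F205813) (tt N55436 (iv5 F335311)) (tt N36445 (iv6 D127898)) (tt N43191 F305570))
theorem Q66844 : ∀ i, i < 66844 → P i := stepQ 66843 Q66843 (allL N66843 (tt N43775 F342769) (tt N38054 F342770) (tt N67926 (iv2 F342773)) (tt N67997 F342771) (tt N65172 F205814) (tt N68947 F342772) (tt N36446 (iv6 D127899)) (tt N101696 (iv7 F433915)))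
theorem Q66845 : ∀ i, i < 66845 → P i := stepQ 66844 Q66844 (allL N66844 (tt N101216 F432246) (tt N91379 (iv0 F392921)) (tt N76908 (iv2 F240700)) (tt N74747 F338173) (tt N65174 F205817) (tt N100021 (iv5 F427236)) (tt N36447 (iv6 D127901)) (tt N101237 (iv7 F432349)))
theorem Q66846 : ∀ i, i < 66846 → P i := stepQ 66845 Q66845 (allL N66845 (tt N81043 F342713) (tt N36448 (iv0 D127902)) (tt N77051 (iv2 F348669)) (tt N99789 (iv3 F426220)) (tt N76960 F348690) (tt N103065 D206250) (tt N78715 F339311) (tt N77054 (iv7 F348691)))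
theorem Q66847 : ∀ i, i < 66847 → P i := stepQ 66846 Q66846 (allL N66846 (tt N36448 (iv1 D127903)) (tt N81043 F342726) (tt N77054 F356779) (tt N45545 F339314) (tt N76961 (iv4 F342728)) (tt N79374 F339315) (tt N79794 F356780) (tt N77051 (iv7 F348673)))
theorem Q66848 : ∀ i, i < 66848 → P i := stepQ 66847 Q66847 (allL N66847 (tt N77054 F356776) (tt N77051 (iv0 F348667)) (tt N81043 F342714) (tt N44022 F309747) (tt N43765 F205819) (tt N44021 F309748) (tt N55545 (iv6 F342716)) (tt N36448 (iv7 D127905)))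
theorem Q66849 : ∀ i, i < 66849 → P i := stepQ 66848 Q66848 (allL N66848 (tt N42839 (iv1 F205832)) (tt N42838 F205833) (tt N42840 F205829) (tt N66957 (iv3 F206251)) (tt N88491 (iv4 F383261)) (tt N43704 F205830) (tt N69672 (iv6 F310790)) (tt N36452 (iv7 D127921)))
theorem Q66850 : ∀ i, i < 66850 → P i := stepQ 66849 Q66849 (allL N66849 (tt N77033 F241478) (tt N77035 (iv0 F241490)) (tt N36494 F205860) (tt N90367 (iv3 F389432)) (tt N36456 (iv4 D127928)) (tt N90383 (iv5 F389463)) (tt N36463 F205861) (tt N80383 (iv7 F264246)))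
theorem Q66851 : ∀ i, i < 66851 → P i := stepQ 66850 Q66850 (allL N66850 (tt N46652 (iv1 F311838)) (tt N44583 (iv0 F205867)) (tt N37497 F205862) (tt N37454 F205863) (tt N36458 F205864) (tt N64053 F205865) (tt N36457 (iv6 D127929)) (tt N37450 F205866))
theorem Q66852 : ∀ i, i < 66852 → P i := stepQ 66851 Q66851 (allL N66851 (tt N37500 (iv1 F205872)) (tt N36458 (iv0 D127930)) (tt N37498 F234103) (tt N69650 (iv3 F215401)) (tt N66852 (iv4 F212342)) (tt N63065 (iv5 F317794)) (tt N76140 (iv6 F236808)) (tt N37499 F234104))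
theorem Q66853 : ∀ i, i < 66853 → P i := stepQ 66852 Q66852 (allL N66852 (tt N36458 (iv1 D127931)) (tt N37500 F205868) (tt N37499 F234105) (tt N101181 (iv3 F432081)) (tt N66851 F212342) (tt N62240 (iv5 F317799)) (tt N62374 (iv6 F344017)) (tt N37498 F234106))
theorem Q66854 : ∀ i, i < 66854 → P i := stepQ 66853 Q66853 (allL N66853 (tt N41536 F323805) (tt N78323 F248110) (tt N37617 F205879) (tt N40212 F315783) (tt N36460 F205880) (tt N62561 F315784) (tt N36459 (iv6 D127935)) (tt N78314 (iv7 F247986)))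
theorem Q66855 : ∀ i, i < 66855 → P i := stepQ 66854 Q66854 (allL N66854 (tt N37620 (iv1 F205884)) (tt N36460 (iv0 D127936)) (tt N37618 F340986) (tt N57481 (iv3 F338077)) (tt N100655 (iv4 F429865)) (tt N46618 F319723) (tt N69682 F340963) (tt N37619 F340987))
theorem Q66856 : ∀ i, i < 66856 → P i := stepQ 66855 Q66855 (allL N66855 (tt N36460 (iv1 D127937)) (tt N37620 F205881) (tt N37619 F340990) (tt N103062 F439911) (tt N68571 (iv4 F340992)) (tt N66730 (iv5 F205882)) (tt N68569 F341022) (tt N37618 F340991))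
theorem Q66857 : ∀ i, i < 66857 → P i := stepQ 66856 Q66856 (allL N66856 (tt N37619 (iv1 F205885)) (tt N37618 F205886) (tt N37620 F205883) (tt N69659 (iv3 F215477)) (tt N78314 (iv4 F247985)) (tt N47708 F317063) (tt N54140 (iv6 F309048)) (tt N36460 (iv7 D127938)))
theorem Q66858 : ∀ i, i < 66858 → P i := stepQ 66857 Q66857 (allL N66857 (tt N36461 (iv1 D127941)) (tt N48462 F307944) (tt N40031 F210479) (tt N42697 F309164) (tt N76091 F309165) (tt N40025 (iv5 F210478)) (tt N57705 F210482) (tt N48466 F307945))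
theorem Q66859 : ∀ i, i < 66859 → P i := stepQ 66858 Q66858 (allL N66858 (tt N53971 (iv1 F365477)) (tt N53972 (iv0 F365475)) (tt N53970 F365235) (tt N36463 (iv3 D127948)) (tt N55162 (iv4 F365236)) (tt N103066 D206251) (tt N90367 (iv6 F389434)) (tt N53969 F365239))
theorem Q66860 : ∀ i, i < 66860 → P i := stepQ 66859 Q66859 (allL N66859 (tt N43408 F205902) (tt N42201 F205903) (tt N36502 F205900) (tt N103066 (iv3 F439931)) (tt N93894 (iv4 F402317)) (tt N36463 (iv5 D127949)) (tt N103067 D206252) (tt N43896 F205901))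
theorem Q66861 : ∀ i, i < 66861 → P i := stepQ 66860 Q66860 (allL N66860 (tt N76510 F386971) (tt N100324 (iv0 F428427)) (tt N78820 (iv2 F251010)) (tt N63013 (iv3 F314116)) (tt N103068 D206253) (tt N36466 (iv5 D127955)) (tt N36467 F205913) (tt N75528 F366613))
theorem Q66862 : ∀ i, i < 66862 → P i := stepQ 66861 Q66861 (allL N66861 (tt N63316 F205914) (tt N63318 F205915) (tt N78819 (iv2 F251009)) (tt N83382 F362823) (tt N36467 (iv4 D127957)) (tt N103069 D206254) (tt N103068 (iv6 F439937)) (tt N78814 (iv7 F250989)))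
theorem Q66863 : ∀ i, i < 66863 → P i := stepQ 66862 Q66862 (allL N66862 (tt N42852 F205917) (tt N36468 (iv0 D127958)) (tt N42850 F233760) (tt N42775 F205916) (tt N43083 (iv4 F233076)) (tt N51995 F337012) (tt N102989 (iv6 F439573)) (tt N42851 (iv7 F233754)))
theorem Q66864 : ∀ i, i < 66864 → P i := stepQ 66863 Q66863 (allL N66863 (tt N42851 (iv1 F205923)) (tt N42850 F205924) (tt N42852 F205921) (tt N76008 (iv3 F235616)) (tt N48076 F307770) (tt N74407 (iv5 F227796)) (tt N76006 (iv6 F235552)) (tt N36468 (iv7 D127960)))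
theorem Q66865 : ∀ i, i < 66865 → P i := stepQ 66864 Q66864 (allL N66864 (tt N61375 F300969) (tt N61374 F300970) (tt N46479 (iv2 F303433)) (tt N36470 F205930) (tt N36485 F205931) (tt N53365 (iv5 F346749)) (tt N36469 (iv6 D127962)) (tt N42497 F300971))
theorem Q66866 : ∀ i, i < 66866 → P i := stepQ 66865 Q66865 (allL N66865 (tt N73886 F342511) (tt N40754 F322958) (tt N39779 F322431) (tt N66557 F322432) (tt N39773 F322433) (tt N36471 (iv5 D127964)) (tt N39765 F322434) (tt N63330 F334865))
theorem Q66867 : ∀ i, i < 66867 → P i := stepQ 66866 Q66866 (allL N66866 (tt N76007 (iv1 F264310)) (tt N76442 (iv0 F308652)) (tt N42865 F205933) (tt N77060 (iv3 F241535)) (tt N44002 F307736) (tt N75977 F235052) (tt N36471 (iv6 D127965)) (tt N75629 F307737))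
theorem Q66868 : ∀ i, i < 66868 → P i := stepQ 66867 Q66867 (allL N66867 (tt N40754 F322959) (tt N73886 F342522) (tt N63330 F334863) (tt N40758 F322439) (tt N39784 F322436) (tt N36472 (iv5 D127966)) (tt N66551 F322437) (tt N39779 F322438))
theorem Q66869 : ∀ i, i < 66869 → P i := stepQ 66868 Q66868 (allL N66868 (tt N76022 F235781) (tt N102989 (iv0 F439575)) (tt N63331 F307187) (tt N40213 F316505) (tt N40969 F316965) (tt N67054 (iv5 F244279)) (tt N36472 (iv6 D127967)) (tt N94473 (iv7 F404623)))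
theorem Q66870 : ∀ i, i < 66870 → P i := stepQ 66869 Q66869 (allL N66869 (tt N48505 F205947) (tt N62328 (iv0 F348036)) (tt N42882 F205944) (tt N73151 (iv3 F320769)) (tt N63362 F205945) (tt N42921 F205946) (tt N36475 (iv6 D127971)) (tt N62312 (iv7 F348042)))
theorem Q66871 : ∀ i, i < 66871 → P i := stepQ 66870 Q66870 (allL N66870 (tt N72386 F366120) (tt N100181 (iv0 F427878)) (tt N78821 (iv2 F251014)) (tt N48833 F352726) (tt N103070 D206255) (tt N36476 (iv5 D127973)) (tt N48818 F352727) (tt N78816 (iv7 F250994)))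
theorem Q66872 : ∀ i, i < 66872 → P i := stepQ 66871 Q66871 (allL N66871 (tt N66564 (iv1 F321313)) (tt N66563 (iv0 F350096)) (tt N42867 F205954) (tt N63330 (iv3 F334866)) (tt N101790 (iv4 F434355)) (tt N36478 (iv5 D127976)) (tt N102997 (iv6 F439601)) (tt N66557 (iv7 F321589)))
theorem Q66873 : ∀ i, i < 66873 → P i := stepQ 66872 Q66872 (allL N66872 (tt N76029 (iv1 F237042)) (tt N76011 F237041) (tt N42868 F205955) (tt N63331 (iv3 F335022)) (tt N75470 (iv4 F237043)) (tt N77374 (iv5 F242478)) (tt N36478 (iv6 D127977)) (tt N83302 (iv7 F338002)))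
theorem Q66874 : ∀ i, i < 66874 → P i := stepQ 66873 Q66873 (allL N66873 (tt N36479 (iv1 D127979)) (tt N48567 F307172) (tt N42876 F241565) (tt N78822 F251023) (tt N76971 F241566) (tt N77266 (iv5 F242184)) (tt N48148 F241567) (tt N77089 F241568))
theorem Q66875 : ∀ i, i < 66875 → P i := stepQ 66874 Q66874 (allL N66874 (tt N43401 F205958) (tt N43569 F205957) (tt N78232 F361909) (tt N103071 D206256) (tt N36479 (iv4 D127980)) (tt N73769 (iv5 F350093)) (tt N36481 F205956) (tt N78233 (iv7 F361908)))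
theorem Q66876 : ∀ i, i < 66876 → P i := stepQ 66875 Q66875 (allL N66875 (tt N90032 (iv1 F388353)) (tt N86352 (iv0 F375898)) (tt N89068 (iv2 F385034)) (tt N36481 (iv3 D127983)) (tt N72821 (iv4 F323743)) (tt N90157 F388721) (tt N103071 (iv6 F439949)) (tt N89067 (iv7 F385032)))
theorem Q66877 : ∀ i, i < 66877 → P i := stepQ 66876 Q66876 (allL N66876 (tt N42934 F205967) (tt N43577 F205968) (tt N93893 (iv2 F402308)) (tt N90157 (iv3 F388720)) (tt N43896 F205966) (tt N36481 (iv5 D127984)) (tt N61220 F363661) (tt N93894 (iv7 F402318)))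
theorem Q66878 : ∀ i, i < 66878 → P i := stepQ 66877 Q66877 (allL N66877 (tt N46077 F205972) (tt N52490 F205973) (tt N63252 (iv2 F298160)) (tt N48977 F205970) (tt N52183 F205971) (tt N36482 (iv5 D127985)) (tt N95832 (iv6 F409857)) (tt N59984 (iv7 F323305)))
theorem Q66879 : ∀ i, i < 66879 → P i := stepQ 66878 Q66878 (allL N66878 (tt N78590 (iv1 F350692)) (tt N78586 (iv0 F350690)) (tt N76878 (iv2 F350691)) (tt N36488 F205982) (tt N100738 (iv4 F430237)) (tt N36485 (iv5 D127990)) (tt N84136 (iv6 F368260)) (tt N63853 F350693))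
theorem Q66880 : ∀ i, i < 66880 → P i := stepQ 66879 Q66879 (allL N66879 (tt N69676 F314367) (tt N37214 F314368) (tt N69675 (iv2 F313046)) (tt N37228 F311474) (tt N44438 F311475) (tt N66943 F206195) (tt N36486 (iv6 D127998)) (tt N69336 F311476))
theorem Q66881 : ∀ i, i < 66881 → P i := stepQ 66880 Q66880 (allL N66880 (tt N79758 (iv1 F354003)) (tt N78543 (iv0 F353879)) (tt N78579 (iv2 F353998)) (tt N36487 (iv3 D127999)) (tt N43342 F205989) (tt N80041 F353999) (tt N103072 D206257) (tt N77029 (iv7 F241421)))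
theorem Q66882 : ∀ i, i < 66882 → P i := stepQ 66881 Q66881 (allL N66881 (tt N75195 (iv1 F336615)) (tt N79530 F323393) (tt N48254 F323394) (tt N80041 (iv3 F354040)) (tt N103073 D206258) (tt N36487 (iv5 D128000)) (tt N79661 (iv6 F351996)) (tt N77030 (iv7 F241423)))
theorem Q66883 : ∀ i, i < 66883 → P i := stepQ 66882 Q66882 (allL N66882 (tt N102966 (iv1 F439484)) (tt N75777 F233884) (tt N77031 (iv2 F241461)) (tt N103072 (iv3 F439950)) (tt N43341 F205990) (tt N67047 (iv5 F206410)) (tt N36487 (iv6 D128001)) (tt N102987 (iv7 F439562)))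
theorem Q66884 : ∀ i, i < 66884 → P i := stepQ 66883 Q66883 (allL N66883 (tt N36488 (iv1 D128003)) (tt N45671 F333984) (tt N45674 F333985) (tt N79753 F333986) (tt N87014 (iv4 F378042)) (tt N68012 (iv5 F330128)) (tt N79331 F333987) (tt N45672 F333988))
theorem Q66885 : ∀ i, i < 66885 → P i := stepQ 66884 Q66884 (allL N66884 (tt N45674 F340265) (tt N45672 F340266) (tt N45671 F333989) (tt N63853 (iv3 F340276)) (tt N87030 (iv4 F378108)) (tt N36489 F205991) (tt N81302 F340267) (tt N36488 (iv7 D128005)))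
theorem Q66886 : ∀ i, i < 66886 → P i := stepQ 66885 Q66885 (allL N66885 (tt N75458 (iv1 F231555)) (tt N75771 F233865) (tt N42899 F205994) (tt N88510 (iv3 F383330)) (tt N36492 F205995) (tt N67012 (iv5 F206361)) (tt N36490 (iv6 D128008)) (tt N102986 (iv7 F439554)))
theorem Q66887 : ∀ i, i < 66887 → P i := stepQ 66886 Q66886 (allL N66886 (tt N40695 (iv1 F321312)) (tt N40694 (iv0 F321311)) (tt N40697 F319315) (tt N103074 D206259) (tt N36491 (iv4 D128009)) (tt N103075 D206260) (tt N77505 F330610) (tt N40689 F319316))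
theorem Q66888 : ∀ i, i < 66888 → P i := stepQ 66887 Q66887 (allL N66887 (tt N43541 F205998) (tt N77485 F242880) (tt N42904 F205997) (tt N86262 (iv3 F375620)) (tt N36493 (iv4 D128010)) (tt N103076 D206261) (tt N44304 F312932) (tt N77483 (iv7 F242874)))
theorem Q66889 : ∀ i, i < 66889 → P i := stepQ 66888 Q66888 (allL N66888 (tt N80383 (iv1 F264247)) (tt N36494 (iv0 D128012)) (tt N77033 (iv2 F241475)) (tt N103077 D206262) (tt N43870 F206000) (tt N103078 D206263) (tt N73116 F350060) (tt N77035 (iv7 F241489)))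
theorem Q66890 : ∀ i, i < 66890 → P i := stepQ 66889 Q66889 (allL N66889 (tt N36494 (iv1 D128013)) (tt N80383 (iv0 F264248)) (tt N77035 (iv2 F241487)) (tt N101604 (iv3 F436688)) (tt N43349 F206001) (tt N101603 F436687) (tt N72223 (iv6 F366662)) (tt N77033 (iv7 F241476)))
theorem Q66891 : ∀ i, i < 66891 → P i := stepQ 66890 Q66890 (allL N66890 (tt N41074 F320343) (tt N99615 F425433) (tt N78319 (iv2 F248074)) (tt N78818 (iv3 F251004)) (tt N90208 (iv4 F388900)) (tt N69643 (iv5 F215315)) (tt N36495 (iv6 D128017)) (tt N36504 F206004))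
theorem Q66892 : ∀ i, i < 66892 → P i := stepQ 66891 Q66891 (allL N66891 (tt N75501 (iv1 F237582)) (tt N75503 (iv0 F237577)) (tt N42919 F206009) (tt N86153 (iv3 F375229)) (tt N36497 F206010) (tt N103079 D206264) (tt N36496 (iv6 D128020)) (tt N78136 (iv7 F353410)))
theorem Q66893 : ∀ i, i < 66893 → P i := stepQ 66892 Q66892 (allL N66892 (tt N62211 (iv1 F357017)) (tt N103080 D206265) (tt N103081 D206266) (tt N36499 (iv3 D128030)) (tt N42886 F206033) (tt N103082 D206267) (tt N73068 (iv6 F342419)) (tt N72942 (iv7 F354208)))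
theorem Q66894 : ∀ i, i < 66894 → P i := stepQ 66893 Q66893 (allL N66893 (tt N75520 (iv1 F231723)) (tt N75522 (iv0 F231727)) (tt N77038 (iv2 F241497)) (tt N103082 (iv3 F439994)) (tt N76976 (iv4 F241271)) (tt N36499 (iv5 D128031)) (tt N103083 D206268) (tt N76003 (iv7 F235495)))
theorem Q66895 : ∀ i, i < 66895 → P i := stepQ 66894 Q66894 (allL N66894 (tt N72226 (iv1 F353391)) (tt N73148 F353390) (tt N73170 (iv2 F320491)) (tt N73068 F342417) (tt N41562 F318467) (tt N103084 D206269) (tt N36499 (iv6 D128032)) (tt N41561 F318468))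
theorem Q66896 : ∀ i, i < 66896 → P i := stepQ 66895 Q66895 (allL N66895 (tt N53967 F365476) (tt N89549 F388283) (tt N89548 F386747) (tt N36500 (iv3 D128033)) (tt N43370 F206035) (tt N96546 F412934) (tt N73107 (iv6 F366160)) (tt N77037 (iv7 F241496)))
theorem Q66897 : ∀ i, i < 66897 → P i := stepQ 66896 Q66896 (allL N66896 (tt N75522 (iv1 F231728)) (tt N75520 (iv0 F231722)) (tt N76003 (iv2 F235494)) (tt N96546 F412932) (tt N76975 (iv4 F241262)) (tt N36500 (iv5 D128034)) (tt N101467 (iv6 F433044)) (tt N77038 (iv7 F241499)))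
theorem Q66898 : ∀ i, i < 66898 → P i := stepQ 66897 Q66897 (allL N66897 (tt N90284 (iv1 F389231)) (tt N36501 (iv0 D128036)) (tt N90384 (iv2 F389467)) (tt N89566 F389468) (tt N91739 (iv4 F394267)) (tt N103085 D206270) (tt N103086 D206271) (tt N90385 (iv7 F389470)))
theorem Q66899 : ∀ i, i < 66899 → P i := stepQ 66898 Q66898 (allL N66898 (tt N36501 (iv1 D128037)) (tt N90284 F389230) (tt N90385 F389471) (tt N57866 F352723) (tt N66275 F352724) (tt N103087 D206272) (tt N57865 (iv6 F352722)) (tt N90384 F389466))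
theorem Q66900 : ∀ i, i < 66900 → P i := stepQ 66899 Q66899 (allL N66899 (tt N85244 F372031) (tt N85243 (iv0 F372028)) (tt N90386 (iv2 F389473)) (tt N36502 F206037) (tt N61219 (iv4 F206038)) (tt N36501 (iv5 D128039)) (tt N91772 (iv6 F394365)) (tt N103088 D206273))
theorem Q66901 : ∀ i, i < 66901 → P i := stepQ 66900 Q66900 (allL N66900 (tt N90385 (iv1 F389469)) (tt N90384 F389465) (tt N90284 (iv2 F389224)) (tt N36503 F206039) (tt N78349 (iv4 F346615)) (tt N103088 (iv5 F440016)) (tt N78348 F360585) (tt N36501 (iv7 D128040)))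
theorem Q66902 : ∀ i, i < 66902 → P i := stepQ 66901 Q66901 (allL N66901 (tt N36502 (iv1 D128041)) (tt N43896 F206040) (tt N42201 (iv2 F206043)) (tt N95698 (iv3 F409188)) (tt N36631 (iv4 F206044)) (tt N41950 F206042) (tt N95696 (iv6 F409177)) (tt N43408 F206041))
theorem Q66903 : ∀ i, i < 66903 → P i := stepQ 66902 Q66902 (allL N66902 (tt N43577 F206046) (tt N42934 F206047) (tt N93894 (iv2 F402316)) (tt N100830 (iv3 F430678)) (tt N36502 (iv4 D128042)) (tt N36622 F206045) (tt N100829 (iv6 F430674)) (tt N93893 (iv7 F402310)))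
theorem Q66904 : ∀ i, i < 66904 → P i := stepQ 66903 Q66903 (allL N66903 (tt N103089 D206274) (tt N103090 D206275) (tt N103067 (iv2 F439935)) (tt N91772 (iv3 F394364)) (tt N100829 (iv4 F430676)) (tt N91769 (iv5 F394361)) (tt N36502 (iv6 D128043)) (tt N91772 (iv7 F394366)))
theorem Q66905 : ∀ i, i < 66905 → P i := stepQ 66904 Q66904 (allL N66904 (tt N42201 (iv1 F206050)) (tt N43408 F206051) (tt N43896 F206048) (tt N103088 (iv3 F440014)) (tt N93893 (iv4 F402311)) (tt N36503 F206049) (tt N103088 (iv6 F440017)) (tt N36502 (iv7 D128044)))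
theorem Q66906 : ∀ i, i < 66906 → P i := stepQ 66905 Q66905 (allL N66905 (tt N79615 F360583) (tt N90282 F389215) (tt N90283 (iv2 F389217)) (tt N78348 (iv3 F360584)) (tt N36504 F206052) (tt N78348 (iv5 F248361)) (tt N36503 (iv6 D128045)) (tt N90208 (iv7 F388902)))
theorem Q66907 : ∀ i, i < 66907 → P i := stepQ 66906 Q66906 (allL N66906 (tt N36504 (iv1 D128047)) (tt N78319 F248077) (tt N41074 F320344) (tt N72773 F360569) (tt N77471 (iv4 F248078)) (tt N73577 (iv5 F350150)) (tt N62229 (iv6 F350163)) (tt N99615 (iv7 F425431)))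
theorem Q66908 : ∀ i, i < 66908 → P i := stepQ 66907 Q66907 (allL N66907 (tt N63771 F339299) (tt N103091 D206276) (tt N36536 F206059) (tt N63513 F345604) (tt N83284 F345607) (tt N36507 (iv5 D128050)) (tt N65301 F339306) (tt N63609 (iv7 F306338)))
theorem Q66909 : ∀ i, i < 66909 → P i := stepQ 66908 Q66908 (allL N66908 (tt N61444 F206062) (tt N76553 F339353) (tt N36541 F206060) (tt N84249 F368685) (tt N36508 (iv4 D128051)) (tt N85190 (iv5 F371842)) (tt N42419 F206061) (tt N73597 (iv7 F320170)))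
theorem Q66910 : ∀ i, i < 66910 → P i := stepQ 66909 Q66909 (allL N66909 (tt N38071 F333400) (tt N38083 F333401) (tt N36554 F206063) (tt N89738 (iv3 F387371)) (tt N47184 F332027) (tt N36509 (iv5 D128052)) (tt N89737 F387369) (tt N38082 F311881))
theorem Q66911 : ∀ i, i < 66911 → P i := stepQ 66910 Q66910 (allL N66910 (tt N37073 (iv1 F308091)) (tt N47038 (iv0 F206065)) (tt N45594 F306123) (tt N36511 (iv3 D128053)) (tt N37502 F307779) (tt N41609 F306222) (tt N45531 F310825) (tt N67609 (iv7 F307893)))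
theorem Q66912 : ∀ i, i < 66912 → P i := stepQ 66911 Q66911 (allL N66911 (tt N45437 F206066) (tt N63938 F206067) (tt N78332 F248332) (tt N41609 F306220) (tt N76309 (iv4 F238159)) (tt N36511 (iv5 D128054)) (tt N78707 F306221) (tt N78331 F248326))
theorem Q66913 : ∀ i, i < 66913 → P i := stepQ 66912 Q66912 (allL N66912 (tt N63938 F206069) (tt N45437 F206070) (tt N78331 F248325) (tt N51973 F206068) (tt N76310 F238166) (tt N36512 (iv5 D128056)) (tt N63837 F342216) (tt N78332 (iv7 F248328)))
theorem Q66914 : ∀ i, i < 66914 → P i := stepQ 66913 Q66913 (allL N66913 (tt N77281 F332065) (tt N47048 F332066) (tt N63861 (iv2 F314480)) (tt N63841 F307776) (tt N43986 F307777) (tt N63431 (iv5 F311320)) (tt N36512 (iv6 D128057)) (tt N63864 (iv7 F332079)))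
theorem Q66915 : ∀ i, i < 66915 → P i := stepQ 66914 Q66914 (allL N66914 (tt N46932 F300863) (tt N36513 (iv0 D128058)) (tt N47208 F300864) (tt N45590 F300865) (tt N99991 (iv4 F427083)) (tt N77707 F350663) (tt N47109 F300866) (tt N45587 F300867))
theorem Q66916 : ∀ i, i < 66916 → P i := stepQ 66915 Q66915 (allL N66915 (tt N63640 (iv1 F341162)) (tt N97418 (iv0 F416814)) (tt N47209 F300869) (tt N36515 F206071) (tt N99246 (iv4 F423835)) (tt N36513 (iv5 D128060)) (tt N60097 F360256) (tt N103092 D206277))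
theorem Q66917 : ∀ i, i < 66917 → P i := stepQ 66916 Q66916 (allL N66916 (tt N45587 F300870) (tt N47208 F300871) (tt N46932 F300872) (tt N36516 F206072) (tt N87698 F380169) (tt N103092 (iv5 F440029)) (tt N37121 F312122) (tt N36513 (iv7 D128061)))
theorem Q66918 : ∀ i, i < 66918 → P i := stepQ 66917 Q66917 (allL N66917 (tt N77414 (iv1 F242578)) (tt N47220 F305713) (tt N36587 F206075) (tt N101019 (iv3 F431300)) (tt N87386 (iv4 F379198)) (tt N36514 (iv5 D128063)) (tt N103093 D206278) (tt N36584 F206076))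
theorem Q66919 : ∀ i, i < 66919 → P i := stepQ 66918 Q66918 (allL N66918 (tt N36591 (iv1 F206082)) (tt N36515 (iv0 D128065)) (tt N36588 F231556) (tt N80649 (iv3 F354138)) (tt N89243 (iv4 F385755)) (tt N75458 (iv5 F231554)) (tt N80648 F354127) (tt N36589 F231557))
theorem Q66920 : ∀ i, i < 66920 → P i := stepQ 66919 Q66919 (allL N66919 (tt N36515 (iv1 D128066)) (tt N36591 F206078) (tt N36589 F231558) (tt N38167 F354113) (tt N38184 F354114) (tt N75771 (iv5 F233863)) (tt N38165 F354115) (tt N36588 F231559))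
theorem Q66921 : ∀ i, i < 66921 → P i := stepQ 66920 Q66920 (allL N66920 (tt N84638 (iv1 F369954)) (tt N84634 F369946) (tt N36590 F206079) (tt N103094 D206279) (tt N36515 (iv4 D128067)) (tt N87217 (iv5 F378782)) (tt N101234 (iv6 F432336)) (tt N91333 (iv7 F392779)))
theorem Q66922 : ∀ i, i < 66922 → P i := stepQ 66921 Q66921 (allL N66921 (tt N36589 (iv1 F206083)) (tt N36588 F206084) (tt N36591 F206080) (tt N103092 (iv3 F440027)) (tt N91333 (iv4 F392776)) (tt N36516 F206081) (tt N70925 F347132) (tt N36515 (iv7 D128068)))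
theorem Q66923 : ∀ i, i < 66923 → P i := stepQ 66922 Q66922 (allL N66922 (tt N81237 (iv1 F366392)) (tt N91355 (iv0 F392852)) (tt N36600 F206102) (tt N63582 F364909) (tt N91353 (iv4 F392839)) (tt N36518 (iv5 D128073)) (tt N79555 F348420) (tt N36609 F206103))
theorem Q66924 : ∀ i, i < 66924 → P i := stepQ 66923 Q66923 (allL N66923 (tt N91355 F392853) (tt N81237 (iv0 F366391)) (tt N36609 F206122) (tt N76733 (iv3 F364912)) (tt N87220 (iv4 F378797)) (tt N36519 (iv5 D128079)) (tt N76730 F364915) (tt N36600 F206123))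
theorem Q66925 : ∀ i, i < 66925 → P i := stepQ 66924 Q66924 (allL N66924 (tt N103095 D206280) (tt N80142 F278148) (tt N82048 (iv2 F278135)) (tt N42524 F206136) (tt N99602 (iv4 F425361)) (tt N36521 (iv5 D128083)) (tt N66750 (iv6 F366431)) (tt N42561 F206137))
theorem Q66926 : ∀ i, i < 66926 → P i := stepQ 66925 Q66925 (allL N66925 (tt N42480 F206146) (tt N42550 (iv0 F206147)) (tt N42525 F206143) (tt N36522 (iv3 D128085)) (tt N63691 F206144) (tt N103096 D206281) (tt N82120 (iv6 F278726)) (tt N42551 F206145))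
theorem Q66927 : ∀ i, i < 66927 → P i := stepQ 66926 Q66926 (allL N66926 (tt N80142 F261795) (tt N103095 F440042) (tt N42561 F206148) (tt N103096 (iv3 F440047)) (tt N99603 F425369) (tt N36522 (iv5 D128086)) (tt N103097 D206282) (tt N82048 (iv7 F278137)))
theorem Q66928 : ∀ i, i < 66928 → P i := stepQ 66927 Q66927 (allL N66927 (tt N80148 (iv1 F274097)) (tt N47398 (iv0 F273260)) (tt N42562 F206149) (tt N82120 (iv3 F278725)) (tt N36957 F318029) (tt N103098 D206283) (tt N36522 (iv6 D128087)) (tt N67822 F318030))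
theorem Q66929 : ∀ i, i < 66929 → P i := stepQ 66928 Q66928 (allL N66928 (tt N100383 (iv1 F428719)) (tt N36523 (iv0 D128088)) (tt N82062 (iv2 F278230)) (tt N42527 (iv3 F206152)) (tt N63547 F206151) (tt N103099 D206284) (tt N70101 F331678) (tt N42573 F206153))
theorem Q66930 : ∀ i, i < 66930 → P i := stepQ 66929 Q66929 (allL N66929 (tt N36523 (iv1 D128089)) (tt N100383 F428718) (tt N42573 F278235) (tt N103100 D206285) (tt N63548 F278236) (tt N100335 (iv5 F428465)) (tt N73564 (iv6 F346399)) (tt N82062 F278237))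
theorem Q66931 : ∀ i, i < 66931 → P i := stepQ 66930 Q66930 (allL N66930 (tt N43942 F206161) (tt N47977 F206160) (tt N82004 F331706) (tt N61268 F206158) (tt N36523 (iv4 D128090)) (tt N65138 (iv5 F330645)) (tt N45291 F206159) (tt N82007 (iv7 F337710)))
theorem Q66932 : ∀ i, i < 66932 → P i := stepQ 66931 Q66931 (allL N66931 (tt N42573 (iv1 F206164)) (tt N82062 F278234) (tt N100383 (iv2 F428713)) (tt N36542 F206162) (tt N82007 F337709) (tt N36524 F206163) (tt N100484 (iv6 F429112)) (tt N36523 (iv7 D128091)))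
theorem Q66933 : ∀ i, i < 66933 → P i := stepQ 66932 Q66932 (allL N66932 (tt N63593 (iv1 F206169)) (tt N36525 (iv0 D128092)) (tt N46830 (iv2 F206168)) (tt N48418 F206167) (tt N45565 F206166) (tt N42094 F302486) (tt N68026 (iv6 F343503)) (tt N76905 (iv7 F240691)))
theorem Q66934 : ∀ i, i < 66934 → P i := stepQ 66933 Q66933 (allL N66933 (tt N38035 F312939) (tt N38052 F312940) (tt N36920 F312941) (tt N36526 F206170) (tt N43190 F206171) (tt N36919 F312942) (tt N36525 (iv6 D128093)) (tt N38049 F312943))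
theorem Q66935 : ∀ i, i < 66935 → P i := stepQ 66934 Q66934 (allL N66934 (tt N91332 (iv1 F392773)) (tt N101819 (iv0 F434500)) (tt N76909 (iv2 F240702)) (tt N80302 (iv3 F354107)) (tt N69453 F354111) (tt N36528 (iv5 D128096)) (tt N100021 (iv6 F427237)) (tt N81236 F354112))
theorem Q66936 : ∀ i, i < 66936 → P i := stepQ 66935 Q66935 (allL N66935 (tt N63619 (iv1 F304140)) (tt N63584 (iv0 F314816)) (tt N63509 F331923) (tt N36537 F206177) (tt N47348 F206178) (tt N78254 F345596) (tt N79509 (iv6 F257000)) (tt N36530 (iv7 D128101)))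
theorem Q66937 : ∀ i, i < 66937 → P i := stepQ 66936 Q66936 (allL N66936 (tt N42094 F305623) (tt N41933 (iv0 F206181)) (tt N42114 (iv2 F305678)) (tt N36531 (iv3 D128102)) (tt N87461 (iv4 F379403)) (tt N43434 F206179) (tt N42106 F305624) (tt N42042 (iv7 F305675)))
theorem Q66938 : ∀ i, i < 66938 → P i := stepQ 66937 Q66937 (allL N66937 (tt N75020 F312500) (tt N75019 F312501) (tt N44595 F312502) (tt N42106 F314966) (tt N43465 F206183) (tt N75014 F312503) (tt N36531 (iv6 D128103)) (tt N42102 (iv7 F317174)))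
theorem Q66939 : ∀ i, i < 66939 → P i := stepQ 66938 Q66938 (allL N66938 (tt N41616 F307298) (tt N41613 F307299) (tt N42110 F308227) (tt N36532 (iv3 D128104)) (tt N44598 F307300) (tt N42723 F206184) (tt N42108 (iv6 F310236)) (tt N44596 F307302))
theorem Q66940 : ∀ i, i < 66940 → P i := stepQ 66939 Q66939 (allL N66939 (tt N42098 F311873) (tt N42097 F311874) (tt N42040 F311875) (tt N42108 F311876) (tt N43468 F206189) (tt N58895 F311877) (tt N36532 (iv6 D128105)) (tt N42099 F311878))
theorem Q66941 : ∀ i, i < 66941 → P i := stepQ 66940 Q66940 (allL N66940 (tt N82170 F345966) (tt N36533 (iv0 D128106)) (tt N44880 F345967) (tt N100650 (iv3 F429840)) (tt N49876 F345968) (tt N48106 F345969) (tt N49875 F345970) (tt N77260 F345971))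
theorem Q66942 : ∀ i, i < 66942 → P i := stepQ 66941 Q66941 (allL N66941 (tt N103101 D206286) (tt N80639 (iv0 F343957)) (tt N80295 (iv2 F362758)) (tt N36534 (iv3 D128110)) (tt N80767 (iv4 F307888)) (tt N91319 (iv5 F392710)) (tt N63571 F362757) (tt N100487 (iv7 F429130)))
theorem Q66943 : ∀ i, i < 66943 → P i := stepQ 66942 Q66942 (allL N66942 (tt N63609 (iv1 F306336)) (tt N36536 (iv0 D128116)) (tt N63771 F336304) (tt N77685 (iv3 F336308)) (tt N48943 F336305) (tt N68020 F336306) (tt N48942 F336307) (tt N103091 (iv7 F440020)))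
theorem Q66944 : ∀ i, i < 66944 → P i := stepQ 66943 Q66943 (allL N66943 (tt N36536 (iv1 D128117)) (tt N63609 (iv0 F306335)) (tt N103091 (iv2 F440024)) (tt N45714 F336612) (tt N91722 (iv4 F394175)) (tt N66879 (iv5 F206195)) (tt N45712 F336613) (tt N63771 F339298))
theorem Q66945 : ∀ i, i < 66945 → P i := stepQ 66944 Q66944 (allL N66944 (tt N51116 F356741) (tt N83285 F356742) (tt N83284 (iv2 F345608)) (tt N38437 F356743) (tt N36536 (iv4 D128118)) (tt N103102 D206287) (tt N38436 F356744) (tt N83283 F362974))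
theorem Q66946 : ∀ i, i < 66946 → P i := stepQ 66945 Q66945 (allL N66945 (tt N103091 (iv1 F440019)) (tt N63771 F339300) (tt N63609 (iv2 F306337)) (tt N78254 F339301) (tt N83283 (iv4 F362972)) (tt N36537 F206196) (tt N94072 (iv6 F403074)) (tt N36536 (iv7 D128119)))
theorem Q66947 : ∀ i, i < 66947 → P i := stepQ 66946 Q66946 (allL N66946 (tt N80132 (iv1 F261706)) (tt N80131 F261705) (tt N42597 F206198) (tt N88460 (iv3 F383140)) (tt N83276 F343435) (tt N36538 (iv5 D128121)) (tt N83275 (iv6 F343434)) (tt N75466 (iv7 F353856)))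
theorem Q66948 : ∀ i, i < 66948 → P i := stepQ 66947 Q66947 (allL N66947 (tt N80144 (iv1 F261817)) (tt N80143 F261816) (tt N42600 F206201) (tt N103103 D206288) (tt N36539 (iv4 D128123)) (tt N103039 (iv5 F439783)) (tt N100018 (iv6 F427222)) (tt N80141 (iv7 F261788)))
theorem Q66949 : ∀ i, i < 66949 → P i := stepQ 66948 Q66948 (allL N66948 (tt N56314 F206205) (tt N56286 F206206) (tt N42615 F206203) (tt N63265 (iv3 F348660)) (tt N36540 (iv4 D128125)) (tt N103104 D206289) (tt N102964 (iv6 F439469)) (tt N56315 F206204))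
theorem Q66950 : ∀ i, i < 66950 → P i := stepQ 66949 Q66949 (allL N66949 (tt N46484 (iv1 F206210)) (tt N46483 F206214) (tt N42616 F206207) (tt N76164 (iv3 F237174)) (tt N103105 D206290) (tt N36540 (iv5 D128126)) (tt N66716 F206208) (tt N46482 F206209))
theorem Q66951 : ∀ i, i < 66951 → P i := stepQ 66950 Q66950 (allL N66950 (tt N73597 (iv1 F320167)) (tt N36541 (iv0 D128127)) (tt N61444 (iv2 F206217)) (tt N63201 (iv3 F339329)) (tt N43642 F206216) (tt N103106 D206291) (tt N69515 F335839) (tt N76553 (iv7 F339332)))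
theorem Q66952 : ∀ i, i < 66952 → P i := stepQ 66951 Q66951 (allL N66951 (tt N36541 (iv1 D128128)) (tt N73597 (iv0 F320166)) (tt N76553 F339352) (tt N61331 (iv3 F206220)) (tt N43643 F206219) (tt N82895 F358474) (tt N73585 F349006) (tt N61444 F206218))
theorem Q66953 : ∀ i, i < 66953 → P i := stepQ 66952 Q66952 (allL N66952 (tt N84787 F370629) (tt N73979 (iv0 F364348)) (tt N85190 (iv2 F371841)) (tt N51010 F206225) (tt N103107 D206292) (tt N36541 (iv5 D128129)) (tt N61266 F206226) (tt N103108 D206293))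
theorem Q66954 : ∀ i, i < 66954 → P i := stepQ 66953 Q66953 (allL N66953 (tt N76553 (iv1 F339354)) (tt N61444 (iv0 F206229)) (tt N73597 (iv2 F320168)) (tt N61270 F206227) (tt N36542 F206228) (tt N103108 (iv5 F440109)) (tt N61433 F206242) (tt N36541 (iv7 D128130)))
theorem Q66955 : ∀ i, i < 66955 → P i := stepQ 66954 Q66954 (allL N66954 (tt N56311 (iv1 F206238)) (tt N42652 F206239) (tt N73598 (iv2 F320174)) (tt N100484 (iv3 F429111)) (tt N61433 (iv4 F206237)) (tt N43735 F206235) (tt N36542 (iv6 D128131)) (tt N42620 F206236))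
theorem Q66956 : ∀ i, i < 66956 → P i := stepQ 66955 Q66955 (allL N66955 (tt N67041 (iv1 F335258)) (tt N63105 F346711) (tt N67042 (iv2 F361917)) (tt N36544 F206248) (tt N36550 F206249) (tt N75821 F335257) (tt N36543 (iv6 D128132)) (tt N63612 F335259))
theorem Q66957 : ∀ i, i < 66957 → P i := stepQ 66956 Q66956 (allL N66956 (tt N37632 F309737) (tt N37626 F309738) (tt N37630 F309739) (tt N75821 F309740) (tt N66957 F310086) (tt N36544 (iv5 D128133)) (tt N40030 (iv6 F311161)) (tt N37631 F309741))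
theorem Q66958 : ∀ i, i < 66958 → P i := stepQ 66957 Q66957 (allL N66957 (tt N46514 F305394) (tt N45247 F311668) (tt N42703 F206250) (tt N66848 F206251) (tt N66956 (iv4 F310086)) (tt N36545 (iv5 D128134)) (tt N72394 F311669) (tt N46513 F305397))
theorem Q66959 : ∀ i, i < 66959 → P i := stepQ 66958 Q66958 (allL N66958 (tt N63617 (iv1 F302560)) (tt N63567 (iv0 F303614)) (tt N36550 F206261) (tt N77594 (iv3 F243920)) (tt N67042 (iv4 F332046)) (tt N100136 (iv5 F427635)) (tt N36548 (iv6 D128137)) (tt N63511 (iv7 F303613)))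
theorem Q66960 : ∀ i, i < 66960 → P i := stepQ 66959 Q66959 (allL N66959 (tt N63511 (iv1 F303612)) (tt N36550 (iv0 D128140)) (tt N63617 (iv2 F302561)) (tt N54144 (iv3 F351606)) (tt N54147 (iv4 F308430)) (tt N100308 (iv5 F428365)) (tt N81267 (iv6 F351740)) (tt N63567 (iv7 F303615)))
theorem Q66961 : ∀ i, i < 66961 → P i := stepQ 66960 Q66960 (allL N66960 (tt N94069 F403059) (tt N36551 (iv0 D128143)) (tt N77222 F349795) (tt N47169 F342765) (tt N65201 F342766) (tt N47164 F342767) (tt N47167 F342768) (tt N77225 (iv7 F347351)))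
theorem Q66962 : ∀ i, i < 66962 → P i := stepQ 66961 Q66961 (allL N66961 (tt N36551 (iv1 D128144)) (tt N94069 (iv0 F403058)) (tt N77225 (iv2 F347354)) (tt N42140 F347336) (tt N65202 F347337) (tt N69265 F347338) (tt N42137 F347339) (tt N77222 F349791))
theorem Q66963 : ∀ i, i < 66963 → P i := stepQ 66962 Q66962 (allL N66962 (tt N77225 (iv1 F347358)) (tt N77222 (iv0 F349797)) (tt N94069 (iv2 F403054)) (tt N68502 (iv3 F349802)) (tt N43740 F206276) (tt N68501 F349801) (tt N82170 (iv6 F345981)) (tt N36551 (iv7 D128146)))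
theorem Q66964 : ∀ i, i < 66964 → P i := stepQ 66963 Q66963 (allL N66963 (tt N80704 (iv1 F340244)) (tt N103109 D206294) (tt N66965 (iv2 F334196)) (tt N57699 F334224) (tt N77613 F334195) (tt N36552 (iv5 D128148)) (tt N79340 (iv6 F334222)) (tt N73341 F334225))
theorem Q66965 : ∀ i, i < 66965 → P i := stepQ 66964 Q66964 (allL N66964 (tt N67996 (iv1 F310691)) (tt N68014 (iv0 F315319)) (tt N68012 (iv2 F330126)) (tt N38031 F318005) (tt N43722 F206279) (tt N45674 F317564) (tt N36552 (iv6 D128149)) (tt N45673 F317565))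
theorem Q66966 : ∀ i, i < 66966 → P i := stepQ 66965 Q66965 (allL N66965 (tt N68026 (iv1 F343500)) (tt N68025 (iv0 F343499)) (tt N66963 F334196) (tt N36553 (iv3 D128150)) (tt N43977 F206280) (tt N65168 (iv5 F331982)) (tt N81262 F334223) (tt N66966 (iv7 F334198)))
theorem Q66967 : ∀ i, i < 66967 → P i := stepQ 66966 Q66966 (allL N66966 (tt N103109 (iv1 F440111)) (tt N80704 (iv0 F340243)) (tt N73341 (iv2 F334226)) (tt N65168 (iv3 F363230)) (tt N66363 F334197) (tt N36553 (iv5 D128151)) (tt N69291 (iv6 F341917)) (tt N66965 F334198))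
theorem Q66968 : ∀ i, i < 66968 → P i := stepQ 66967 Q66967 (allL N66967 (tt N36554 (iv1 D128154)) (tt N38082 (iv0 F309701)) (tt N38083 F307693) (tt N43719 F306792) (tt N46874 F306793) (tt N43719 (iv5 F206284)) (tt N46873 F306794) (tt N38071 F307694))
theorem Q66969 : ∀ i, i < 66969 → P i := stepQ 66968 Q66968 (allL N66968 (tt N47187 F314433) (tt N47178 F314434) (tt N47184 F362953) (tt N42514 F311884) (tt N36554 (iv4 D128155)) (tt N89976 (iv5 F388165)) (tt N42517 F311885) (tt N47185 F362954))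
theorem Q66970 : ∀ i, i < 66970 → P i := stepQ 66969 Q66969 (allL N66969 (tt N38083 F333398) (tt N38071 F333399) (tt N38082 F311888) (tt N63618 (iv3 F335243)) (tt N47185 F332028) (tt N36555 F206285) (tt N103110 D206295) (tt N36554 (iv7 D128156)))
theorem Q66971 : ∀ i, i < 66971 → P i := stepQ 66970 Q66970 (allL N66970 (tt N63861 (iv1 F332059)) (tt N63864 (iv0 F332076)) (tt N47048 F206286) (tt N36556 (iv3 D128157)) (tt N75818 (iv4 F307436)) (tt N63641 (iv5 F332061)) (tt N47110 F304131) (tt N77281 (iv7 F242263)))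
theorem Q66972 : ∀ i, i < 66972 → P i := stepQ 66971 Q66971 (allL N66971 (tt N45681 F314798) (tt N79488 F256948) (tt N42718 F206287) (tt N63641 F332063) (tt N79379 F314799) (tt N36556 (iv5 D128158)) (tt N81516 F346962) (tt N77282 (iv7 F242265)))
theorem Q66973 : ∀ i, i < 66973 → P i := stepQ 66972 Q66972 (allL N66972 (tt N38867 F314806) (tt N38880 F314807) (tt N37072 F314808) (tt N47039 F206300) (tt N83893 (iv4 F367419)) (tt N37338 F314809) (tt N36559 (iv6 D128163)) (tt N38877 F314810))
theorem Q66974 : ∀ i, i < 66974 → P i := stepQ 66973 Q66973 (allL N66973 (tt N45594 F306122) (tt N67609 F307982) (tt N47038 F206301) (tt N36560 (iv3 D128164)) (tt N37374 F307983) (tt N42650 F206303) (tt N45588 F304008) (tt N37073 (iv7 F308092)))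
theorem Q66975 : ∀ i, i < 66975 → P i := stepQ 66974 Q66974 (allL N66974 (tt N36583 F332350) (tt N80292 F332340) (tt N88515 (iv2 F383352)) (tt N45588 F332343) (tt N80850 (iv4 F332347)) (tt N44484 F332341) (tt N36560 (iv6 D128165)) (tt N62575 F332342))
theorem Q66976 : ∀ i, i < 66976 → P i := stepQ 66975 Q66975 (allL N66975 (tt N45528 F340202) (tt N88608 (iv0 F383585)) (tt N36563 F206304) (tt N54242 F306760) (tt N43604 F306761) (tt N100515 F429265) (tt N36561 (iv6 D128166)) (tt N100902 (iv7 F430895)))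
theorem Q66977 : ∀ i, i < 66977 → P i := stepQ 66976 Q66976 (allL N66976 (tt N61759 (iv1 F330643)) (tt N64031 (iv0 F330640)) (tt N75996 (iv2 F235310)) (tt N36564 F206306) (tt N75934 (iv4 F234628)) (tt N48233 F339417) (tt N36562 (iv6 D128167)) (tt N78728 (iv7 F350993)))
theorem Q66978 : ∀ i, i < 66978 → P i := stepQ 66977 Q66977 (allL N66977 (tt N100902 F430897) (tt N36563 (iv0 D128168)) (tt N45528 F319367) (tt N43946 F319368) (tt N77202 (iv4 F321380)) (tt N102647 (iv5 F438035)) (tt N43944 F319369) (tt N88608 (iv7 F383584)))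
theorem Q66979 : ∀ i, i < 66979 → P i := stepQ 66978 Q66978 (allL N66978 (tt N36563 (iv1 D128169)) (tt N100902 (iv0 F430896)) (tt N88608 (iv2 F383581)) (tt N45533 F340215) (tt N81835 (iv4 F277181)) (tt N102660 (iv5 F438105)) (tt N68408 (iv6 F363617)) (tt N45528 F340216))
theorem Q66980 : ∀ i, i < 66980 → P i := stepQ 66979 Q66979 (allL N66979 (tt N94066 F403047) (tt N79623 (iv0 F339293)) (tt N100515 (iv2 F429267)) (tt N36565 F206307) (tt N103111 D206296) (tt N36563 (iv5 D128170)) (tt N48233 F341255) (tt N100514 F429264))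
theorem Q66981 : ∀ i, i < 66981 → P i := stepQ 66980 Q66980 (allL N66980 (tt N88608 F383586) (tt N45528 F340197) (tt N100902 (iv2 F430892)) (tt N36566 F206308) (tt N43603 (iv4 F304765)) (tt N100514 (iv5 F429261)) (tt N70106 (iv6 F340194)) (tt N36563 (iv7 D128171)))
theorem Q66982 : ∀ i, i < 66982 → P i := stepQ 66981 Q66981 (allL N66981 (tt N77190 (iv1 F241901)) (tt N36564 (iv0 D128172)) (tt N77187 F353930) (tt N65344 F353923) (tt N43755 F353924) (tt N65342 F353925) (tt N49627 (iv6 F353922)) (tt N77188 F353926))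
theorem Q66983 : ∀ i, i < 66983 → P i := stepQ 66982 Q66982 (allL N66982 (tt N36564 (iv1 D128173)) (tt N77190 F241900) (tt N77188 F353927) (tt N79278 F353928) (tt N43756 F353929) (tt N94100 (iv5 F403202)) (tt N103112 D206297) (tt N77187 (iv7 F353931)))
theorem Q66984 : ∀ i, i < 66984 → P i := stepQ 66983 Q66983 (allL N66983 (tt N103113 D206298) (tt N77324 (iv0 F343437)) (tt N77189 (iv2 F241894)) (tt N48233 F341256) (tt N101744 (iv4 F434138)) (tt N36564 (iv5 D128174)) (tt N36565 F206310) (tt N101861 (iv7 F434712)))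
theorem Q66985 : ∀ i, i < 66985 → P i := stepQ 66984 Q66984 (allL N66984 (tt N77188 (iv1 F241893)) (tt N77187 F241899) (tt N77190 (iv2 F241896)) (tt N78728 (iv3 F342704)) (tt N43702 F206311) (tt N101861 (iv5 F434711)) (tt N81050 F361358) (tt N36564 (iv7 D128175)))
theorem Q66986 : ∀ i, i < 66986 → P i := stepQ 66985 Q66985 (allL N66985 (tt N77195 (iv1 F241923)) (tt N36565 (iv0 D128176)) (tt N77192 (iv2 F241915)) (tt N100432 (iv3 F428951)) (tt N51116 F356655) (tt N103105 (iv5 F440095)) (tt N51115 (iv6 F343443)) (tt N77193 (iv7 F241917)))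
theorem Q66987 : ∀ i, i < 66987 → P i := stepQ 66986 Q66986 (allL N66986 (tt N36565 (iv1 D128177)) (tt N77195 F241922) (tt N77193 F241918) (tt N46476 F206313) (tt N83285 F356654) (tt N46470 (iv5 F206312)) (tt N103114 D206299) (tt N77192 F241913))
theorem Q66988 : ∀ i, i < 66988 → P i := stepQ 66987 Q66987 (allL N66987 (tt N55348 F339294) (tt N83209 F339296) (tt N77194 (iv2 F241919)) (tt N103115 D206300) (tt N36565 (iv4 D128178)) (tt N103116 D206301) (tt N101744 F434140) (tt N83208 F364281))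
theorem Q66989 : ∀ i, i < 66989 → P i := stepQ 66988 Q66988 (allL N66988 (tt N77193 (iv1 F241916)) (tt N77192 F241914) (tt N77195 (iv2 F241920)) (tt N100514 (iv3 F429262)) (tt N83208 (iv4 F364280)) (tt N36566 F206314) (tt N81063 (iv6 F354167)) (tt N36565 (iv7 D128179)))
theorem Q66990 : ∀ i, i < 66990 → P i := stepQ 66989 Q66989 (allL N66989 (tt N65222 (iv1 F357874)) (tt N38888 F317263) (tt N64659 F206323) (tt N70046 (iv3 F317947)) (tt N64448 F206324) (tt N67621 (iv5 F319566)) (tt N36568 (iv6 D128182)) (tt N64830 F357921))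
theorem Q66991 : ∀ i, i < 66991 → P i := stepQ 66990 Q66990 (allL N66990 (tt N80906 (iv1 F336898)) (tt N69859 (iv0 F347327)) (tt N81050 F348431) (tt N46437 F336901) (tt N43664 F206331) (tt N46436 F336902) (tt N77190 (iv6 F241898)) (tt N36571 (iv7 D128191)))
theorem Q66992 : ∀ i, i < 66992 → P i := stepQ 66991 Q66991 (allL N66991 (tt N76901 (iv1 F240583)) (tt N36575 (iv0 D128197)) (tt N76899 (iv2 F356986)) (tt N88528 F383409) (tt N43762 F348697) (tt N81059 F362957) (tt N96303 (iv6 F411929)) (tt N76900 F356979))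
theorem Q66993 : ∀ i, i < 66993 → P i := stepQ 66992 Q66992 (allL N66992 (tt N36575 (iv1 D128198)) (tt N76901 F240582) (tt N76900 F356982) (tt N46897 F356983) (tt N43763 F348698) (tt N80959 F356984) (tt N102328 (iv6 F436750)) (tt N76899 F356985))
theorem Q66994 : ∀ i, i < 66994 → P i := stepQ 66993 Q66993 (allL N66993 (tt N76900 (iv1 F240576)) (tt N76899 F240581) (tt N76901 (iv2 F240579)) (tt N99598 F425337) (tt N43554 F206337) (tt N47191 F348692) (tt N82840 F361223) (tt N36575 (iv7 D128200)))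
theorem Q66995 : ∀ i, i < 66995 → P i := stepQ 66994 Q66994 (allL N66994 (tt N47567 F346739) (tt N103117 D206302) (tt N61268 F206338) (tt N36577 F206339) (tt N45029 F206340) (tt N87802 (iv5 F380568)) (tt N36576 (iv6 D128201)) (tt N98502 (iv7 F421147)))
theorem Q66996 : ∀ i, i < 66996 → P i := stepQ 66995 Q66995 (allL N66995 (tt N54191 (iv1 F348703)) (tt N82775 (iv0 F348699)) (tt N82840 (iv2 F348702)) (tt N98502 (iv3 F421145)) (tt N43486 F206342) (tt N51666 F348700) (tt N76901 (iv6 F240580)) (tt N36577 (iv7 D128205)))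
theorem Q66997 : ∀ i, i < 66997 → P i := stepQ 66996 Q66996 (allL N66996 (tt N100437 F428976) (tt N43484 F354082) (tt N99844 (iv2 F426488)) (tt N77669 (iv3 F350265)) (tt N36578 (iv4 D128208)) (tt N103118 D206303) (tt N91753 (iv6 F394310)) (tt N101232 (iv7 F432328)))
theorem Q66998 : ∀ i, i < 66998 → P i := stepQ 66997 Q66997 (allL N66997 (tt N42075 F354104) (tt N103119 D206304) (tt N99842 (iv2 F426480)) (tt N40808 F354087) (tt N91753 (iv4 F394308)) (tt N74837 F354088) (tt N36578 (iv6 D128210)) (tt N99577 (iv7 F425250)))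
theorem Q66999 : ∀ i, i < 66999 → P i := stepQ 66998 Q66998 (allL N66998 (tt N61063 F354097) (tt N43857 F354098) (tt N61479 F354099) (tt N36579 (iv3 D128212)) (tt N61469 F354100) (tt N80137 (iv5 F347876)) (tt N103120 D206305) (tt N61476 F354101))
theorem Q67000 : ∀ i, i < 67000 → P i := stepQ 66999 Q66999 (allL N66999 (tt N43484 F354102) (tt N100437 F428975) (tt N101232 (iv2 F432326)) (tt N61050 F352396) (tt N36579 (iv4 D128213)) (tt N103121 D206306) (tt N103122 D206307) (tt N99844 F426493))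
theorem Q67001 : ∀ i, i < 67001 → P i := stepQ 67000 Q67000 (allL N67000 (tt N103123 D206308) (tt N96303 (iv0 F411931)) (tt N101233 (iv2 F432331)) (tt N103120 (iv3 F440164)) (tt N103122 (iv4 F440174)) (tt N86366 (iv5 F375966)) (tt N36579 (iv6 D128215)) (tt N103124 D206309))
theorem Q67002 : ∀ i, i < 67002 → P i := stepQ 67001 Q67001 (allL N67001 (tt N71363 (iv1 F347141)) (tt N36580 (iv0 D128216)) (tt N99263 (iv2 F423863)) (tt N66286 F346564) (tt N74070 (iv4 F346565)) (tt N103125 D206310) (tt N95794 (iv6 F409690)) (tt N74242 (iv7 F346566)))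
theorem Q67003 : ∀ i, i < 67003 → P i := stepQ 67002 Q67002 (allL N67002 (tt N36580 (iv1 D128217)) (tt N71363 F347139) (tt N74242 (iv2 F347142)) (tt N90561 F422848) (tt N90569 (iv4 F422849)) (tt N103126 D206311) (tt N90559 (iv6 F422850)) (tt N99263 (iv7 F423866)))
theorem Q67004 : ∀ i, i < 67004 → P i := stepQ 67003 Q67003 (allL N67003 (tt N96809 F414061) (tt N91412 (iv0 F440314)) (tt N101234 (iv2 F432335)) (tt N103127 D206313) (tt N36580 (iv4 D128218)) (tt N91385 (iv5 F392949)) (tt N36590 F206345) (tt N91406 (iv7 F393013)))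
theorem Q67005 : ∀ i, i < 67005 → P i := stepQ 67004 Q67004 (allL N67004 (tt N74242 (iv1 F415297)) (tt N99263 (iv0 F423864)) (tt N71363 F347136) (tt N79447 (iv3 F256824)) (tt N91406 (iv4 F393012)) (tt N36581 F206346) (tt N70926 (iv6 F347140)) (tt N36580 (iv7 D128219)))
theorem Q67006 : ∀ i, i < 67006 → P i := stepQ 67005 Q67005 (allL N67005 (tt N43771 (iv1 F206351)) (tt N43770 F206352) (tt N43773 F206347) (tt N48393 F206348) (tt N43610 F206349) (tt N102827 (iv5 F438826)) (tt N36581 (iv6 D128220)) (tt N36582 F206350))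
theorem Q67007 : ∀ i, i < 67007 → P i := stepQ 67006 Q67006 (allL N67006 (tt N43773 (iv1 F206353)) (tt N36582 (iv0 D128221)) (tt N43770 F346110) (tt N70070 (iv3 F346112)) (tt N91172 (iv4 F392160)) (tt N70050 (iv5 F346113)) (tt N99584 (iv6 F425284)) (tt N43771 F346111))
theorem Q67008 : ∀ i, i < 67008 → P i := stepQ 67007 Q67007 (allL N67007 (tt N36582 (iv1 D128222)) (tt N43773 F206354) (tt N43771 F346107) (tt N47026 F336893) (tt N84726 (iv4 F370365)) (tt N68779 F336894) (tt N47024 F336895) (tt N43770 F346108))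
theorem Q67009 : ∀ i, i < 67009 → P i := stepQ 67008 Q67008 (allL N67008 (tt N103128 D206314) (tt N85957 (iv0 F374613)) (tt N43772 F206355) (tt N48392 F206356) (tt N103129 D206315) (tt N36582 (iv5 D128223)) (tt N36594 F206357) (tt N102827 (iv7 F438827)))
theorem Q67010 : ∀ i, i < 67010 → P i := stepQ 67009 Q67009 (allL N67009 (tt N80292 F332361) (tt N36583 (iv0 D128224)) (tt N62575 F332355) (tt N46927 F332356) (tt N77211 F332357) (tt N39372 F332358) (tt N38877 F332359) (tt N88515 (iv7 F383356)))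
theorem Q67011 : ∀ i, i < 67011 → P i := stepQ 67010 Q67010 (allL N67010 (tt N62575 F332395) (tt N88515 F383358) (tt N36583 (iv2 D128226)) (tt N77412 (iv3 F242565)) (tt N46696 F206358) (tt N72132 (iv5 F332392)) (tt N101017 (iv6 F431289)) (tt N80292 (iv7 F332354)))
theorem Q67012 : ∀ i, i < 67012 → P i := stepQ 67011 Q67011 (allL N67011 (tt N47083 F334245) (tt N44945 F364579) (tt N101017 (iv2 F431285)) (tt N36585 F206360) (tt N90233 (iv4 F389016)) (tt N100807 (iv5 F430563)) (tt N36583 (iv6 D128228)) (tt N80290 F351767))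
theorem Q67013 : ∀ i, i < 67013 → P i := stepQ 67012 Q67012 (allL N67012 (tt N36587 (iv1 F206362)) (tt N36584 (iv0 D128229)) (tt N47220 F305715) (tt N58803 (iv3 F344627)) (tt N91354 (iv4 F392844)) (tt N66885 F206361) (tt N58801 F344625) (tt N77414 (iv7 F242579)))
theorem Q67014 : ∀ i, i < 67014 → P i := stepQ 67013 Q67013 (allL N67013 (tt N36584 (iv1 D128230)) (tt N36587 F206363) (tt N77414 F242580) (tt N46934 F304225) (tt N49960 F340386) (tt N76170 (iv5 F237219)) (tt N49964 (iv6 F340388)) (tt N47220 F304226))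
theorem Q67015 : ∀ i, i < 67015 → P i := stepQ 67014 Q67014 (allL N67014 (tt N91416 (iv1 F393046)) (tt N83220 F364594) (tt N77415 (iv2 F242581)) (tt N97171 (iv3 F415735)) (tt N36584 (iv4 D128231)) (tt N87387 (iv5 F379202)) (tt N90527 (iv6 F389970)) (tt N87386 (iv7 F379199)))
theorem Q67016 : ∀ i, i < 67016 → P i := stepQ 67015 Q67015 (allL N67015 (tt N66833 F206364) (tt N47115 F303670) (tt N76120 (iv2 F236451)) (tt N100807 (iv3 F430564)) (tt N80447 (iv4 F341701)) (tt N36585 (iv5 D128235)) (tt N101669 (iv6 F433776)) (tt N76119 F242260))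
theorem Q67017 : ∀ i, i < 67017 → P i := stepQ 67016 Q67016 (allL N67016 (tt N36586 (iv1 D128238)) (tt N77412 F242571) (tt N47969 F304216) (tt N47180 F304217) (tt N47455 F311785) (tt N71607 (iv5 F354152)) (tt N64830 (iv6 F303630)) (tt N47188 F304219))
theorem Q67018 : ∀ i, i < 67018 → P i := stepQ 67017 Q67017 (allL N67017 (tt N47188 (iv1 F307640)) (tt N47969 (iv0 F309573)) (tt N36586 (iv2 D128239)) (tt N80292 F305617) (tt N77181 (iv4 F241855)) (tt N103130 D206316) (tt N47172 F305618) (tt N77412 (iv7 F242567)))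
theorem Q67019 : ∀ i, i < 67019 → P i := stepQ 67018 Q67018 (allL N67018 (tt N77735 F375909) (tt N103131 D206317) (tt N103130 (iv2 F440205)) (tt N36587 F206370) (tt N90509 (iv4 F389887)) (tt N36586 (iv5 D128240)) (tt N84140 (iv6 F368282)) (tt N77413 (iv7 F242575)))
theorem Q67020 : ∀ i, i < 67020 → P i := stepQ 67019 Q67019 (allL N67019 (tt N83220 (iv1 F364593)) (tt N91416 F393045) (tt N87386 (iv2 F379197)) (tt N90533 (iv3 F389989)) (tt N36587 (iv4 D128242)) (tt N52549 (iv5 F364595)) (tt N91848 (iv6 F394670)) (tt N77415 (iv7 F242582)))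
theorem Q67021 : ∀ i, i < 67021 → P i := stepQ 67020 Q67020 (allL N67020 (tt N103132 D206318) (tt N103133 D206319) (tt N103093 (iv2 F440033)) (tt N84140 (iv3 F368281)) (tt N91848 (iv4 F394671)) (tt N80689 (iv5 F366931)) (tt N36587 (iv6 D128243)) (tt N103134 D206320))
theorem Q67022 : ∀ i, i < 67022 → P i := stepQ 67021 Q67021 (allL N67021 (tt N39372 F332332) (tt N44484 F332333) (tt N62574 F332334) (tt N36588 (iv3 D128249)) (tt N38170 F332335) (tt N70548 F332336) (tt N68062 F332337) (tt N38167 F332338))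
theorem Q67023 : ∀ i, i < 67023 → P i := stepQ 67022 Q67022 (allL N67022 (tt N74345 F354133) (tt N103135 D206321) (tt N89243 (iv2 F385753)) (tt N38188 F354128) (tt N36588 (iv4 D128250)) (tt N88065 (iv5 F381653)) (tt N68109 F354129) (tt N38184 F354130))
theorem Q67024 : ∀ i, i < 67024 → P i := stepQ 67023 Q67023 (allL N67023 (tt N102986 (iv1 F439556)) (tt N42899 F206378) (tt N75458 (iv2 F231552)) (tt N70548 (iv3 F332330)) (tt N75454 (iv4 F231538)) (tt N36588 (iv5 D128251)) (tt N70545 (iv6 F334184)) (tt N75771 F233864))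
theorem Q67025 : ∀ i, i < 67025 → P i := stepQ 67024 Q67024 (allL N67024 (tt N81540 (iv1 F354143)) (tt N71607 (iv0 F354149)) (tt N81541 (iv2 F354141)) (tt N36589 (iv3 D128254)) (tt N89242 (iv4 F385749)) (tt N103136 D206322) (tt N81545 (iv6 F354142)) (tt N80649 F354140))
theorem Q67026 : ∀ i, i < 67026 → P i := stepQ 67025 Q67025 (allL N67025 (tt N103135 (iv1 F440232)) (tt N74345 F358452) (tt N38184 F358453) (tt N89247 (iv3 F385771)) (tt N36589 (iv4 D128255)) (tt N87498 (iv5 F379559)) (tt N38182 F358454) (tt N89243 (iv7 F385757)))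
theorem Q67027 : ∀ i, i < 67027 → P i := stepQ 67026 Q67026 (allL N67026 (tt N42899 F206382) (tt N102986 (iv0 F439555)) (tt N75771 (iv2 F233862)) (tt N103136 (iv3 F440237)) (tt N63999 F206381) (tt N36589 (iv5 D128256)) (tt N63998 (iv6 F206380)) (tt N75458 (iv7 F231553)))
theorem Q67028 : ∀ i, i < 67028 → P i := stepQ 67027 Q67027 (allL N67027 (tt N68058 F354116) (tt N68057 F354117) (tt N38165 F354118) (tt N81545 F354144) (tt N38182 F354119) (tt N103137 D206323) (tt N36589 (iv6 D128257)) (tt N68059 F354120))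
theorem Q67029 : ∀ i, i < 67029 → P i := stepQ 67028 Q67028 (allL N67028 (tt N36590 (iv1 D128259)) (tt N91333 F392778) (tt N84634 (iv2 F369941)) (tt N90778 (iv3 F390805)) (tt N101819 (iv4 F434498)) (tt N84590 (iv5 F369790)) (tt N91335 (iv6 F392786)) (tt N84638 (iv7 F369953)))
theorem Q67030 : ∀ i, i < 67030 → P i := stepQ 67029 Q67029 (allL N67029 (tt N55221 F361617) (tt N60219 (iv0 F354132)) (tt N103138 D206324) (tt N36590 (iv3 D128260)) (tt N79456 (iv4 F256840)) (tt N103139 D206325) (tt N103127 (iv6 F440189)) (tt N93907 F402380))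
theorem Q67031 : ∀ i, i < 67031 → P i := stepQ 67030 Q67030 (allL N67030 (tt N87221 (iv1 F378804)) (tt N52471 F366331) (tt N87217 F378784) (tt N103139 (iv3 F440251)) (tt N52548 (iv4 F366330)) (tt N36590 (iv5 D128261)) (tt N84520 F369792) (tt N87218 (iv7 F378791)))
theorem Q67032 : ∀ i, i < 67032 → P i := stepQ 67031 Q67031 (allL N67031 (tt N84634 F369945) (tt N84638 (iv0 F369955)) (tt N91333 F392777) (tt N93907 (iv3 F402376)) (tt N36591 F206383) (tt N87218 F378794) (tt N71364 (iv6 F362964)) (tt N36590 (iv7 D128262)))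
theorem Q67033 : ∀ i, i < 67033 → P i := stepQ 67032 Q67032 (allL N67032 (tt N64659 F315348) (tt N64830 (iv0 F206390)) (tt N38888 F315349) (tt N36593 (iv3 D128267)) (tt N65214 F206388) (tt N38886 F315350) (tt N100690 (iv6 F430032)) (tt N65222 F206389))
theorem Q67034 : ∀ i, i < 67034 → P i := stepQ 67033 Q67033 (allL N67033 (tt N38869 F315351) (tt N37115 F315352) (tt N36851 F315353) (tt N38886 F315354) (tt N36849 F315355) (tt N36593 (iv5 D128268)) (tt N103140 D206326) (tt N36846 F315356))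
theorem Q67035 : ∀ i, i < 67035 → P i := stepQ 67034 Q67034 (allL N67034 (tt N46478 (iv1 F206394)) (tt N77283 F242271) (tt N79491 (iv2 F264118)) (tt N100690 (iv3 F430031)) (tt N65213 F206393) (tt N76168 F237210) (tt N36593 (iv6 D128269)) (tt N79492 (iv7 F264121)))
theorem Q67036 : ∀ i, i < 67036 → P i := stepQ 67035 Q67035 (allL N67035 (tt N37856 F311921) (tt N36594 (iv0 D128270)) (tt N67746 F311922) (tt N37336 F311923) (tt N67253 F311924) (tt N43159 F311925) (tt N73419 (iv6 F359165)) (tt N67610 F311926))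
theorem Q67037 : ∀ i, i < 67037 → P i := stepQ 67036 Q67036 (allL N67036 (tt N36594 (iv1 D128271)) (tt N37856 F311930) (tt N67610 F311931) (tt N67620 F311932) (tt N67252 F311933) (tt N46812 F302483) (tt N103141 D206327) (tt N67746 F311934))
theorem Q67038 : ∀ i, i < 67038 → P i := stepQ 67037 Q67037 (allL N67037 (tt N68943 F316697) (tt N68945 F316698) (tt N67747 F316699) (tt N36771 F316700) (tt N36594 (iv4 D128272)) (tt N60518 (iv5 F354370)) (tt N103129 (iv6 F440202)) (tt N101850 (iv7 F434661)))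
theorem Q67039 : ∀ i, i < 67039 → P i := stepQ 67038 Q67038 (allL N67038 (tt N100361 (iv1 F428598)) (tt N36596 (iv0 D128273)) (tt N100407 F428837) (tt N36643 F206397) (tt N63646 F206396) (tt N63142 F206395) (tt N103142 D206328) (tt N92609 (iv7 F397638)))
theorem Q67040 : ∀ i, i < 67040 → P i := stepQ 67039 Q67039 (allL N67039 (tt N36596 (iv1 D128274)) (tt N100361 (iv0 F428599)) (tt N92609 (iv2 F397636)) (tt N77654 (iv3 F244503)) (tt N63647 (iv4 F331658)) (tt N103143 D206329) (tt N69976 F331661) (tt N100407 (iv7 F428839)))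
theorem Q67041 : ∀ i, i < 67041 → P i := stepQ 67040 Q67040 (allL N67040 (tt N44014 F206398) (tt N99847 (iv0 F426506)) (tt N51495 F318173) (tt N49654 F318174) (tt N36596 (iv4 D128275)) (tt N75895 (iv5 F346073)) (tt N45284 F318175) (tt N99929 (iv7 F426867)))
theorem Q67042 : ∀ i, i < 67042 → P i := stepQ 67041 Q67041 (allL N67041 (tt N36597 (iv1 D128278)) (tt N66955 F335258) (tt N92610 (iv2 F397641)) (tt N79380 F335261) (tt N63641 F206402) (tt N79534 (iv5 F332085)) (tt N82098 (iv6 F278514)) (tt N82042 F278070))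
theorem Q67043 : ∀ i, i < 67043 → P i := stepQ 67042 Q67042 (allL N67042 (tt N92610 F397647) (tt N82042 (iv0 F278069)) (tt N66955 F361917) (tt N36605 F206405) (tt N66958 F332046) (tt N52385 (iv5 F311343)) (tt N64060 (iv6 F361918)) (tt N36597 (iv7 D128280)))
theorem Q67044 : ∀ i, i < 67044 → P i := stepQ 67043 Q67043 (allL N67043 (tt N80846 F343388) (tt N80848 F343391) (tt N67920 F310058) (tt N36598 (iv3 D128281)) (tt N44021 F206407) (tt N66357 F354059) (tt N38049 F310059) (tt N76907 F240699))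
theorem Q67045 : ∀ i, i < 67045 → P i := stepQ 67044 Q67044 (allL N67044 (tt N101819 F434501) (tt N91332 (iv0 F392772)) (tt N81236 F354137) (tt N66357 (iv3 F354108)) (tt N69454 (iv4 F379192)) (tt N36598 (iv5 D128282)) (tt N66354 F354109) (tt N76909 (iv7 F240703)))
theorem Q67046 : ∀ i, i < 67046 → P i := stepQ 67045 Q67045 (allL N67045 (tt N81271 (iv1 F364913)) (tt N81270 F364911) (tt N81273 (iv2 F364908)) (tt N36600 F206408) (tt N55951 F364907) (tt N36599 (iv5 D128286)) (tt N103144 D206330) (tt N76733 F364910))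
theorem Q67047 : ∀ i, i < 67047 → P i := stepQ 67046 Q67046 (allL N67046 (tt N63588 F307716) (tt N63587 F307717) (tt N63590 F307718) (tt N36601 F206409) (tt N100357 (iv4 F428573)) (tt N103145 D206331) (tt N36599 (iv6 D128287)) (tt N46092 F307719))
theorem Q67048 : ∀ i, i < 67048 → P i := stepQ 67047 Q67047 (allL N67047 (tt N36609 (iv1 F206411)) (tt N36600 (iv0 D128288)) (tt N81237 (iv2 F366388)) (tt N103146 D206332) (tt N103147 D206333) (tt N66882 F206410) (tt N103148 D206334) (tt N91355 (iv7 F392854)))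
theorem Q67049 : ∀ i, i < 67049 → P i := stepQ 67048 Q67048 (allL N67048 (tt N91354 (iv1 F392848)) (tt N49960 (iv0 F340390)) (tt N91353 F392840) (tt N103149 D206335) (tt N36600 (iv4 D128290)) (tt N87221 (iv5 F378802)) (tt N103150 D206336) (tt N87220 F378800))
theorem Q67050 : ∀ i, i < 67050 → P i := stepQ 67049 Q67049 (allL N67049 (tt N81789 F341635) (tt N45760 F341636) (tt N79555 (iv2 F348419)) (tt N103144 (iv3 F440275)) (tt N103150 (iv4 F440310)) (tt N64090 F341634) (tt N36600 (iv6 D128291)) (tt N79552 (iv7 F348421)))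
theorem Q67051 : ∀ i, i < 67051 → P i := stepQ 67050 Q67050 (allL N67050 (tt N66838 F206413) (tt N47920 F320972) (tt N79556 (iv2 F341875)) (tt N103145 (iv3 F440279)) (tt N64102 F341673) (tt N36601 (iv5 D128293)) (tt N64090 (iv6 F341633)) (tt N79562 (iv7 F341677)))
theorem Q67052 : ∀ i, i < 67052 → P i := stepQ 67051 Q67051 (allL N67051 (tt N47716 F341066) (tt N62389 (iv0 F341068)) (tt N62391 (iv2 F315941)) (tt N41663 F340694) (tt N52545 (iv4 F335110)) (tt N62380 (iv5 F316879)) (tt N36602 (iv6 D128296)) (tt N62379 F340695))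
theorem Q67053 : ∀ i, i < 67053 → P i := stepQ 67052 Q67052 (allL N67052 (tt N67928 (iv1 F315519)) (tt N77626 F244265) (tt N36608 F206432) (tt N100361 (iv3 F428594)) (tt N51491 (iv4 F335026)) (tt N36606 (iv5 D128308)) (tt N92218 (iv6 F396316)) (tt N51490 (iv7 F333318)))
theorem Q67054 : ∀ i, i < 67054 → P i := stepQ 67053 Q67053 (allL N67053 (tt N51490 (iv1 F333317)) (tt N36608 (iv0 D128313)) (tt N67928 (iv2 F315520)) (tt N49044 F310872) (tt N61012 (iv4 F333305)) (tt N77559 (iv5 F335028)) (tt N98729 (iv6 F422048)) (tt N77626 F244260))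
theorem Q67055 : ∀ i, i < 67055 → P i := stepQ 67054 Q67054 (allL N67054 (tt N36608 (iv1 D128314)) (tt N51490 (iv0 F333292)) (tt N77626 F244276) (tt N36635 F244277) (tt N50754 (iv4 F333297)) (tt N66868 F244279) (tt N82237 (iv6 F279755)) (tt N67928 (iv7 F315523)))
theorem Q67056 : ∀ i, i < 67056 → P i := stepQ 67055 Q67055 (allL N67055 (tt N79919 (iv1 F337887)) (tt N41685 (iv0 F206439)) (tt N92218 (iv2 F396312)) (tt N36610 F206438) (tt N61500 F317067) (tt N48456 F309588) (tt N36608 (iv6 D128316)) (tt N47707 F317068))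
theorem Q67057 : ∀ i, i < 67057 → P i := stepQ 67056 Q67056 (allL N67056 (tt N49960 F340392) (tt N91354 F392847) (tt N87220 (iv2 F378796)) (tt N103151 D206337) (tt N36609 (iv4 D128325)) (tt N52471 (iv5 F340393)) (tt N91825 (iv6 F394563)) (tt N91353 (iv7 F392841)))
theorem Q67058 : ∀ i, i < 67058 → P i := stepQ 67057 Q67057 (allL N67057 (tt N73208 F364919) (tt N103152 D206338) (tt N76730 (iv2 F364916)) (tt N63577 F364917) (tt N91825 (iv4 F394564)) (tt N63572 F364918) (tt N36609 (iv6 D128326)) (tt N103153 D206339))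
theorem Q67059 : ∀ i, i < 67059 → P i := stepQ 67058 Q67058 (allL N67058 (tt N78310 F247957) (tt N78307 F247920) (tt N74403 (iv2 F227769)) (tt N48456 F304894) (tt N69645 (iv4 F215344)) (tt N36610 (iv5 D128334)) (tt N36611 F206451) (tt N47709 F315944))
theorem Q67060 : ∀ i, i < 67060 → P i := stepQ 67059 Q67059 (allL N67059 (tt N48218 F206456) (tt N72187 (iv0 F314992)) (tt N44343 F312530) (tt N36613 F206454) (tt N77891 F312531) (tt N36612 (iv5 D128336)) (tt N103154 D206340) (tt N47408 F206455))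
theorem Q67061 : ∀ i, i < 67061 → P i := stepQ 67060 Q67060 (allL N67060 (tt N42562 F274098) (tt N67822 (iv0 F315817)) (tt N47398 F206457) (tt N36614 F206458) (tt N47363 F206459) (tt N74769 F229087) (tt N36612 (iv6 D128337)) (tt N80148 (iv7 F261827)))
theorem Q67062 : ∀ i, i < 67062 → P i := stepQ 67061 Q67061 (allL N67061 (tt N80353 (iv1 F348851)) (tt N48153 F355145) (tt N72183 F355144) (tt N103154 (iv3 F440328)) (tt N78230 F361195) (tt N103155 D206341) (tt N36613 (iv6 D128342)) (tt N73180 (iv7 F348842)))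
theorem Q67063 : ∀ i, i < 67063 → P i := stepQ 67062 Q67062 (allL N67062 (tt N42424 F206466) (tt N42441 (iv0 F206467)) (tt N42440 F206464) (tt N74769 (iv3 F229089)) (tt N75197 F230706) (tt N36614 (iv5 D128343)) (tt N103155 (iv6 F440332)) (tt N42439 F206465))
theorem Q67064 : ∀ i, i < 67064 → P i := stepQ 67063 Q67063 (allL N67063 (tt N63726 (iv1 F307708)) (tt N42704 F278905) (tt N72190 F313379) (tt N36617 F206470) (tt N76017 (iv4 F330124)) (tt N72004 (iv5 F319303)) (tt N36615 (iv6 D128345)) (tt N73606 (iv7 F322966)))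
theorem Q67065 : ∀ i, i < 67065 → P i := stepQ 67064 Q67064 (allL N67064 (tt N101939 (iv1 F435021)) (tt N96724 (iv0 F413616)) (tt N97361 (iv2 F416499)) (tt N36620 (iv3 D128361)) (tt N36648 F206483) (tt N58234 (iv5 F355980)) (tt N36630 F206484) (tt N82179 (iv7 F279069)))
theorem Q67066 : ∀ i, i < 67066 → P i := stepQ 67065 Q67065 (allL N67065 (tt N94434 (iv1 F404469)) (tt N94432 (iv0 F404460)) (tt N101951 (iv2 F435065)) (tt N58234 F355976) (tt N65740 F355974) (tt N36620 (iv5 D128362)) (tt N58231 (iv6 F355975)) (tt N96602 (iv7 F413142)))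
theorem Q67067 : ∀ i, i < 67067 → P i := stepQ 67066 Q67066 (allL N67066 (tt N43219 F206487) (tt N43218 F206488) (tt N43364 F206485) (tt N93504 F400962) (tt N36621 (iv4 D128363)) (tt N99970 (iv5 F427012)) (tt N81722 F359513) (tt N43365 F206486))
theorem Q67068 : ∀ i, i < 67068 → P i := stepQ 67067 Q67067 (allL N67067 (tt N103156 D206342) (tt N103157 D206343) (tt N103158 D206344) (tt N36622 (iv3 D128365)) (tt N93504 F400963) (tt N100830 (iv5 F430680)) (tt N79174 F358861) (tt N93892 (iv7 F402305)))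
theorem Q67069 : ∀ i, i < 67069 → P i := stepQ 67068 Q67068 (allL N67068 (tt N103159 D206345) (tt N103160 D206346) (tt N94136 (iv2 F403383)) (tt N36625 F206491) (tt N99969 (iv4 F427006)) (tt N69644 (iv5 F215322)) (tt N36623 (iv6 D128370)) (tt N101161 (iv7 F432005)))
theorem Q67070 : ∀ i, i < 67070 → P i := stepQ 67069 Q67069 (allL N67069 (tt N103161 D206347) (tt N103162 D206348) (tt N103163 D206349) (tt N36624 (iv3 D128371)) (tt N99968 (iv4 F427000)) (tt N103164 D206350) (tt N103165 D206351) (tt N100129 (iv7 F427596)))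
theorem Q67071 : ∀ i, i < 67071 → P i := stepQ 67070 Q67070 (allL N67070 (tt N76206 F237669) (tt N57198 (iv0 F322062)) (tt N76887 F240282) (tt N103164 (iv3 F440362)) (tt N43890 F206492) (tt N36624 (iv5 D128372)) (tt N103166 D206352) (tt N71907 (iv7 F350051)))
theorem Q67072 : ∀ i, i < 67072 → P i := stepQ 67071 Q67071 (allL N67071 (tt N103167 D206353) (tt N103168 D206354) (tt N100131 (iv2 F427603)) (tt N103165 (iv3 F440368)) (tt N36625 F206494) (tt N87299 (iv5 F379010)) (tt N36624 (iv6 D128373)) (tt N87298 F379008))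
theorem Q67073 : ∀ i, i < 67073 → P i := stepQ 67072 Q67072 (allL N67072 (tt N103000 (iv1 F439625)) (tt N36625 (iv0 D128374)) (tt N77784 (iv2 F244951)) (tt N72397 (iv3 F222404)) (tt N103169 D206355) (tt N44532 F206495) (tt N47725 F311415) (tt N102999 (iv7 F439613)))
theorem Q67074 : ∀ i, i < 67074 → P i := stepQ 67073 Q67073 (allL N67073 (tt N36625 (iv1 D128375)) (tt N103000 F439624) (tt N102999 (iv2 F439617)) (tt N36651 F211146) (tt N47324 F322782) (tt N68595 (iv5 F211145)) (tt N74014 (iv6 F324261)) (tt N77784 (iv7 F244953)))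
theorem Q67075 : ∀ i, i < 67075 → P i := stepQ 67074 Q67074 (allL N67074 (tt N102999 (iv1 F439612)) (tt N77784 F342571) (tt N103000 (iv2 F439619)) (tt N101161 (iv3 F432003)) (tt N87298 (iv4 F379007)) (tt N69645 (iv5 F215345)) (tt N102998 (iv6 F439609)) (tt N36625 (iv7 D128376)))
theorem Q67076 : ∀ i, i < 67076 → P i := stepQ 67075 Q67075 (allL N67075 (tt N103170 D206356) (tt N103171 D206357) (tt N103172 D206358) (tt N36626 (iv3 D128377)) (tt N53235 (iv4 F363682)) (tt N103173 D206359) (tt N103174 D206360) (tt N100130 (iv7 F427600)))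
theorem Q67077 : ∀ i, i < 67077 → P i := stepQ 67076 Q67076 (allL N67076 (tt N57198 (iv1 F322063)) (tt N76206 (iv0 F237668)) (tt N71907 (iv2 F350048)) (tt N103173 (iv3 F440405)) (tt N43887 F206496) (tt N36626 (iv5 D128378)) (tt N71900 F350043) (tt N76887 (iv7 F240279)))
theorem Q67078 : ∀ i, i < 67078 → P i := stepQ 67077 Q67077 (allL N67077 (tt N57077 F321264) (tt N57073 F321265) (tt N57074 (iv2 F350033)) (tt N103174 (iv3 F440411)) (tt N36627 F206498) (tt N71901 (iv5 F350042)) (tt N36626 (iv6 D128379)) (tt N57075 (iv7 F360636)))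
theorem Q67079 : ∀ i, i < 67079 → P i := stepQ 67078 Q67078 (allL N67078 (tt N102998 (iv1 F439611)) (tt N36627 (iv0 D128380)) (tt N102997 F439602) (tt N36655 (iv3 F206500)) (tt N75354 (iv4 F231300)) (tt N82337 (iv5 F280370)) (tt N42867 F206499) (tt N66544 (iv7 F320650)))
theorem Q67080 : ∀ i, i < 67080 → P i := stepQ 67079 Q67079 (allL N67079 (tt N36627 (iv1 D128381)) (tt N102998 F439610) (tt N66544 F363000) (tt N39764 F363001) (tt N75355 F363002) (tt N103175 D206361) (tt N39762 F363003) (tt N102997 (iv7 F439603)))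
theorem Q67081 : ∀ i, i < 67081 → P i := stepQ 67080 Q67080 (allL N67080 (tt N66544 (iv1 F320648)) (tt N102997 F439604) (tt N102998 (iv2 F439605)) (tt N40610 F320820) (tt N57075 F320821) (tt N75752 F350028) (tt N103000 (iv6 F439623)) (tt N36627 (iv7 D128382)))
theorem Q67082 : ∀ i, i < 67082 → P i := stepQ 67081 Q67081 (allL N67081 (tt N82280 (iv1 F400711)) (tt N56844 (iv0 F366454)) (tt N103176 D206362) (tt N36628 (iv3 D128383)) (tt N100031 (iv4 F427294)) (tt N102318 (iv5 F436710)) (tt N103177 D206363) (tt N76215 (iv7 F237857)))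
theorem Q67083 : ∀ i, i < 67083 → P i := stepQ 67082 Q67082 (allL N67082 (tt N43586 F206502) (tt N43589 F206503) (tt N76213 (iv2 F237851)) (tt N102318 (iv3 F436709)) (tt N43881 F206501) (tt N36628 (iv5 D128384)) (tt N103178 D206364) (tt N76216 (iv7 F237860)))
theorem Q67084 : ∀ i, i < 67084 → P i := stepQ 67083 Q67083 (allL N67083 (tt N103169 (iv1 F440389)) (tt N47324 F366097) (tt N76214 (iv2 F237854)) (tt N103177 (iv3 F440426)) (tt N44517 F206504) (tt N88135 (iv5 F381886)) (tt N36628 (iv6 D128385)) (tt N88134 (iv7 F381879)))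
theorem Q67085 : ∀ i, i < 67085 → P i := stepQ 67084 Q67084 (allL N67084 (tt N85117 F371683) (tt N85119 F371689) (tt N91644 F401828) (tt N36629 (iv3 D128386)) (tt N75513 (iv4 F231698)) (tt N93767 (iv5 F401827)) (tt N75356 (iv6 F231301)) (tt N76212 (iv7 F237850)))
theorem Q67086 : ∀ i, i < 67086 → P i := stepQ 67085 Q67085 (allL N67085 (tt N43589 F206506) (tt N43586 F206507) (tt N76216 (iv2 F237858)) (tt N93767 (iv3 F401825)) (tt N43874 F206505) (tt N36629 (iv5 D128387)) (tt N93764 (iv6 F401816)) (tt N76213 (iv7 F237852)))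
theorem Q67087 : ∀ i, i < 67087 → P i := stepQ 67086 Q67086 (allL N67086 (tt N103001 (iv1 F439629)) (tt N36630 (iv0 D128388)) (tt N81123 F352779) (tt N50628 F352780) (tt N80803 F352781) (tt N85635 (iv5 F373295)) (tt N47322 F352782) (tt N85669 (iv7 F373452)))
theorem Q67088 : ∀ i, i < 67088 → P i := stepQ 67087 Q67087 (allL N67087 (tt N36630 (iv1 D128389)) (tt N103001 F439630) (tt N85669 F373455) (tt N93271 (iv3 F400234)) (tt N77751 (iv4 F244852)) (tt N93269 (iv5 F400218)) (tt N93270 (iv6 F400223)) (tt N81123 (iv7 F347892)))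
theorem Q67089 : ∀ i, i < 67089 → P i := stepQ 67088 Q67088 (allL N67088 (tt N81123 F347867) (tt N85669 (iv0 F373453)) (tt N36630 (iv2 D128390)) (tt N101950 (iv3 F435063)) (tt N36659 F206508) (tt N91612 (iv5 F393776)) (tt N97361 (iv6 F416500)) (tt N103001 (iv7 F439628)))
theorem Q67090 : ∀ i, i < 67090 → P i := stepQ 67089 Q67089 (allL N67089 (tt N89324 F386107) (tt N53809 (iv0 F351180)) (tt N91612 F393778) (tt N36631 F206509) (tt N53797 (iv4 F349174)) (tt N36630 (iv5 D128391)) (tt N58233 F355979) (tt N77126 (iv7 F241640)))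
theorem Q67091 : ∀ i, i < 67091 → P i := stepQ 67090 Q67090 (allL N67090 (tt N58314 F345114) (tt N96640 (iv0 F413289)) (tt N77125 (iv2 F241637)) (tt N58233 (iv3 F355978)) (tt N95696 (iv4 F409178)) (tt N58231 F355977) (tt N36631 (iv6 D128392)) (tt N103179 D206365))
theorem Q67092 : ∀ i, i < 67092 → P i := stepQ 67091 Q67091 (allL N67091 (tt N43787 (iv1 F230910)) (tt N43795 F230909) (tt N49044 F310601) (tt N36636 (iv3 D128412)) (tt N75258 (iv4 F230906)) (tt N76144 (iv5 F237035)) (tt N41705 F206537) (tt N49045 F310602))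
theorem Q67093 : ∀ i, i < 67093 → P i := stepQ 67092 Q67092 (allL N67092 (tt N71496 (iv1 F346160)) (tt N70913 F338466) (tt N38875 F332701) (tt N90395 (iv3 F389501)) (tt N38868 F332702) (tt N36640 (iv5 D128432)) (tt N38866 F332703) (tt N42536 F206567))
theorem Q67094 : ∀ i, i < 67094 → P i := stepQ 67093 Q67093 (allL N67093 (tt N91529 (iv1 F393507)) (tt N49041 F361111) (tt N77654 (iv2 F244511)) (tt N36642 (iv3 D128452)) (tt N63753 F206586) (tt N103180 D206366) (tt N75148 F230344) (tt N77656 (iv7 F244513)))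
theorem Q67095 : ∀ i, i < 67095 → P i := stepQ 67094 Q67094 (allL N67094 (tt N42493 F206590) (tt N46511 (iv0 F206591)) (tt N63147 F206587) (tt N103180 (iv3 F440436)) (tt N90060 (iv4 F388452)) (tt N36642 (iv5 D128454)) (tt N42571 F206588) (tt N63118 F206589))
theorem Q67096 : ∀ i, i < 67096 → P i := stepQ 67095 Q67095 (allL N67095 (tt N46028 (iv1 F319010)) (tt N42392 F316645) (tt N46026 F321130) (tt N92809 (iv3 F398322)) (tt N36643 (iv4 D128455)) (tt N94106 (iv5 F403234)) (tt N100325 (iv6 F428434)) (tt N46027 F321131))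
theorem Q67097 : ∀ i, i < 67097 → P i := stepQ 67096 Q67096 (allL N67096 (tt N62395 F333621) (tt N48243 (iv0 F206593)) (tt N73405 (iv2 F318141)) (tt N103142 (iv3 F440266)) (tt N100325 (iv4 F428433)) (tt N62392 (iv5 F315681)) (tt N36643 (iv6 D128456)) (tt N73322 (iv7 F315938)))
theorem Q67098 : ∀ i, i < 67098 → P i := stepQ 67097 Q67097 (allL N67097 (tt N46626 F318179) (tt N46630 F318180) (tt N80386 F318181) (tt N36644 (iv3 D128459)) (tt N36646 F206596) (tt N80386 F318182) (tt N61406 F318183) (tt N45294 F318184))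
theorem Q67099 : ∀ i, i < 67099 → P i := stepQ 67098 Q67098 (allL N67098 (tt N61415 (iv1 F338606)) (tt N61414 (iv0 F338543)) (tt N61416 F355079) (tt N80386 (iv3 F338608)) (tt N103181 D206367) (tt N36644 (iv5 D128460)) (tt N76537 (iv6 F355080)) (tt N61399 F338607))
theorem Q67100 : ∀ i, i < 67100 → P i := stepQ 67099 Q67099 (allL N67099 (tt N81445 (iv1 F353635)) (tt N81398 (iv0 F339214)) (tt N97362 (iv2 F416505)) (tt N36649 F206636) (tt N91206 (iv4 F392257)) (tt N36648 (iv5 D128484)) (tt N98458 F420963) (tt N42834 F206637))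
theorem Q67101 : ∀ i, i < 67101 → P i := stepQ 67100 Q67100 (allL N67100 (tt N74747 (iv1 F228862)) (tt N67927 (iv0 F317156)) (tt N48514 F206638) (tt N98458 F420962) (tt N41689 F206639) (tt N36661 F206640) (tt N36649 (iv6 D128485)) (tt N41687 F206641))
theorem Q67102 : ∀ i, i < 67102 → P i := stepQ 67101 Q67101 (allL N67101 (tt N46180 F308024) (tt N69637 (iv0 F222357)) (tt N72397 (iv2 F222403)) (tt N36650 (iv3 D128487)) (tt N103182 D206368) (tt N72387 F222356) (tt N66567 F333280) (tt N75960 (iv7 F309026)))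
theorem Q67103 : ∀ i, i < 67103 → P i := stepQ 67102 Q67102 (allL N67102 (tt N68573 (iv1 F210871)) (tt N38360 (iv0 F206643)) (tt N68572 F210865) (tt N72387 (iv3 F222353)) (tt N70558 (iv4 F217792)) (tt N36650 (iv5 D128489)) (tt N68577 F211011) (tt N38385 F208061))
theorem Q67104 : ∀ i, i < 67104 → P i := stepQ 67103 Q67103 (allL N67103 (tt N36653 (iv1 D128494)) (tt N41430 F206648) (tt N41427 (iv2 F206651)) (tt N89518 F386704) (tt N41717 F206650) (tt N76056 (iv5 F236067)) (tt N94360 (iv6 F404128)) (tt N41426 F206649))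
theorem Q67105 : ∀ i, i < 67105 → P i := stepQ 67104 Q67104 (allL N67104 (tt N63173 F206653) (tt N63170 F206654) (tt N41429 F206652) (tt N100510 (iv3 F429247)) (tt N74516 (iv4 F228108)) (tt N36653 (iv5 D128495)) (tt N103183 D206369) (tt N74514 (iv7 F228106)))
theorem Q67106 : ∀ i, i < 67106 → P i := stepQ 67105 Q67105 (allL N67105 (tt N73812 (iv1 F349966)) (tt N55975 F349959) (tt N40641 F320125) (tt N55980 (iv3 F336171)) (tt N36654 F206656) (tt N74274 (iv5 F349981)) (tt N36653 (iv6 D128496)) (tt N73810 (iv7 F349978)))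
theorem Q67107 : ∀ i, i < 67107 → P i := stepQ 67106 Q67106 (allL N67106 (tt N55021 F359964) (tt N103184 D206370) (tt N77522 F359337) (tt N36657 (iv3 D128501)) (tt N75523 F231732) (tt N66314 (iv5 F347034)) (tt N47319 F339205) (tt N77526 F346492))
theorem Q67108 : ∀ i, i < 67108 → P i := stepQ 67107 Q67107 (allL N67107 (tt N103185 D206371) (tt N103186 D206372) (tt N74213 (iv2 F346509)) (tt N98164 (iv3 F419790)) (tt N36657 (iv4 D128502)) (tt N98163 F419788) (tt N47223 F339206) (tt N103016 (iv7 F439684)))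
theorem Q67109 : ∀ i, i < 67109 → P i := stepQ 67108 Q67108 (allL N67108 (tt N54323 F339207) (tt N42637 F339208) (tt N71484 (iv2 F362173)) (tt N66314 F347035) (tt N54447 (iv4 F347042)) (tt N36657 (iv5 D128503)) (tt N47543 F339210) (tt N71487 (iv7 F362168)))
theorem Q67110 : ∀ i, i < 67110 → P i := stepQ 67109 Q67109 (allL N67109 (tt N55908 (iv1 F362008)) (tt N57385 (iv0 F346516)) (tt N57383 F346513) (tt N36658 (iv3 D128506)) (tt N56850 (iv4 F346505)) (tt N66330 F346514) (tt N57017 (iv6 F346512)) (tt N57382 F346511))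
theorem Q67111 : ∀ i, i < 67111 → P i := stepQ 67110 Q67110 (allL N67110 (tt N103186 (iv1 F440472)) (tt N103185 F440470) (tt N103016 (iv2 F439681)) (tt N56851 F346504) (tt N36658 (iv4 D128507)) (tt N96065 (iv5 F410877)) (tt N57019 (iv6 F346503)) (tt N74213 (iv7 F346506)))
theorem Q67112 : ∀ i, i < 67112 → P i := stepQ 67111 Q67111 (allL N67111 (tt N42637 F339198) (tt N54323 F339199) (tt N71487 (iv2 F362165)) (tt N66330 (iv3 F346515)) (tt N71476 F346519) (tt N36658 (iv5 D128508)) (tt N47806 F339201) (tt N71484 (iv7 F362176)))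
theorem Q67113 : ∀ i, i < 67113 → P i := stepQ 67112 Q67112 (allL N67112 (tt N60631 F346497) (tt N60642 F346498) (tt N101885 (iv2 F434815)) (tt N57017 F346499) (tt N57019 F346500) (tt N80751 F346501) (tt N36658 (iv6 D128509)) (tt N47321 F346502))
theorem Q67114 : ∀ i, i < 67114 → P i := stepQ 67113 Q67113 (allL N67113 (tt N44998 (iv1 F206671)) (tt N44997 F206672) (tt N36660 F206668) (tt N66767 F206669) (tt N103187 D206373) (tt N36659 (iv5 D128510)) (tt N81472 F347643) (tt N44999 F206670))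
theorem Q67115 : ∀ i, i < 67115 → P i := stepQ 67114 Q67114 (allL N67114 (tt N44999 (iv1 F206673)) (tt N36660 (iv0 D128511)) (tt N44998 F349885) (tt N60078 F346464) (tt N98992 F422957) (tt N77683 F349919) (tt N60076 (iv6 F346463)) (tt N44997 F349886))
theorem Q67116 : ∀ i, i < 67116 → P i := stepQ 67115 Q67115 (allL N67115 (tt N36660 (iv1 D128512)) (tt N44999 F206674) (tt N44997 F349891) (tt N71368 F349892) (tt N98991 (iv4 F422951)) (tt N71367 F349893) (tt N80827 (iv6 F349897)) (tt N44998 F349894))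
theorem Q67117 : ∀ i, i < 67117 → P i := stepQ 67116 Q67116 (allL N67116 (tt N103188 D206374) (tt N77734 (iv0 F244824)) (tt N103187 (iv2 F440478)) (tt N44995 F206675) (tt N36660 (iv4 D128513)) (tt N100273 (iv5 F428193)) (tt N103189 D206375) (tt N44993 F206676))
theorem Q67118 : ∀ i, i < 67118 → P i := stepQ 67117 Q67117 (allL N67117 (tt N81413 F354525) (tt N80646 F354526) (tt N81472 (iv2 F347645)) (tt N36661 F206677) (tt N103189 (iv4 F440490)) (tt N98458 (iv5 F420961)) (tt N36660 (iv6 D128514)) (tt N81473 (iv7 F334753)))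
theorem Q67119 : ∀ i, i < 67119 → P i := stepQ 67118 Q67118 (allL N67118 (tt N44973 (iv1 F206681)) (tt N36666 (iv0 D128515)) (tt N61620 (iv2 F206680)) (tt N103190 D206376) (tt N44956 F206679) (tt N61620 F206678) (tt N103191 D206377) (tt N61619 F206682))
theorem Q67120 : ∀ i, i < 67120 → P i := stepQ 67119 Q67119 (allL N67119 (tt N54024 F349165) (tt N54020 F361002) (tt N83098 (iv2 F361001)) (tt N36666 (iv3 D128516)) (tt N63475 F206683) (tt N78790 (iv5 F250888)) (tt N95983 (iv6 F410519)) (tt N61656 F206684))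
theorem Q67121 : ∀ i, i < 67121 → P i := stepQ 67120 Q67120 (allL N67120 (tt N97731 (iv1 F418099)) (tt N103192 D206378) (tt N61665 F206685) (tt N95983 (iv3 F410518)) (tt N36667 F206686) (tt N75089 (iv5 F417094)) (tt N36666 (iv6 D128517)) (tt N103193 D206379))
theorem Q67122 : ∀ i, i < 67122 → P i := stepQ 67121 Q67121 (allL N67121 (tt N61667 (iv1 F206694)) (tt N36667 (iv0 D128518)) (tt N61183 (iv2 F290533)) (tt N73594 (iv3 F366042)) (tt N98645 (iv4 F421718)) (tt N73593 (iv5 F366043)) (tt N103194 D206380) (tt N61666 F206697))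
theorem Q67123 : ∀ i, i < 67123 → P i := stepQ 67122 Q67122 (allL N67122 (tt N61666 (iv1 F206695)) (tt N61183 (iv0 F290531)) (tt N61667 F206690) (tt N63469 F206691) (tt N103193 (iv4 F440503)) (tt N61171 F206692) (tt N61660 F206693) (tt N36667 (iv7 D128520)))
theorem Q67124 : ∀ i, i < 67124 → P i := stepQ 67123 Q67123 (allL N67123 (tt N66375 (iv1 F206705)) (tt N56005 F206706) (tt N71923 (iv2 F220933)) (tt N55864 F206701) (tt N56762 F206702) (tt N44325 F206703) (tt N55942 F206704) (tt N36669 (iv7 D128521)))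
theorem Q67125 : ∀ i, i < 67125 → P i := stepQ 67124 Q67124 (allL N67124 (tt N40710 (iv1 F206709)) (tt N40706 F206710) (tt N55942 F206707) (tt N55368 (iv3 F328543)) (tt N55376 (iv4 F360800)) (tt N69726 (iv5 F215970)) (tt N71923 (iv6 F220937)) (tt N36670 (iv7 D128522)))
theorem Q67126 : ∀ i, i < 67126 → P i := stepQ 67125 Q67125 (allL N67125 (tt N39659 (iv1 F206723)) (tt N39658 F206722) (tt N36671 (iv2 D128525)) (tt N66449 F206719) (tt N39155 F206720) (tt N103195 D206381) (tt N54483 F352922) (tt N39660 F206721))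
theorem Q67127 : ∀ i, i < 67127 → P i := stepQ 67126 Q67126 (allL N67126 (tt N71580 (iv1 F220922)) (tt N71583 F220921) (tt N103195 (iv2 F440511)) (tt N36672 F206724) (tt N103196 D206382) (tt N36671 (iv5 D128526)) (tt N95558 (iv6 F408647)) (tt N39661 F206725))
theorem Q67128 : ∀ i, i < 67128 → P i := stepQ 67127 Q67127 (allL N67127 (tt N102863 (iv1 F438996)) (tt N102865 (iv0 F439002)) (tt N67150 (iv2 F206791)) (tt N95558 (iv3 F408646)) (tt N39662 F206728) (tt N95557 (iv5 F408645)) (tt N36672 (iv6 D128528)) (tt N103197 D206383))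
theorem Q67129 : ∀ i, i < 67129 → P i := stepQ 67128 Q67128 (allL N67128 (tt N56009 (iv1 F206731)) (tt N56006 F206732) (tt N67152 (iv2 F206794)) (tt N53401 (iv3 F344586)) (tt N39150 F206729) (tt N59908 F344587) (tt N39666 F206730) (tt N36673 (iv7 D128530)))
theorem Q67130 : ∀ i, i < 67130 → P i := stepQ 67129 Q67129 (allL N67129 (tt N36674 (iv1 D128531)) (tt N66449 F206737) (tt N62478 (iv2 F206738)) (tt N73626 (iv3 F225282)) (tt N102643 (iv4 F438013)) (tt N82609 (iv5 F339724)) (tt N103198 D206384) (tt N66452 (iv7 F206739)))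
theorem Q67131 : ∀ i, i < 67131 → P i := stepQ 67130 Q67130 (allL N67130 (tt N66452 (iv1 F206741)) (tt N62478 F206736) (tt N36674 (iv2 D128532)) (tt N39660 F206733) (tt N66244 F206734) (tt N103199 D206385) (tt N53410 F363716) (tt N66449 F206735))
theorem Q67132 : ∀ i, i < 67132 → P i := stepQ 67131 Q67131 (allL N67131 (tt N99724 F425918) (tt N103200 D206386) (tt N103199 (iv2 F440530)) (tt N36675 F206742) (tt N103201 D206387) (tt N36674 (iv5 D128533)) (tt N82950 F339722) (tt N66453 F206743))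
theorem Q67133 : ∀ i, i < 67133 → P i := stepQ 67132 Q67132 (allL N67132 (tt N54479 (iv1 F339833)) (tt N54478 (iv0 F360231)) (tt N53410 (iv2 F339830)) (tt N36676 F206744) (tt N66246 F206745) (tt N51624 (iv5 F339720)) (tt N36674 (iv6 D128534)) (tt N54480 F339829))
theorem Q67134 : ∀ i, i < 67134 → P i := stepQ 67133 Q67133 (allL N67133 (tt N78891 F365051) (tt N103202 D206388) (tt N39662 F206746) (tt N82950 (iv3 F339723)) (tt N67150 (iv4 F206792)) (tt N102963 (iv5 F439465)) (tt N36675 (iv6 D128535)) (tt N102962 (iv7 F439459)))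
theorem Q67135 : ∀ i, i < 67135 → P i := stepQ 67134 Q67134 (allL N67134 (tt N78841 F339729) (tt N51629 (iv0 F339728)) (tt N39665 F206747) (tt N51624 F339721) (tt N61504 (iv4 F339726)) (tt N36676 (iv5 D128536)) (tt N102963 (iv6 F439466)) (tt N78840 (iv7 F339727)))
theorem Q67136 : ∀ i, i < 67136 → P i := stepQ 67135 Q67135 (allL N67135 (tt N39664 (iv1 F206750)) (tt N39663 F206751) (tt N39666 F206748) (tt N54480 (iv3 F339831)) (tt N39657 F206749) (tt N78840 F350552) (tt N67152 (iv6 F206796)) (tt N36676 (iv7 D128537)))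
theorem Q67137 : ∀ i, i < 67137 → P i := stepQ 67136 Q67136 (allL N67136 (tt N73626 (iv1 F225283)) (tt N62474 (iv0 F206754)) (tt N69689 (iv2 F215903)) (tt N36677 (iv3 D128539)) (tt N40046 F206753) (tt N98277 (iv5 F420293)) (tt N96604 F413150) (tt N69693 (iv7 F215905)))
theorem Q67138 : ∀ i, i < 67138 → P i := stepQ 67137 Q67137 (allL N67137 (tt N62371 F206755) (tt N61192 (iv0 F340001)) (tt N56770 F206768) (tt N103203 D206389) (tt N36677 (iv4 D128540)) (tt N61305 (iv5 F340035)) (tt N57020 (iv6 F340041)) (tt N73571 (iv7 F225051)))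
theorem Q67139 : ∀ i, i < 67139 → P i := stepQ 67138 Q67138 (allL N67138 (tt N91633 F393844) (tt N96078 (iv0 F410940)) (tt N74025 (iv2 F226633)) (tt N96604 (iv3 F413147)) (tt N57020 F340043) (tt N92088 (iv5 F395690)) (tt N36677 (iv6 D128542)) (tt N96087 (iv7 F410984)))
theorem Q67140 : ∀ i, i < 67140 → P i := stepQ 67139 Q67139 (allL N67139 (tt N57083 F206759) (tt N57085 F206760) (tt N59181 F206758) (tt N36678 (iv3 D128544)) (tt N59180 (iv4 F206757)) (tt N98271 (iv5 F420269)) (tt N87193 (iv6 F378663)) (tt N74023 (iv7 F226628)))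
theorem Q67141 : ∀ i, i < 67141 → P i := stepQ 67140 Q67140 (allL N67140 (tt N61192 (iv1 F340002)) (tt N62371 (iv0 F206762)) (tt N73571 (iv2 F225053)) (tt N56774 F206761) (tt N36678 (iv4 D128545)) (tt N61307 (iv5 F340033)) (tt N103204 D206390) (tt N56770 (iv7 F206763)))
theorem Q67142 : ∀ i, i < 67142 → P i := stepQ 67141 Q67141 (allL N67141 (tt N66537 F392747) (tt N103205 D206391) (tt N74022 (iv2 F226627)) (tt N87193 (iv3 F378661)) (tt N103204 (iv4 F440561)) (tt N79969 (iv5 F355727)) (tt N36678 (iv6 D128547)) (tt N92644 (iv7 F397734)))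
theorem Q67143 : ∀ i, i < 67143 → P i := stepQ 67142 Q67142 (allL N67142 (tt N91104 F391950) (tt N91098 (iv0 F391912)) (tt N82607 F340523) (tt N36681 (iv3 D128553)) (tt N103206 D206392) (tt N39113 F206772) (tt N82604 (iv6 F340524)) (tt N39520 F206773))
theorem Q67144 : ∀ i, i < 67144 → P i := stepQ 67143 Q67143 (allL N67143 (tt N67163 (iv1 F206815)) (tt N36683 (iv0 D128557)) (tt N67161 F415176) (tt N97260 (iv3 F416114)) (tt N60279 (iv4 F340022)) (tt N97259 F416112) (tt N103207 D206393) (tt N67162 F415174))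
theorem Q67145 : ∀ i, i < 67145 → P i := stepQ 67144 Q67144 (allL N67144 (tt N36683 (iv1 D128558)) (tt N67163 F206814) (tt N67162 (iv2 F415175)) (tt N103208 D206394) (tt N60280 (iv4 F365011)) (tt N103209 D206395) (tt N103210 D206396) (tt N67161 (iv7 F415171)))
theorem Q67146 : ∀ i, i < 67146 → P i := stepQ 67145 Q67145 (allL N67145 (tt N61960 (iv1 F206778)) (tt N36684 (iv0 D128560)) (tt N61959 F224183) (tt N70993 (iv3 F224171)) (tt N103211 D206397) (tt N61972 (iv5 F330555)) (tt N62497 (iv6 F330559)) (tt N61958 F224181))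
theorem Q67147 : ∀ i, i < 67147 → P i := stepQ 67146 Q67146 (allL N67146 (tt N36684 (iv1 D128561)) (tt N61960 F206784) (tt N61958 (iv2 F224182)) (tt N61992 F330558) (tt N102861 (iv4 F438984)) (tt N61977 (iv5 F330557)) (tt N103212 D206398) (tt N61959 (iv7 F224184)))
theorem Q67148 : ∀ i, i < 67148 → P i := stepQ 67147 Q67147 (allL N67147 (tt N61959 (iv1 F206785)) (tt N61958 F206783) (tt N36684 (iv2 D128562)) (tt N61965 F206779) (tt N36690 F206780) (tt N103213 D206399) (tt N60213 F206781) (tt N61960 F206782))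
theorem Q67149 : ∀ i, i < 67149 → P i := stepQ 67148 Q67148 (allL N67148 (tt N103214 D206400) (tt N103215 D206401) (tt N103213 (iv2 F440595)) (tt N36685 F206786) (tt N92551 (iv4 F397344)) (tt N36684 (iv5 D128563)) (tt N97214 (iv6 F415929)) (tt N61880 F206787))
theorem Q67150 : ∀ i, i < 67150 → P i := stepQ 67149 Q67149 (allL N67149 (tt N103216 D206402) (tt N99731 (iv0 F425955)) (tt N61883 F206788) (tt N97214 (iv3 F415927)) (tt N58755 F206789) (tt N60215 F206790) (tt N36685 (iv6 D128564)) (tt N97211 (iv7 F415917)))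
theorem Q67151 : ∀ i, i < 67151 → P i := stepQ 67150 Q67150 (allL N67150 (tt N103217 D206403) (tt N103218 D206404) (tt N67127 F206791) (tt N93178 (iv3 F399824)) (tt N67133 F206792) (tt N103219 D206405) (tt N36686 (iv6 D128565)) (tt N103220 D206406))
theorem Q67152 : ∀ i, i < 67152 → P i := stepQ 67151 Q67151 (allL N67151 (tt N68090 (iv1 F209139)) (tt N96914 (iv0 F414587)) (tt N58573 (iv2 F344590)) (tt N96918 (iv3 F414607)) (tt N65514 F349583) (tt N36687 (iv5 D128566)) (tt N103219 (iv6 F440632)) (tt N65703 (iv7 F349582)))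
theorem Q67153 : ∀ i, i < 67153 → P i := stepQ 67152 Q67152 (allL N67152 (tt N59128 (iv1 F206797)) (tt N59125 F206798) (tt N67128 F206794) (tt N90679 (iv3 F390494)) (tt N56592 F206795) (tt N65703 (iv5 F344588)) (tt N67135 F206796) (tt N36687 (iv7 D128567)))
theorem Q67154 : ∀ i, i < 67154 → P i := stepQ 67153 Q67153 (allL N67153 (tt N74090 (iv1 F365097)) (tt N62627 F365085) (tt N74093 F365079) (tt N67159 (iv3 F206802)) (tt N41159 F206799) (tt N36688 (iv5 D128569)) (tt N96916 (iv6 F414597)) (tt N74092 F365088))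
theorem Q67155 : ∀ i, i < 67155 → P i := stepQ 67154 Q67154 (allL N67154 (tt N62627 (iv1 F355426)) (tt N74090 F365104) (tt N74092 F365086) (tt N74329 F227355) (tt N88272 (iv4 F382417)) (tt N36689 (iv5 D128571)) (tt N95880 (iv6 F410070)) (tt N74093 F365081))
theorem Q67156 : ∀ i, i < 67156 → P i := stepQ 67155 Q67155 (allL N67155 (tt N71828 (iv1 F408126)) (tt N102874 F439042) (tt N75921 (iv2 F408123)) (tt N96878 (iv3 F414411)) (tt N99196 (iv4 F423653)) (tt N75856 F408124) (tt N36689 (iv6 D128572)) (tt N75926 F408125))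
theorem Q67157 : ∀ i, i < 67157 → P i := stepQ 67156 Q67156 (allL N67156 (tt N99638 (iv1 F425535)) (tt N74125 F365092) (tt N36691 F206800) (tt N60198 (iv3 F331480)) (tt N95397 (iv4 F408116)) (tt N36690 (iv5 D128573)) (tt N95555 (iv6 F408634)) (tt N60195 F365025))
theorem Q67158 : ∀ i, i < 67158 → P i := stepQ 67157 Q67157 (allL N67157 (tt N60195 (iv1 F365026)) (tt N36691 (iv0 D128574)) (tt N99638 (iv2 F425540)) (tt N99656 (iv3 F425615)) (tt N62639 F365098) (tt N41121 F365099) (tt N87868 (iv6 F380907)) (tt N74125 F365100))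
theorem Q67159 : ∀ i, i < 67159 → P i := stepQ 67158 Q67158 (allL N67158 (tt N36691 (iv1 D128575)) (tt N60195 F365027) (tt N74125 F365101) (tt N96772 (iv3 F413856)) (tt N74117 F365102) (tt N41122 F365103) (tt N96770 F413849) (tt N99638 (iv7 F425536)))
theorem Q67160 : ∀ i, i < 67160 → P i := stepQ 67159 Q67159 (allL N67159 (tt N103221 D206407) (tt N103222 D206408) (tt N95397 (iv2 F408113)) (tt N67153 F206802) (tt N36691 (iv4 D128576)) (tt N59814 (iv5 F336220)) (tt N59907 F336221) (tt N99639 (iv7 F425544)))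
theorem Q67161 : ∀ i, i < 67161 → P i := stepQ 67160 Q67160 (allL N67160 (tt N97244 (iv1 F416049)) (tt N97243 F416048) (tt N95555 (iv2 F408633)) (tt N36693 F206804) (tt N59907 (iv4 F336222)) (tt N60242 F206805) (tt N36691 (iv6 D128577)) (tt N95633 (iv7 F408961)))
theorem Q67162 : ∀ i, i < 67162 → P i := stepQ 67161 Q67161 (allL N67161 (tt N60155 (iv1 F331502)) (tt N36693 (iv0 D128580)) (tt N67143 (iv2 F415176)) (tt N103223 D206409) (tt N60153 (iv4 F365012)) (tt N103224 D206410) (tt N103225 D206411) (tt N67144 F415171))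
theorem Q67163 : ∀ i, i < 67163 → P i := stepQ 67162 Q67162 (allL N67162 (tt N36693 (iv1 D128581)) (tt N60155 (iv0 F331501)) (tt N67144 F415175) (tt N103226 D206412) (tt N60152 (iv4 F340029)) (tt N103227 D206413) (tt N103228 D206414) (tt N67143 (iv7 F415174)))
theorem Q67164 : ∀ i, i < 67164 → P i := stepQ 67163 Q67163 (allL N67163 (tt N67144 (iv1 F206814)) (tt N67143 F206815) (tt N60155 (iv2 F331503)) (tt N95633 (iv3 F408959)) (tt N74178 (iv4 F226902)) (tt N60246 F206812) (tt N60151 F365013) (tt N36693 (iv7 D128582)))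
theorem Q67165 : ∀ i, i < 67165 → P i := stepQ 67164 Q67164 (allL N67164 (tt N103229 D206415) (tt N74663 (iv0 F347586)) (tt N102115 (iv2 F435802)) (tt N36694 (iv3 D128583)) (tt N56487 F206816) (tt N67392 (iv5 F207157)) (tt N68674 (iv6 F211351)) (tt N36734 F206817))
theorem Q67166 : ∀ i, i < 67166 → P i := stepQ 67165 Q67165 (allL N67165 (tt N97881 (iv1 F418654)) (tt N102303 F436623) (tt N65789 (iv2 F360026)) (tt N36695 (iv3 D128584)) (tt N38116 F206818) (tt N65753 (iv5 F330428)) (tt N60861 (iv6 F328041)) (tt N36743 F206819))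
theorem Q67167 : ∀ i, i < 67167 → P i := stepQ 67166 Q67166 (allL N67166 (tt N36772 (iv1 F206820)) (tt N36696 (iv0 D128585)) (tt N36771 F214641) (tt N103230 D206416) (tt N60805 (iv4 F347576)) (tt N67358 (iv5 F362262)) (tt N103231 D206417) (tt N36770 F214642))
theorem Q67168 : ∀ i, i < 67168 → P i := stepQ 67167 Q67167 (allL N67167 (tt N36696 (iv1 D128586)) (tt N36772 F206824) (tt N36770 F214638) (tt N101850 (iv3 F434660)) (tt N60804 (iv4 F332632)) (tt N67359 (iv5 F362255)) (tt N68661 F362256) (tt N36771 F214639))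
theorem Q67169 : ∀ i, i < 67169 → P i := stepQ 67168 Q67168 (allL N67168 (tt N36771 (iv1 F206825)) (tt N36770 F206823) (tt N36696 (iv2 D128587)) (tt N36751 F206821) (tt N60836 F336929) (tt N103232 D206418) (tt N97053 (iv6 F415232)) (tt N36772 F206822))
theorem Q67170 : ∀ i, i < 67170 → P i := stepQ 67169 Q67169 (allL N67169 (tt N98019 (iv1 F419189)) (tt N103233 D206419) (tt N103232 (iv2 F440691)) (tt N36697 F206826) (tt N103234 D206420) (tt N36696 (iv5 D128588)) (tt N97616 (iv6 F417612)) (tt N36773 F206827))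
theorem Q67171 : ∀ i, i < 67171 → P i := stepQ 67170 Q67170 (allL N67170 (tt N36751 (iv1 F206829)) (tt N36698 (iv0 D128590)) (tt N36750 F352476) (tt N69794 F216169) (tt N71631 (iv4 F352543)) (tt N67332 F352473) (tt N71630 F352547) (tt N36749 F352477))
theorem Q67172 : ∀ i, i < 67172 → P i := stepQ 67171 Q67171 (allL N67171 (tt N36698 (iv1 D128591)) (tt N36751 F206833) (tt N36749 F339369) (tt N103235 D206421) (tt N70268 (iv4 F217104)) (tt N67333 F339370) (tt N103236 D206422) (tt N36750 F339371))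
theorem Q67173 : ∀ i, i < 67173 → P i := stepQ 67172 Q67172 (allL N67172 (tt N36750 (iv1 F206834)) (tt N36749 F206832) (tt N36698 (iv2 D128592)) (tt N36772 F206830) (tt N94480 (iv4 F404654)) (tt N103237 D206423) (tt N56984 (iv6 F345755)) (tt N36751 F206831))
theorem Q67174 : ∀ i, i < 67174 → P i := stepQ 67173 Q67173 (allL N67173 (tt N81362 (iv1 F352566)) (tt N81361 (iv0 F352478)) (tt N103237 (iv2 F440707)) (tt N36699 F206835) (tt N80716 (iv4 F345382)) (tt N36698 (iv5 D128593)) (tt N103238 D206424) (tt N36752 F206836))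
theorem Q67175 : ∀ i, i < 67175 → P i := stepQ 67174 Q67174 (allL N67174 (tt N60626 (iv1 F345759)) (tt N60636 F345758) (tt N56984 F345756) (tt N36700 F206837) (tt N88655 (iv4 F383750)) (tt N56983 (iv5 F345757)) (tt N36698 (iv6 D128594)) (tt N60633 F355853))
theorem Q67176 : ∀ i, i < 67176 → P i := stepQ 67175 Q67175 (allL N67175 (tt N101081 (iv1 F431583)) (tt N65559 (iv0 F348404)) (tt N36774 F206838) (tt N103238 (iv3 F440715)) (tt N60533 (iv4 F328358)) (tt N97042 (iv5 F415183)) (tt N36699 (iv6 D128595)) (tt N97620 (iv7 F417632)))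
theorem Q67177 : ∀ i, i < 67177 → P i := stepQ 67176 Q67176 (allL N67176 (tt N36701 (iv1 D128598)) (tt N36813 F206845) (tt N36811 F207735) (tt N37184 F207736) (tt N69219 (iv4 F213418)) (tt N103233 (iv5 F440698)) (tt N56509 (iv6 F342927)) (tt N36812 F207737))
theorem Q67178 : ∀ i, i < 67178 → P i := stepQ 67177 Q67177 (allL N67177 (tt N36812 (iv1 F206846)) (tt N36811 F206844) (tt N36701 (iv2 D128599)) (tt N36793 F206841) (tt N61697 F206842) (tt N80724 F362252) (tt N97746 (iv6 F418132)) (tt N36813 F206843))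
theorem Q67179 : ∀ i, i < 67179 → P i := stepQ 67178 Q67178 (allL N67178 (tt N67292 (iv1 F362260)) (tt N67294 F362254) (tt N80724 F362251) (tt N36702 F206847) (tt N103239 D206425) (tt N36701 (iv5 D128600)) (tt N80739 (iv6 F362267)) (tt N36814 F206848))
theorem Q67180 : ∀ i, i < 67180 → P i := stepQ 67179 Q67179 (allL N67179 (tt N97562 (iv1 F417390)) (tt N92109 F395762) (tt N97746 F418133) (tt N36703 F206849) (tt N50956 (iv4 F333515)) (tt N67364 F362306) (tt N36701 (iv6 D128601)) (tt N67363 F332866))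
theorem Q67181 : ∀ i, i < 67181 → P i := stepQ 67180 Q67180 (allL N67180 (tt N91956 (iv1 F395127)) (tt N52359 F362305) (tt N36798 F206851) (tt N80739 F362268) (tt N67200 (iv4 F206906)) (tt N86977 (iv5 F377919)) (tt N36702 (iv6 D128602)) (tt N103240 D206426))
theorem Q67182 : ∀ i, i < 67182 → P i := stepQ 67181 Q67181 (allL N67181 (tt N36802 (iv1 F206856)) (tt N36703 (iv0 D128603)) (tt N36799 (iv2 F206853)) (tt N91817 (iv3 F394538)) (tt N39013 F206852) (tt N91816 F394536) (tt N56530 (iv6 F206854)) (tt N36800 (iv7 F206855)))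
theorem Q67183 : ∀ i, i < 67183 → P i := stepQ 67182 Q67182 (allL N67182 (tt N36703 (iv1 D128604)) (tt N36802 F206857) (tt N36800 (iv2 F206860)) (tt N97951 (iv3 F418940)) (tt N38847 F206859) (tt N103241 D206427) (tt N92102 F395738) (tt N36799 F206858))
theorem Q67184 : ∀ i, i < 67184 → P i := stepQ 67183 Q67183 (allL N67183 (tt N69470 (iv1 F214452)) (tt N103242 D206428) (tt N36801 F206861) (tt N67364 (iv3 F362273)) (tt N86978 (iv4 F377925)) (tt N36703 (iv5 D128605)) (tt N86977 F377920) (tt N67361 F362271))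
theorem Q67185 : ∀ i, i < 67185 → P i := stepQ 67184 Q67184 (allL N67184 (tt N36800 (iv1 F206865)) (tt N36799 F206866) (tt N36802 F206862) (tt N67363 (iv3 F362286)) (tt N36705 F206863) (tt N67361 F362270) (tt N36820 F206864) (tt N36703 (iv7 D128606)))
theorem Q67186 : ∀ i, i < 67186 → P i := stepQ 67185 Q67185 (allL N67185 (tt N36708 F206869) (tt N36834 (iv0 F206870)) (tt N36805 F206867) (tt N103243 D206429) (tt N36704 (iv4 D128607)) (tt N65632 F358187) (tt N102180 (iv6 F436067)) (tt N36803 F206868))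
theorem Q67187 : ∀ i, i < 67187 → P i := stepQ 67186 Q67186 (allL N67186 (tt N59126 F206875) (tt N36877 (iv0 F206876)) (tt N36807 F206871) (tt N56519 F206872) (tt N102180 (iv4 F436065)) (tt N56504 F206873) (tt N36704 (iv6 D128608)) (tt N56532 F206874))
theorem Q67188 : ∀ i, i < 67188 → P i := stepQ 67187 Q67187 (allL N67187 (tt N36837 (iv1 F206877)) (tt N36706 (iv0 D128609)) (tt N36836 F355008) (tt N92185 (iv3 F396145)) (tt N103244 D206430) (tt N103245 D206431) (tt N92183 (iv6 F396140)) (tt N36835 F355009))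
theorem Q67189 : ∀ i, i < 67189 → P i := stepQ 67188 Q67188 (allL N67188 (tt N36706 (iv1 D128610)) (tt N36837 F206882) (tt N36835 F354993) (tt N45840 F354994) (tt N103246 D206432) (tt N45834 F354995) (tt N56534 F354996) (tt N36836 F354997))
theorem Q67190 : ∀ i, i < 67190 → P i := stepQ 67189 Q67189 (allL N67189 (tt N36836 (iv1 F206883)) (tt N36835 F206881) (tt N36706 (iv2 D128611)) (tt N36826 F206878) (tt N38492 F206879) (tt N103247 D206433) (tt N103248 D206434) (tt N36837 F206880))
theorem Q67191 : ∀ i, i < 67191 → P i := stepQ 67190 Q67190 (allL N67190 (tt N103249 D206435) (tt N102402 F437087) (tt N103247 (iv2 F440769)) (tt N36707 F206884) (tt N103250 D206436) (tt N36706 (iv5 D128612)) (tt N80096 F364830) (tt N36838 F206885))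
theorem Q67192 : ∀ i, i < 67192 → P i := stepQ 67191 Q67191 (allL N67191 (tt N80423 F364716) (tt N103251 D206437) (tt N103248 (iv2 F440776)) (tt N36708 F206886) (tt N38494 F206887) (tt N103252 D206438) (tt N36706 (iv6 D128613)) (tt N103253 D206439))
theorem Q67193 : ∀ i, i < 67193 → P i := stepQ 67192 Q67192 (allL N67192 (tt N97604 (iv1 F417560)) (tt N86985 (iv0 F377945)) (tt N36832 F206888) (tt N80096 (iv3 F364829)) (tt N65617 F206889) (tt N86937 (iv5 F377777)) (tt N36707 (iv6 D128614)) (tt N103254 D206440))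
theorem Q67194 : ∀ i, i < 67194 → P i := stepQ 67193 Q67193 (allL N67193 (tt N67579 (iv1 F207415)) (tt N103255 D206441) (tt N36833 F206890) (tt N103252 (iv3 F440801)) (tt N91298 (iv4 F392608)) (tt N36708 (iv5 D128615)) (tt N86937 F377775) (tt N103256 D206442))
theorem Q67195 : ∀ i, i < 67195 → P i := stepQ 67194 Q67194 (allL N67194 (tt N36805 (iv1 F206894)) (tt N36803 F206895) (tt N36834 F206891) (tt N103253 (iv3 F440803)) (tt N38190 F206892) (tt N103256 (iv5 F440823)) (tt N36842 F206893) (tt N36708 (iv7 D128616)))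
theorem Q67196 : ∀ i, i < 67196 → P i := stepQ 67195 Q67195 (allL N67195 (tt N36826 (iv1 F206896)) (tt N36709 (iv0 D128617)) (tt N36825 F403290) (tt N103257 D206443) (tt N103258 D206444) (tt N103259 D206445) (tt N56541 F403291) (tt N36824 F403292))
theorem Q67197 : ∀ i, i < 67197 → P i := stepQ 67196 Q67196 (allL N67196 (tt N36709 (iv1 D128618)) (tt N36826 F206900) (tt N36824 F403293) (tt N97748 (iv3 F418147)) (tt N103260 D206446) (tt N103261 D206447) (tt N97733 F418107) (tt N36825 F403294))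
theorem Q67198 : ∀ i, i < 67198 → P i := stepQ 67197 Q67197 (allL N67197 (tt N36825 (iv1 F206901)) (tt N36824 F206899) (tt N36709 (iv2 D128619)) (tt N36837 F206897) (tt N92258 (iv4 F396497)) (tt N92103 F395745) (tt N103262 D206448) (tt N36826 F206898))
theorem Q67199 : ∀ i, i < 67199 → P i := stepQ 67198 Q67198 (allL N67198 (tt N92082 (iv1 F395672)) (tt N65657 (iv0 F362934)) (tt N92103 (iv2 F395743)) (tt N36710 F206902) (tt N91806 (iv4 F394499)) (tt N36709 (iv5 D128620)) (tt N91805 F394497) (tt N36828 F206903))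
theorem Q67200 : ∀ i, i < 67200 → P i := stepQ 67199 Q67199 (allL N67199 (tt N53022 F365710) (tt N103263 D206449) (tt N103262 (iv2 F440855)) (tt N36711 F206904) (tt N92260 (iv4 F396504)) (tt N88744 (iv5 F383995)) (tt N36709 (iv6 D128621)) (tt N103264 D206450))
theorem Q67201 : ∀ i, i < 67201 → P i := stepQ 67200 Q67200 (allL N67200 (tt N60531 F365653) (tt N102341 F436809) (tt N36840 F206905) (tt N91805 (iv3 F394495)) (tt N67180 F206906) (tt N97862 (iv5 F418560)) (tt N36710 (iv6 D128622)) (tt N102340 (iv7 F436802)))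
theorem Q67202 : ∀ i, i < 67202 → P i := stepQ 67201 Q67201 (allL N67201 (tt N36823 (iv1 F206911)) (tt N36821 F206912) (tt N36842 F206908) (tt N103264 (iv3 F440866)) (tt N56700 F206909) (tt N60466 (iv5 F332874)) (tt N36834 F206910) (tt N36711 (iv7 D128624)))
theorem Q67203 : ∀ i, i < 67203 → P i := stepQ 67202 Q67202 (allL N67202 (tt N36713 (iv1 F206917)) (tt N36712 (iv0 D128625)) (tt N36716 (iv2 F206913)) (tt N36843 F206914) (tt N56548 F206915) (tt N67479 (iv5 F207299)) (tt N103265 D206451) (tt N36714 F206916))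
theorem Q67204 : ∀ i, i < 67204 → P i := stepQ 67203 Q67203 (allL N67203 (tt N36716 F358349) (tt N36714 F358350) (tt N36712 (iv2 D128626)) (tt N98033 F419244) (tt N56682 F358351) (tt N97650 (iv5 F417771)) (tt N103266 D206452) (tt N36713 (iv7 F206918)))
theorem Q67205 : ∀ i, i < 67205 → P i := stepQ 67204 Q67204 (allL N67204 (tt N103267 D206453) (tt N68699 (iv0 F211631)) (tt N56682 (iv2 F358352)) (tt N56664 (iv3 F358318)) (tt N36712 (iv4 D128628)) (tt N56661 F358317) (tt N68814 (iv6 F358319)) (tt N103268 D206454))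
theorem Q67206 : ∀ i, i < 67206 → P i := stepQ 67205 Q67205 (allL N67205 (tt N101714 F436039) (tt N103243 (iv0 F440749)) (tt N103266 (iv2 F440878)) (tt N97750 (iv3 F418155)) (tt N68814 F358320) (tt N79739 (iv5 F358321)) (tt N36712 (iv6 D128630)) (tt N103269 D206455))
theorem Q67207 : ∀ i, i < 67207 → P i := stepQ 67206 Q67206 (allL N67206 (tt N36714 F358331) (tt N36716 F358332) (tt N36713 F206919) (tt N65824 (iv3 F358329)) (tt N103268 (iv4 F440890)) (tt N65823 F358328) (tt N103270 D206456) (tt N36712 (iv7 D128631)))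
theorem Q67208 : ∀ i, i < 67208 → P i := stepQ 67207 Q67207 (allL N67207 (tt N98034 F419251) (tt N92185 (iv0 F399233)) (tt N97516 (iv2 F417212)) (tt N36713 (iv3 D128632)) (tt N60793 F342944) (tt N97674 (iv5 F418791)) (tt N60791 (iv6 F342945)) (tt N98033 (iv7 F419242)))
theorem Q67209 : ∀ i, i < 67209 → P i := stepQ 67208 Q67208 (allL N67208 (tt N68699 (iv1 F358357)) (tt N103267 F440887) (tt N103268 (iv2 F440888)) (tt N56685 (iv3 F358356)) (tt N36713 (iv4 D128633)) (tt N103271 D206457) (tt N92017 F395381) (tt N56682 (iv7 F358353)))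
theorem Q67210 : ∀ i, i < 67210 → P i := stepQ 67209 Q67209 (allL N67209 (tt N67242 F358316) (tt N65661 F358323) (tt N65823 (iv2 F358324)) (tt N97674 (iv3 F418790)) (tt N95181 F407329) (tt N36713 (iv5 D128634)) (tt N103272 D206458) (tt N97650 (iv7 F417775)))
theorem Q67211 : ∀ i, i < 67211 → P i := stepQ 67210 Q67210 (allL N67210 (tt N65994 F360392) (tt N103273 D206459) (tt N103270 (iv2 F440900)) (tt N60791 F342946) (tt N92017 (iv4 F395376)) (tt N67419 (iv5 F342947)) (tt N36713 (iv6 D128635)) (tt N67418 (iv7 F342948)))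
theorem Q67212 : ∀ i, i < 67212 → P i := stepQ 67211 Q67211 (allL N67211 (tt N67478 (iv1 F207302)) (tt N67477 F207296) (tt N36715 F206924) (tt N36854 F206925) (tt N59059 F206926) (tt N36714 (iv5 D128638)) (tt N102053 F435529) (tt N67479 (iv7 F207300)))
theorem Q67213 : ∀ i, i < 67213 → P i := stepQ 67212 Q67212 (allL N67212 (tt N67479 (iv1 F207301)) (tt N36715 (iv0 D128639)) (tt N67478 (iv2 F358263)) (tt N65826 (iv3 F358264)) (tt N103274 D206460) (tt N103229 (iv5 F440675)) (tt N74644 F358265) (tt N67477 F358262))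
theorem Q67214 : ∀ i, i < 67214 → P i := stepQ 67213 Q67213 (allL N67213 (tt N36715 (iv1 D128640)) (tt N67479 F207303) (tt N67477 F358257) (tt N74658 F358258) (tt N103275 D206461) (tt N74663 (iv5 F358256)) (tt N74656 F358259) (tt N67478 (iv7 F358261)))
theorem Q67215 : ∀ i, i < 67215 → P i := stepQ 67214 Q67214 (allL N67214 (tt N93442 (iv1 F400754)) (tt N93440 (iv0 F400749)) (tt N59059 F206927) (tt N67458 (iv3 F207279)) (tt N36715 (iv4 D128641)) (tt N59058 F206928) (tt N102064 (iv6 F435569)) (tt N67456 F207276))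
theorem Q67216 : ∀ i, i < 67216 → P i := stepQ 67215 Q67215 (allL N67215 (tt N103276 D206462) (tt N56271 (iv0 F349614)) (tt N103265 (iv2 F440871)) (tt N36720 F206931) (tt N56564 F206932) (tt N103277 D206463) (tt N36716 (iv6 D128643)) (tt N56564 F206933))
theorem Q67217 : ∀ i, i < 67217 → P i := stepQ 67216 Q67216 (allL N67216 (tt N103245 (iv1 F440761)) (tt N45834 F349821) (tt N80446 F339666) (tt N36717 (iv3 D128644)) (tt N103278 D206464) (tt N38429 F206934) (tt N52373 F349823) (tt N36863 F206935))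
theorem Q67218 : ∀ i, i < 67218 → P i := stepQ 67217 Q67217 (allL N67217 (tt N103259 F440843) (tt N103261 (iv0 F440852)) (tt N103279 D206465) (tt N36718 (iv3 D128646)) (tt N103280 D206466) (tt N56698 F206938) (tt N102034 (iv6 F435459)) (tt N36861 F206939))
theorem Q67219 : ∀ i, i < 67219 → P i := stepQ 67218 Q67218 (allL N67218 (tt N103281 D206467) (tt N103282 D206468) (tt N36864 F206940) (tt N102034 (iv3 F435458)) (tt N60541 (iv4 F364826)) (tt N103283 D206469) (tt N36718 (iv6 D128647)) (tt N97608 (iv7 F417581)))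
theorem Q67220 : ∀ i, i < 67220 → P i := stepQ 67219 Q67219 (allL N67219 (tt N36869 (iv1 F206945)) (tt N36719 (iv0 D128648)) (tt N36867 F358305) (tt N45830 F358306) (tt N82378 F358307) (tt N103284 D206470) (tt N97484 (iv6 F417043)) (tt N36868 F358308))
theorem Q67221 : ∀ i, i < 67221 → P i := stepQ 67220 Q67220 (allL N67220 (tt N36719 (iv1 D128649)) (tt N36869 F206942) (tt N36868 F358310) (tt N102076 (iv3 F435612)) (tt N82377 (iv4 F358300)) (tt N103285 D206471) (tt N102104 (iv6 F435744)) (tt N36867 F358311))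
theorem Q67222 : ∀ i, i < 67222 → P i := stepQ 67221 Q67221 (allL N67221 (tt N36868 (iv1 F206946)) (tt N36867 F206947) (tt N36869 F206943) (tt N102052 F435521) (tt N67491 (iv4 F207311)) (tt N56571 F206944) (tt N67483 (iv6 F207307)) (tt N36719 (iv7 D128650)))
theorem Q67223 : ∀ i, i < 67223 → P i := stepQ 67222 Q67222 (allL N67222 (tt N68838 (iv1 F211679)) (tt N68837 F211678) (tt N36873 F206948) (tt N103277 (iv3 F440940)) (tt N103286 D206472) (tt N36720 (iv5 D128651)) (tt N67482 (iv6 F207305)) (tt N56572 F206949))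
theorem Q67224 : ∀ i, i < 67224 → P i := stepQ 67223 Q67223 (allL N67223 (tt N69819 (iv1 F216215)) (tt N36722 (iv0 D128653)) (tt N68939 (iv2 F214364)) (tt N101209 (iv3 F432208)) (tt N68220 (iv4 F217066)) (tt N95906 (iv5 F410190)) (tt N94591 (iv6 F405099)) (tt N69817 (iv7 F216203)))
theorem Q67225 : ∀ i, i < 67225 → P i := stepQ 67224 Q67224 (allL N67224 (tt N36722 (iv1 D128654)) (tt N69819 F216214) (tt N69817 (iv2 F216205)) (tt N36738 F214360) (tt N64606 (iv4 F328737)) (tt N74209 (iv5 F226998)) (tt N64605 (iv6 F328733)) (tt N68939 F214363))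
theorem Q67226 : ∀ i, i < 67226 → P i := stepQ 67225 Q67225 (allL N67225 (tt N69817 (iv1 F216202)) (tt N68939 (iv0 F211966)) (tt N69819 (iv2 F216210)) (tt N36988 F206953) (tt N70261 (iv4 F217091)) (tt N57349 F206954) (tt N44325 F206955) (tt N36722 (iv7 D128655)))
theorem Q67227 : ∀ i, i < 67227 → P i := stepQ 67226 Q67226 (allL N67226 (tt N103287 D206473) (tt N73842 F355779) (tt N71928 (iv2 F365740)) (tt N36724 (iv3 D128656)) (tt N68234 (iv4 F209315)) (tt N70375 (iv5 F217302)) (tt N69837 (iv6 F216233)) (tt N38719 F206956))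
theorem Q67228 : ∀ i, i < 67228 → P i := stepQ 67227 Q67227 (allL N67227 (tt N94480 (iv1 F404658)) (tt N36725 (iv0 D128657)) (tt N85426 (iv2 F372594)) (tt N103288 D206474) (tt N60661 F349613) (tt N51131 F332681) (tt N103289 D206475) (tt N85429 (iv7 F372601)))
theorem Q67229 : ∀ i, i < 67229 → P i := stepQ 67228 Q67228 (allL N67228 (tt N36725 (iv1 D128658)) (tt N94480 F404659) (tt N85429 (iv2 F372600)) (tt N71948 (iv3 F347282)) (tt N103290 D206476) (tt N51132 F333051) (tt N54792 F333141) (tt N85426 (iv7 F372595)))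
theorem Q67230 : ∀ i, i < 67230 → P i := stepQ 67229 Q67229 (allL N67229 (tt N85426 (iv1 F372597)) (tt N85429 (iv0 F372603)) (tt N36725 (iv2 D128659)) (tt N94479 (iv3 F404649)) (tt N36751 F206957) (tt N90445 (iv5 F389668)) (tt N83992 F367742) (tt N94480 (iv7 F404657)))
theorem Q67231 : ∀ i, i < 67231 → P i := stepQ 67230 Q67230 (allL N67230 (tt N53128 (iv1 F354756)) (tt N53116 F354669) (tt N90445 (iv2 F389667)) (tt N36726 F206958) (tt N49650 (iv4 F354757)) (tt N36725 (iv5 D128660)) (tt N89785 (iv6 F387552)) (tt N38820 F206959))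
theorem Q67232 : ∀ i, i < 67232 → P i := stepQ 67231 Q67231 (allL N67231 (tt N40549 (iv1 F357714)) (tt N40548 F357708) (tt N40551 F357709) (tt N88710 (iv3 F383942)) (tt N95709 (iv4 F409240)) (tt N36727 (iv5 D128663)) (tt N89784 (iv6 F387543)) (tt N40516 F357710))
theorem Q67233 : ∀ i, i < 67233 → P i := stepQ 67232 Q67232 (allL N67232 (tt N38151 (iv1 F206966)) (tt N38741 F206967) (tt N40550 F329457) (tt N83991 F367735) (tt N36730 F206964) (tt N40516 F329458) (tt N40519 F329459) (tt N36727 (iv7 D128664)))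
theorem Q67234 : ∀ i, i < 67234 → P i := stepQ 67233 Q67233 (allL N67233 (tt N67502 F207323) (tt N94591 (iv0 F405098)) (tt N68928 (iv2 F211904)) (tt N102425 (iv3 F437185)) (tt N70288 (iv4 F217114)) (tt N68599 (iv5 F211168)) (tt N36729 (iv6 D128665)) (tt N68599 (iv7 F211169)))
theorem Q67235 : ∀ i, i < 67235 → P i := stepQ 67234 Q67234 (allL N67234 (tt N93224 (iv1 F400029)) (tt N36731 (iv0 D128666)) (tt N92104 (iv2 F395748)) (tt N97693 (iv3 F417928)) (tt N103291 D206477) (tt N92082 (iv5 F395669)) (tt N68842 F381086) (tt N93223 F400024))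
theorem Q67236 : ∀ i, i < 67236 → P i := stepQ 67235 Q67235 (allL N67235 (tt N36731 (iv1 D128667)) (tt N93224 F400030) (tt N93223 F400023) (tt N65658 (iv3 F395752)) (tt N103292 D206478) (tt N65657 (iv5 F395753)) (tt N93107 F403295) (tt N92104 F395751))
theorem Q67237 : ∀ i, i < 67237 → P i := stepQ 67236 Q67236 (allL N67236 (tt N92104 (iv1 F400025)) (tt N93223 F400022) (tt N36731 (iv2 D128668)) (tt N69775 (iv3 F216089)) (tt N71070 (iv4 F219385)) (tt N67465 (iv5 F207286)) (tt N82524 (iv6 F362768)) (tt N93224 (iv7 F400028)))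
theorem Q67238 : ∀ i, i < 67238 → P i := stepQ 67237 Q67237 (allL N67237 (tt N87913 (iv1 F381093)) (tt N87912 F381092) (tt N82524 F362767) (tt N36732 F206968) (tt N71072 (iv4 F219389)) (tt N65716 (iv5 F362766)) (tt N36731 (iv6 D128669)) (tt N87911 (iv7 F381091)))
theorem Q67239 : ∀ i, i < 67239 → P i := stepQ 67238 Q67238 (allL N67238 (tt N60470 (iv1 F328349)) (tt N37868 F206972) (tt N46546 F328079) (tt N87911 (iv3 F381090)) (tt N36733 F206969) (tt N46545 F328080) (tt N59149 F206970) (tt N36732 (iv7 D128671)))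
theorem Q67240 : ∀ i, i < 67240 → P i := stepQ 67239 Q67239 (allL N67239 (tt N102115 (iv1 F435807)) (tt N36734 (iv0 D128672)) (tt N74663 (iv2 F343531)) (tt N60685 F349610) (tt N103293 D206479) (tt N67477 (iv5 F349607)) (tt N74661 F343532) (tt N103229 (iv7 F440679)))
theorem Q67241 : ∀ i, i < 67241 → P i := stepQ 67240 Q67240 (allL N67240 (tt N36734 (iv1 D128673)) (tt N102115 F435808) (tt N103229 F440677) (tt N74666 (iv3 F343529)) (tt N103294 D206480) (tt N67478 F358266) (tt N97513 F417201) (tt N74663 F343530))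

end Cfsg.Agent.Helper17.ONTC
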