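import Cfsg.Agent.Helper17.ONTC.Fin19

set_option autoImplicit false
set_option linter.all false
set_option maxRecDepth 100000

noncomputable section

namespace Cfsg.Agent.Helper17.ONTC

theorem Q67242 : ∀ i, i < 67242 → P i := stepQ 67241 Q67241 (allL N67241 (tt N74663 F358260) (tt N103229 F440678) (tt N36734 (iv2 D128674)) (tt N68934 (iv3 F211930)) (tt N68602 (iv4 F211172)) (tt N60582 (iv5 F348757)) (tt N103295 D206481) (tt N102115 (iv7 F435806)))
theorem Q67243 : ∀ i, i < 67243 → P i := stepQ 67242 Q67242 (allL N67242 (tt N60679 (iv1 F343601)) (tt N67209 (iv0 F358316)) (tt N60582 F343535) (tt N36735 F206973) (tt N91588 (iv4 F393711)) (tt N36734 (iv5 D128675)) (tt N55655 (iv6 F343534)) (tt N67392 (iv7 F207158)))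
theorem Q67244 : ∀ i, i < 67244 → P i := stepQ 67243 Q67243 (allL N67243 (tt N97552 F417406) (tt N103296 D206482) (tt N103295 (iv2 F441027)) (tt N36736 F206974) (tt N68604 (iv4 F211176)) (tt N68031 F348753) (tt N36734 (iv6 D128676)) (tt N102363 (iv7 F436914)))
theorem Q67245 : ∀ i, i < 67245 → P i := stepQ 67244 Q67244 (allL N67244 (tt N101999 (iv1 F435302)) (tt N55664 (iv0 F362951)) (tt N67395 (iv2 F207162)) (tt N55655 F343536) (tt N67257 (iv4 F206986)) (tt N102890 (iv5 F439131)) (tt N36735 (iv6 D128677)) (tt N60583 (iv7 F343539)))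
theorem Q67246 : ∀ i, i < 67246 → P i := stepQ 67245 Q67245 (allL N67245 (tt N68673 (iv1 F211347)) (tt N36736 (iv0 D128678)) (tt N68936 F211949) (tt N101205 (iv3 F432188)) (tt N56825 F211348) (tt N103297 D206483) (tt N93250 (iv6 F400122)) (tt N68937 (iv7 F211952)))
theorem Q67247 : ∀ i, i < 67247 → P i := stepQ 67246 Q67246 (allL N67246 (tt N36736 (iv1 D128679)) (tt N68673 F211345) (tt N68937 F211954) (tt N97854 (iv3 F418520)) (tt N56826 F206975) (tt N103298 D206484) (tt N68607 F211182) (tt N68936 F211950))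
theorem Q67248 : ∀ i, i < 67248 → P i := stepQ 67247 Q67247 (allL N67247 (tt N93053 (iv1 F399296)) (tt N37751 F206976) (tt N68938 (iv2 F211956)) (tt N68031 (iv3 F348754)) (tt N103299 D206485) (tt N36736 (iv5 D128680)) (tt N102890 (iv6 F439132)) (tt N93051 (iv7 F399282)))
theorem Q67249 : ∀ i, i < 67249 → P i := stepQ 67248 Q67248 (allL N67248 (tt N68937 (iv1 F211951)) (tt N68936 F211945) (tt N68673 (iv2 F211342)) (tt N102363 (iv3 F436912)) (tt N36739 F206977) (tt N93051 (iv5 F399283)) (tt N56503 F206978) (tt N36736 (iv7 D128681)))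
theorem Q67250 : ∀ i, i < 67250 → P i := stepQ 67249 Q67249 (allL N67249 (tt N68653 F211287) (tt N36762 (iv0 F206980)) (tt N101209 F432210) (tt N36737 (iv3 D128682)) (tt N68171 (iv4 F209220)) (tt N60895 (iv5 F328415)) (tt N60896 (iv6 F328645)) (tt N68941 (iv7 F211975)))
theorem Q67251 : ∀ i, i < 67251 → P i := stepQ 67250 Q67250 (allL N67250 (tt N68669 F211332) (tt N36745 F211333) (tt N68940 (iv2 F211967)) (tt N103300 D206486) (tt N36737 (iv4 D128683)) (tt N103301 D206487) (tt N67508 (iv6 F207329)) (tt N68942 (iv7 F211980)))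
theorem Q67252 : ∀ i, i < 67252 → P i := stepQ 67251 Q67251 (allL N67251 (tt N36745 F206981) (tt N68669 F211331) (tt N68942 (iv2 F211978)) (tt N103302 D206488) (tt N36738 (iv4 D128685)) (tt N103303 D206489) (tt N68611 (iv6 F211202)) (tt N68940 (iv7 F211969)))
theorem Q67253 : ∀ i, i < 67253 → P i := stepQ 67252 Q67252 (allL N67252 (tt N68934 (iv1 F211933)) (tt N36740 (iv0 D128686)) (tt N68933 (iv2 F214144)) (tt N103304 D206490) (tt N67036 (iv4 F311933)) (tt N36855 F208887) (tt N103305 D206491) (tt N68932 F214151))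
theorem Q67254 : ∀ i, i < 67254 → P i := stepQ 67253 Q67253 (allL N67253 (tt N36740 (iv1 D128687)) (tt N68934 F211934) (tt N68932 F214147) (tt N103306 D206492) (tt N67035 (iv4 F311924)) (tt N36856 F211935) (tt N102366 (iv6 F436929)) (tt N68933 (iv7 F214150)))
theorem Q67255 : ∀ i, i < 67255 → P i := stepQ 67254 Q67254 (allL N67254 (tt N68933 F211919) (tt N68932 F211912) (tt N36740 (iv2 D128688)) (tt N102115 (iv3 F435803)) (tt N36932 F206982) (tt N67432 F208789) (tt N102367 (iv6 F436935)) (tt N68934 (iv7 F211932)))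
theorem Q67256 : ∀ i, i < 67256 → P i := stepQ 67255 Q67255 (allL N67255 (tt N67435 (iv1 F212205)) (tt N67426 F212203) (tt N67432 F208788) (tt N36741 F206983) (tt N58150 (iv4 F348813)) (tt N36740 (iv5 D128689)) (tt N58149 (iv6 F348809)) (tt N67394 (iv7 F207161)))
theorem Q67257 : ∀ i, i < 67257 → P i := stepQ 67256 Q67256 (allL N67256 (tt N103307 D206493) (tt N66457 (iv0 F333069)) (tt N102367 (iv2 F436932)) (tt N36742 F206984) (tt N36934 F206985) (tt N103308 D206494) (tt N36740 (iv6 D128690)) (tt N68671 (iv7 F211340)))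
theorem Q67258 : ∀ i, i < 67258 → P i := stepQ 67257 Q67257 (allL N67257 (tt N56226 F362950) (tt N56221 (iv0 F343540)) (tt N67393 (iv2 F207159)) (tt N58149 (iv3 F343538)) (tt N67244 F206986) (tt N102100 (iv5 F435723)) (tt N36741 (iv6 D128691)) (tt N97651 (iv7 F417779)))
theorem Q67259 : ∀ i, i < 67259 → P i := stepQ 67258 Q67258 (allL N67258 (tt N103309 D206495) (tt N65638 F360474) (tt N68675 (iv2 F211352)) (tt N103308 (iv3 F441076)) (tt N103310 D206496) (tt N36742 (iv5 D128692)) (tt N102100 F435725) (tt N68672 (iv7 F211341)))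
theorem Q67260 : ∀ i, i < 67260 → P i := stepQ 67259 Q67259 (allL N67259 (tt N65789 (iv1 F360027)) (tt N36743 (iv0 D128693)) (tt N102303 F436622) (tt N103311 D206497) (tt N92130 (iv4 F395886)) (tt N45844 F341951) (tt N93676 (iv6 F401529)) (tt N97881 (iv7 F418651)))
theorem Q67261 : ∀ i, i < 67261 → P i := stepQ 67260 Q67260 (allL N67260 (tt N36743 (iv1 D128694)) (tt N65789 (iv0 F360022)) (tt N97881 (iv2 F418650)) (tt N103312 D206498) (tt N92720 (iv4 F397965)) (tt N45842 F333461) (tt N97783 F418290) (tt N102303 (iv7 F436624)))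
theorem Q67262 : ∀ i, i < 67262 → P i := stepQ 67261 Q67261 (allL N67261 (tt N97908 F418754) (tt N103313 D206499) (tt N92780 (iv2 F398189)) (tt N36745 F206988) (tt N68304 (iv4 F209517)) (tt N92778 (iv5 F398183)) (tt N36743 (iv6 D128697)) (tt N85848 (iv7 F374199)))
theorem Q67263 : ∀ i, i < 67263 → P i := stepQ 67262 Q67262 (allL N67262 (tt N93044 (iv1 F399253)) (tt N37726 F206989) (tt N56166 (iv2 F362917)) (tt N92778 (iv3 F398182)) (tt N103314 D206500) (tt N36745 (iv5 D128700)) (tt N56165 F362916) (tt N93042 (iv7 F399246)))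
theorem Q67264 : ∀ i, i < 67264 → P i := stepQ 67263 Q67263 (allL N67263 (tt N68942 (iv1 F211982)) (tt N68940 (iv0 F211970)) (tt N68669 (iv2 F211328)) (tt N85848 (iv3 F374198)) (tt N56421 F206990) (tt N93042 (iv5 F399247)) (tt N56420 F206991) (tt N36745 (iv7 D128701)))
theorem Q67265 : ∀ i, i < 67265 → P i := stepQ 67264 Q67264 (allL N67264 (tt N87854 (iv1 F380864)) (tt N51696 F347356) (tt N69792 F359792) (tt N36749 (iv3 D128710)) (tt N64694 (iv4 F329133)) (tt N60557 (iv5 F359779)) (tt N64697 (iv6 F359793)) (tt N69794 F359709))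
theorem Q67266 : ∀ i, i < 67266 → P i := stepQ 67265 Q67265 (allL N67265 (tt N86345 (iv1 F375873)) (tt N88799 (iv0 F384185)) (tt N70268 (iv2 F352544)) (tt N103315 D206501) (tt N36749 (iv4 D128711)) (tt N51150 (iv5 F333049)) (tt N103316 D206502) (tt N71631 F352545))
theorem Q67267 : ∀ i, i < 67267 → P i := stepQ 67266 Q67266 (allL N67266 (tt N46845 F319378) (tt N65616 F333050) (tt N67333 F333044) (tt N60557 (iv3 F359778)) (tt N47438 F319379) (tt N36749 (iv5 D128712)) (tt N60555 F342144) (tt N67332 (iv7 F333048)))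
theorem Q67268 : ∀ i, i < 67268 → P i := stepQ 67267 Q67267 (allL N67267 (tt N88727 F384023) (tt N103302 (iv0 F441053)) (tt N103236 (iv2 F440706)) (tt N64697 F359794) (tt N103316 (iv4 F441110)) (tt N103317 D206503) (tt N36749 (iv6 D128713)) (tt N103318 D206504))
theorem Q67269 : ∀ i, i < 67269 → P i := stepQ 67268 Q67268 (allL N67268 (tt N103319 D206505) (tt N103311 (iv0 F441094)) (tt N102417 (iv2 F437147)) (tt N36750 (iv3 D128715)) (tt N102301 (iv4 F436615)) (tt N103320 D206506) (tt N102204 F436169) (tt N103235 (iv7 F440704)))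
theorem Q67270 : ∀ i, i < 67270 → P i := stepQ 67269 Q67269 (allL N67269 (tt N88799 (iv1 F384186)) (tt N86345 (iv0 F375872)) (tt N71631 F333059) (tt N70157 (iv3 F216824)) (tt N36750 (iv4 D128716)) (tt N51151 (iv5 F333058)) (tt N39674 F333060) (tt N70268 (iv7 F352491)))
theorem Q67271 : ∀ i, i < 67271 → P i := stepQ 67270 Q67270 (allL N67270 (tt N65616 (iv1 F333057)) (tt N46845 F333052) (tt N67332 F333053) (tt N103320 (iv3 F441125)) (tt N47437 F333054) (tt N36750 (iv5 D128717)) (tt N101889 (iv6 F434838)) (tt N67333 F333055))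
theorem Q67272 : ∀ i, i < 67272 → P i := stepQ 67271 Q67271 (allL N67271 (tt N56499 F333065) (tt N54794 F364751) (tt N71630 F333062) (tt N102204 (iv3 F436165)) (tt N39674 F333063) (tt N102203 (iv5 F436162)) (tt N36750 (iv6 D128718)) (tt N71625 F333064))
theorem Q67273 : ∀ i, i < 67273 → P i := stepQ 67272 Q67272 (allL N67272 (tt N81361 F354792) (tt N81362 (iv0 F352567)) (tt N36752 F206996) (tt N103232 (iv3 F440692)) (tt N79886 (iv4 F354791)) (tt N36751 (iv5 D128719)) (tt N97702 (iv6 F417972)) (tt N103237 (iv7 F440711)))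
theorem Q67274 : ∀ i, i < 67274 → P i := stepQ 67273 Q67273 (allL N67273 (tt N52158 (iv1 F345230)) (tt N48296 F332751) (tt N36753 F206997) (tt N97053 (iv3 F415229)) (tt N83992 (iv4 F367740)) (tt N44630 F332752) (tt N36751 (iv6 D128720)) (tt N88708 (iv7 F383933)))
theorem Q67275 : ∀ i, i < 67275 → P i := stepQ 67274 Q67274 (allL N67274 (tt N103237 (iv1 F440713)) (tt N36752 (iv0 D128721)) (tt N81361 (iv2 F355050)) (tt N103321 D206507) (tt N48300 F333039) (tt N36791 F333040) (tt N48299 F333041) (tt N81362 F355046))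
theorem Q67276 : ∀ i, i < 67276 → P i := stepQ 67275 Q67275 (allL N67275 (tt N36752 (iv1 D128722)) (tt N103237 (iv0 F440712)) (tt N81362 F355051) (tt N103322 D206508) (tt N78581 (iv4 F345744)) (tt N36792 F332809) (tt N103323 D206509) (tt N81361 F355049))
theorem Q67277 : ∀ i, i < 67277 → P i := stepQ 67276 Q67276 (allL N67276 (tt N53114 (iv1 F354765)) (tt N53126 (iv0 F354766)) (tt N79886 (iv2 F354788)) (tt N67471 (iv3 F207292)) (tt N36752 (iv4 D128723)) (tt N81079 F354758) (tt N80732 F354767) (tt N80716 (iv7 F354764)))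
theorem Q67278 : ∀ i, i < 67278 → P i := stepQ 67277 Q67277 (allL N67277 (tt N80526 F345762) (tt N81215 F345742) (tt N97702 (iv2 F417970)) (tt N36755 F206998) (tt N80732 (iv4 F354768)) (tt N79762 (iv5 F345741)) (tt N36752 (iv6 D128724)) (tt N97619 (iv7 F417626)))
theorem Q67279 : ∀ i, i < 67279 → P i := stepQ 67278 Q67278 (allL N67278 (tt N36753 (iv1 D128726)) (tt N88708 (iv0 F383934)) (tt N48296 F345225) (tt N86920 (iv3 F377704)) (tt N52162 (iv4 F332745)) (tt N48295 F345226) (tt N87685 (iv6 F380143)) (tt N52158 F332746))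
theorem Q67280 : ∀ i, i < 67280 → P i := stepQ 67279 Q67279 (allL N67279 (tt N48296 F332754) (tt N52158 F345239) (tt N88708 (iv2 F383930)) (tt N36758 F207000) (tt N83991 (iv4 F367732)) (tt N44631 F332755) (tt N60633 F355852) (tt N36753 (iv7 D128728)))
theorem Q67281 : ∀ i, i < 67281 → P i := stepQ 67280 Q67280 (allL N67280 (tt N92070 (iv1 F395618)) (tt N36755 (iv0 D128731)) (tt N93968 (iv2 F402640)) (tt N47681 F361367) (tt N101081 (iv4 F431579)) (tt N65565 F361368) (tt N80499 F361369) (tt N47750 F361370))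
theorem Q67282 : ∀ i, i < 67282 → P i := stepQ 67281 Q67281 (allL N67281 (tt N87852 (iv1 F380851)) (tt N51622 (iv0 F363218)) (tt N87851 (iv2 F380845)) (tt N36756 (iv3 D128737)) (tt N102439 (iv4 F437241)) (tt N82756 (iv5 F359046)) (tt N103298 (iv6 F441038)) (tt N87850 F380842))
theorem Q67283 : ∀ i, i < 67283 → P i := stepQ 67282 Q67282 (allL N67282 (tt N67507 F216106) (tt N67508 F216107) (tt N97520 (iv2 F417229)) (tt N103298 (iv3 F441037)) (tt N69776 (iv4 F216101)) (tt N97854 (iv5 F418521)) (tt N36756 (iv6 D128739)) (tt N68645 (iv7 F211258)))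
theorem Q67284 : ∀ i, i < 67284 → P i := stepQ 67283 Q67283 (allL N67283 (tt N103305 F441063) (tt N103324 D206510) (tt N103325 D206511) (tt N36759 (iv3 D128747)) (tt N36973 F207016) (tt N69294 (iv5 F338346)) (tt N103326 D206512) (tt N68985 (iv7 F212371)))
theorem Q67285 : ∀ i, i < 67285 → P i := stepQ 67284 Q67284 (allL N67284 (tt N93251 (iv1 F400132)) (tt N93250 (iv0 F400125)) (tt N97517 (iv2 F417218)) (tt N103326 (iv3 F441145)) (tt N36760 F207018) (tt N97571 (iv5 F417413)) (tt N36759 (iv6 D128749)) (tt N68650 (iv7 F211273)))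
theorem Q67286 : ∀ i, i < 67286 → P i := stepQ 67285 Q67285 (allL N67285 (tt N36762 (iv1 D128750)) (tt N68653 F211288) (tt N68941 (iv2 F211976)) (tt N69817 F216204) (tt N68172 (iv4 F214589)) (tt N103327 D206513) (tt N68651 F211977) (tt N101209 (iv7 F432212)))
theorem Q67287 : ∀ i, i < 67287 → P i := stepQ 67286 Q67286 (allL N67286 (tt N68941 (iv1 F214098)) (tt N101209 F432211) (tt N68653 (iv2 F211284)) (tt N36884 F207019) (tt N69530 (iv4 F214632)) (tt N57183 F207020) (tt N37004 F207021) (tt N36762 (iv7 D128751)))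
theorem Q67288 : ∀ i, i < 67288 → P i := stepQ 67287 Q67287 (allL N67287 (tt N69775 (iv1 F216092)) (tt N36767 (iv0 D128761)) (tt N69774 (iv2 F347324)) (tt N93977 (iv3 F402683)) (tt N52318 (iv4 F347325)) (tt N103249 (iv5 F440782)) (tt N102239 (iv6 F436313)) (tt N69773 F347323))
theorem Q67289 : ∀ i, i < 67289 → P i := stepQ 67288 Q67288 (allL N67288 (tt N36767 (iv1 D128762)) (tt N69775 F216094) (tt N69773 F347319) (tt N102404 (iv3 F437092)) (tt N52317 (iv4 F347318)) (tt N102402 (iv5 F437084)) (tt N65206 F347320) (tt N69774 (iv7 F347321)))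
theorem Q67290 : ∀ i, i < 67290 → P i := stepQ 67289 Q67289 (allL N67289 (tt N69774 (iv1 F216093)) (tt N69773 F216088) (tt N36767 (iv2 D128763)) (tt N93224 (iv3 F400027)) (tt N69732 (iv4 F215997)) (tt N67470 (iv5 F207291)) (tt N60452 F349677) (tt N69775 (iv7 F216091)))
theorem Q67291 : ∀ i, i < 67291 → P i := stepQ 67290 Q67290 (allL N67290 (tt N96817 (iv1 F414102)) (tt N86950 F377807) (tt N93226 (iv2 F400032)) (tt N55632 F360825) (tt N103328 D206514) (tt N36768 (iv5 D128765)) (tt N67475 (iv6 F207294)) (tt N60454 (iv7 F360824)))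
theorem Q67292 : ∀ i, i < 67292 → P i := stepQ 67291 Q67291 (allL N67291 (tt N103312 (iv1 F441701)) (tt N97841 (iv0 F437122)) (tt N103329 D206516) (tt N36770 (iv3 D128767)) (tt N71069 F219384) (tt N103330 D206517) (tt N103331 D206518) (tt N103230 (iv7 F440681)))
theorem Q67293 : ∀ i, i < 67293 → P i := stepQ 67292 Q67292 (allL N67292 (tt N67357 (iv1 F362264)) (tt N67178 F362260) (tt N67359 F362258) (tt N103330 (iv3 F441165)) (tt N91944 F395063) (tt N36770 (iv5 D128769)) (tt N96076 (iv6 F410931)) (tt N67358 (iv7 F362263)))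
theorem Q67294 : ∀ i, i < 67294 → P i := stepQ 67293 Q67293 (allL N67293 (tt N68658 (iv1 F391985)) (tt N68663 (iv0 F391984)) (tt N68661 (iv2 F362257)) (tt N103331 (iv3 F441168)) (tt N97790 (iv4 F418317)) (tt N60437 F365649) (tt N36770 (iv6 D128770)) (tt N68660 (iv7 F391970)))
theorem Q67295 : ∀ i, i < 67295 → P i := stepQ 67294 Q67294 (allL N67294 (tt N67178 (iv1 F362254)) (tt N67357 (iv0 F362250)) (tt N67358 F362261) (tt N60518 (iv3 F354369)) (tt N92002 (iv4 F395324)) (tt N36771 (iv5 D128774)) (tt N60516 F354371) (tt N67359 F362259))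
theorem Q67296 : ∀ i, i < 67296 → P i := stepQ 67295 Q67295 (allL N67295 (tt N103300 (iv1 F441047)) (tt N102938 (iv0 F439344)) (tt N103231 (iv2 F440685)) (tt N103129 (iv3 F440201)) (tt N97791 (iv4 F418321)) (tt N103332 D206519) (tt N36771 (iv6 D128775)) (tt N103333 D206520))
theorem Q67297 : ∀ i, i < 67297 → P i := stepQ 67296 Q67296 (allL N67296 (tt N103233 (iv1 F440696)) (tt N98019 (iv0 F419188)) (tt N36773 F207035) (tt N103237 (iv3 F440708)) (tt N103334 D206521) (tt N36772 (iv5 D128776)) (tt N56979 F364834) (tt N103232 (iv7 F440693)))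
theorem Q67298 : ∀ i, i < 67298 → P i := stepQ 67297 Q67297 (allL N67297 (tt N103232 (iv1 F440695)) (tt N36773 (iv0 D128778)) (tt N103233 F440700) (tt N103335 D206522) (tt N103336 D206523) (tt N36811 F355245) (tt N103337 D206524) (tt N98019 (iv7 F419187)))
theorem Q67299 : ∀ i, i < 67299 → P i := stepQ 67298 Q67298 (allL N67298 (tt N36773 (iv1 D128779)) (tt N103232 (iv0 F440694)) (tt N98019 (iv2 F419186)) (tt N103338 D206525) (tt N103339 D206526) (tt N36812 F342951) (tt N103340 D206527) (tt N103233 (iv7 F440697)))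
theorem Q67300 : ∀ i, i < 67300 → P i := stepQ 67299 Q67299 (allL N67299 (tt N100716 F430163) (tt N103341 D206528) (tt N103334 (iv2 F441181)) (tt N67466 (iv3 F207287)) (tt N36773 (iv4 D128780)) (tt N102865 (iv5 F439001)) (tt N97044 (iv6 F415193)) (tt N103234 (iv7 F440701)))
theorem Q67301 : ∀ i, i < 67301 → P i := stepQ 67300 Q67300 (allL N67300 (tt N97620 F417633) (tt N36774 (iv0 D128786)) (tt N101081 (iv2 F431578)) (tt N60505 (iv3 F402647)) (tt N93968 F402646) (tt N97609 (iv5 F417584)) (tt N60503 (iv6 F402648)) (tt N65559 (iv7 F402649)))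
theorem Q67302 : ∀ i, i < 67302 → P i := stepQ 67301 Q67301 (allL N67301 (tt N36774 (iv1 D128787)) (tt N97620 F417634) (tt N65559 F348395) (tt N47745 F348391) (tt N47750 F348392) (tt N99712 (iv5 F425863)) (tt N65557 (iv6 F348393)) (tt N101081 (iv7 F431581)))
theorem Q67303 : ∀ i, i < 67303 → P i := stepQ 67302 Q67302 (allL N67302 (tt N65559 (iv1 F348405)) (tt N101081 (iv0 F431582)) (tt N97620 (iv2 F417629)) (tt N97045 (iv3 F415198)) (tt N60535 (iv4 F328360)) (tt N97043 (iv5 F415188)) (tt N92070 (iv6 F395619)) (tt N36774 (iv7 D128789)))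
theorem Q67304 : ∀ i, i < 67304 → P i := stepQ 67303 Q67303 (allL N67303 (tt N97775 (iv1 F418265)) (tt N102393 F437038) (tt N101997 (iv2 F435287)) (tt N36775 (iv3 D128790)) (tt N69024 (iv4 F212487)) (tt N55664 (iv5 F342904)) (tt N103342 D206529) (tt N68628 F211242))
theorem Q67305 : ∀ i, i < 67305 → P i := stepQ 67304 Q67304 (allL N67304 (tt N68611 (iv1 F211205)) (tt N68610 (iv0 F211197)) (tt N68623 (iv2 F211232)) (tt N103342 (iv3 F441201)) (tt N38195 F207041) (tt N67347 F207114) (tt N36775 (iv6 D128792)) (tt N38194 F207042))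
theorem Q67306 : ∀ i, i < 67306 → P i := stepQ 67305 Q67305 (allL N67305 (tt N97525 (iv1 F417252)) (tt N102366 F436931) (tt N95675 (iv2 F409094)) (tt N36777 (iv3 D128797)) (tt N37033 F207044) (tt N81749 (iv5 F341763)) (tt N81750 F341759) (tt N66514 F207045))
theorem Q67307 : ∀ i, i < 67307 → P i := stepQ 67306 Q67306 (allL N67306 (tt N68607 (iv1 F211179)) (tt N68606 F211186) (tt N68608 (iv2 F211183)) (tt N81750 (iv3 F341761)) (tt N36778 F207047) (tt N67401 F207167) (tt N36777 (iv6 D128799)) (tt N36914 F207048))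
theorem Q67308 : ∀ i, i < 67308 → P i := stepQ 67307 Q67307 (allL N67307 (tt N41497 F207050) (tt N57645 (iv0 F207051)) (tt N74228 (iv2 F227042)) (tt N75352 (iv3 F364420)) (tt N36779 (iv4 D128800)) (tt N93667 (iv5 F401497)) (tt N66575 F207049) (tt N69060 (iv7 F212657)))
theorem Q67309 : ∀ i, i < 67309 → P i := stepQ 67308 Q67308 (allL N67308 (tt N57645 F207053) (tt N41497 F207054) (tt N69060 (iv2 F212655)) (tt N99498 (iv3 F424869)) (tt N36780 (iv4 D128801)) (tt N93666 (iv5 F401492)) (tt N41472 F207052) (tt N74228 (iv7 F227044)))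
theorem Q67310 : ∀ i, i < 67310 → P i := stepQ 67309 Q67309 (allL N67309 (tt N41508 (iv1 F207055)) (tt N36781 (iv0 D128802)) (tt N74225 F227031) (tt N103343 D206530) (tt N56798 F207056) (tt N99480 (iv5 F424776)) (tt N92921 (iv6 F398764)) (tt N74226 (iv7 F227034)))
theorem Q67311 : ∀ i, i < 67311 → P i := stepQ 67310 Q67310 (allL N67310 (tt N36781 (iv1 D128803)) (tt N41508 F207057) (tt N74226 F227036) (tt N93273 (iv3 F400244)) (tt N56799 F207058) (tt N93272 F400241) (tt N41469 (iv6 F207059)) (tt N74225 F227032))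
theorem Q67312 : ∀ i, i < 67312 → P i := stepQ 67311 Q67311 (allL N67311 (tt N103344 D206531) (tt N103345 D206532) (tt N103346 D206533) (tt N36781 (iv3 D128804)) (tt N71114 (iv4 F219491)) (tt N93658 (iv5 F401465)) (tt N36782 F207060) (tt N93954 (iv7 F402579)))
theorem Q67313 : ∀ i, i < 67313 → P i := stepQ 67312 Q67312 (allL N67312 (tt N74231 (iv1 F227049)) (tt N36782 (iv0 D128805)) (tt N74230 (iv2 F404449)) (tt N81456 F364904) (tt N103347 D206534) (tt N101956 F435089) (tt N93874 F402241) (tt N74229 F404452))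
theorem Q67314 : ∀ i, i < 67314 → P i := stepQ 67313 Q67313 (allL N67313 (tt N36782 (iv1 D128806)) (tt N74231 F227051) (tt N74229 F404451) (tt N78249 (iv3 F247374)) (tt N103348 D206535) (tt N101955 (iv5 F435081)) (tt N103349 D206536) (tt N74230 (iv7 F404450)))
theorem Q67315 : ∀ i, i < 67315 → P i := stepQ 67314 Q67314 (allL N67314 (tt N74230 (iv1 F227050)) (tt N74229 F227047) (tt N36782 (iv2 D128807)) (tt N74221 (iv3 F227024)) (tt N71112 (iv4 F219488)) (tt N103350 D206537) (tt N103346 (iv6 F441210)) (tt N74231 (iv7 F227048)))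
theorem Q67316 : ∀ i, i < 67316 → P i := stepQ 67315 Q67315 (allL N67315 (tt N65482 F414595) (tt N65487 (iv0 F414314)) (tt N103350 (iv2 F441224)) (tt N36783 F207061) (tt N96861 F414313) (tt N36782 (iv5 D128808)) (tt N103351 D206538) (tt N74232 (iv7 F227053)))
theorem Q67317 : ∀ i, i < 67317 → P i := stepQ 67316 Q67316 (allL N67316 (tt N96179 F411361) (tt N103352 D206539) (tt N74224 (iv2 F227027)) (tt N103351 (iv3 F441232)) (tt N93432 (iv4 F400727)) (tt N93660 (iv5 F401472)) (tt N36783 (iv6 D128809)) (tt N103353 D206540))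
theorem Q67318 : ∀ i, i < 67318 → P i := stepQ 67317 Q67317 (allL N67317 (tt N38802 (iv1 F207062)) (tt N36784 (iv0 D128810)) (tt N38801 F354760) (tt N102581 (iv3 F437774)) (tt N103354 D206541) (tt N53128 (iv5 F354759)) (tt N103355 D206542) (tt N38800 F354761))
theorem Q67319 : ∀ i, i < 67319 → P i := stepQ 67318 Q67318 (allL N67318 (tt N36784 (iv1 D128811)) (tt N38802 F207067) (tt N38800 F354666) (tt N103356 D206543) (tt N103257 (iv4 F440830)) (tt N53116 F354667) (tt N68685 (iv6 F354691)) (tt N38801 F354668))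
theorem Q67320 : ∀ i, i < 67320 → P i := stepQ 67319 Q67319 (allL N67319 (tt N38801 (iv1 F207068)) (tt N38800 F207066) (tt N36784 (iv2 D128812)) (tt N38796 F207063) (tt N36793 F207064) (tt N50502 (iv5 F332676)) (tt N49513 F332678) (tt N38802 F207065))
theorem Q67321 : ∀ i, i < 67321 → P i := stepQ 67320 Q67320 (allL N67320 (tt N94310 F403998) (tt N96077 (iv0 F410936)) (tt N94482 (iv2 F404667)) (tt N69074 (iv3 F212733)) (tt N80553 (iv4 F344448)) (tt N36786 (iv5 D128819)) (tt N65925 F207085) (tt N69109 (iv7 F212798)))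
theorem Q67322 : ∀ i, i < 67322 → P i := stepQ 67321 Q67321 (allL N67321 (tt N96077 F410937) (tt N94310 (iv0 F403997)) (tt N69109 (iv2 F212796)) (tt N72123 (iv3 F221376)) (tt N72843 (iv4 F223446)) (tt N36787 (iv5 D128820)) (tt N38718 F207086) (tt N94482 (iv7 F404670)))
theorem Q67323 : ∀ i, i < 67323 → P i := stepQ 67322 Q67322 (allL N67322 (tt N39020 (iv1 F207088)) (tt N36789 (iv0 D128822)) (tt N39019 F330437) (tt N56556 F207087) (tt N103357 D206544) (tt N65907 F330438) (tt N103358 D206545) (tt N39018 F330439))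
theorem Q67324 : ∀ i, i < 67324 → P i := stepQ 67323 Q67323 (allL N67323 (tt N36789 (iv1 D128823)) (tt N39020 F207089) (tt N39018 F330434) (tt N103359 D206546) (tt N102528 (iv4 F437522)) (tt N65906 F330435) (tt N103360 D206547) (tt N39019 F330436))
theorem Q67325 : ∀ i, i < 67325 → P i := stepQ 67324 Q67324 (allL N67324 (tt N56261 F335845) (tt N77236 (iv0 F339642)) (tt N70819 (iv2 F218494)) (tt N36790 F207090) (tt N39080 F207091) (tt N54128 F339640) (tt N36789 (iv6 D128824)) (tt N56690 F207092))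
theorem Q67326 : ∀ i, i < 67326 → P i := stepQ 67325 Q67325 (allL N67325 (tt N68756 (iv1 F366019)) (tt N68755 F362881) (tt N68757 (iv2 F362879)) (tt N54128 (iv3 F339641)) (tt N102574 (iv4 F437721)) (tt N36790 (iv5 D128825)) (tt N78397 (iv6 F362858)) (tt N56694 F207093))
theorem Q67327 : ∀ i, i < 67327 → P i := stepQ 67326 Q67326 (allL N67326 (tt N93229 (iv1 F400045)) (tt N37185 (iv0 F207096)) (tt N69854 (iv2 F355043)) (tt N36791 (iv3 D128827)) (tt N58051 F207095) (tt N103321 (iv5 F441130)) (tt N103361 D206548) (tt N69857 (iv7 F355025)))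
theorem Q67328 : ∀ i, i < 67328 → P i := stepQ 67327 Q67327 (allL N67327 (tt N49603 (iv1 F332685)) (tt N54271 (iv0 F332689)) (tt N70330 F355053) (tt N103362 D206549) (tt N36791 (iv4 D128828)) (tt N84072 (iv5 F368009)) (tt N103363 D206550) (tt N70486 F355045))
theorem Q67329 : ∀ i, i < 67329 → P i := stepQ 67328 Q67328 (allL N67328 (tt N92174 (iv1 F399267)) (tt N68841 F399266) (tt N92172 F396085) (tt N103361 (iv3 F441280)) (tt N103363 (iv4 F441287)) (tt N103364 D206551) (tt N36791 (iv6 D128830)) (tt N68698 F354707))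
theorem Q67330 : ∀ i, i < 67330 → P i := stepQ 67329 Q67329 (allL N67329 (tt N56551 F207260) (tt N56556 F330445) (tt N103365 D206552) (tt N36792 (iv3 D128832)) (tt N93202 (iv4 F399953)) (tt N103322 (iv5 F441134)) (tt N68699 (iv6 F354702)) (tt N102079 (iv7 F435626)))
theorem Q67331 : ∀ i, i < 67331 → P i := stepQ 67330 Q67330 (allL N67330 (tt N54271 (iv1 F332690)) (tt N49603 (iv0 F332684)) (tt N70486 F355054) (tt N59457 (iv3 F207098)) (tt N36792 (iv4 D128833)) (tt N84070 (iv5 F367990)) (tt N68700 (iv6 F354703)) (tt N70330 (iv7 F355030)))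
theorem Q67332 : ∀ i, i < 67332 → P i := stepQ 67331 Q67331 (allL N67331 (tt N52979 (iv1 F361725)) (tt N52978 (iv0 F361724)) (tt N36795 F207100) (tt N97746 F418136) (tt N49513 F361722) (tt N80740 (iv5 F361717)) (tt N36793 (iv6 D128837)) (tt N49512 (iv7 F361723)))
theorem Q67333 : ∀ i, i < 67333 → P i := stepQ 67332 Q67332 (allL N67332 (tt N80725 F345380) (tt N36794 (iv0 D128838)) (tt N67270 (iv2 F333053)) (tt N97435 (iv3 F416897)) (tt N78583 F333047) (tt N67170 (iv5 F352473)) (tt N97434 F416893) (tt N67266 F333048))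
theorem Q67334 : ∀ i, i < 67334 → P i := stepQ 67333 Q67333 (allL N67333 (tt N36794 (iv1 D128839)) (tt N80725 F345381) (tt N67266 (iv2 F333044)) (tt N103366 D206553) (tt N78584 F333042) (tt N67171 (iv5 F339370)) (tt N97387 (iv6 F416655)) (tt N67270 (iv7 F333055)))
theorem Q67335 : ∀ i, i < 67335 → P i := stepQ 67334 Q67334 (allL N67334 (tt N49512 F345244) (tt N36795 (iv0 D128842)) (tt N52979 (iv2 F361732)) (tt N44636 F345245) (tt N49594 F345246) (tt N65160 (iv5 F347462)) (tt N44633 F345248) (tt N52978 F361731))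
theorem Q67336 : ∀ i, i < 67336 → P i := stepQ 67335 Q67335 (allL N67335 (tt N36795 (iv1 D128843)) (tt N49512 F361726) (tt N52978 F361728) (tt N97551 (iv3 F417350)) (tt N49593 (iv4 F361727)) (tt N65155 F361729) (tt N97710 (iv6 F418015)) (tt N52979 F361730))
theorem Q67337 : ∀ i, i < 67337 → P i := stepQ 67336 Q67336 (allL N67336 (tt N103367 D206554) (tt N81805 F347464) (tt N80740 F347465) (tt N36801 F207102) (tt N46794 F347466) (tt N36795 (iv5 D128844)) (tt N46796 F347467) (tt N52980 (iv7 F361718)))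
theorem Q67338 : ∀ i, i < 67338 → P i := stepQ 67337 Q67337 (allL N67337 (tt N103240 (iv1 F440733)) (tt N36798 (iv0 D128850)) (tt N91956 (iv2 F395122)) (tt N52361 (iv3 F341625)) (tt N60595 F341624) (tt N91950 (iv5 F395094)) (tt N60599 (iv6 F341626)) (tt N52359 F362301))
theorem Q67339 : ∀ i, i < 67339 → P i := stepQ 67338 Q67338 (allL N67338 (tt N36798 (iv1 D128851)) (tt N103240 F440732) (tt N52359 F392619) (tt N80413 F392620) (tt N97648 (iv4 F417762)) (tt N54958 F392621) (tt N52364 F392622) (tt N91956 (iv7 F395125)))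
theorem Q67340 : ∀ i, i < 67340 → P i := stepQ 67339 Q67339 (allL N67339 (tt N91980 (iv1 F395218)) (tt N55473 F347474) (tt N86977 (iv2 F377915)) (tt N46796 F325915) (tt N82373 (iv4 F347471)) (tt N36798 (iv5 D128852)) (tt N36801 F207112) (tt N46863 F325916))
theorem Q67341 : ∀ i, i < 67341 → P i := stepQ 67340 Q67340 (allL N67340 (tt N52359 F362302) (tt N91956 (iv0 F395126)) (tt N103240 (iv2 F440727)) (tt N46864 F325917) (tt N67422 (iv4 F207180)) (tt N46863 F325918) (tt N102080 (iv6 F435632)) (tt N36798 (iv7 D128853)))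
theorem Q67342 : ∀ i, i < 67342 → P i := stepQ 67341 Q67341 (allL N67341 (tt N103368 D206555) (tt N103360 (iv0 F441279)) (tt N103369 D206556) (tt N36799 (iv3 D128854)) (tt N70640 (iv4 F218009)) (tt N92058 F395578) (tt N68744 (iv6 F211492)) (tt N97951 (iv7 F418942)))
theorem Q67343 : ∀ i, i < 67343 → P i := stepQ 67342 Q67342 (allL N67342 (tt N103370 D206557) (tt N103371 D206558) (tt N91816 (iv2 F394537)) (tt N92058 (iv3 F395577)) (tt N91823 (iv4 F394557)) (tt N36799 (iv5 D128855)) (tt N65686 F364833) (tt N103241 (iv7 F440737)))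
theorem Q67344 : ∀ i, i < 67344 → P i := stepQ 67343 Q67343 (allL N67343 (tt N93228 F400039) (tt N103372 D206559) (tt N103373 D206560) (tt N36800 (iv3 D128856)) (tt N102459 (iv4 F437297)) (tt N52209 F362290) (tt N103374 D206561) (tt N91817 (iv7 F394539)))
theorem Q67345 : ∀ i, i < 67345 → P i := stepQ 67344 Q67344 (allL N67344 (tt N103371 (iv1 F441324)) (tt N103370 F441322) (tt N103241 (iv2 F440734)) (tt N52209 (iv3 F362289)) (tt N52237 F362288) (tt N36800 (iv5 D128857)) (tt N102081 (iv6 F435637)) (tt N91816 (iv7 F394535)))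
theorem Q67346 : ∀ i, i < 67346 → P i := stepQ 67345 Q67345 (allL N67345 (tt N92099 F395730) (tt N68847 F214403) (tt N92102 F395736) (tt N103374 (iv3 F441335)) (tt N69439 (iv4 F214402)) (tt N65713 (iv5 F349560)) (tt N36800 (iv6 D128858)) (tt N65712 (iv7 F332795)))
theorem Q67347 : ∀ i, i < 67347 → P i := stepQ 67346 Q67346 (allL N67346 (tt N67361 (iv1 F362272)) (tt N36801 (iv0 D128859)) (tt N69470 (iv2 F214449)) (tt N102352 (iv3 F436858)) (tt N91889 (iv4 F394841)) (tt N37671 F207113) (tt N102351 F436857) (tt N103242 (iv7 F440740)))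
theorem Q67348 : ∀ i, i < 67348 → P i := stepQ 67347 Q67347 (allL N67347 (tt N36801 (iv1 D128860)) (tt N67361 F362274) (tt N103242 F440743) (tt N103375 D206562) (tt N55488 (iv4 F363902)) (tt N67304 (iv5 F207114)) (tt N92094 (iv6 F395713)) (tt N69470 (iv7 F214450)))
theorem Q67349 : ∀ i, i < 67349 → P i := stepQ 67348 Q67348 (allL N67348 (tt N103376 D206563) (tt N83769 (iv0 F347470)) (tt N86978 (iv2 F377924)) (tt N81998 (iv3 F347468)) (tt N36801 (iv4 D128861)) (tt N87954 (iv5 F381276)) (tt N82373 F347469) (tt N103377 D206564))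
theorem Q67350 : ∀ i, i < 67350 → P i := stepQ 67349 Q67349 (allL N67349 (tt N103242 (iv1 F440739)) (tt N69470 (iv0 F214451)) (tt N67361 (iv2 F362269)) (tt N52980 F361719) (tt N103377 (iv4 F441351)) (tt N36802 F207115) (tt N67357 F362248) (tt N36801 (iv7 D128862)))
theorem Q67351 : ∀ i, i < 67351 → P i := stepQ 67350 Q67350 (allL N67350 (tt N103269 (iv1 F440898)) (tt N103266 F440882) (tt N101714 (iv2 F434007)) (tt N36803 (iv3 D128863)) (tt N68725 (iv4 F211442)) (tt N97846 (iv5 F418488)) (tt N68747 (iv6 F211505)) (tt N103243 (iv7 F440748)))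
theorem Q67352 : ∀ i, i < 67352 → P i := stepQ 67351 Q67351 (allL N67351 (tt N96068 F410898) (tt N96075 F410929) (tt N69138 (iv2 F212918)) (tt N85628 F415739) (tt N36804 (iv4 D128865)) (tt N99682 (iv5 F425721)) (tt N65930 F207116) (tt N74036 F226657))
theorem Q67353 : ∀ i, i < 67353 → P i := stepQ 67352 Q67352 (allL N67352 (tt N93669 (iv1 F401506)) (tt N68836 F211677) (tt N102180 (iv2 F436063)) (tt N101710 (iv3 F433992)) (tt N36807 F207118) (tt N92945 (iv5 F398856)) (tt N36805 (iv6 D128868)) (tt N68746 (iv7 F211502)))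
theorem Q67354 : ∀ i, i < 67354 → P i := stepQ 67353 Q67353 (allL N67353 (tt N96075 F410927) (tt N96068 (iv0 F410893)) (tt N74036 (iv2 F226655)) (tt N73983 (iv3 F226443)) (tt N36806 (iv4 D128869)) (tt N99683 (iv5 F425729)) (tt N56032 F207119) (tt N69138 (iv7 F212920)))
theorem Q67355 : ∀ i, i < 67355 → P i := stepQ 67354 Q67354 (allL N67354 (tt N103359 F441273) (tt N103378 D206565) (tt N103379 D206566) (tt N36811 (iv3 D128872)) (tt N66129 (iv4 F347621)) (tt N103335 (iv5 F441186)) (tt N66128 (iv6 F342928)) (tt N98015 (iv7 F419173)))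
theorem Q67356 : ∀ i, i < 67356 → P i := stepQ 67355 Q67355 (allL N67355 (tt N92784 (iv1 F398209)) (tt N66624 F364858) (tt N69219 F213420) (tt N66135 F342931) (tt N36811 (iv4 D128873)) (tt N45038 F342932) (tt N66134 (iv6 F342929)) (tt N56171 F342933))
theorem Q67357 : ∀ i, i < 67357 → P i := stepQ 67356 Q67356 (allL N67356 (tt N37188 F208711) (tt N37174 F208712) (tt N37183 F207730) (tt N36812 (iv3 D128877)) (tt N46813 F316696) (tt N103338 (iv5 F441192)) (tt N92175 (iv6 F396094)) (tt N37184 (iv7 F207731)))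
theorem Q67358 : ∀ i, i < 67358 → P i := stepQ 67357 Q67357 (allL N67357 (tt N67294 F362250) (tt N67292 F362264) (tt N36814 F207124) (tt N80725 F362247) (tt N103380 D206567) (tt N36813 (iv5 D128881)) (tt N67349 (iv6 F362248)) (tt N80724 (iv7 F362249)))
theorem Q67359 : ∀ i, i < 67359 → P i := stepQ 67358 Q67358 (allL N67358 (tt N80724 (iv1 F362265)) (tt N36814 (iv0 D128883)) (tt N67294 (iv2 F362261)) (tt N103381 D206568) (tt N55576 F362266) (tt N67166 F362262) (tt N97579 (iv6 F417442)) (tt N67292 F362263))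
theorem Q67360 : ∀ i, i < 67360 → P i := stepQ 67359 Q67359 (allL N67359 (tt N36814 (iv1 D128884)) (tt N80724 F362253) (tt N67292 (iv2 F362258)) (tt N95024 (iv3 F406701)) (tt N92527 (iv4 F397247)) (tt N67167 F362255) (tt N92532 (iv6 F397272)) (tt N67294 (iv7 F362259)))
theorem Q67361 : ∀ i, i < 67361 → P i := stepQ 67360 Q67360 (allL N67360 (tt N96867 F414355) (tt N103219 (iv0 F440634)) (tt N103380 (iv2 F441367)) (tt N67388 (iv3 F207153)) (tt N36814 (iv4 D128885)) (tt N103382 D206569) (tt N103383 D206570) (tt N103239 (iv7 F440723)))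
theorem Q67362 : ∀ i, i < 67362 → P i := stepQ 67361 Q67361 (allL N67361 (tt N67347 (iv1 F362274)) (tt N67346 F362272) (tt N67349 F362269) (tt N36816 F207126) (tt N103383 (iv4 F441383)) (tt N67184 (iv5 F362270)) (tt N36814 (iv6 D128886)) (tt N67183 (iv7 F362271)))
theorem Q67363 : ∀ i, i < 67363 → P i := stepQ 67362 Q67362 (allL N67362 (tt N36816 (iv1 D128892)) (tt N102080 F435633) (tt N97648 (iv2 F417760)) (tt N52350 F362297) (tt N52359 (iv4 F362300)) (tt N60596 F362287) (tt N52351 F362298) (tt N60595 (iv7 F362291)))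
theorem Q67364 : ∀ i, i < 67364 → P i := stepQ 67363 Q67363 (allL N67363 (tt N60678 F377921) (tt N91042 (iv0 F391725)) (tt N83985 (iv2 F367715)) (tt N67184 F362286) (tt N60932 (iv4 F362285)) (tt N36816 (iv5 D128893)) (tt N36819 F207129) (tt N67179 (iv7 F332866)))
theorem Q67365 : ∀ i, i < 67365 → P i := stepQ 67364 Q67364 (allL N67364 (tt N97648 (iv1 F417766)) (tt N60595 F362307) (tt N102080 (iv2 F435629)) (tt N67183 F362273) (tt N67399 (iv4 F207165)) (tt N67179 (iv5 F362306)) (tt N103240 (iv6 F440731)) (tt N36816 (iv7 D128894)))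
theorem Q67366 : ∀ i, i < 67366 → P i := stepQ 67365 Q67365 (allL N67365 (tt N103384 D206571) (tt N93231 (iv0 F435412)) (tt N103385 D206572) (tt N36817 (iv3 D128895)) (tt N69155 (iv4 F212990)) (tt N103386 D206573) (tt N92100 (iv6 F395731)) (tt N102078 (iv7 F435623)))
theorem Q67367 : ∀ i, i < 67367 → P i := stepQ 67366 Q67366 (allL N67366 (tt N54796 (iv1 F365692)) (tt N56491 (iv0 F333540)) (tt N68646 F211260) (tt N103386 (iv3 F441391)) (tt N92665 (iv4 F397805)) (tt N36817 (iv5 D128896)) (tt N93988 (iv6 F402722)) (tt N68647 (iv7 F211262)))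
theorem Q67368 : ∀ i, i < 67368 → P i := stepQ 67367 Q67367 (allL N67367 (tt N103358 F441268) (tt N68010 F418082) (tt N103387 D206574) (tt N36818 (iv3 D128898)) (tt N70043 (iv4 F216462)) (tt N103388 D206575) (tt N68718 (iv6 F211434)) (tt N98009 (iv7 F419154)))
theorem Q67369 : ∀ i, i < 67369 → P i := stepQ 67368 Q67368 (allL N67368 (tt N56491 (iv1 F333541)) (tt N54796 (iv0 F365691)) (tt N68647 F211264) (tt N103388 (iv3 F441395)) (tt N56332 F332819) (tt N36818 (iv5 D128899)) (tt N56331 F349626) (tt N68646 F211261))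
theorem Q67370 : ∀ i, i < 67370 → P i := stepQ 67369 Q67369 (allL N67369 (tt N84098 (iv1 F368093)) (tt N36853 F361234) (tt N84097 F368089) (tt N36821 (iv3 D128904)) (tt N37129 F207138) (tt N103389 D206576) (tt N102762 (iv6 F438525)) (tt N69174 (iv7 F213124)))
theorem Q67371 : ∀ i, i < 67371 → P i := stepQ 67370 Q67370 (allL N67370 (tt N92927 (iv1 F398793)) (tt N56580 F207139) (tt N92926 F398785) (tt N103389 (iv3 F441397)) (tt N61576 (iv4 F347543)) (tt N36821 (iv5 D128905)) (tt N97055 (iv6 F415237)) (tt N61574 (iv7 F342965)))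
theorem Q67372 : ∀ i, i < 67372 → P i := stepQ 67371 Q67371 (allL N67371 (tt N68833 F211671) (tt N92893 (iv0 F398681)) (tt N65992 F360387) (tt N102762 (iv3 F438524)) (tt N36822 F207140) (tt N95349 (iv5 F407953)) (tt N36821 (iv6 D128906)) (tt N68730 (iv7 F211454)))
theorem Q67373 : ∀ i, i < 67373 → P i := stepQ 67372 Q67372 (allL N67372 (tt N103270 (iv1 F440906)) (tt N67418 (iv0 F364794)) (tt N103273 (iv2 F440924)) (tt N36823 (iv3 D128907)) (tt N68747 (iv4 F211504)) (tt N103390 D206577) (tt N68725 (iv6 F211443)) (tt N65994 (iv7 F360391)))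
theorem Q67374 : ∀ i, i < 67374 → P i := stepQ 67373 Q67373 (allL N67373 (tt N56580 F207141) (tt N92927 F398792) (tt N61574 (iv2 F342963)) (tt N103390 (iv3 F441402)) (tt N55827 F347540) (tt N36823 (iv5 D128908)) (tt N55826 (iv6 F361702)) (tt N92926 (iv7 F398786)))
theorem Q67375 : ∀ i, i < 67375 → P i := stepQ 67374 Q67374 (allL N67374 (tt N36850 F218460) (tt N70801 (iv0 F218457)) (tt N103354 (iv2 F441245)) (tt N36824 (iv3 D128910)) (tt N38801 F207143) (tt N80717 (iv5 F345750)) (tt N103391 D206578) (tt N103257 (iv7 F440829)))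
theorem Q67376 : ∀ i, i < 67376 → P i := stepQ 67375 Q67375 (allL N67375 (tt N103392 D206579) (tt N103393 D206580) (tt N103260 (iv2 F440845)) (tt N103394 D206581) (tt N36824 (iv4 D128911)) (tt N98656 F421756) (tt N103395 D206582) (tt N103258 (iv7 F440837)))
theorem Q67377 : ∀ i, i < 67377 → P i := stepQ 67376 Q67376 (allL N67376 (tt N103279 (iv1 F440957)) (tt N36861 F362191) (tt N103261 (iv2 F440848)) (tt N80717 F362189) (tt N103396 D206583) (tt N36824 (iv5 D128912)) (tt N82385 (iv6 F362190)) (tt N103259 (iv7 F440841)))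
theorem Q67378 : ∀ i, i < 67378 → P i := stepQ 67377 Q67377 (allL N67377 (tt N103397 D206584) (tt N68831 (iv0 F396544)) (tt N97733 (iv2 F418104)) (tt N103391 (iv3 F441408)) (tt N103395 (iv4 F441426)) (tt N66598 F396543) (tt N36824 (iv6 D128913)) (tt N68751 (iv7 F396542)))
theorem Q67379 : ∀ i, i < 67379 → P i := stepQ 67378 Q67378 (allL N67378 (tt N65830 F413897) (tt N65824 (iv0 F413895)) (tt N97749 F418154) (tt N36825 (iv3 D128915)) (tt N102595 (iv4 F437838)) (tt N96779 (iv5 F413892)) (tt N68752 F396539) (tt N97748 (iv7 F418148)))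
theorem Q67380 : ∀ i, i < 67380 → P i := stepQ 67379 Q67379 (allL N67379 (tt N103393 (iv1 F441416)) (tt N103392 F441413) (tt N103258 (iv2 F440835)) (tt N67846 (iv3 F208152)) (tt N36825 (iv4 D128916)) (tt N98655 (iv5 F421754)) (tt N68753 F396540) (tt N103260 (iv7 F440846)))
theorem Q67381 : ∀ i, i < 67381 → P i := stepQ 67380 Q67380 (allL N67380 (tt N36861 F396536) (tt N103279 F440958) (tt N103259 (iv2 F440838)) (tt N96779 (iv3 F413890)) (tt N83777 (iv4 F395747)) (tt N36825 (iv5 D128917)) (tt N83776 F395746) (tt N103261 (iv7 F440851)))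
theorem Q67382 : ∀ i, i < 67382 → P i := stepQ 67381 Q67381 (allL N67381 (tt N92257 (iv1 F396495)) (tt N69119 F212822) (tt N36827 F207145) (tt N92252 (iv3 F396476)) (tt N36826 (iv4 D128919)) (tt N103398 D206585) (tt N103399 D206586) (tt N92258 (iv7 F396498)))
theorem Q67383 : ∀ i, i < 67383 → P i := stepQ 67382 Q67382 (allL N67382 (tt N65657 (iv1 F395673)) (tt N92082 (iv0 F395671)) (tt N36828 F207146) (tt N103247 (iv3 F440770)) (tt N103400 D206587) (tt N36826 (iv5 D128920)) (tt N97481 (iv6 F417032)) (tt N92103 (iv7 F395740)))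
theorem Q67384 : ∀ i, i < 67384 → P i := stepQ 67383 Q67383 (allL N67383 (tt N66602 (iv1 F352195)) (tt N65579 F352194) (tt N36829 F207147) (tt N103248 (iv3 F440777)) (tt N103399 (iv4 F441441)) (tt N94117 (iv5 F403287)) (tt N36826 (iv6 D128921)) (tt N97572 (iv7 F417420)))
theorem Q67385 : ∀ i, i < 67385 → P i := stepQ 67384 Q67384 (allL N67384 (tt N92258 (iv1 F396499)) (tt N36827 (iv0 D128922)) (tt N92257 F396493) (tt N37116 F207148) (tt N67977 (iv4 F208748)) (tt N103401 D206588) (tt N103402 D206589) (tt N69119 (iv7 F212820)))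
theorem Q67386 : ∀ i, i < 67386 → P i := stepQ 67385 Q67385 (allL N67385 (tt N103403 D206590) (tt N103404 D206591) (tt N103398 (iv2 F441437)) (tt N39245 F207150) (tt N103405 D206592) (tt N36827 (iv5 D128924)) (tt N103406 D206593) (tt N92259 (iv7 F396502)))
theorem Q67387 : ∀ i, i < 67387 → P i := stepQ 67386 Q67386 (allL N67386 (tt N95852 (iv1 F409952)) (tt N97856 (iv0 F418534)) (tt N103399 (iv2 F441440)) (tt N39246 F207151) (tt N36829 F207152) (tt N103407 D206594) (tt N36827 (iv6 D128925)) (tt N103408 D206595))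
theorem Q67388 : ∀ i, i < 67388 → P i := stepQ 67387 Q67387 (allL N67387 (tt N92103 (iv1 F395739)) (tt N36828 (iv0 D128926)) (tt N65657 (iv2 F362944)) (tt N80723 F362945) (tt N91971 (iv4 F395186)) (tt N93223 (iv5 F400021)) (tt N65656 F362946) (tt N92082 (iv7 F395670)))
theorem Q67389 : ∀ i, i < 67389 → P i := stepQ 67388 Q67388 (allL N67388 (tt N103409 D206596) (tt N92004 (iv0 F395331)) (tt N103400 (iv2 F441444)) (tt N67360 F207153) (tt N36828 (iv4 D128928)) (tt N103410 D206597) (tt N91983 F395243) (tt N91806 F394501))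
theorem Q67390 : ∀ i, i < 67390 → P i := stepQ 67389 Q67389 (allL N67389 (tt N65646 F362304) (tt N65648 F395242) (tt N97481 F417031) (tt N36832 F207154) (tt N91983 (iv4 F395240)) (tt N97134 (iv5 F415616)) (tt N36828 (iv6 D128929)) (tt N97482 (iv7 F417033)))
theorem Q67391 : ∀ i, i < 67391 → P i := stepQ 67390 Q67390 (allL N67390 (tt N60576 (iv1 F352199)) (tt N96895 (iv0 F414490)) (tt N94117 (iv2 F403285)) (tt N36833 F207155) (tt N59076 (iv4 F352198)) (tt N36829 (iv5 D128932)) (tt N97134 (iv6 F415614)) (tt N60684 F352197))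
theorem Q67392 : ∀ i, i < 67392 → P i := stepQ 67391 Q67391 (allL N67391 (tt N65579 F352191) (tt N66602 F352193) (tt N97572 F417418) (tt N36834 F207156) (tt N103408 (iv4 F441486)) (tt N60684 (iv5 F352192)) (tt N103264 (iv6 F440868)) (tt N36829 (iv7 D128933)))
theorem Q67393 : ∀ i, i < 67393 → P i := stepQ 67392 Q67392 (allL N67392 (tt N65823 (iv1 F348765)) (tt N97650 F417774) (tt N65661 (iv2 F343548)) (tt N36830 (iv3 D128934)) (tt N96020 (iv4 F410665)) (tt N67164 F207157) (tt N59605 F343547) (tt N67242 F207158))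
theorem Q67394 : ∀ i, i < 67394 → P i := stepQ 67393 Q67393 (allL N67393 (tt N92681 F397867) (tt N92036 (iv0 F395470)) (tt N67257 F207159) (tt N59605 F343542) (tt N67395 (iv4 F207163)) (tt N103411 D206598) (tt N36830 (iv6 D128935)) (tt N65662 (iv7 F343541)))
theorem Q67395 : ∀ i, i < 67395 → P i := stepQ 67394 Q67394 (allL N67394 (tt N36847 F208790) (tt N36852 F208791) (tt N78186 (iv2 F246739)) (tt N36831 (iv3 D128936)) (tt N59500 (iv4 F348792)) (tt N37838 F207160) (tt N59499 F348766) (tt N67255 F207161))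
theorem Q67396 : ∀ i, i < 67396 → P i := stepQ 67395 Q67395 (allL N67395 (tt N65533 F362952) (tt N65528 (iv0 F362949)) (tt N67244 F207162) (tt N59499 (iv3 F343537)) (tt N67393 F207163) (tt N98005 (iv5 F419142)) (tt N36831 (iv6 D128937)) (tt N92086 (iv7 F395681)))
theorem Q67397 : ∀ i, i < 67397 → P i := stepQ 67396 Q67396 (allL N67396 (tt N103254 (iv1 F440814)) (tt N36832 (iv0 D128938)) (tt N97604 (iv2 F417556)) (tt N97663 (iv3 F417836)) (tt N65960 (iv4 F362292)) (tt N65640 F362281) (tt N65963 F362294) (tt N86985 (iv7 F377944)))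
theorem Q67398 : ∀ i, i < 67398 → P i := stepQ 67397 Q67397 (allL N67397 (tt N36832 (iv1 D128939)) (tt N103254 F440813) (tt N86985 (iv2 F377943)) (tt N80151 F358177) (tt N67420 F358178) (tt N65641 (iv5 F358176)) (tt N103412 D206599) (tt N97604 (iv7 F417558)))
theorem Q67399 : ∀ i, i < 67399 → P i := stepQ 67398 Q67398 (allL N67398 (tt N86938 (iv1 F377781)) (tt N82352 (iv0 F362275)) (tt N86937 (iv2 F377776)) (tt N97134 (iv3 F415613)) (tt N55531 F362282) (tt N36832 (iv5 D128940)) (tt N36833 F207164) (tt N86936 (iv7 F377773)))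
theorem Q67400 : ∀ i, i < 67400 → P i := stepQ 67399 Q67399 (allL N67399 (tt N86985 (iv1 F377946)) (tt N97604 F417562) (tt N103254 (iv2 F440808)) (tt N97482 F417034) (tt N67364 F207165) (tt N86936 (iv5 F377770)) (tt N102340 F436804) (tt N36832 (iv7 D128941)))
theorem Q67401 : ∀ i, i < 67401 → P i := stepQ 67400 Q67400 (allL N67400 (tt N103256 (iv1 F440826)) (tt N36833 (iv0 D128942)) (tt N67579 (iv2 F207412)) (tt N79735 F348752) (tt N103376 (iv4 F441346)) (tt N37663 F207166) (tt N60617 (iv6 F358153)) (tt N103255 (iv7 F440816)))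
theorem Q67402 : ∀ i, i < 67402 → P i := stepQ 67401 Q67401 (allL N67401 (tt N36833 (iv1 D128943)) (tt N103256 F440825) (tt N103255 (iv2 F440819)) (tt N47760 F341766) (tt N83769 F341767) (tt N67306 (iv5 F207167)) (tt N47758 F341768) (tt N67579 (iv7 F207413)))
theorem Q67403 : ∀ i, i < 67403 → P i := stepQ 67402 Q67402 (allL N67402 (tt N55479 (iv1 F363903)) (tt N91903 F394893) (tt N91298 (iv2 F392607)) (tt N91291 (iv3 F392581)) (tt N36833 (iv4 D128944)) (tt N88073 F381684) (tt N55531 (iv6 F362284)) (tt N91902 (iv7 F394880)))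
theorem Q67404 : ∀ i, i < 67404 → P i := stepQ 67403 Q67403 (allL N67403 (tt N103255 (iv1 F440815)) (tt N67579 (iv0 F207414)) (tt N103256 (iv2 F440821)) (tt N60684 F352196) (tt N91902 (iv4 F394881)) (tt N36834 F207168) (tt N60682 (iv6 F352202)) (tt N36833 (iv7 D128945)))
theorem Q67405 : ∀ i, i < 67405 → P i := stepQ 67404 Q67404 (allL N67404 (tt N98033 (iv1 F419241)) (tt N97516 (iv0 F417216)) (tt N98034 (iv2 F419246)) (tt N36835 (iv3 D128947)) (tt N61696 F207170) (tt N103413 D206600) (tt N68761 F339690) (tt N92185 (iv7 F396147)))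
theorem Q67406 : ∀ i, i < 67406 → P i := stepQ 67405 Q67405 (allL N67405 (tt N77223 (iv1 F349812)) (tt N38546 (iv0 F216302)) (tt N103246 (iv2 F440762)) (tt N91793 (iv3 F394452)) (tt N36835 (iv4 D128948)) (tt N47584 F339682) (tt N68762 F339691) (tt N103244 (iv7 F440752)))
theorem Q67407 : ∀ i, i < 67407 → P i := stepQ 67406 Q67406 (allL N67406 (tt N80446 F339683) (tt N36863 F339684) (tt N45834 F339685) (tt N103413 (iv3 F441508)) (tt N45852 F339686) (tt N36835 (iv5 D128949)) (tt N45832 F339687) (tt N103245 (iv7 F440758)))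
theorem Q67408 : ∀ i, i < 67408 → P i := stepQ 67407 Q67407 (allL N67407 (tt N70803 F355003) (tt N36845 F355004) (tt N70800 F355005) (tt N36836 (iv3 D128952)) (tt N103414 D206601) (tt N45841 F355006) (tt N98031 (iv6 F419235)) (tt N45840 F355007))
theorem Q67409 : ∀ i, i < 67409 → P i := stepQ 67408 Q67408 (allL N67408 (tt N38546 F355010) (tt N77223 F355011) (tt N103244 (iv2 F440750)) (tt N38524 (iv3 F207172)) (tt N36836 (iv4 D128953)) (tt N87825 (iv5 F380685)) (tt N103415 D206602) (tt N103246 (iv7 F440766)))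
theorem Q67410 : ∀ i, i < 67410 → P i := stepQ 67409 Q67409 (allL N67409 (tt N36863 F347506) (tt N80446 F347507) (tt N103245 (iv2 F440756)) (tt N45841 F347508) (tt N45856 F347509) (tt N36836 (iv5 D128954)) (tt N46162 F347510) (tt N45834 F347511))
theorem Q67411 : ∀ i, i < 67411 → P i := stepQ 67410 Q67410 (allL N67410 (tt N68834 (iv1 F365927)) (tt N97507 (iv0 F417156)) (tt N92183 F396139) (tt N98031 (iv3 F419232)) (tt N103415 (iv4 F441520)) (tt N69259 (iv5 F347513)) (tt N36836 (iv6 D128955)) (tt N68767 (iv7 F347516)))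
theorem Q67412 : ∀ i, i < 67412 → P i := stepQ 67411 Q67411 (allL N67411 (tt N102402 F437086) (tt N103249 F440785) (tt N36838 F207173) (tt N92103 F395741) (tt N82368 F355013) (tt N36837 (iv5 D128956)) (tt N82367 (iv6 F355012)) (tt N103247 (iv7 F440772)))
theorem Q67413 : ∀ i, i < 67413 → P i := stepQ 67412 Q67412 (allL N67412 (tt N97501 (iv1 F417167)) (tt N97510 F417176) (tt N36839 F207174) (tt N103262 (iv3 F440856)) (tt N91686 F394035) (tt N102369 (iv5 F436942)) (tt N36837 (iv6 D128957)) (tt N97509 (iv7 F417166)))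
theorem Q67414 : ∀ i, i < 67414 → P i := stepQ 67413 Q67413 (allL N67413 (tt N103247 (iv1 F440774)) (tt N36838 (iv0 D128958)) (tt N102402 (iv2 F437081)) (tt N92073 (iv3 F395628)) (tt N75410 F349818) (tt N69773 (iv5 F349819)) (tt N75409 (iv6 F349820)) (tt N103249 (iv7 F440786)))
theorem Q67415 : ∀ i, i < 67415 → P i := stepQ 67414 Q67414 (allL N67414 (tt N36838 (iv1 D128959)) (tt N103247 (iv0 F440773)) (tt N103249 F440784) (tt N65889 F360219) (tt N79398 (iv4 F347322)) (tt N69774 (iv5 F336396)) (tt N65887 (iv6 F360218)) (tt N102402 (iv7 F437085)))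
theorem Q67416 : ∀ i, i < 67416 → P i := stepQ 67415 Q67415 (allL N67415 (tt N80958 (iv1 F358868)) (tt N75845 F348454) (tt N82368 (iv2 F355014)) (tt N44745 (iv3 F320208)) (tt N36838 (iv4 D128960)) (tt N44740 F318045) (tt N44743 F318046) (tt N103250 (iv7 F440791)))
theorem Q67417 : ∀ i, i < 67417 → P i := stepQ 67416 Q67416 (allL N67416 (tt N102365 F436926) (tt N45872 F341627) (tt N82367 (iv2 F341629)) (tt N36840 F207176) (tt N44743 F341628) (tt N103416 D206603) (tt N36838 (iv6 D128961)) (tt N103417 D206604))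
theorem Q67418 : ∀ i, i < 67418 → P i := stepQ 67417 Q67417 (allL N67417 (tt N36839 (iv1 D128963)) (tt N97509 F417168) (tt N97510 (iv2 F417171)) (tt N103418 D206605) (tt N103419 D206606) (tt N103420 D206607) (tt N83300 (iv6 F417132)) (tt N97501 F417131))
theorem Q67419 : ∀ i, i < 67419 → P i := stepQ 67418 Q67418 (allL N67418 (tt N67372 F364794) (tt N92777 (iv0 F398178)) (tt N102369 F436944) (tt N36841 F207177) (tt N82778 (iv4 F364792)) (tt N36839 (iv5 D128964)) (tt N103416 (iv6 F441526)) (tt N67210 F342948))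
theorem Q67420 : ∀ i, i < 67420 → P i := stepQ 67419 Q67419 (allL N67419 (tt N97510 (iv1 F417177)) (tt N97501 (iv0 F417130)) (tt N97509 F417165) (tt N36842 F207178) (tt N91690 F394054) (tt N67210 F342947) (tt N103253 (iv6 F440805)) (tt N36839 (iv7 D128965)))
theorem Q67421 : ∀ i, i < 67421 → P i := stepQ 67420 Q67420 (allL N67420 (tt N36840 (iv1 D128967)) (tt N102340 F436805) (tt N102341 (iv2 F436806)) (tt N103421 D206608) (tt N67397 (iv4 F358178)) (tt N60532 (iv5 F341621)) (tt N103422 D206609) (tt N60531 F341622))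
theorem Q67422 : ∀ i, i < 67422 → P i := stepQ 67421 Q67421 (allL N67421 (tt N92710 F397931) (tt N86575 (iv0 F376527)) (tt N97862 (iv2 F418558)) (tt N103416 (iv3 F441525)) (tt N50881 F341623) (tt N36840 (iv5 D128968)) (tt N36841 F207179) (tt N102390 (iv7 F437024)))
theorem Q67423 : ∀ i, i < 67423 → P i := stepQ 67422 Q67422 (allL N67422 (tt N102341 (iv1 F436810)) (tt N60531 (iv0 F362303)) (tt N102340 F436801) (tt N103417 (iv3 F441531)) (tt N67340 F207180) (tt N102390 (iv5 F437020)) (tt N103254 (iv6 F440812)) (tt N36840 (iv7 D128969)))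
theorem Q67424 : ∀ i, i < 67424 → P i := stepQ 67423 Q67423 (allL N67423 (tt N36856 (iv1 F207187)) (tt N36855 F207188) (tt N36859 F207184) (tt N67479 (iv3 F207297)) (tt N44446 F207185) (tt N36843 (iv5 D128974)) (tt N80416 (iv6 F362853)) (tt N36854 F207186))
theorem Q67425 : ∀ i, i < 67425 → P i := stepQ 67424 Q67424 (allL N67424 (tt N68813 (iv1 F211650)) (tt N68812 F211649) (tt N36860 F207189) (tt N103265 (iv3 F440872)) (tt N37172 F207190) (tt N103423 D206610) (tt N36843 (iv6 D128975)) (tt N68772 (iv7 F211542)))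
theorem Q67426 : ∀ i, i < 67426 → P i := stepQ 67425 Q67425 (allL N67425 (tt N103354 (iv1 F441250)) (tt N103257 F440832) (tt N70801 (iv2 F218455)) (tt N36844 (iv3 D128978)) (tt N38873 (iv4 F207230)) (tt N47439 F347404) (tt N84093 (iv6 F368079)) (tt N36850 F207193))
theorem Q67427 : ∀ i, i < 67427 → P i := stepQ 67426 Q67426 (allL N67426 (tt N67255 (iv1 F212203)) (tt N78186 (iv0 F246742)) (tt N36847 F207197) (tt N47439 F347405) (tt N94432 (iv4 F404459)) (tt N36844 (iv5 D128980)) (tt N52838 F347406) (tt N36852 F207198))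
theorem Q67428 : ∀ i, i < 67428 → P i := stepQ 67427 Q67427 (allL N67427 (tt N69136 F337859) (tt N80039 (iv0 F341740)) (tt N36848 F207199) (tt N84093 (iv3 F368076)) (tt N38870 (iv4 F207231)) (tt N65116 (iv5 F337897)) (tt N36844 (iv6 D128981)) (tt N79743 (iv7 F342195)))
theorem Q67429 : ∀ i, i < 67429 → P i := stepQ 67428 Q67428 (allL N67428 (tt N36845 (iv1 D128983)) (tt N70803 F218468) (tt N45840 F333478) (tt N98034 (iv3 F419247)) (tt N70618 (iv4 F217970)) (tt N45819 F333479) (tt N52623 (iv6 F333481)) (tt N70800 (iv7 F333482)))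
theorem Q67430 : ∀ i, i < 67430 → P i := stepQ 67429 Q67429 (allL N67429 (tt N90425 (iv1 F389602)) (tt N90424 F389599) (tt N70802 (iv2 F218463)) (tt N36848 F207201) (tt N70795 (iv4 F218430)) (tt N79744 F359330) (tt N36845 (iv6 D128986)) (tt N90426 (iv7 F389601)))
theorem Q67431 : ∀ i, i < 67431 → P i := stepQ 67430 Q67430 (allL N67430 (tt N37057 F207206) (tt N38885 F207233) (tt N38865 (iv2 F207208)) (tt N36846 (iv3 D128990)) (tt N69178 F213194) (tt N65222 F357873) (tt N103424 D206611) (tt N38886 F207207))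
theorem Q67432 : ∀ i, i < 67432 → P i := stepQ 67431 Q67431 (allL N67431 (tt N83635 (iv1 F348863)) (tt N69128 F354301) (tt N38870 F207237) (tt N103424 (iv3 F441564)) (tt N36848 F207238) (tt N82560 (iv5 F348865)) (tt N36846 (iv6 D128992)) (tt N103425 D206612))
theorem Q67433 : ∀ i, i < 67433 → P i := stepQ 67432 Q67432 (allL N67432 (tt N36852 (iv1 F207253)) (tt N36847 (iv0 D128994)) (tt N67255 (iv2 F208788)) (tt N65661 F343549) (tt N39998 F208787) (tt N67254 (iv5 F208789)) (tt N65659 F348808) (tt N78186 (iv7 F246741)))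
theorem Q67434 : ∀ i, i < 67434 → P i := stepQ 67433 Q67433 (allL N67433 (tt N101951 (iv1 F435071)) (tt N96602 (iv0 F413144)) (tt N94432 (iv2 F404456)) (tt N58322 F345394) (tt N36847 (iv4 D128996)) (tt N44461 F208765) (tt N100824 (iv6 F430649)) (tt N94434 (iv7 F404468)))
theorem Q67435 : ∀ i, i < 67435 → P i := stepQ 67434 Q67434 (allL N67434 (tt N64242 F347412) (tt N80151 F347413) (tt N52838 (iv2 F347407)) (tt N46535 F359329) (tt N100824 (iv4 F430647)) (tt N46187 F347414) (tt N36847 (iv6 D128997)) (tt N80095 (iv7 F359327)))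
theorem Q67436 : ∀ i, i < 67436 → P i := stepQ 67435 Q67435 (allL N67435 (tt N78186 (iv1 F246743)) (tt N67255 F212205) (tt N36852 F207251) (tt N65911 (iv3 F333451)) (tt N94434 (iv4 F404467)) (tt N36849 F207252) (tt N101511 (iv6 F433216)) (tt N36847 (iv7 D128998)))
theorem Q67437 : ∀ i, i < 67437 → P i := stepQ 67436 Q67436 (allL N67436 (tt N80039 (iv1 F341754)) (tt N69136 F341957) (tt N79743 F361748) (tt N90426 (iv3 F389600)) (tt N103425 (iv4 F441571)) (tt N64935 (iv5 F337896)) (tt N84098 (iv6 F368091)) (tt N36848 (iv7 D129002)))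
theorem Q67438 : ∀ i, i < 67438 → P i := stepQ 67437 Q67437 (allL N67437 (tt N84097 (iv1 F368090)) (tt N69174 F365893) (tt N36853 F207254) (tt N70812 (iv3 F218481)) (tt N103140 (iv4 F440260)) (tt N102379 (iv5 F436982)) (tt N36849 (iv6 D129003)) (tt N84098 (iv7 F368092)))
theorem Q67439 : ∀ i, i < 67439 → P i := stepQ 67438 Q67438 (allL N67438 (tt N70801 F218458) (tt N36850 (iv0 D129004)) (tt N103257 (iv2 F440827)) (tt N97749 F418152) (tt N38800 F207255) (tt N80719 (iv5 F333038)) (tt N68789 (iv6 F354754)) (tt N103354 (iv7 F441248)))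
theorem Q67440 : ∀ i, i < 67440 → P i := stepQ 67439 Q67439 (allL N67439 (tt N103257 F440833) (tt N103354 (iv0 F441249)) (tt N36850 (iv2 D129006)) (tt N70803 (iv3 F218466)) (tt N51152 (iv4 F347402)) (tt N97467 (iv5 F416973)) (tt N49601 F347403) (tt N70801 F218459))
theorem Q67441 : ∀ i, i < 67441 → P i := stepQ 67440 Q67440 (allL N67440 (tt N96986 F418064) (tt N103426 D206613) (tt N103140 (iv2 F440258)) (tt N38884 F207265) (tt N36853 F207266) (tt N79829 (iv5 F348596)) (tt N36851 (iv6 D129011)) (tt N84088 (iv7 F368056)))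
theorem Q67442 : ∀ i, i < 67442 → P i := stepQ 67441 Q67441 (allL N67441 (tt N96602 (iv1 F413145)) (tt N101951 (iv0 F435070)) (tt N94434 (iv2 F404465)) (tt N103427 D206614) (tt N36852 (iv4 D129012)) (tt N44458 (iv5 F208766)) (tt N101513 (iv6 F433219)) (tt N94432 (iv7 F404458)))
theorem Q67443 : ∀ i, i < 67443 → P i := stepQ 67442 Q67442 (allL N67442 (tt N102335 F436784) (tt N103428 D206615) (tt N101511 (iv2 F433213)) (tt N54269 (iv3 F361238)) (tt N101513 (iv4 F433218)) (tt N54268 F361242) (tt N36852 (iv6 D129013)) (tt N82354 (iv7 F347416)))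
theorem Q67444 : ∀ i, i < 67444 → P i := stepQ 67443 Q67443 (allL N67443 (tt N36853 (iv1 D129015)) (tt N84098 F368094) (tt N69174 F361228) (tt N103273 F440923) (tt N37205 F361229) (tt N103429 D206616) (tt N68785 F361230) (tt N84097 (iv7 F368087)))
theorem Q67445 : ∀ i, i < 67445 → P i := stepQ 67444 Q67444 (allL N67444 (tt N102380 (iv1 F436991)) (tt N102376 (iv0 F436973)) (tt N102379 F436983) (tt N46805 F361243) (tt N103430 D206617) (tt N36853 (iv5 D129016)) (tt N54268 F361244) (tt N84099 (iv7 F368099)))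
theorem Q67446 : ∀ i, i < 67446 → P i := stepQ 67445 Q67445 (allL N67445 (tt N36859 (iv1 F207267)) (tt N36854 (iv0 D129018)) (tt N36855 F214152) (tt N103431 D206618) (tt N72335 (iv4 F222168)) (tt N68933 F211929) (tt N103432 D206619) (tt N36856 F214153))
theorem Q67447 : ∀ i, i < 67447 → P i := stepQ 67446 Q67446 (allL N67446 (tt N36854 (iv1 D129019)) (tt N36859 F207268) (tt N36856 F214148) (tt N45839 F345574) (tt N72337 (iv4 F222182)) (tt N68932 F211922) (tt N80443 (iv6 F345575)) (tt N36855 F214149))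
theorem Q67448 : ∀ i, i < 67448 → P i := stepQ 67447 Q67447 (allL N67447 (tt N83569 F354388) (tt N45827 F354389) (tt N36858 F207269) (tt N102053 F435528) (tt N58013 F354392) (tt N68802 (iv5 F211641)) (tt N36854 (iv6 D129020)) (tt N83568 (iv7 F341828)))
theorem Q67449 : ∀ i, i < 67449 → P i := stepQ 67448 Q67448 (allL N67448 (tt N45841 F337367) (tt N45819 F337368) (tt N45838 F337369) (tt N36855 (iv3 D129022)) (tt N44627 F337370) (tt N103304 (iv5 F441057)) (tt N74741 F337371) (tt N45839 F337372))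
theorem Q67450 : ∀ i, i < 67450 → P i := stepQ 67449 Q67449 (allL N67449 (tt N103433 D206620) (tt N101860 (iv0 F434709)) (tt N72335 (iv2 F222166)) (tt N64160 (iv3 F337366)) (tt N36855 (iv4 D129023)) (tt N44403 F208891) (tt N103434 D206621) (tt N72337 (iv7 F222183)))
theorem Q67451 : ∀ i, i < 67451 → P i := stepQ 67450 Q67450 (allL N67450 (tt N100799 F430528) (tt N96450 (iv0 F412570)) (tt N103432 (iv2 F441606)) (tt N74741 (iv3 F364148)) (tt N103434 (iv4 F441618)) (tt N65956 (iv5 F406812)) (tt N36855 (iv6 D129025)) (tt N81732 F364149))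
theorem Q67452 : ∀ i, i < 67452 → P i := stepQ 67451 Q67451 (allL N67451 (tt N80719 (iv1 F333037)) (tt N80717 (iv0 F345748)) (tt N79371 F333034) (tt N36856 (iv3 D129027)) (tt N47272 F333035) (tt N103306 (iv5 F441066)) (tt N47284 F333036) (tt N103431 (iv7 F441603)))
theorem Q67453 : ∀ i, i < 67453 → P i := stepQ 67452 Q67452 (allL N67452 (tt N101860 (iv1 F434710)) (tt N103433 F441613) (tt N72337 (iv2 F222181)) (tt N47292 F333023) (tt N36856 (iv4 D129028)) (tt N44401 F208895) (tt N47296 F333024) (tt N72335 (iv7 F222167)))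
theorem Q67454 : ∀ i, i < 67454 → P i := stepQ 67453 Q67453 (allL N67453 (tt N103435 D206622) (tt N102043 (iv0 F435483)) (tt N80443 (iv2 F333033)) (tt N47284 F333026) (tt N47296 F333027) (tt N103436 D206623) (tt N36856 (iv6 D129030)) (tt N103437 D206624))
theorem Q67455 : ∀ i, i < 67455 → P i := stepQ 67454 Q67454 (allL N67454 (tt N44446 (iv1 F207282)) (tt N36857 (iv0 D129031)) (tt N72340 (iv2 F222196)) (tt N80009 (iv3 F361366)) (tt N103438 D206625) (tt N44406 (iv5 F208893)) (tt N93743 (iv6 F401738)) (tt N72342 (iv7 F222204)))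
theorem Q67456 : ∀ i, i < 67456 → P i := stepQ 67455 Q67455 (allL N67455 (tt N36857 (iv1 D129032)) (tt N44446 F207272) (tt N72342 (iv2 F222203)) (tt N59672 (iv3 F337395)) (tt N97756 (iv4 F418184)) (tt N44405 (iv5 F208888)) (tt N96785 (iv6 F413928)) (tt N72340 (iv7 F222197)))
theorem Q67457 : ∀ i, i < 67457 → P i := stepQ 67456 Q67456 (allL N67456 (tt N96009 (iv1 F410613)) (tt N96008 F410610) (tt N56878 F207273) (tt N36857 (iv3 D129033)) (tt N36865 F207274) (tt N65465 F207275) (tt N79800 F341834) (tt N67214 (iv7 F207276)))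
theorem Q67458 : ∀ i, i < 67458 → P i := stepQ 67457 Q67457 (allL N67457 (tt N58007 (iv1 F341838)) (tt N58015 (iv0 F341831)) (tt N58013 (iv2 F354393)) (tt N79800 (iv3 F341832)) (tt N36858 F207277) (tt N103439 D206626) (tt N36857 (iv6 D129034)) (tt N58012 F354470))
theorem Q67459 : ∀ i, i < 67459 → P i := stepQ 67458 Q67458 (allL N67458 (tt N72342 (iv1 F222206)) (tt N72340 (iv0 F222198)) (tt N44446 F207278) (tt N67214 F207279) (tt N36859 F207280) (tt N44445 F207281) (tt N96458 F412606) (tt N36857 (iv7 D129035)))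
theorem Q67460 : ∀ i, i < 67460 → P i := stepQ 67459 Q67459 (allL N67459 (tt N36858 (iv1 D129037)) (tt N83568 F341822) (tt N45827 F341823) (tt N83567 F341824) (tt N64958 F341825) (tt N52710 (iv5 F358445)) (tt N65405 F358446) (tt N83569 F341826))
theorem Q67461 : ∀ i, i < 67461 → P i := stepQ 67460 Q67460 (allL N67460 (tt N45827 F354390) (tt N83569 F354391) (tt N83568 F341829) (tt N36869 F207283) (tt N58012 (iv4 F354465)) (tt N68811 (iv5 F211648)) (tt N80417 (iv6 F343674)) (tt N36858 (iv7 D129038)))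
theorem Q67462 : ∀ i, i < 67462 → P i := stepQ 67461 Q67461 (allL N67461 (tt N52295 F358299) (tt N80418 F380698) (tt N80416 F362852) (tt N36870 F207284) (tt N96458 F412605) (tt N92018 (iv5 F395382)) (tt N36859 (iv6 D129039)) (tt N80417 (iv7 F343675)))
theorem Q67463 : ∀ i, i < 67463 → P i := stepQ 67462 Q67462 (allL N67462 (tt N68772 (iv1 F211544)) (tt N36860 (iv0 D129040)) (tt N68813 (iv2 F366776)) (tt N98030 (iv3 F419224)) (tt N90518 (iv4 F389932)) (tt N103440 D206627) (tt N103441 D206628) (tt N68812 F366777))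
theorem Q67464 : ∀ i, i < 67464 → P i := stepQ 67463 Q67463 (allL N67463 (tt N36860 (iv1 D129041)) (tt N68772 F211543) (tt N68812 F366775) (tt N103442 D206629) (tt N70109 (iv4 F216695)) (tt N103443 D206630) (tt N103444 D206631) (tt N68813 (iv7 F366774)))
theorem Q67465 : ∀ i, i < 67465 → P i := stepQ 67464 Q67464 (allL N67464 (tt N102295 F436604) (tt N103445 D206632) (tt N103423 (iv2 F441558)) (tt N36873 F207285) (tt N103269 (iv4 F440895)) (tt N36860 (iv5 D129042)) (tt N92018 F395385) (tt N68814 (iv7 F211652)))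
theorem Q67466 : ∀ i, i < 67466 → P i := stepQ 67465 Q67465 (allL N67465 (tt N103261 F440853) (tt N103259 F440844) (tt N36861 (iv2 D129045)) (tt N80446 (iv3 F362770)) (tt N99715 (iv4 F425881)) (tt N67236 F207286) (tt N80445 F362769) (tt N103279 (iv7 F440956)))
theorem Q67467 : ∀ i, i < 67467 → P i := stepQ 67466 Q67466 (allL N67466 (tt N103446 D206633) (tt N103447 D206634) (tt N99715 (iv2 F425879)) (tt N67299 F207287) (tt N36861 (iv4 D129046)) (tt N68387 (iv5 F343930)) (tt N65935 F343931) (tt N103280 (iv7 F440960)))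
theorem Q67468 : ∀ i, i < 67468 → P i := stepQ 67467 Q67467 (allL N67467 (tt N102108 F435768) (tt N60043 F348394) (tt N80445 F343933) (tt N36862 F207288) (tt N65935 (iv4 F343932)) (tt N65929 F343934) (tt N36861 (iv6 D129047)) (tt N97607 (iv7 F417576)))
theorem Q67469 : ∀ i, i < 67469 → P i := stepQ 67468 Q67468 (allL N67468 (tt N65931 (iv1 F355904)) (tt N36862 (iv0 D129048)) (tt N97605 F417565) (tt N102886 (iv3 F439104)) (tt N67473 (iv4 F355905)) (tt N58835 F355903) (tt N102103 (iv6 F435736)) (tt N97606 (iv7 F417568)))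
theorem Q67470 : ∀ i, i < 67470 → P i := stepQ 67469 Q67469 (allL N67469 (tt N36862 (iv1 D129049)) (tt N65931 F365654) (tt N97606 F417572) (tt N96450 F412571) (tt N67474 (iv4 F365656)) (tt N58834 (iv5 F365655)) (tt N96449 (iv6 F412572)) (tt N97605 F417566))
theorem Q67471 : ∀ i, i < 67471 → P i := stepQ 67470 Q67470 (allL N67470 (tt N45834 F349822) (tt N103245 (iv0 F440760)) (tt N36863 (iv2 D129054)) (tt N103279 (iv3 F440954)) (tt N101809 (iv4 F434445)) (tt N67289 F207291) (tt N97498 (iv6 F417113)) (tt N80446 (iv7 F339665)))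
theorem Q67472 : ∀ i, i < 67472 → P i := stepQ 67471 Q67471 (allL N67471 (tt N103448 D206635) (tt N68466 (iv0 F363235)) (tt N101809 (iv2 F434441)) (tt N67276 F207292) (tt N36863 (iv4 D129055)) (tt N68507 (iv5 F210731)) (tt N103449 D206636) (tt N103278 (iv7 F440951)))
theorem Q67473 : ∀ i, i < 67473 → P i := stepQ 67472 Q67472 (allL N67472 (tt N100685 (iv1 F430007)) (tt N45731 F395573) (tt N97498 (iv2 F417112)) (tt N36864 F207293) (tt N103449 (iv4 F441687)) (tt N92056 (iv5 F395572)) (tt N36863 (iv6 D129056)) (tt N100684 (iv7 F430001)))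
theorem Q67474 : ∀ i, i < 67474 → P i := stepQ 67473 Q67473 (allL N67473 (tt N97608 F417583) (tt N36864 (iv0 D129057)) (tt N103281 F440963) (tt N103435 (iv3 F441622)) (tt N67468 F355905) (tt N99711 (iv5 F425859)) (tt N103450 D206637) (tt N103282 (iv7 F440968)))
theorem Q67475 : ∀ i, i < 67475 → P i := stepQ 67474 Q67474 (allL N67474 (tt N36864 (iv1 D129058)) (tt N97608 F417582) (tt N103282 (iv2 F440972)) (tt N65762 F365657) (tt N67469 F365656) (tt N65757 (iv5 F365658)) (tt N101974 (iv6 F435168)) (tt N103281 F440964))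
theorem Q67476 : ∀ i, i < 67476 → P i := stepQ 67475 Q67475 (allL N67475 (tt N103451 D206638) (tt N80358 (iv0 F362186)) (tt N103283 (iv2 F440974)) (tt N92056 (iv3 F395571)) (tt N99713 (iv4 F425868)) (tt N36864 (iv5 D129059)) (tt N67290 F207294) (tt N103452 D206639))
theorem Q67477 : ∀ i, i < 67477 → P i := stepQ 67476 Q67476 (allL N67476 (tt N103282 (iv1 F440967)) (tt N103281 F440962) (tt N97608 (iv2 F417579)) (tt N100684 (iv3 F429998)) (tt N60545 (iv4 F364831)) (tt N103452 (iv5 F441697)) (tt N65931 F365652) (tt N36864 (iv7 D129060)))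
theorem Q67478 : ∀ i, i < 67478 → P i := stepQ 67477 Q67477 (allL N67477 (tt N67211 (iv1 F207296)) (tt N36865 (iv0 D129061)) (tt N67213 (iv2 F358257)) (tt N66024 (iv3 F349609)) (tt N103453 D206640) (tt N67239 F349607) (tt N47751 F349608) (tt N67212 (iv7 F358262)))
theorem Q67479 : ∀ i, i < 67479 → P i := stepQ 67478 Q67478 (allL N67478 (tt N36865 (iv1 D129062)) (tt N67211 F207302) (tt N67212 F358263) (tt N103454 D206641) (tt N103455 D206642) (tt N67240 (iv5 F358266)) (tt N97769 (iv6 F418235)) (tt N67213 F358261))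
theorem Q67480 : ∀ i, i < 67480 → P i := stepQ 67479 Q67479 (allL N67479 (tt N67213 (iv1 F207303)) (tt N67212 F207301) (tt N36865 (iv2 D129063)) (tt N67423 F207297) (tt N56878 F207298) (tt N67202 F207299) (tt N97779 F418275) (tt N67211 F207300))
theorem Q67481 : ∀ i, i < 67481 → P i := stepQ 67480 Q67480 (allL N67480 (tt N67491 (iv1 F207314)) (tt N36866 (iv0 D129065)) (tt N67492 F400055) (tt N80065 F400051) (tt N93232 (iv4 F400050)) (tt N103456 D206643) (tt N97772 F418249) (tt N67493 (iv7 F400053)))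
theorem Q67482 : ∀ i, i < 67482 → P i := stepQ 67481 Q67481 (allL N67481 (tt N36866 (iv1 D129066)) (tt N67491 F207313) (tt N67493 (iv2 F400056)) (tt N97518 (iv3 F417223)) (tt N93233 F400061) (tt N103457 D206644) (tt N97904 (iv6 F418735)) (tt N67492 F400057))
theorem Q67483 : ∀ i, i < 67483 → P i := stepQ 67482 Q67482 (allL N67482 (tt N95853 F409955) (tt N103458 D206645) (tt N67494 (iv2 F207317)) (tt N93213 (iv3 F399988)) (tt N103459 D206646) (tt N36866 (iv5 D129067)) (tt N67222 F207305) (tt N93210 (iv7 F399983)))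
theorem Q67484 : ∀ i, i < 67484 → P i := stepQ 67483 Q67483 (allL N67483 (tt N67493 (iv1 F207316)) (tt N67492 F207315) (tt N67491 (iv2 F207310)) (tt N93212 (iv3 F399985)) (tt N36869 F207306) (tt N93210 (iv5 F399982)) (tt N67221 F207307) (tt N36866 (iv7 D129068)))
theorem Q67485 : ∀ i, i < 67485 → P i := stepQ 67484 Q67484 (allL N67484 (tt N83779 F343672) (tt N83776 F364568) (tt N85676 (iv2 F373490)) (tt N36867 (iv3 D129070)) (tt N103460 D206647) (tt N86674 (iv5 F376767)) (tt N96744 F413733) (tt N102076 (iv7 F435615)))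
theorem Q67486 : ∀ i, i < 67486 → P i := stepQ 67485 Q67485 (allL N67485 (tt N60715 F343670) (tt N44624 F343671) (tt N82378 F358314) (tt N103461 D206648) (tt N36867 (iv4 D129071)) (tt N103462 D206649) (tt N57253 F395221) (tt N82377 F358312))
theorem Q67487 : ∀ i, i < 67487 → P i := stepQ 67486 Q67486 (allL N67486 (tt N103463 D206650) (tt N97649 (iv0 F417769)) (tt N103284 (iv2 F440979)) (tt N86674 F376768) (tt N103464 D206651) (tt N36867 (iv5 D129072)) (tt N103465 D206652) (tt N103285 (iv7 F440988)))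
theorem Q67488 : ∀ i, i < 67488 → P i := stepQ 67487 Q67487 (allL N67487 (tt N101974 (iv1 F435171)) (tt N97774 (iv0 F418259)) (tt N97484 (iv2 F417041)) (tt N96744 (iv3 F413729)) (tt N57253 (iv4 F395223)) (tt N102101 (iv5 F435727)) (tt N36867 (iv6 D129073)) (tt N97486 (iv7 F417054)))
theorem Q67489 : ∀ i, i < 67489 → P i := stepQ 67488 Q67488 (allL N67488 (tt N44624 F341793) (tt N60715 F341794) (tt N82377 (iv2 F358313)) (tt N82393 F341795) (tt N36868 (iv4 D129076)) (tt N103466 D206653) (tt N97561 F417384) (tt N82378 F358309))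
theorem Q67490 : ∀ i, i < 67490 → P i := stepQ 67489 Q67489 (allL N67489 (tt N97649 F417770) (tt N103463 F441738) (tt N103285 (iv2 F440985)) (tt N79736 F341817) (tt N103467 D206654) (tt N36868 (iv5 D129077)) (tt N83602 F358222) (tt N103284 (iv7 F440982)))
theorem Q67491 : ∀ i, i < 67491 → P i := stepQ 67490 Q67490 (allL N67490 (tt N86939 F377784) (tt N102103 F435739) (tt N102104 (iv2 F435740)) (tt N82019 (iv3 F362484)) (tt N97561 (iv4 F417382)) (tt N91953 F395112) (tt N36868 (iv6 D129078)) (tt N102096 (iv7 F435702)))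
theorem Q67492 : ∀ i, i < 67492 → P i := stepQ 67491 Q67491 (allL N67491 (tt N67481 (iv1 F207313)) (tt N67480 F207314) (tt N67483 F207310) (tt N80417 F343673) (tt N67221 F207311) (tt N103468 D206655) (tt N36869 (iv6 D129079)) (tt N36870 F207312))
theorem Q67493 : ∀ i, i < 67493 → P i := stepQ 67492 Q67492 (allL N67492 (tt N67483 (iv1 F207315)) (tt N36870 (iv0 D129080)) (tt N67480 (iv2 F400055)) (tt N102884 (iv3 F439092)) (tt N70725 (iv4 F354466)) (tt N103469 D206656) (tt N102025 (iv6 F435406)) (tt N67481 (iv7 F400057)))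
theorem Q67494 : ∀ i, i < 67494 → P i := stepQ 67493 Q67493 (allL N67493 (tt N36870 (iv1 D129081)) (tt N67483 F207316) (tt N67481 F400056) (tt N82383 F362863) (tt N70726 (iv4 F362861)) (tt N103470 D206657) (tt N97600 (iv6 F417548)) (tt N67480 F400053))
theorem Q67495 : ∀ i, i < 67495 → P i := stepQ 67494 Q67494 (allL N67494 (tt N97564 F417592) (tt N103471 D206658) (tt N67482 F207317) (tt N92018 F395384) (tt N103472 D206659) (tt N36870 (iv5 D129082)) (tt N36873 F207318) (tt N103468 (iv7 F441760)))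
theorem Q67496 : ∀ i, i < 67496 → P i := stepQ 67495 Q67495 (allL N67495 (tt N68751 F421210) (tt N97733 F421211) (tt N103397 F441434) (tt N36871 (iv3 D129083)) (tt N102517 (iv4 F437488)) (tt N103473 D206660) (tt N103474 D206661) (tt N68831 (iv7 F211665)))
theorem Q67497 : ∀ i, i < 67497 → P i := stepQ 67496 Q67496 (allL N67496 (tt N103475 D206662) (tt N103476 D206663) (tt N68835 (iv2 F211673)) (tt N103473 (iv3 F441779)) (tt N103477 D206664) (tt N36871 (iv5 D129084)) (tt N103478 D206665) (tt N68832 (iv7 F211667)))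
theorem Q67498 : ∀ i, i < 67498 → P i := stepQ 67497 Q67497 (allL N67497 (tt N102180 (iv1 F436069)) (tt N68746 F211503) (tt N68836 (iv2 F211675)) (tt N103474 (iv3 F441785)) (tt N56730 F207319) (tt N102094 (iv5 F435693)) (tt N36871 (iv6 D129085)) (tt N93669 (iv7 F401504)))
theorem Q67499 : ∀ i, i < 67499 → P i := stepQ 67498 Q67498 (allL N67498 (tt N92183 F396138) (tt N68767 F362096) (tt N97507 (iv2 F417155)) (tt N36872 (iv3 D129086)) (tt N70433 (iv4 F217388)) (tt N77342 (iv5 F358582)) (tt N65968 (iv6 F355995)) (tt N68834 (iv7 F211672)))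
theorem Q67500 : ∀ i, i < 67500 → P i := stepQ 67499 Q67499 (allL N67499 (tt N103476 (iv1 F441791)) (tt N103475 F441788) (tt N68832 (iv2 F211666)) (tt N77342 F358583) (tt N103479 D206666) (tt N36872 (iv5 D129087)) (tt N103480 D206667) (tt N68835 (iv7 F211674)))
theorem Q67501 : ∀ i, i < 67501 → P i := stepQ 67500 Q67500 (allL N67500 (tt N36873 (iv1 D129089)) (tt N56572 F207321) (tt N68837 (iv2 F399093)) (tt N69258 F400127) (tt N102573 (iv4 F437719)) (tt N93250 (iv5 F400124)) (tt N103481 D206668) (tt N68838 F399092))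
theorem Q67502 : ∀ i, i < 67502 → P i := stepQ 67501 Q67501 (allL N67501 (tt N103482 D206669) (tt N103483 D206670) (tt N103286 (iv2 F440990)) (tt N103484 D206671) (tt N36873 (iv4 D129090)) (tt N93089 (iv5 F399434)) (tt N103472 (iv6 F441777)) (tt N68839 (iv7 F211680)))
theorem Q67503 : ∀ i, i < 67503 → P i := stepQ 67502 Q67502 (allL N67502 (tt N67571 (iv1 F211170)) (tt N67233 (iv0 F207323)) (tt N94495 (iv2 F404711)) (tt N36876 F207322) (tt N101005 (iv4 F431223)) (tt N36874 (iv5 D129091)) (tt N64679 (iv6 F328650)) (tt N68840 (iv7 F211682)))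
theorem Q67504 : ∀ i, i < 67504 → P i := stepQ 67503 Q67503 (allL N67503 (tt N69110 F228697) (tt N95903 (iv0 F410173)) (tt N71001 F350329) (tt N36877 F207324) (tt N66487 (iv4 F326054)) (tt N59127 F207325) (tt N36874 (iv6 D129092)) (tt N71003 (iv7 F360383)))
theorem Q67505 : ∀ i, i < 67505 → P i := stepQ 67504 Q67504 (allL N67504 (tt N68698 (iv1 F367310)) (tt N92172 F396092) (tt N92174 (iv2 F396089)) (tt N36875 (iv3 D129093)) (tt N69999 (iv4 F216409)) (tt N103485 D206672) (tt N97711 (iv6 F418021)) (tt N68841 (iv7 F211684)))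
theorem Q67506 : ∀ i, i < 67506 → P i := stepQ 67505 Q67505 (allL N67505 (tt N98011 (iv1 F419161)) (tt N98010 F419158) (tt N68846 (iv2 F211703)) (tt N103485 (iv3 F441822)) (tt N103486 D206673) (tt N36875 (iv5 D129094)) (tt N93106 (iv6 F399514)) (tt N68842 (iv7 F211686)))
theorem Q67507 : ∀ i, i < 67507 → P i := stepQ 67506 Q67506 (allL N67506 (tt N92102 (iv1 F395734)) (tt N65712 (iv0 F332793)) (tt N68847 (iv2 F211705)) (tt N97711 (iv3 F418019)) (tt N36877 F207326) (tt N103487 D206674) (tt N36875 (iv6 D129095)) (tt N92099 (iv7 F395729)))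
theorem Q67508 : ∀ i, i < 67508 → P i := stepQ 67507 Q67507 (allL N67507 (tt N92930 F398803) (tt N67282 (iv0 F216106)) (tt N68848 (iv2 F211707)) (tt N103488 D206675) (tt N36876 (iv4 D129096)) (tt N93219 (iv5 F400011)) (tt N67580 (iv6 F207418)) (tt N68843 (iv7 F211688)))
theorem Q67509 : ∀ i, i < 67509 → P i := stepQ 67508 Q67508 (allL N67508 (tt N67282 (iv1 F216107)) (tt N92930 F398802) (tt N68843 (iv2 F211687)) (tt N92238 (iv3 F396413)) (tt N36878 (iv4 D129100)) (tt N93218 (iv5 F400005)) (tt N67250 F207329) (tt N68848 (iv7 F211709)))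
theorem Q67510 : ∀ i, i < 67510 → P i := stepQ 67509 Q67509 (allL N67509 (tt N36879 (iv1 D129101)) (tt N68991 F212401) (tt N66178 (iv2 F212399)) (tt N102475 (iv3 F437359)) (tt N42369 F333196) (tt N66177 (iv5 F212400)) (tt N103489 D206676) (tt N42368 F333197))
theorem Q67511 : ∀ i, i < 67511 → P i := stepQ 67510 Q67510 (allL N67510 (tt N42368 F333201) (tt N66178 F207330) (tt N36879 (iv2 D129102)) (tt N67630 (iv3 F207512)) (tt N45045 (iv4 F333207)) (tt N67629 F207510) (tt N103490 D206677) (tt N68991 (iv7 F212393)))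
theorem Q67512 : ∀ i, i < 67512 → P i := stepQ 67511 Q67511 (allL N67511 (tt N38939 F207332) (tt N66126 F212550) (tt N67629 (iv2 F207508)) (tt N36880 F207331) (tt N60616 (iv4 F327330)) (tt N36879 (iv5 D129103)) (tt N60615 F365769) (tt N68992 (iv7 F212403)))
theorem Q67513 : ∀ i, i < 67513 → P i := stepQ 67512 Q67512 (allL N67512 (tt N103491 D206678) (tt N103492 D206679) (tt N103490 (iv2 F441845)) (tt N36881 F207333) (tt N69528 (iv4 F214627)) (tt N103493 D206680) (tt N36879 (iv6 D129104)) (tt N103494 D206681))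
theorem Q67514 : ∀ i, i < 67514 → P i := stepQ 67513 Q67513 (allL N67513 (tt N68999 (iv1 F212423)) (tt N36881 (iv0 D129106)) (tt N68996 F213969) (tt N103495 D206682) (tt N69353 F213967) (tt N88940 F404035) (tt N103496 D206683) (tt N68997 (iv7 F213968)))
theorem Q67515 : ∀ i, i < 67515 → P i := stepQ 67514 Q67514 (allL N67514 (tt N36881 (iv1 D129107)) (tt N68999 F212422) (tt N68997 (iv2 F213970)) (tt N97853 (iv3 F418515)) (tt N69354 F213975) (tt N103497 D206684) (tt N68875 (iv6 F213976)) (tt N68996 F213971))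
theorem Q67516 : ∀ i, i < 67516 → P i := stepQ 67515 Q67515 (allL N67515 (tt N103498 D206685) (tt N71078 (iv0 F219404)) (tt N68998 (iv2 F212417)) (tt N103493 (iv3 F441850)) (tt N75049 (iv4 F365822)) (tt N36881 (iv5 D129108)) (tt N60801 F365819) (tt N103499 D206686))
theorem Q67517 : ∀ i, i < 67517 → P i := stepQ 67516 Q67516 (allL N67516 (tt N68997 (iv1 F212415)) (tt N68996 F212421) (tt N68999 (iv2 F212418)) (tt N103494 (iv3 F441856)) (tt N36884 F207334) (tt N103499 (iv5 F441869)) (tt N37005 F207335) (tt N36881 (iv7 D129109)))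
theorem Q67518 : ∀ i, i < 67518 → P i := stepQ 67517 Q67517 (allL N67517 (tt N69006 (iv1 F212442)) (tt N36893 F211973) (tt N68953 (iv2 F212082)) (tt N103500 D206687) (tt N36882 (iv4 D129110)) (tt N103501 D206688) (tt N102632 (iv6 F437955)) (tt N69000 (iv7 F212426)))
theorem Q67519 : ∀ i, i < 67519 → P i := stepQ 67518 Q67518 (allL N67518 (tt N69074 F212737) (tt N55998 (iv0 F207340)) (tt N55941 F207336) (tt N66236 F207337) (tt N99058 (iv4 F423176)) (tt N36882 (iv5 D129111)) (tt N55863 F207338) (tt N66334 F207339))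
theorem Q67520 : ∀ i, i < 67520 → P i := stepQ 67519 Q67519 (allL N67519 (tt N36893 F207341) (tt N69006 F212441) (tt N69000 (iv2 F212424)) (tt N103502 D206689) (tt N36883 (iv4 D129112)) (tt N103503 D206690) (tt N68879 (iv6 F211809)) (tt N68953 (iv7 F212083)))
theorem Q67521 : ∀ i, i < 67521 → P i := stepQ 67520 Q67520 (allL N67520 (tt N78686 (iv1 F361793)) (tt N69150 (iv0 F212982)) (tt N103504 D206691) (tt N36885 (iv3 D129113)) (tt N36886 F207342) (tt N69864 (iv5 F216273)) (tt N70317 (iv6 F217174)) (tt N38445 F207343))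
theorem Q67522 : ∀ i, i < 67522 → P i := stepQ 67521 Q67521 (allL N67521 (tt N67630 (iv1 F207514)) (tt N36886 (iv0 D129114)) (tt N68994 F212410) (tt N97754 F418176) (tt N52314 (iv4 F347315)) (tt N66202 F207344) (tt N52313 F347317) (tt N68001 (iv7 F208826)))
theorem Q67523 : ∀ i, i < 67523 → P i := stepQ 67522 Q67522 (allL N67522 (tt N36886 (iv1 D129115)) (tt N67630 F207515) (tt N68001 (iv2 F208825)) (tt N66200 F208393) (tt N70985 (iv4 F347313)) (tt N66198 (iv5 F208392)) (tt N70984 F361795) (tt N68994 (iv7 F212408)))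
theorem Q67524 : ∀ i, i < 67524 → P i := stepQ 67523 Q67523 (allL N67523 (tt N68994 (iv1 F212407)) (tt N68001 (iv0 F208827)) (tt N36886 (iv2 D129116)) (tt N68991 (iv3 F212391)) (tt N103504 (iv4 F441873)) (tt N37901 F207346) (tt N103505 D206692) (tt N67630 (iv7 F207513)))
theorem Q67525 : ∀ i, i < 67525 → P i := stepQ 67524 Q67524 (allL N67524 (tt N103506 D206693) (tt N103507 D206694) (tt N103505 (iv2 F441878)) (tt N36888 F207347) (tt N70317 (iv4 F217173)) (tt N103508 D206695) (tt N36886 (iv6 D129117)) (tt N103509 D206696))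
theorem Q67526 : ∀ i, i < 67526 → P i := stepQ 67525 Q67525 (allL N67525 (tt N75095 F325465) (tt N75094 F325466) (tt N68993 (iv2 F212405)) (tt N67624 (iv3 F207503)) (tt N49252 F325467) (tt N103510 D206697) (tt N36887 (iv6 D129118)) (tt N50225 F325468))
theorem Q67527 : ∀ i, i < 67527 → P i := stepQ 67526 Q67526 (allL N67526 (tt N36888 (iv1 D129119)) (tt N37005 F207348) (tt N66406 (iv2 F207351)) (tt N103511 D206698) (tt N38462 F207350) (tt N103512 D206699) (tt N68925 F211901) (tt N38460 F207349))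
theorem Q67528 : ∀ i, i < 67528 → P i := stepQ 67527 Q67527 (allL N67527 (tt N103513 D206700) (tt N103514 D206701) (tt N66408 F207352) (tt N103508 (iv3 F441880)) (tt N57895 F330983) (tt N36888 (iv5 D129120)) (tt N103510 (iv6 F441887)) (tt N58207 (iv7 F330982)))
theorem Q67529 : ∀ i, i < 67529 → P i := stepQ 67528 Q67528 (allL N67528 (tt N66406 (iv1 F207355)) (tt N38460 F207356) (tt N37005 F207353) (tt N103509 (iv3 F441883)) (tt N36890 F207354) (tt N58207 F330980) (tt N68999 (iv6 F212420)) (tt N36888 (iv7 D129121)))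
theorem Q67530 : ∀ i, i < 67530 → P i := stepQ 67529 Q67529 (allL N67529 (tt N36896 F207359) (tt N37001 (iv0 F207360)) (tt N37003 F207357) (tt N103515 D206702) (tt N36889 (iv4 D129122)) (tt N103516 D206703) (tt N68864 (iv6 F211754)) (tt N36980 F207358))
theorem Q67531 : ∀ i, i < 67531 → P i := stepQ 67530 Q67530 (allL N67530 (tt N65820 (iv1 F343591)) (tt N36891 (iv0 D129123)) (tt N69002 F358346) (tt N45046 F362910) (tt N92110 (iv4 F395784)) (tt N38946 F217904) (tt N45052 F362911) (tt N69001 F358344))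
theorem Q67532 : ∀ i, i < 67532 → P i := stepQ 67531 Q67531 (allL N67531 (tt N36891 (iv1 D129124)) (tt N65820 (iv0 F343590)) (tt N69001 (iv2 F358345)) (tt N103517 D206704) (tt N92111 (iv4 F395793)) (tt N38945 F358348) (tt N103518 D206705) (tt N69002 (iv7 F358347)))
theorem Q67533 : ∀ i, i < 67533 → P i := stepQ 67532 Q67532 (allL N67532 (tt N98022 (iv1 F419202)) (tt N98024 (iv0 F419209)) (tt N92782 (iv2 F398198)) (tt N36893 F207369) (tt N56167 F362924) (tt N92834 (iv5 F398433)) (tt N36891 (iv6 D129127)) (tt N92833 (iv7 F398429)))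
theorem Q67534 : ∀ i, i < 67534 → P i := stepQ 67533 Q67533 (allL N67533 (tt N68908 (iv1 F361179)) (tt N37930 F207370) (tt N69005 (iv2 F212438)) (tt N92834 (iv3 F398431)) (tt N103519 D206706) (tt N36893 (iv5 D129130)) (tt N97944 (iv6 F418904)) (tt N92832 (iv7 F398420)))
theorem Q67535 : ∀ i, i < 67535 → P i := stepQ 67534 Q67534 (allL N67534 (tt N69000 (iv1 F212428)) (tt N68953 F212429) (tt N69006 (iv2 F212439)) (tt N92833 (iv3 F398426)) (tt N69811 (iv4 F216194)) (tt N92832 F398418) (tt N37001 F207371) (tt N36893 (iv7 D129131)))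
theorem Q67536 : ∀ i, i < 67536 → P i := stepQ 67535 Q67535 (allL N67535 (tt N41887 F327585) (tt N41885 F327586) (tt N60865 (iv2 F328049)) (tt N36896 F207373) (tt N39656 F207374) (tt N103520 D206707) (tt N36894 (iv6 D129132)) (tt N60866 F327587))
theorem Q67537 : ∀ i, i < 67537 → P i := stepQ 67536 Q67536 (allL N67536 (tt N75100 (iv1 F371175)) (tt N75097 (iv0 F363894)) (tt N67787 (iv2 F207839)) (tt N37881 F207375) (tt N69356 (iv4 F213985)) (tt N103521 D206708) (tt N36895 (iv6 D129133)) (tt N97946 (iv7 F418913)))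
theorem Q67538 : ∀ i, i < 67538 → P i := stepQ 67537 Q67537 (allL N67537 (tt N94955 (iv1 F406497)) (tt N94956 (iv0 F406498)) (tt N69004 (iv2 F212436)) (tt N103520 (iv3 F441923)) (tt N103522 D206709) (tt N36896 (iv5 D129134)) (tt N103521 (iv6 F441930)) (tt N103523 D206710))
theorem Q67539 : ∀ i, i < 67539 → P i := stepQ 67538 Q67538 (allL N67538 (tt N37003 (iv1 F207378)) (tt N36980 F207379) (tt N37001 F207376) (tt N60866 (iv3 F350887)) (tt N38237 F207377) (tt N103523 (iv5 F441937)) (tt N69006 (iv6 F212440)) (tt N36896 (iv7 D129135)))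
theorem Q67540 : ∀ i, i < 67540 → P i := stepQ 67539 Q67539 (allL N67539 (tt N66166 F212217) (tt N102446 (iv0 F437266)) (tt N102448 F437271) (tt N36897 (iv3 D129137)) (tt N38749 F207381) (tt N66082 F380832) (tt N103524 D206711) (tt N69007 (iv7 F214756)))
theorem Q67541 : ∀ i, i < 67541 → P i := stepQ 67540 Q67540 (allL N67540 (tt N69541 F214707) (tt N68944 (iv0 F212216)) (tt N37348 F214750) (tt N69547 (iv3 F214790)) (tt N36897 (iv4 D129138)) (tt N68003 (iv5 F208830)) (tt N103525 D206712) (tt N69008 F214751))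
theorem Q67542 : ∀ i, i < 67542 → P i := stepQ 67541 Q67541 (allL N67541 (tt N67777 (iv1 F207829)) (tt N37968 F207830) (tt N67780 F214758) (tt N66082 F380831) (tt N103526 D206713) (tt N36897 (iv5 D129139)) (tt N103527 D206714) (tt N67779 (iv7 F214757)))
theorem Q67543 : ∀ i, i < 67543 → P i := stepQ 67542 Q67542 (allL N67542 (tt N103528 D206715) (tt N103502 (iv0 F441947)) (tt N69011 (iv2 F214761)) (tt N103524 (iv3 F441940)) (tt N103525 (iv4 F441944)) (tt N103529 D206716) (tt N36897 (iv6 D129140)) (tt N103530 D206717))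
theorem Q67544 : ∀ i, i < 67544 → P i := stepQ 67543 Q67543 (allL N67543 (tt N98064 (iv1 F419331)) (tt N45046 F327307) (tt N75702 F327308) (tt N36898 (iv3 D129142)) (tt N45083 F327309) (tt N92924 (iv5 F398780)) (tt N103531 D206718) (tt N69010 F214763))
theorem Q67545 : ∀ i, i < 67545 → P i := stepQ 67544 Q67544 (allL N67544 (tt N37968 F207383) (tt N67777 F212969) (tt N67779 (iv2 F214759)) (tt N92924 (iv3 F398779)) (tt N88662 (iv4 F383774)) (tt N36898 (iv5 D129143)) (tt N88661 F383775) (tt N67780 F214760))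
theorem Q67546 : ∀ i, i < 67546 → P i := stepQ 67545 Q67545 (allL N67545 (tt N36999 F361156) (tt N67879 (iv0 F361153)) (tt N69009 F214762) (tt N103531 (iv3 F441958)) (tt N69542 (iv4 F214714)) (tt N103532 D206719) (tt N36898 (iv6 D129144)) (tt N103533 D206720))
theorem Q67547 : ∀ i, i < 67547 → P i := stepQ 67546 Q67546 (allL N67546 (tt N69015 (iv1 F212474)) (tt N69014 F212469) (tt N36900 F207384) (tt N102432 (iv3 F437205)) (tt N58946 F207385) (tt N36899 (iv5 D129145)) (tt N103534 D206721) (tt N69012 (iv7 F212462)))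
theorem Q67548 : ∀ i, i < 67548 → P i := stepQ 67547 Q67547 (allL N67547 (tt N102284 (iv1 F436548)) (tt N102283 F436545) (tt N36901 F207386) (tt N102433 (iv3 F437209)) (tt N36959 F207387) (tt N68924 (iv5 F361171)) (tt N36899 (iv6 D129146)) (tt N102273 (iv7 F436489)))
theorem Q67549 : ∀ i, i < 67549 → P i := stepQ 67548 Q67548 (allL N67548 (tt N69012 F212464) (tt N36900 (iv0 D129147)) (tt N69015 F212479) (tt N66164 F336989) (tt N78700 (iv4 F336981)) (tt N37038 F212465) (tt N103535 D206722) (tt N69014 F212472))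
theorem Q67550 : ∀ i, i < 67550 → P i := stepQ 67549 Q67549 (allL N67549 (tt N36900 (iv1 D129148)) (tt N69012 F212466) (tt N69014 F212471) (tt N93055 (iv3 F399303)) (tt N75127 (iv4 F336983)) (tt N37039 F207388) (tt N103536 D206723) (tt N69015 (iv7 F212475)))
theorem Q67551 : ∀ i, i < 67551 → P i := stepQ 67550 Q67550 (allL N67550 (tt N38488 F207391) (tt N58948 (iv0 F207392)) (tt N58946 F207389) (tt N70734 (iv3 F218205)) (tt N36900 (iv4 D129149)) (tt N78676 F336958) (tt N103537 D206724) (tt N58947 F207390))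
theorem Q67552 : ∀ i, i < 67552 → P i := stepQ 67551 Q67551 (allL N67551 (tt N103538 D206725) (tt N103539 D206726) (tt N103534 (iv2 F441965)) (tt N36902 F207393) (tt N103537 (iv4 F441976)) (tt N103540 D206727) (tt N36900 (iv6 D129150)) (tt N103541 D206728))
theorem Q67553 : ∀ i, i < 67553 → P i := stepQ 67552 Q67552 (allL N67552 (tt N102273 (iv1 F436491)) (tt N36901 (iv0 D129151)) (tt N102284 F436551) (tt N103542 D206729) (tt N60011 (iv4 F365995)) (tt N103543 D206730) (tt N67885 F365994) (tt N102283 F436547))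
theorem Q67554 : ∀ i, i < 67554 → P i := stepQ 67553 Q67553 (allL N67553 (tt N36901 (iv1 D129152)) (tt N102273 (iv0 F436490)) (tt N102283 F436546) (tt N103544 D206731) (tt N60016 (iv4 F351674)) (tt N103545 D206732) (tt N103546 D206733) (tt N102284 (iv7 F436549)))
theorem Q67555 : ∀ i, i < 67555 → P i := stepQ 67554 Q67554 (allL N67554 (tt N102558 (iv1 F437647)) (tt N102557 F437646) (tt N68924 F361169) (tt N36905 F207394) (tt N68863 (iv4 F361168)) (tt N36901 (iv5 D129153)) (tt N103540 (iv6 F441983)) (tt N102285 (iv7 F436555)))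
theorem Q67556 : ∀ i, i < 67556 → P i := stepQ 67555 Q67555 (allL N67555 (tt N67785 (iv1 F362150)) (tt N36902 (iv0 D129155)) (tt N102436 (iv2 F437226)) (tt N85058 (iv3 F371483)) (tt N70685 F418948) (tt N85057 (iv5 F371482)) (tt N103547 D206734) (tt N102437 (iv7 F437230)))
theorem Q67557 : ∀ i, i < 67557 → P i := stepQ 67556 Q67556 (allL N67556 (tt N36902 (iv1 D129156)) (tt N67785 (iv0 F345877)) (tt N102437 (iv2 F437232)) (tt N37046 F363935) (tt N70643 F363936) (tt N68901 (iv5 F345876)) (tt N75058 F363937) (tt N102436 (iv7 F437228)))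
theorem Q67558 : ∀ i, i < 67558 → P i := stepQ 67557 Q67557 (allL N67557 (tt N67784 (iv1 F362147)) (tt N67783 F362145) (tt N67786 (iv2 F345883)) (tt N103540 (iv3 F441982)) (tt N67820 F362143) (tt N36902 (iv5 D129157)) (tt N36905 F207397) (tt N67778 F362144))
theorem Q67559 : ∀ i, i < 67559 → P i := stepQ 67558 Q67558 (allL N67558 (tt N102437 (iv1 F437229)) (tt N102436 F437223) (tt N67785 F345879) (tt N103541 (iv3 F441988)) (tt N60735 (iv4 F366029)) (tt N67778 (iv5 F362146)) (tt N69023 (iv6 F212486)) (tt N36902 (iv7 D129158)))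
theorem Q67560 : ∀ i, i < 67560 → P i := stepQ 67559 Q67559 (allL N67559 (tt N103548 D206735) (tt N103518 (iv0 F451563)) (tt N103549 D206737) (tt N36903 (iv3 D129159)) (tt N87850 (iv4 F380838)) (tt N103550 D206738) (tt N68917 (iv6 F211891)) (tt N102439 (iv7 F437242)))
theorem Q67561 : ∀ i, i < 67561 → P i := stepQ 67560 Q67560 (allL N67560 (tt N67853 (iv1 F208165)) (tt N67887 F208207) (tt N67885 F208205) (tt N103550 (iv3 F442008)) (tt N46346 F334302) (tt N36903 (iv5 D129160)) (tt N102284 F436552) (tt N67884 F208202))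
theorem Q67562 : ∀ i, i < 67562 → P i := stepQ 67561 Q67561 (allL N67561 (tt N37044 F378885) (tt N102457 F437292) (tt N102455 F437283) (tt N36904 (iv3 D129161)) (tt N70613 (iv4 F217958)) (tt N103551 D206739) (tt N103552 D206740) (tt N102438 (iv7 F437236)))
theorem Q67563 : ∀ i, i < 67563 → P i := stepQ 67562 Q67562 (allL N67562 (tt N67887 (iv1 F208208)) (tt N67853 (iv0 F208164)) (tt N67884 F208201) (tt N103551 (iv3 F442009)) (tt N46340 F334297) (tt N36904 (iv5 D129162)) (tt N103553 D206741) (tt N67885 (iv7 F208203)))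
theorem Q67564 : ∀ i, i < 67564 → P i := stepQ 67563 Q67563 (allL N67563 (tt N68050 F217849) (tt N102632 (iv0 F437957)) (tt N102440 (iv2 F437243)) (tt N103552 (iv3 F442013)) (tt N70569 (iv4 F217847)) (tt N103554 D206742) (tt N36904 (iv6 D129163)) (tt N68921 (iv7 F211894)))
theorem Q67565 : ∀ i, i < 67565 → P i := stepQ 67564 Q67564 (allL N67564 (tt N37969 F334314) (tt N36905 (iv0 D129164)) (tt N102441 F437249) (tt N103555 D206743) (tt N64147 F334315) (tt N37104 F207398) (tt N103556 D206744) (tt N102442 (iv7 F437253)))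
theorem Q67566 : ∀ i, i < 67566 → P i := stepQ 67565 Q67565 (allL N67565 (tt N36905 (iv1 D129165)) (tt N37969 F334316) (tt N102442 F437256) (tt N103557 D206745) (tt N64142 F334317) (tt N37105 (iv5 F207399)) (tt N103558 D206746) (tt N102441 F437250))
theorem Q67567 : ∀ i, i < 67567 → P i := stepQ 67566 Q67566 (allL N67566 (tt N37988 F334318) (tt N37987 F334319) (tt N37989 F334320) (tt N59973 F334321) (tt N36905 (iv4 D129166)) (tt N45916 F334322) (tt N67820 F334323) (tt N37985 F334324))
theorem Q67568 : ∀ i, i < 67568 → P i := stepQ 67567 Q67567 (allL N67567 (tt N102442 (iv1 F437252)) (tt N102441 F437248) (tt N37969 F326005) (tt N102285 (iv3 F436554)) (tt N37985 F326006) (tt N36906 F207400) (tt N37967 F326007) (tt N36905 (iv7 D129167)))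
theorem Q67569 : ∀ i, i < 67569 → P i := stepQ 67568 Q67568 (allL N67568 (tt N36910 (iv1 F207402)) (tt N36908 (iv0 D129168)) (tt N70578 (iv2 F217878)) (tt N102606 (iv3 F437872)) (tt N38929 F207401) (tt N102603 (iv5 F437860)) (tt N68887 F211830) (tt N38926 F207403))
theorem Q67570 : ∀ i, i < 67570 → P i := stepQ 67569 Q67569 (allL N67569 (tt N75729 F399940) (tt N103489 F441844) (tt N103559 D206747) (tt N36908 (iv3 D129169)) (tt N93199 (iv4 F399939)) (tt N103560 D206748) (tt N68926 (iv6 F211902)) (tt N95807 (iv7 F409752)))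
theorem Q67571 : ∀ i, i < 67571 → P i := stepQ 67570 Q67570 (allL N67570 (tt N69885 (iv1 F216292)) (tt N103561 D206749) (tt N68982 (iv2 F362155)) (tt N103560 (iv3 F442041)) (tt N46174 F334313) (tt N36908 (iv5 D129170)) (tt N100818 (iv6 F430619)) (tt N68984 F362154))
theorem Q67572 : ∀ i, i < 67572 → P i := stepQ 67571 Q67571 (allL N67571 (tt N94591 F405100) (tt N67502 F211170) (tt N68599 (iv2 F211167)) (tt N36911 F207404) (tt N95137 (iv4 F407192)) (tt N68928 (iv5 F211906)) (tt N36909 (iv6 D129171)) (tt N68928 (iv7 F211907)))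
theorem Q67573 : ∀ i, i < 67573 → P i := stepQ 67572 Q67572 (allL N67572 (tt N52313 F366040) (tt N71953 F380815) (tt N103562 D206750) (tt N36910 (iv3 D129172)) (tt N95136 (iv4 F407188)) (tt N103563 D206751) (tt N103564 D206752) (tt N95809 (iv7 F409757)))
theorem Q67574 : ∀ i, i < 67574 → P i := stepQ 67573 Q67573 (allL N67573 (tt N103561 (iv1 F442045)) (tt N69885 (iv0 F216291)) (tt N68984 (iv2 F362152)) (tt N103563 (iv3 F442053)) (tt N46170 F362151) (tt N36910 (iv5 D129173)) (tt N103565 D206753) (tt N68982 (iv7 F362153)))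
theorem Q67575 : ∀ i, i < 67575 → P i := stepQ 67574 Q67574 (allL N67574 (tt N103566 D206754) (tt N103496 F441864) (tt N95808 (iv2 F409754)) (tt N103564 (iv3 F442057)) (tt N36911 F207405) (tt N103567 D206755) (tt N36910 (iv6 D129174)) (tt N68931 (iv7 F211911)))
theorem Q67576 : ∀ i, i < 67576 → P i := stepQ 67575 Q67575 (allL N67575 (tt N68614 (iv1 F211215)) (tt N36912 (iv0 D129175)) (tt N68613 (iv2 F216660)) (tt N103568 D206756) (tt N69044 (iv4 F212525)) (tt N56658 F211044) (tt N103307 (iv6 F441071)) (tt N68612 (iv7 F216634)))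
theorem Q67577 : ∀ i, i < 67577 → P i := stepQ 67576 Q67576 (allL N67576 (tt N36912 (iv1 D129176)) (tt N68614 F211216) (tt N68612 (iv2 F216663)) (tt N87660 F380021) (tt N68237 (iv4 F209333)) (tt N56659 (iv5 F211217)) (tt N87659 (iv6 F380022)) (tt N68613 F216662))
theorem Q67578 : ∀ i, i < 67578 → P i := stepQ 67577 Q67577 (allL N67577 (tt N68613 F211210) (tt N68612 F211207) (tt N36912 (iv2 D129177)) (tt N68602 (iv3 F211171)) (tt N36919 F207406) (tt N45873 F340304) (tt N45876 F340305) (tt N68614 (iv7 F211214)))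
theorem Q67579 : ∀ i, i < 67579 → P i := stepQ 67578 Q67578 (allL N67578 (tt N36914 (iv1 D129182)) (tt N68608 F211187) (tt N68607 F211181) (tt N103569 D206757) (tt N56574 F207411) (tt N97845 (iv5 F418483)) (tt N68937 F211955) (tt N68606 (iv7 F211188)))
theorem Q67580 : ∀ i, i < 67580 → P i := stepQ 67579 Q67579 (allL N67579 (tt N67403 F207414) (tt N67193 F207415) (tt N67400 F207412) (tt N45863 F341769) (tt N79437 F341770) (tt N36914 (iv5 D129183)) (tt N45862 F341771) (tt N67401 F207413))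
theorem Q67581 : ∀ i, i < 67581 → P i := stepQ 67580 Q67580 (allL N67580 (tt N68623 (iv1 F211236)) (tt N38194 F211198) (tt N68610 (iv2 F211195)) (tt N88648 (iv3 F383696)) (tt N36915 (iv4 D129185)) (tt N103371 (iv5 F441325)) (tt N67507 F207418) (tt N68611 (iv7 F211203)))
theorem Q67582 : ∀ i, i < 67582 → P i := stepQ 67581 Q67581 (allL N67581 (tt N56482 (iv1 F211948)) (tt N62871 (iv0 F326744)) (tt N68651 F211696) (tt N36916 (iv3 D129186)) (tt N60854 (iv4 F363891)) (tt N96067 (iv5 F410888)) (tt N68941 (iv6 F211974)) (tt N68609 (iv7 F211194)))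
theorem Q67583 : ∀ i, i < 67583 → P i := stepQ 67582 Q67582 (allL N67582 (tt N38194 F207419) (tt N68623 F211235) (tt N68611 (iv2 F211201)) (tt N60593 F363900) (tt N36916 (iv4 D129187)) (tt N103370 (iv5 F441320)) (tt N68942 (iv6 F211979)) (tt N68610 (iv7 F211196)))
theorem Q67584 : ∀ i, i < 67584 → P i := stepQ 67583 Q67583 (allL N67583 (tt N37351 F214803) (tt N69547 F214804) (tt N69546 (iv2 F217688)) (tt N36917 (iv3 D129189)) (tt N67617 F207487) (tt N37635 F211042) (tt N103570 D206758) (tt N68954 F217693))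
theorem Q67585 : ∀ i, i < 67585 → P i := stepQ 67584 Q67584 (allL N67584 (tt N67627 F207505) (tt N68656 (iv0 F214805)) (tt N68958 F217720) (tt N103571 D206759) (tt N36917 (iv4 D129190)) (tt N103572 D206760) (tt N103573 D206761) (tt N68955 (iv7 F217719)))
theorem Q67586 : ∀ i, i < 67586 → P i := stepQ 67585 Q67585 (allL N67585 (tt N69058 (iv1 F212648)) (tt N36934 F212204) (tt N68959 (iv2 F217727)) (tt N103570 (iv3 F442078)) (tt N103573 (iv4 F442087)) (tt N91321 (iv5 F392724)) (tt N36917 (iv6 D129192)) (tt N69057 (iv7 F217729)))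
theorem Q67587 : ∀ i, i < 67587 → P i := stepQ 67586 Q67586 (allL N67586 (tt N68900 F212288) (tt N37421 F212289) (tt N69388 F217701) (tt N36918 (iv3 D129194)) (tt N67740 (iv4 F207663)) (tt N37638 (iv5 F211038)) (tt N100734 (iv6 F430216)) (tt N68957 (iv7 F217703)))
theorem Q67588 : ∀ i, i < 67588 → P i := stepQ 67587 Q67587 (allL N67587 (tt N68656 F212536) (tt N67627 (iv0 F212290)) (tt N68955 (iv2 F217721)) (tt N68624 (iv3 F211237)) (tt N36918 (iv4 D129195)) (tt N93244 (iv5 F400093)) (tt N103574 D206762) (tt N68958 F217722))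
theorem Q67589 : ∀ i, i < 67589 → P i := stepQ 67588 Q67588 (allL N67588 (tt N36972 F336575) (tt N68989 F336576) (tt N68956 F217744) (tt N100734 (iv3 F430215)) (tt N103574 (iv4 F442088)) (tt N46124 F336577) (tt N36918 (iv6 D129197)) (tt N68988 F336578))
theorem Q67590 : ∀ i, i < 67590 → P i := stepQ 67589 Q67589 (allL N67589 (tt N103575 D206763) (tt N103576 D206764) (tt N36921 F207423) (tt N68947 (iv3 F212068)) (tt N45876 F342198) (tt N67997 (iv5 F212089)) (tt N36919 (iv6 D129199)) (tt N101697 (iv7 F433921)))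
theorem Q67591 : ∀ i, i < 67591 → P i := stepQ 67590 Q67590 (allL N67590 (tt N101697 (iv1 F433922)) (tt N36921 (iv0 D129204)) (tt N103575 (iv2 F442093)) (tt N102782 (iv3 F438627)) (tt N103577 D206765) (tt N80401 F341970) (tt N103578 D206766) (tt N103576 (iv7 F442095)))
theorem Q67592 : ∀ i, i < 67592 → P i := stepQ 67591 Q67591 (allL N67591 (tt N36921 (iv1 D129205)) (tt N101697 (iv0 F433923)) (tt N103576 F442099) (tt N85070 (iv3 F381032)) (tt N87696 F380162) (tt N101700 (iv5 F433938)) (tt N68949 (iv6 F421475)) (tt N103575 F442092))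
theorem Q67593 : ∀ i, i < 67593 → P i := stepQ 67592 Q67592 (allL N67592 (tt N103576 (iv1 F442094)) (tt N103575 F442091) (tt N101697 (iv2 F433918)) (tt N36926 F207427) (tt N81750 (iv4 F341762)) (tt N48481 F333923) (tt N37033 F207428) (tt N36921 (iv7 D129207)))
theorem Q67594 : ∀ i, i < 67594 → P i := stepQ 67593 Q67593 (allL N67593 (tt N37350 F352105) (tt N69553 F352106) (tt N69552 (iv2 F334641)) (tt N36924 (iv3 D129214)) (tt N50232 (iv4 F334643)) (tt N99633 (iv5 F425513)) (tt N50231 (iv6 F319948)) (tt N68951 (iv7 F212071)))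
theorem Q67595 : ∀ i, i < 67595 → P i := stepQ 67594 Q67594 (allL N67594 (tt N68893 (iv1 F211842)) (tt N36994 (iv0 F207437)) (tt N68878 (iv2 F211805)) (tt N103579 D206767) (tt N36927 (iv4 D129217)) (tt N103580 D206768) (tt N68050 (iv6 F209065)) (tt N68879 (iv7 F211810)))
theorem Q67596 : ∀ i, i < 67596 → P i := stepQ 67595 Q67595 (allL N67595 (tt N68967 F363456) (tt N37017 F363457) (tt N68966 F371344) (tt N36928 (iv3 D129218)) (tt N103579 (iv4 F442111)) (tt N100793 (iv5 F430498)) (tt N68051 (iv6 F209072)) (tt N68233 (iv7 F209309)))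
theorem Q67597 : ∀ i, i < 67597 → P i := stepQ 67596 Q67596 (allL N67596 (tt N36954 F358022) (tt N69051 F358023) (tt N69050 F358028) (tt N36929 (iv3 D129220)) (tt N103502 (iv4 F441871)) (tt N74757 F358024) (tt N68233 (iv6 F209308)) (tt N68232 (iv7 F209303)))
theorem Q67598 : ∀ i, i < 67598 → P i := stepQ 67597 Q67597 (allL N67597 (tt N67747 F207674) (tt N101850 (iv0 F434663)) (tt N68945 (iv2 F212063)) (tt N51696 F359782) (tt N36930 (iv4 D129224)) (tt N103438 (iv5 F441635)) (tt N51695 (iv6 F359784)) (tt N68943 F212057))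
theorem Q67599 : ∀ i, i < 67599 → P i := stepQ 67598 Q67598 (allL N67598 (tt N68987 F341924) (tt N36973 F341925) (tt N68946 (iv2 F212066)) (tt N51691 (iv3 F351673)) (tt N51695 (iv4 F341943)) (tt N64264 (iv5 F341928)) (tt N36930 (iv6 D129226)) (tt N68986 F338376))
theorem Q67600 : ∀ i, i < 67600 → P i := stepQ 67599 Q67599 (allL N67599 (tt N101850 (iv1 F434664)) (tt N67747 F212061) (tt N68943 F212058) (tt N65819 F359798) (tt N36931 (iv4 D129229)) (tt N97756 (iv5 F418185)) (tt N60588 (iv6 F359786)) (tt N68945 (iv7 F212064)))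
theorem Q67601 : ∀ i, i < 67601 → P i := stepQ 67600 Q67600 (allL N67600 (tt N68959 F212111) (tt N69057 F212645) (tt N36934 F207446) (tt N66356 (iv3 F325896)) (tt N102367 (iv4 F436933)) (tt N66354 (iv5 F354110)) (tt N36932 (iv6 D129233)) (tt N69058 (iv7 F212647)))
theorem Q67602 : ∀ i, i < 67602 → P i := stepQ 67601 Q67601 (allL N67601 (tt N36934 (iv1 D129238)) (tt N69058 F212650) (tt N69057 F217730) (tt N102772 (iv3 F438575)) (tt N103581 D206769) (tt N102771 (iv5 F438571)) (tt N68988 (iv6 F336573)) (tt N68959 F217728))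
theorem Q67603 : ∀ i, i < 67603 → P i := stepQ 67602 Q67602 (allL N67602 (tt N88291 (iv1 F382472)) (tt N91405 F393007) (tt N66354 F322566) (tt N36935 F207450) (tt N41280 F322567) (tt N36934 (iv5 D129239)) (tt N81236 (iv6 F354136)) (tt N69059 (iv7 F212652)))
theorem Q67604 : ∀ i, i < 67604 → P i := stepQ 67603 Q67603 (allL N67603 (tt N36955 F212538) (tt N69045 F212539) (tt N69044 (iv2 F216659)) (tt N36936 (iv3 D129245)) (tt N68613 F211209) (tt N63254 (iv5 F209326)) (tt N66245 F347135) (tt N68237 F216661))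
theorem Q67605 : ∀ i, i < 67605 → P i := stepQ 67604 Q67604 (allL N67604 (tt N36968 F336499) (tt N66461 F327313) (tt N66463 (iv2 F327822)) (tt N78550 F365901) (tt N70969 F327314) (tt N100666 (iv5 F429915)) (tt N36937 (iv6 D129253)) (tt N39604 F327315))
theorem Q67606 : ∀ i, i < 67606 → P i := stepQ 67605 Q67605 (allL N67605 (tt N76766 F346128) (tt N101716 (iv0 F434020)) (tt N36941 F207467) (tt N68229 (iv3 F209300)) (tt N64592 F337864) (tt N70496 (iv5 F217560)) (tt N36938 (iv6 D129256)) (tt N102681 (iv7 F438186)))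
theorem Q67607 : ∀ i, i < 67607 → P i := stepQ 67606 Q67606 (allL N67606 (tt N102681 F438188) (tt N36941 (iv0 D129265)) (tt N76766 (iv2 F338706)) (tt N101687 (iv3 F433869)) (tt N103582 D206770) (tt N57402 F338703) (tt N76588 F338705) (tt N101716 (iv7 F434019)))
theorem Q67608 : ∀ i, i < 67608 → P i := stepQ 67607 Q67607 (allL N67607 (tt N36941 (iv1 D129266)) (tt N102681 (iv0 F438187)) (tt N101716 (iv2 F434015)) (tt N82504 (iv3 F365713)) (tt N100076 (iv4 F427450)) (tt N57403 (iv5 F352074)) (tt N68231 F352076) (tt N76766 F352075))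
theorem Q67609 : ∀ i, i < 67609 → P i := stepQ 67608 Q67608 (allL N67608 (tt N101716 F434021) (tt N76766 (iv0 F338730)) (tt N102681 (iv2 F438183)) (tt N36944 F207476) (tt N56146 (iv4 F337861)) (tt N67837 (iv5 F208127)) (tt N37031 F207477) (tt N36941 (iv7 D129268)))
theorem Q67610 : ∀ i, i < 67610 → P i := stepQ 67609 Q67609 (allL N67609 (tt N66973 (iv1 F307982)) (tt N36942 (iv0 D129269)) (tt N67835 (iv2 F208089)) (tt N45641 F307892) (tt N37367 F208090) (tt N74748 F360904) (tt N38644 F207478) (tt N66910 F307893))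
theorem Q67611 : ∀ i, i < 67611 → P i := stepQ 67610 Q67610 (allL N67610 (tt N37014 F211917) (tt N65369 (iv0 F316702)) (tt N67036 (iv2 F311931)) (tt N36945 (iv3 D129275)) (tt N68933 F211918) (tt N38900 F211048) (tt N103583 D206771) (tt N67035 (iv7 F311926)))
theorem Q67612 : ∀ i, i < 67612 → P i := stepQ 67611 Q67611 (allL N67611 (tt N69548 F214808) (tt N39442 F330959) (tt N68227 F214181) (tt N87670 (iv3 F380084)) (tt N36945 (iv4 D129276)) (tt N103584 D206772) (tt N87668 (iv6 F380048)) (tt N68225 F214180))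
theorem Q67613 : ∀ i, i < 67613 → P i := stepQ 67612 Q67612 (allL N67612 (tt N68261 F359073) (tt N36969 F359074) (tt N68228 (iv2 F214186)) (tt N103583 (iv3 F442125)) (tt N87668 F380047) (tt N72094 (iv5 F359071)) (tt N36945 (iv6 D129278)) (tt N68260 (iv7 F359079)))
theorem Q67614 : ∀ i, i < 67614 → P i := stepQ 67613 Q67613 (allL N67613 (tt N68313 F214128) (tt N36951 F214129) (tt N69041 F214113) (tt N36946 (iv3 D129280)) (tt N69390 (iv4 F214103)) (tt N38903 F211051) (tt N92918 (iv6 F398760)) (tt N68226 (iv7 F214115)))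
theorem Q67615 : ∀ i, i < 67615 → P i := stepQ 67614 Q67614 (allL N67614 (tt N39442 F330958) (tt N69548 (iv0 F214807)) (tt N68225 F214182) (tt N103585 D206773) (tt N36946 (iv4 D129281)) (tt N103586 D206774) (tt N103587 D206775) (tt N68227 (iv7 F214184)))
theorem Q67616 : ∀ i, i < 67616 → P i := stepQ 67615 Q67615 (allL N67615 (tt N37031 F216488) (tt N40660 F216489) (tt N40658 F359094) (tt N92918 (iv3 F398758)) (tt N103587 (iv4 F442145)) (tt N66252 (iv5 F359109)) (tt N36946 (iv6 D129283)) (tt N40659 (iv7 F359099)))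
theorem Q67617 : ∀ i, i < 67617 → P i := stepQ 67616 Q67616 (allL N67616 (tt N68216 (iv1 F209285)) (tt N36948 (iv0 D129286)) (tt N68215 (iv2 F217698)) (tt N103588 D206776) (tt N68243 (iv4 F209357)) (tt N38812 (iv5 F217325)) (tt N71325 F326904) (tt N68214 F217691))
theorem Q67618 : ∀ i, i < 67618 → P i := stepQ 67617 Q67617 (allL N67617 (tt N36948 (iv1 D129287)) (tt N68216 F209287) (tt N68214 F217697) (tt N103589 D206777) (tt N67583 (iv4 F207487)) (tt N38813 F211052) (tt N103590 D206778) (tt N68215 (iv7 F217694)))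
theorem Q67619 : ∀ i, i < 67619 → P i := stepQ 67618 Q67618 (allL N67618 (tt N70390 (iv1 F217341)) (tt N69241 (iv0 F213542)) (tt N70388 F217337) (tt N38139 F207488) (tt N103591 D206779) (tt N36948 (iv5 D129288)) (tt N39423 F326905) (tt N68217 (iv7 F209289)))
theorem Q67620 : ∀ i, i < 67620 → P i := stepQ 67619 Q67619 (allL N67619 (tt N53121 F315929) (tt N49462 (iv0 F317515)) (tt N53120 (iv2 F318137)) (tt N37479 F207489) (tt N36949 (iv4 D129291)) (tt N103592 D206780) (tt N52949 F332400) (tt N52847 (iv7 F317134)))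
theorem Q67621 : ∀ i, i < 67621 → P i := stepQ 67620 Q67620 (allL N67620 (tt N36951 (iv1 D129296)) (tt N68313 F209544) (tt N68226 F214116) (tt N67036 (iv3 F311932)) (tt N69391 F214106) (tt N76527 (iv5 F239237)) (tt N103593 D206781) (tt N69041 F214110))
theorem Q67622 : ∀ i, i < 67622 → P i := stepQ 67621 Q67621 (allL N67621 (tt N69041 (iv1 F212508)) (tt N68226 (iv0 F214126)) (tt N36951 (iv2 D129297)) (tt N69045 (iv3 F212529)) (tt N38121 F207495) (tt N66989 F319566) (tt N49225 F319567) (tt N68313 (iv7 F209543)))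
theorem Q67623 : ∀ i, i < 67623 → P i := stepQ 67622 Q67622 (allL N67622 (tt N36956 (iv1 F207500)) (tt N36952 (iv0 D129300)) (tt N66200 (iv2 F208375)) (tt N97753 F418173) (tt N44786 F315450) (tt N66197 (iv5 F208379)) (tt N103594 D206782) (tt N66195 (iv7 F208376)))
theorem Q67624 : ∀ i, i < 67624 → P i := stepQ 67623 Q67623 (allL N67623 (tt N36952 (iv1 D129301)) (tt N36956 F207501) (tt N66195 F208373) (tt N68994 F212411) (tt N44789 F315480) (tt N66192 (iv5 F208372)) (tt N103595 D206783) (tt N66200 F208374))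
theorem Q67625 : ∀ i, i < 67625 → P i := stepQ 67624 Q67624 (allL N67624 (tt N103596 D206784) (tt N103597 D206785) (tt N69049 (iv2 F212551)) (tt N67525 F207503) (tt N36954 F207504) (tt N103598 D206786) (tt N36952 (iv6 D129302)) (tt N84999 (iv7 F371323)))
theorem Q67626 : ∀ i, i < 67626 → P i := stepQ 67625 Q67625 (allL N67625 (tt N69051 (iv1 F212559)) (tt N36954 (iv0 D129305)) (tt N68232 (iv2 F358025)) (tt N68966 F371345) (tt N103528 (iv4 F444236)) (tt N103599 D206788) (tt N80308 F358026) (tt N69050 (iv7 F358027)))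
theorem Q67627 : ∀ i, i < 67627 → P i := stepQ 67626 Q67626 (allL N67626 (tt N68237 F209547) (tt N69044 F212526) (tt N36955 (iv2 D129311)) (tt N68313 F209545) (tt N92078 (iv4 F395657)) (tt N47595 F319326) (tt N92077 F395653) (tt N69045 (iv7 F212530)))
theorem Q67628 : ∀ i, i < 67628 → P i := stepQ 67627 Q67627 (allL N67627 (tt N67587 F212290) (tt N67584 (iv0 F207505)) (tt N92078 (iv2 F395655)) (tt N93002 (iv3 F399087)) (tt N36955 (iv4 D129312)) (tt N69255 (iv5 F213573)) (tt N92075 F395642) (tt N69046 (iv7 F212542)))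
theorem Q67629 : ∀ i, i < 67629 → P i := stepQ 67628 Q67628 (allL N67628 (tt N97659 (iv1 F417809)) (tt N97658 F417808) (tt N92077 (iv2 F395649)) (tt N36958 F207507) (tt N92075 (iv4 F395643)) (tt N81067 (iv5 F348508)) (tt N36955 (iv6 D129314)) (tt N97656 (iv7 F417802)))
theorem Q67630 : ∀ i, i < 67630 → P i := stepQ 67629 Q67629 (allL N67629 (tt N70575 (iv1 F217870)) (tt N38930 (iv0 F207509)) (tt N67511 F207508) (tt N36956 (iv3 D129315)) (tt N93002 (iv4 F399089)) (tt N67510 (iv5 F207510)) (tt N97676 (iv6 F417874)) (tt N69048 (iv7 F212547)))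
theorem Q67631 : ∀ i, i < 67631 → P i := stepQ 67630 Q67630 (allL N67630 (tt N67522 (iv1 F207515)) (tt N67521 F207514) (tt N37874 F207511) (tt N67510 F207512) (tt N69787 (iv4 F216152)) (tt N36956 (iv5 D129316)) (tt N103600 D206789) (tt N67523 F207513))
theorem Q67632 : ∀ i, i < 67632 → P i := stepQ 67631 Q67631 (allL N67631 (tt N103601 D206790) (tt N103602 D206791) (tt N69042 (iv2 F212515)) (tt N97676 (iv3 F417873)) (tt N36958 F207516) (tt N103603 D206792) (tt N36956 (iv6 D129317)) (tt N103604 D206793))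
theorem Q67633 : ∀ i, i < 67633 → P i := stepQ 67632 Q67632 (allL N67632 (tt N36958 (iv1 D129321)) (tt N37024 F348916) (tt N37026 F348917) (tt N68972 (iv3 F359743)) (tt N67879 (iv4 F361149)) (tt N66476 (iv5 F350845)) (tt N67886 F348919) (tt N37019 F348920))
theorem Q67634 : ∀ i, i < 67634 → P i := stepQ 67633 Q67633 (allL N67633 (tt N72747 F354176) (tt N72940 F354199) (tt N69043 (iv2 F212519)) (tt N81067 F348507) (tt N93258 (iv4 F400159)) (tt N36958 (iv5 D129322)) (tt N63539 (iv6 F348506)) (tt N103605 D206794))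
theorem Q67635 : ∀ i, i < 67635 → P i := stepQ 67634 Q67634 (allL N67634 (tt N37026 (iv1 F350885)) (tt N37019 F350882) (tt N37024 F348921) (tt N97656 (iv3 F417803)) (tt N103604 (iv4 F442202)) (tt N103605 (iv5 F442206)) (tt N69051 (iv6 F212556)) (tt N36958 (iv7 D129323)))
theorem Q67636 : ∀ i, i < 67636 → P i := stepQ 67635 Q67635 (allL N67635 (tt N38903 (iv1 F217575)) (tt N76527 F239240) (tt N53257 F314332) (tt N36960 (iv3 D129330)) (tt N42778 (iv4 F315097)) (tt N37057 F207525) (tt N42774 F314333) (tt N69052 (iv7 F212576)))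
theorem Q67637 : ∀ i, i < 67637 → P i := stepQ 67636 Q67636 (allL N67636 (tt N38915 F318553) (tt N63431 F318554) (tt N63434 F318555) (tt N77284 (iv3 F353093)) (tt N75815 (iv4 F335255)) (tt N63840 F318556) (tt N36961 (iv6 D129335)) (tt N63385 F318557))
theorem Q67638 : ∀ i, i < 67638 → P i := stepQ 67637 Q67637 (allL N67637 (tt N60382 F313812) (tt N36962 (iv0 D129340)) (tt N66031 (iv2 F313818)) (tt N103606 D206795) (tt N63101 F313813) (tt N47956 F313814) (tt N63835 F313815) (tt N59996 F313816))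
theorem Q67639 : ∀ i, i < 67639 → P i := stepQ 67638 Q67638 (allL N67638 (tt N103607 D206796) (tt N103593 (iv0 F442173)) (tt N103608 D206797) (tt N36963 (iv3 D129345)) (tt N103609 D206798) (tt N60002 (iv5 F362643)) (tt N68981 (iv6 F361184)) (tt N102281 (iv7 F436538)))
theorem Q67640 : ∀ i, i < 67640 → P i := stepQ 67639 Q67639 (allL N67639 (tt N103610 D206799) (tt N103595 (iv0 F442183)) (tt N100818 (iv2 F430618)) (tt N102482 (iv3 F437734)) (tt N36963 (iv4 D129346)) (tt N103611 D206800) (tt N68982 (iv6 F361185)) (tt N102282 (iv7 F436542)))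
theorem Q67641 : ∀ i, i < 67641 → P i := stepQ 67640 Q67640 (allL N67640 (tt N78626 (iv1 F438841)) (tt N66458 (iv0 F413699)) (tt N103612 D206801) (tt N36964 (iv3 D129350)) (tt N103613 D206802) (tt N60003 F366070) (tt N103614 D206803) (tt N100817 (iv7 F430617)))
theorem Q67642 : ∀ i, i < 67642 → P i := stepQ 67641 Q67641 (allL N67641 (tt N103595 (iv1 F442184)) (tt N103610 F442234) (tt N102282 (iv2 F436541)) (tt N103615 D206804) (tt N36964 (iv4 D129351)) (tt N103616 D206805) (tt N103617 D206806) (tt N100818 (iv7 F430620)))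
theorem Q67643 : ∀ i, i < 67643 → P i := stepQ 67642 Q67642 (allL N67642 (tt N68051 (iv1 F350904)) (tt N80308 F350909) (tt N80311 F350905) (tt N103614 (iv3 F442251)) (tt N103617 (iv4 F442255)) (tt N68471 (iv5 F350903)) (tt N36964 (iv6 D129353)) (tt N68470 F350902))
theorem Q67644 : ∀ i, i < 67644 → P i := stepQ 67643 Q67643 (allL N67643 (tt N70094 (iv1 F330276)) (tt N63257 F330275) (tt N70093 (iv2 F330267)) (tt N36965 (iv3 D129358)) (tt N103618 D206807) (tt N46262 F313287) (tt N70090 F216612) (tt N68362 (iv7 F209956)))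
theorem Q67645 : ∀ i, i < 67645 → P i := stepQ 67644 Q67644 (allL N67644 (tt N38920 (iv1 F209861)) (tt N70115 F216722) (tt N68359 (iv2 F209943)) (tt N70090 (iv3 F216611)) (tt N38272 F207537) (tt N41703 (iv5 F315689)) (tt N36965 (iv6 D129360)) (tt N41702 F314396))
theorem Q67646 : ∀ i, i < 67646 → P i := stepQ 67645 Q67645 (allL N67645 (tt N38902 F351950) (tt N76534 F351951) (tt N76532 (iv2 F357444)) (tt N36966 (iv3 D129361)) (tt N52854 F351953) (tt N47785 F315533) (tt N52853 F351954) (tt N68358 (iv7 F209940)))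
theorem Q67647 : ∀ i, i < 67647 → P i := stepQ 67646 Q67646 (allL N67646 (tt N39604 F338459) (tt N66463 F338460) (tt N36968 (iv2 D129370)) (tt N68261 (iv3 F209391)) (tt N70991 (iv4 F328560)) (tt N45956 F323628) (tt N68261 (iv6 F209392)) (tt N66461 (iv7 F336497)))
theorem Q67648 : ∀ i, i < 67648 → P i := stepQ 67647 Q67647 (allL N67647 (tt N36969 (iv1 D129376)) (tt N68261 F209396) (tt N68260 F359078) (tt N103607 F442220) (tt N103619 D206808) (tt N72093 (iv5 F359102)) (tt N40659 F359101) (tt N68228 F359075))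
theorem Q67649 : ∀ i, i < 67649 → P i := stepQ 67648 Q67648 (allL N67648 (tt N68228 (iv1 F346125)) (tt N68260 F209390) (tt N36969 (iv2 D129377)) (tt N66461 (iv3 F336494)) (tt N103620 D206809) (tt N46166 F323631) (tt N76757 (iv6 F346126)) (tt N68261 (iv7 F209393)))
theorem Q67650 : ∀ i, i < 67650 → P i := stepQ 67649 Q67649 (allL N67649 (tt N71325 F359076) (tt N71321 (iv0 F407350)) (tt N103620 (iv2 F442266)) (tt N38151 F207546) (tt N36969 (iv4 D129378)) (tt N103621 D206810) (tt N101816 (iv6 F434481)) (tt N68258 (iv7 F209389)))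
theorem Q67651 : ∀ i, i < 67651 → P i := stepQ 67650 Q67650 (allL N67650 (tt N90697 (iv1 F390549)) (tt N87659 (iv0 F380018)) (tt N90696 (iv2 F390548)) (tt N36971 (iv3 D129394)) (tt N36972 F207568) (tt N66004 F364570) (tt N68985 (iv6 F212370)) (tt N68649 (iv7 F211271)))
theorem Q67652 : ∀ i, i < 67652 → P i := stepQ 67651 Q67651 (allL N67651 (tt N68989 (iv1 F212386)) (tt N36972 (iv0 D129396)) (tt N68988 (iv2 F336565)) (tt N103622 D206811) (tt N103623 D206812) (tt N46123 F336560) (tt N69057 (iv6 F336574)) (tt N68956 (iv7 F336582)))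
theorem Q67653 : ∀ i, i < 67653 → P i := stepQ 67652 Q67652 (allL N67652 (tt N68988 (iv1 F212387)) (tt N68956 (iv0 F336579)) (tt N36972 (iv2 D129398)) (tt N68987 (iv3 F212377)) (tt N90696 F390547) (tt N45810 F323646) (tt N68987 (iv6 F212378)) (tt N68989 (iv7 F212385)))
theorem Q67654 : ∀ i, i < 67654 → P i := stepQ 67653 Q67653 (allL N67653 (tt N36973 (iv1 D129403)) (tt N68987 F212382) (tt N68986 F345635) (tt N94030 (iv3 F402889)) (tt N87786 (iv4 F380493)) (tt N64265 (iv5 F345638)) (tt N66520 (iv6 F345634)) (tt N68946 F345636))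
theorem Q67655 : ∀ i, i < 67655 → P i := stepQ 67654 Q67654 (allL N67654 (tt N68946 (iv1 F337765)) (tt N68986 F212376) (tt N36973 (iv2 D129404)) (tt N68989 (iv3 F212384)) (tt N103325 (iv4 F441143)) (tt N46164 F323648) (tt N103624 D206813) (tt N68987 (iv7 F212379)))
theorem Q67656 : ∀ i, i < 67656 → P i := stepQ 67655 Q67655 (allL N67655 (tt N103578 F442109) (tt N103625 D206814) (tt N103624 (iv2 F442280)) (tt N36974 F207578) (tt N103326 (iv4 F441146)) (tt N47576 F307466) (tt N36973 (iv6 D129406)) (tt N68990 (iv7 F212390)))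
theorem Q67657 : ∀ i, i < 67657 → P i := stepQ 67656 Q67656 (allL N67656 (tt N55850 (iv1 F207585)) (tt N36975 (iv0 D129410)) (tt N55849 (iv2 F213184)) (tt N56718 F207584) (tt N82760 (iv4 F363946)) (tt N103626 D206815) (tt N82759 F363957) (tt N55848 F213185))
theorem Q67658 : ∀ i, i < 67658 → P i := stepQ 67657 Q67657 (allL N67657 (tt N36975 (iv1 D129411)) (tt N55850 (iv0 F207587)) (tt N55848 F213183) (tt N69115 F213143) (tt N38804 (iv4 F207586)) (tt N103627 D206816) (tt N103628 D206817) (tt N55849 (iv7 F213182)))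
theorem Q67659 : ∀ i, i < 67659 → P i := stepQ 67658 Q67658 (allL N67658 (tt N55849 (iv1 F207590)) (tt N55848 F207589) (tt N36975 (iv2 D129412)) (tt N68851 (iv3 F211722)) (tt N70327 (iv4 F217202)) (tt N103629 D206818) (tt N103630 D206819) (tt N55850 F207588))
theorem Q67660 : ∀ i, i < 67660 → P i := stepQ 67659 Q67659 (allL N67659 (tt N103631 D206820) (tt N103632 D206821) (tt N103629 (iv2 F442302)) (tt N36976 F207591) (tt N94490 F404702) (tt N36975 (iv5 D129413)) (tt N88965 (iv6 F404703)) (tt N55851 F207592))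
theorem Q67661 : ∀ i, i < 67661 → P i := stepQ 67660 Q67660 (allL N67660 (tt N103633 D206822) (tt N103634 D206823) (tt N103630 (iv2 F442306)) (tt N36977 F207593) (tt N70328 (iv4 F217208)) (tt N103635 D206824) (tt N36975 (iv6 D129414)) (tt N66203 F207594))
theorem Q67662 : ∀ i, i < 67662 → P i := stepQ 67661 Q67661 (allL N67661 (tt N103636 D206825) (tt N103637 D206826) (tt N68854 (iv2 F211730)) (tt N88965 F404704) (tt N71134 (iv4 F219509)) (tt N103638 D206827) (tt N36976 (iv6 D129415)) (tt N103639 D206828))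
theorem Q67663 : ∀ i, i < 67663 → P i := stepQ 67662 Q67662 (allL N67662 (tt N102520 (iv1 F437491)) (tt N102519 F437490) (tt N68855 (iv2 F211732)) (tt N103635 (iv3 F442325)) (tt N103640 D206829) (tt N36977 (iv5 D129416)) (tt N103638 (iv6 F442334)) (tt N66214 F207595))
theorem Q67664 : ∀ i, i < 67664 → P i := stepQ 67663 Q67663 (allL N67663 (tt N68858 (iv1 F211738)) (tt N36978 (iv0 D129417)) (tt N68857 (iv2 F437790)) (tt N103292 (iv3 F441013)) (tt N102478 (iv4 F437374)) (tt N103641 D206830) (tt N103642 D206831) (tt N68856 (iv7 F437792)))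
theorem Q67665 : ∀ i, i < 67665 → P i := stepQ 67664 Q67664 (allL N67664 (tt N36978 (iv1 D129418)) (tt N68858 F211740) (tt N68856 F437791) (tt N103643 D206832) (tt N102477 (iv4 F437367)) (tt N103644 D206833) (tt N103645 D206834) (tt N68857 F437789))
theorem Q67666 : ∀ i, i < 67666 → P i := stepQ 67665 Q67665 (allL N67665 (tt N68857 (iv1 F211739)) (tt N68856 F211734) (tt N36978 (iv2 D129419)) (tt N36997 F207596) (tt N66155 F207597) (tt N103646 D206835) (tt N103647 D206836) (tt N68858 (iv7 F211737)))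
theorem Q67667 : ∀ i, i < 67667 → P i := stepQ 67666 Q67666 (allL N67666 (tt N103648 D206837) (tt N103649 D206838) (tt N103646 (iv2 F442345)) (tt N36979 F207598) (tt N103650 D206839) (tt N36978 (iv5 D129420)) (tt N103651 D206840) (tt N68859 (iv7 F211742)))
theorem Q67668 : ∀ i, i < 67668 → P i := stepQ 67667 Q67667 (allL N67667 (tt N103652 D206841) (tt N102431 (iv0 F442354)) (tt N103647 (iv2 F442349)) (tt N36980 F207599) (tt N66157 F207600) (tt N103653 D206842) (tt N36978 (iv6 D129421)) (tt N103515 (iv7 F441910)))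
theorem Q67669 : ∀ i, i < 67669 → P i := stepQ 67668 Q67668 (allL N67668 (tt N103654 D206843) (tt N103655 D206844) (tt N37000 F207601) (tt N103651 (iv3 F442365)) (tt N50476 (iv4 F344184)) (tt N103656 D206845) (tt N36979 (iv6 D129422)) (tt N91693 (iv7 F394067)))
theorem Q67670 : ∀ i, i < 67670 → P i := stepQ 67669 Q67669 (allL N67669 (tt N103657 D206846) (tt N103658 D206847) (tt N37002 F207602) (tt N103653 (iv3 F442370)) (tt N58098 (iv4 F402874)) (tt N36980 (iv5 D129423)) (tt N103656 (iv6 F442383)) (tt N103516 (iv7 F441913)))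
theorem Q67671 : ∀ i, i < 67671 → P i := stepQ 67670 Q67670 (allL N67670 (tt N68870 (iv1 F211788)) (tt N36981 (iv0 D129424)) (tt N68869 (iv2 F211782)) (tt N103659 D206848) (tt N60841 (iv4 F321191)) (tt N92269 (iv5 F396525)) (tt N103660 D206849) (tt N68868 F211783))
theorem Q67672 : ∀ i, i < 67672 → P i := stepQ 67671 Q67671 (allL N67671 (tt N36981 (iv1 D129425)) (tt N68870 F211789) (tt N68868 F211781) (tt N102586 (iv3 F437800)) (tt N38983 (iv4 F207603)) (tt N85294 F372198) (tt N103661 D206850) (tt N68869 (iv7 F211780)))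
theorem Q67673 : ∀ i, i < 67673 → P i := stepQ 67672 Q67672 (allL N67672 (tt N68869 (iv1 F211784)) (tt N68868 F211778) (tt N36981 (iv2 D129426)) (tt N68883 (iv3 F211817)) (tt N45050 F326595) (tt N98637 (iv5 F421676)) (tt N42382 F326596) (tt N68870 (iv7 F211787)))
theorem Q67674 : ∀ i, i < 67674 → P i := stepQ 67673 Q67673 (allL N67673 (tt N98696 F421890) (tt N78804 (iv0 F333536)) (tt N98637 (iv2 F421675)) (tt N36982 F207604) (tt N78770 (iv4 F377475)) (tt N36981 (iv5 D129427)) (tt N103662 D206851) (tt N68871 (iv7 F211791)))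
theorem Q67675 : ∀ i, i < 67675 → P i := stepQ 67674 Q67674 (allL N67674 (tt N103663 D206852) (tt N103664 D206853) (tt N68886 (iv2 F211825)) (tt N103662 (iv3 F442410)) (tt N71115 (iv4 F219492)) (tt N103665 D206854) (tt N36982 (iv6 D129429)) (tt N103666 D206855))
theorem Q67676 : ∀ i, i < 67676 → P i := stepQ 67675 Q67675 (allL N67675 (tt N36983 (iv1 D129430)) (tt N66162 F207606) (tt N68887 F211829) (tt N103667 D206856) (tt N38932 F207608) (tt N103668 D206857) (tt N70578 (iv6 F217880)) (tt N38931 F207607))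
theorem Q67677 : ∀ i, i < 67677 → P i := stepQ 67676 Q67676 (allL N67676 (tt N39814 F328623) (tt N103669 D206858) (tt N68888 (iv2 F211831)) (tt N45181 F328624) (tt N71478 F328625) (tt N36983 (iv5 D129431)) (tt N103665 (iv6 F442421)) (tt N69030 (iv7 F212492)))
theorem Q67678 : ∀ i, i < 67678 → P i := stepQ 67677 Q67677 (allL N67677 (tt N68883 (iv1 F211819)) (tt N36984 (iv0 D129432)) (tt N68882 (iv2 F217710)) (tt N103670 D206859) (tt N103671 D206860) (tt N103631 (iv5 F442313)) (tt N103506 (iv6 F442314)) (tt N68881 F217711))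
theorem Q67679 : ∀ i, i < 67679 → P i := stepQ 67678 Q67678 (allL N67678 (tt N36984 (iv1 D129433)) (tt N68883 F211821) (tt N68881 F217709) (tt N68962 (iv3 F214798)) (tt N103588 (iv4 F442148)) (tt N103632 F442320) (tt N103672 D206861) (tt N68882 (iv7 F217708)))
theorem Q67680 : ∀ i, i < 67680 → P i := stepQ 67679 Q67679 (allL N67679 (tt N68882 (iv1 F211820)) (tt N68881 F211816) (tt N36984 (iv2 D129434)) (tt N68870 (iv3 F211785)) (tt N70257 (iv4 F217086)) (tt N103673 D206862) (tt N103674 D206863) (tt N68883 (iv7 F211818)))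
theorem Q67681 : ∀ i, i < 67681 → P i := stepQ 67680 Q67680 (allL N67680 (tt N92278 (iv1 F442299)) (tt N92280 (iv0 F396565)) (tt N103673 (iv2 F442443)) (tt N36985 F207609) (tt N94654 (iv4 F405383)) (tt N36984 (iv5 D129435)) (tt N103675 D206864) (tt N68884 (iv7 F211823)))
theorem Q67682 : ∀ i, i < 67682 → P i := stepQ 67681 Q67681 (allL N67681 (tt N103676 D206865) (tt N103677 D206866) (tt N103674 (iv2 F442447)) (tt N36986 F207610) (tt N70259 (iv4 F217089)) (tt N103678 D206867) (tt N36984 (iv6 D129436)) (tt N103679 D206868))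
theorem Q67683 : ∀ i, i < 67683 → P i := stepQ 67682 Q67682 (allL N67682 (tt N103680 D206869) (tt N103681 D206870) (tt N68873 (iv2 F211794)) (tt N103675 (iv3 F442451)) (tt N71120 (iv4 F219495)) (tt N103682 D206871) (tt N36985 (iv6 D129437)) (tt N103683 D206872))
theorem Q67684 : ∀ i, i < 67684 → P i := stepQ 67683 Q67683 (allL N67683 (tt N68877 (iv1 F211804)) (tt N36986 (iv0 D129438)) (tt N68874 (iv2 F214090)) (tt N103684 D206873) (tt N69429 (iv4 F214354)) (tt N103685 D206874) (tt N103566 F442062) (tt N68875 F214091))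
theorem Q67685 : ∀ i, i < 67685 → P i := stepQ 67684 Q67684 (allL N67684 (tt N36986 (iv1 D129439)) (tt N68877 F211803) (tt N68875 (iv2 F214085)) (tt N101207 (iv3 F432199)) (tt N69385 F214084) (tt N101207 (iv5 F432200)) (tt N68997 (iv6 F214086)) (tt N68874 (iv7 F214087)))
theorem Q67686 : ∀ i, i < 67686 → P i := stepQ 67685 Q67685 (allL N67685 (tt N102476 (iv1 F437366)) (tt N66111 F207611) (tt N68876 (iv2 F211797)) (tt N103678 (iv3 F442453)) (tt N88667 (iv4 F383796)) (tt N36986 (iv5 D129440)) (tt N103682 (iv6 F442470)) (tt N102481 (iv7 F437385)))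
theorem Q67687 : ∀ i, i < 67687 → P i := stepQ 67686 Q67686 (allL N67686 (tt N68875 (iv1 F211796)) (tt N68874 F211802) (tt N68877 (iv2 F211799)) (tt N103679 (iv3 F442455)) (tt N36988 F207612) (tt N102481 (iv5 F437383)) (tt N66162 F207613) (tt N36986 (iv7 D129441)))
theorem Q67688 : ∀ i, i < 67688 → P i := stepQ 67687 Q67687 (allL N67687 (tt N36994 F207614) (tt N68893 F211841) (tt N68879 (iv2 F211808)) (tt N103686 D206875) (tt N36987 (iv4 D129442)) (tt N103687 D206876) (tt N69000 (iv6 F212425)) (tt N68878 (iv7 F211806)))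
theorem Q67689 : ∀ i, i < 67689 → P i := stepQ 67688 Q67688 (allL N67688 (tt N37055 F207619) (tt N37051 (iv0 F207620)) (tt N57386 F207615) (tt N66334 F207616) (tt N100507 (iv4 F429235)) (tt N36987 (iv5 D129443)) (tt N55907 F207617) (tt N66236 F207618))
theorem Q67690 : ∀ i, i < 67690 → P i := stepQ 67689 Q67689 (allL N67689 (tt N68891 (iv1 F211835)) (tt N36989 (iv0 D129444)) (tt N68890 F418670) (tt N97922 F418814) (tt N97642 (iv4 F417740)) (tt N71091 F417741) (tt N103688 D206877) (tt N68889 F418668))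
theorem Q67691 : ∀ i, i < 67691 → P i := stepQ 67690 Q67690 (allL N67690 (tt N36989 (iv1 D129445)) (tt N68891 F211837) (tt N68889 (iv2 F418669)) (tt N103689 D206878) (tt N103690 D206879) (tt N71092 F358293) (tt N103691 D206880) (tt N68890 (iv7 F418671)))
theorem Q67692 : ∀ i, i < 67692 → P i := stepQ 67691 Q67691 (allL N67691 (tt N68890 (iv1 F211836)) (tt N68889 F211832) (tt N36989 (iv2 D129446)) (tt N68896 (iv3 F211844)) (tt N68626 (iv4 F211238)) (tt N101476 (iv5 F433086)) (tt N103692 D206881) (tt N68891 (iv7 F211834)))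
theorem Q67693 : ∀ i, i < 67693 → P i := stepQ 67692 Q67692 (allL N67692 (tt N103693 D206882) (tt N103694 D206883) (tt N101476 (iv2 F433084)) (tt N36990 F207621) (tt N96395 (iv4 F412323)) (tt N36989 (iv5 D129447)) (tt N103695 D206884) (tt N67873 (iv7 F208194)))
theorem Q67694 : ∀ i, i < 67694 → P i := stepQ 67693 Q67693 (allL N67693 (tt N45052 F365647) (tt N103696 D206885) (tt N103692 (iv2 F442495)) (tt N36991 F207622) (tt N68628 (iv4 F211241)) (tt N103697 D206886) (tt N36989 (iv6 D129448)) (tt N69024 (iv7 F212488)))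
theorem Q67695 : ∀ i, i < 67695 → P i := stepQ 67694 Q67694 (allL N67694 (tt N103698 D206887) (tt N103699 D206888) (tt N67876 (iv2 F208198)) (tt N103695 (iv3 F442509)) (tt N71106 (iv4 F219455)) (tt N103700 D206889) (tt N36990 (iv6 D129449)) (tt N95988 (iv7 F410531)))
theorem Q67696 : ∀ i, i < 67696 → P i := stepQ 67695 Q67695 (allL N67695 (tt N103701 D206890) (tt N103702 D206891) (tt N68898 (iv2 F211851)) (tt N103697 (iv3 F442519)) (tt N70976 F360517) (tt N36991 (iv5 D129450)) (tt N103700 (iv6 F442524)) (tt N69025 (iv7 F212489)))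
theorem Q67697 : ∀ i, i < 67697 → P i := stepQ 67696 Q67696 (allL N67696 (tt N68896 (iv1 F211846)) (tt N36992 (iv0 D129451)) (tt N68895 F355264) (tt N103703 D206892) (tt N41888 F355265) (tt N71095 F355266) (tt N41887 F355267) (tt N68894 F355268))
theorem Q67698 : ∀ i, i < 67698 → P i := stepQ 67697 Q67697 (allL N67697 (tt N36992 (iv1 D129452)) (tt N68896 F211848) (tt N68894 (iv2 F355399)) (tt N103704 D206893) (tt N97867 (iv4 F418591)) (tt N71094 (iv5 F355281)) (tt N103705 D206894) (tt N68895 (iv7 F355400)))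
theorem Q67699 : ∀ i, i < 67699 → P i := stepQ 67698 Q67698 (allL N67698 (tt N68895 (iv1 F211847)) (tt N68894 F211843) (tt N36992 (iv2 D129453)) (tt N68891 (iv3 F211833)) (tt N68169 (iv4 F209216)) (tt N82297 (iv5 F335151)) (tt N103706 D206895) (tt N68896 (iv7 F211845)))
theorem Q67700 : ∀ i, i < 67700 → P i := stepQ 67699 Q67699 (allL N67699 (tt N76089 F355369) (tt N90067 F388474) (tt N82297 (iv2 F355285)) (tt N36993 F207623) (tt N76095 F355282) (tt N36992 (iv5 D129454)) (tt N67878 F355283) (tt N67875 (iv7 F208197)))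
theorem Q67701 : ∀ i, i < 67701 → P i := stepQ 67700 Q67700 (allL N67700 (tt N103707 D206896) (tt N103708 D206897) (tt N103706 (iv2 F442541)) (tt N36994 F207624) (tt N68170 (iv4 F209219)) (tt N103709 D206898) (tt N36992 (iv6 D129455)) (tt N103710 D206899))
theorem Q67702 : ∀ i, i < 67702 → P i := stepQ 67701 Q67701 (allL N67701 (tt N95985 (iv1 F410522)) (tt N90115 F388587) (tt N67874 (iv2 F208195)) (tt N67878 (iv3 F355284)) (tt N71110 (iv4 F219487)) (tt N71493 (iv5 F338277)) (tt N36993 (iv6 D129456)) (tt N95981 (iv7 F410513)))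
theorem Q67703 : ∀ i, i < 67703 → P i := stepQ 67702 Q67702 (allL N67702 (tt N67799 F207851) (tt N66099 F207625) (tt N67796 F207847) (tt N103709 (iv3 F442546)) (tt N71494 F346164) (tt N36994 (iv5 D129457)) (tt N71493 (iv6 F346165)) (tt N67797 (iv7 F207848)))
theorem Q67704 : ∀ i, i < 67704 → P i := stepQ 67703 Q67703 (allL N67703 (tt N68879 F211812) (tt N68878 (iv0 F211807)) (tt N68893 (iv2 F211839)) (tt N103710 (iv3 F442550)) (tt N68167 (iv4 F209213)) (tt N67797 F207849) (tt N66159 F207626) (tt N36994 (iv7 D129458)))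
theorem Q67705 : ∀ i, i < 67705 → P i := stepQ 67704 Q67704 (allL N67704 (tt N103704 F442535) (tt N103711 D206900) (tt N69821 (iv2 F216216)) (tt N36995 (iv3 D129460)) (tt N69728 F215979) (tt N94639 F405385) (tt N97928 (iv6 F418832)) (tt N68899 (iv7 F211852)))
theorem Q67706 : ∀ i, i < 67706 → P i := stepQ 67705 Q67705 (allL N67705 (tt N69388 (iv1 F214099)) (tt N68957 F213500) (tt N37421 F209635) (tt N69394 (iv3 F214210)) (tt N36995 (iv4 D129461)) (tt N69620 (iv5 F215122)) (tt N66306 (iv6 F347270)) (tt N68900 (iv7 F211855)))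
theorem Q67707 : ∀ i, i < 67707 → P i := stepQ 67706 Q67706 (allL N67706 (tt N67864 F208673) (tt N37925 F208676) (tt N67867 (iv2 F209665)) (tt N94639 (iv3 F405384)) (tt N82256 (iv4 F352315)) (tt N36995 (iv5 D129462)) (tt N103712 D206901) (tt N67866 F209668))
theorem Q67708 : ∀ i, i < 67708 → P i := stepQ 67707 Q67707 (allL N67707 (tt N69013 (iv1 F350880)) (tt N69019 (iv0 F350878)) (tt N68903 (iv2 F211863)) (tt N97928 (iv3 F418830)) (tt N66306 F347269) (tt N103713 D206902) (tt N36995 (iv6 D129463)) (tt N69017 (iv7 F347267)))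
theorem Q67709 : ∀ i, i < 67709 → P i := stepQ 67708 Q67708 (allL N67708 (tt N97923 (iv1 F418817)) (tt N97922 F418816) (tt N97925 (iv2 F418822)) (tt N36996 (iv3 D129465)) (tt N69392 (iv4 F214187)) (tt N98633 F421663) (tt N83660 (iv6 F366211)) (tt N68902 (iv7 F211862)))
theorem Q67710 : ∀ i, i < 67710 → P i := stepQ 67709 Q67709 (allL N67709 (tt N37925 (iv1 F208672)) (tt N67864 F209670) (tt N67866 F209667) (tt N98633 (iv3 F421664)) (tt N88900 (iv4 F384482)) (tt N36996 (iv5 D129466)) (tt N103714 D206903) (tt N67867 (iv7 F209666)))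
theorem Q67711 : ∀ i, i < 67711 → P i := stepQ 67710 Q67710 (allL N67710 (tt N103579 F442112) (tt N103715 D206904) (tt N68901 (iv2 F211860)) (tt N83660 F366212) (tt N69389 (iv4 F214102)) (tt N102437 F437234) (tt N36996 (iv6 D129467)) (tt N85057 (iv7 F371481)))
theorem Q67712 : ∀ i, i < 67712 → P i := stepQ 67711 Q67711 (allL N67711 (tt N68906 (iv1 F211874)) (tt N68905 F211873) (tt N36998 F207629) (tt N103646 (iv3 F442346)) (tt N63965 F355250) (tt N36997 (iv5 D129468)) (tt N103716 D206905) (tt N68904 (iv7 F211866)))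
theorem Q67713 : ∀ i, i < 67713 → P i := stepQ 67712 Q67712 (allL N67712 (tt N103533 (iv1 F441964)) (tt N69009 F330979) (tt N36999 F207630) (tt N103647 (iv3 F442350)) (tt N37019 F207631) (tt N67880 F361180) (tt N36997 (iv6 D129469)) (tt N67879 F361151))
theorem Q67714 : ∀ i, i < 67714 → P i := stepQ 67713 Q67713 (allL N67713 (tt N68904 F211868) (tt N36998 (iv0 D129470)) (tt N68906 (iv2 F212265)) (tt N103717 D206906) (tt N101842 (iv4 F434612)) (tt N37096 F211869) (tt N103718 D206907) (tt N68905 F212268))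
theorem Q67715 : ∀ i, i < 67715 → P i := stepQ 67714 Q67714 (allL N67714 (tt N36998 (iv1 D129471)) (tt N68904 F211870) (tt N68905 F212267) (tt N103719 D206908) (tt N82630 F355253) (tt N37097 (iv5 F207694)) (tt N82631 (iv6 F355254)) (tt N68906 (iv7 F212266)))
theorem Q67716 : ∀ i, i < 67716 → P i := stepQ 67715 Q67715 (allL N67715 (tt N103720 D206909) (tt N94133 (iv0 F403370)) (tt N63965 (iv2 F355251)) (tt N71130 (iv3 F219500)) (tt N36998 (iv4 D129472)) (tt N63964 F355255) (tt N103721 D206910) (tt N68907 (iv7 F211875)))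
theorem Q67717 : ∀ i, i < 67717 → P i := stepQ 67716 Q67716 (allL N67716 (tt N103722 D206911) (tt N103723 D206912) (tt N103716 (iv2 F442563)) (tt N37000 F207632) (tt N103721 (iv4 F442582)) (tt N103724 D206913) (tt N36998 (iv6 D129473)) (tt N103725 D206914))
theorem Q67718 : ∀ i, i < 67718 → P i := stepQ 67717 Q67717 (allL N67717 (tt N67879 (iv1 F361155)) (tt N36999 (iv0 D129474)) (tt N103533 (iv2 F441961)) (tt N71792 F354193) (tt N66293 (iv4 F354177)) (tt N103726 D206915) (tt N103530 (iv6 F441957)) (tt N69009 F354194))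
theorem Q67719 : ∀ i, i < 67719 → P i := stepQ 67718 Q67718 (allL N67718 (tt N67878 (iv1 F361162)) (tt N67877 F361181) (tt N67880 (iv2 F361159)) (tt N37002 F207633) (tt N85593 (iv4 F373163)) (tt N36999 (iv5 D129476)) (tt N103724 (iv6 F442588)) (tt N67851 F361158))
theorem Q67720 : ∀ i, i < 67720 → P i := stepQ 67719 Q67719 (allL N67719 (tt N69009 F330970) (tt N103533 F441963) (tt N67879 F361150) (tt N37003 F207634) (tt N37026 F207635) (tt N67851 (iv5 F361161)) (tt N67853 (iv6 F334300)) (tt N36999 (iv7 D129477)))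
theorem Q67721 : ∀ i, i < 67721 → P i := stepQ 67720 Q67720 (allL N67720 (tt N91693 (iv1 F394069)) (tt N37000 (iv0 D129478)) (tt N103654 F442373) (tt N103727 D206916) (tt N48862 F362693) (tt N103728 D206917) (tt N103729 D206918) (tt N103655 (iv7 F442377)))
theorem Q67722 : ∀ i, i < 67722 → P i := stepQ 67721 Q67721 (allL N67721 (tt N37000 (iv1 D129479)) (tt N91693 (iv0 F394068)) (tt N103655 F442379) (tt N103730 D206919) (tt N48866 F383482) (tt N103731 D206920) (tt N103732 D206921) (tt N103654 F442374))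
theorem Q67723 : ∀ i, i < 67723 → P i := stepQ 67722 Q67722 (allL N67722 (tt N90103 (iv1 F388569)) (tt N90101 (iv0 F388562)) (tt N103656 (iv2 F442382)) (tt N103724 (iv3 F442587)) (tt N103733 D206922) (tt N37000 (iv5 D129480)) (tt N37002 F207636) (tt N103734 D206923))
theorem Q67724 : ∀ i, i < 67724 → P i := stepQ 67723 Q67723 (allL N67723 (tt N103655 (iv1 F442376)) (tt N103654 F442372) (tt N91693 (iv2 F394065)) (tt N103725 (iv3 F442594)) (tt N54011 (iv4 F362667)) (tt N103734 (iv5 F442621)) (tt N68916 (iv6 F211890)) (tt N37000 (iv7 D129481)))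
theorem Q67725 : ∀ i, i < 67725 → P i := stepQ 67724 Q67724 (allL N67724 (tt N103735 D206924) (tt N103691 (iv0 F442494)) (tt N103736 D206925) (tt N37001 (iv3 D129482)) (tt N68667 (iv4 F211325)) (tt N78877 F362931) (tt N92833 (iv6 F398428)) (tt N69003 F212435))
theorem Q67726 : ∀ i, i < 67726 → P i := stepQ 67725 Q67725 (allL N67725 (tt N94956 (iv1 F406499)) (tt N94955 (iv0 F406496)) (tt N103523 (iv2 F441934)) (tt N78877 (iv3 F362932)) (tt N94759 (iv4 F405834)) (tt N37001 (iv5 D129483)) (tt N78875 F362933) (tt N69004 (iv7 F212437)))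
theorem Q67727 : ∀ i, i < 67727 → P i := stepQ 67726 Q67726 (allL N67726 (tt N103516 (iv1 F441915)) (tt N37002 (iv0 D129484)) (tt N103657 F442387) (tt N103737 D206926) (tt N94768 F405849) (tt N102461 F437306) (tt N94640 (iv6 F445979)) (tt N103658 (iv7 F442390)))
theorem Q67728 : ∀ i, i < 67728 → P i := stepQ 67727 Q67727 (allL N67727 (tt N37002 (iv1 D129485)) (tt N103516 (iv0 F441914)) (tt N103658 F442392) (tt N97959 (iv3 F418969)) (tt N103738 D206928) (tt N97958 (iv5 F418966)) (tt N103739 D206929) (tt N103657 F442388))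
theorem Q67729 : ∀ i, i < 67729 → P i := stepQ 67728 Q67728 (allL N67728 (tt N58095 (iv1 F373173)) (tt N57873 (iv0 F373172)) (tt N58098 (iv2 F402873)) (tt N85596 (iv3 F373171)) (tt N37002 (iv4 D129486)) (tt N57892 (iv5 F330527)) (tt N103733 (iv6 F442618)) (tt N58097 (iv7 F362481)))
theorem Q67730 : ∀ i, i < 67730 → P i := stepQ 67729 Q67729 (allL N67729 (tt N103658 (iv1 F442389)) (tt N103657 F442386) (tt N103516 (iv2 F441911)) (tt N67851 (iv3 F361160)) (tt N58097 (iv4 F362479)) (tt N37003 F207637) (tt N67849 F361163) (tt N37002 (iv7 D129487)))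
theorem Q67731 : ∀ i, i < 67731 → P i := stepQ 67730 Q67730 (allL N67730 (tt N97872 F418613) (tt N103661 F442407) (tt N103740 D206930) (tt N37005 (iv3 D129488)) (tt N70738 (iv4 F218224)) (tt N103741 D206931) (tt N103494 (iv6 F441858)) (tt N66407 F207638))
theorem Q67732 : ∀ i, i < 67732 → P i := stepQ 67731 Q67731 (allL N67731 (tt N103514 (iv1 F441903)) (tt N103513 F441900) (tt N58207 (iv2 F330981)) (tt N103741 (iv3 F442639)) (tt N58203 F330984) (tt N37005 (iv5 D129489)) (tt N103742 D206932) (tt N66408 F207639))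
theorem Q67733 : ∀ i, i < 67733 → P i := stepQ 67732 Q67732 (allL N67732 (tt N68655 F211300) (tt N57520 (iv0 F207641)) (tt N68654 F211296) (tt N37006 (iv3 D129490)) (tt N61815 (iv4 F330578)) (tt N97968 (iv5 F419011)) (tt N66497 F207640) (tt N62124 (iv7 F330590)))
theorem Q67734 : ∀ i, i < 67734 → P i := stepQ 67733 Q67733 (allL N67733 (tt N71614 F220295) (tt N68053 (iv0 F214320)) (tt N94051 (iv2 F402990)) (tt N57297 (iv3 F359830)) (tt N37006 (iv4 D129491)) (tt N57861 F359829) (tt N66503 F207642) (tt N58065 (iv7 F359832)))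
theorem Q67735 : ∀ i, i < 67735 → P i := stepQ 67734 Q67734 (allL N67734 (tt N38435 (iv1 F209080)) (tt N41505 (iv0 F209079)) (tt N72922 (iv2 F223597)) (tt N37007 (iv3 D129492)) (tt N70321 (iv4 F217186)) (tt N94483 (iv5 F404675)) (tt N41218 F207643) (tt N74218 (iv7 F227022)))
theorem Q67736 : ∀ i, i < 67736 → P i := stepQ 67735 Q67735 (allL N67735 (tt N68053 F209078) (tt N71614 F220294) (tt N58065 F352231) (tt N75451 F352232) (tt N37007 (iv4 D129493)) (tt N58064 (iv5 F352223)) (tt N41219 F207644) (tt N94051 (iv7 F402992)))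
theorem Q67737 : ∀ i, i < 67737 → P i := stepQ 67736 Q67736 (allL N67736 (tt N94050 (iv1 F402989)) (tt N37008 (iv0 D129494)) (tt N79828 F338763) (tt N62136 F344732) (tt N69422 F214316) (tt N48371 F338764) (tt N48373 F338765) (tt N94049 (iv7 F402978)))
theorem Q67738 : ∀ i, i < 67738 → P i := stepQ 67737 Q67737 (allL N67737 (tt N37008 (iv1 D129495)) (tt N94050 F402988) (tt N94049 (iv2 F402982)) (tt N99896 (iv3 F426723)) (tt N69423 (iv4 F214326)) (tt N79793 (iv5 F338760)) (tt N41211 F214327) (tt N79828 (iv7 F363874)))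
theorem Q67739 : ∀ i, i < 67739 → P i := stepQ 67738 Q67738 (allL N67738 (tt N41976 F339247) (tt N99597 F425331) (tt N94048 (iv2 F402970)) (tt N44897 F318491) (tt N69511 (iv4 F214567)) (tt N45930 F318594) (tt N37009 (iv6 D129502)) (tt N82453 F318595))
theorem Q67740 : ∀ i, i < 67740 → P i := stepQ 67739 Q67739 (allL N67739 (tt N92918 (iv1 F398762)) (tt N92911 (iv0 F398744)) (tt N78624 F317509) (tt N37013 F207661) (tt N68195 (iv4 F209254)) (tt N80802 F317510) (tt N37010 (iv6 D129513)) (tt N69054 F359751))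
theorem Q67741 : ∀ i, i < 67741 → P i := stepQ 67740 Q67740 (allL N67740 (tt N37015 (iv1 F207668)) (tt N37011 (iv0 D129515)) (tt N68962 (iv2 F217702)) (tt N103743 D206933) (tt N67586 F207663) (tt N103744 D206934) (tt N103561 F442049) (tt N68961 F217707))
theorem Q67742 : ∀ i, i < 67742 → P i := stepQ 67741 Q67741 (allL N67741 (tt N37011 (iv1 D129516)) (tt N37015 F207664) (tt N68961 F217705) (tt N68882 F213633) (tt N68339 F213632) (tt N88921 F384542) (tt N103601 (iv6 F442193)) (tt N68962 (iv7 F217706)))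
theorem Q67743 : ∀ i, i < 67743 → P i := stepQ 67742 Q67742 (allL N67742 (tt N103659 F442396) (tt N75692 (iv0 F355269)) (tt N103745 D206935) (tt N37011 (iv3 D129517)) (tt N68194 (iv4 F209253)) (tt N90062 (iv5 F388460)) (tt N78951 (iv6 F360184)) (tt N68963 (iv7 F212119)))
theorem Q67744 : ∀ i, i < 67744 → P i := stepQ 67743 Q67743 (allL N67743 (tt N69274 (iv1 F213631)) (tt N103746 D206936) (tt N68970 (iv2 F212224)) (tt N90062 (iv3 F388462)) (tt N75586 F357333) (tt N37011 (iv5 D129518)) (tt N103747 D206937) (tt N68964 (iv7 F212121)))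
theorem Q67745 : ∀ i, i < 67745 → P i := stepQ 67744 Q67744 (allL N67744 (tt N103594 F442177) (tt N66389 (iv0 F367915)) (tt N68971 (iv2 F212226)) (tt N78951 F350871) (tt N37013 F207665) (tt N103748 D206938) (tt N37011 (iv6 D129519)) (tt N69055 F359752))
theorem Q67746 : ∀ i, i < 67746 → P i := stepQ 67745 Q67745 (allL N67745 (tt N103749 D206939) (tt N72748 (iv0 F350870)) (tt N68973 (iv2 F212229)) (tt N80802 (iv3 F350867)) (tt N93549 (iv4 F401102)) (tt N37013 (iv5 D129528)) (tt N80800 F350869) (tt N69056 F359753))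
theorem Q67747 : ∀ i, i < 67747 → P i := stepQ 67746 Q67746 (allL N67746 (tt N65369 (iv1 F316703)) (tt N37014 (iv0 D129531)) (tt N67035 (iv2 F311922)) (tt N69041 F212509) (tt N68932 F211913) (tt N69653 (iv5 F215416)) (tt N97659 F417812) (tt N67036 (iv7 F311934)))
theorem Q67748 : ∀ i, i < 67748 → P i := stepQ 67747 Q67747 (allL N67747 (tt N67599 (iv1 F212061)) (tt N67597 (iv0 F207674)) (tt N67037 (iv2 F316699)) (tt N103480 (iv3 F441803)) (tt N37014 (iv4 D129534)) (tt N65969 (iv5 F355970)) (tt N77342 F358584) (tt N68968 (iv7 F212211)))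
theorem Q67749 : ∀ i, i < 67749 → P i := stepQ 67748 Q67748 (allL N67748 (tt N98713 (iv1 F421972)) (tt N39240 (iv0 F207677)) (tt N98712 F421974) (tt N37015 (iv3 D129537)) (tt N103480 (iv4 F441804)) (tt N103750 D206940) (tt N103479 (iv6 F441801)) (tt N68969 (iv7 F212222)))
theorem Q67750 : ∀ i, i < 67750 → P i := stepQ 67749 Q67749 (allL N67749 (tt N103746 (iv1 F442651)) (tt N69274 (iv0 F213630)) (tt N68964 (iv2 F212120)) (tt N103750 (iv3 F442666)) (tt N75573 F357328) (tt N37015 (iv5 D129538)) (tt N60733 (iv6 F357334)) (tt N68970 (iv7 F212225)))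
theorem Q67751 : ∀ i, i < 67751 → P i := stepQ 67750 Q67750 (allL N67750 (tt N103751 D206941) (tt N103752 D206942) (tt N68965 (iv2 F212122)) (tt N103479 (iv3 F441799)) (tt N37017 F207678) (tt N60734 F357335) (tt N37015 (iv6 D129539)) (tt N103753 D206943))
theorem Q67752 : ∀ i, i < 67752 → P i := stepQ 67751 Q67751 (allL N67751 (tt N37017 (iv1 D129543)) (tt N68967 F212129) (tt N68233 (iv2 F363458)) (tt N69050 F363459) (tt N103715 (iv4 F442562)) (tt N103754 D206944) (tt N69050 F363460) (tt N68966 (iv7 F371343)))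
theorem Q67753 : ∀ i, i < 67753 → P i := stepQ 67752 Q67752 (allL N67752 (tt N68233 (iv1 F371342)) (tt N68966 F212128) (tt N68967 (iv2 F212126)) (tt N77343 F350862) (tt N103753 (iv4 F442674)) (tt N67831 F350858) (tt N68974 (iv6 F212231)) (tt N37017 (iv7 D129545)))
theorem Q67754 : ∀ i, i < 67754 → P i := stepQ 67753 Q67753 (allL N67753 (tt N63845 (iv1 F212297)) (tt N68979 F212286) (tt N37022 F207679) (tt N42740 F313830) (tt N37018 (iv4 D129546)) (tt N73985 (iv5 F335156)) (tt N73986 F340945) (tt N68975 (iv7 F212236)))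
theorem Q67755 : ∀ i, i < 67755 → P i := stepQ 67754 Q67754 (allL N67754 (tt N80728 (iv1 F337059)) (tt N78625 F337058) (tt N37023 F207680) (tt N62978 (iv3 F316285)) (tt N73986 (iv4 F363406)) (tt N103755 D206945) (tt N37018 (iv6 D129547)) (tt N80729 (iv7 F342316)))
theorem Q67756 : ∀ i, i < 67756 → P i := stepQ 67755 Q67755 (allL N67755 (tt N66475 F324045) (tt N66467 F324046) (tt N37025 F207682) (tt N66478 (iv3 F324735)) (tt N40293 F324047) (tt N37019 (iv5 D129550)) (tt N103755 (iv6 F442684)) (tt N66476 F324048))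
theorem Q67757 : ∀ i, i < 67757 → P i := stepQ 67756 Q67756 (allL N67756 (tt N68975 F212240) (tt N37022 (iv0 D129559)) (tt N63845 F207745) (tt N38272 F207746) (tt N69270 (iv4 F213618)) (tt N38299 F207743) (tt N38270 (iv6 F207744)) (tt N68979 (iv7 F212302)))
theorem Q67758 : ∀ i, i < 67758 → P i := stepQ 67757 Q67757 (allL N67757 (tt N37022 (iv1 D129560)) (tt N68975 (iv0 F212237)) (tt N68979 F212303) (tt N72373 (iv3 F222301)) (tt N69176 (iv4 F213189)) (tt N38298 (iv5 F207752)) (tt N45301 F323354) (tt N63845 F207749))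
theorem Q67759 : ∀ i, i < 67759 → P i := stepQ 67758 Q67758 (allL N67758 (tt N41286 F340819) (tt N78279 (iv0 F340822)) (tt N73986 (iv2 F340821)) (tt N37617 F207753) (tt N37023 F207754) (tt N73640 F340820) (tt N37022 (iv6 D129562)) (tt N99610 (iv7 F425406)))
theorem Q67760 : ∀ i, i < 67760 → P i := stepQ 67759 Q67759 (allL N67759 (tt N37023 (iv1 D129564)) (tt N80729 F342320) (tt N78625 F342318) (tt N103105 (iv3 F440100)) (tt N103756 D206946) (tt N100432 (iv5 F428954)) (tt N103757 D206947) (tt N80728 F342314))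
theorem Q67761 : ∀ i, i < 67761 → P i := stepQ 67760 Q67760 (allL N67760 (tt N52780 F362748) (tt N103758 D206948) (tt N103755 (iv2 F442682)) (tt N37029 F207755) (tt N70135 F366158) (tt N37023 (iv5 D129565)) (tt N37025 F207756) (tt N79408 (iv7 F365588)))
theorem Q67762 : ∀ i, i < 67762 → P i := stepQ 67761 Q67761 (allL N67761 (tt N78625 F337057) (tt N80728 F342317) (tt N80729 F342315) (tt N37030 F207757) (tt N99610 (iv4 F425404)) (tt N79408 F365586) (tt N68980 (iv6 F212315)) (tt N37023 (iv7 D129566)))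
theorem Q67763 : ∀ i, i < 67763 → P i := stepQ 67762 Q67762 (allL N67762 (tt N103602 (iv1 F442195)) (tt N103601 (iv0 F442194)) (tt N103604 (iv2 F442200)) (tt N41869 F354210) (tt N37024 (iv4 D129569)) (tt N90075 F388501) (tt N84999 (iv6 F371322)) (tt N69042 (iv7 F354211)))
theorem Q67764 : ∀ i, i < 67764 → P i := stepQ 67763 Q67763 (allL N67763 (tt N72940 F354195) (tt N72747 F354196) (tt N103605 (iv2 F442203)) (tt N39530 F354197) (tt N103759 D206949) (tt N37024 (iv5 D129570)) (tt N103760 D206950) (tt N69043 F354198))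
theorem Q67765 : ∀ i, i < 67765 → P i := stepQ 67764 Q67764 (allL N67764 (tt N37025 (iv1 D129578)) (tt N66476 (iv0 F352290)) (tt N66467 (iv2 F352292)) (tt N95937 (iv3 F410343)) (tt N73429 F352291) (tt N96988 (iv5 F414938)) (tt N45775 F342313) (tt N66475 F352294))
theorem Q67766 : ∀ i, i < 67766 → P i := stepQ 67765 Q67765 (allL N67765 (tt N76526 F339288) (tt N38905 F339289) (tt N76525 (iv2 F353873)) (tt N37027 (iv3 D129581)) (tt N89398 (iv4 F386368)) (tt N79623 (iv5 F339292)) (tt N79406 F339291) (tt N68297 (iv7 F209484)))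
theorem Q67767 : ∀ i, i < 67767 → P i := stepQ 67766 Q67766 (allL N67766 (tt N63256 (iv1 F327812)) (tt N66474 F320672) (tt N66472 F320673) (tt N37028 (iv3 D129584)) (tt N102802 (iv4 F438703)) (tt N41288 F320674) (tt N77730 F318539) (tt N66471 (iv7 F322446)))
theorem Q67768 : ∀ i, i < 67768 → P i := stepQ 67767 Q67767 (allL N67767 (tt N40660 (iv1 F207767)) (tt N37031 (iv0 D129591)) (tt N40659 (iv2 F359098)) (tt N97658 F417816) (tt N96124 (iv4 F411161)) (tt N66249 (iv5 F359086)) (tt N68260 F359081) (tt N40658 F359097))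
theorem Q67769 : ∀ i, i < 67769 → P i := stepQ 67768 Q67768 (allL N67768 (tt N95969 (iv1 F410472)) (tt N103590 (iv0 F442160)) (tt N102680 (iv2 F438176)) (tt N38257 F207772) (tt N37031 (iv4 D129594)) (tt N103761 D206951) (tt N56146 F337862) (tt N40576 F207773))
theorem Q67770 : ∀ i, i < 67770 → P i := stepQ 67769 Q67769 (allL N67769 (tt N38175 F207791) (tt N68074 F209120) (tt N68073 F209114) (tt N75571 F347165) (tt N37035 (iv4 D129614)) (tt N96801 (iv5 F414018)) (tt N41116 F207790) (tt N68072 F209110))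
theorem Q67771 : ∀ i, i < 67771 → P i := stepQ 67770 Q67770 (allL N67770 (tt N38947 (iv1 F207821)) (tt N37036 (iv0 D129639)) (tt N38946 F358334) (tt N102423 (iv3 F437172)) (tt N60683 F349612) (tt N69002 (iv5 F343603)) (tt N103762 D206952) (tt N38945 F358335))
theorem Q67772 : ∀ i, i < 67772 → P i := stepQ 67771 Q67771 (allL N67771 (tt N37036 (iv1 D129640)) (tt N38947 F207822) (tt N38945 F358338) (tt N93184 (iv3 F399850)) (tt N60680 (iv4 F358341)) (tt N69001 (iv5 F212430)) (tt N103763 D206953) (tt N38946 F358339))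
theorem Q67773 : ∀ i, i < 67773 → P i := stepQ 67772 Q67772 (allL N67772 (tt N103764 D206954) (tt N103314 (iv0 F441102)) (tt N70825 (iv2 F218506)) (tt N37037 F207824) (tt N68760 (iv4 F362876)) (tt N93540 (iv5 F401086)) (tt N37036 (iv6 D129641)) (tt N68759 (iv7 F327166)))
theorem Q67774 : ∀ i, i < 67774 → P i := stepQ 67773 Q67773 (allL N67773 (tt N103765 D206955) (tt N103766 D206956) (tt N69145 (iv2 F212951)) (tt N93540 F401087) (tt N103767 D206957) (tt N37037 (iv5 D129642)) (tt N70828 (iv6 F218510)) (tt N69079 (iv7 F212753)))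
theorem Q67775 : ∀ i, i < 67775 → P i := stepQ 67774 Q67774 (allL N67774 (tt N66156 F208386) (tt N102432 (iv0 F437207)) (tt N102434 F437217) (tt N37038 (iv3 D129644)) (tt N38782 F207826) (tt N66164 (iv5 F336990)) (tt N103768 D206958) (tt N69146 (iv7 F212953)))
theorem Q67776 : ∀ i, i < 67776 → P i := stepQ 67775 Q67775 (allL N67775 (tt N103769 D206959) (tt N69348 F366306) (tt N69148 (iv2 F212961)) (tt N103768 (iv3 F442740)) (tt N78593 (iv4 F366307)) (tt N103770 D206960) (tt N37038 (iv6 D129647)) (tt N69082 (iv7 F365931)))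
theorem Q67777 : ∀ i, i < 67777 → P i := stepQ 67776 Q67776 (allL N67776 (tt N102422 (iv1 F437171)) (tt N102423 (iv0 F437174)) (tt N75698 F327300) (tt N37039 (iv3 D129649)) (tt N45079 F327301) (tt N93055 (iv5 F399305)) (tt N69083 (iv6 F365772)) (tt N69147 (iv7 F212959)))
theorem Q67778 : ∀ i, i < 67778 → P i := stepQ 67777 Q67777 (allL N67777 (tt N67544 (iv1 F212969)) (tt N67541 F207829) (tt N37041 F207828) (tt N102446 (iv3 F437264)) (tt N78686 F361792) (tt N37040 (iv5 D129651)) (tt N103771 D206961) (tt N69149 (iv7 F212964)))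
theorem Q67779 : ∀ i, i < 67779 → P i := stepQ 67778 Q67778 (allL N67778 (tt N103772 D206962) (tt N103709 (iv0 F442547)) (tt N37042 F207831) (tt N102447 (iv3 F437268)) (tt N37063 F207832) (tt N67558 F362146) (tt N37040 (iv6 D129652)) (tt N67557 (iv7 F362144)))
theorem Q67780 : ∀ i, i < 67780 → P i := stepQ 67779 Q67779 (allL N67779 (tt N69149 F212966) (tt N37041 (iv0 D129653)) (tt N67544 F214759) (tt N66154 F380823) (tt N87848 (iv4 F380822)) (tt N37882 F212967) (tt N103773 D206963) (tt N67541 F214757))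
theorem Q67781 : ∀ i, i < 67781 → P i := stepQ 67780 Q67780 (allL N67780 (tt N37041 (iv1 D129654)) (tt N69149 F212968) (tt N67541 (iv2 F214758)) (tt N93101 (iv3 F399501)) (tt N87849 (iv4 F380834)) (tt N37883 F207833) (tt N103774 D206964) (tt N67544 (iv7 F214760)))
theorem Q67782 : ∀ i, i < 67782 → P i := stepQ 67781 Q67781 (allL N67781 (tt N38445 F207834) (tt N103504 F441877) (tt N78686 F361794) (tt N70758 (iv3 F218288)) (tt N37041 (iv4 D129655)) (tt N74985 (iv5 F336977)) (tt N103775 D206965) (tt N69150 (iv7 F212981)))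
theorem Q67783 : ∀ i, i < 67783 → P i := stepQ 67782 Q67782 (allL N67782 (tt N82962 F437582) (tt N52999 F437583) (tt N103771 (iv2 F442746)) (tt N37044 F207835) (tt N103775 (iv4 F442764)) (tt N102544 (iv5 F437587)) (tt N37041 (iv6 D129656)) (tt N102543 F437581))
theorem Q67784 : ∀ i, i < 67784 → P i := stepQ 67783 Q67783 (allL N67783 (tt N67557 (iv1 F362145)) (tt N37042 (iv0 D129657)) (tt N103772 F442756) (tt N67797 F346168) (tt N102288 (iv4 F436570)) (tt N103710 (iv5 F442551)) (tt N96989 F436571) (tt N103709 F442549))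
theorem Q67785 : ∀ i, i < 67785 → P i := stepQ 67784 Q67784 (allL N67784 (tt N37042 (iv1 D129658)) (tt N67557 F362147) (tt N103709 (iv2 F442545)) (tt N83629 (iv3 F362149)) (tt N83630 F362148) (tt N103706 F442542) (tt N103776 D206966) (tt N103772 (iv7 F442758)))
theorem Q67786 : ∀ i, i < 67786 → P i := stepQ 67785 Q67785 (allL N67785 (tt N67556 F345877) (tt N67555 F362150) (tt N67558 (iv2 F345879)) (tt N37047 F207836) (tt N68323 (iv4 F345881)) (tt N37042 (iv5 D129659)) (tt N102544 (iv6 F437588)) (tt N66086 F345878))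
theorem Q67787 : ∀ i, i < 67787 → P i := stepQ 67786 Q67786 (allL N67786 (tt N103709 F442548) (tt N103772 F442757) (tt N67557 F345883) (tt N37048 F207837) (tt N37069 F207838) (tt N66086 (iv5 F345882)) (tt N66089 (iv6 F345886)) (tt N37042 (iv7 D129660)))
theorem Q67788 : ∀ i, i < 67788 → P i := stepQ 67787 Q67787 (allL N67787 (tt N84955 F371174) (tt N84995 (iv0 F371317)) (tt N67536 F207839) (tt N92782 (iv3 F398199)) (tt N68305 (iv4 F209518)) (tt N103777 D206967) (tt N37043 (iv6 D129661)) (tt N103778 D206968))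
theorem Q67789 : ∀ i, i < 67789 → P i := stepQ 67788 Q67788 (allL N67788 (tt N102457 (iv1 F437293)) (tt N37044 (iv0 D129662)) (tt N102438 (iv2 F437237)) (tt N103549 (iv3 F442006)) (tt N70790 F437238) (tt N103779 D206969) (tt N103780 D206970) (tt N102455 (iv7 F437282)))
theorem Q67790 : ∀ i, i < 67790 → P i := stepQ 67789 Q67789 (allL N67789 (tt N103781 D206971) (tt N103557 F442031) (tt N102456 (iv2 F437285)) (tt N102544 (iv3 F437585)) (tt N52851 (iv4 F345002)) (tt N37044 (iv5 D129664)) (tt N37047 F207840) (tt N102539 (iv7 F437569)))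
theorem Q67791 : ∀ i, i < 67791 → P i := stepQ 67790 Q67790 (allL N67790 (tt N102455 (iv1 F437281)) (tt N102438 F437239) (tt N102457 (iv2 F437289)) (tt N102543 (iv3 F437577)) (tt N70767 (iv4 F218298)) (tt N102539 (iv5 F437568)) (tt N69154 (iv6 F212989)) (tt N37044 (iv7 D129665)))
theorem Q67792 : ∀ i, i < 67792 → P i := stepQ 67791 Q67791 (allL N67791 (tt N103782 D206972) (tt N103763 F442728) (tt N85058 (iv2 F374829)) (tt N37045 (iv3 D129666)) (tt N91817 (iv4 F394540)) (tt N75718 F374828) (tt N103783 D206973) (tt N102459 (iv7 F437298)))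
theorem Q67793 : ∀ i, i < 67793 → P i := stepQ 67792 Q67792 (allL N67792 (tt N103687 (iv1 F442480)) (tt N103580 (iv0 F442113)) (tt N102458 (iv2 F437294)) (tt N75718 (iv3 F374825)) (tt N80546 (iv4 F332393)) (tt N37045 (iv5 D129667)) (tt N75717 F374827) (tt N102460 (iv7 F437302)))
theorem Q67794 : ∀ i, i < 67794 → P i := stepQ 67793 Q67793 (allL N67793 (tt N37091 (iv1 F207845)) (tt N37107 (iv0 F207844)) (tt N37105 F207841) (tt N103783 (iv3 F442791)) (tt N45898 (iv4 F327533)) (tt N102442 (iv5 F437254)) (tt N37045 (iv6 D129668)) (tt N37104 (iv7 F207843)))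
theorem Q67795 : ∀ i, i < 67795 → P i := stepQ 67794 Q67794 (allL N67794 (tt N103580 (iv1 F442114)) (tt N103687 (iv0 F442479)) (tt N102460 (iv2 F437300)) (tt N68901 F363934) (tt N64467 (iv4 F332394)) (tt N37046 (iv5 D129670)) (tt N68899 (iv6 F363933)) (tt N102458 (iv7 F437295)))
theorem Q67796 : ∀ i, i < 67796 → P i := stepQ 67795 Q67795 (allL N67795 (tt N92538 (iv1 F397299)) (tt N102524 F437500) (tt N102461 (iv2 F437303)) (tt N75058 (iv3 F339348)) (tt N70573 (iv4 F217857)) (tt N103657 (iv5 F442385)) (tt N37046 (iv6 D129671)) (tt N97958 (iv7 F418963)))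
theorem Q67797 : ∀ i, i < 67797 → P i := stepQ 67796 Q67796 (allL N67796 (tt N102464 (iv1 F437325)) (tt N37047 (iv0 D129672)) (tt N67702 (iv2 F207847)) (tt N103784 D206974) (tt N80547 (iv4 F346163)) (tt N37818 F207846) (tt N103785 D206975) (tt N102462 (iv7 F437310)))
theorem Q67798 : ∀ i, i < 67798 → P i := stepQ 67797 Q67797 (allL N67797 (tt N37047 (iv1 D129673)) (tt N102464 F437324) (tt N102462 F437313) (tt N67783 (iv3 F346168)) (tt N80548 (iv4 F346166)) (tt N67703 (iv5 F207849)) (tt N103786 D206976) (tt N67702 F207848))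
theorem Q67799 : ∀ i, i < 67799 → P i := stepQ 67798 Q67798 (allL N67798 (tt N52971 F344992) (tt N103787 D206977) (tt N102463 (iv2 F437314)) (tt N81191 F345000) (tt N37047 (iv4 D129674)) (tt N52850 (iv5 F344996)) (tt N52851 F345001) (tt N103788 D206978))
theorem Q67800 : ∀ i, i < 67800 → P i := stepQ 67799 Q67799 (allL N67799 (tt N102462 (iv1 F437309)) (tt N67702 (iv0 F207851)) (tt N102464 (iv2 F437321)) (tt N66086 (iv3 F345880)) (tt N103788 (iv4 F442816)) (tt N37048 F207850) (tt N66084 F362142) (tt N37047 (iv7 D129675)))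
theorem Q67801 : ∀ i, i < 67801 → P i := stepQ 67800 Q67800 (allL N67800 (tt N96067 F410889) (tt N66377 (iv0 F386190)) (tt N102421 (iv2 F437162)) (tt N37051 F207852) (tt N103789 D206979) (tt N37049 (iv5 D129676)) (tt N66032 F207853) (tt N66498 F207854))
theorem Q67802 : ∀ i, i < 67802 → P i := stepQ 67801 Q67801 (allL N67801 (tt N85051 (iv1 F371465)) (tt N85050 (iv0 F371463)) (tt N102496 F437437) (tt N37050 (iv3 D129677)) (tt N84913 F371078) (tt N103790 D206980) (tt N103791 D206981) (tt N102467 (iv7 F437334)))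
theorem Q67803 : ∀ i, i < 67803 → P i := stepQ 67802 Q67802 (allL N67802 (tt N101207 F432202) (tt N103685 (iv0 F442476)) (tt N102466 (iv2 F437330)) (tt N103790 (iv3 F442828)) (tt N52951 F332374) (tt N37050 (iv5 D129678)) (tt N103792 D206982) (tt N102468 (iv7 F437338)))
theorem Q67804 : ∀ i, i < 67804 → P i := stepQ 67803 Q67803 (allL N67803 (tt N38507 (iv1 F207858)) (tt N92263 F396514) (tt N37112 F207855) (tt N103791 (iv3 F442831)) (tt N37052 F207856) (tt N103793 D206983) (tt N37050 (iv6 D129679)) (tt N37109 (iv7 F207857)))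
theorem Q67805 : ∀ i, i < 67805 → P i := stepQ 67804 Q67804 (allL N67804 (tt N100389 F428753) (tt N47320 F332383) (tt N46974 F332370) (tt N97071 F415325) (tt N37051 (iv4 D129680)) (tt N46763 F332371) (tt N66035 F207859) (tt N66501 F207860))
theorem Q67806 : ∀ i, i < 67806 → P i := stepQ 67805 Q67805 (allL N67805 (tt N38415 F207863) (tt N38500 (iv0 F207864)) (tt N38498 F207861) (tt N103794 D206984) (tt N37053 (iv4 D129681)) (tt N80515 F342835) (tt N40572 F342836) (tt N38497 F207862))
theorem Q67807 : ∀ i, i < 67807 → P i := stepQ 67806 Q67806 (allL N67806 (tt N59002 F227002) (tt N59003 F227003) (tt N68695 (iv2 F211412)) (tt N37056 F207865) (tt N40572 F342837) (tt N74218 (iv5 F227017)) (tt N37053 (iv6 D129682)) (tt N94483 (iv7 F404676)))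
theorem Q67808 : ∀ i, i < 67808 → P i := stepQ 67807 Q67807 (allL N67807 (tt N66196 F437843) (tt N103795 D206985) (tt N103796 D206986) (tt N37054 (iv3 D129683)) (tt N103794 (iv4 F442845)) (tt N103797 D206987) (tt N103798 D206988) (tt N102465 (iv7 F437329)))
theorem Q67809 : ∀ i, i < 67809 → P i := stepQ 67808 Q67808 (allL N67808 (tt N103685 (iv1 F442477)) (tt N101207 (iv0 F432201)) (tt N102468 (iv2 F437336)) (tt N103797 (iv3 F442861)) (tt N103799 D206989) (tt N37054 (iv5 D129684)) (tt N98709 F421954) (tt N102466 (iv7 F437331)))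
theorem Q67810 : ∀ i, i < 67810 → P i := stepQ 67809 Q67809 (allL N67809 (tt N93665 (iv1 F401491)) (tt N99489 (iv0 F424822)) (tt N102469 (iv2 F437340)) (tt N103798 (iv3 F442864)) (tt N37056 F207866) (tt N58099 (iv5 F362477)) (tt N37054 (iv6 D129685)) (tt N102789 (iv7 F438663)))
theorem Q67811 : ∀ i, i < 67811 → P i := stepQ 67810 Q67810 (allL N67810 (tt N47320 F332384) (tt N100389 (iv0 F428752)) (tt N66501 F207867) (tt N77700 F354056) (tt N37055 (iv4 D129686)) (tt N46975 F332367) (tt N57410 F207868) (tt N46974 F332368))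
theorem Q67812 : ∀ i, i < 67812 → P i := stepQ 67811 Q67811 (allL N67811 (tt N38886 (iv1 F207872)) (tt N38865 F207871) (tt N37057 (iv2 D129687)) (tt N68778 (iv3 F211560)) (tt N38004 F207869) (tt N53257 (iv5 F313638)) (tt N80695 (iv6 F339470)) (tt N38885 F207870))
theorem Q67813 : ∀ i, i < 67813 → P i := stepQ 67812 Q67812 (allL N67812 (tt N66485 (iv1 F344101)) (tt N80694 F339472) (tt N80695 F339473) (tt N37059 F207873) (tt N67944 (iv4 F208655)) (tt N47096 F339474) (tt N37057 (iv6 D129688)) (tt N47095 F339475))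
theorem Q67814 : ∀ i, i < 67814 → P i := stepQ 67813 Q67813 (allL N67813 (tt N37058 (iv1 D129689)) (tt N37061 F207874) (tt N66202 (iv2 F208388)) (tt N66192 (iv3 F208370)) (tt N44791 F317568) (tt N68994 (iv5 F212409)) (tt N103800 D206990) (tt N66198 F208381))
theorem Q67815 : ∀ i, i < 67815 → P i := stepQ 67814 Q67814 (allL N67814 (tt N103801 D206991) (tt N103802 D206992) (tt N69166 (iv2 F213018)) (tt N66211 F207875) (tt N37059 F207876) (tt N103803 D206993) (tt N37058 (iv6 D129690)) (tt N69117 (iv7 F365971)))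
theorem Q67816 : ∀ i, i < 67816 → P i := stepQ 67815 Q67815 (allL N67815 (tt N37117 (iv1 F326063)) (tt N37059 (iv0 D129691)) (tt N37239 F350874) (tt N69118 F350875) (tt N103769 (iv4 F442742)) (tt N79410 F344118) (tt N102860 (iv6 F438979)) (tt N69118 F350876))
theorem Q67817 : ∀ i, i < 67817 → P i := stepQ 67816 Q67816 (allL N67816 (tt N38034 (iv1 F213162)) (tt N38048 (iv0 F213154)) (tt N38044 F207877) (tt N93183 F399847) (tt N37060 (iv4 D129696)) (tt N100523 (iv5 F429316)) (tt N67962 F354047) (tt N38043 F207878))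
theorem Q67818 : ∀ i, i < 67818 → P i := stepQ 67817 Q67817 (allL N67817 (tt N37069 (iv1 F207893)) (tt N37063 (iv0 D129705)) (tt N37066 F364572) (tt N70048 F394691) (tt N103804 D206994) (tt N97097 (iv5 F415473)) (tt N37125 F361186) (tt N37067 F364573))
theorem Q67819 : ∀ i, i < 67819 → P i := stepQ 67818 Q67818 (allL N67818 (tt N37063 (iv1 D129706)) (tt N37069 F207890) (tt N37067 F364575) (tt N103805 D206995) (tt N103806 D206996) (tt N101832 (iv5 F434567)) (tt N101833 (iv6 F434571)) (tt N37066 F364576))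
theorem Q67820 : ∀ i, i < 67820 → P i := stepQ 67819 Q67819 (allL N67819 (tt N43769 F366248) (tt N103807 D206997) (tt N37068 F207891) (tt N69123 (iv3 F212836)) (tt N103808 D206998) (tt N37063 (iv5 D129707)) (tt N47984 F315808) (tt N95474 (iv7 F408324)))
theorem Q67821 : ∀ i, i < 67821 → P i := stepQ 67820 Q67820 (allL N67820 (tt N37067 (iv1 F207894)) (tt N37066 F207895) (tt N37069 F207892) (tt N69124 (iv3 F212838)) (tt N67557 (iv4 F362143)) (tt N95474 (iv5 F408323)) (tt N67566 (iv6 F334323)) (tt N37063 (iv7 D129708)))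
theorem Q67822 : ∀ i, i < 67822 → P i := stepQ 67821 Q67821 (allL N67821 (tt N38888 F217593) (tt N65222 (iv0 F357872)) (tt N64830 F315810) (tt N37064 (iv3 D129709)) (tt N64497 F315811) (tt N37897 F207896) (tt N47969 F315812) (tt N64659 (iv7 F316640)))
theorem Q67823 : ∀ i, i < 67823 → P i := stepQ 67822 Q67822 (allL N67822 (tt N67060 F315817) (tt N68004 F208832) (tt N48239 (iv2 F318032)) (tt N54132 F348716) (tt N37065 (iv4 D129713)) (tt N101011 (iv5 F431260)) (tt N54131 (iv6 F348723)) (tt N66927 (iv7 F318030)))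
theorem Q67824 : ∀ i, i < 67824 → P i := stepQ 67823 Q67823 (allL N67823 (tt N66491 F438821) (tt N103424 (iv0 F441566)) (tt N103809 D206999) (tt N37066 (iv3 D129724)) (tt N91046 (iv4 F391740)) (tt N101703 (iv5 F433959)) (tt N70072 F364574) (tt N103805 (iv7 F442896)))
theorem Q67825 : ∀ i, i < 67825 → P i := stepQ 67824 Q67824 (allL N67824 (tt N102612 (iv1 F442677)) (tt N103800 F442878) (tt N103804 (iv2 F442888)) (tt N102509 F437475) (tt N37066 (iv4 D129725)) (tt N103810 D207000) (tt N96985 (iv6 F414929)) (tt N103806 (iv7 F442903)))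
theorem Q67826 : ∀ i, i < 67826 → P i := stepQ 67825 Q67825 (allL N67825 (tt N103754 F442680) (tt N100793 (iv0 F430500)) (tt N97097 (iv2 F415471)) (tt N101703 F433961) (tt N103811 D207001) (tt N37066 (iv5 D129726)) (tt N64253 F364894) (tt N101832 (iv7 F434566)))
theorem Q67827 : ∀ i, i < 67827 → P i := stepQ 67826 Q67826 (allL N67826 (tt N68779 F439116) (tt N70050 F439117) (tt N70049 F394696) (tt N37067 (iv3 D129729)) (tt N102888 (iv4 F439120)) (tt N103812 D207002) (tt N102887 F439115) (tt N70048 (iv7 F394692)))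
theorem Q67828 : ∀ i, i < 67828 → P i := stepQ 67827 Q67827 (allL N67827 (tt N103800 F442879) (tt N102612 (iv0 F437890)) (tt N103806 (iv2 F442900)) (tt N103813 D207003) (tt N37067 (iv4 D129730)) (tt N103814 D207004) (tt N103815 D207005) (tt N103804 (iv7 F442891)))
theorem Q67829 : ∀ i, i < 67829 → P i := stepQ 67828 Q67828 (allL N67828 (tt N100793 F430501) (tt N103754 (iv0 F442679)) (tt N101832 (iv2 F434565)) (tt N103812 (iv3 F442926)) (tt N69896 F352318) (tt N37067 (iv5 D129731)) (tt N69895 (iv6 F352308)) (tt N97097 (iv7 F415474)))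
theorem Q67830 : ∀ i, i < 67830 → P i := stepQ 67829 Q67829 (allL N67829 (tt N66480 F354183) (tt N102860 F438982) (tt N101833 (iv2 F434569)) (tt N102887 (iv3 F439113)) (tt N103815 (iv4 F442939)) (tt N66475 (iv5 F350890)) (tt N37067 (iv6 D129732)) (tt N96988 (iv7 F414939)))
theorem Q67831 : ∀ i, i < 67831 → P i := stepQ 67830 Q67830 (allL N67830 (tt N95474 F408326) (tt N37068 (iv0 D129733)) (tt N43769 F342211) (tt N45649 F342212) (tt N64468 F342213) (tt N37855 F342214) (tt N43768 F342215) (tt N103807 (iv7 F442908)))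
theorem Q67832 : ∀ i, i < 67832 → P i := stepQ 67831 Q67831 (allL N67831 (tt N37068 (iv1 D129734)) (tt N95474 F408325) (tt N103807 (iv2 F442912)) (tt N43773 F350859) (tt N64479 F350860) (tt N67752 (iv5 F350858)) (tt N101231 (iv6 F432324)) (tt N43769 F350861))
theorem Q67833 : ∀ i, i < 67833 → P i := stepQ 67832 Q67832 (allL N67832 (tt N98089 F419417) (tt N103816 D207006) (tt N103808 (iv2 F442914)) (tt N44032 F361424) (tt N37068 (iv4 D129735)) (tt N103817 D207007) (tt N47996 F315809) (tt N100500 (iv7 F429208)))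
theorem Q67834 : ∀ i, i < 67834 → P i := stepQ 67833 Q67833 (allL N67833 (tt N103807 (iv1 F442907)) (tt N43769 F348471) (tt N95474 (iv2 F408321)) (tt N37080 F207924) (tt N100500 (iv4 F429206)) (tt N37069 F207925) (tt N79786 F348472) (tt N37068 (iv7 D129736)))
theorem Q67835 : ∀ i, i < 67835 → P i := stepQ 67834 Q67834 (allL N67834 (tt N43957 F307985) (tt N46929 F307986) (tt N46927 (iv2 F310051)) (tt N37071 F207933) (tt N66429 (iv4 F331896)) (tt N73424 (iv5 F224814)) (tt N37070 (iv6 D129740)) (tt N46926 F308034))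
theorem Q67836 : ∀ i, i < 67836 → P i := stepQ 67835 Q67835 (allL N67835 (tt N47038 (iv1 F308094)) (tt N37073 (iv0 D129748)) (tt N67609 F208089) (tt N46134 F306127) (tt N37501 (iv4 F207983)) (tt N41608 F310175) (tt N38919 F207971) (tt N45594 F308040))
theorem Q67837 : ∀ i, i < 67837 → P i := stepQ 67836 Q67836 (allL N67836 (tt N69963 (iv1 F337782)) (tt N67970 (iv0 F337778)) (tt N69961 F363249) (tt N38849 F208119) (tt N37075 (iv4 D129769)) (tt N100939 (iv5 F431034)) (tt N52922 (iv6 F324215)) (tt N69133 (iv7 F212883)))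
theorem Q67838 : ∀ i, i < 67838 → P i := stepQ 67837 Q67837 (allL N67837 (tt N38882 F216491) (tt N46021 F337845) (tt N103181 (iv2 F440441)) (tt N37078 (iv3 D129783)) (tt N61416 F337863) (tt N67608 F208127) (tt N98079 F419372) (tt N61413 (iv7 F334124)))
theorem Q67839 : ∀ i, i < 67839 → P i := stepQ 67838 Q67838 (allL N67838 (tt N68787 F354362) (tt N68775 (iv0 F363253)) (tt N68785 (iv2 F354353)) (tt N37081 (iv3 D129792)) (tt N37083 F208143) (tt N86923 F377714) (tt N69174 (iv6 F213123)) (tt N68728 (iv7 F211451)))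
theorem Q67840 : ∀ i, i < 67840 → P i := stepQ 67839 Q67839 (allL N67839 (tt N103298 (iv1 F441040)) (tt N103297 (iv0 F441035)) (tt N68726 (iv2 F211444)) (tt N86923 (iv3 F377719)) (tt N103818 D207008) (tt N37081 (iv5 D129793)) (tt N61573 (iv6 F362877)) (tt N68729 (iv7 F211452)))
theorem Q67841 : ∀ i, i < 67841 → P i := stepQ 67840 Q67840 (allL N67840 (tt N74214 (iv1 F227011)) (tt N57026 F208146) (tt N68727 (iv2 F211445)) (tt N103168 (iv3 F440383)) (tt N37082 (iv4 D129794)) (tt N93538 (iv5 F401076)) (tt N66040 F208144) (tt N57154 F208145))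
theorem Q67842 : ∀ i, i < 67842 → P i := stepQ 67841 Q67841 (allL N67841 (tt N103819 D207009) (tt N103820 D207010) (tt N69268 F338395) (tt N37084 F208147) (tt N49869 F346000) (tt N37083 (iv5 D129798)) (tt N47937 F320514) (tt N69143 (iv7 F212943)))
theorem Q67843 : ∀ i, i < 67843 → P i := stepQ 67842 Q67842 (allL N67842 (tt N42931 F314520) (tt N62464 (iv0 F321223)) (tt N78311 F314522) (tt N37085 (iv3 D129801)) (tt N103168 (iv4 F440381)) (tt N78314 F314523) (tt N66041 F208148) (tt N62561 F208149))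
theorem Q67844 : ∀ i, i < 67844 → P i := stepQ 67843 Q67843 (allL N67843 (tt N37086 (iv1 D129803)) (tt N37192 F337769) (tt N37194 F337770) (tt N103821 D207011) (tt N79746 (iv4 F341950)) (tt N74988 F338383) (tt N37207 F337771) (tt N37176 F337772))
theorem Q67845 : ∀ i, i < 67845 → P i := stepQ 67844 Q67844 (allL N67844 (tt N37176 (iv1 F341750)) (tt N37194 (iv0 F341751)) (tt N37086 (iv2 D129804)) (tt N69142 (iv3 F212937)) (tt N80039 F341749) (tt N80482 F341958) (tt N102761 (iv6 F438520)) (tt N37192 F337776))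
theorem Q67846 : ∀ i, i < 67846 → P i := stepQ 67845 Q67845 (allL N67845 (tt N102635 F437975) (tt N69326 (iv0 F437963)) (tt N102761 (iv2 F438517)) (tt N37088 F208151) (tt N101710 (iv4 F433993)) (tt N48096 F323655) (tt N37086 (iv6 D129806)) (tt N69173 (iv7 F213118)))
theorem Q67847 : ∀ i, i < 67847 → P i := stepQ 67846 Q67846 (allL N67846 (tt N69065 (iv1 F212703)) (tt N37089 (iv0 D129809)) (tt N69064 (iv2 F437759)) (tt N67379 F208152) (tt N102474 (iv4 F437357)) (tt N103648 (iv5 F442352)) (tt N66163 (iv6 F396541)) (tt N69063 F437765))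
theorem Q67848 : ∀ i, i < 67848 → P i := stepQ 67847 Q67847 (allL N67847 (tt N37089 (iv1 D129810)) (tt N69065 F212705) (tt N69063 F437764) (tt N103822 D207012) (tt N102470 (iv4 F437347)) (tt N103649 (iv5 F442358)) (tt N103823 D207013) (tt N69064 (iv7 F437761)))
theorem Q67849 : ∀ i, i < 67849 → P i := stepQ 67848 Q67848 (allL N67848 (tt N69064 (iv1 F212704)) (tt N69063 F212699) (tt N37089 (iv2 D129811)) (tt N37098 F208153) (tt N66165 F208154) (tt N103824 D207014) (tt N103825 D207015) (tt N69065 (iv7 F212702)))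
theorem Q67850 : ∀ i, i < 67850 → P i := stepQ 67849 Q67849 (allL N67849 (tt N103826 D207016) (tt N103827 D207017) (tt N103824 (iv2 F442962)) (tt N37090 F208155) (tt N94964 (iv4 F406528)) (tt N37089 (iv5 D129812)) (tt N67729 (iv6 F361163)) (tt N69066 (iv7 F212707)))
theorem Q67851 : ∀ i, i < 67851 → P i := stepQ 67850 Q67850 (allL N67850 (tt N102565 (iv1 F437684)) (tt N102562 (iv0 F437670)) (tt N103825 (iv2 F442968)) (tt N37091 F208156) (tt N66167 F208157) (tt N37832 F361164) (tt N37089 (iv6 D129813)) (tt N37831 F361165))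
theorem Q67852 : ∀ i, i < 67852 → P i := stepQ 67851 Q67851 (allL N67851 (tt N103828 D207018) (tt N103829 D207019) (tt N37103 F208158) (tt N67729 F361160) (tt N70845 (iv4 F218572)) (tt N67719 F361161) (tt N37090 (iv6 D129814)) (tt N67718 (iv7 F361158)))
theorem Q67853 : ∀ i, i < 67853 → P i := stepQ 67852 Q67852 (allL N67852 (tt N37107 (iv1 F208162)) (tt N37091 (iv0 D129815)) (tt N37104 (iv2 F208160)) (tt N97960 (iv3 F418973)) (tt N38861 F208159) (tt N102441 (iv5 F437246)) (tt N97958 F418964) (tt N37105 F208161))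
theorem Q67854 : ∀ i, i < 67854 → P i := stepQ 67853 Q67853 (allL N67853 (tt N67562 F208164) (tt N67560 F208165) (tt N37106 F208163) (tt N37832 F334298) (tt N37866 F334299) (tt N37091 (iv5 D129816)) (tt N67719 F334300) (tt N37825 F334301))
theorem Q67855 : ∀ i, i < 67855 → P i := stepQ 67854 Q67854 (allL N67854 (tt N37105 (iv1 F208168)) (tt N37104 F208169) (tt N37107 F208166) (tt N37831 F345872) (tt N37093 F208167) (tt N37825 F345873) (tt N69072 (iv6 F212725)) (tt N37091 (iv7 D129817)))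
theorem Q67856 : ∀ i, i < 67856 → P i := stepQ 67855 Q67855 (allL N67855 (tt N92263 (iv1 F396515)) (tt N38507 F208172) (tt N37109 F208170) (tt N82968 F412712) (tt N37092 (iv4 D129818)) (tt N103830 D207020) (tt N102789 (iv6 F438662)) (tt N37112 F208171))
theorem Q67857 : ∀ i, i < 67857 → P i := stepQ 67856 Q67856 (allL N67856 (tt N38948 (iv1 F208173)) (tt N37094 (iv0 D129819)) (tt N61674 F355297) (tt N94489 (iv3 F404697)) (tt N74450 (iv4 F347618)) (tt N103831 D207021) (tt N102923 (iv6 F439282)) (tt N61673 (iv7 F355365)))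
theorem Q67858 : ∀ i, i < 67858 → P i := stepQ 67857 Q67857 (allL N67857 (tt N37094 (iv1 D129820)) (tt N38948 F208177) (tt N61673 (iv2 F355368)) (tt N103832 D207022) (tt N85963 (iv4 F374639)) (tt N54008 (iv5 F347623)) (tt N85962 F374636) (tt N61674 F355367))
theorem Q67859 : ∀ i, i < 67859 → P i := stepQ 67858 Q67858 (allL N67858 (tt N61674 (iv1 F208178)) (tt N61673 F208176) (tt N37094 (iv2 D129821)) (tt N69078 (iv3 F212744)) (tt N61708 F208174) (tt N71096 (iv5 F219426)) (tt N70829 (iv6 F218513)) (tt N38948 F208175))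
theorem Q67860 : ∀ i, i < 67860 → P i := stepQ 67859 Q67859 (allL N67859 (tt N70827 (iv1 F218508)) (tt N70826 F218514) (tt N70829 (iv2 F218511)) (tt N37095 F208179) (tt N39007 F208180) (tt N103833 D207023) (tt N37094 (iv6 D129822)) (tt N39004 F208181))
theorem Q67861 : ∀ i, i < 67861 → P i := stepQ 67860 Q67860 (allL N67860 (tt N103766 (iv1 F442736)) (tt N103765 F442735) (tt N69079 (iv2 F212752)) (tt N103833 (iv3 F443013)) (tt N103834 D207024) (tt N37095 (iv5 D129823)) (tt N71318 (iv6 F219818)) (tt N69145 (iv7 F212952)))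
theorem Q67862 : ∀ i, i < 67862 → P i := stepQ 67861 Q67861 (allL N67861 (tt N103832 F443012) (tt N103835 D207025) (tt N69888 (iv2 F216299)) (tt N37096 (iv3 D129825)) (tt N69737 F216015) (tt N103717 (iv5 F442569)) (tt N69146 F347105) (tt N69080 (iv7 F212754)))
theorem Q67863 : ∀ i, i < 67863 → P i := stepQ 67862 Q67862 (allL N67862 (tt N97883 (iv1 F418658)) (tt N71082 (iv0 F219418)) (tt N103836 D207026) (tt N37097 (iv3 D129829)) (tt N69179 (iv4 F213197)) (tt N103719 (iv5 F442572)) (tt N103837 D207027) (tt N69083 (iv7 F212764)))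
theorem Q67864 : ∀ i, i < 67864 → P i := stepQ 67863 Q67863 (allL N67863 (tt N69348 F366305) (tt N103769 F442744) (tt N69082 (iv2 F212762)) (tt N103837 (iv3 F443026)) (tt N69177 (iv4 F213191)) (tt N103838 D207028) (tt N37097 (iv6 D129830)) (tt N69148 (iv7 F365932)))
theorem Q67865 : ∀ i, i < 67865 → P i := stepQ 67864 Q67864 (allL N67864 (tt N67709 (iv1 F209670)) (tt N67706 (iv0 F208673)) (tt N37099 F208184) (tt N103824 (iv3 F442963)) (tt N64824 F352312) (tt N37098 (iv5 D129831)) (tt N103839 D207029) (tt N69084 (iv7 F212768)))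
theorem Q67866 : ∀ i, i < 67866 → P i := stepQ 67865 Q67865 (allL N67865 (tt N96990 (iv1 F414945)) (tt N96989 F414942) (tt N37100 F208185) (tt N103825 (iv3 F442969)) (tt N37119 F208186) (tt N69159 (iv5 F345897)) (tt N37098 (iv6 D129832)) (tt N96966 (iv7 F414831)))
theorem Q67867 : ∀ i, i < 67867 → P i := stepQ 67866 Q67866 (allL N67866 (tt N69084 (iv1 F212769)) (tt N37099 (iv0 D129833)) (tt N67709 (iv2 F209667)) (tt N103840 D207030) (tt N101844 (iv4 F434626)) (tt N37821 F209669) (tt N103841 D207031) (tt N67706 (iv7 F209668)))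
theorem Q67868 : ∀ i, i < 67868 → P i := stepQ 67867 Q67867 (allL N67867 (tt N37099 (iv1 D129834)) (tt N69084 F212770) (tt N67706 F209665) (tt N98698 (iv3 F421896)) (tt N103842 D207032) (tt N37822 (iv5 F209664)) (tt N103843 D207033) (tt N67709 F209666))
theorem Q67869 : ∀ i, i < 67869 → P i := stepQ 67868 Q67868 (allL N67868 (tt N42245 F351933) (tt N100609 (iv0 F429692)) (tt N64824 (iv2 F352313)) (tt N71173 (iv3 F219592)) (tt N37099 (iv4 D129835)) (tt N38297 F208187) (tt N103844 D207034) (tt N69086 (iv7 F212773)))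
theorem Q67870 : ∀ i, i < 67870 → P i := stepQ 67869 Q67869 (allL N67869 (tt N103845 D207035) (tt N103846 D207036) (tt N103839 (iv2 F443032)) (tt N37103 F208189) (tt N103844 (iv4 F443058)) (tt N103847 D207037) (tt N37099 (iv6 D129836)) (tt N103848 D207038))
theorem Q67871 : ∀ i, i < 67871 → P i := stepQ 67870 Q67870 (allL N67870 (tt N96966 (iv1 F414833)) (tt N37100 (iv0 D129837)) (tt N96990 F414948) (tt N103849 D207039) (tt N69278 F351694) (tt N102558 (iv5 F437648)) (tt N102723 (iv6 F438366)) (tt N96989 F414944))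
theorem Q67872 : ∀ i, i < 67872 → P i := stepQ 67871 Q67871 (allL N67871 (tt N37100 (iv1 D129838)) (tt N96966 (iv0 F414832)) (tt N96989 F414943) (tt N103850 D207040) (tt N69279 (iv4 F351693)) (tt N102557 (iv5 F437645)) (tt N103772 (iv6 F442755)) (tt N96990 (iv7 F414946)))
theorem Q67873 : ∀ i, i < 67873 → P i := stepQ 67872 Q67872 (allL N67872 (tt N103851 D207041) (tt N103852 D207042) (tt N69159 F345895) (tt N37106 F208190) (tt N66171 (iv4 F345894)) (tt N37100 (iv5 D129839)) (tt N103847 (iv6 F443063)) (tt N96991 (iv7 F414951)))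
theorem Q67874 : ∀ i, i < 67874 → P i := stepQ 67873 Q67873 (allL N67873 (tt N71084 F377476) (tt N71088 F373566) (tt N103853 D207043) (tt N37101 (iv3 D129841)) (tt N59390 F364006) (tt N37817 F208193) (tt N59389 (iv6 F364005)) (tt N67692 F208194))
theorem Q67875 : ∀ i, i < 67875 → P i := stepQ 67874 Q67874 (allL N67874 (tt N103854 D207044) (tt N103855 D207045) (tt N67701 F208195) (tt N59389 F364003) (tt N59043 (iv4 F338254)) (tt N103785 (iv5 F442804)) (tt N37101 (iv6 D129842)) (tt N59041 F364004))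
theorem Q67876 : ∀ i, i < 67876 → P i := stepQ 67875 Q67875 (allL N67875 (tt N103831 (iv1 F443007)) (tt N54008 F347624) (tt N64911 F355290) (tt N37102 (iv3 D129843)) (tt N64908 (iv4 F335149)) (tt N37819 F208196) (tt N103856 D207046) (tt N67699 F208197))
theorem Q67877 : ∀ i, i < 67877 → P i := stepQ 67876 Q67876 (allL N67876 (tt N103857 D207047) (tt N103858 D207048) (tt N67694 F208198) (tt N103856 (iv3 F443110)) (tt N69540 (iv4 F214695)) (tt N103859 D207049) (tt N37102 (iv6 D129844)) (tt N103860 D207050))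
theorem Q67878 : ∀ i, i < 67878 → P i := stepQ 67877 Q67877 (allL N67877 (tt N67718 (iv1 F361181)) (tt N37103 (iv0 D129845)) (tt N103828 (iv2 F442988)) (tt N103861 D207051) (tt N71239 F373165) (tt N103862 D207052) (tt N103863 D207053) (tt N103829 (iv7 F442990)))
theorem Q67879 : ∀ i, i < 67879 → P i := stepQ 67878 Q67878 (allL N67878 (tt N37103 (iv1 D129846)) (tt N67718 F361162) (tt N103829 (iv2 F442995)) (tt N67701 F355284) (tt N71240 (iv4 F366380)) (tt N103864 D207054) (tt N67699 (iv6 F355283)) (tt N103828 F442987))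
theorem Q67880 : ∀ i, i < 67880 → P i := stepQ 67879 Q67879 (allL N67879 (tt N67545 F361153) (tt N67717 F361155) (tt N67719 (iv2 F361150)) (tt N103847 (iv3 F443062)) (tt N67632 F361149) (tt N37103 (iv5 D129847)) (tt N37106 F208199) (tt N67712 (iv7 F361151)))
theorem Q67881 : ∀ i, i < 67881 → P i := stepQ 67880 Q67880 (allL N67880 (tt N103829 (iv1 F442989)) (tt N103828 F442986) (tt N67718 F361159) (tt N103848 (iv3 F443071)) (tt N71186 (iv4 F219606)) (tt N67712 (iv5 F361180)) (tt N69095 (iv6 F212780)) (tt N37103 (iv7 D129848)))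
theorem Q67882 : ∀ i, i < 67882 → P i := stepQ 67881 Q67881 (allL N67881 (tt N103865 D207055) (tt N71089 (iv0 F453347)) (tt N103866 D207057) (tt N37104 (iv3 D129849)) (tt N65710 (iv4 F332791)) (tt N103555 (iv5 F442020)) (tt N103867 D207058) (tt N103783 F442794))
theorem Q67883 : ∀ i, i < 67883 → P i := stepQ 67882 Q67882 (allL N67882 (tt N102524 F437499) (tt N92538 (iv0 F397300)) (tt N97958 (iv2 F418965)) (tt N103867 (iv3 F443146)) (tt N69886 (iv4 F216294)) (tt N103658 (iv5 F442391)) (tt N37104 (iv6 D129850)) (tt N102461 (iv7 F437305)))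
theorem Q67884 : ∀ i, i < 67884 → P i := stepQ 67883 Q67883 (allL N67883 (tt N102923 F439283) (tt N102921 (iv0 F439277)) (tt N103547 (iv2 F442000)) (tt N37105 (iv3 D129851)) (tt N97962 (iv4 F418979)) (tt N103557 (iv5 F442030)) (tt N102436 (iv6 F437227)) (tt N97960 F418975))
theorem Q67885 : ∀ i, i < 67885 → P i := stepQ 67884 Q67884 (allL N67884 (tt N37825 F345859) (tt N37106 (iv0 D129852)) (tt N67562 (iv2 F208201)) (tt N103868 D207059) (tt N79784 F345860) (tt N66088 F208200) (tt N103869 D207060) (tt N67560 (iv7 F208202)))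
theorem Q67886 : ∀ i, i < 67886 → P i := stepQ 67885 Q67885 (allL N67885 (tt N37106 (iv1 D129853)) (tt N37825 F345875) (tt N67560 (iv2 F208205)) (tt N103870 D207061) (tt N79780 (iv4 F345861)) (tt N66087 F208204) (tt N67552 (iv6 F365994)) (tt N67562 F208203))
theorem Q67887 : ∀ i, i < 67887 → P i := stepQ 67886 Q67886 (allL N67886 (tt N37865 F345862) (tt N37864 F345863) (tt N37866 F345864) (tt N65868 F345865) (tt N37106 (iv4 D129854)) (tt N48351 F345866) (tt N67632 (iv6 F348919)) (tt N37860 F345868))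
theorem Q67888 : ∀ i, i < 67888 → P i := stepQ 67887 Q67887 (allL N67887 (tt N67560 (iv1 F208207)) (tt N67562 F208208) (tt N37825 F345869) (tt N96991 (iv3 F414950)) (tt N37860 F345870) (tt N37107 F208206) (tt N37823 F345871) (tt N37106 (iv7 D129855)))
theorem Q67889 : ∀ i, i < 67889 → P i := stepQ 67888 Q67888 (allL N67888 (tt N68845 F211701) (tt N97938 (iv0 F418881)) (tt N68731 (iv2 F211457)) (tt N37110 F208209) (tt N70770 (iv4 F218310)) (tt N62124 (iv5 F330588)) (tt N37108 (iv6 D129856)) (tt N97968 (iv7 F419009)))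
theorem Q67890 : ∀ i, i < 67890 → P i := stepQ 67889 Q67889 (allL N67889 (tt N37112 (iv1 F208211)) (tt N37109 (iv0 D129857)) (tt N92263 (iv2 F396511)) (tt N103871 D207062) (tt N38510 F208210) (tt N103872 D207063) (tt N69105 F212790) (tt N38507 F208212))
theorem Q67891 : ∀ i, i < 67891 → P i := stepQ 67890 Q67890 (allL N67890 (tt N103873 D207064) (tt N92267 F396523) (tt N103874 D207065) (tt N37109 (iv3 D129858)) (tt N70768 (iv4 F218303)) (tt N103875 D207066) (tt N103876 D207067) (tt N103791 F442833))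
theorem Q67892 : ∀ i, i < 67892 → P i := stepQ 67891 Q67891 (allL N67891 (tt N102603 F437862) (tt N70577 (iv0 F217876)) (tt N103830 (iv2 F442996)) (tt N103875 (iv3 F443171)) (tt N37988 F334312) (tt N37109 (iv5 D129859)) (tt N103877 D207068) (tt N103793 (iv7 F442840)))
theorem Q67893 : ∀ i, i < 67893 → P i := stepQ 67892 Q67892 (allL N67892 (tt N99489 (iv1 F424823)) (tt N93665 (iv0 F401490)) (tt N102789 (iv2 F438660)) (tt N103876 (iv3 F443177)) (tt N37110 F208213) (tt N103878 D207069) (tt N37109 (iv6 D129860)) (tt N102469 (iv7 F437343)))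
theorem Q67894 : ∀ i, i < 67894 → P i := stepQ 67893 Q67893 (allL N67893 (tt N82759 F365732) (tt N82954 (iv0 F363998)) (tt N82967 F412714) (tt N37112 (iv3 D129861)) (tt N70359 (iv4 F217279)) (tt N102614 (iv5 F437895)) (tt N102465 (iv6 F437328)) (tt N82968 (iv7 F412713)))
theorem Q67895 : ∀ i, i < 67895 → P i := stepQ 67894 Q67894 (allL N67894 (tt N70577 (iv1 F217877)) (tt N102603 F437863) (tt N103793 (iv2 F442838)) (tt N102614 F437897) (tt N37987 F334311) (tt N37112 (iv5 D129862)) (tt N102716 F438342) (tt N103830 (iv7 F442999)))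
theorem Q67896 : ∀ i, i < 67896 → P i := stepQ 67895 Q67895 (allL N67895 (tt N37116 (iv1 F208216)) (tt N37114 (iv0 D129866)) (tt N69115 F213174) (tt N56714 (iv3 F208217)) (tt N38033 (iv4 F213160)) (tt N103879 D207070) (tt N103880 D207071) (tt N38059 F213175))
theorem Q67897 : ∀ i, i < 67897 → P i := stepQ 67896 Q67896 (allL N67896 (tt N37114 (iv1 D129867)) (tt N37116 F208218) (tt N38059 (iv2 F213176)) (tt N55849 F213181) (tt N38058 F213178) (tt N88901 (iv5 F384486)) (tt N103881 D207072) (tt N69115 (iv7 F213177)))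
theorem Q67898 : ∀ i, i < 67898 → P i := stepQ 67897 Q67897 (allL N67897 (tt N103744 (iv1 F442646)) (tt N88921 F384541) (tt N69120 (iv2 F212823)) (tt N55853 F366064) (tt N103720 (iv4 F442576)) (tt N37114 (iv5 D129869)) (tt N55851 (iv6 F366065)) (tt N69116 (iv7 F212809)))
theorem Q67899 : ∀ i, i < 67899 → P i := stepQ 67898 Q67898 (allL N67898 (tt N90518 (iv1 F389931)) (tt N70109 F354048) (tt N80691 (iv2 F354044)) (tt N37117 F208220) (tt N67979 (iv4 F208749)) (tt N76751 F354037) (tt N37115 (iv6 D129875)) (tt N69165 (iv7 F354045)))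
theorem Q67900 : ∀ i, i < 67900 → P i := stepQ 67899 Q67899 (allL N67899 (tt N88921 (iv1 F384540)) (tt N103744 (iv0 F442645)) (tt N69116 (iv2 F212808)) (tt N103401 (iv3 F441449)) (tt N94133 (iv4 F403369)) (tt N37116 (iv5 D129876)) (tt N88966 F403371) (tt N69120 (iv7 F212824)))
theorem Q67901 : ∀ i, i < 67901 → P i := stepQ 67900 Q67900 (allL N67900 (tt N103802 (iv1 F442882)) (tt N103801 F442881) (tt N69117 (iv2 F212810)) (tt N103402 (iv3 F441455)) (tt N37117 F208221) (tt N103882 D207073) (tt N37116 (iv6 D129877)) (tt N69166 (iv7 F365970)))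
theorem Q67902 : ∀ i, i < 67902 → P i := stepQ 67901 Q67901 (allL N67901 (tt N63229 (iv1 F208227)) (tt N38303 (iv0 F209592)) (tt N37122 F208222) (tt N38307 (iv3 F208224)) (tt N37118 (iv4 D129882)) (tt N38301 (iv5 F208225)) (tt N63228 (iv6 F208226)) (tt N38300 F208223))
theorem Q67903 : ∀ i, i < 67903 → P i := stepQ 67902 Q67902 (allL N67902 (tt N45914 F342308) (tt N47593 F312114) (tt N37123 F208229) (tt N48016 (iv3 F313467)) (tt N63228 F208230) (tt N58790 F342309) (tt N37118 (iv6 D129883)) (tt N48011 F312115))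
theorem Q67904 : ∀ i, i < 67904 → P i := stepQ 67903 Q67903 (allL N67903 (tt N48424 F307937) (tt N48423 (iv0 F309033)) (tt N48131 (iv2 F309906)) (tt N48136 F307938) (tt N37121 (iv4 D129895)) (tt N80433 F351929) (tt N87698 F380171) (tt N48422 F307939))
theorem Q67905 : ∀ i, i < 67905 → P i := stepQ 67904 Q67904 (allL N67904 (tt N37122 (iv1 D129898)) (tt N38300 F208240) (tt N38303 (iv2 F208241)) (tt N64898 (iv3 F314464)) (tt N68340 (iv4 F209582)) (tt N76012 (iv5 F308196)) (tt N99773 (iv6 F426166)) (tt N63229 (iv7 F209615)))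
theorem Q67906 : ∀ i, i < 67906 → P i := stepQ 67905 Q67905 (allL N67905 (tt N48011 F314282) (tt N37123 (iv0 D129901)) (tt N45914 F330691) (tt N46465 F314283) (tt N47723 F314284) (tt N45904 F330692) (tt N46912 F314286) (tt N47593 F314287))
theorem Q67907 : ∀ i, i < 67907 → P i := stepQ 67906 Q67906 (allL N67906 (tt N37123 (iv1 D129902)) (tt N48011 F314280) (tt N47593 F314281) (tt N77283 F337670) (tt N68455 (iv4 F337668)) (tt N45915 F332088) (tt N77281 F332089) (tt N45914 F332090))
theorem Q67908 : ∀ i, i < 67908 → P i := stepQ 67907 Q67907 (allL N67907 (tt N49270 F334331) (tt N70071 (iv0 F334336)) (tt N60784 F334332) (tt N37124 (iv3 D129906)) (tt N60777 F334333) (tt N100667 (iv5 F429919)) (tt N60776 F334334) (tt N70072 F363984))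
theorem Q67909 : ∀ i, i < 67909 → P i := stepQ 67908 Q67908 (allL N67908 (tt N103883 D207074) (tt N103881 F443205) (tt N96987 (iv2 F414934)) (tt N102911 (iv3 F439230)) (tt N37124 (iv4 D129907)) (tt N103884 D207075) (tt N102910 F439227) (tt N96985 (iv7 F414930)))
theorem Q67910 : ∀ i, i < 67910 → P i := stepQ 67909 Q67909 (allL N67909 (tt N102860 (iv1 F438981)) (tt N66480 (iv0 F354178)) (tt N96988 (iv2 F414937)) (tt N60776 (iv3 F334335)) (tt N102910 (iv4 F439224)) (tt N66467 (iv5 F350886)) (tt N37124 (iv6 D129909)) (tt N101833 (iv7 F434572)))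
theorem Q67911 : ∀ i, i < 67911 → P i := stepQ 67910 Q67910 (allL N67910 (tt N103140 (iv1 F440263)) (tt N84088 (iv0 F368057)) (tt N103426 (iv2 F441579)) (tt N37125 (iv3 D129911)) (tt N68009 F364577) (tt N91852 F394689) (tt N70048 (iv6 F394690)) (tt N96986 (iv7 F414933)))
theorem Q67912 : ∀ i, i < 67912 → P i := stepQ 67911 Q67911 (allL N67911 (tt N103881 F443204) (tt N103883 F443207) (tt N96985 (iv2 F414928)) (tt N103885 D207076) (tt N37125 (iv4 D129912)) (tt N103886 D207077) (tt N103804 (iv6 F442890)) (tt N96987 (iv7 F414935)))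
theorem Q67913 : ∀ i, i < 67913 → P i := stepQ 67912 Q67912 (allL N67912 (tt N37205 (iv1 F333898)) (tt N37129 (iv0 D129950)) (tt N37207 F333894) (tt N39824 F333895) (tt N97726 (iv4 F418084)) (tt N64070 (iv5 F334278)) (tt N37194 F333896) (tt N37195 F333897))
theorem Q67914 : ∀ i, i < 67914 → P i := stepQ 67913 Q67913 (allL N67913 (tt N37207 F334287) (tt N37195 (iv0 F334292)) (tt N37129 (iv2 D129952)) (tt N69172 (iv3 F213110)) (tt N84097 (iv4 F368088)) (tt N46125 F323645) (tt N102634 F437970) (tt N37205 F333904))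
theorem Q67915 : ∀ i, i < 67915 → P i := stepQ 67914 Q67914 (allL N67914 (tt N68788 (iv1 F358979)) (tt N68800 (iv0 F358978)) (tt N68798 F359049) (tt N37131 (iv3 D129956)) (tt N37132 F208335) (tt N80059 (iv5 F338377)) (tt N69136 (iv6 F212914)) (tt N68745 (iv7 F211499)))
theorem Q67916 : ∀ i, i < 67916 → P i := stepQ 67915 Q67915 (allL N67915 (tt N38866 F208413) (tt N38876 (iv0 F208414)) (tt N38872 F208412) (tt N81463 F364847) (tt N37133 (iv4 D129991)) (tt N103887 D207078) (tt N69184 F359672) (tt N38871 (iv7 F208415)))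
theorem Q67917 : ∀ i, i < 67917 → P i := stepQ 67916 Q67916 (allL N67916 (tt N103821 F442958) (tt N78602 (iv0 F366569)) (tt N102288 (iv2 F436568)) (tt N37138 (iv3 D130043)) (tt N103772 (iv4 F442754)) (tt N103888 D207079) (tt N69279 F351692) (tt N83630 F323382))
theorem Q67918 : ∀ i, i < 67918 → P i := stepQ 67917 Q67917 (allL N67917 (tt N50753 F321772) (tt N47475 F319784) (tt N51013 F321773) (tt N103888 (iv3 F443220)) (tt N48621 F321774) (tt N37138 (iv5 D130045)) (tt N47931 F336011) (tt N82746 F321775))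
theorem Q67919 : ∀ i, i < 67919 → P i := stepQ 67918 Q67918 (allL N67918 (tt N37160 F331839) (tt N37171 F331840) (tt N37169 F342173) (tt N69279 (iv3 F351681)) (tt N49266 F323385) (tt N80053 (iv5 F334634)) (tt N37138 (iv6 D130046)) (tt N37168 F342174))
theorem Q67920 : ∀ i, i < 67920 → P i := stepQ 67919 Q67919 (allL N67919 (tt N47573 F311013) (tt N70047 (iv0 F216509)) (tt N65305 (iv2 F313257)) (tt N37503 F208503) (tt N37142 (iv4 D130059)) (tt N75411 (iv5 F340286)) (tt N47166 F311014) (tt N47373 (iv7 F312945)))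
theorem Q67921 : ∀ i, i < 67921 → P i := stepQ 67920 Q67920 (allL N67920 (tt N46969 F332349) (tt N103889 D207080) (tt N67043 (iv2 F310058)) (tt N37143 F208505) (tt N47166 F307619) (tt N94070 (iv5 F403065)) (tt N37142 (iv6 D130060)) (tt N47305 F307727))
theorem Q67922 : ∀ i, i < 67922 → P i := stepQ 67921 Q67921 (allL N67921 (tt N46350 F304574) (tt N53062 F304575) (tt N53064 (iv2 F306587)) (tt N43427 F304576) (tt N45303 F304577) (tt N37145 (iv5 D130069)) (tt N37149 F208538) (tt N53065 F304578))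
theorem Q67923 : ∀ i, i < 67923 → P i := stepQ 67922 Q67922 (allL N67922 (tt N46990 (iv1 F313349)) (tt N69236 (iv0 F213518)) (tt N69265 F213595) (tt N37146 (iv3 D130071)) (tt N47574 F311076) (tt N77225 F347353) (tt N103890 D207081) (tt N47164 F308030))
theorem Q67924 : ∀ i, i < 67924 → P i := stepQ 67923 Q67923 (allL N67923 (tt N47530 F312785) (tt N47013 F312786) (tt N47510 F311077) (tt N77225 F347352) (tt N72687 (iv4 F336913)) (tt N37146 (iv5 D130072)) (tt N75677 F336915) (tt N47169 F308031))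
theorem Q67925 : ∀ i, i < 67925 → P i := stepQ 67924 Q67924 (allL N67924 (tt N47302 (iv1 F305143)) (tt N46209 F311069) (tt N47304 (iv2 F305145)) (tt N103890 (iv3 F443230)) (tt N37527 F208545) (tt N66566 (iv5 F323281)) (tt N37146 (iv6 D130073)) (tt N46369 F304925))
theorem Q67926 : ∀ i, i < 67926 → P i := stepQ 67925 Q67925 (allL N67925 (tt N47013 F312783) (tt N47530 F312784) (tt N47169 (iv2 F306084)) (tt N100382 (iv3 F428707)) (tt N40831 F325890) (tt N37147 (iv5 D130075)) (tt N47159 F304928) (tt N47510 (iv7 F308926)))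
theorem Q67927 : ∀ i, i < 67927 → P i := stepQ 67926 Q67926 (allL N67926 (tt N69269 F355076) (tt N69237 (iv0 F213521)) (tt N66843 F342773) (tt N37149 (iv3 D130080)) (tt N43485 F342774) (tt N37845 F208549) (tt N43427 F342775) (tt N69210 (iv7 F213318)))
theorem Q67928 : ∀ i, i < 67928 → P i := stepQ 67927 Q67927 (allL N67927 (tt N67100 F317156) (tt N41592 F317157) (tt N69211 (iv2 F213320)) (tt N75446 F347827) (tt N41844 F317158) (tt N63074 (iv5 F319405)) (tt N37150 (iv6 D130082)) (tt N74832 F317159))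
theorem Q67929 : ∀ i, i < 67929 → P i := stepQ 67928 Q67928 (allL N67928 (tt N46602 F315946) (tt N67052 F315519) (tt N67053 F315520) (tt N37151 (iv3 D130084)) (tt N44007 F315521) (tt N94473 (iv5 F404622)) (tt N66663 (iv6 F339438)) (tt N67054 F315523))
theorem Q67930 : ∀ i, i < 67930 → P i := stepQ 67929 Q67929 (allL N67929 (tt N45936 F318682) (tt N44891 F317154) (tt N69212 (iv2 F213330)) (tt N47518 F319403) (tt N48155 F317155) (tt N45960 (iv5 F320838)) (tt N37152 (iv6 D130087)) (tt N47512 F319404))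
theorem Q67931 : ∀ i, i < 67931 → P i := stepQ 67930 Q67930 (allL N67930 (tt N37638 F212273) (tt N69304 F217679) (tt N69270 (iv2 F213615)) (tt N37155 F208575) (tt N63845 (iv4 F212298)) (tt N37153 (iv5 D130096)) (tt N63844 F212299) (tt N69176 (iv7 F213188)))
theorem Q67932 : ∀ i, i < 67932 → P i := stepQ 67931 Q67931 (allL N67931 (tt N37157 (iv1 F208580)) (tt N37154 (iv0 D130099)) (tt N69178 (iv2 F213195)) (tt N70796 (iv3 F218431)) (tt N38865 F208578) (tt N86030 (iv5 F374953)) (tt N103891 D207082) (tt N38887 (iv7 F208579)))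
theorem Q67933 : ∀ i, i < 67933 → P i := stepQ 67932 Q67932 (allL N67932 (tt N76528 (iv1 F239243)) (tt N48872 F315087) (tt N69187 (iv2 F213236)) (tt N100638 (iv3 F429787)) (tt N37155 (iv4 D130104)) (tt N103892 D207083) (tt N78619 (iv6 F357456)) (tt N69182 (iv7 F213211)))
theorem Q67934 : ∀ i, i < 67934 → P i := stepQ 67933 Q67933 (allL N67933 (tt N37177 (iv1 F208592)) (tt N37156 (iv0 D130112)) (tt N37182 (iv2 F208590)) (tt N37197 F208588) (tt N38545 F208589) (tt N81332 (iv5 F330294)) (tt N39828 F333875) (tt N37178 F208591))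
theorem Q67935 : ∀ i, i < 67935 → P i := stepQ 67934 Q67934 (allL N67934 (tt N37182 (iv1 F208630)) (tt N37178 F208629) (tt N37156 (iv2 D130113)) (tt N69081 (iv3 F212759)) (tt N69889 (iv4 F216300)) (tt N69670 (iv5 F215565)) (tt N71500 (iv6 F339489)) (tt N37177 F208628))
theorem Q67936 : ∀ i, i < 67936 → P i := stepQ 67935 Q67935 (allL N67935 (tt N39069 (iv1 F213233)) (tt N70500 (iv0 F217585)) (tt N69180 (iv2 F213205)) (tt N70688 (iv3 F218107)) (tt N70365 F217587) (tt N37157 (iv5 D130116)) (tt N84971 (iv6 F371218)) (tt N69186 (iv7 F213232)))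
theorem Q67937 : ∀ i, i < 67937 → P i := stepQ 67936 Q67936 (allL N67936 (tt N78612 F339466) (tt N78611 (iv0 F362739)) (tt N69181 (iv2 F213208)) (tt N55732 (iv3 F339445)) (tt N37158 F208633) (tt N84489 (iv5 F369519)) (tt N37157 (iv6 D130117)) (tt N69216 F339467))
theorem Q67938 : ∀ i, i < 67938 → P i := stepQ 67937 Q67937 (allL N67937 (tt N38118 (iv1 F209526)) (tt N68308 F209531) (tt N37163 F208634) (tt N70756 (iv3 F218280)) (tt N103893 D207084) (tt N37159 (iv5 D130124)) (tt N103894 D207085) (tt N68307 (iv7 F209523)))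
theorem Q67939 : ∀ i, i < 67939 → P i := stepQ 67938 Q67938 (allL N67938 (tt N86916 (iv1 F377698)) (tt N54751 (iv0 F366225)) (tt N37164 F208635) (tt N70757 (iv3 F218285)) (tt N37160 F208636) (tt N103895 D207086) (tt N37159 (iv6 D130125)) (tt N86915 (iv7 F377689)))
theorem Q67940 : ∀ i, i < 67940 → P i := stepQ 67939 Q67939 (allL N67939 (tt N37171 (iv1 F208642)) (tt N37160 (iv0 D130128)) (tt N37168 F342177) (tt N71346 (iv3 F336032)) (tt N83627 (iv4 F331842)) (tt N65078 (iv5 F336025)) (tt N57139 F336031) (tt N37169 F342178))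
theorem Q67941 : ∀ i, i < 67941 → P i := stepQ 67940 Q67940 (allL N67940 (tt N68256 (iv1 F330893)) (tt N48320 (iv0 F330894)) (tt N37170 F208640) (tt N69218 (iv3 F213411)) (tt N63886 (iv4 F341827)) (tt N37160 (iv5 D130130)) (tt N48257 F324070) (tt N78478 (iv7 F336088)))
theorem Q67942 : ∀ i, i < 67942 → P i := stepQ 67941 Q67941 (allL N67941 (tt N37169 (iv1 F208643)) (tt N37168 F208644) (tt N37171 F208641) (tt N54753 (iv3 F321700)) (tt N86915 (iv4 F377690)) (tt N78478 (iv5 F336086)) (tt N54752 (iv6 F321696)) (tt N37160 (iv7 D130131)))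
theorem Q67943 : ∀ i, i < 67943 → P i := stepQ 67942 Q67942 (allL N67942 (tt N92122 F395839) (tt N92786 F398225) (tt N66134 F208645) (tt N37161 (iv3 D130132)) (tt N56509 F208646) (tt N70028 (iv5 F216441)) (tt N69219 (iv6 F342930)) (tt N56174 (iv7 F332610)))
theorem Q67944 : ∀ i, i < 67944 → P i := stepQ 67943 Q67943 (allL N67943 (tt N66078 (iv1 F208650)) (tt N37407 F208653) (tt N38837 F208648) (tt N70028 (iv3 F216439)) (tt N94584 (iv4 F405057)) (tt N37161 (iv5 D130133)) (tt N92621 (iv6 F397664)) (tt N66079 F208649))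
theorem Q67945 : ∀ i, i < 67945 → P i := stepQ 67944 Q67944 (allL N67944 (tt N69347 (iv1 F344111)) (tt N78608 (iv0 F360183)) (tt N56172 (iv2 F339454)) (tt N66080 F208654) (tt N67812 F208655) (tt N84716 (iv5 F370319)) (tt N37162 (iv6 D130135)) (tt N69221 (iv7 F339460)))
theorem Q67946 : ∀ i, i < 67946 → P i := stepQ 67945 Q67945 (allL N67945 (tt N86029 F374952) (tt N103896 D207087) (tt N103893 (iv2 F443248)) (tt N102449 (iv3 F437274)) (tt N37163 (iv4 D130137)) (tt N101058 (iv5 F431489)) (tt N103897 D207088) (tt N69192 (iv7 F213268)))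
theorem Q67947 : ∀ i, i < 67947 → P i := stepQ 67946 Q67946 (allL N67946 (tt N103898 D207089) (tt N70605 (iv0 F419536)) (tt N103894 (iv2 F443252)) (tt N38590 F208658) (tt N103897 (iv4 F443261)) (tt N103899 D207090) (tt N37163 (iv6 D130138)) (tt N103900 D207091))
theorem Q67948 : ∀ i, i < 67948 → P i := stepQ 67947 Q67947 (allL N67947 (tt N86915 (iv1 F377688)) (tt N37164 (iv0 D130139)) (tt N86916 (iv2 F377693)) (tt N92790 (iv3 F398240)) (tt N70505 (iv4 F369294)) (tt N84443 (iv5 F369292)) (tt N92788 (iv6 F398235)) (tt N54751 F369293))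
theorem Q67949 : ∀ i, i < 67949 → P i := stepQ 67948 Q67948 (allL N67948 (tt N103901 D207092) (tt N103902 D207093) (tt N103895 (iv2 F443254)) (tt N38593 F208659) (tt N103903 D207094) (tt N37164 (iv5 D130141)) (tt N103899 (iv6 F443270)) (tt N103904 D207095))
theorem Q67950 : ∀ i, i < 67950 → P i := stepQ 67949 Q67949 (allL N67949 (tt N54751 (iv1 F366226)) (tt N86916 F377697) (tt N86915 F377692) (tt N38594 F208660) (tt N37171 F208661) (tt N103904 (iv5 F443292)) (tt N69197 (iv6 F213273)) (tt N37164 (iv7 D130142)))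
theorem Q67951 : ∀ i, i < 67951 → P i := stepQ 67950 Q67950 (allL N67950 (tt N69231 F213498) (tt N69271 (iv0 F213625)) (tt N68410 (iv2 F210246)) (tt N37165 (iv3 D130144)) (tt N63229 F208666) (tt N38140 F208665) (tt N77200 F335252) (tt N68340 (iv7 F209617)))
theorem Q67952 : ∀ i, i < 67952 → P i := stepQ 67951 Q67951 (allL N67951 (tt N81332 F315283) (tt N37180 F216530) (tt N47559 F315284) (tt N37166 (iv3 D130148)) (tt N47028 F315285) (tt N38143 F208679) (tt N47346 F364117) (tt N46015 F310827))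
theorem Q67953 : ∀ i, i < 67953 → P i := stepQ 67952 Q67952 (allL N67952 (tt N65214 (iv1 F357809)) (tt N65226 (iv0 F357808)) (tt N64897 (iv2 F314446)) (tt N80864 F337625) (tt N37166 (iv4 D130149)) (tt N103905 D207096) (tt N77180 (iv6 F363623)) (tt N65176 (iv7 F312102)))
theorem Q67954 : ∀ i, i < 67954 → P i := stepQ 67953 Q67953 (allL N67953 (tt N46379 F337522) (tt N45658 F337523) (tt N46952 (iv2 F337528)) (tt N47346 F337524) (tt N77180 F337525) (tt N81483 F337526) (tt N37166 (iv6 D130150)) (tt N46951 F337527))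
theorem Q67955 : ∀ i, i < 67955 → P i := stepQ 67954 Q67954 (allL N67954 (tt N47010 F333764) (tt N37167 (iv0 D130155)) (tt N47277 F333765) (tt N75604 F333766) (tt N103906 D207097) (tt N48266 F333767) (tt N47265 F333768) (tt N80922 F344934))
theorem Q67956 : ∀ i, i < 67956 → P i := stepQ 67955 Q67955 (allL N67955 (tt N37167 (iv1 D130156)) (tt N47010 F344928) (tt N80922 F344929) (tt N82375 F344930) (tt N103907 D207098) (tt N48267 F344931) (tt N65039 F344932) (tt N47277 F344933))
theorem Q67957 : ∀ i, i < 67957 → P i := stepQ 67956 Q67956 (allL N67956 (tt N83626 F336095) (tt N70811 (iv0 F351702)) (tt N83627 F336097) (tt N95896 (iv3 F410137)) (tt N37168 (iv4 D130161)) (tt N51545 F336098) (tt N83634 F336099) (tt N49266 F336100))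
theorem Q67958 : ∀ i, i < 67958 → P i := stepQ 67957 Q67957 (allL N67957 (tt N78610 F336080) (tt N40651 F336081) (tt N57139 F336075) (tt N102289 (iv3 F436573)) (tt N83634 (iv4 F336094)) (tt N57130 (iv5 F336074)) (tt N37168 (iv6 D130163)) (tt N83631 F336076))
theorem Q67959 : ∀ i, i < 67959 → P i := stepQ 67958 Q67958 (allL N67958 (tt N39828 F351697) (tt N39824 F351698) (tt N102287 (iv2 F436562)) (tt N37169 (iv3 D130165)) (tt N70078 (iv4 F342183)) (tt N102286 (iv5 F436561)) (tt N69242 F342187) (tt N71346 F342179))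
theorem Q67960 : ∀ i, i < 67960 → P i := stepQ 67959 Q67959 (allL N67959 (tt N37357 F345531) (tt N80054 F345532) (tt N80053 F342181) (tt N102286 (iv3 F436557)) (tt N101569 (iv4 F433420)) (tt N37169 (iv5 D130167)) (tt N80112 (iv6 F345524)) (tt N65078 F342180))
theorem Q67961 : ∀ i, i < 67961 → P i := stepQ 67960 Q67960 (allL N67960 (tt N69327 (iv1 F213733)) (tt N43342 F305686) (tt N37222 F208702) (tt N69230 (iv3 F213489)) (tt N78555 F305687) (tt N37172 (iv5 D130193)) (tt N43304 F305688) (tt N69230 (iv7 F213491)))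
theorem Q67962 : ∀ i, i < 67962 → P i := stepQ 67961 Q67961 (allL N67961 (tt N102288 F436569) (tt N83630 (iv0 F354309)) (tt N78602 F315346) (tt N37176 F208705) (tt N102608 (iv4 F437881)) (tt N47402 F315347) (tt N37173 (iv6 D130195)) (tt N103821 (iv7 F442956)))
theorem Q67963 : ∀ i, i < 67963 → P i := stepQ 67962 Q67962 (allL N67962 (tt N37174 (iv1 D130197)) (tt N37188 F208707) (tt N37184 F208709) (tt N103379 (iv3 F441361)) (tt N37941 (iv4 F208708)) (tt N103908 D207099) (tt N67816 (iv6 F354047)) (tt N37183 F208710))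
theorem Q67964 : ∀ i, i < 67964 → P i := stepQ 67963 Q67963 (allL N67963 (tt N65123 (iv1 F354307)) (tt N65121 F354304) (tt N37187 F208717) (tt N93228 (iv3 F400037)) (tt N37176 F208718) (tt N79365 F341973) (tt N37174 (iv6 D130199)) (tt N79746 (iv7 F354363)))
theorem Q67965 : ∀ i, i < 67965 → P i := stepQ 67964 Q67964 (allL N67964 (tt N65105 (iv1 F333924)) (tt N65104 F337904) (tt N37193 F208725) (tt N47402 F337910) (tt N74989 (iv4 F341971)) (tt N37176 (iv5 D130206)) (tt N47396 F337911) (tt N74988 F341972))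
theorem Q67966 : ∀ i, i < 67966 → P i := stepQ 67965 Q67965 (allL N67965 (tt N37210 F208731) (tt N69671 F215575) (tt N69185 (iv2 F213224)) (tt N69270 (iv3 F213616)) (tt N70090 F216610) (tt N37177 (iv5 D130209)) (tt N103618 (iv6 F442259)) (tt N69670 (iv7 F215564)))
theorem Q67967 : ∀ i, i < 67967 → P i := stepQ 67966 Q67966 (allL N67966 (tt N47559 F315326) (tt N46015 F310828) (tt N37180 F208732) (tt N47363 F319790) (tt N67971 F315327) (tt N37178 (iv5 D130211)) (tt N47361 F319791) (tt N81332 F315328))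
theorem Q67968 : ∀ i, i < 67968 → P i := stepQ 67967 Q67967 (allL N67967 (tt N103909 D207100) (tt N69203 F394443) (tt N37181 F208733) (tt N78602 (iv3 F366568)) (tt N38544 F208734) (tt N103910 D207101) (tt N37178 (iv6 D130212)) (tt N103911 D207102))
theorem Q67969 : ∀ i, i < 67969 → P i := stepQ 67968 Q67968 (allL N67968 (tt N103244 (iv1 F440755)) (tt N103246 (iv0 F440767)) (tt N77223 F349809) (tt N37179 (iv3 D130213)) (tt N37185 F208735) (tt N65201 (iv5 F342762)) (tt N87839 F380776) (tt N38546 F208736))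
theorem Q67970 : ∀ i, i < 67970 → P i := stepQ 67969 Q67969 (allL N67969 (tt N64595 F342776) (tt N64591 (iv0 F337783)) (tt N38543 F208737) (tt N65201 F342763) (tt N62984 F349368) (tt N37179 (iv5 D130214)) (tt N62983 (iv6 F352601)) (tt N38547 F208738))
theorem Q67971 : ∀ i, i < 67971 → P i := stepQ 67970 Q67970 (allL N67970 (tt N67836 F337778) (tt N102662 (iv0 F438118)) (tt N38544 F208739) (tt N87839 (iv3 F380778)) (tt N37181 F208740) (tt N103912 D207103) (tt N37179 (iv6 D130215)) (tt N39826 F333887))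
theorem Q67972 : ∀ i, i < 67972 → P i := stepQ 67971 Q67971 (allL N67971 (tt N47403 F315334) (tt N47345 F320196) (tt N47361 F315336) (tt N37190 F208741) (tt N67966 (iv4 F315327)) (tt N70100 (iv5 F334168)) (tt N37180 (iv6 D130219)) (tt N47404 F315337))
theorem Q67973 : ∀ i, i < 67973 → P i := stepQ 67972 Q67972 (allL N67972 (tt N103911 (iv1 F443334)) (tt N37181 (iv0 D130221)) (tt N103909 F443319) (tt N69190 (iv3 F365522)) (tt N70061 (iv4 F365521)) (tt N99607 F425392) (tt N69227 F365523) (tt N69203 F365524))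
theorem Q67974 : ∀ i, i < 67974 → P i := stepQ 67973 Q67973 (allL N67973 (tt N37181 (iv1 D130222)) (tt N103911 F443333) (tt N69203 F394436) (tt N102715 (iv3 F438340)) (tt N70062 (iv4 F380791)) (tt N103913 D207104) (tt N71659 (iv6 F394435)) (tt N103909 (iv7 F443320)))
theorem Q67975 : ∀ i, i < 67975 → P i := stepQ 67974 Q67974 (allL N67974 (tt N64045 F334172) (tt N102697 (iv0 F438239)) (tt N103910 (iv2 F443322)) (tt N37193 F208744) (tt N64041 F340114) (tt N37181 (iv5 D130223)) (tt N70100 (iv6 F334169)) (tt N73713 F359636))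
theorem Q67976 : ∀ i, i < 67976 → P i := stepQ 67975 Q67975 (allL N67975 (tt N69203 F394442) (tt N103909 F443321) (tt N103911 (iv2 F443329)) (tt N37194 F208745) (tt N39826 F333890) (tt N73713 (iv5 F359633)) (tt N39824 F333891) (tt N37181 (iv7 D130224)))
theorem Q67977 : ∀ i, i < 67977 → P i := stepQ 67976 Q67976 (allL N67976 (tt N71346 F362715) (tt N102287 (iv0 F436566)) (tt N39828 F333882) (tt N37195 F208746) (tt N38548 F208747) (tt N79664 (iv5 F359632)) (tt N37182 (iv6 D130225)) (tt N39824 F333883))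
theorem Q67978 : ∀ i, i < 67978 → P i := stepQ 67977 Q67977 (allL N67977 (tt N103378 F441358) (tt N103359 (iv0 F441272)) (tt N98015 (iv2 F419170)) (tt N37183 (iv3 D130226)) (tt N67384 F208748) (tt N103914 D207105) (tt N97556 F417373) (tt N103379 (iv7 F441364)))
theorem Q67979 : ∀ i, i < 67979 → P i := stepQ 67978 Q67978 (allL N67978 (tt N97756 F418187) (tt N103438 (iv0 F441637)) (tt N103338 (iv2 F441195)) (tt N103914 (iv3 F443345)) (tt N82231 (iv4 F364620)) (tt N37183 (iv5 D130227)) (tt N60463 F354372) (tt N103908 (iv7 F443316)))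
theorem Q67980 : ∀ i, i < 67980 → P i := stepQ 67979 Q67979 (allL N67979 (tt N69324 (iv1 F359269)) (tt N69321 (iv0 F350894)) (tt N92175 F396096) (tt N97556 (iv3 F417372)) (tt N67898 F208749) (tt N97555 F417369) (tt N37183 (iv6 D130228)) (tt N69248 F354046))
theorem Q67981 : ∀ i, i < 67981 → P i := stepQ 67980 Q67980 (allL N67980 (tt N103438 (iv1 F441638)) (tt N97756 (iv0 F418186)) (tt N103908 (iv2 F443313)) (tt N103233 F440699) (tt N101540 (iv4 F433307)) (tt N37184 (iv5 D130229)) (tt N101538 (iv6 F433293)) (tt N103338 (iv7 F441193)))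
theorem Q67982 : ∀ i, i < 67982 → P i := stepQ 67981 Q67981 (allL N67981 (tt N37185 (iv1 D130231)) (tt N93229 F400044) (tt N69857 F355041) (tt N103365 (iv3 F441295)) (tt N58050 (iv4 F208750)) (tt N103915 D207106) (tt N69250 F354706) (tt N69854 (iv7 F355042)))
theorem Q67983 : ∀ i, i < 67983 → P i := stepQ 67982 Q67982 (allL N67982 (tt N69854 (iv1 F355044)) (tt N69857 F216267) (tt N37185 (iv2 D130232)) (tt N66016 F349814) (tt N77223 (iv4 F349808)) (tt N66015 (iv5 F349815)) (tt N92022 F395414) (tt N93229 (iv7 F400042)))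
theorem Q67984 : ∀ i, i < 67984 → P i := stepQ 67983 Q67983 (allL N67983 (tt N97435 F416901) (tt N65946 F358869) (tt N66015 F349816) (tt N37186 F208751) (tt N80120 (iv4 F342761)) (tt N37185 (iv5 D130233)) (tt N80119 (iv6 F354373)) (tt N97631 (iv7 F417689)))
theorem Q67985 : ∀ i, i < 67985 → P i := stepQ 67984 Q67984 (allL N67984 (tt N44636 F358873) (tt N92023 F395419) (tt N92022 (iv2 F395415)) (tt N37187 F208752) (tt N87839 (iv4 F380779)) (tt N79747 F354342) (tt N37185 (iv6 D130234)) (tt N92021 F395405))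
theorem Q67986 : ∀ i, i < 67986 → P i := stepQ 67985 Q67985 (allL N67985 (tt N69857 F216266) (tt N69854 (iv0 F216263)) (tt N93229 (iv2 F400040)) (tt N37188 F208753) (tt N38546 F208754) (tt N97631 (iv5 F417690)) (tt N103916 D207107) (tt N37185 (iv7 D130235)))
theorem Q67987 : ∀ i, i < 67987 → P i := stepQ 67986 Q67986 (allL N67986 (tt N39998 (iv1 F208786)) (tt N59500 (iv0 F348789)) (tt N59669 (iv2 F343586)) (tt N95112 F407101) (tt N37186 (iv4 D130238)) (tt N44444 F208785) (tt N103917 D207108) (tt N78185 (iv7 F246735)))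
theorem Q67988 : ∀ i, i < 67988 → P i := stepQ 67987 Q67987 (allL N67987 (tt N81738 F354343) (tt N82343 F354344) (tt N86935 (iv2 F377763)) (tt N80119 F354345) (tt N103917 (iv4 F443364)) (tt N46186 F354346) (tt N37186 (iv6 D130239)) (tt N86933 (iv7 F377755)))
theorem Q67989 : ∀ i, i < 67989 → P i := stepQ 67988 Q67988 (allL N67988 (tt N65969 F355985) (tt N95024 F406704) (tt N37202 F208756) (tt N97631 F417692) (tt N78185 F246738) (tt N37188 F208757) (tt N103918 D207109) (tt N37186 (iv7 D130240)))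
theorem Q67990 : ∀ i, i < 67990 → P i := stepQ 67989 Q67989 (allL N67989 (tt N79746 F354286) (tt N37187 (iv0 D130241)) (tt N65123 F354287) (tt N58896 (iv3 F354340)) (tt N70479 F354288) (tt N46649 F354289) (tt N69286 F354290) (tt N65121 F354291))
theorem Q67991 : ∀ i, i < 67991 → P i := stepQ 67990 Q67990 (allL N67990 (tt N37187 (iv1 D130242)) (tt N79746 (iv0 F354352)) (tt N65121 (iv2 F354350)) (tt N92109 (iv3 F395758)) (tt N70480 F354349) (tt N65092 F354348) (tt N92107 F395757) (tt N65123 (iv7 F354351)))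
theorem Q67992 : ∀ i, i < 67992 → P i := stepQ 67991 Q67991 (allL N67991 (tt N65121 (iv1 F354303)) (tt N65123 (iv0 F348869)) (tt N79746 F354347) (tt N92021 F395404) (tt N37194 F208759) (tt N79730 F341974) (tt N97726 (iv6 F418085)) (tt N37187 (iv7 D130244)))
theorem Q67993 : ∀ i, i < 67993 → P i := stepQ 67992 Q67992 (allL N67992 (tt N97722 F418070) (tt N97727 F418092) (tt N37203 F208760) (tt N103916 (iv3 F443357)) (tt N37195 F208761) (tt N103919 D207110) (tt N37188 (iv6 D130245)) (tt N97726 (iv7 F418087)))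
theorem Q67994 : ∀ i, i < 67994 → P i := stepQ 67993 Q67993 (allL N67993 (tt N47364 F315330) (tt N37190 (iv0 D130262)) (tt N47395 F315331) (tt N69265 (iv3 F342052)) (tt N63705 (iv4 F340257)) (tt N42140 F333942) (tt N63704 F339304) (tt N47329 F315332))
theorem Q67995 : ∀ i, i < 67995 → P i := stepQ 67994 Q67994 (allL N67994 (tt N75197 F333918) (tt N75196 F333919) (tt N47396 F315338) (tt N70100 (iv3 F334166)) (tt N41324 F333920) (tt N37190 (iv5 D130264)) (tt N37193 F208810) (tt N41321 F333921))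
theorem Q67996 : ∀ i, i < 67996 → P i := stepQ 67995 Q67995 (allL N67995 (tt N47329 F315339) (tt N47395 F315340) (tt N47364 F315341) (tt N47404 F315342) (tt N46231 F315343) (tt N41321 F333943) (tt N79480 (iv6 F330135)) (tt N37190 (iv7 D130265)))
theorem Q67997 : ∀ i, i < 67997 → P i := stepQ 67996 Q67996 (allL N67996 (tt N79479 (iv1 F340262)) (tt N66964 F310691) (tt N37204 F208811) (tt N81334 F310692) (tt N40752 F322954) (tt N79530 (iv5 F340268)) (tt N37191 (iv6 D130266)) (tt N79480 (iv7 F330136)))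
theorem Q67998 : ∀ i, i < 67998 → P i := stepQ 67997 Q67997 (allL N67997 (tt N74988 (iv1 F342200)) (tt N37193 (iv0 D130277)) (tt N65105 (iv2 F333925)) (tt N66843 (iv3 F342771)) (tt N65089 F342197) (tt N67589 F212089) (tt N64048 F354069) (tt N65104 (iv7 F342199)))
theorem Q67999 : ∀ i, i < 67999 → P i := stepQ 67998 Q67998 (allL N67998 (tt N46138 F315290) (tt N47353 F315291) (tt N37199 F208822) (tt N81332 F315292) (tt N80148 F315293) (tt N37197 (iv5 D130287)) (tt N47414 F315294) (tt N47363 F315295))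
theorem Q68000 : ∀ i, i < 68000 → P i := stepQ 67999 Q67999 (allL N67999 (tt N69224 F359606) (tt N79769 F359609) (tt N37200 F208823) (tt N39828 F359607) (tt N102603 (iv4 F437859)) (tt N79778 F334305) (tt N37197 (iv6 D130288)) (tt N80279 (iv7 F334303)))
theorem Q68001 : ∀ i, i < 68001 → P i := stepQ 68000 Q68000 (allL N68000 (tt N102595 (iv1 F437836)) (tt N102580 F437769) (tt N93230 (iv2 F400046)) (tt N37198 (iv3 D130289)) (tt N37201 F208824) (tt N102392 (iv5 F437031)) (tt N103920 D207111) (tt N93227 (iv7 F400036)))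
theorem Q68002 : ∀ i, i < 68002 → P i := stepQ 68001 Q68001 (allL N68001 (tt N67523 F208827) (tt N37874 (iv0 F208828)) (tt N67522 F208825) (tt N102392 (iv3 F437029)) (tt N78693 F360631) (tt N37198 (iv5 D130290)) (tt N103668 (iv6 F442428)) (tt N67521 F208826))
theorem Q68003 : ∀ i, i < 68003 → P i := stepQ 68002 Q68002 (allL N68002 (tt N103793 (iv1 F442843)) (tt N103830 (iv0 F443000)) (tt N102603 (iv2 F437857)) (tt N103920 (iv3 F443377)) (tt N37200 F208829) (tt N70578 F334306) (tt N37198 (iv6 D130291)) (tt N70577 (iv7 F334309)))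
theorem Q68004 : ∀ i, i < 68004 → P i := stepQ 68003 Q68003 (allL N68003 (tt N47363 F315296) (tt N37199 (iv0 D130292)) (tt N46138 F315297) (tt N49026 (iv3 F317514)) (tt N46136 F315298) (tt N67540 F208830) (tt N46135 F315299) (tt N47353 F315300))
theorem Q68005 : ∀ i, i < 68005 → P i := stepQ 68004 Q68004 (allL N68004 (tt N67822 (iv1 F208832)) (tt N42562 (iv0 F315813)) (tt N80148 F314649) (tt N63272 F314650) (tt N37199 (iv4 D130294)) (tt N74768 F314651) (tt N103921 D207112) (tt N47398 F314652))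
theorem Q68006 : ∀ i, i < 68006 → P i := stepQ 68005 Q68005 (allL N68005 (tt N47341 F315314) (tt N47412 F315315) (tt N47414 F315316) (tt N37204 F208833) (tt N103921 (iv4 F443382)) (tt N76879 F315317) (tt N37199 (iv6 D130295)) (tt N47367 F315318))
theorem Q68007 : ∀ i, i < 68007 → P i := stepQ 68006 Q68006 (allL N68006 (tt N79769 (iv1 F359611)) (tt N69224 F359610) (tt N80279 F334304) (tt N37207 F208835) (tt N70577 F334307) (tt N79666 (iv5 F334310)) (tt N103821 (iv6 F442955)) (tt N37200 (iv7 D130299)))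
theorem Q68008 : ∀ i, i < 68008 → P i := stepQ 68007 Q68007 (allL N68007 (tt N103385 (iv1 F441390)) (tt N102078 (iv0 F435624)) (tt N93231 (iv2 F400049)) (tt N37203 F208837) (tt N103920 (iv4 F443378)) (tt N102929 (iv5 F439304)) (tt N37201 (iv6 D130302)) (tt N103384 F441389))
theorem Q68009 : ∀ i, i < 68009 → P i := stepQ 68008 Q68008 (allL N68008 (tt N103922 D207113) (tt N103923 D207114) (tt N103918 (iv2 F443368)) (tt N66018 (iv3 F362948)) (tt N95281 (iv4 F407706)) (tt N103924 D207115) (tt N37202 (iv6 D130304)) (tt N103925 D207116))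
theorem Q68010 : ∀ i, i < 68010 → P i := stepQ 68009 Q68009 (allL N68009 (tt N37203 (iv1 D130306)) (tt N97726 F418088) (tt N97727 (iv2 F418089)) (tt N103481 (iv3 F441810)) (tt N67910 (iv4 F364577)) (tt N103926 D207117) (tt N69258 F394694) (tt N97722 F418069))
theorem Q68011 : ∀ i, i < 68011 → P i := stepQ 68010 Q68010 (allL N68010 (tt N67367 (iv1 F418082)) (tt N103927 D207118) (tt N103919 (iv2 F443372)) (tt N102929 F439305) (tt N103928 D207119) (tt N37203 (iv5 D130307)) (tt N103924 (iv6 F443392)) (tt N70721 F354366))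
theorem Q68012 : ∀ i, i < 68012 → P i := stepQ 68011 Q68011 (allL N68011 (tt N97727 (iv1 F418093)) (tt N97722 (iv0 F418068)) (tt N97726 F418086) (tt N103384 (iv3 F441388)) (tt N37207 F208841) (tt N70721 (iv5 F354365)) (tt N79746 F354364) (tt N37203 (iv7 D130308)))
theorem Q68013 : ∀ i, i < 68013 → P i := stepQ 68012 Q68012 (allL N68012 (tt N37204 (iv1 D130311)) (tt N79480 (iv0 F330132)) (tt N66964 F330126) (tt N69291 (iv3 F341919)) (tt N65169 (iv4 F330125)) (tt N66883 F330128) (tt N65168 F330127) (tt N79479 (iv7 F340263)))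
theorem Q68014 : ∀ i, i < 68014 → P i := stepQ 68013 Q68013 (allL N68013 (tt N48254 F330129) (tt N77030 F330130) (tt N79530 F340270) (tt N76879 F354853) (tt N95499 (iv4 F408371)) (tt N37204 (iv5 D130312)) (tt N37206 F208843) (tt N75195 F340272))
theorem Q68015 : ∀ i, i < 68015 → P i := stepQ 68014 Q68014 (allL N68014 (tt N66964 F315319) (tt N79479 (iv0 F340259)) (tt N79480 (iv2 F330133)) (tt N47367 F315321) (tt N40756 F322973) (tt N75195 F333982) (tt N47364 F315323) (tt N37204 (iv7 D130313)))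
theorem Q68016 : ∀ i, i < 68016 → P i := stepQ 68015 Q68015 (allL N68015 (tt N91192 (iv1 F392215)) (tt N59737 (iv0 F363506)) (tt N79665 (iv2 F364488)) (tt N50694 F363507) (tt N37206 (iv4 D130326)) (tt N81630 (iv5 F363508)) (tt N95499 F408376) (tt N74813 (iv7 F363509)))
theorem Q68017 : ∀ i, i < 68017 → P i := stepQ 68016 Q68016 (allL N68016 (tt N37219 (iv1 F208851)) (tt N37209 (iv0 D130329)) (tt N37217 F307700) (tt N63428 F305653) (tt N42839 F305684) (tt N103109 (iv5 F440113)) (tt N102966 (iv6 F439481)) (tt N37218 F307701))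
theorem Q68018 : ∀ i, i < 68018 → P i := stepQ 68017 Q68017 (allL N68017 (tt N37209 (iv1 D130330)) (tt N37219 F208849) (tt N37218 F307698) (tt N70097 (iv3 F334179)) (tt N42838 F305682) (tt N80704 F340237) (tt N70096 (iv6 F317702)) (tt N37217 F307699))
theorem Q68019 : ∀ i, i < 68019 → P i := stepQ 68018 Q68018 (allL N68018 (tt N70087 F346374) (tt N63217 F346378) (tt N70103 F334175) (tt N37212 F208863) (tt N100147 (iv4 F427694)) (tt N80239 (iv5 F365220)) (tt N37210 (iv6 D130341)) (tt N70102 (iv7 F348191)))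
theorem Q68020 : ∀ i, i < 68020 → P i := stepQ 68019 Q68019 (allL N68019 (tt N42807 (iv1 F311945)) (tt N78214 F247164) (tt N75819 (iv2 F311107)) (tt N37211 (iv3 D130345)) (tt N47421 F309718) (tt N48021 (iv5 F311947)) (tt N42817 F309719) (tt N69673 (iv7 F215585)))
theorem Q68021 : ∀ i, i < 68021 → P i := stepQ 68020 Q68020 (allL N68020 (tt N37214 (iv1 D130366)) (tt N69676 F215594) (tt N69336 (iv2 F339297)) (tt N69307 (iv3 F341652)) (tt N72410 F358473) (tt N66942 (iv5 F336306)) (tt N102987 (iv6 F439559)) (tt N69675 (iv7 F358472)))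
theorem Q68022 : ∀ i, i < 68022 → P i := stepQ 68021 Q68021 (allL N68021 (tt N69336 (iv1 F333392)) (tt N69675 F215593) (tt N69676 (iv2 F215591)) (tt N63623 (iv3 F360176)) (tt N42819 F310811) (tt N63622 F360171) (tt N42818 F310812) (tt N37214 (iv7 D130368)))
theorem Q68023 : ∀ i, i < 68023 → P i := stepQ 68022 Q68022 (allL N68022 (tt N72391 F222367) (tt N44544 F222368) (tt N72348 (iv2 F222260)) (tt N37216 (iv3 D130374)) (tt N76107 (iv4 F315124)) (tt N44402 F208903) (tt N100229 F428074) (tt N69655 (iv7 F215420)))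
theorem Q68024 : ∀ i, i < 68024 → P i := stepQ 68023 Q68023 (allL N68023 (tt N44438 F353867) (tt N72410 F353868) (tt N69654 (iv2 F215418)) (tt N100229 F428073) (tt N76522 (iv4 F239207)) (tt N62453 F353869) (tt N37216 (iv6 D130375)) (tt N72409 (iv7 F358559)))
theorem Q68025 : ∀ i, i < 68025 → P i := stepQ 68024 Q68024 (allL N68024 (tt N78481 F330221) (tt N103618 (iv0 F442261)) (tt N63856 F366822) (tt N37217 (iv3 D130381)) (tt N100139 F427647) (tt N90244 (iv5 F389076)) (tt N102988 (iv6 F439566)) (tt N70097 F364585))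
theorem Q68026 : ∀ i, i < 68026 → P i := stepQ 68025 Q68025 (allL N68025 (tt N66965 F343499) (tt N73341 F334229) (tt N103109 (iv2 F440116)) (tt N90244 (iv3 F389078)) (tt N80705 (iv4 F334230)) (tt N37217 (iv5 D130383)) (tt N80757 (iv6 F340219)) (tt N80704 (iv7 F340242)))
theorem Q68027 : ∀ i, i < 68027 → P i := stepQ 68026 Q68026 (allL N68026 (tt N73341 F334228) (tt N66965 F343500) (tt N80704 (iv2 F340238)) (tt N63854 (iv3 F334231)) (tt N79400 F343439) (tt N37218 (iv5 D130388)) (tt N66932 F343503) (tt N103109 (iv7 F440112)))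
theorem Q68028 : ∀ i, i < 68028 → P i := stepQ 68027 Q68027 (allL N68027 (tt N69248 F337579) (tt N92175 F396097) (tt N69324 F359268) (tt N103929 D207120) (tt N37220 (iv4 D130392)) (tt N103930 D207121) (tt N97737 (iv6 F436148)) (tt N69321 F346996))
theorem Q68029 : ∀ i, i < 68029 → P i := stepQ 68028 Q68028 (allL N68028 (tt N81511 (iv1 F345781)) (tt N80322 (iv0 F345776)) (tt N69325 (iv2 F346987)) (tt N90462 (iv3 F389739)) (tt N79752 F345778) (tt N37220 (iv5 D130393)) (tt N80769 F346984) (tt N69322 F346997))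
theorem Q68030 : ∀ i, i < 68030 → P i := stepQ 68029 Q68029 (allL N68029 (tt N102761 F438522) (tt N69173 F393010) (tt N69326 (iv2 F361873)) (tt N102637 (iv3 F437984)) (tt N97737 F436147) (tt N102758 F438505) (tt N37220 (iv6 D130394)) (tt N102635 (iv7 F437974)))
theorem Q68031 : ∀ i, i < 68031 → P i := stepQ 68030 Q68030 (allL N68030 (tt N78593 F347046) (tt N69177 (iv0 F347045)) (tt N78599 (iv2 F347043)) (tt N37221 (iv3 D130396)) (tt N103931 D207122) (tt N63603 F347044) (tt N102641 (iv6 F438006)) (tt N69323 F359265))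
theorem Q68032 : ∀ i, i < 68032 → P i := stepQ 68031 Q68031 (allL N68031 (tt N92175 (iv1 F396098)) (tt N69248 F347124) (tt N69321 F347122) (tt N67247 F348754) (tt N37221 (iv4 D130397)) (tt N67243 (iv5 F348753)) (tt N66592 (iv6 F347123)) (tt N69324 (iv7 F359267)))
theorem Q68033 : ∀ i, i < 68033 → P i := stepQ 68032 Q68032 (allL N68032 (tt N80322 F346973) (tt N81511 (iv0 F346964)) (tt N69322 (iv2 F346998)) (tt N63603 (iv3 F346967)) (tt N66753 F346965) (tt N37221 (iv5 D130398)) (tt N63602 F346966) (tt N69325 (iv7 F346991)))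
theorem Q68034 : ∀ i, i < 68034 → P i := stepQ 68033 Q68033 (allL N68033 (tt N69230 (iv1 F213493)) (tt N37222 (iv0 D130400)) (tt N69327 (iv2 F354001)) (tt N43210 F306362) (tt N77029 F306363) (tt N103578 (iv5 F442108)) (tt N103932 D207123) (tt N43342 F306364))
theorem Q68035 : ∀ i, i < 68035 → P i := stepQ 68034 Q68034 (allL N68034 (tt N37222 (iv1 D130401)) (tt N69230 F213492) (tt N43342 F344393) (tt N78592 (iv3 F344398)) (tt N78579 F306365) (tt N103625 (iv5 F442283)) (tt N103933 D207124) (tt N69327 F344394))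
theorem Q68036 : ∀ i, i < 68036 → P i := stepQ 68035 Q68035 (allL N68035 (tt N69303 F351479) (tt N37640 F351480) (tt N69301 F351969) (tt N37223 (iv3 D130423)) (tt N79366 F351481) (tt N46254 F311141) (tt N103934 D207125) (tt N69302 (iv7 F351967)))
theorem Q68037 : ∀ i, i < 68037 → P i := stepQ 68036 Q68036 (allL N68036 (tt N37235 F209050) (tt N69346 F213912) (tt N69334 (iv2 F213761)) (tt N103934 (iv3 F443432)) (tt N37634 F208924) (tt N46255 (iv5 F313352)) (tt N37223 (iv6 D130425)) (tt N69345 (iv7 F213903)))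
theorem Q68038 : ∀ i, i < 68038 → P i := stepQ 68037 Q68037 (allL N68037 (tt N64831 F357925) (tt N64661 F358070) (tt N64503 F358063) (tt N37380 F208948) (tt N103935 D207126) (tt N37226 (iv5 D130437)) (tt N103936 D207127) (tt N64852 (iv7 F358062)))
theorem Q68039 : ∀ i, i < 68039 → P i := stepQ 68038 Q68038 (allL N68038 (tt N88483 F383237) (tt N101203 (iv0 F432182)) (tt N78614 (iv2 F358457)) (tt N37381 F208949) (tt N37227 F208950) (tt N54251 F366668) (tt N37226 (iv6 D130438)) (tt N103937 D207128))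
theorem Q68040 : ∀ i, i < 68040 → P i := stepQ 68039 Q68039 (allL N68039 (tt N37227 (iv1 D130440)) (tt N78618 F351723) (tt N78616 (iv2 F351722)) (tt N102645 F438026) (tt N103938 D207129) (tt N101198 (iv5 F432150)) (tt N88499 (iv6 F383291)) (tt N78615 F351721))
theorem Q68041 : ∀ i, i < 68041 → P i := stepQ 68040 Q68040 (allL N68040 (tt N78616 F346541) (tt N78615 (iv0 F342103)) (tt N78618 (iv2 F342104)) (tt N37230 F208953) (tt N103937 (iv4 F443453)) (tt N76145 (iv5 F344754)) (tt N69332 (iv6 F213756)) (tt N37227 (iv7 D130442)))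
theorem Q68042 : ∀ i, i < 68042 → P i := stepQ 68041 Q68041 (allL N68041 (tt N37637 F354053) (tt N69309 F354054) (tt N69307 F341651) (tt N37229 (iv3 D130446)) (tt N103939 D207130) (tt N44067 F320267) (tt N77702 F320268) (tt N69306 (iv7 F341649)))
theorem Q68043 : ∀ i, i < 68043 → P i := stepQ 68042 Q68042 (allL N68042 (tt N37232 (iv1 D130476)) (tt N69343 F213882) (tt N69341 (iv2 F213885)) (tt N77031 F366390) (tt N40245 F318744) (tt N47309 F306591) (tt N45556 F306592) (tt N63778 (iv7 F321969)))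
theorem Q68044 : ∀ i, i < 68044 → P i := stepQ 68043 Q68043 (allL N68043 (tt N66521 F209044) (tt N80302 (iv0 F322570)) (tt N69342 (iv2 F213877)) (tt N65141 (iv3 F344764)) (tt N40244 F320867) (tt N37232 (iv5 D130477)) (tt N44068 F318735) (tt N48060 F318736))
theorem Q68045 : ∀ i, i < 68045 → P i := stepQ 68044 Q68044 (allL N68044 (tt N69341 (iv1 F213872)) (tt N63778 (iv0 F321965)) (tt N69343 (iv2 F213879)) (tt N64272 (iv3 F337055)) (tt N63780 F209045) (tt N48060 F321787) (tt N69346 (iv6 F213911)) (tt N37232 (iv7 D130478)))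
theorem Q68046 : ∀ i, i < 68046 → P i := stepQ 68045 Q68045 (allL N68045 (tt N63210 F217819) (tt N70085 F344796) (tt N63973 (iv2 F315038)) (tt N37235 F209047) (tt N63972 F366672) (tt N45412 F316724) (tt N37233 (iv6 D130484)) (tt N80342 F344787))
theorem Q68047 : ∀ i, i < 68047 → P i := stepQ 68046 Q68046 (allL N68046 (tt N69334 (iv1 F213770)) (tt N69345 F213905) (tt N69346 (iv2 F213909)) (tt N80342 (iv3 F344945)) (tt N69577 (iv4 F214927)) (tt N78709 F344946) (tt N69343 (iv6 F213881)) (tt N37235 (iv7 D130488)))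
theorem Q68048 : ∀ i, i < 68048 → P i := stepQ 68047 Q68047 (allL N68047 (tt N56172 (iv1 F339459)) (tt N69221 F337572) (tt N78608 (iv2 F337568)) (tt N38646 F209051) (tt N37236 (iv4 D130492)) (tt N56201 (iv5 F340918)) (tt N97859 (iv6 F418548)) (tt N69347 (iv7 F213921)))
theorem Q68049 : ∀ i, i < 68049 → P i := stepQ 68048 Q68048 (allL N68048 (tt N69082 (iv1 F365933)) (tt N69148 (iv0 F347022)) (tt N103769 F442743) (tt N37237 (iv3 D130502)) (tt N37239 F209064) (tt N103940 D207131) (tt N102792 (iv6 F438672)) (tt N69348 (iv7 F213942)))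
theorem Q68050 : ∀ i, i < 68050 → P i := stepQ 68049 Q68049 (allL N68049 (tt N103941 D207132) (tt N103942 D207133) (tt N102523 (iv2 F437494)) (tt N103940 (iv3 F443461)) (tt N103943 D207134) (tt N37237 (iv5 D130503)) (tt N103944 D207135) (tt N69349 (iv7 F213943)))
theorem Q68051 : ∀ i, i < 68051 → P i := stepQ 68050 Q68050 (allL N68050 (tt N103945 D207136) (tt N67563 (iv0 F217849)) (tt N102525 (iv2 F437501)) (tt N103946 D207137) (tt N37238 (iv4 D130504)) (tt N103947 D207138) (tt N67594 F209065) (tt N69351 (iv7 F213947)))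
theorem Q68052 : ∀ i, i < 68052 → P i := stepQ 68051 Q68051 (allL N68051 (tt N80080 F350898) (tt N67642 F350904) (tt N103948 D207139) (tt N37240 (iv3 D130512)) (tt N103946 (iv4 F443473)) (tt N46360 F306850) (tt N67595 F209072) (tt N46406 (iv7 F307464)))
theorem Q68053 : ∀ i, i < 68053 → P i := stepQ 68052 Q68052 (allL N68052 (tt N48059 F345569) (tt N81457 F345570) (tt N81455 F345571) (tt N37241 (iv3 D130513)) (tt N44440 F209073) (tt N76131 F345572) (tt N97698 (iv6 F417949)) (tt N57336 F209074))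
theorem Q68054 : ∀ i, i < 68054 → P i := stepQ 68053 Q68053 (allL N68053 (tt N67733 F214320) (tt N67735 (iv0 F209078)) (tt N57335 F209075) (tt N97698 (iv3 F417948)) (tt N37242 F209076) (tt N94025 (iv5 F402861)) (tt N37241 (iv6 D130514)) (tt N66369 F209077))
theorem Q68055 : ∀ i, i < 68055 → P i := stepQ 68054 Q68054 (allL N68054 (tt N39537 (iv1 F209082)) (tt N37242 (iv0 D130515)) (tt N69422 (iv2 F214314)) (tt N38238 (iv3 F209083)) (tt N79828 (iv4 F336488)) (tt N70573 (iv5 F217858)) (tt N39846 F209081) (tt N69423 (iv7 F214322)))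
theorem Q68056 : ∀ i, i < 68056 → P i := stepQ 68055 Q68055 (allL N68055 (tt N37242 (iv1 D130516)) (tt N39537 F209084) (tt N69423 F214323) (tt N37253 F214317) (tt N94049 (iv4 F402980)) (tt N69886 (iv5 F216295)) (tt N39395 F214318) (tt N69422 F214319))
theorem Q68057 : ∀ i, i < 68057 → P i := stepQ 68056 Q68056 (allL N68056 (tt N103949 D207140) (tt N81350 (iv0 F403151)) (tt N103950 D207141) (tt N37243 (iv3 D130517)) (tt N40154 F209085) (tt N94089 (iv5 F403147)) (tt N66370 F209086) (tt N57333 F209087))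
theorem Q68058 : ∀ i, i < 68058 → P i := stepQ 68057 Q68057 (allL N68057 (tt N67027 (iv1 F354117)) (tt N37244 (iv0 D130518)) (tt N42016 F355447) (tt N58809 F355448) (tt N103951 D207142) (tt N41987 F355449) (tt N58808 F355450) (tt N69424 F355451))
theorem Q68059 : ∀ i, i < 68059 → P i := stepQ 68058 Q68058 (allL N68058 (tt N37244 (iv1 D130519)) (tt N67027 (iv0 F354116)) (tt N69424 F355453) (tt N81086 F355454) (tt N93165 (iv4 F399755)) (tt N42017 F355455) (tt N81083 F355456) (tt N42016 F355457))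
theorem Q68060 : ∀ i, i < 68060 → P i := stepQ 68059 Q68059 (allL N68059 (tt N42016 F335866) (tt N69424 F214331) (tt N37244 (iv2 D130520)) (tt N47608 F327122) (tt N37266 F209088) (tt N79276 F335862) (tt N47607 F327123) (tt N67027 (iv7 F354120)))
theorem Q68061 : ∀ i, i < 68061 → P i := stepQ 68060 Q68060 (allL N68060 (tt N54921 F346774) (tt N54992 F346775) (tt N47607 F346776) (tt N37245 F209089) (tt N37268 F209090) (tt N47175 F346777) (tt N37244 (iv6 D130521)) (tt N54989 F346778))
theorem Q68062 : ∀ i, i < 68062 → P i := stepQ 68061 Q68061 (allL N68061 (tt N43946 F328133) (tt N43963 F328134) (tt N43962 F326278) (tt N47175 F328135) (tt N43957 F328136) (tt N37245 (iv5 D130522)) (tt N43956 F328137) (tt N43961 F326279))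
theorem Q68063 : ∀ i, i < 68063 → P i := stepQ 68062 Q68062 (allL N68062 (tt N71099 (iv1 F219432)) (tt N41288 (iv0 F209092)) (tt N47600 F328144) (tt N54989 (iv3 F346771)) (tt N37248 F209091) (tt N43961 F328525) (tt N67021 (iv6 F332337)) (tt N37245 (iv7 D130523)))
theorem Q68064 : ∀ i, i < 68064 → P i := stepQ 68063 Q68063 (allL N68063 (tt N57344 F209097) (tt N55956 F209096) (tt N57342 F209093) (tt N101198 (iv3 F432148)) (tt N37246 (iv4 D130524)) (tt N102645 (iv5 F438024)) (tt N39407 F209094) (tt N57343 F209095))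
theorem Q68065 : ∀ i, i < 68065 → P i := stepQ 68064 Q68064 (allL N68064 (tt N55956 F209100) (tt N57344 F209101) (tt N57343 F209098) (tt N103952 D207143) (tt N37247 (iv4 D130525)) (tt N80698 (iv5 F331929)) (tt N102850 (iv6 F438937)) (tt N57342 F209099))
theorem Q68066 : ∀ i, i < 68066 → P i := stepQ 68065 Q68065 (allL N68065 (tt N71330 (iv1 F219837)) (tt N39846 (iv0 F209105)) (tt N71100 (iv2 F219444)) (tt N41070 F209102) (tt N102850 (iv4 F438935)) (tt N39409 F209103) (tt N37247 (iv6 D130526)) (tt N39409 F209104))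
theorem Q68067 : ∀ i, i < 68067 → P i := stepQ 68066 Q68066 (allL N68066 (tt N69433 (iv1 F214375)) (tt N37249 (iv0 D130527)) (tt N69432 (iv2 F390595)) (tt N103953 D207144) (tt N103954 D207145) (tt N92210 F396272) (tt N74147 F390729) (tt N69431 (iv7 F390596)))
theorem Q68068 : ∀ i, i < 68068 → P i := stepQ 68067 Q68067 (allL N68067 (tt N37249 (iv1 D130528)) (tt N69433 F214377) (tt N69431 F390591) (tt N53420 F390592) (tt N103955 D207146) (tt N92211 F396275) (tt N53419 F390593) (tt N69432 F390594))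
theorem Q68069 : ∀ i, i < 68069 → P i := stepQ 68068 Q68068 (allL N68068 (tt N69432 (iv1 F214376)) (tt N69431 F214372) (tt N37249 (iv2 D130529)) (tt N69437 (iv3 F214387)) (tt N72146 (iv4 F221476)) (tt N86882 (iv5 F377578)) (tt N71034 (iv6 F349536)) (tt N69433 (iv7 F214374)))
theorem Q68070 : ∀ i, i < 68070 → P i := stepQ 68069 Q68069 (allL N68069 (tt N60299 F366395) (tt N60304 F361680) (tt N86882 (iv2 F377577)) (tt N37250 F209106) (tt N103956 D207147) (tt N37249 (iv5 D130530)) (tt N85745 (iv6 F390831)) (tt N68380 (iv7 F210023)))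
theorem Q68071 : ∀ i, i < 68071 → P i := stepQ 68070 Q68070 (allL N68070 (tt N96619 (iv1 F413206)) (tt N95447 (iv0 F408225)) (tt N71034 F349531) (tt N37251 F209107) (tt N72148 (iv4 F221479)) (tt N71033 (iv5 F349530)) (tt N37249 (iv6 D130531)) (tt N96612 (iv7 F413175)))
theorem Q68072 : ∀ i, i < 68072 → P i := stepQ 68071 Q68071 (allL N68071 (tt N103957 D207148) (tt N103958 D207149) (tt N68376 (iv2 F210014)) (tt N85745 (iv3 F390829)) (tt N37288 F209108) (tt N86961 F377869) (tt N37250 (iv6 D130532)) (tt N86879 F377564))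
theorem Q68073 : ∀ i, i < 68073 → P i := stepQ 68072 Q68072 (allL N68072 (tt N62664 (iv1 F209111)) (tt N37251 (iv0 D130533)) (tt N69438 F214393) (tt N82131 (iv3 F347164)) (tt N37705 F209109) (tt N65619 F349543) (tt N74190 (iv6 F226946)) (tt N67769 (iv7 F209110)))
theorem Q68074 : ∀ i, i < 68074 → P i := stepQ 68073 Q68073 (allL N68073 (tt N37251 (iv1 D130534)) (tt N62664 F209112) (tt N67769 (iv2 F209114)) (tt N87755 (iv3 F380383)) (tt N37706 F209113) (tt N65618 (iv5 F349594)) (tt N62634 (iv6 F209115)) (tt N69438 (iv7 F214395)))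
theorem Q68075 : ∀ i, i < 68075 → P i := stepQ 68074 Q68074 (allL N68074 (tt N67769 (iv1 F209120)) (tt N69438 F214394) (tt N62664 F209117) (tt N96612 (iv3 F413173)) (tt N37254 F209118) (tt N71029 (iv5 F349563)) (tt N57217 F209119) (tt N37251 (iv7 D130536)))
theorem Q68076 : ∀ i, i < 68076 → P i := stepQ 68075 Q68075 (allL N68075 (tt N68680 (iv1 F211369)) (tt N37261 (iv0 F209121)) (tt N68676 F211358) (tt N54402 F349525) (tt N37252 (iv4 D130537)) (tt N58440 (iv5 F349526)) (tt N54400 (iv6 F349527)) (tt N68677 F211357))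
theorem Q68077 : ∀ i, i < 68077 → P i := stepQ 68076 Q68076 (allL N68076 (tt N37261 F209129) (tt N68680 F211368) (tt N68677 F211355) (tt N103959 D207150) (tt N37253 (iv4 D130540)) (tt N65630 (iv5 F349537)) (tt N41110 F209128) (tt N68676 (iv7 F211360)))
theorem Q68078 : ∀ i, i < 68078 → P i := stepQ 68077 Q68077 (allL N68077 (tt N69437 (iv1 F214389)) (tt N37256 (iv0 D130541)) (tt N69436 (iv2 F379506)) (tt N54562 (iv3 F379509)) (tt N94368 F404156) (tt N60340 F379515) (tt N54559 F379507) (tt N69435 F379508))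
theorem Q68079 : ∀ i, i < 68079 → P i := stepQ 68078 Q68078 (allL N68078 (tt N37256 (iv1 D130542)) (tt N69437 F214391) (tt N69435 F379505) (tt N82148 (iv3 F366548)) (tt N96925 (iv4 F414641)) (tt N60341 F361834) (tt N103960 D207151) (tt N69436 (iv7 F379503)))
theorem Q68080 : ∀ i, i < 68080 → P i := stepQ 68079 Q68079 (allL N68079 (tt N69436 (iv1 F214390)) (tt N69435 F214386) (tt N37256 (iv2 D130543)) (tt N69433 (iv3 F214373)) (tt N94226 (iv4 F403764)) (tt N97338 (iv5 F416411)) (tt N103961 D207152) (tt N69437 (iv7 F214388)))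
theorem Q68081 : ∀ i, i < 68081 → P i := stepQ 68080 Q68080 (allL N68080 (tt N97341 F416428) (tt N97331 (iv0 F416381)) (tt N97338 F416412) (tt N37257 F209130) (tt N83799 (iv4 F367387)) (tt N37256 (iv5 D130544)) (tt N73681 F361835) (tt N68375 (iv7 F210013)))
theorem Q68082 : ∀ i, i < 68082 → P i := stepQ 68081 Q68081 (allL N68081 (tt N74114 F340486) (tt N55029 F392968) (tt N103961 (iv2 F443536)) (tt N37258 F209131) (tt N94227 (iv4 F403778)) (tt N103962 D207153) (tt N37256 (iv6 D130545)) (tt N62662 (iv7 F209132)))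
theorem Q68083 : ∀ i, i < 68083 → P i := stepQ 68082 Q68082 (allL N68082 (tt N98159 F419774) (tt N95454 (iv0 F416145)) (tt N68381 (iv2 F210024)) (tt N73681 (iv3 F361836)) (tt N37283 F209133) (tt N103963 D207154) (tt N37257 (iv6 D130546)) (tt N103964 D207155))
theorem Q68084 : ∀ i, i < 68084 → P i := stepQ 68083 Q68083 (allL N68083 (tt N102324 (iv1 F436733)) (tt N59790 (iv0 F346856)) (tt N60550 F209134) (tt N103962 (iv3 F443544)) (tt N103451 (iv4 F441693)) (tt N37258 (iv5 D130547)) (tt N103963 (iv6 F443547)) (tt N62663 F209135))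
theorem Q68085 : ∀ i, i < 68085 → P i := stepQ 68084 Q68084 (allL N68084 (tt N69442 (iv1 F214409)) (tt N37259 (iv0 D130548)) (tt N69441 F415169) (tt N103965 D207156) (tt N103966 D207157) (tt N60279 F405865) (tt N99643 (iv6 F425560)) (tt N69440 F415167))
theorem Q68086 : ∀ i, i < 68086 → P i := stepQ 68085 Q68085 (allL N68085 (tt N37259 (iv1 D130549)) (tt N69442 F214411) (tt N69440 (iv2 F415165)) (tt N103967 D207158) (tt N103968 D207159) (tt N60280 F415163) (tt N92647 F415164) (tt N69441 (iv7 F415168)))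
theorem Q68087 : ∀ i, i < 68087 → P i := stepQ 68086 Q68086 (allL N68086 (tt N69441 (iv1 F214410)) (tt N69440 F214406) (tt N37259 (iv2 D130550)) (tt N68683 (iv3 F211373)) (tt N72210 (iv4 F221653)) (tt N103969 D207160) (tt N92098 (iv6 F395725)) (tt N69442 (iv7 F214408)))
theorem Q68088 : ∀ i, i < 68088 → P i := stepQ 68087 Q68087 (allL N68087 (tt N60146 (iv1 F415641)) (tt N60150 F343135) (tt N103969 (iv2 F443569)) (tt N37260 F209136) (tt N86807 (iv4 F377263)) (tt N37259 (iv5 D130551)) (tt N103970 D207161) (tt N68386 (iv7 F210040)))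
theorem Q68089 : ∀ i, i < 68089 → P i := stepQ 68088 Q68088 (allL N68088 (tt N96093 (iv1 F411012)) (tt N96090 (iv0 F410998)) (tt N92098 (iv2 F395724)) (tt N37261 F209137) (tt N57016 (iv4 F331826)) (tt N92092 (iv5 F395708)) (tt N37259 (iv6 D130552)) (tt N57015 F331828))
theorem Q68090 : ∀ i, i < 68090 → P i := stepQ 68089 Q68089 (allL N68089 (tt N78516 (iv1 F363219)) (tt N103971 D207162) (tt N68385 (iv2 F210037)) (tt N103970 (iv3 F443576)) (tt N37281 F209138) (tt N52785 (iv5 F332879)) (tt N37260 (iv6 D130553)) (tt N103972 D207163))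
theorem Q68091 : ∀ i, i < 68091 → P i := stepQ 68090 Q68090 (allL N68090 (tt N59908 (iv1 F344592)) (tt N67151 F209139) (tt N68679 (iv2 F211363)) (tt N92092 (iv3 F395706)) (tt N65532 F349587) (tt N37261 (iv5 D130554)) (tt N52785 (iv6 F364791)) (tt N92090 (iv7 F395700)))
theorem Q68092 : ∀ i, i < 68092 → P i := stepQ 68091 Q68091 (allL N68091 (tt N68683 (iv1 F211375)) (tt N37262 (iv0 D130555)) (tt N68682 F245139) (tt N59916 (iv3 F403770)) (tt N77851 F245132) (tt N60239 (iv5 F245134)) (tt N103973 D207164) (tt N68681 (iv7 F245133)))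
theorem Q68093 : ∀ i, i < 68093 → P i := stepQ 68092 Q68092 (allL N68092 (tt N37262 (iv1 D130556)) (tt N68683 F211377) (tt N68681 (iv2 F245140)) (tt N48041 F318267) (tt N78022 (iv4 F245577)) (tt N60240 F245141) (tt N103974 D207165) (tt N68682 F245142))
theorem Q68094 : ∀ i, i < 68094 → P i := stepQ 68093 Q68093 (allL N68093 (tt N68682 (iv1 F211376)) (tt N68681 F211371) (tt N37262 (iv2 D130557)) (tt N69442 (iv3 F214407)) (tt N103975 D207166) (tt N97231 (iv5 F415999)) (tt N99714 (iv6 F425875)) (tt N68683 (iv7 F211374)))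
theorem Q68095 : ∀ i, i < 68095 → P i := stepQ 68094 Q68094 (allL N68094 (tt N90740 F390704) (tt N103976 D207167) (tt N103975 (iv2 F443609)) (tt N44157 F209140) (tt N37262 (iv4 D130558)) (tt N48024 F320576) (tt N61939 F209141) (tt N44192 F209142))
theorem Q68096 : ∀ i, i < 68096 → P i := stepQ 68095 Q68095 (allL N68095 (tt N97232 F416006) (tt N97226 (iv0 F415981)) (tt N97231 F416000) (tt N37263 F209143) (tt N100528 (iv4 F429337)) (tt N37262 (iv5 D130559)) (tt N103977 D207168) (tt N68384 (iv7 F210035)))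
theorem Q68097 : ∀ i, i < 68097 → P i := stepQ 68096 Q68096 (allL N68096 (tt N93159 F399723) (tt N103978 D207169) (tt N68387 (iv2 F210041)) (tt N103977 (iv3 F443622)) (tt N37278 F209144) (tt N99715 (iv5 F425882)) (tt N37263 (iv6 D130560)) (tt N103979 D207170))
theorem Q68098 : ∀ i, i < 68098 → P i := stepQ 68097 Q68097 (allL N68097 (tt N87657 (iv1 F380014)) (tt N55069 F354248) (tt N69446 (iv2 F366279)) (tt N48043 F318271) (tt N87568 F379773) (tt N37264 (iv5 D130563)) (tt N88820 F384250) (tt N69443 (iv7 F366281)))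
theorem Q68099 : ∀ i, i < 68099 → P i := stepQ 68098 Q68098 (allL N68098 (tt N95562 F408665) (tt N103959 (iv0 F443529)) (tt N69447 F366162) (tt N48044 F318272) (tt N48064 F318273) (tt N95543 (iv5 F408577)) (tt N37264 (iv6 D130564)) (tt N103980 D207171))
theorem Q68100 : ∀ i, i < 68100 → P i := stepQ 68099 Q68099 (allL N68099 (tt N103981 D207172) (tt N103965 F443553) (tt N78274 (iv2 F247491)) (tt N37265 (iv3 D130566)) (tt N98180 (iv4 F419877)) (tt N103982 D207173) (tt N79502 F348122) (tt N69445 F366277))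
theorem Q68101 : ∀ i, i < 68101 → P i := stepQ 68100 Q68100 (allL N68100 (tt N55069 (iv1 F355458)) (tt N87657 F380013) (tt N69443 F366280) (tt N103982 (iv3 F443640)) (tt N87569 (iv4 F379775)) (tt N37265 (iv5 D130568)) (tt N93158 F399717) (tt N69446 F366278))
theorem Q68102 : ∀ i, i < 68102 → P i := stepQ 68101 Q68101 (allL N68101 (tt N71577 F380015) (tt N83226 (iv0 F355459)) (tt N69444 (iv2 F366411)) (tt N79502 (iv3 F348123)) (tt N91395 (iv4 F392970)) (tt N79501 F348124) (tt N37265 (iv6 D130569)) (tt N103983 D207174))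
theorem Q68103 : ∀ i, i < 68103 → P i := stepQ 68102 Q68102 (allL N68102 (tt N69450 (iv1 F214421)) (tt N69449 F214420) (tt N37267 F209148) (tt N54515 (iv3 F329294)) (tt N103984 D207175) (tt N37266 (iv5 D130570)) (tt N87738 (iv6 F380293)) (tt N69448 (iv7 F214416)))
theorem Q68104 : ∀ i, i < 68104 → P i := stepQ 68103 Q68103 (allL N68103 (tt N69448 (iv1 F214418)) (tt N37267 (iv0 D130572)) (tt N69450 F355407) (tt N65330 F355408) (tt N91227 F392351) (tt N60222 (iv5 F355248)) (tt N52125 (iv6 F355410)) (tt N69449 F355409))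
theorem Q68105 : ∀ i, i < 68105 → P i := stepQ 68104 Q68104 (allL N68104 (tt N37267 (iv1 D130573)) (tt N69448 F214417) (tt N69449 (iv2 F355411)) (tt N103985 D207176) (tt N86595 (iv4 F376556)) (tt N60223 F355413) (tt N103986 D207177) (tt N69450 (iv7 F355412)))
theorem Q68106 : ∀ i, i < 68106 → P i := stepQ 68105 Q68105 (allL N68105 (tt N98153 (iv1 F419740)) (tt N103987 D207178) (tt N103984 (iv2 F443649)) (tt N45100 F209150) (tt N37267 (iv4 D130574)) (tt N45062 F335872) (tt N103988 D207179) (tt N69451 (iv7 F214423)))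
theorem Q68107 : ∀ i, i < 68107 → P i := stepQ 68106 Q68106 (allL N68106 (tt N87288 (iv1 F378988)) (tt N100642 (iv0 F429807)) (tt N87738 (iv2 F380291)) (tt N37269 F209151) (tt N103988 (iv4 F443669)) (tt N51647 F352652) (tt N37267 (iv6 D130575)) (tt N87739 (iv7 F380298)))
theorem Q68108 : ∀ i, i < 68108 → P i := stepQ 68107 Q68107 (allL N68107 (tt N37268 (iv1 D130577)) (tt N53414 F346799) (tt N54512 (iv2 F361892)) (tt N89920 (iv3 F387993)) (tt N91330 (iv4 F392760)) (tt N51626 F346794) (tt N103989 D207180) (tt N51625 F361893))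
theorem Q68109 : ∀ i, i < 68109 → P i := stepQ 68108 Q68108 (allL N68108 (tt N51724 F346795) (tt N75226 F350793) (tt N49708 F346791) (tt N37272 F209152) (tt N51998 (iv4 F346790)) (tt N37268 (iv5 D130578)) (tt N51647 (iv6 F352647)) (tt N66725 F346793))
theorem Q68110 : ∀ i, i < 68110 → P i := stepQ 68109 Q68109 (allL N68109 (tt N54512 F346766) (tt N51625 (iv0 F346783)) (tt N53414 (iv2 F346788)) (tt N37273 F209153) (tt N54989 F346779) (tt N66725 F346786) (tt N67022 (iv6 F354129)) (tt N37268 (iv7 D130579)))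
theorem Q68111 : ∀ i, i < 68111 → P i := stepQ 68110 Q68110 (allL N68110 (tt N69500 (iv1 F214543)) (tt N37269 (iv0 D130580)) (tt N69497 F331585) (tt N103990 D207181) (tt N60276 (iv4 F259103)) (tt N79940 (iv5 F340444)) (tt N103991 D207182) (tt N69498 (iv7 F331587)))
theorem Q68112 : ∀ i, i < 68112 → P i := stepQ 68111 Q68111 (allL N68111 (tt N37269 (iv1 D130581)) (tt N69500 F214542) (tt N69498 F331588) (tt N103992 D207183) (tt N60277 (iv4 F258978)) (tt N102958 (iv5 F439443)) (tt N103993 D207184) (tt N69497 F331582))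
theorem Q68113 : ∀ i, i < 68113 → P i := stepQ 68112 Q68112 (allL N68112 (tt N87713 (iv1 F380237)) (tt N46056 F340443) (tt N69499 (iv2 F214536)) (tt N51647 (iv3 F352651)) (tt N61086 (iv4 F352656)) (tt N37269 (iv5 D130582)) (tt N37272 F209154) (tt N79985 (iv7 F350603)))
theorem Q68114 : ∀ i, i < 68114 → P i := stepQ 68113 Q68113 (allL N68113 (tt N69498 (iv1 F214535)) (tt N69497 F214541) (tt N69500 (iv2 F214538)) (tt N87739 (iv3 F380297)) (tt N60252 F209155) (tt N79985 F350607) (tt N69459 (iv6 F214433)) (tt N37269 (iv7 D130583)))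
theorem Q68115 : ∀ i, i < 68115 → P i := stepQ 68114 Q68114 (allL N68114 (tt N103973 (iv1 F443598)) (tt N100343 (iv0 F428506)) (tt N103994 D207185) (tt N37271 (iv3 D130586)) (tt N71877 (iv4 F220801)) (tt N103995 D207186) (tt N103996 D207187) (tt N97124 (iv7 F415560)))
theorem Q68116 : ∀ i, i < 68116 → P i := stepQ 68115 Q68115 (allL N68115 (tt N78840 (iv1 F350554)) (tt N39665 F209158) (tt N78841 (iv2 F350598)) (tt N103995 (iv3 F443698)) (tt N61085 (iv4 F350593)) (tt N37271 (iv5 D130587)) (tt N79972 F350599) (tt N51629 F350600))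
theorem Q68117 : ∀ i, i < 68117 → P i := stepQ 68116 Q68116 (allL N68116 (tt N97360 (iv1 F416495)) (tt N54400 (iv0 F357414)) (tt N97125 (iv2 F415565)) (tt N103996 (iv3 F443704)) (tt N41188 F209159) (tt N103997 D207188) (tt N37271 (iv6 D130588)) (tt N41186 F209160))
theorem Q68118 : ∀ i, i < 68118 → P i := stepQ 68117 Q68117 (allL N68117 (tt N76388 F401680) (tt N61487 (iv0 F335537)) (tt N79984 F335532) (tt N75795 F355707) (tt N37272 (iv4 D130589)) (tt N66815 (iv5 F335531)) (tt N61086 F335533) (tt N98259 (iv7 F420219)))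
theorem Q68119 : ∀ i, i < 68119 → P i := stepQ 68118 Q68118 (allL N68118 (tt N71832 (iv1 F220706)) (tt N71829 (iv0 F220695)) (tt N49688 F352671) (tt N66725 (iv3 F359658)) (tt N98259 (iv4 F420217)) (tt N37273 F209161) (tt N66723 F359659) (tt N37272 (iv7 D130590)))
theorem Q68120 : ∀ i, i < 68120 → P i := stepQ 68119 Q68119 (allL N68119 (tt N54552 (iv1 F365461)) (tt N53419 (iv0 F365460)) (tt N54551 (iv2 F368773)) (tt N37274 (iv3 D130591)) (tt N72178 (iv4 F221530)) (tt N54575 (iv5 F357189)) (tt N72604 (iv6 F222719)) (tt N54420 F357205))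
theorem Q68121 : ∀ i, i < 68121 → P i := stepQ 68120 Q68120 (allL N68120 (tt N72614 (iv1 F222752)) (tt N72613 F222746) (tt N72179 (iv2 F221533)) (tt N37277 F209162) (tt N94247 (iv4 F403823)) (tt N61826 F209163) (tt N37275 (iv6 D130592)) (tt N61826 F209164))
theorem Q68122 : ∀ i, i < 68122 → P i := stepQ 68121 Q68121 (allL N68121 (tt N54559 F379440) (tt N54984 (iv0 F340218)) (tt N103998 D207189) (tt N37276 (iv3 D130593)) (tt N94246 (iv4 F403822)) (tt N54971 F335529) (tt N95338 (iv6 F407903)) (tt N74187 F226934))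
theorem Q68123 : ∀ i, i < 68123 → P i := stepQ 68122 Q68122 (allL N68122 (tt N74077 F226780) (tt N74190 (iv0 F226949)) (tt N54416 (iv2 F357164)) (tt N95338 F407904) (tt N37277 F209166) (tt N54415 F357172) (tt N37276 (iv6 D130594)) (tt N74048 (iv7 F226711)))
theorem Q68124 : ∀ i, i < 68124 → P i := stepQ 68123 Q68123 (allL N68123 (tt N69481 (iv1 F214485)) (tt N37278 (iv0 D130595)) (tt N61120 (iv2 F209168)) (tt N103999 D207190) (tt N96794 F413981) (tt N104000 D207191) (tt N55779 F209167) (tt N69480 (iv7 F214479)))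
theorem Q68125 : ∀ i, i < 68125 → P i := stepQ 68124 Q68124 (allL N68124 (tt N37278 (iv1 D130596)) (tt N69481 F214484) (tt N69480 F214480) (tt N56615 F364648) (tt N104001 D207192) (tt N98213 (iv5 F420015)) (tt N104002 D207193) (tt N61120 F209169))
theorem Q68126 : ∀ i, i < 68126 → P i := stepQ 68125 Q68125 (allL N68125 (tt N69480 (iv1 F214478)) (tt N61120 F214481) (tt N69481 (iv2 F214482)) (tt N76430 F362772) (tt N103979 (iv4 F443630)) (tt N78865 (iv5 F251162)) (tt N69476 (iv6 F214463)) (tt N37278 (iv7 D130597)))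
theorem Q68127 : ∀ i, i < 68127 → P i := stepQ 68126 Q68126 (allL N68126 (tt N87656 (iv1 F380008)) (tt N103899 (iv0 F443273)) (tt N88816 (iv2 F384236)) (tt N37281 F209170) (tt N86809 (iv4 F377272)) (tt N75736 (iv5 F233576)) (tt N37280 (iv6 D130598)) (tt N104003 D207194))
theorem Q68128 : ∀ i, i < 68128 → P i := stepQ 68127 Q68127 (allL N68127 (tt N69476 (iv1 F214466)) (tt N37281 (iv0 D130599)) (tt N69474 F399664) (tt N56611 F377276) (tt N104004 D207195) (tt N104005 D207196) (tt N103055 (iv6 F439874)) (tt N69475 (iv7 F399668)))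
theorem Q68129 : ∀ i, i < 68129 → P i := stepQ 68128 Q68128 (allL N68128 (tt N37281 (iv1 D130600)) (tt N69476 F214465) (tt N69475 (iv2 F399666)) (tt N104006 D207197) (tt N104007 D207198) (tt N97893 (iv5 F418683)) (tt N104008 D207199) (tt N69474 (iv7 F399665)))
theorem Q68130 : ∀ i, i < 68130 → P i := stepQ 68129 Q68129 (allL N68129 (tt N69475 (iv1 F214461)) (tt N69474 F214464) (tt N69476 (iv2 F214462)) (tt N104003 (iv3 F443741)) (tt N103972 (iv4 F443588)) (tt N75739 (iv5 F233583)) (tt N69481 (iv6 F214483)) (tt N37281 (iv7 D130601)))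
theorem Q68131 : ∀ i, i < 68131 → P i := stepQ 68130 Q68130 (allL N68130 (tt N43101 F209173) (tt N43113 F209174) (tt N57266 F209171) (tt N83799 F367388) (tt N37282 (iv4 D130602)) (tt N104009 D207200) (tt N104010 D207201) (tt N57264 F209172))
theorem Q68132 : ∀ i, i < 68132 → P i := stepQ 68131 Q68131 (allL N68131 (tt N104011 D207202) (tt N92947 (iv0 F398870)) (tt N57267 F209175) (tt N37283 F209176) (tt N104010 (iv4 F443776)) (tt N61634 F209177) (tt N37282 (iv6 D130603)) (tt N104012 D207203))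
theorem Q68133 : ∀ i, i < 68133 → P i := stepQ 68132 Q68132 (allL N68132 (tt N68383 (iv1 F210033)) (tt N37283 (iv0 D130604)) (tt N61249 (iv2 F209179)) (tt N76261 F341584) (tt N93159 (iv4 F399720)) (tt N98600 (iv5 F421514)) (tt N55788 F209178) (tt N68382 (iv7 F210027)))
theorem Q68134 : ∀ i, i < 68134 → P i := stepQ 68133 Q68133 (allL N68133 (tt N37283 (iv1 D130605)) (tt N68383 F210032) (tt N68382 F210028) (tt N104013 D207204) (tt N103978 (iv4 F443628)) (tt N98649 (iv5 F421731)) (tt N104014 D207205) (tt N61249 F209180))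
theorem Q68135 : ∀ i, i < 68135 → P i := stepQ 68134 Q68134 (allL N68134 (tt N68382 (iv1 F210026)) (tt N61249 F210029) (tt N68383 (iv2 F210030)) (tt N104012 (iv3 F443783)) (tt N103964 (iv4 F443550)) (tt N61639 F209181) (tt N68379 (iv6 F210018)) (tt N37283 (iv7 D130606)))
theorem Q68136 : ∀ i, i < 68136 → P i := stepQ 68135 Q68135 (allL N68135 (tt N93122 (iv1 F399582)) (tt N84929 (iv0 F371113)) (tt N51313 F209182) (tt N103956 (iv3 F443519)) (tt N37287 (iv4 D130607)) (tt N104015 D207206) (tt N104016 D207207) (tt N51315 F209183))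
theorem Q68137 : ∀ i, i < 68137 → P i := stepQ 68136 Q68136 (allL N68136 (tt N104017 D207208) (tt N104018 D207209) (tt N51314 F209184) (tt N37288 F209185) (tt N104016 (iv4 F443801)) (tt N49272 F209186) (tt N37287 (iv6 D130608)) (tt N104019 D207210))
theorem Q68138 : ∀ i, i < 68138 → P i := stepQ 68137 Q68137 (allL N68137 (tt N68379 (iv1 F210021)) (tt N37288 (iv0 D130609)) (tt N68377 F390843) (tt N84706 (iv3 F390841)) (tt N78516 F390840) (tt N104020 D207211) (tt N104021 D207212) (tt N68378 (iv7 F390842)))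
theorem Q68139 : ∀ i, i < 68139 → P i := stepQ 68138 Q68138 (allL N68138 (tt N37288 (iv1 D130610)) (tt N68379 F210020) (tt N68378 (iv2 F390844)) (tt N78288 (iv3 F443583)) (tt N103971 (iv4 F443582)) (tt N97921 (iv5 F418811)) (tt N98591 (iv6 F421481)) (tt N68377 F390845))
theorem Q68140 : ∀ i, i < 68140 → P i := stepQ 68139 Q68139 (allL N68139 (tt N68378 (iv1 F210016)) (tt N68377 F210019) (tt N68379 (iv2 F210017)) (tt N104019 (iv3 F443805)) (tt N86879 (iv4 F377563)) (tt N75716 (iv5 F233520)) (tt N68383 (iv6 F210031)) (tt N37288 (iv7 D130611)))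
theorem Q68141 : ∀ i, i < 68141 → P i := stepQ 68140 Q68140 (allL N68140 (tt N51240 F209190) (tt N61340 F209191) (tt N56629 F209187) (tt N37290 F209188) (tt N55580 (iv4 F363604)) (tt N37289 (iv5 D130612)) (tt N104022 D207213) (tt N56622 F209189))
theorem Q68142 : ∀ i, i < 68142 → P i := stepQ 68141 Q68141 (allL N68141 (tt N78291 (iv1 F247867)) (tt N68476 (iv0 F210614)) (tt N68368 (iv2 F210000)) (tt N104023 D207214) (tt N37290 (iv4 D130613)) (tt N104024 D207215) (tt N100656 (iv6 F429875)) (tt N68366 (iv7 F209996)))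
theorem Q68143 : ∀ i, i < 68143 → P i := stepQ 68142 Q68142 (allL N68142 (tt N74480 F366608) (tt N104013 (iv0 F443790)) (tt N68369 (iv2 F210004)) (tt N104022 (iv3 F443822)) (tt N100656 (iv4 F429873)) (tt N61460 F209192) (tt N37290 (iv6 D130614)) (tt N104025 D207216))
theorem Q68144 : ∀ i, i < 68144 → P i := stepQ 68143 Q68143 (allL N68143 (tt N68476 (iv1 F210615)) (tt N78291 (iv0 F247866)) (tt N68366 (iv2 F209995)) (tt N86422 (iv3 F376168)) (tt N37292 (iv4 D130615)) (tt N104026 D207217) (tt N86421 F376164) (tt N68368 (iv7 F210001)))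
theorem Q68145 : ∀ i, i < 68145 → P i := stepQ 68144 Q68144 (allL N68144 (tt N84706 F370293) (tt N70677 (iv0 F363793)) (tt N68367 (iv2 F209999)) (tt N60887 F209193) (tt N86421 (iv4 F376163)) (tt N60884 F209194) (tt N37292 (iv6 D130616)) (tt N104027 D207218))
theorem Q68146 : ∀ i, i < 68146 → P i := stepQ 68145 Q68145 (allL N68145 (tt N60272 F340024) (tt N104028 D207219) (tt N86209 (iv2 F375384)) (tt N37293 (iv3 D130617)) (tt N37295 F209195) (tt N85900 (iv5 F374362)) (tt N104029 D207220) (tt N69484 (iv7 F214504)))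
theorem Q68147 : ∀ i, i < 68147 → P i := stepQ 68146 Q68146 (allL N68146 (tt N94125 (iv1 F403330)) (tt N92972 (iv0 F398976)) (tt N69569 (iv2 F214906)) (tt N85900 F374363) (tt N64036 F209196) (tt N37293 (iv5 D130618)) (tt N104030 D207221) (tt N64845 (iv7 F314243)))
theorem Q68148 : ∀ i, i < 68148 → P i := stepQ 68147 Q68147 (allL N68147 (tt N86712 F376873) (tt N87590 (iv0 F379828)) (tt N98363 (iv2 F420648)) (tt N104029 (iv3 F443867)) (tt N37294 F209197) (tt N104031 D207222) (tt N37293 (iv6 D130619)) (tt N104032 D207223))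
theorem Q68149 : ∀ i, i < 68149 → P i := stepQ 68148 Q68148 (allL N68148 (tt N94046 (iv1 F402967)) (tt N37294 (iv0 D130620)) (tt N70775 F363785) (tt N86418 (iv3 F376157)) (tt N87549 (iv4 F379730)) (tt N38598 F363786) (tt N86413 F376147) (tt N70774 F363787))
theorem Q68150 : ∀ i, i < 68150 → P i := stepQ 68149 Q68149 (allL N68149 (tt N37294 (iv1 D130621)) (tt N94046 (iv0 F402966)) (tt N70774 F363782) (tt N87144 (iv3 F378529)) (tt N87145 (iv4 F378536)) (tt N38596 F363783) (tt N104033 D207224) (tt N70775 F363784))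
theorem Q68151 : ∀ i, i < 68151 → P i := stepQ 68150 Q68150 (allL N68150 (tt N70774 (iv1 F363756)) (tt N70775 F363788) (tt N94046 (iv2 F402963)) (tt N37299 F209198) (tt N104032 (iv4 F443882)) (tt N65700 (iv5 F328440)) (tt N69488 (iv6 F214511)) (tt N37294 (iv7 D130622)))
theorem Q68152 : ∀ i, i < 68152 → P i := stepQ 68151 Q68151 (allL N68151 (tt N54515 (iv1 F329292)) (tt N37295 (iv0 D130623)) (tt N69495 (iv2 F352950)) (tt N93000 (iv3 F399078)) (tt N56596 F349635) (tt N56941 (iv5 F352892)) (tt N56595 (iv6 F349638)) (tt N69494 (iv7 F352957)))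
theorem Q68153 : ∀ i, i < 68153 → P i := stepQ 68152 Q68152 (allL N68152 (tt N37295 (iv1 D130624)) (tt N54515 (iv0 F329291)) (tt N69494 F352958) (tt N73632 F356106) (tt N86795 (iv4 F377231)) (tt N56942 F352960) (tt N73627 (iv6 F356093)) (tt N69495 F352956))
theorem Q68154 : ∀ i, i < 68154 → P i := stepQ 68153 Q68153 (allL N68153 (tt N69495 (iv1 F214532)) (tt N69494 F214527) (tt N37295 (iv2 D130625)) (tt N69448 (iv3 F214415)) (tt N86209 (iv4 F375385)) (tt N54516 (iv5 F329300)) (tt N104034 D207225) (tt N54515 (iv7 F329295)))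
theorem Q68155 : ∀ i, i < 68155 → P i := stepQ 68154 Q68154 (allL N68154 (tt N88348 F382684) (tt N104035 D207226) (tt N104034 (iv2 F443887)) (tt N37296 F209200) (tt N104029 (iv4 F443868)) (tt N104036 D207227) (tt N37295 (iv6 D130626)) (tt N104037 D207228))
theorem Q68156 : ∀ i, i < 68156 → P i := stepQ 68155 Q68155 (allL N68155 (tt N69459 (iv1 F214436)) (tt N37296 (iv0 D130627)) (tt N69456 (iv2 F365038)) (tt N104038 D207229) (tt N60273 (iv4 F365039)) (tt N104039 D207230) (tt N52111 F365037) (tt N69457 (iv7 F365041)))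
theorem Q68157 : ∀ i, i < 68157 → P i := stepQ 68156 Q68156 (allL N68156 (tt N37296 (iv1 D130628)) (tt N69459 F214435) (tt N69457 F365042) (tt N104040 D207231) (tt N60274 F365044) (tt N104041 D207232) (tt N103410 (iv6 F441495)) (tt N69456 F365040))
theorem Q68158 : ∀ i, i < 68158 → P i := stepQ 68157 Q68157 (allL N68157 (tt N104042 D207233) (tt N104043 D207234) (tt N69458 (iv2 F214429)) (tt N104036 (iv3 F443894)) (tt N104044 D207235) (tt N37296 (iv5 D130629)) (tt N60248 F209201) (tt N104045 D207236))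
theorem Q68159 : ∀ i, i < 68159 → P i := stepQ 68158 Q68158 (allL N68158 (tt N69457 (iv1 F214428)) (tt N69456 F214434) (tt N69459 (iv2 F214431)) (tt N104037 (iv3 F443897)) (tt N37299 F209202) (tt N104045 (iv5 F443917)) (tt N69500 (iv6 F214540)) (tt N37296 (iv7 D130630)))
theorem Q68160 : ∀ i, i < 68160 → P i := stepQ 68159 Q68159 (allL N68159 (tt N76425 F372536) (tt N57278 (iv0 F372535)) (tt N76423 (iv2 F238573)) (tt N37297 (iv3 D130631)) (tt N70598 F364269) (tt N104046 D207237) (tt N85412 F372534) (tt N76424 (iv7 F238574)))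
theorem Q68161 : ∀ i, i < 68161 → P i := stepQ 68160 Q68160 (allL N68160 (tt N88221 F382237) (tt N44472 F331413) (tt N86573 (iv2 F376515)) (tt N70608 (iv3 F364268)) (tt N37297 (iv4 D130632)) (tt N104047 D207238) (tt N83714 (iv6 F331412)) (tt N97174 (iv7 F415757)))
theorem Q68162 : ∀ i, i < 68162 → P i := stepQ 68161 Q68161 (allL N68161 (tt N70786 (iv1 F364713)) (tt N60918 F364712) (tt N70788 (iv2 F364697)) (tt N104046 (iv3 F443919)) (tt N102388 (iv4 F437015)) (tt N37297 (iv5 D130633)) (tt N86017 F374905) (tt N60972 F209203))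
theorem Q68163 : ∀ i, i < 68163 → P i := stepQ 68162 Q68162 (allL N68162 (tt N44472 F376519) (tt N88221 F382238) (tt N97174 (iv2 F415756)) (tt N104048 D207239) (tt N37298 (iv4 D130634)) (tt N104049 D207240) (tt N104050 D207241) (tt N86573 F376518))
theorem Q68164 : ∀ i, i < 68164 → P i := stepQ 68163 Q68163 (allL N68163 (tt N60918 F364711) (tt N70786 (iv0 F364710)) (tt N60972 F209204) (tt N83004 (iv3 F364706)) (tt N83006 F364708) (tt N37298 (iv5 D130635)) (tt N55761 F209205) (tt N70788 (iv7 F364700)))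
theorem Q68165 : ∀ i, i < 68165 → P i := stepQ 68164 Q68164 (allL N68164 (tt N104051 D207242) (tt N94137 (iv0 F421546)) (tt N97175 (iv2 F415762)) (tt N86152 (iv3 F375223)) (tt N104050 (iv4 F443933)) (tt N86136 (iv5 F375208)) (tt N37298 (iv6 D130636)) (tt N86135 F375206))
theorem Q68166 : ∀ i, i < 68166 → P i := stepQ 68165 Q68165 (allL N68165 (tt N69430 (iv1 F214371)) (tt N37300 (iv0 D130637)) (tt N69429 F214356) (tt N38442 (iv3 F209211)) (tt N68874 (iv4 F211795)) (tt N62365 F209210) (tt N70008 (iv6 F216417)) (tt N69385 (iv7 F214083)))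
theorem Q68167 : ∀ i, i < 68167 → P i := stepQ 68166 Q68166 (allL N68166 (tt N37300 (iv1 D130638)) (tt N69430 F214370) (tt N69385 (iv2 F214081)) (tt N56826 (iv3 F211346)) (tt N68875 (iv4 F211972)) (tt N71753 (iv5 F220486)) (tt N69354 (iv6 F213974)) (tt N69429 (iv7 F214357)))
theorem Q68168 : ∀ i, i < 68168 → P i := stepQ 68167 Q68167 (allL N68167 (tt N69385 (iv1 F214088)) (tt N69429 F214358) (tt N69430 (iv2 F214365)) (tt N37306 F209212) (tt N67703 F209213) (tt N39399 F209214) (tt N37413 F209215) (tt N37300 (iv7 D130639)))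
theorem Q68169 : ∀ i, i < 68169 → P i := stepQ 68168 Q68168 (allL N68168 (tt N37301 (iv1 D130641)) (tt N69510 F214563) (tt N69508 (iv2 F355279)) (tt N74905 (iv3 F355280)) (tt N103659 (iv4 F442393)) (tt N75688 F355278) (tt N102937 (iv6 F439339)) (tt N69509 F355271))
theorem Q68170 : ∀ i, i < 68170 → P i := stepQ 68169 Q68169 (allL N68169 (tt N69509 (iv1 F214562)) (tt N69508 F214557) (tt N37301 (iv2 D130642)) (tt N69514 (iv3 F214570)) (tt N67698 F209216) (tt N61447 F335150) (tt N104052 D207243) (tt N69510 (iv7 F214560)))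
theorem Q68171 : ∀ i, i < 68171 → P i := stepQ 68170 Q68170 (allL N68170 (tt N104053 D207244) (tt N104054 D207245) (tt N104052 (iv2 F443939)) (tt N37303 F209218) (tt N67700 F209219) (tt N104055 D207246) (tt N37301 (iv6 D130644)) (tt N104056 D207247))
theorem Q68172 : ∀ i, i < 68172 → P i := stepQ 68171 Q68171 (allL N68171 (tt N69520 (iv1 F214597)) (tt N37303 (iv0 D130646)) (tt N69517 F214585) (tt N92239 (iv3 F396418)) (tt N67249 F209220) (tt N104057 D207248) (tt N74804 (iv6 F338635)) (tt N69518 F214584))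
theorem Q68173 : ∀ i, i < 68173 → P i := stepQ 68172 Q68172 (allL N68172 (tt N37303 (iv1 D130647)) (tt N69520 F214596) (tt N69518 (iv2 F214587)) (tt N104058 D207249) (tt N67285 F214589) (tt N104059 D207250) (tt N69358 F214590) (tt N69517 F214586))
theorem Q68174 : ∀ i, i < 68174 → P i := stepQ 68173 Q68173 (allL N68173 (tt N70660 F218056) (tt N39059 F209221) (tt N69519 (iv2 F214591)) (tt N104055 (iv3 F443949)) (tt N104060 D207251) (tt N37303 (iv5 D130648)) (tt N76552 (iv6 F339349)) (tt N70658 (iv7 F218053)))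
theorem Q68175 : ∀ i, i < 68175 → P i := stepQ 68174 Q68174 (allL N68174 (tt N69518 (iv1 F214581)) (tt N69517 F214588) (tt N69520 (iv2 F214593)) (tt N104056 (iv3 F443952)) (tt N37306 F209222) (tt N70658 F218054) (tt N37414 F209223) (tt N37303 (iv7 D130649)))
theorem Q68176 : ∀ i, i < 68176 → P i := stepQ 68175 Q68175 (allL N68175 (tt N69530 (iv1 F214635)) (tt N37312 F214096) (tt N69386 (iv2 F214093)) (tt N85025 F371403) (tt N37304 (iv4 D130650)) (tt N100323 (iv5 F428422)) (tt N70714 (iv6 F218170)) (tt N69521 (iv7 F214600)))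
theorem Q68177 : ∀ i, i < 68177 → P i := stepQ 68176 Q68176 (allL N68176 (tt N37312 F209224) (tt N69530 F214634) (tt N69521 (iv2 F214598)) (tt N50232 F334644) (tt N37305 (iv4 D130651)) (tt N86199 (iv5 F375352)) (tt N50230 (iv6 F326340)) (tt N69386 (iv7 F214094)))
theorem Q68178 : ∀ i, i < 68178 → P i := stepQ 68177 Q68177 (allL N68177 (tt N69514 (iv1 F214573)) (tt N37307 (iv0 D130652)) (tt N69513 (iv2 F216632)) (tt N97933 (iv3 F418851)) (tt N104061 D207252) (tt N61753 F335834) (tt N104062 D207253) (tt N69512 F216633))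
theorem Q68179 : ∀ i, i < 68179 → P i := stepQ 68178 Q68178 (allL N68178 (tt N37307 (iv1 D130653)) (tt N69514 F214575) (tt N69512 F216631) (tt N69544 (iv3 F214721)) (tt N103568 (iv4 F442065)) (tt N61754 F335820) (tt N85062 (iv6 F371505)) (tt N69513 (iv7 F216628)))
theorem Q68180 : ∀ i, i < 68180 → P i := stepQ 68179 Q68179 (allL N68179 (tt N69513 (iv1 F214574)) (tt N69512 F214568) (tt N37307 (iv2 D130654)) (tt N69510 (iv3 F214558)) (tt N92923 (iv4 F398774)) (tt N98765 (iv5 F422213)) (tt N104063 D207254) (tt N69514 (iv7 F214572)))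
theorem Q68181 : ∀ i, i < 68181 → P i := stepQ 68180 Q68180 (allL N68180 (tt N88193 (iv1 F382114)) (tt N47568 F348990) (tt N98765 F422216) (tt N37308 F209225) (tt N74696 (iv4 F335849)) (tt N37307 (iv5 D130655)) (tt N73584 F349001) (tt N69515 (iv7 F214577)))
theorem Q68182 : ∀ i, i < 68182 → P i := stepQ 68181 Q68181 (allL N68181 (tt N97535 (iv1 F417294)) (tt N97529 (iv0 F417274)) (tt N104063 (iv2 F443996)) (tt N37309 F209226) (tt N57030 F209227) (tt N104064 D207255) (tt N37307 (iv6 D130656)) (tt N70744 (iv7 F218238)))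
theorem Q68183 : ∀ i, i < 68183 → P i := stepQ 68182 Q68182 (allL N68182 (tt N100763 F430353) (tt N96490 (iv0 F412736)) (tt N69511 (iv2 F214566)) (tt N73584 (iv3 F349002)) (tt N94048 (iv4 F402972)) (tt N104065 D207256) (tt N37308 (iv6 D130657)) (tt N76556 (iv7 F339333)))
theorem Q68184 : ∀ i, i < 68184 → P i := stepQ 68183 Q68183 (allL N68183 (tt N37309 (iv1 D130658)) (tt N37414 F209228) (tt N62000 (iv2 F209231)) (tt N97920 (iv3 F418806)) (tt N37692 F209230) (tt N104066 D207257) (tt N69380 F214070) (tt N37689 F209229))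
theorem Q68185 : ∀ i, i < 68185 → P i := stepQ 68184 Q68184 (allL N68184 (tt N43358 F363796) (tt N97969 (iv0 F419019)) (tt N62002 F209232) (tt N104064 (iv3 F444001)) (tt N104067 D207258) (tt N37309 (iv5 D130659)) (tt N104065 (iv6 F444005)) (tt N70745 (iv7 F218240)))
theorem Q68186 : ∀ i, i < 68186 → P i := stepQ 68185 Q68185 (allL N68185 (tt N37310 (iv1 D130661)) (tt N69523 F214609) (tt N69522 F355684) (tt N100790 (iv3 F430483)) (tt N104068 D207259) (tt N61138 (iv5 F347381)) (tt N104069 D207260) (tt N61137 F347371))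
theorem Q68187 : ∀ i, i < 68187 → P i := stepQ 68186 Q68186 (allL N68186 (tt N61137 (iv1 F355670)) (tt N69522 F214604) (tt N37310 (iv2 D130662)) (tt N45045 F333214) (tt N90404 (iv4 F389530)) (tt N61559 F333215) (tt N85980 (iv6 F374724)) (tt N69523 (iv7 F214606)))
theorem Q68188 : ∀ i, i < 68188 → P i := stepQ 68187 Q68187 (allL N68187 (tt N50036 F355356) (tt N85823 F374126) (tt N61559 (iv2 F357123)) (tt N37311 F209235) (tt N104070 D207261) (tt N37310 (iv5 D130664)) (tt N61557 F357122) (tt N69524 (iv7 F214611)))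
theorem Q68189 : ∀ i, i < 68189 → P i := stepQ 68188 Q68188 (allL N68188 (tt N70639 (iv1 F218008)) (tt N38842 F209237) (tt N69529 (iv2 F214629)) (tt N101204 (iv3 F432185)) (tt N104071 D207262) (tt N37312 (iv5 D130668)) (tt N98071 (iv6 F419347)) (tt N70637 (iv7 F218001)))
theorem Q68190 : ∀ i, i < 68190 → P i := stepQ 68189 Q68189 (allL N68189 (tt N69521 F214602) (tt N69386 F214603) (tt N69530 (iv2 F214631)) (tt N85981 F374732) (tt N68653 (iv4 F211285)) (tt N70637 (iv5 F218002)) (tt N37410 F209238) (tt N37312 (iv7 D130669)))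
theorem Q68191 : ∀ i, i < 68191 → P i := stepQ 68190 Q68190 (allL N68190 (tt N104072 D207263) (tt N104073 D207264) (tt N98062 (iv2 F419321)) (tt N37315 F209240) (tt N66407 F209241) (tt N61203 F333213) (tt N37313 (iv6 D130674)) (tt N70738 (iv7 F218225)))
theorem Q68192 : ∀ i, i < 68192 → P i := stepQ 68191 Q68191 (allL N68191 (tt N46023 F353828) (tt N41783 F353827) (tt N69526 (iv2 F214614)) (tt N46038 F353825) (tt N94090 (iv4 F403154)) (tt N76659 (iv5 F354424)) (tt N37314 (iv6 D130675)) (tt N61588 F353826))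
theorem Q68193 : ∀ i, i < 68193 → P i := stepQ 68192 Q68192 (allL N68192 (tt N73413 (iv1 F224773)) (tt N76691 F354442) (tt N69527 (iv2 F214615)) (tt N61203 F354427) (tt N95942 (iv4 F410370)) (tt N37315 (iv5 D130676)) (tt N76659 F354423) (tt N70739 (iv7 F218227)))
theorem Q68194 : ∀ i, i < 68194 → P i := stepQ 68193 Q68193 (allL N68193 (tt N85955 (iv1 F374604)) (tt N50232 F352107) (tt N69533 (iv2 F214646)) (tt N97791 (iv3 F418320)) (tt N48392 F318981) (tt N104074 D207265) (tt N37316 (iv6 D130680)) (tt N85954 (iv7 F374595)))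
theorem Q68195 : ∀ i, i < 68195 → P i := stepQ 68194 Q68194 (allL N68194 (tt N75081 F334259) (tt N60797 F347378) (tt N75080 F355403) (tt N37317 (iv3 D130682)) (tt N67742 F209253) (tt N74449 (iv5 F347377)) (tt N70630 (iv6 F367912)) (tt N69532 (iv7 F214645)))
theorem Q68196 : ∀ i, i < 68196 → P i := stepQ 68195 Q68195 (allL N68195 (tt N37408 F350857) (tt N74910 (iv0 F365176)) (tt N69531 (iv2 F214643)) (tt N70630 F367913) (tt N67739 F209254) (tt N104075 D207266) (tt N37317 (iv6 D130684)) (tt N104076 D207267))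
theorem Q68197 : ∀ i, i < 68197 → P i := stepQ 68196 Q68196 (allL N68196 (tt N97857 (iv1 F418535)) (tt N92668 (iv0 F397818)) (tt N37319 F209256) (tt N98722 (iv3 F422017)) (tt N37354 F209257) (tt N84441 (iv5 F369268)) (tt N37318 (iv6 D130686)) (tt N60826 F366054))
theorem Q68198 : ∀ i, i < 68198 → P i := stepQ 68197 Q68197 (allL N68197 (tt N60826 (iv1 F366055)) (tt N37319 (iv0 D130691)) (tt N97857 F418538) (tt N60807 F365046) (tt N104077 D207268) (tt N104078 D207269) (tt N69364 F398490) (tt N92668 F397820))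
theorem Q68199 : ∀ i, i < 68199 → P i := stepQ 68198 Q68198 (allL N68198 (tt N37319 (iv1 D130692)) (tt N60826 F366057) (tt N92668 (iv2 F397815)) (tt N75075 F398503) (tt N80078 (iv4 F366058)) (tt N104079 D207270) (tt N85956 (iv6 F374609)) (tt N97857 (iv7 F418536)))
theorem Q68200 : ∀ i, i < 68200 → P i := stepQ 68199 Q68199 (allL N68199 (tt N94106 (iv1 F403235)) (tt N61105 (iv0 F338695)) (tt N69535 (iv2 F214666)) (tt N98088 (iv3 F419409)) (tt N57793 F209263) (tt N42170 F326630) (tt N37320 (iv6 D130696)) (tt N104080 D207271))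
theorem Q68201 : ∀ i, i < 68201 → P i := stepQ 68200 Q68200 (allL N68200 (tt N76641 F327117) (tt N56474 (iv0 F334821)) (tt N76643 F327119) (tt N81452 F365940) (tt N104081 D207272) (tt N37321 (iv5 D130699)) (tt N37324 F209264) (tt N46003 F327120))
theorem Q68202 : ∀ i, i < 68202 → P i := stepQ 68201 Q68201 (allL N68201 (tt N75070 F367056) (tt N104069 (iv0 F444027)) (tt N104082 D207273) (tt N37322 (iv3 D130701)) (tt N80681 (iv4 F365734)) (tt N104083 D207274) (tt N69372 (iv6 F214060)) (tt N98725 (iv7 F422025)))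
theorem Q68203 : ∀ i, i < 68203 → P i := stepQ 68202 Q68202 (allL N68202 (tt N39048 F209265) (tt N69587 (iv0 F333558)) (tt N70039 F216455) (tt N104083 (iv3 F444090)) (tt N100298 (iv4 F428314)) (tt N37322 (iv5 D130702)) (tt N100298 (iv6 F428315)) (tt N70038 F216452))
theorem Q68204 : ∀ i, i < 68204 → P i := stepQ 68203 Q68203 (allL N68203 (tt N93196 F399922) (tt N45055 F362425) (tt N92655 (iv2 F397778)) (tt N37323 (iv3 D130703)) (tt N95807 (iv4 F409751)) (tt N104084 D207275) (tt N79975 F362426) (tt N93199 (iv7 F399935)))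
theorem Q68205 : ∀ i, i < 68205 → P i := stepQ 68204 Q68204 (allL N68204 (tt N69587 (iv1 F333559)) (tt N39048 F209266) (tt N70038 F216451) (tt N104084 (iv3 F444092)) (tt N100299 (iv4 F428319)) (tt N37323 (iv5 D130704)) (tt N74463 F345023) (tt N70039 (iv7 F216453)))
theorem Q68206 : ∀ i, i < 68206 → P i := stepQ 68205 Q68205 (allL N68205 (tt N70116 (iv1 F339557)) (tt N70714 F362424) (tt N98726 (iv2 F422029)) (tt N79975 F362422) (tt N95806 (iv4 F409747)) (tt N61426 (iv5 F362420)) (tt N37323 (iv6 D130705)) (tt N69376 (iv7 F214063)))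
theorem Q68207 : ∀ i, i < 68207 → P i := stepQ 68206 Q68206 (allL N68206 (tt N63422 (iv1 F345014)) (tt N37324 (iv0 D130706)) (tt N70769 (iv2 F218305)) (tt N51438 F365736) (tt N104085 D207276) (tt N38591 F209267) (tt N104086 D207277) (tt N51430 (iv7 F327570)))
theorem Q68208 : ∀ i, i < 68208 → P i := stepQ 68207 Q68207 (allL N68207 (tt N37324 (iv1 D130707)) (tt N63422 F345013) (tt N51430 (iv2 F327568)) (tt N56480 (iv3 F365943)) (tt N104087 D207278) (tt N38592 F209268) (tt N51426 F345015) (tt N70769 (iv7 F218306)))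
theorem Q68209 : ∀ i, i < 68209 → P i := stepQ 68208 Q68208 (allL N68208 (tt N87145 F378539) (tt N87549 F379732) (tt N87547 F379725) (tt N104088 D207279) (tt N37324 (iv4 D130708)) (tt N104089 D207280) (tt N104081 (iv6 F444081)) (tt N87548 (iv7 F379727)))
theorem Q68210 : ∀ i, i < 68210 → P i := stepQ 68209 Q68209 (allL N68209 (tt N51430 (iv1 F327567)) (tt N70769 (iv0 F218307)) (tt N63422 F327029) (tt N84442 (iv3 F369276)) (tt N87548 (iv4 F379728)) (tt N37325 F209269) (tt N46005 F327030) (tt N37324 (iv7 D130709)))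
theorem Q68211 : ∀ i, i < 68211 → P i := stepQ 68210 Q68210 (allL N68210 (tt N37832 F209273) (tt N37800 F209274) (tt N37829 F209270) (tt N104090 D207281) (tt N37326 (iv4 D130710)) (tt N69158 (iv5 F212995)) (tt N66087 F209271) (tt N37830 F209272))
theorem Q68212 : ∀ i, i < 68212 → P i := stepQ 68211 Q68211 (allL N68211 (tt N75696 F363172) (tt N102937 F439340) (tt N102936 (iv2 F439335)) (tt N37327 (iv3 D130712)) (tt N104090 (iv4 F444123)) (tt N87133 F378485) (tt N69381 (iv6 F214071)) (tt N87515 (iv7 F379622)))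
theorem Q68213 : ∀ i, i < 68213 → P i := stepQ 68212 Q68212 (allL N68212 (tt N39066 F209279) (tt N70682 F218099) (tt N70680 F218097) (tt N87133 (iv3 F378482)) (tt N69588 (iv4 F364661)) (tt N37327 (iv5 D130713)) (tt N104091 D207282) (tt N70679 F218094))
theorem Q68214 : ∀ i, i < 68214 → P i := stepQ 68213 Q68213 (allL N68213 (tt N104062 F443995) (tt N97939 (iv0 F418884)) (tt N104092 D207283) (tt N37328 (iv3 D130714)) (tt N92929 (iv4 F398798)) (tt N73784 (iv5 F365568)) (tt N73787 F365567) (tt N96782 (iv7 F413910)))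
theorem Q68215 : ∀ i, i < 68215 → P i := stepQ 68214 Q68214 (allL N68214 (tt N39723 F327500) (tt N37330 (iv0 D130717)) (tt N67617 (iv2 F217697)) (tt N104093 D207284) (tt N69546 (iv4 F214728)) (tt N70394 (iv5 F217349)) (tt N73312 (iv6 F342777)) (tt N67616 (iv7 F217691)))
theorem Q68216 : ∀ i, i < 68216 → P i := stepQ 68215 Q68215 (allL N68215 (tt N37330 (iv1 D130718)) (tt N39723 F327499) (tt N67616 F217698) (tt N104094 D207285) (tt N68954 (iv4 F212107)) (tt N70393 (iv5 F217346)) (tt N104095 D207286) (tt N67617 F217694))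
theorem Q68217 : ∀ i, i < 68217 → P i := stepQ 68216 Q68216 (allL N68216 (tt N67617 (iv1 F209287)) (tt N67616 F209285) (tt N37330 (iv2 D130719)) (tt N70246 (iv3 F217056)) (tt N37338 F209283) (tt N104096 D207287) (tt N71410 F327503) (tt N39723 F327504))
theorem Q68218 : ∀ i, i < 68218 → P i := stepQ 68217 Q68217 (allL N68217 (tt N38805 (iv1 F213543)) (tt N38809 F212148) (tt N104096 (iv2 F444156)) (tt N37331 F209288) (tt N104097 D207288) (tt N37330 (iv5 D130720)) (tt N104098 D207289) (tt N67618 F209289))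
theorem Q68219 : ∀ i, i < 68219 → P i := stepQ 68218 Q68218 (allL N68218 (tt N71408 F326704) (tt N71407 F326705) (tt N71410 F326706) (tt N37332 F209290) (tt N37339 F209291) (tt N104099 D207290) (tt N37330 (iv6 D130721)) (tt N39721 F326707))
theorem Q68220 : ∀ i, i < 68220 → P i := stepQ 68219 Q68219 (allL N68219 (tt N104100 D207291) (tt N104101 D207292) (tt N70249 (iv2 F217061)) (tt N104098 (iv3 F444171)) (tt N72206 (iv4 F221650)) (tt N104102 D207293) (tt N37331 (iv6 D130722)) (tt N104103 D207294))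
theorem Q68221 : ∀ i, i < 68221 → P i := stepQ 68220 Q68220 (allL N68220 (tt N70252 (iv1 F217076)) (tt N37332 (iv0 D130723)) (tt N70250 (iv2 F217065)) (tt N104104 D207295) (tt N67223 F217066) (tt N104105 D207296) (tt N101140 (iv6 F431894)) (tt N70251 (iv7 F217068)))
theorem Q68222 : ∀ i, i < 68222 → P i := stepQ 68221 Q68221 (allL N68221 (tt N69933 F216339) (tt N68690 (iv0 F211396)) (tt N69930 F216335) (tt N104099 (iv3 F444174)) (tt N104106 D207297) (tt N37332 (iv5 D130725)) (tt N104102 (iv6 F444189)) (tt N69931 (iv7 F216336)))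
theorem Q68223 : ∀ i, i < 68223 → P i := stepQ 68222 Q68222 (allL N68222 (tt N70251 (iv1 F217067)) (tt N70250 F217064) (tt N70252 (iv2 F217072)) (tt N39721 F326703) (tt N37335 F209293) (tt N69931 F216337) (tt N37434 F209294) (tt N37332 (iv7 D130726)))
theorem Q68224 : ∀ i, i < 68224 → P i := stepQ 68223 Q68223 (allL N68223 (tt N70261 (iv1 F217094)) (tt N69818 (iv0 F216209)) (tt N70253 (iv2 F217077)) (tt N104107 D207298) (tt N37333 (iv4 D130727)) (tt N80517 (iv5 F363078)) (tt N70007 (iv6 F216415)) (tt N70254 (iv7 F217083)))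
theorem Q68225 : ∀ i, i < 68225 → P i := stepQ 68224 Q68224 (allL N68224 (tt N38924 (iv1 F213982)) (tt N69355 F213981) (tt N69354 (iv2 F213973)) (tt N37334 (iv3 D130728)) (tt N68997 (iv4 F212416)) (tt N71345 (iv5 F219888)) (tt N69385 (iv6 F214082)) (tt N69353 (iv7 F213966)))
theorem Q68226 : ∀ i, i < 68226 → P i := stepQ 68225 Q68225 (allL N68225 (tt N39640 F330934) (tt N70301 (iv0 F217158)) (tt N67614 (iv2 F214182)) (tt N86345 F375874) (tt N37336 (iv4 D130732)) (tt N86342 (iv5 F375875)) (tt N73420 (iv6 F359166)) (tt N67611 (iv7 F214180)))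
theorem Q68227 : ∀ i, i < 68227 → P i := stepQ 68226 Q68226 (allL N68226 (tt N67621 F214126) (tt N37897 F214127) (tt N67620 (iv2 F214116)) (tt N37337 (iv3 D130736)) (tt N68341 (iv4 F209679)) (tt N43162 (iv5 F211941)) (tt N104108 D207299) (tt N67613 F214115))
theorem Q68228 : ∀ i, i < 68228 → P i := stepQ 68227 Q68227 (allL N68227 (tt N70301 F217157) (tt N39640 F330933) (tt N67611 (iv2 F214181)) (tt N70262 (iv3 F217095)) (tt N37337 (iv4 D130737)) (tt N104109 D207300) (tt N104110 D207301) (tt N67614 F214184))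
theorem Q68229 : ∀ i, i < 68229 → P i := stepQ 68228 Q68228 (allL N68228 (tt N37360 F346124) (tt N67648 F346125) (tt N67612 F214186) (tt N104108 (iv3 F444212)) (tt N104110 (iv4 F444224)) (tt N64074 (iv5 F346121)) (tt N37337 (iv6 D130739)) (tt N67647 (iv7 F359075)))
theorem Q68230 : ∀ i, i < 68230 → P i := stepQ 68229 Q68229 (allL N68229 (tt N74241 (iv1 F352080)) (tt N74240 F352093) (tt N37339 F209299) (tt N67605 F209300) (tt N71410 (iv4 F334127)) (tt N70068 (iv5 F216546)) (tt N37338 (iv6 D130740)) (tt N66284 (iv7 F352078)))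
theorem Q68231 : ∀ i, i < 68231 → P i := stepQ 68230 Q68230 (allL N68230 (tt N66284 (iv1 F352092)) (tt N37339 (iv0 D130741)) (tt N74241 F352087) (tt N103128 (iv3 F440194)) (tt N71452 (iv4 F352100)) (tt N100008 (iv5 F427168)) (tt N43324 F352088) (tt N74240 (iv7 F352091)))
theorem Q68232 : ∀ i, i < 68232 → P i := stepQ 68231 Q68231 (allL N68231 (tt N37339 (iv1 D130742)) (tt N66284 (iv0 F352077)) (tt N74240 F352089) (tt N50236 (iv3 F348576)) (tt N71451 (iv4 F348577)) (tt N84771 (iv5 F370560)) (tt N67607 (iv6 F352076)) (tt N74241 F352085))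
theorem Q68233 : ∀ i, i < 68233 → P i := stepQ 68232 Q68232 (allL N68232 (tt N50238 F348913) (tt N37902 F348914) (tt N67625 F358025) (tt N37340 (iv3 D130744)) (tt N104111 D207302) (tt N103012 (iv5 F439664)) (tt N46406 F309524) (tt N67596 F209303))
theorem Q68234 : ∀ i, i < 68234 → P i := stepQ 68233 Q68233 (allL N68233 (tt N37855 F371341) (tt N67752 F371342) (tt N67751 F363458) (tt N37341 (iv3 D130746)) (tt N104112 D207303) (tt N99636 (iv5 F425528)) (tt N67596 F209308) (tt N67595 F209309))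
theorem Q68235 : ∀ i, i < 68235 → P i := stepQ 68234 Q68234 (allL N68234 (tt N98544 (iv1 F421269)) (tt N39768 F355789) (tt N104113 D207304) (tt N37344 (iv3 D130749)) (tt N67226 F209315) (tt N69926 (iv5 F216330)) (tt N70318 (iv6 F217179)) (tt N38441 F209316))
theorem Q68236 : ∀ i, i < 68236 → P i := stepQ 68235 Q68235 (allL N68235 (tt N39724 F328669) (tt N37345 (iv0 D130750)) (tt N39725 F328670) (tt N78690 (iv3 F347310)) (tt N69393 (iv4 F214204)) (tt N38550 (iv5 F214209)) (tt N39750 F328671) (tt N39182 F328672))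
theorem Q68237 : ∀ i, i < 68237 → P i := stepQ 68236 Q68236 (allL N68236 (tt N39725 F328664) (tt N39182 F328665) (tt N37345 (iv2 D130752)) (tt N104113 (iv3 F444244)) (tt N37347 F209318) (tt N69957 (iv5 F216486)) (tt N73314 (iv6 F224341)) (tt N39724 F328673))
theorem Q68238 : ∀ i, i < 68238 → P i := stepQ 68237 Q68237 (allL N68237 (tt N37900 F212532) (tt N67626 (iv0 F209547)) (tt N44824 F317041) (tt N37346 (iv3 D130756)) (tt N67576 F209333) (tt N38630 (iv5 F211218)) (tt N102831 (iv6 F438846)) (tt N67603 (iv7 F216661)))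
theorem Q68239 : ∀ i, i < 68239 → P i := stepQ 68238 Q68238 (allL N68238 (tt N39642 F327494) (tt N39641 F327495) (tt N39644 F327496) (tt N52154 (iv3 F352612)) (tt N37346 (iv4 D130757)) (tt N75169 F339497) (tt N39679 F327497) (tt N39158 F327498))
theorem Q68240 : ∀ i, i < 68240 → P i := stepQ 68239 Q68239 (allL N68239 (tt N104114 D207305) (tt N104115 D207306) (tt N103525 (iv2 F441942)) (tt N37350 F209344) (tt N69011 (iv4 F212460)) (tt N80035 F366571) (tt N37348 (iv6 D130775)) (tt N104116 D207307))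
theorem Q68241 : ∀ i, i < 68241 → P i := stepQ 68240 Q68240 (allL N68240 (tt N85064 (iv1 F374864)) (tt N50949 (iv0 F365773)) (tt N69551 (iv2 F214814)) (tt N75704 F366005) (tt N37350 F209348) (tt N98505 (iv5 F421157)) (tt N37349 (iv6 D130781)) (tt N85063 (iv7 F371512)))
theorem Q68242 : ∀ i, i < 68242 → P i := stepQ 68241 Q68241 (allL N68241 (tt N69553 (iv1 F214822)) (tt N37350 (iv0 D130788)) (tt N68951 F336053) (tt N50234 F336054) (tt N85955 (iv4 F374601)) (tt N84768 (iv5 F370547)) (tt N78547 (iv6 F336052)) (tt N69552 F336055))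
theorem Q68243 : ∀ i, i < 68243 → P i := stepQ 68242 Q68242 (allL N68242 (tt N69552 (iv1 F214816)) (tt N68951 (iv0 F319753)) (tt N69553 (iv2 F214818)) (tt N104116 (iv3 F444255)) (tt N85063 F371513) (tt N80666 F330901) (tt N37430 (iv6 F330902)) (tt N37350 (iv7 D130791)))
theorem Q68244 : ∀ i, i < 68244 → P i := stepQ 68243 Q68243 (allL N68243 (tt N69547 (iv1 F214793)) (tt N37351 (iv0 D130793)) (tt N68954 F217692) (tt N69388 F214100) (tt N67616 F209357) (tt N69298 (iv5 F217674)) (tt N104117 D207308) (tt N69546 (iv7 F217689)))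
theorem Q68245 : ∀ i, i < 68245 → P i := stepQ 68244 Q68244 (allL N68244 (tt N74412 F328831) (tt N45090 F328832) (tt N74411 F347575) (tt N37352 (iv3 D130799)) (tt N71800 (iv4 F365154)) (tt N98757 (iv5 F422176)) (tt N71799 F365155) (tt N69550 (iv7 F214810)))
theorem Q68246 : ∀ i, i < 68246 → P i := stepQ 68245 Q68245 (allL N68245 (tt N47032 F317530) (tt N47025 F317531) (tt N47501 (iv2 F319760)) (tt N98757 (iv3 F422175)) (tt N47004 F317532) (tt N37352 (iv5 D130800)) (tt N79067 F352414) (tt N47503 (iv7 F319752)))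
theorem Q68247 : ∀ i, i < 68247 → P i := stepQ 68246 Q68246 (allL N68246 (tt N104118 D207309) (tt N104119 D207310) (tt N69545 F214779) (tt N71799 (iv3 F365157)) (tt N37353 F209362) (tt N98313 F420462) (tt N37352 (iv6 D130801)) (tt N102780 (iv7 F438613)))
theorem Q68248 : ∀ i, i < 68248 → P i := stepQ 68247 Q68247 (allL N68247 (tt N37353 (iv1 D130805)) (tt N37430 F330903) (tt N37431 F330904) (tt N60825 F330905) (tt N74910 (iv4 F365175)) (tt N57138 F336037) (tt N69402 F330906) (tt N37429 F330907))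
theorem Q68249 : ∀ i, i < 68249 → P i := stepQ 68248 Q68248 (allL N68248 (tt N37358 (iv1 F209366)) (tt N37354 (iv0 D130808)) (tt N37355 F334620) (tt N102784 (iv3 F438638)) (tt N104120 D207311) (tt N44675 F334621) (tt N69399 (iv6 F334651)) (tt N37356 F334623))
theorem Q68250 : ∀ i, i < 68250 → P i := stepQ 68249 Q68249 (allL N68249 (tt N37354 (iv1 D130809)) (tt N37358 F209363) (tt N37356 F334617) (tt N60016 F351675) (tt N104121 D207312) (tt N60015 (iv5 F336091)) (tt N78603 F342171) (tt N37355 F334619))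
theorem Q68251 : ∀ i, i < 68251 → P i := stepQ 68250 Q68250 (allL N68250 (tt N65078 (iv1 F336024)) (tt N80053 F320276) (tt N37357 F209364) (tt N69401 (iv3 F214232)) (tt N79135 F320277) (tt N37354 (iv5 D130810)) (tt N45448 F336018) (tt N80054 F320278))
theorem Q68252 : ∀ i, i < 68252 → P i := stepQ 68251 Q68251 (allL N68251 (tt N37356 (iv1 F209367)) (tt N37355 F209368) (tt N37358 F209365) (tt N69402 (iv3 F214234)) (tt N60826 (iv4 F366056)) (tt N80054 F342148) (tt N60825 (iv6 F324037)) (tt N37354 (iv7 D130811)))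
theorem Q68253 : ∀ i, i < 68253 → P i := stepQ 68252 Q68252 (allL N68252 (tt N94030 (iv1 F402891)) (tt N78601 (iv0 F351652)) (tt N60011 (iv2 F359613)) (tt N37355 (iv3 D130813)) (tt N102284 (iv4 F436550)) (tt N59974 F330890) (tt N46346 F351662) (tt N60016 (iv7 F351676)))
theorem Q68254 : ∀ i, i < 68254 → P i := stepQ 68253 Q68253 (allL N68253 (tt N85061 F371501) (tt N78631 (iv0 F369371)) (tt N104120 (iv2 F444275)) (tt N75732 F365181) (tt N37355 (iv4 D130814)) (tt N85759 (iv5 F373812)) (tt N69403 (iv6 F365182)) (tt N104121 (iv7 F444283)))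
theorem Q68255 : ∀ i, i < 68255 → P i := stepQ 68254 Q68254 (allL N68254 (tt N104117 (iv1 F444262)) (tt N103622 (iv0 F444293)) (tt N104122 D207314) (tt N37356 (iv3 D130818)) (tt N104123 D207315) (tt N104124 D207316) (tt N104125 D207317) (tt N102784 F438641))
theorem Q68256 : ∀ i, i < 68256 → P i := stepQ 68255 Q68255 (allL N68255 (tt N78631 (iv1 F369370)) (tt N85061 F371502) (tt N104121 (iv2 F444280)) (tt N92233 (iv3 F396385)) (tt N37356 (iv4 D130819)) (tt N104126 D207318) (tt N85068 F371521) (tt N104120 (iv7 F444276)))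
theorem Q68257 : ∀ i, i < 68257 → P i := stepQ 68256 Q68256 (allL N68256 (tt N45813 (iv1 F330896)) (tt N67940 F330893) (tt N60015 (iv2 F336090)) (tt N104124 (iv3 F444300)) (tt N104127 D207319) (tt N37356 (iv5 D130820)) (tt N47291 F318969) (tt N44675 F330886))
theorem Q68258 : ∀ i, i < 68258 → P i := stepQ 68257 Q68257 (allL N68257 (tt N46418 F331837) (tt N78547 (iv0 F331836)) (tt N78603 (iv2 F331834)) (tt N104125 (iv3 F444307)) (tt N85068 (iv4 F371518)) (tt N54320 F331833) (tt N37356 (iv6 D130821)) (tt N69407 (iv7 F334630)))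
theorem Q68259 : ∀ i, i < 68259 → P i := stepQ 68258 Q68258 (allL N68258 (tt N104128 D207320) (tt N104095 (iv0 F444151)) (tt N104129 D207321) (tt N37359 (iv3 D130831)) (tt N37360 F209387) (tt N72102 F333870) (tt N39748 F333871) (tt N67649 F209389))
theorem Q68260 : ∀ i, i < 68260 → P i := stepQ 68259 Q68259 (allL N68259 (tt N69752 (iv1 F216060)) (tt N69953 F216354) (tt N69951 F216352) (tt N72102 F350363) (tt N104130 D207322) (tt N37359 (iv5 D130832)) (tt N52915 (iv6 F350362)) (tt N69408 (iv7 F214251)))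
theorem Q68261 : ∀ i, i < 68261 → P i := stepQ 68260 Q68260 (allL N68260 (tt N67648 (iv1 F209390)) (tt N37360 (iv0 D130833)) (tt N67647 (iv2 F359078)) (tt N104131 D207323) (tt N88793 F384164) (tt N64073 (iv5 F345360)) (tt N67767 (iv6 F359081)) (tt N67612 F359079))
theorem Q68262 : ∀ i, i < 68262 → P i := stepQ 68261 Q68261 (allL N68261 (tt N67647 (iv1 F209396)) (tt N67612 (iv0 F359073)) (tt N37360 (iv2 D130835)) (tt N67646 F209391) (tt N104129 (iv4 F444328)) (tt N50707 (iv5 F338713)) (tt N67646 F209392) (tt N67648 F209393))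
theorem Q68263 : ∀ i, i < 68263 → P i := stepQ 68262 Q68262 (allL N68262 (tt N39750 (iv1 F328978)) (tt N39187 F328558) (tt N39747 F333862) (tt N37361 (iv3 D130837)) (tt N37363 F209401) (tt N48661 F324219) (tt N104132 D207324) (tt N39748 (iv7 F333866)))
theorem Q68264 : ∀ i, i < 68264 → P i := stepQ 68263 Q68263 (allL N68263 (tt N101140 (iv1 F431896)) (tt N101005 (iv0 F431226)) (tt N52920 F341433) (tt N104132 (iv3 F444345)) (tt N37362 F209404) (tt N91118 (iv5 F392009)) (tt N37361 (iv6 D130839)) (tt N69409 (iv7 F214254)))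
theorem Q68265 : ∀ i, i < 68265 → P i := stepQ 68264 Q68264 (allL N68264 (tt N43324 F305440) (tt N43328 F305441) (tt N102832 (iv2 F438848)) (tt N37364 F209411) (tt N104132 (iv4 F444346)) (tt N65317 F305442) (tt N37363 (iv6 D130843)) (tt N65316 (iv7 F307030)))
theorem Q68266 : ∀ i, i < 68266 → P i := stepQ 68265 Q68265 (allL N68265 (tt N38333 (iv1 F215337)) (tt N68414 F215341) (tt N68413 F215339) (tt N37365 (iv3 D130844)) (tt N78308 (iv4 F247950)) (tt N72749 (iv5 F366104)) (tt N48473 F310915) (tt N46519 F304902))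
theorem Q68267 : ∀ i, i < 68267 → P i := stepQ 68266 Q68266 (allL N68266 (tt N64623 F306826) (tt N38335 F243084) (tt N47700 F306827) (tt N37367 (iv3 D130850)) (tt N43420 F243086) (tt N79271 F306828) (tt N66574 (iv6 F315957)) (tt N68411 (iv7 F243089)))
theorem Q68268 : ∀ i, i < 68268 → P i := stepQ 68267 Q68267 (allL N68267 (tt N37378 F209432) (tt N44508 F209433) (tt N44506 (iv2 F209431)) (tt N37370 (iv3 D130852)) (tt N64627 (iv4 F348254)) (tt N43348 F209428) (tt N44588 F209429) (tt N44505 F209430))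
theorem Q68269 : ∀ i, i < 68269 → P i := stepQ 68268 Q68268 (allL N68268 (tt N45303 F306214) (tt N75762 F233700) (tt N46571 (iv2 F308133)) (tt N45295 (iv3 F308198)) (tt N45575 F320831) (tt N37373 (iv5 D130857)) (tt N44889 F209443) (tt N41836 F209444))
theorem Q68270 : ∀ i, i < 68270 → P i := stepQ 68269 Q68269 (allL N68269 (tt N61355 F209446) (tt N38284 F209447) (tt N44500 F209445) (tt N86726 (iv3 F376916)) (tt N37375 (iv4 D130859)) (tt N94125 (iv5 F403327)) (tt N79899 (iv6 F333556)) (tt N68370 (iv7 F210008)))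
theorem Q68271 : ∀ i, i < 68271 → P i := stepQ 68270 Q68270 (allL N68270 (tt N99740 F425999) (tt N104133 D207325) (tt N44501 F209448) (tt N92978 (iv3 F398999)) (tt N79899 F364640) (tt N76679 (iv5 F239711)) (tt N37375 (iv6 D130860)) (tt N101049 (iv7 F431447)))
theorem Q68272 : ∀ i, i < 68272 → P i := stepQ 68271 Q68271 (allL N68271 (tt N68522 (iv1 F210754)) (tt N89715 (iv0 F387279)) (tt N44504 F209449) (tt N71328 F366495) (tt N92972 (iv4 F398975)) (tt N37377 (iv5 D130862)) (tt N104134 D207326) (tt N68393 (iv7 F210053)))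
theorem Q68273 : ∀ i, i < 68273 → P i := stepQ 68272 Q68272 (allL N68272 (tt N49460 F348273) (tt N82956 F348275) (tt N43818 (iv2 F307077)) (tt N42520 F307069) (tt N37378 F209451) (tt N104135 D207327) (tt N37377 (iv6 D130863)) (tt N42542 F307070))
theorem Q68274 : ∀ i, i < 68274 → P i := stepQ 68273 Q68273 (allL N68273 (tt N44506 (iv1 F209459)) (tt N44505 F209460) (tt N44508 F209457) (tt N48495 (iv3 F307419)) (tt N42542 F305579) (tt N63677 F209458) (tt N46105 (iv6 F307613)) (tt N37378 (iv7 D130865)))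
theorem Q68275 : ∀ i, i < 68275 → P i := stepQ 68274 Q68274 (allL N68274 (tt N76084 (iv1 F342641)) (tt N80605 F342642) (tt N89130 (iv2 F385281)) (tt N37379 (iv3 D130866)) (tt N57460 F209461) (tt N101360 (iv5 F432777)) (tt N104136 D207328) (tt N69565 (iv7 F214880)))
theorem Q68276 : ∀ i, i < 68276 → P i := stepQ 68275 Q68275 (allL N68275 (tt N64308 (iv1 F335232)) (tt N73984 F335231) (tt N69568 (iv2 F214903)) (tt N104136 (iv3 F444366)) (tt N57459 F209463) (tt N72502 (iv5 F356867)) (tt N37379 (iv6 D130868)) (tt N80595 F335233))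
theorem Q68277 : ∀ i, i < 68277 → P i := stepQ 68276 Q68276 (allL N68276 (tt N64036 (iv1 F209465)) (tt N37380 (iv0 D130869)) (tt N64817 (iv2 F314232)) (tt N104137 D207329) (tt N104026 (iv4 F443852)) (tt N38294 F209464) (tt N104138 D207330) (tt N64631 (iv7 F314237)))
theorem Q68278 : ∀ i, i < 68278 → P i := stepQ 68277 Q68277 (allL N68277 (tt N37380 (iv1 D130870)) (tt N64036 F209466) (tt N64631 (iv2 F314236)) (tt N77309 F342618) (tt N104024 (iv4 F443843)) (tt N38295 F209467) (tt N100494 (iv6 F429172)) (tt N64817 (iv7 F314234)))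
theorem Q68279 : ∀ i, i < 68279 → P i := stepQ 68278 Q68278 (allL N68278 (tt N92972 (iv1 F398977)) (tt N94125 (iv0 F403329)) (tt N64845 (iv2 F314241)) (tt N104139 D207331) (tt N37380 (iv4 D130871)) (tt N64035 F209468) (tt N104140 D207332) (tt N69569 (iv7 F214908)))
theorem Q68280 : ∀ i, i < 68280 → P i := stepQ 68279 Q68279 (allL N68279 (tt N104141 D207333) (tt N104142 D207334) (tt N64846 (iv2 F366698)) (tt N103936 (iv3 F443446)) (tt N104140 (iv4 F444384)) (tt N104143 D207335) (tt N37380 (iv6 D130872)) (tt N104144 D207336))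
theorem Q68281 : ∀ i, i < 68281 → P i := stepQ 68280 Q68280 (allL N68280 (tt N80518 (iv1 F358466)) (tt N37381 (iv0 D130873)) (tt N100313 F431274) (tt N104145 D207337) (tt N103061 (iv4 F439904)) (tt N101015 (iv5 F431272)) (tt N80502 (iv6 F431273)) (tt N100314 (iv7 F431275)))
theorem Q68282 : ∀ i, i < 68282 → P i := stepQ 68281 Q68281 (allL N68281 (tt N37381 (iv1 D130874)) (tt N80518 F358462) (tt N100314 (iv2 F431277)) (tt N104146 D207338) (tt N103062 F439910) (tt N101014 (iv5 F439914)) (tt N104147 D207339) (tt N100313 F431276))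
theorem Q68283 : ∀ i, i < 68283 → P i := stepQ 68282 Q68282 (allL N68282 (tt N104148 D207340) (tt N94487 F404695) (tt N70343 F358467) (tt N54251 (iv3 F366669)) (tt N104149 D207341) (tt N37381 (iv5 D130875)) (tt N104143 (iv6 F444397)) (tt N104150 D207342))
theorem Q68284 : ∀ i, i < 68284 → P i := stepQ 68283 Q68283 (allL N68283 (tt N100314 (iv1 F428393)) (tt N100313 F428391) (tt N80518 F358460) (tt N103937 (iv3 F443452)) (tt N37384 F209469) (tt N104150 (iv5 F444427)) (tt N69573 (iv6 F214910)) (tt N37381 (iv7 D130876)))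
theorem Q68285 : ∀ i, i < 68285 → P i := stepQ 68284 Q68284 (allL N68284 (tt N77630 F335008) (tt N44491 F335009) (tt N44553 F237548) (tt N37382 (iv3 D130878)) (tt N99945 (iv4 F426908)) (tt N92575 (iv5 F397442)) (tt N75796 F354315) (tt N79096 (iv7 F252504)))
theorem Q68286 : ∀ i, i < 68286 → P i := stepQ 68285 Q68285 (allL N68285 (tt N89720 (iv1 F387299)) (tt N89716 (iv0 F387283)) (tt N89718 F387288) (tt N72118 F361075) (tt N37382 (iv4 D130879)) (tt N88660 F383768) (tt N52878 F354316) (tt N89719 (iv7 F387292)))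
theorem Q68287 : ∀ i, i < 68287 → P i := stepQ 68286 Q68286 (allL N68286 (tt N82563 (iv1 F354313)) (tt N62930 (iv0 F227689)) (tt N100315 (iv2 F428395)) (tt N92575 (iv3 F397444)) (tt N104151 D207343) (tt N37382 (iv5 D130880)) (tt N104152 D207344) (tt N62982 F237561))
theorem Q68288 : ∀ i, i < 68288 → P i := stepQ 68287 Q68287 (allL N68287 (tt N89716 F387284) (tt N89720 F387298) (tt N89719 F387294) (tt N77229 F358463) (tt N37383 (iv4 D130884)) (tt N77227 (iv5 F358464)) (tt N89453 (iv6 F386555)) (tt N89718 F387291))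
theorem Q68289 : ∀ i, i < 68289 → P i := stepQ 68288 Q68288 (allL N68288 (tt N62930 F360897) (tt N82563 (iv0 F354310)) (tt N62982 F237562) (tt N44555 F237549) (tt N104153 D207345) (tt N37383 (iv5 D130885)) (tt N62844 (iv6 F209472)) (tt N100315 (iv7 F428398)))
theorem Q68290 : ∀ i, i < 68290 → P i := stepQ 68289 Q68289 (allL N68289 (tt N77706 F244733) (tt N80359 (iv0 F360898)) (tt N100316 (iv2 F428402)) (tt N44349 F313917) (tt N89453 (iv4 F386554)) (tt N44348 F313918) (tt N37383 (iv6 D130886)) (tt N62221 F313919))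
theorem Q68291 : ∀ i, i < 68291 → P i := stepQ 68290 Q68290 (allL N68290 (tt N100144 F427681) (tt N68503 (iv0 F337065)) (tt N95781 (iv2 F409602)) (tt N102803 F438711) (tt N37385 (iv4 D130890)) (tt N60069 (iv5 F351642)) (tt N60071 F351641) (tt N69419 (iv7 F214305)))
theorem Q68292 : ∀ i, i < 68292 → P i := stepQ 68291 Q68291 (allL N68291 (tt N74994 F237501) (tt N63008 (iv0 F237491)) (tt N100142 (iv2 F427659)) (tt N37387 F209473) (tt N101178 (iv4 F432068)) (tt N37385 (iv5 D130891)) (tt N75170 (iv6 F314054)) (tt N63068 F209474))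
theorem Q68293 : ∀ i, i < 68293 → P i := stepQ 68292 Q68292 (allL N68292 (tt N73973 (iv1 F340959)) (tt N75603 F340958) (tt N75607 (iv2 F337171)) (tt N37388 F209475) (tt N60071 F337177) (tt N44016 F317639) (tt N37385 (iv6 D130892)) (tt N74355 (iv7 F322641)))
theorem Q68294 : ∀ i, i < 68294 → P i := stepQ 68293 Q68293 (allL N68293 (tt N37389 (iv1 D130897)) (tt N43125 (iv0 F247746)) (tt N43126 F247741) (tt N77630 F247742) (tt N83278 (iv4 F348246)) (tt N41782 F247743) (tt N43130 F247744) (tt N41781 F247745))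
theorem Q68295 : ∀ i, i < 68295 → P i := stepQ 68294 Q68294 (allL N68294 (tt N41781 (iv1 F328584)) (tt N43126 (iv0 F328585)) (tt N37389 (iv2 D130898)) (tt N69418 (iv3 F214300)) (tt N94165 (iv4 F403501)) (tt N74870 F328207) (tt N104154 D207346) (tt N43125 (iv7 F247748)))
theorem Q68296 : ∀ i, i < 68296 → P i := stepQ 68295 Q68295 (allL N68295 (tt N43132 F247739) (tt N94164 F403497) (tt N94165 F403502) (tt N104155 D207347) (tt N37389 (iv4 D130899)) (tt N101502 F433172) (tt N104156 D207348) (tt N64397 (iv7 F332476)))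
theorem Q68297 : ∀ i, i < 68297 → P i := stepQ 68296 Q68296 (allL N68296 (tt N77695 F252458) (tt N73953 (iv0 F349701)) (tt N104154 (iv2 F444447)) (tt N37391 F209483) (tt N104156 (iv4 F444459)) (tt N75670 (iv5 F233352)) (tt N37389 (iv6 D130900)) (tt N104157 D207349))
theorem Q68298 : ∀ i, i < 68298 → P i := stepQ 68297 Q68297 (allL N68297 (tt N43161 F353871) (tt N70535 F353872) (tt N70533 (iv2 F358556)) (tt N37390 (iv3 D130901)) (tt N104155 (iv4 F444453)) (tt N63801 (iv5 F359169)) (tt N100508 (iv6 F429239)) (tt N67765 F209484))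
theorem Q68299 : ∀ i, i < 68299 → P i := stepQ 68298 Q68298 (allL N68298 (tt N43166 (iv1 F209491)) (tt N63780 F209492) (tt N69421 (iv2 F214307)) (tt N104157 (iv3 F444465)) (tt N70556 (iv4 F217784)) (tt N65299 F209489) (tt N43155 F209490) (tt N37391 (iv7 D130904)))
theorem Q68300 : ∀ i, i < 68300 → P i := stepQ 68299 Q68299 (allL N68299 (tt N56593 (iv1 F209495)) (tt N37393 (iv0 D130905)) (tt N56825 (iv2 F209496)) (tt N69429 (iv3 F214353)) (tt N68936 (iv4 F211944)) (tt N56376 F209493) (tt N56695 F209494) (tt N56826 (iv7 F209497)))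
theorem Q68301 : ∀ i, i < 68301 → P i := stepQ 68300 Q68300 (allL N68300 (tt N37393 (iv1 D130906)) (tt N56593 F209498) (tt N56826 (iv2 F209503)) (tt N38443 F209501) (tt N68937 (iv4 F211953)) (tt N56849 (iv5 F209500)) (tt N56574 F209502) (tt N56825 F209499))
theorem Q68302 : ∀ i, i < 68302 → P i := stepQ 68301 Q68301 (allL N68301 (tt N69359 (iv1 F214012)) (tt N37394 (iv0 D130907)) (tt N39071 (iv2 F209505)) (tt N85048 F371458) (tt N79888 F333456) (tt N39068 F209504) (tt N97535 (iv6 F417293)) (tt N39076 (iv7 F209506)))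
theorem Q68303 : ∀ i, i < 68303 → P i := stepQ 68302 Q68302 (allL N68302 (tt N37394 (iv1 D130908)) (tt N69359 F214013) (tt N39076 (iv2 F209508)) (tt N69391 (iv3 F214107)) (tt N103304 (iv4 F441056)) (tt N39073 (iv5 F209509)) (tt N104158 D207350) (tt N39071 F209507))
theorem Q68304 : ∀ i, i < 68304 → P i := stepQ 68303 Q68303 (allL N68303 (tt N39071 (iv1 F209514)) (tt N39076 F209513) (tt N37394 (iv2 D130909)) (tt N37395 F209511) (tt N65908 (iv4 F330456)) (tt N37394 (iv5 F209515)) (tt N83648 (iv6 F335804)) (tt N69359 (iv7 F214011)))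
theorem Q68305 : ∀ i, i < 68305 → P i := stepQ 68304 Q68304 (allL N68304 (tt N50960 F335786) (tt N50948 F335792) (tt N83648 F335787) (tt N37396 F209516) (tt N67261 F209517) (tt N49226 F335788) (tt N37394 (iv6 D130910)) (tt N50804 F335789))
theorem Q68306 : ∀ i, i < 68306 → P i := stepQ 68305 Q68305 (allL N68305 (tt N85021 F371390) (tt N85052 (iv0 F371467)) (tt N69356 (iv2 F213983)) (tt N83648 F335805) (tt N67787 F209518) (tt N83646 (iv5 F363896)) (tt N37395 (iv6 D130911)) (tt N75694 F363898))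
theorem Q68307 : ∀ i, i < 68307 → P i := stepQ 68306 Q68306 (allL N68306 (tt N50936 F335794) (tt N50955 (iv0 F335799)) (tt N49057 (iv2 F335801)) (tt N49226 F335795) (tt N48819 F335796) (tt N37396 (iv5 D130914)) (tt N83646 F335797) (tt N48968 F335798))
theorem Q68308 : ∀ i, i < 68308 → P i := stepQ 68307 Q68307 (allL N68307 (tt N37399 (iv1 D130917)) (tt N50203 (iv0 F323239)) (tt N38006 (iv2 F209524)) (tt N70620 (iv3 F217973)) (tt N104159 D207351) (tt N38002 (iv5 F209525)) (tt N104160 D207352) (tt N67937 F209523))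
theorem Q68309 : ∀ i, i < 68309 → P i := stepQ 68308 Q68308 (allL N68308 (tt N67937 (iv1 F209531)) (tt N38006 F209530) (tt N37399 (iv2 D130918)) (tt N45050 (iv3 F325760)) (tt N70264 (iv4 F217096)) (tt N37404 F209528) (tt N45049 F324651) (tt N50203 F324652))
theorem Q68310 : ∀ i, i < 68310 → P i := stepQ 68309 Q68309 (allL N68309 (tt N45050 F326585) (tt N37401 (iv0 D130922)) (tt N60813 (iv2 F343653)) (tt N104161 D207353) (tt N97923 (iv4 F418819)) (tt N60742 F326586) (tt N104072 (iv6 F444038)) (tt N60817 (iv7 F343657)))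
theorem Q68311 : ∀ i, i < 68311 → P i := stepQ 68310 Q68310 (allL N68310 (tt N37401 (iv1 D130923)) (tt N45050 F326587) (tt N60817 F343658) (tt N55706 (iv3 F343651)) (tt N97922 (iv4 F418812)) (tt N92635 (iv5 F397709)) (tt N104162 D207354) (tt N60813 F343652))
theorem Q68312 : ∀ i, i < 68312 → P i := stepQ 68311 Q68311 (allL N68311 (tt N60813 (iv1 F343656)) (tt N60817 (iv0 F325759)) (tt N37401 (iv2 D130924)) (tt N50203 F324647) (tt N68870 (iv4 F211786)) (tt N55708 F324648) (tt N50179 F324649) (tt N45050 (iv7 F325761)))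
theorem Q68313 : ∀ i, i < 68313 → P i := stepQ 68312 Q68312 (allL N68312 (tt N50177 F326588) (tt N50176 F326589) (tt N50179 F326590) (tt N37403 F209538) (tt N68872 (iv4 F211793)) (tt N50172 F326591) (tt N37401 (iv6 D130926)) (tt N45048 F326592))
theorem Q68314 : ∀ i, i < 68314 → P i := stepQ 68313 Q68313 (allL N68313 (tt N67620 (iv1 F209544)) (tt N67613 (iv0 F214128)) (tt N37897 F209542) (tt N67626 (iv3 F209545)) (tt N37404 (iv4 D130931)) (tt N64830 (iv5 F357922)) (tt N55705 F357923) (tt N67621 F209543))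
theorem Q68315 : ∀ i, i < 68315 → P i := stepQ 68314 Q68314 (allL N68314 (tt N38837 (iv1 F209552)) (tt N66079 F209551) (tt N37407 F209549) (tt N70732 (iv3 F218198)) (tt N70176 (iv4 F216907)) (tt N37406 (iv5 D130934)) (tt N104163 D207355) (tt N66078 F209550))
theorem Q68316 : ∀ i, i < 68316 → P i := stepQ 68315 Q68315 (allL N68315 (tt N104076 (iv1 F444057)) (tt N69531 (iv0 F366067)) (tt N37408 F209553) (tt N62806 (iv3 F327874)) (tt N37429 F209554) (tt N89882 F387853) (tt N37406 (iv6 D130935)) (tt N74910 (iv7 F365177)))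
theorem Q68317 : ∀ i, i < 68317 → P i := stepQ 68316 Q68316 (allL N68316 (tt N98036 F419260) (tt N70365 (iv0 F217588)) (tt N70176 F216908) (tt N102435 (iv3 F437220)) (tt N37407 (iv4 D130936)) (tt N64853 (iv5 F358065)) (tt N77212 F358066) (tt N69362 (iv7 F214052)))
theorem Q68318 : ∀ i, i < 68318 → P i := stepQ 68317 Q68317 (allL N68317 (tt N90405 (iv1 F389540)) (tt N70635 F358069) (tt N104163 (iv2 F444496)) (tt N37409 F209555) (tt N77212 (iv4 F358068)) (tt N104164 D207356) (tt N37407 (iv6 D130937)) (tt N104165 D207357))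
theorem Q68319 : ∀ i, i < 68319 → P i := stepQ 68318 Q68318 (allL N68318 (tt N74910 (iv1 F365179)) (tt N37408 (iv0 D130938)) (tt N104076 (iv2 F444052)) (tt N104166 D207358) (tt N102825 (iv4 F438817)) (tt N104167 D207359) (tt N85954 F374598) (tt N69531 F365180))
theorem Q68320 : ∀ i, i < 68320 → P i := stepQ 68319 Q68319 (allL N68319 (tt N84910 (iv1 F371994)) (tt N89880 F387841) (tt N89882 (iv2 F387854)) (tt N37411 F209556) (tt N56780 F336038) (tt N37408 (iv5 D130940)) (tt N104164 (iv6 F444500)) (tt N89881 F387847))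
theorem Q68321 : ∀ i, i < 68321 → P i := stepQ 68320 Q68320 (allL N68320 (tt N69531 (iv1 F366069)) (tt N104076 F444056) (tt N74910 F365178) (tt N37412 F209557) (tt N37431 F209558) (tt N89881 (iv5 F387845)) (tt N69367 (iv6 F214057)) (tt N37408 (iv7 D130941)))
theorem Q68322 : ∀ i, i < 68322 → P i := stepQ 68321 Q68321 (allL N68321 (tt N60735 (iv1 F366027)) (tt N37409 (iv0 D130942)) (tt N60737 (iv2 F366033)) (tt N91046 (iv3 F391739)) (tt N102509 (iv4 F437471)) (tt N101034 (iv5 F431382)) (tt N91044 F391733) (tt N60725 F366032))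
theorem Q68323 : ∀ i, i < 68323 → P i := stepQ 68322 Q68322 (allL N68322 (tt N104168 D207360) (tt N104169 D207361) (tt N70737 (iv2 F218216)) (tt N104164 (iv3 F444499)) (tt N104170 D207362) (tt N37409 (iv5 D130944)) (tt N37411 F209559) (tt N104171 D207363))
theorem Q68324 : ∀ i, i < 68324 → P i := stepQ 68323 Q68323 (allL N68323 (tt N60725 (iv1 F363941)) (tt N60737 (iv0 F363938)) (tt N60735 (iv2 F366028)) (tt N104165 (iv3 F444503)) (tt N67785 F345881) (tt N104171 (iv5 F444523)) (tt N69371 (iv6 F214059)) (tt N37409 (iv7 D130945)))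
theorem Q68325 : ∀ i, i < 68325 → P i := stepQ 68324 Q68324 (allL N68324 (tt N104172 D207364) (tt N104160 F444480) (tt N104173 D207365) (tt N37410 (iv3 D130946)) (tt N70316 (iv4 F217165)) (tt N96358 F412228) (tt N85981 F374734) (tt N69525 F214613))
theorem Q68326 : ∀ i, i < 68326 → P i := stepQ 68325 Q68325 (allL N68325 (tt N76691 (iv1 F354443)) (tt N73413 F224774) (tt N70739 (iv2 F218226)) (tt N96358 (iv3 F412226)) (tt N62039 (iv4 F349535)) (tt N37410 (iv5 D130947)) (tt N104174 D207366) (tt N69527 (iv7 F214616)))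
theorem Q68327 : ∀ i, i < 68327 → P i := stepQ 68326 Q68326 (allL N68326 (tt N70743 (iv1 F218237)) (tt N37411 (iv0 D130948)) (tt N70740 (iv2 F218316)) (tt N53674 F354418) (tt N69719 (iv4 F354330)) (tt N98730 (iv5 F422055)) (tt N53673 (iv6 F354420)) (tt N70741 (iv7 F218317)))
theorem Q68328 : ∀ i, i < 68328 → P i := stepQ 68327 Q68327 (allL N68327 (tt N37411 (iv1 D130949)) (tt N70743 F218236) (tt N70741 F218313) (tt N104175 D207367) (tt N95935 (iv4 F410337)) (tt N70770 (iv5 F218312)) (tt N104176 D207368) (tt N70740 F218314))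
theorem Q68329 : ∀ i, i < 68329 → P i := stepQ 68328 Q68328 (allL N68328 (tt N96699 F413518) (tt N104177 D207369) (tt N70742 (iv2 F218232)) (tt N53819 (iv3 F350406)) (tt N37411 (iv4 D130950)) (tt N62034 (iv5 F330532)) (tt N104170 (iv6 F444519)) (tt N104178 D207370))
theorem Q68330 : ∀ i, i < 68330 → P i := stepQ 68329 Q68329 (allL N68329 (tt N70741 (iv1 F218229)) (tt N70740 F218235) (tt N70743 (iv2 F218233)) (tt N89881 (iv3 F387848)) (tt N104178 (iv4 F444552)) (tt N37412 F209560) (tt N100441 F428986) (tt N37411 (iv7 D130951)))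
theorem Q68331 : ∀ i, i < 68331 → P i := stepQ 68330 Q68330 (allL N68330 (tt N70657 F355295) (tt N39058 F355296) (tt N70655 F364477) (tt N37414 (iv3 D130952)) (tt N102545 (iv4 F437592)) (tt N98388 F420745) (tt N104056 (iv6 F443954)) (tt N62001 F209561))
theorem Q68332 : ∀ i, i < 68332 → P i := stepQ 68331 Q68331 (allL N68331 (tt N97969 (iv1 F419020)) (tt N43358 F363795) (tt N70745 (iv2 F218239)) (tt N98388 (iv3 F420746)) (tt N104179 D207371) (tt N37414 (iv5 D130953)) (tt N104180 D207372) (tt N62002 F209562))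
theorem Q68333 : ∀ i, i < 68333 → P i := stepQ 68332 Q68332 (allL N68332 (tt N70296 (iv1 F217152)) (tt N38173 (iv0 F209564)) (tt N70294 F217139) (tt N37415 (iv3 D130954)) (tt N74729 (iv4 F228683)) (tt N98714 (iv5 F421981)) (tt N62160 F209563) (tt N70295 F217136))
theorem Q68334 : ∀ i, i < 68334 → P i := stepQ 68333 Q68333 (allL N68333 (tt N77870 (iv1 F245182)) (tt N77808 F245031) (tt N70746 (iv2 F218241)) (tt N103215 F440611) (tt N37415 (iv4 D130955)) (tt N99089 (iv5 F423300)) (tt N62165 F209565) (tt N70747 (iv7 F218247)))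
theorem Q68335 : ∀ i, i < 68335 → P i := stepQ 68334 Q68334 (allL N68334 (tt N77808 F245030) (tt N77870 F245181) (tt N70747 (iv2 F218245)) (tt N104181 D207373) (tt N37416 (iv4 D130956)) (tt N99088 (iv5 F423290)) (tt N40172 F209566) (tt N70746 (iv7 F218242)))
theorem Q68336 : ∀ i, i < 68336 → P i := stepQ 68335 Q68335 (allL N68335 (tt N62035 (iv1 F330534)) (tt N37417 (iv0 D130957)) (tt N61815 (iv2 F330577)) (tt N62129 F357061) (tt N68654 F217196) (tt N72640 (iv5 F330573)) (tt N98984 (iv6 F422913)) (tt N62123 (iv7 F330585)))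
theorem Q68337 : ∀ i, i < 68337 → P i := stepQ 68336 Q68336 (allL N68336 (tt N62107 F404292) (tt N104182 D207374) (tt N48004 F313717) (tt N37417 (iv3 D130959)) (tt N37437 F209567) (tt N62030 F360884) (tt N37419 F209568) (tt N73205 (iv7 F360866)))
theorem Q68338 : ∀ i, i < 68338 → P i := stepQ 68337 Q68337 (allL N68337 (tt N47988 (iv1 F314631)) (tt N37419 (iv0 D130961)) (tt N48000 (iv2 F316103)) (tt N78022 (iv3 F245576)) (tt N78124 (iv4 F246084)) (tt N78002 (iv5 F245542)) (tt N98876 (iv6 F422668)) (tt N48001 (iv7 F316102)))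
theorem Q68339 : ∀ i, i < 68339 → P i := stepQ 68338 Q68338 (allL N68338 (tt N99242 F423827) (tt N104183 D207375) (tt N70753 (iv2 F218269)) (tt N77960 (iv3 F245437)) (tt N94338 (iv4 F404079)) (tt N62032 (iv5 F365197)) (tt N37420 (iv6 D130963)) (tt N99151 (iv7 F423486)))
theorem Q68340 : ∀ i, i < 68340 → P i := stepQ 68339 Q68339 (allL N68339 (tt N37421 (iv1 D130971)) (tt N68900 F211858) (tt N68957 (iv2 F217704)) (tt N69546 (iv3 F214729)) (tt N67741 (iv4 F213632)) (tt N69304 (iv5 F217681)) (tt N102769 (iv6 F438566)) (tt N69388 (iv7 F217690)))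
theorem Q68341 : ∀ i, i < 68341 → P i := stepQ 68340 Q68340 (allL N68340 (tt N38060 (iv1 F210251)) (tt N80863 (iv0 F341989)) (tt N69620 (iv2 F215119)) (tt N37423 F209581) (tt N67904 F209582) (tt N37421 (iv5 D130973)) (tt N80826 F362982) (tt N67950 F209617))
theorem Q68342 : ∀ i, i < 68342 → P i := stepQ 68341 Q68341 (allL N68341 (tt N37426 (iv1 F209680)) (tt N37422 (iv0 D130975)) (tt N69391 (iv2 F214111)) (tt N70501 (iv3 F217589)) (tt N68226 F209679) (tt N70500 F217584) (tt N104184 D207376) (tt N69390 (iv7 F214114)))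
theorem Q68343 : ∀ i, i < 68343 → P i := stepQ 68342 Q68342 (allL N68342 (tt N37422 (iv1 D130976)) (tt N37426 F209681) (tt N69390 F214112) (tt N39071 F212511) (tt N69041 (iv4 F212510)) (tt N39069 (iv5 F212512)) (tt N104118 (iv6 F444265)) (tt N69391 F214109))
theorem Q68344 : ∀ i, i < 68344 → P i := stepQ 68343 Q68343 (allL N68343 (tt N74918 F317736) (tt N66073 (iv0 F209692)) (tt N74919 F317737) (tt N37426 (iv3 D130992)) (tt N71803 F359675) (tt N70669 (iv5 F218087)) (tt N49233 F317738) (tt N62849 (iv7 F319939)))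
theorem Q68345 : ∀ i, i < 68345 → P i := stepQ 68344 Q68344 (allL N68344 (tt N102772 F438578) (tt N102769 (iv0 F438565)) (tt N66293 F362001) (tt N37430 (iv3 D131006)) (tt N103533 (iv4 F441962)) (tt N66292 (iv5 F362000)) (tt N104116 (iv6 F444257)) (tt N69542 F362002))
theorem Q68346 : ∀ i, i < 68346 → P i := stepQ 68345 Q68345 (allL N68345 (tt N104119 (iv1 F444270)) (tt N104118 F444266) (tt N102780 (iv2 F438610)) (tt N98263 (iv3 F420233)) (tt N37430 (iv4 D131007)) (tt N72933 (iv5 F346550)) (tt N85063 F371514) (tt N69545 F346551))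
theorem Q68347 : ∀ i, i < 68347 → P i := stepQ 68346 Q68346 (allL N68346 (tt N66299 F346543) (tt N66298 F346544) (tt N39392 F346545) (tt N66292 F346546) (tt N56899 F346547) (tt N37430 (iv5 D131008)) (tt N81148 (iv6 F346549)) (tt N65143 F346548))
theorem Q68348 : ∀ i, i < 68348 → P i := stepQ 68347 Q68347 (allL N68347 (tt N38477 F209720) (tt N38476 (iv0 F209721)) (tt N38479 F209717) (tt N50007 F349667) (tt N37432 (iv4 D131028)) (tt N54197 (iv5 F345482)) (tt N38455 F209718) (tt N38412 F209719))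
theorem Q68349 : ∀ i, i < 68349 → P i := stepQ 68348 Q68348 (allL N68348 (tt N39196 F330991) (tt N39192 F330992) (tt N37434 F209722) (tt N39766 F326700) (tt N37433 (iv4 D131029)) (tt N70892 F326701) (tt N70252 (iv6 F217074)) (tt N38480 F209723))
theorem Q68350 : ∀ i, i < 68350 → P i := stepQ 68349 Q68349 (allL N68349 (tt N38480 (iv1 F209728)) (tt N37434 (iv0 D131030)) (tt N39196 (iv2 F330987)) (tt N91052 (iv3 F391765)) (tt N58954 F209726) (tt N39194 F330986) (tt N52914 (iv6 F325954)) (tt N39192 (iv7 F330988)))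
theorem Q68351 : ∀ i, i < 68351 → P i := stepQ 68350 Q68350 (allL N68350 (tt N40401 (iv1 F216239)) (tt N39902 (iv0 F209743)) (tt N72633 (iv2 F222781)) (tt N99637 (iv3 F425530)) (tt N37435 (iv4 D131038)) (tt N97028 (iv5 F415105)) (tt N62568 F209742) (tt N69558 (iv7 F214871)))
theorem Q68352 : ∀ i, i < 68352 → P i := stepQ 68351 Q68351 (allL N68351 (tt N39864 F209747) (tt N69556 (iv0 F328654)) (tt N70319 (iv2 F217181)) (tt N92139 (iv3 F395922)) (tt N37436 (iv4 D131040)) (tt N69998 F350272) (tt N40082 F209746) (tt N69557 (iv7 F214867)))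
theorem Q68353 : ∀ i, i < 68353 → P i := stepQ 68352 Q68352 (allL N68352 (tt N37437 (iv1 D131043)) (tt N48008 F313719) (tt N48006 F313720) (tt N75325 F313721) (tt N61871 F349430) (tt N62994 F313722) (tt N40182 F349379) (tt N48005 F313723))
theorem Q68354 : ∀ i, i < 68354 → P i := stepQ 68353 Q68353 (allL N68353 (tt N77891 F246102) (tt N72188 F246106) (tt N47999 F313696) (tt N77871 (iv3 F245183)) (tt N37438 (iv4 D131052)) (tt N82100 F313697) (tt N43350 F313698) (tt N47997 F313699))
theorem Q68355 : ∀ i, i < 68355 → P i := stepQ 68354 Q68354 (allL N68354 (tt N75800 F308521) (tt N73944 (iv0 F338962)) (tt N44519 F209792) (tt N37442 F209793) (tt N64274 (iv4 F310625)) (tt N43528 F209794) (tt N37441 (iv6 D131073)) (tt N48410 F308522))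
theorem Q68356 : ∀ i, i < 68356 → P i := stepQ 68355 Q68355 (allL N68355 (tt N43129 (iv1 F232708)) (tt N37443 (iv0 D131088)) (tt N43130 (iv2 F232715)) (tt N52368 (iv3 F335218)) (tt N53242 F335219) (tt N44548 F309953) (tt N43126 (iv6 F232717)) (tt N43016 F232714))
theorem Q68357 : ∀ i, i < 68357 → P i := stepQ 68356 Q68356 (allL N68356 (tt N63632 (iv1 F209936)) (tt N63631 F209937) (tt N63633 F209933) (tt N37445 F209934) (tt N47703 (iv4 F308187)) (tt N37443 (iv5 D131090)) (tt N47701 F306189) (tt N63628 F209935))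
theorem Q68358 : ∀ i, i < 68358 → P i := stepQ 68357 Q68357 (allL N68357 (tt N54039 (iv1 F352966)) (tt N83253 F359396) (tt N82038 (iv2 F363119)) (tt N37446 F209938) (tt N78730 (iv4 F359392)) (tt N40024 (iv5 F209939)) (tt N37443 (iv6 D131091)) (tt N80592 F342601))
theorem Q68359 : ∀ i, i < 68359 → P i := stepQ 68358 Q68358 (allL N68358 (tt N70528 F345833) (tt N43164 F345834) (tt N70527 (iv2 F357454)) (tt N37444 (iv3 D131092)) (tt N53555 (iv4 F351958)) (tt N64249 F345835) (tt N104185 D207377) (tt N67645 F209940))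
theorem Q68360 : ∀ i, i < 68360 → P i := stepQ 68359 Q68359 (allL N68359 (tt N38645 F215329) (tt N70561 F217817) (tt N67644 F209943) (tt N104185 (iv3 F444578)) (tt N37446 F209944) (tt N64250 (iv5 F319112)) (tt N37444 (iv6 D131094)) (tt N70559 (iv7 F217807)))
theorem Q68361 : ∀ i, i < 68361 → P i := stepQ 68360 Q68360 (allL N68360 (tt N41034 F305054) (tt N57421 (iv0 F209950)) (tt N63655 F209947) (tt N47701 F302787) (tt N63733 F305055) (tt N56116 (iv5 F305149)) (tt N37445 (iv6 D131096)) (tt N63653 F209948))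
theorem Q68362 : ∀ i, i < 68362 → P i := stepQ 68361 Q68361 (allL N68361 (tt N69577 (iv1 F214925)) (tt N43167 (iv0 F210287)) (tt N69578 (iv2 F214931)) (tt N80592 F342600) (tt N70559 (iv4 F217804)) (tt N37488 F209954) (tt N43152 F209955) (tt N37446 (iv7 D131098)))
theorem Q68363 : ∀ i, i < 68363 → P i := stepQ 68362 Q68362 (allL N68362 (tt N38632 F353089) (tt N45443 F353088) (tt N46788 F330270) (tt N37447 (iv3 D131099)) (tt N76547 F330271) (tt N65068 (iv5 F353081)) (tt N44731 F330273) (tt N67643 F209956))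
theorem Q68364 : ∀ i, i < 68364 → P i := stepQ 68363 Q68363 (allL N68363 (tt N37497 (iv1 F209977)) (tt N37450 (iv0 D131106)) (tt N44583 (iv2 F209978)) (tt N38278 F214985) (tt N46652 (iv4 F311840)) (tt N75608 F346193) (tt N43459 F209976) (tt N46652 (iv7 F311842)))
theorem Q68365 : ∀ i, i < 68365 → P i := stepQ 68364 Q68364 (allL N68364 (tt N37450 (iv1 D131107)) (tt N37497 F209979) (tt N46652 (iv2 F311839)) (tt N76450 F238916) (tt N44583 F209982) (tt N73968 (iv5 F346201)) (tt N44582 (iv6 F209981)) (tt N44583 F209980))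
theorem Q68366 : ∀ i, i < 68366 → P i := stepQ 68365 Q68365 (allL N68365 (tt N69640 (iv1 F215277)) (tt N47941 F309919) (tt N47985 (iv2 F310019)) (tt N37452 F209983) (tt N69630 (iv4 F215205)) (tt N40954 F348319) (tt N37451 (iv6 D131108)) (tt N69628 (iv7 F215201)))
theorem Q68367 : ∀ i, i < 68367 → P i := stepQ 68366 Q68366 (allL N68366 (tt N63418 F209997) (tt N63417 F209998) (tt N68143 F209995) (tt N104186 D207378) (tt N37455 (iv4 D131113)) (tt N101358 (iv5 F432768)) (tt N68373 (iv6 F383012)) (tt N68141 F209996))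
theorem Q68368 : ∀ i, i < 68368 → P i := stepQ 68367 Q68367 (allL N68367 (tt N85797 (iv1 F373993)) (tt N70791 (iv0 F363754)) (tt N68144 F209999) (tt N93138 (iv3 F399642)) (tt N68373 F383014) (tt N97957 (iv5 F418961)) (tt N37455 (iv6 D131114)) (tt N104187 D207379))
theorem Q68369 : ∀ i, i < 68369 → P i := stepQ 68368 Q68368 (allL N68368 (tt N63417 F210002) (tt N63418 F210003) (tt N68141 F210000) (tt N52010 F361789) (tt N37456 (iv4 D131115)) (tt N101167 (iv5 F432017)) (tt N79993 (iv6 F379492)) (tt N68143 F210001))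
theorem Q68370 : ∀ i, i < 68370 → P i := stepQ 68369 Q68369 (allL N68369 (tt N98274 F420284) (tt N104188 D207380) (tt N68142 F210004) (tt N58910 F210005) (tt N79993 (iv4 F379491)) (tt N97975 (iv5 F419034)) (tt N37456 (iv6 D131116)) (tt N104189 D207381))
theorem Q68371 : ∀ i, i < 68371 → P i := stepQ 68370 Q68370 (allL N68370 (tt N69583 (iv1 F215039)) (tt N37457 (iv0 D131117)) (tt N56437 (iv2 F210007)) (tt N51444 F345019) (tt N38263 F210006) (tt N78301 (iv5 F247887)) (tt N51443 (iv6 F345018)) (tt N68269 F210008))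
theorem Q68372 : ∀ i, i < 68372 → P i := stepQ 68371 Q68371 (allL N68371 (tt N92031 F395443) (tt N56438 (iv0 F367911)) (tt N98360 (iv2 F420636)) (tt N83755 (iv3 F352840)) (tt N37458 F210010) (tt N70034 F345003) (tt N37457 (iv6 D131120)) (tt N70033 (iv7 F333565)))
theorem Q68373 : ∀ i, i < 68373 → P i := stepQ 68372 Q68372 (allL N68372 (tt N88685 F383891) (tt N37458 (iv0 D131121)) (tt N98361 F420644) (tt N51476 (iv3 F363798)) (tt N104027 (iv4 F443858)) (tt N83703 F339540) (tt N100657 F429880) (tt N86421 (iv7 F376162)))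
theorem Q68374 : ∀ i, i < 68374 → P i := stepQ 68373 Q68373 (allL N68373 (tt N37458 (iv1 D131122)) (tt N88685 (iv0 F383889)) (tt N86421 (iv2 F383013)) (tt N100141 F427657) (tt N68367 (iv4 F383014)) (tt N88428 F383011) (tt N68366 F383012) (tt N98361 (iv7 F420646)))
theorem Q68375 : ∀ i, i < 68375 → P i := stepQ 68374 Q68374 (allL N68374 (tt N86421 F376165) (tt N98361 F420645) (tt N88685 (iv2 F383885)) (tt N37468 F210011) (tt N70033 F345021) (tt N79034 (iv5 F251929)) (tt N69591 (iv6 F215055)) (tt N37458 (iv7 D131123)))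
theorem Q68376 : ∀ i, i < 68376 → P i := stepQ 68375 Q68375 (allL N68375 (tt N60334 F245705) (tt N60338 (iv0 F355196)) (tt N104190 D207382) (tt N37459 (iv3 D131124)) (tt N93989 (iv4 F402727)) (tt N38174 F210012) (tt N65697 (iv6 F362511)) (tt N68080 F210013))
theorem Q68377 : ∀ i, i < 68377 → P i := stepQ 68376 Q68376 (allL N68376 (tt N104004 (iv1 F443750)) (tt N104007 (iv0 F443760)) (tt N68071 F210014) (tt N65697 F362512) (tt N37460 F210015) (tt N65696 (iv5 F362513)) (tt N37459 (iv6 D131125)) (tt N104191 D207383))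
theorem Q68378 : ∀ i, i < 68378 → P i := stepQ 68377 Q68377 (allL N68377 (tt N68139 (iv1 F210019)) (tt N37460 (iv0 D131126)) (tt N68137 (iv2 F390843)) (tt N104192 D207384) (tt N104193 D207385) (tt N104194 D207386) (tt N86607 F376589) (tt N68138 (iv7 F390845)))
theorem Q68379 : ∀ i, i < 68379 → P i := stepQ 68378 Q68378 (allL N68378 (tt N37460 (iv1 D131127)) (tt N68139 F210016) (tt N68138 F390844) (tt N70791 (iv3 F364694)) (tt N81569 F364720) (tt N70787 F364693) (tt N70789 (iv6 F364695)) (tt N68137 F390842))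
theorem Q68380 : ∀ i, i < 68380 → P i := stepQ 68379 Q68379 (allL N68379 (tt N68138 (iv1 F210020)) (tt N68137 F210021) (tt N68139 F210017) (tt N93993 (iv3 F402741)) (tt N104191 (iv4 F444613)) (tt N78921 (iv5 F251359)) (tt N68134 F210018) (tt N37460 (iv7 D131128)))
theorem Q68381 : ∀ i, i < 68381 → P i := stepQ 68380 Q68380 (allL N68380 (tt N97303 (iv1 F416296)) (tt N97292 (iv0 F416252)) (tt N97300 F416285) (tt N37461 (iv3 D131129)) (tt N86508 (iv4 F376400)) (tt N38171 F210022) (tt N100732 (iv6 F430205)) (tt N68069 F210023))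
theorem Q68382 : ∀ i, i < 68382 → P i := stepQ 68381 Q68381 (allL N68381 (tt N96794 F413982) (tt N104001 F443731) (tt N68082 F210024) (tt N100732 (iv3 F430204)) (tt N37462 F210025) (tt N97626 (iv5 F417661)) (tt N37461 (iv6 D131130)) (tt N104195 D207387))
theorem Q68383 : ∀ i, i < 68383 → P i := stepQ 68382 Q68382 (allL N68382 (tt N37462 (iv1 D131131)) (tt N68134 F210026) (tt N68133 (iv2 F210028)) (tt N57273 (iv3 F341585)) (tt N104196 D207388) (tt N86134 F383191) (tt N98273 (iv6 F420279)) (tt N68132 F210027))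
theorem Q68384 : ∀ i, i < 68384 → P i := stepQ 68383 Q68383 (allL N68383 (tt N68133 (iv1 F210032)) (tt N68132 F210033) (tt N68134 F210030) (tt N86511 (iv3 F376402)) (tt N104195 (iv4 F444636)) (tt N78784 (iv5 F250872)) (tt N68139 F210031) (tt N37462 (iv7 D131132)))
theorem Q68385 : ∀ i, i < 68385 → P i := stepQ 68384 Q68384 (allL N68384 (tt N60231 F210036) (tt N60236 F245465) (tt N104197 D207389) (tt N37463 (iv3 D131133)) (tt N104198 D207390) (tt N37709 F210034) (tt N48381 F359171) (tt N68095 F210035))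
theorem Q68386 : ∀ i, i < 68386 → P i := stepQ 68385 Q68385 (allL N68385 (tt N104193 (iv1 F444628)) (tt N81569 F332876) (tt N68089 F210037) (tt N48381 F332877) (tt N38197 F210038) (tt N48380 F332878) (tt N37463 (iv6 D131134)) (tt N88468 (iv7 F383174)))
theorem Q68387 : ∀ i, i < 68387 → P i := stepQ 68386 Q68386 (allL N68386 (tt N97151 F415690) (tt N97140 (iv0 F415637)) (tt N97148 F415676) (tt N37464 (iv3 D131135)) (tt N102866 (iv4 F439005)) (tt N38179 F210039) (tt N102865 F439003) (tt N68087 F210040))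
theorem Q68388 : ∀ i, i < 68388 → P i := stepQ 68387 Q68387 (allL N68387 (tt N98278 F420299) (tt N104196 (iv0 F444644)) (tt N68096 F210041) (tt N102865 (iv3 F439000)) (tt N38201 F210042) (tt N67466 F343930) (tt N37464 (iv6 D131136)) (tt N104199 D207391))
theorem Q68389 : ∀ i, i < 68389 → P i := stepQ 68388 Q68388 (allL N68388 (tt N37465 (iv1 D131138)) (tt N69594 F215064) (tt N69593 F352930) (tt N96933 (iv3 F414664)) (tt N54874 F352931) (tt N60162 F352832) (tt N86850 (iv6 F377430)) (tt N47635 F352932))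
theorem Q68390 : ∀ i, i < 68390 → P i := stepQ 68389 Q68389 (allL N68389 (tt N47635 F352912) (tt N69593 F215059) (tt N37465 (iv2 D131139)) (tt N52150 F356254) (tt N83710 (iv4 F353353)) (tt N56943 F210043) (tt N52149 (iv6 F356252)) (tt N69594 (iv7 F215061)))
theorem Q68391 : ∀ i, i < 68391 → P i := stepQ 68390 Q68390 (allL N68390 (tt N49550 F357561) (tt N86280 (iv0 F375667)) (tt N52149 F356253) (tt N37466 F210044) (tt N83755 F352841) (tt N50529 (iv5 F352885)) (tt N37465 (iv6 D131140)) (tt N86282 (iv7 F375677)))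
theorem Q68392 : ∀ i, i < 68392 → P i := stepQ 68391 Q68391 (allL N68391 (tt N83739 F331380) (tt N52398 F331387) (tt N52132 (iv2 F331361)) (tt N86282 F375679) (tt N37468 F210047) (tt N52131 (iv5 F331378)) (tt N69599 (iv6 F215068)) (tt N37466 (iv7 D131144)))
theorem Q68393 : ∀ i, i < 68393 → P i := stepQ 68392 Q68392 (allL N68392 (tt N98273 (iv1 F420281)) (tt N92205 (iv0 F396237)) (tt N86439 (iv2 F376224)) (tt N78280 F349250) (tt N87397 (iv4 F379235)) (tt N46073 F210050) (tt N37467 (iv6 D131147)) (tt N98135 (iv7 F419627)))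
theorem Q68394 : ∀ i, i < 68394 → P i := stepQ 68393 Q68393 (allL N68393 (tt N53735 (iv1 F311795)) (tt N63453 F210055) (tt N57427 F210052) (tt N64589 (iv3 F366496)) (tt N78293 (iv4 F247870)) (tt N37469 (iv5 D131149)) (tt N104200 D207392) (tt N68271 F210053))
theorem Q68395 : ∀ i, i < 68395 → P i := stepQ 68394 Q68394 (allL N68394 (tt N92995 (iv1 F399058)) (tt N91723 (iv0 F394183)) (tt N69586 (iv2 F215045)) (tt N104201 D207393) (tt N37470 (iv4 D131160)) (tt N69583 (iv5 F215037)) (tt N70639 (iv6 F352117)) (tt N69613 (iv7 F215102)))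
theorem Q68396 : ∀ i, i < 68396 → P i := stepQ 68395 Q68395 (allL N68395 (tt N104202 D207394) (tt N104060 (iv0 F443974)) (tt N100311 (iv2 F428380)) (tt N101371 (iv3 F432805)) (tt N70639 F352115) (tt N71417 (iv5 F352114)) (tt N37470 (iv6 D131161)) (tt N70638 F352116))
theorem Q68397 : ∀ i, i < 68397 → P i := stepQ 68396 Q68396 (allL N68396 (tt N80519 (iv1 F364586)) (tt N37471 (iv0 D131162)) (tt N89164 (iv2 F385413)) (tt N104203 D207395) (tt N103060 (iv4 F439900)) (tt N104204 D207396) (tt N89163 F385414) (tt N100312 (iv7 F428386)))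
theorem Q68398 : ∀ i, i < 68398 → P i := stepQ 68397 Q68397 (allL N68397 (tt N100935 F431028) (tt N100934 (iv0 F431019)) (tt N80505 F352112) (tt N90510 (iv3 F389891)) (tt N71409 (iv4 F352111)) (tt N37471 (iv5 D131164)) (tt N71417 F352113) (tt N104205 D207397))
theorem Q68399 : ∀ i, i < 68399 → P i := stepQ 68398 Q68398 (allL N68398 (tt N100312 (iv1 F428385)) (tt N89164 F385412) (tt N80519 (iv2 F334131)) (tt N84050 (iv3 F367926)) (tt N37474 F210083) (tt N104205 (iv5 F444683)) (tt N69616 (iv6 F215108)) (tt N37471 (iv7 D131165)))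
theorem Q68400 : ∀ i, i < 68400 → P i := stepQ 68399 Q68399 (allL N68399 (tt N76024 (iv1 F312139)) (tt N45273 (iv0 F233101)) (tt N63869 F210084) (tt N37472 (iv3 D131166)) (tt N63729 (iv4 F330111)) (tt N77553 (iv5 F243591)) (tt N45245 (iv6 F232574)) (tt N78290 (iv7 F247700)))
theorem Q68401 : ∀ i, i < 68401 → P i := stepQ 68400 Q68400 (allL N68400 (tt N83924 F367510) (tt N78300 (iv0 F383466)) (tt N78369 (iv2 F248446)) (tt N63097 F361467) (tt N37472 (iv4 D131167)) (tt N88540 F383465) (tt N63096 (iv6 F305769)) (tt N82265 (iv7 F361466)))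
theorem Q68402 : ∀ i, i < 68402 → P i := stepQ 68401 Q68401 (allL N68401 (tt N78300 (iv1 F383467)) (tt N83924 (iv0 F367511)) (tt N82265 F361463) (tt N65186 (iv3 F330117)) (tt N37473 (iv4 D131169)) (tt N77072 F330118) (tt N65184 F330119) (tt N78369 F248448))
theorem Q68403 : ∀ i, i < 68403 → P i := stepQ 68402 Q68402 (allL N68402 (tt N63238 F210100) (tt N63241 F210101) (tt N63824 F210098) (tt N81268 F366748) (tt N82941 F342243) (tt N37475 (iv5 D131173)) (tt N81306 F336409) (tt N63830 F210099))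
theorem Q68404 : ∀ i, i < 68404 → P i := stepQ 68403 Q68403 (allL N68403 (tt N43094 F307796) (tt N54254 F307797) (tt N37480 F210111) (tt N63826 F210112) (tt N100822 (iv4 F430634)) (tt N42982 F210113) (tt N37478 (iv6 D131177)) (tt N53330 F340838))
theorem Q68405 : ∀ i, i < 68405 → P i := stepQ 68404 Q68404 (allL N68404 (tt N57455 F210122) (tt N57474 F210123) (tt N57471 F210120) (tt N103592 (iv3 F442166)) (tt N104206 D207398) (tt N37479 (iv5 D131179)) (tt N104207 D207399) (tt N57470 F210121))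
theorem Q68406 : ∀ i, i < 68406 → P i := stepQ 68405 Q68405 (allL N68405 (tt N37480 (iv1 D131182)) (tt N53330 (iv0 F331872)) (tt N54254 F307621) (tt N46191 (iv3 F308054)) (tt N53325 (iv4 F348285)) (tt N72703 (iv5 F361511)) (tt N76019 F307622) (tt N43094 F307623))
theorem Q68407 : ∀ i, i < 68407 → P i := stepQ 68406 Q68406 (allL N68406 (tt N54254 F307617) (tt N43094 F307618) (tt N53330 F310233) (tt N37482 F210128) (tt N47817 F310234) (tt N44076 F210129) (tt N47380 F310235) (tt N37480 (iv7 D131183)))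
theorem Q68408 : ∀ i, i < 68408 → P i := stepQ 68407 Q68407 (allL N68407 (tt N95784 (iv1 F409630)) (tt N60480 (iv0 F341893)) (tt N96492 F412746) (tt N48284 F317226) (tt N37483 (iv4 D131185)) (tt N74251 F351645) (tt N63866 F210132) (tt N42273 (iv7 F317239)))
theorem Q68409 : ∀ i, i < 68409 → P i := stepQ 68408 Q68408 (allL N68408 (tt N64483 F357820) (tt N64480 F357816) (tt N70492 F357815) (tt N37486 (iv3 D131232)) (tt N101074 (iv4 F431545)) (tt N76634 (iv5 F357817)) (tt N66978 F363617) (tt N64062 (iv7 F305919)))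
theorem Q68410 : ∀ i, i < 68410 → P i := stepQ 68409 Q68409 (allL N68409 (tt N64224 (iv1 F306875)) (tt N64223 (iv0 F354272)) (tt N64225 (iv2 F306879)) (tt N76634 F357819) (tt N72745 F336904) (tt N37486 (iv5 D131233)) (tt N77760 F354271) (tt N64063 (iv7 F305925)))
theorem Q68411 : ∀ i, i < 68411 → P i := stepQ 68410 Q68410 (allL N68410 (tt N80863 F354613) (tt N38060 F210247) (tt N67950 F210246) (tt N63696 (iv3 F306861)) (tt N37487 (iv4 D131236)) (tt N68900 (iv5 F211856)) (tt N63695 (iv6 F304077)) (tt N69620 (iv7 F215120)))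
theorem Q68412 : ∀ i, i < 68412 → P i := stepQ 68411 Q68411 (allL N68411 (tt N37494 (iv1 D131247)) (tt N53323 F306808) (tt N52245 F306809) (tt N37502 F243087) (tt N43442 (iv4 F215352)) (tt N46892 (iv5 F308641)) (tt N81699 F350140) (tt N68266 F243089))
theorem Q68413 : ∀ i, i < 68413 → P i := stepQ 68412 Q68412 (allL N68412 (tt N75367 F231355) (tt N41615 F210319) (tt N42111 F210317) (tt N77217 (iv3 F340877)) (tt N42042 (iv4 F210320)) (tt N37494 (iv5 D131248)) (tt N41328 F210318) (tt N87461 (iv7 F379406)))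
theorem Q68414 : ∀ i, i < 68414 → P i := stepQ 68413 Q68413 (allL N68413 (tt N37495 (iv1 D131251)) (tt N69645 F215347) (tt N68265 (iv2 F215339)) (tt N46178 F306818) (tt N65119 F306819) (tt N99426 (iv5 F424522)) (tt N54138 (iv6 F310912)) (tt N56126 F306821))
theorem Q68415 : ∀ i, i < 68415 → P i := stepQ 68414 Q68414 (allL N68414 (tt N68265 (iv1 F215341)) (tt N56126 (iv0 F304872)) (tt N69645 (iv2 F215343)) (tt N53324 (iv3 F308873)) (tt N74403 F227772) (tt N103000 (iv5 F439622)) (tt N53323 (iv6 F305641)) (tt N37495 (iv7 D131252)))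
theorem Q68416 : ∀ i, i < 68416 → P i := stepQ 68415 Q68415 (allL N68415 (tt N37558 F232876) (tt N48501 F309448) (tt N48132 F309449) (tt N37496 (iv3 D131253)) (tt N63476 F309450) (tt N44901 F314378) (tt N48427 F309451) (tt N44514 F210325))
theorem Q68417 : ∀ i, i < 68417 → P i := stepQ 68416 Q68416 (allL N68416 (tt N64052 (iv1 F210338)) (tt N41534 F322646) (tt N64053 F210335) (tt N64044 F210336) (tt N85792 (iv4 F373963)) (tt N37497 (iv5 D131256)) (tt N46642 F313084) (tt N44556 F210337))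
theorem Q68418 : ∀ i, i < 68418 → P i := stepQ 68417 Q68417 (allL N68417 (tt N103011 F439663) (tt N94134 (iv0 F403376)) (tt N103060 F439903) (tt N37498 (iv3 D131258)) (tt N89164 (iv4 F385409)) (tt N75631 (iv5 F366565)) (tt N76062 F236173) (tt N101181 (iv7 F432084)))
theorem Q68419 : ∀ i, i < 68419 → P i := stepQ 68418 Q68418 (allL N68418 (tt N54138 (iv1 F310909)) (tt N42837 (iv0 F210343)) (tt N76140 (iv2 F236805)) (tt N76062 (iv3 F236172)) (tt N40735 F324798) (tt N66829 F210341) (tt N37498 (iv6 D131260)) (tt N76139 (iv7 F236799)))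
theorem Q68420 : ∀ i, i < 68420 → P i := stepQ 68419 Q68419 (allL N68419 (tt N65395 (iv1 F313748)) (tt N69652 (iv0 F215410)) (tt N69651 (iv2 F234108)) (tt N37499 (iv3 D131262)) (tt N53337 F361920) (tt N73157 (iv5 F321789)) (tt N53336 (iv6 F346606)) (tt N69650 F234102))
theorem Q68421 : ∀ i, i < 68421 → P i := stepQ 68420 Q68420 (allL N68420 (tt N41335 F210358) (tt N37527 F210359) (tt N45593 F307910) (tt N81699 F341016) (tt N45531 F309902) (tt N62608 F210356) (tt N37502 (iv6 D131268)) (tt N45592 F307911))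
theorem Q68422 : ∀ i, i < 68422 → P i := stepQ 68421 Q68421 (allL N68421 (tt N68492 (iv1 F210672)) (tt N68490 (iv0 F210662)) (tt N41445 F210360) (tt N75411 (iv3 F340285)) (tt N44489 F210362) (tt N37503 (iv5 D131269)) (tt N78591 F346955) (tt N47376 (iv7 F313259)))
theorem Q68423 : ∀ i, i < 68423 → P i := stepQ 68422 Q68422 (allL N68422 (tt N41449 (iv1 F210373)) (tt N37504 (iv0 D131271)) (tt N41447 (iv2 F210367)) (tt N81682 F357100) (tt N63439 (iv4 F343973)) (tt N65375 F210366) (tt N42759 F210365) (tt N41448 (iv7 F210368)))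
theorem Q68424 : ∀ i, i < 68424 → P i := stepQ 68423 Q68423 (allL N68423 (tt N37504 (iv1 D131272)) (tt N41449 F210369) (tt N41448 (iv2 F210372)) (tt N94135 F403380) (tt N63438 F350915) (tt N63150 (iv5 F210371)) (tt N76073 (iv6 F236208)) (tt N41447 F210370))
theorem Q68425 : ∀ i, i < 68425 → P i := stepQ 68424 Q68424 (allL N68424 (tt N80345 (iv1 F351504)) (tt N80344 (iv0 F351483)) (tt N75823 (iv2 F234283)) (tt N37512 F210412) (tt N80195 (iv4 F330751)) (tt N72823 F351490) (tt N37509 (iv6 D131285)) (tt N75791 F351512))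
theorem Q68426 : ∀ i, i < 68426 → P i := stepQ 68425 Q68425 (allL N68425 (tt N45100 F210413) (tt N78282 (iv0 F247666)) (tt N69622 (iv2 F215144)) (tt N83757 F355119) (tt N37510 (iv4 D131286)) (tt N42832 F335871) (tt N94140 F403399) (tt N69625 (iv7 F215175)))
theorem Q68427 : ∀ i, i < 68427 → P i := stepQ 68426 Q68426 (allL N68426 (tt N104010 F443777) (tt N104208 D207400) (tt N69623 (iv2 F215148)) (tt N56639 F210414) (tt N94140 F403398) (tt N75550 (iv5 F350242)) (tt N37510 (iv6 D131287)) (tt N75549 F350241))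
theorem Q68428 : ∀ i, i < 68428 → P i := stepQ 68427 Q68427 (allL N68427 (tt N42831 F311214) (tt N42830 F311215) (tt N42833 F311216) (tt N75767 F311217) (tt N74942 F311218) (tt N37511 (iv5 D131289)) (tt N79919 F337883) (tt N42823 F311219))
theorem Q68429 : ∀ i, i < 68429 → P i := stepQ 68428 Q68428 (allL N68428 (tt N69632 (iv1 F215217)) (tt N69631 F215214) (tt N37517 F210417) (tt N79090 F365582) (tt N37513 (iv4 D131293)) (tt N69639 (iv5 F215272)) (tt N104209 D207401) (tt N69627 (iv7 F215189)))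
theorem Q68430 : ∀ i, i < 68430 → P i := stepQ 68429 Q68429 (allL N68429 (tt N104210 D207402) (tt N104211 D207403) (tt N37518 F210418) (tt N69584 (iv3 F215041)) (tt N104209 (iv4 F444703)) (tt N51526 (iv5 F333572)) (tt N37513 (iv6 D131294)) (tt N91213 (iv7 F392286)))
theorem Q68431 : ∀ i, i < 68431 → P i := stepQ 68430 Q68430 (allL N68430 (tt N45239 F210436) (tt N78280 (iv0 F247646)) (tt N56422 F210434) (tt N99747 (iv3 F426030)) (tt N37515 (iv4 D131298)) (tt N62817 (iv5 F309949)) (tt N93996 F402753) (tt N63390 F210435))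
theorem Q68432 : ∀ i, i < 68432 → P i := stepQ 68431 Q68431 (allL N68431 (tt N94138 F403391) (tt N100301 (iv0 F428334)) (tt N56423 F210437) (tt N51508 F210438) (tt N93996 (iv4 F402755)) (tt N76284 (iv5 F238076)) (tt N37515 (iv6 D131299)) (tt N104212 D207404))
theorem Q68433 : ∀ i, i < 68433 → P i := stepQ 68432 Q68432 (allL N68432 (tt N57277 (iv1 F319144)) (tt N57276 F340674) (tt N44494 F210439) (tt N95877 (iv3 F410057)) (tt N37516 (iv4 D131300)) (tt N75630 F340679) (tt N76425 F349255) (tt N57269 (iv7 F316752)))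
theorem Q68434 : ∀ i, i < 68434 → P i := stepQ 68433 Q68433 (allL N68433 (tt N104192 F444622) (tt N104213 D207405) (tt N44495 F210440) (tt N51512 F210441) (tt N76425 F349254) (tt N74893 (iv5 F229748)) (tt N37516 (iv6 D131301)) (tt N76422 (iv7 F349262)))
theorem Q68435 : ∀ i, i < 68435 → P i := stepQ 68434 Q68434 (allL N68434 (tt N69627 (iv1 F215192)) (tt N37517 (iv0 D131302)) (tt N69632 F215220) (tt N43252 F334827) (tt N45238 F210442) (tt N43247 F334828) (tt N57432 F334829) (tt N69631 F215216))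
theorem Q68436 : ∀ i, i < 68436 → P i := stepQ 68435 Q68435 (allL N68435 (tt N37517 (iv1 D131303)) (tt N69627 (iv0 F215191)) (tt N69631 F215215) (tt N104214 D207406) (tt N45237 F210443) (tt N75627 F363494) (tt N104215 D207407) (tt N69632 (iv7 F215218)))
theorem Q68437 : ∀ i, i < 68437 → P i := stepQ 68436 Q68436 (allL N68436 (tt N56635 F350222) (tt N56646 (iv0 F350220)) (tt N56645 F348087) (tt N37517 (iv3 D131304)) (tt N58743 F210444) (tt N56309 F350218) (tt N87579 (iv6 F379802)) (tt N56644 (iv7 F348079)))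
theorem Q68438 : ∀ i, i < 68438 → P i := stepQ 68437 Q68437 (allL N68437 (tt N74942 F312069) (tt N42832 F312070) (tt N69639 (iv2 F215271)) (tt N56309 (iv3 F350219)) (tt N41325 F312071) (tt N37517 (iv5 D131305)) (tt N56307 F360541) (tt N69633 (iv7 F215224)))
theorem Q68439 : ∀ i, i < 68439 → P i := stepQ 68438 Q68438 (allL N68438 (tt N104216 D207408) (tt N104217 D207409) (tt N104209 (iv2 F444702)) (tt N87579 (iv3 F379801)) (tt N37518 F210445) (tt N83968 (iv5 F367657)) (tt N37517 (iv6 D131306)) (tt N87577 (iv7 F379796)))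
theorem Q68440 : ∀ i, i < 68440 → P i := stepQ 68439 Q68439 (allL N68439 (tt N91213 (iv1 F392288)) (tt N37518 (iv0 D131307)) (tt N104210 F444708) (tt N69606 (iv3 F392289)) (tt N83974 F392295) (tt N91214 F392294) (tt N86532 (iv6 F392296)) (tt N104211 (iv7 F444712)))
theorem Q68441 : ∀ i, i < 68441 → P i := stepQ 68440 Q68440 (allL N68440 (tt N37518 (iv1 D131308)) (tt N91213 (iv0 F392287)) (tt N104211 (iv2 F444715)) (tt N50720 F377164) (tt N76397 F355829) (tt N83952 (iv5 F367591)) (tt N76395 (iv6 F355828)) (tt N104210 F444709))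
theorem Q68442 : ∀ i, i < 68442 → P i := stepQ 68441 Q68441 (allL N68441 (tt N104211 (iv1 F444711)) (tt N104210 F444707) (tt N91213 (iv2 F392283)) (tt N58747 F210446) (tt N87577 (iv4 F379795)) (tt N76418 (iv5 F238560)) (tt N51521 F210447) (tt N37518 (iv7 D131309)))
theorem Q68443 : ∀ i, i < 68443 → P i := stepQ 68442 Q68442 (allL N68442 (tt N75968 (iv1 F310074)) (tt N45250 F210458) (tt N46131 (iv2 F312026)) (tt N78727 F309839) (tt N43247 F309840) (tt N37520 (iv5 D131317)) (tt N43246 F309841) (tt N69636 (iv7 F215246)))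
theorem Q68444 : ∀ i, i < 68444 → P i := stepQ 68443 Q68443 (allL N68443 (tt N42832 F312192) (tt N74942 F312193) (tt N69633 (iv2 F215223)) (tt N104218 D207410) (tt N37522 (iv4 D131326)) (tt N69627 (iv5 F215190)) (tt N73866 (iv6 F226046)) (tt N69639 (iv7 F215273)))
theorem Q68445 : ∀ i, i < 68445 → P i := stepQ 68444 Q68444 (allL N68444 (tt N57432 F210500) (tt N57431 F210501) (tt N43100 F210497) (tt N56633 F210498) (tt N57273 F210502) (tt N37524 (iv5 D131335)) (tt N87505 (iv6 F379596)) (tt N42962 F210499))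
theorem Q68446 : ∀ i, i < 68446 → P i := stepQ 68445 Q68445 (allL N68445 (tt N37561 (iv1 F210519)) (tt N37526 (iv0 D131337)) (tt N37562 (iv2 F210513)) (tt N69276 (iv3 F213638)) (tt N64220 (iv4 F311204)) (tt N37562 (iv5 F210520)) (tt N37551 F210514) (tt N37552 F210515))
theorem Q68447 : ∀ i, i < 68447 → P i := stepQ 68446 Q68446 (allL N68446 (tt N37562 (iv1 F210516)) (tt N37552 F210505) (tt N37526 (iv2 D131339)) (tt N37529 F210504) (tt N47390 (iv4 F319722)) (tt N47337 F313478) (tt N47388 F317473) (tt N37561 (iv7 F210512)))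
theorem Q68448 : ∀ i, i < 68448 → P i := stepQ 68447 Q68447 (allL N68447 (tt N76563 F337600) (tt N68482 (iv0 F232875)) (tt N47390 F333438) (tt N47574 F333448) (tt N37526 (iv4 D131340)) (tt N58757 F333437) (tt N47358 F334570) (tt N69646 (iv7 F215379)))
theorem Q68449 : ∀ i, i < 68449 → P i := stepQ 68448 Q68448 (allL N68448 (tt N64028 F308990) (tt N37652 (iv0 F210525)) (tt N42861 (iv2 F305857)) (tt N47337 F305330) (tt N69345 (iv4 F213901)) (tt N37529 (iv5 D131344)) (tt N37645 F210524) (tt N37634 F210522))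
theorem Q68450 : ∀ i, i < 68450 → P i := stepQ 68449 Q68449 (allL N68449 (tt N79377 F342027) (tt N80711 (iv0 F337631)) (tt N80718 (iv2 F337626)) (tt N37531 (iv3 D131350)) (tt N53119 F337633) (tt N80079 (iv5 F337635)) (tt N80722 F337637) (tt N37559 F210547))
theorem Q68451 : ∀ i, i < 68451 → P i := stepQ 68450 Q68450 (allL N68450 (tt N79410 (iv1 F344116)) (tt N69352 (iv0 F344113)) (tt N37547 F210550) (tt N80722 (iv3 F337638)) (tt N37532 F210551) (tt N80080 F350895) (tt N37531 (iv6 D131352)) (tt N79412 (iv7 F346979)))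
theorem Q68452 : ∀ i, i < 68452 → P i := stepQ 68451 Q68451 (allL N68451 (tt N65396 (iv1 F344135)) (tt N69641 F344136) (tt N37537 F210552) (tt N94134 (iv3 F403373)) (tt N59464 (iv4 F351639)) (tt N104219 D207411) (tt N37533 (iv6 D131353)) (tt N81716 (iv7 F344132)))
theorem Q68453 : ∀ i, i < 68453 → P i := stepQ 68452 Q68452 (allL N68452 (tt N42482 F210557) (tt N42494 F210558) (tt N37539 F210553) (tt N42586 F210554) (tt N46686 F210555) (tt N37534 (iv5 D131354)) (tt N104219 (iv6 F444764)) (tt N42586 F210556))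
theorem Q68454 : ∀ i, i < 68454 → P i := stepQ 68453 Q68453 (allL N68453 (tt N58907 F210561) (tt N52004 (iv0 F361784)) (tt N60171 F210559) (tt N69501 (iv3 F360262)) (tt N37535 (iv4 D131355)) (tt N91549 (iv5 F393606)) (tt N84764 (iv6 F370533)) (tt N60173 F210560))
theorem Q68455 : ∀ i, i < 68455 → P i := stepQ 68454 Q68454 (allL N68454 (tt N47164 F308029) (tt N69265 F213599) (tt N46990 (iv2 F313350)) (tt N37536 (iv3 D131357)) (tt N37545 F210564) (tt N97523 (iv5 F417246)) (tt N69293 (iv6 F213666)) (tt N69236 F213516))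
theorem Q68456 : ∀ i, i < 68456 → P i := stepQ 68455 Q68455 (allL N68455 (tt N81716 (iv1 F344128)) (tt N37537 (iv0 D131360)) (tt N65396 (iv2 F337669)) (tt N69629 F337667) (tt N67906 F337668) (tt N75665 (iv5 F337673)) (tt N76020 (iv6 F337671)) (tt N69641 (iv7 F344126)))
theorem Q68457 : ∀ i, i < 68457 → P i := stepQ 68456 Q68456 (allL N68456 (tt N77668 (iv1 F354095)) (tt N46624 F344908) (tt N104219 (iv2 F444761)) (tt N37550 F210571) (tt N64047 (iv4 F210573)) (tt N37537 (iv5 D131362)) (tt N37539 F210572) (tt N102699 (iv7 F438247)))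
theorem Q68458 : ∀ i, i < 68458 → P i := stepQ 68457 Q68457 (allL N68457 (tt N69641 F344122) (tt N65396 (iv0 F341882)) (tt N81716 F344129) (tt N37551 F210574) (tt N69277 (iv4 F213643)) (tt N102699 (iv5 F438248)) (tt N69276 F213640) (tt N37537 (iv7 D131363)))
theorem Q68459 : ∀ i, i < 68459 → P i := stepQ 68458 Q68458 (allL N68458 (tt N68473 F233103) (tt N63603 (iv0 F344032)) (tt N74524 (iv2 F228252)) (tt N90458 (iv3 F389720)) (tt N37542 F210577) (tt N80285 F351664) (tt N37541 (iv6 D131366)) (tt N104220 D207412))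
theorem Q68460 : ∀ i, i < 68460 → P i := stepQ 68459 Q68459 (allL N68459 (tt N76451 (iv1 F238923)) (tt N37542 (iv0 D131367)) (tt N46646 F314275) (tt N44583 (iv3 F232770)) (tt N79410 (iv4 F344119)) (tt N104221 D207413) (tt N44577 F232769) (tt N76450 (iv7 F238915)))
theorem Q68461 : ∀ i, i < 68461 → P i := stepQ 68460 Q68460 (allL N68460 (tt N76450 (iv1 F238914)) (tt N46646 F312452) (tt N76451 (iv2 F238919)) (tt N48503 F312453) (tt N104220 (iv4 F444770)) (tt N79106 (iv5 F252622)) (tt N48501 F312454) (tt N37542 (iv7 D131369)))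
theorem Q68462 : ∀ i, i < 68462 → P i := stepQ 68461 Q68461 (allL N68461 (tt N44514 (iv1 F234332)) (tt N48132 F310254) (tt N37558 F210578) (tt N44496 F210579) (tt N74526 (iv4 F228256)) (tt N37558 F210580) (tt N37543 (iv6 D131370)) (tt N48501 F310255))
theorem Q68463 : ∀ i, i < 68463 → P i := stepQ 68462 Q68462 (allL N68462 (tt N64220 F313511) (tt N37560 (iv0 F210585)) (tt N48515 F313512) (tt N37544 (iv3 D131374)) (tt N44514 F210584) (tt N59970 F332179) (tt N64227 F313513) (tt N63476 F313514))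
theorem Q68464 : ∀ i, i < 68464 → P i := stepQ 68463 Q68463 (allL N68463 (tt N42518 F210586) (tt N68487 (iv0 F210646)) (tt N68511 F210737) (tt N59970 F345386) (tt N63477 (iv4 F313005)) (tt N37544 (iv5 D131375)) (tt N63485 F346951) (tt N63477 (iv7 F313006)))
theorem Q68465 : ∀ i, i < 68465 → P i := stepQ 68464 Q68464 (allL N68464 (tt N63439 (iv1 F343970)) (tt N63438 (iv0 F337584)) (tt N63441 (iv2 F362753)) (tt N64227 (iv3 F343382)) (tt N44513 F210587) (tt N75211 F337585) (tt N37544 (iv6 D131376)) (tt N63386 F362752))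
theorem Q68466 : ∀ i, i < 68466 → P i := stepQ 68465 Q68465 (allL N68465 (tt N63694 F315778) (tt N78556 F315779) (tt N37545 (iv2 D131379)) (tt N80718 F337624) (tt N46990 F315780) (tt N80970 (iv5 F337627)) (tt N90517 (iv6 F389926)) (tt N69264 F213590))
theorem Q68467 : ∀ i, i < 68467 → P i := stepQ 68466 Q68466 (allL N68466 (tt N67471 F363235) (tt N79883 (iv0 F347505)) (tt N80970 F364110) (tt N37546 F210589) (tt N103321 (iv4 F441129)) (tt N37545 (iv5 D131380)) (tt N79785 F355020) (tt N79783 (iv7 F355019)))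
theorem Q68468 : ∀ i, i < 68468 → P i := stepQ 68467 Q68467 (allL N68467 (tt N81525 F347512) (tt N77599 (iv0 F347127)) (tt N90517 F389925) (tt N37547 F210590) (tt N69293 (iv4 F213665)) (tt N104222 D207414) (tt N37545 (iv6 D131381)) (tt N69290 (iv7 F213662)))
theorem Q68469 : ∀ i, i < 68469 → P i := stepQ 68468 Q68468 (allL N68468 (tt N78556 (iv1 F337610)) (tt N63694 (iv0 F337607)) (tt N69264 (iv2 F213587)) (tt N37548 F210591) (tt N69236 (iv4 F213515)) (tt N79783 F355018) (tt N69235 F213512) (tt N37545 (iv7 D131382)))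
theorem Q68470 : ∀ i, i < 68470 → P i := stepQ 68469 Q68469 (allL N68469 (tt N37547 (iv1 D131388)) (tt N79412 (iv0 F346974)) (tt N69352 (iv2 F337664)) (tt N79410 F344120) (tt N76450 F337663) (tt N69118 (iv5 F337662)) (tt N79384 (iv6 F337665)) (tt N79410 F344121))
theorem Q68471 : ∀ i, i < 68471 → P i := stepQ 68470 Q68470 (allL N68470 (tt N46406 F337666) (tt N103948 F443487) (tt N80080 (iv2 F350896)) (tt N104222 (iv3 F444780)) (tt N104223 D207415) (tt N37547 (iv5 D131389)) (tt N37865 F350901) (tt N67642 (iv7 F350902)))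
theorem Q68472 : ∀ i, i < 68472 → P i := stepQ 68471 Q68471 (allL N68471 (tt N69352 (iv1 F344115)) (tt N79410 F344117) (tt N79412 (iv2 F346975)) (tt N69290 (iv3 F213660)) (tt N37551 F210598) (tt N67642 F350903) (tt N64220 (iv6 F311205)) (tt N37547 (iv7 D131390)))
theorem Q68473 : ∀ i, i < 68473 → P i := stepQ 68472 Q68472 (allL N68472 (tt N48515 F309035) (tt N63476 F309036) (tt N37560 F210599) (tt N69235 (iv3 F213510)) (tt N37552 F210600) (tt N58817 (iv5 F332173)) (tt N37548 (iv6 D131391)) (tt N64220 (iv7 F311206)))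
theorem Q68474 : ∀ i, i < 68474 → P i := stepQ 68473 Q68473 (allL N68473 (tt N100397 (iv1 F428790)) (tt N68458 (iv0 F233103)) (tt N69642 (iv2 F215288)) (tt N54310 F344084) (tt N37549 (iv4 D131392)) (tt N104224 D207416) (tt N54307 (iv6 F344065)) (tt N77611 (iv7 F344085)))
theorem Q68475 : ∀ i, i < 68475 → P i := stepQ 68474 Q68474 (allL N68474 (tt N79950 (iv1 F362085)) (tt N87173 (iv0 F378621)) (tt N42591 F210604) (tt N82936 (iv3 F284868)) (tt N37550 (iv4 D131396)) (tt N104225 D207417) (tt N37553 F210605) (tt N104226 D207418))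
theorem Q68476 : ∀ i, i < 68476 → P i := stepQ 68475 Q68475 (allL N68475 (tt N42593 (iv1 F210610)) (tt N42592 F210611) (tt N42594 F210606) (tt N102699 (iv3 F438251)) (tt N104226 (iv4 F444798)) (tt N37551 F210607) (tt N42594 F210608) (tt N37550 (iv7 D131397)))
theorem Q68477 : ∀ i, i < 68477 → P i := stepQ 68476 Q68476 (allL N68476 (tt N68141 F210614) (tt N68143 F210615) (tt N63418 F210612) (tt N104227 D207419) (tt N37554 (iv4 D131398)) (tt N98368 (iv5 F420666)) (tt N70682 F362433) (tt N63417 F210613))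
theorem Q68478 : ∀ i, i < 68478 → P i := stepQ 68477 Q68477 (allL N68477 (tt N104228 D207420) (tt N75236 (iv0 F345025)) (tt N63419 F210616) (tt N76329 (iv3 F238345)) (tt N70682 F344964) (tt N60174 F210617) (tt N37554 (iv6 D131399)) (tt N70681 F344965))
theorem Q68479 : ∀ i, i < 68479 → P i := stepQ 68478 Q68478 (allL N68478 (tt N55349 (iv1 F307757)) (tt N63456 F210622) (tt N63455 F210619) (tt N53118 F357932) (tt N98367 (iv4 F420661)) (tt N37555 (iv5 D131401)) (tt N104229 D207421) (tt N53758 (iv7 F357931)))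
theorem Q68480 : ∀ i, i < 68480 → P i := stepQ 68479 Q68479 (allL N68479 (tt N82531 (iv1 F342014)) (tt N37556 (iv0 D131403)) (tt N46599 (iv2 F313845)) (tt N64892 (iv3 F310013)) (tt N69615 (iv4 F215105)) (tt N46593 F312039) (tt N101012 (iv6 F431264)) (tt N82555 (iv7 F342003)))
theorem Q68481 : ∀ i, i < 68481 → P i := stepQ 68480 Q68480 (allL N68480 (tt N37556 (iv1 D131404)) (tt N82531 F342015) (tt N82555 F342004) (tt N38334 (iv3 F210624)) (tt N57438 F210625) (tt N44904 (iv5 F313737)) (tt N52936 (iv6 F304148)) (tt N46599 (iv7 F313846)))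
theorem Q68482 : ∀ i, i < 68482 → P i := stepQ 68481 Q68481 (allL N68481 (tt N82555 (iv1 F342002)) (tt N46599 F316297) (tt N82531 (iv2 F342010)) (tt N37562 F210629) (tt N49465 F342009) (tt N69276 F213639) (tt N103011 (iv6 F439661)) (tt N37556 (iv7 D131405)))
theorem Q68483 : ∀ i, i < 68483 → P i := stepQ 68482 Q68482 (allL N68482 (tt N68447 F232875) (tt N68485 F232874) (tt N74526 (iv2 F228255)) (tt N45553 F333445) (tt N37558 F210630) (tt N58826 F337595) (tt N37557 (iv6 D131407)) (tt N81319 (iv7 F337606)))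
theorem Q68484 : ∀ i, i < 68484 → P i := stepQ 68483 Q68483 (allL N68483 (tt N48132 F310256) (tt N44514 F234333) (tt N48501 F310257) (tt N48502 F312447) (tt N81319 (iv4 F337604)) (tt N48501 F312448) (tt N76451 (iv6 F238921)) (tt N37558 (iv7 D131410)))
theorem Q68485 : ∀ i, i < 68485 → P i := stepQ 68484 Q68484 (allL N68484 (tt N37559 (iv1 D131412)) (tt N80718 (iv0 F337623)) (tt N79377 F333009) (tt N69262 F333010) (tt N43729 F333011) (tt N89722 (iv5 F387308)) (tt N43728 F333012) (tt N80711 (iv7 F342034)))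
theorem Q68486 : ∀ i, i < 68486 → P i := stepQ 68485 Q68485 (allL N68485 (tt N68482 (iv1 F232874)) (tt N76563 F337608) (tt N69646 (iv2 F215378)) (tt N46982 F305207) (tt N37561 (iv4 D131420)) (tt N58756 F333436) (tt N46981 F305208) (tt N47390 F361365))
theorem Q68487 : ∀ i, i < 68487 → P i := stepQ 68486 Q68486 (allL N68486 (tt N76040 F311431) (tt N76039 F311432) (tt N57485 F210634) (tt N37634 F210635) (tt N47340 F311433) (tt N37561 (iv5 D131421)) (tt N37588 F210636) (tt N47337 F311434))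
theorem Q68488 : ∀ i, i < 68488 → P i := stepQ 68487 Q68487 (allL N68487 (tt N68463 F210646) (tt N45580 F317511) (tt N37579 F210644) (tt N53737 F314836) (tt N68492 (iv4 F210669)) (tt N37563 (iv5 D131424)) (tt N66043 F352276) (tt N37586 F210645))
theorem Q68489 : ∀ i, i < 68489 → P i := stepQ 68488 Q68488 (allL N68488 (tt N104230 D207422) (tt N95443 (iv0 F408199)) (tt N37580 F210648) (tt N53738 F314837) (tt N37564 F210649) (tt N88529 F383417) (tt N37563 (iv6 D131425)) (tt N82046 (iv7 F356993)))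
theorem Q68490 : ∀ i, i < 68490 → P i := stepQ 68489 Q68489 (allL N68489 (tt N37582 (iv1 F210655)) (tt N37581 F210656) (tt N37583 F210651) (tt N103063 (iv3 F439915)) (tt N82046 (iv4 F348527)) (tt N41641 F210652) (tt N37589 F210653) (tt N37564 (iv7 D131428)))
theorem Q68491 : ∀ i, i < 68491 → P i := stepQ 68490 Q68490 (allL N68490 (tt N68421 F210662) (tt N44489 F210663) (tt N37592 F210659) (tt N78583 (iv3 F352479)) (tt N42518 F210661) (tt N37565 (iv5 D131430)) (tt N97380 (iv6 F416609)) (tt N37595 F210660))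
theorem Q68492 : ∀ i, i < 68492 → P i := stepQ 68491 Q68491 (allL N68491 (tt N69666 F247851) (tt N94476 (iv0 F404642)) (tt N37593 F210664) (tt N78604 F357116) (tt N43119 F210665) (tt N81315 (iv5 F337077)) (tt N37565 (iv6 D131431)) (tt N100385 (iv7 F428727)))
theorem Q68493 : ∀ i, i < 68493 → P i := stepQ 68492 Q68492 (allL N68492 (tt N44489 F210671) (tt N68421 F210672) (tt N37595 F210668) (tt N80006 (iv3 F358657)) (tt N68487 F210669) (tt N37566 (iv5 D131433)) (tt N102401 (iv6 F437077)) (tt N37592 F210670))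
theorem Q68494 : ∀ i, i < 68494 → P i := stepQ 68493 Q68493 (allL N68493 (tt N69295 (iv1 F213674)) (tt N37567 (iv0 D131435)) (tt N47286 F311502) (tt N47338 F311503) (tt N94464 (iv4 F404575)) (tt N59967 (iv5 F345391)) (tt N100490 (iv6 F429145)) (tt N72408 F245875))
theorem Q68495 : ∀ i, i < 68495 → P i := stepQ 68494 Q68494 (allL N68494 (tt N37567 (iv1 D131436)) (tt N69295 F213673) (tt N72408 F245873) (tt N46366 F311496) (tt N78088 (iv4 F245839)) (tt N95751 (iv5 F409457)) (tt N43307 F311504) (tt N47286 F311497))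
theorem Q68496 : ∀ i, i < 68496 → P i := stepQ 68495 Q68495 (allL N68495 (tt N76564 F362437) (tt N76562 (iv0 F358667)) (tt N84138 (iv2 F368269)) (tt N37568 F210677) (tt N79855 (iv4 F354793)) (tt N37567 (iv5 D131438)) (tt N46965 F307278) (tt N68545 (iv7 F210801)))
theorem Q68497 : ∀ i, i < 68497 → P i := stepQ 68496 Q68496 (allL N68496 (tt N37605 (iv1 F210681)) (tt N37568 (iv0 D131440)) (tt N37601 F210683) (tt N47435 F315645) (tt N45922 F330816) (tt N41443 F210680) (tt N45921 F330817) (tt N37602 F210684))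
theorem Q68498 : ∀ i, i < 68498 → P i := stepQ 68497 Q68497 (allL N68497 (tt N37568 (iv1 D131441)) (tt N37605 F210685) (tt N37602 F210689) (tt N80008 F334534) (tt N46171 F330828) (tt N41444 F210687) (tt N46169 F330829) (tt N37601 F210686))
theorem Q68499 : ∀ i, i < 68499 → P i := stepQ 68498 Q68498 (allL N68498 (tt N104231 D207423) (tt N104232 D207424) (tt N37604 F210690) (tt N46965 F354796) (tt N68551 (iv4 F210805)) (tt N46961 F354797) (tt N37568 (iv6 D131442)) (tt N104233 D207425))
theorem Q68500 : ∀ i, i < 68500 → P i := stepQ 68499 Q68499 (allL N68499 (tt N42864 F307873) (tt N69668 (iv0 F278617)) (tt N37613 F210712) (tt N46622 (iv3 F309885)) (tt N46393 F306999) (tt N42560 F210713) (tt N37571 (iv6 D131452)) (tt N66749 (iv7 F350900)))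
theorem Q68501 : ∀ i, i < 68501 → P i := stepQ 68500 Q68500 (allL N68500 (tt N46625 F344906) (tt N69663 F344907) (tt N37575 F210714) (tt N98354 (iv3 F420618)) (tt N63239 F210715) (tt N74421 (iv5 F227869)) (tt N37573 (iv6 D131453)) (tt N87925 (iv7 F381157)))
theorem Q68502 : ∀ i, i < 68502 → P i := stepQ 68501 Q68501 (allL N68501 (tt N103934 (iv1 F443437)) (tt N76910 F349803) (tt N80957 F355024) (tt N37574 (iv3 D131454)) (tt N37578 F210716) (tt N66962 (iv5 F349801)) (tt N104234 D207426) (tt N63240 F210717))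
theorem Q68503 : ∀ i, i < 68503 → P i := stepQ 68502 Q68502 (allL N68502 (tt N63830 F210720) (tt N63824 F210721) (tt N63238 F210718) (tt N66962 F349802) (tt N87124 (iv4 F378436)) (tt N37574 (iv5 D131455)) (tt N104235 D207427) (tt N63241 F210719))
theorem Q68504 : ∀ i, i < 68504 → P i := stepQ 68503 Q68503 (allL N68503 (tt N68290 F337065) (tt N104236 D207428) (tt N63239 F210722) (tt N104234 (iv3 F444846)) (tt N37575 F210723) (tt N100416 (iv5 F428875)) (tt N37574 (iv6 D131456)) (tt N100415 F428871))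
theorem Q68505 : ∀ i, i < 68505 → P i := stepQ 68504 Q68504 (allL N68504 (tt N87925 (iv1 F381159)) (tt N37575 (iv0 D131457)) (tt N46625 F337042) (tt N69657 F337041) (tt N88510 (iv4 F383331)) (tt N99944 (iv5 F426902)) (tt N46623 F337043) (tt N69663 (iv7 F337044)))
theorem Q68506 : ∀ i, i < 68506 → P i := stepQ 68505 Q68505 (allL N68505 (tt N37575 (iv1 D131458)) (tt N87925 F381158) (tt N69663 F337048) (tt N46629 F337049) (tt N81120 F337050) (tt N65106 F337051) (tt N104237 D207429) (tt N46625 F337052))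
theorem Q68507 : ∀ i, i < 68507 → P i := stepQ 68506 Q68506 (allL N68506 (tt N69663 F344904) (tt N46625 F344905) (tt N87925 (iv2 F381156)) (tt N37583 F210724) (tt N100415 (iv4 F428869)) (tt N74425 (iv5 F227873)) (tt N75822 (iv6 F234280)) (tt N37575 (iv7 D131459)))
theorem Q68508 : ∀ i, i < 68508 → P i := stepQ 68507 Q68507 (allL N68507 (tt N53750 (iv1 F316728)) (tt N37578 (iv0 D131464)) (tt N75844 F348450) (tt N81079 (iv3 F348449)) (tt N80335 (iv4 F339654)) (tt N67471 F210731) (tt N81081 (iv6 F363232)) (tt N75843 F348448))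
theorem Q68509 : ∀ i, i < 68509 → P i := stepQ 68508 Q68508 (allL N68508 (tt N37578 (iv1 D131465)) (tt N53750 (iv0 F316727)) (tt N75843 (iv2 F348436)) (tt N46356 F343510) (tt N46890 F343511) (tt N79883 F343512) (tt N46353 F343513) (tt N75844 (iv7 F348451)))
theorem Q68510 : ∀ i, i < 68510 → P i := stepQ 68509 Q68509 (allL N68509 (tt N103250 (iv1 F440793)) (tt N82368 F355017) (tt N80958 F358870) (tt N37579 F210732) (tt N60557 F359772) (tt N37578 (iv5 D131467)) (tt N60556 (iv6 F359771)) (tt N75845 (iv7 F234366)))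
theorem Q68511 : ∀ i, i < 68511 → P i := stepQ 68510 Q68510 (allL N68510 (tt N104238 D207430) (tt N104239 D207431) (tt N80959 (iv2 F343516)) (tt N37580 F210733) (tt N104234 (iv4 F444847)) (tt N76900 F343515) (tt N37578 (iv6 D131468)) (tt N81059 (iv7 F362955)))
theorem Q68512 : ∀ i, i < 68512 → P i := stepQ 68511 Q68511 (allL N68511 (tt N37586 (iv1 F210736)) (tt N37579 (iv0 D131469)) (tt N68463 (iv2 F210737)) (tt N45586 F312920) (tt N45580 F317512) (tt N45581 F312921) (tt N64234 (iv6 F346926)) (tt N45580 (iv7 F315277)))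
theorem Q68513 : ∀ i, i < 68513 → P i := stepQ 68512 Q68512 (allL N68512 (tt N82046 (iv1 F356994)) (tt N37580 (iv0 D131472)) (tt N104230 F444820) (tt N46361 F337061) (tt N46641 F337062) (tt N64230 F337063) (tt N46360 F337064) (tt N95443 (iv7 F408198)))
theorem Q68514 : ∀ i, i < 68514 → P i := stepQ 68513 Q68513 (allL N68513 (tt N37580 (iv1 D131473)) (tt N82046 F357115) (tt N95443 (iv2 F408201)) (tt N104240 D207432) (tt N76480 (iv4 F337040)) (tt N91017 (iv5 F391580)) (tt N104240 (iv6 F444882)) (tt N104230 (iv7 F444822)))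
theorem Q68515 : ∀ i, i < 68515 → P i := stepQ 68514 Q68514 (allL N68514 (tt N45572 F337066) (tt N84341 (iv0 F368986)) (tt N88529 (iv2 F383418)) (tt N76900 (iv3 F343517)) (tt N64760 (iv4 F356468)) (tt N37580 (iv5 D131474)) (tt N82459 F359776) (tt N88528 (iv7 F383411)))
theorem Q68516 : ∀ i, i < 68516 → P i := stepQ 68515 Q68515 (allL N68515 (tt N95443 (iv1 F408200)) (tt N104230 F444821) (tt N82046 F356991) (tt N81059 F362956) (tt N37583 F210744) (tt N88528 (iv5 F383406)) (tt N46399 F319021) (tt N37580 (iv7 D131475)))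
theorem Q68517 : ∀ i, i < 68517 → P i := stepQ 68516 Q68516 (allL N68516 (tt N100385 F428729) (tt N37593 F335004) (tt N69666 (iv2 F335005)) (tt N43334 F333657) (tt N37581 (iv4 D131478)) (tt N47392 F333658) (tt N43332 F333659) (tt N94476 (iv7 F404640)))
theorem Q68518 : ∀ i, i < 68518 → P i := stepQ 68517 Q68517 (allL N68517 (tt N74502 F333604) (tt N74454 (iv0 F229146)) (tt N69667 (iv2 F339767)) (tt N57486 F339766) (tt N63812 (iv4 F339764)) (tt N37581 (iv5 D131479)) (tt N63810 F333600) (tt N74470 (iv7 F339768)))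
theorem Q68519 : ∀ i, i < 68519 → P i := stepQ 68518 Q68518 (allL N68518 (tt N37613 F210844) (tt N66749 F350899) (tt N69668 F324171) (tt N42641 F324172) (tt N43332 F324173) (tt N42593 F210746) (tt N37581 (iv6 D131480)) (tt N42864 F324174))
theorem Q68520 : ∀ i, i < 68520 → P i := stepQ 68519 Q68519 (allL N68519 (tt N37593 F233693) (tt N100385 F428730) (tt N94476 (iv2 F404638)) (tt N103939 (iv3 F443458)) (tt N37582 (iv4 D131483)) (tt N47391 F354872) (tt N104241 D207433) (tt N69666 F323851))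
theorem Q68521 : ∀ i, i < 68521 → P i := stepQ 68520 Q68520 (allL N68520 (tt N74454 (iv1 F264353)) (tt N74502 (iv0 F228032)) (tt N74470 F323852) (tt N37623 F323853) (tt N104242 D207434) (tt N37582 (iv5 D131484)) (tt N56083 (iv6 F325097)) (tt N69667 F323854))
theorem Q68522 : ∀ i, i < 68522 → P i := stepQ 68521 Q68521 (allL N68521 (tt N74315 F333696) (tt N74314 (iv0 F357079)) (tt N74317 (iv2 F333701)) (tt N37624 F320625) (tt N104241 (iv4 F444883)) (tt N74309 (iv5 F317338)) (tt N37582 (iv6 D131485)) (tt N74308 F333700))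
theorem Q68523 : ∀ i, i < 68523 → P i := stepQ 68522 Q68522 (allL N68522 (tt N57427 F210753) (tt N68271 F210754) (tt N63453 F210751) (tt N53209 F366759) (tt N98364 (iv4 F420651)) (tt N37584 (iv5 D131487)) (tt N104243 D207435) (tt N53735 (iv7 F311797)))
theorem Q68524 : ∀ i, i < 68524 → P i := stepQ 68523 Q68523 (allL N68523 (tt N63847 F210757) (tt N64421 (iv0 F308200)) (tt N63454 F210755) (tt N53210 F338813) (tt N37585 F210756) (tt N104244 D207436) (tt N37584 (iv6 D131488)) (tt N76926 (iv7 F312489)))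
theorem Q68525 : ∀ i, i < 68525 → P i := stepQ 68524 Q68524 (allL N68524 (tt N87924 F381155) (tt N37585 (iv0 D131489)) (tt N54136 (iv2 F309065)) (tt N57456 F215544) (tt N69571 (iv4 F215546)) (tt N54133 F339376) (tt N78317 (iv6 F247996)) (tt N57479 F215545))
theorem Q68526 : ∀ i, i < 68526 → P i := stepQ 68525 Q68525 (allL N68525 (tt N37585 (iv1 D131490)) (tt N87924 (iv0 F381153)) (tt N57479 F215522) (tt N54141 (iv3 F309040)) (tt N63918 (iv4 F351921)) (tt N54137 (iv5 F310340)) (tt N63917 (iv6 F341997)) (tt N54136 (iv7 F309067)))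
theorem Q68527 : ∀ i, i < 68527 → P i := stepQ 68526 Q68526 (allL N68526 (tt N57479 (iv1 F215549)) (tt N54136 (iv0 F309063)) (tt N87924 (iv2 F381150)) (tt N37589 F210758) (tt N76926 (iv4 F312488)) (tt N42763 F210759) (tt N103063 (iv6 F439918)) (tt N37585 (iv7 D131491)))
theorem Q68528 : ∀ i, i < 68528 → P i := stepQ 68527 Q68527 (allL N68527 (tt N104245 D207437) (tt N41565 F342405) (tt N75840 (iv2 F234313)) (tt N54349 F342406) (tt N104246 D207438) (tt N37587 (iv5 D131500)) (tt N79618 F330813) (tt N82045 (iv7 F342404)))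
theorem Q68529 : ∀ i, i < 68529 → P i := stepQ 68528 Q68528 (allL N68528 (tt N56150 (iv1 F210769)) (tt N54371 (iv0 F321071)) (tt N45742 F210764) (tt N37633 F210765) (tt N64429 F305209) (tt N37588 (iv5 D131503)) (tt N46129 F305210) (tt N56144 F210767))
theorem Q68530 : ∀ i, i < 68530 → P i := stepQ 68529 Q68529 (allL N68529 (tt N90460 (iv1 F389733)) (tt N80859 (iv0 F339359)) (tt N80004 F314758) (tt N37592 F210772) (tt N59081 (iv4 F210773)) (tt N37590 (iv5 D131508)) (tt N94170 F403519) (tt N80006 F314759))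
theorem Q68531 : ∀ i, i < 68531 → P i := stepQ 68530 Q68530 (allL N68530 (tt N43344 F314760) (tt N77650 F314761) (tt N80005 F314762) (tt N37593 F210774) (tt N75811 F314763) (tt N76551 F339754) (tt N37590 (iv6 D131509)) (tt N102767 (iv7 F438556)))
theorem Q68532 : ∀ i, i < 68532 → P i := stepQ 68531 Q68531 (allL N68531 (tt N80490 F335001) (tt N69413 F335003) (tt N43119 F210775) (tt N44491 F210776) (tt N37593 F210777) (tt N41362 F210778) (tt N37591 (iv6 D131510)) (tt N80493 F337038))
theorem Q68533 : ∀ i, i < 68533 → P i := stepQ 68532 Q68532 (allL N68532 (tt N94176 F403557) (tt N42046 F352285) (tt N97380 (iv2 F416608)) (tt N94170 (iv3 F403517)) (tt N65865 F352286) (tt N81342 (iv5 F354848)) (tt N37592 (iv6 D131511)) (tt N96561 (iv7 F412999)))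
theorem Q68534 : ∀ i, i < 68534 → P i := stepQ 68533 Q68533 (allL N68533 (tt N81284 (iv1 F339757)) (tt N81285 (iv0 F339755)) (tt N81315 F337076) (tt N76551 (iv3 F339752)) (tt N52865 F339756) (tt N37593 (iv5 D131514)) (tt N81342 F354862) (tt N81314 (iv7 F337075)))
theorem Q68535 : ∀ i, i < 68535 → P i := stepQ 68534 Q68534 (allL N68534 (tt N94476 (iv1 F404643)) (tt N69666 F337071) (tt N100385 (iv2 F428724)) (tt N102767 (iv3 F438554)) (tt N80493 (iv4 F337067)) (tt N81314 F337069) (tt N47349 F337070) (tt N37593 (iv7 D131515)))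
theorem Q68536 : ∀ i, i < 68536 → P i := stepQ 68535 Q68535 (allL N68535 (tt N104247 D207439) (tt N75296 (iv0 F361330)) (tt N102401 (iv2 F437076)) (tt N60629 F342143) (tt N48356 F348466) (tt N104248 D207440) (tt N37595 (iv6 D131522)) (tt N102400 (iv7 F437074)))
theorem Q68537 : ∀ i, i < 68537 → P i := stepQ 68536 Q68536 (allL N68536 (tt N102766 (iv1 F438547)) (tt N90465 (iv0 F389753)) (tt N71612 F364726) (tt N47311 F316001) (tt N104249 D207441) (tt N37596 (iv5 D131525)) (tt N104248 (iv6 F444921)) (tt N100384 (iv7 F428722)))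
theorem Q68538 : ∀ i, i < 68538 → P i := stepQ 68537 Q68537 (allL N68537 (tt N55546 (iv1 F340290)) (tt N81302 (iv0 F340278)) (tt N42130 (iv2 F324470)) (tt N45559 F314725) (tt N87020 (iv4 F378061)) (tt N37597 (iv5 D131530)) (tt N42048 F323067) (tt N69310 (iv7 F216682)))
theorem Q68539 : ∀ i, i < 68539 → P i := stepQ 68538 Q68538 (allL N68538 (tt N103932 F443428) (tt N103939 (iv0 F443460)) (tt N69312 F216680) (tt N46370 F314726) (tt N78549 F314727) (tt N74394 (iv5 F339822)) (tt N37597 (iv6 D131531)) (tt N79368 F314728))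
theorem Q68540 : ∀ i, i < 68540 → P i := stepQ 68539 Q68539 (allL N68539 (tt N47332 F314729) (tt N79372 F314730) (tt N46371 F314731) (tt N37598 (iv3 D131533)) (tt N70091 (iv4 F216613)) (tt N104250 D207442) (tt N69315 (iv6 F334214)) (tt N69311 F216677))
theorem Q68541 : ∀ i, i < 68541 → P i := stepQ 68540 Q68540 (allL N68540 (tt N81302 (iv1 F340279)) (tt N55546 (iv0 F342752)) (tt N69310 F216683) (tt N104250 (iv3 F444931)) (tt N87019 (iv4 F378059)) (tt N37598 (iv5 D131534)) (tt N95667 (iv6 F409050)) (tt N42130 F325581))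
theorem Q68542 : ∀ i, i < 68542 → P i := stepQ 68541 Q68541 (allL N68541 (tt N79366 F314735) (tt N43305 F314736) (tt N46387 F314737) (tt N69315 (iv3 F334207)) (tt N70088 (iv4 F216603)) (tt N102763 (iv5 F438530)) (tt N37598 (iv6 D131535)) (tt N79367 F314738))
theorem Q68543 : ∀ i, i < 68543 → P i := stepQ 68542 Q68542 (allL N68542 (tt N104251 D207443) (tt N104252 D207444) (tt N68808 (iv2 F211644)) (tt N101812 (iv3 F434456)) (tt N37600 (iv4 D131540)) (tt N68801 (iv5 F211639)) (tt N91528 F393498) (tt N69314 (iv7 F213720)))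
theorem Q68544 : ∀ i, i < 68544 → P i := stepQ 68543 Q68543 (allL N68543 (tt N46254 F341907) (tt N75284 F341908) (tt N75385 F334255) (tt N37604 F210791) (tt N91528 (iv4 F393497)) (tt N79338 (iv5 F341912)) (tt N37600 (iv6 D131541)) (tt N75386 (iv7 F334257)))
theorem Q68545 : ∀ i, i < 68545 → P i := stepQ 68544 Q68544 (allL N68544 (tt N80010 F342043) (tt N43297 F342044) (tt N80007 F342063) (tt N37601 (iv3 D131546)) (tt N59089 (iv4 F342046)) (tt N54300 F342045) (tt N46339 F330854) (tt N80008 F342061))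
theorem Q68546 : ∀ i, i < 68546 → P i := stepQ 68545 Q68545 (allL N68545 (tt N100135 (iv1 F427630)) (tt N81219 (iv0 F363197)) (tt N102851 (iv2 F438941)) (tt N37603 (iv3 D131550)) (tt N101812 (iv4 F434455)) (tt N40040 F210800) (tt N94111 F403261) (tt N68495 F210801))
theorem Q68547 : ∀ i, i < 68547 → P i := stepQ 68546 Q68546 (allL N68546 (tt N76880 F366646) (tt N80987 (iv0 F357679)) (tt N68551 (iv2 F210804)) (tt N94111 (iv3 F403258)) (tt N37604 F210802) (tt N94110 F403256) (tt N37603 (iv6 D131551)) (tt N102848 (iv7 F438925)))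
theorem Q68548 : ∀ i, i < 68548 → P i := stepQ 68547 Q68547 (allL N68547 (tt N104233 (iv1 F444844)) (tt N37604 (iv0 D131552)) (tt N104231 F444826) (tt N70104 (iv3 F336418)) (tt N95804 (iv4 F409735)) (tt N63249 F336417) (tt N100338 (iv6 F428475)) (tt N104232 (iv7 F444832)))
theorem Q68549 : ∀ i, i < 68549 → P i := stepQ 68548 Q68548 (allL N68548 (tt N37604 (iv1 D131553)) (tt N104233 F444843) (tt N104232 F444837) (tt N47283 F389863) (tt N95755 (iv4 F409476)) (tt N104253 D207445) (tt N75291 F389864) (tt N104231 F444828))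
theorem Q68550 : ∀ i, i < 68550 → P i := stepQ 68549 Q68549 (allL N68549 (tt N62552 (iv1 F333756)) (tt N47278 F333725) (tt N46961 F307273) (tt N79338 (iv3 F341910)) (tt N52177 F307275) (tt N37604 (iv5 D131554)) (tt N37608 F210803) (tt N81712 (iv7 F342336)))
theorem Q68551 : ∀ i, i < 68551 → P i := stepQ 68550 Q68550 (allL N68550 (tt N104232 (iv1 F444831)) (tt N104231 F444829) (tt N104233 (iv2 F444838)) (tt N75386 F334258) (tt N102848 (iv4 F438924)) (tt N81712 F342338) (tt N100698 (iv6 F430074)) (tt N37604 (iv7 D131555)))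
theorem Q68552 : ∀ i, i < 68552 → P i := stepQ 68551 Q68551 (allL N68551 (tt N100341 F428494) (tt N104254 D207446) (tt N68546 F210804) (tt N45710 F336596) (tt N68498 F210805) (tt N100400 (iv5 F428808)) (tt N37605 (iv6 D131556)) (tt N100698 (iv7 F430075)))
theorem Q68553 : ∀ i, i < 68553 → P i := stepQ 68552 Q68552 (allL N68552 (tt N79996 F339021) (tt N94474 F404629) (tt N77617 F333431) (tt N69317 (iv3 F213723)) (tt N37614 F210820) (tt N100355 (iv5 F428561)) (tt N37609 (iv6 D131571)) (tt N37610 F210821))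
theorem Q68554 : ∀ i, i < 68554 → P i := stepQ 68553 Q68553 (allL N68553 (tt N77617 F333432) (tt N37610 (iv0 D131572)) (tt N94474 F404628) (tt N43308 F333433) (tt N75800 F333434) (tt N94059 F403019) (tt N104255 D207447) (tt N79996 F333435))
theorem Q68555 : ∀ i, i < 68555 → P i := stepQ 68554 Q68554 (allL N68554 (tt N37610 (iv1 D131573)) (tt N77617 (iv0 F333425)) (tt N79996 F333419) (tt N46380 F333420) (tt N73944 (iv4 F338965)) (tt N60059 (iv5 F362017)) (tt N47289 F333422) (tt N94474 (iv7 F404630)))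
theorem Q68556 : ∀ i, i < 68556 → P i := stepQ 68555 Q68555 (allL N68555 (tt N63216 F306204) (tt N63206 (iv0 F210825)) (tt N63222 F210826) (tt N75387 F306205) (tt N37611 (iv4 D131578)) (tt N64474 F306206) (tt N46587 F306207) (tt N63223 F210822))
theorem Q68557 : ∀ i, i < 68557 → P i := stepQ 68556 Q68556 (allL N68556 (tt N66749 F333618) (tt N37613 (iv0 D131593)) (tt N42864 F333703) (tt N37648 F321619) (tt N78592 (iv4 F344399)) (tt N42592 F210841) (tt N74308 (iv6 F333702)) (tt N69668 F321620))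
theorem Q68558 : ∀ i, i < 68558 → P i := stepQ 68557 Q68557 (allL N68557 (tt N69668 (iv1 F278620)) (tt N42864 F312933) (tt N66749 (iv2 F333594)) (tt N88538 (iv3 F383459)) (tt N46398 F309311) (tt N66744 (iv5 F333726)) (tt N42862 F309312) (tt N37613 (iv7 D131596)))
theorem Q68559 : ∀ i, i < 68559 → P i := stepQ 68558 Q68558 (allL N68558 (tt N75791 (iv1 F359901)) (tt N75823 F359904) (tt N80345 F359902) (tt N37615 (iv3 D131598)) (tt N104256 D207448) (tt N94469 (iv5 F404596)) (tt N104257 D207449) (tt N80344 F359900))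
theorem Q68560 : ∀ i, i < 68560 → P i := stepQ 68559 Q68559 (allL N68559 (tt N74317 (iv1 F333707)) (tt N74308 (iv0 F333704)) (tt N74314 F359881) (tt N104257 (iv3 F444974)) (tt N91314 (iv4 F392687)) (tt N74518 F228113) (tt N37615 (iv6 D131601)) (tt N74315 F359879))
theorem Q68561 : ∀ i, i < 68561 → P i := stepQ 68560 Q68560 (allL N68560 (tt N57459 (iv1 F248073)) (tt N78318 (iv0 F248072)) (tt N83170 F359898) (tt N37616 (iv3 D131603)) (tt N53183 (iv4 F311804)) (tt N94470 (iv5 F404603)) (tt N78315 (iv6 F359899)) (tt N53570 F359885))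
theorem Q68562 : ∀ i, i < 68562 → P i := stepQ 68561 Q68561 (allL N68561 (tt N47337 F333666) (tt N57485 F333667) (tt N76040 F359873) (tt N78315 (iv3 F333670)) (tt N60403 (iv4 F333689)) (tt N80454 F333669) (tt N37616 (iv6 D131606)) (tt N76039 (iv7 F359877)))
theorem Q68563 : ∀ i, i < 68563 → P i := stepQ 68562 Q68562 (allL N68562 (tt N37617 (iv1 D131608)) (tt N78314 F247988) (tt N78323 (iv2 F248108)) (tt N44910 F310658) (tt N76903 F240646) (tt N41537 F324910) (tt N76903 F242900) (tt N41536 F324911))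
theorem Q68564 : ∀ i, i < 68564 → P i := stepQ 68563 Q68563 (allL N68563 (tt N62464 (iv1 F321224)) (tt N42931 (iv0 F210851)) (tt N62561 (iv2 F313667)) (tt N73640 (iv3 F340818)) (tt N103167 (iv4 F440374)) (tt N37617 (iv5 D131609)) (tt N62449 F340817) (tt N78311 (iv7 F247961)))
theorem Q68565 : ∀ i, i < 68565 → P i := stepQ 68564 Q68564 (allL N68564 (tt N78323 (iv1 F248111)) (tt N41536 F324908) (tt N78314 (iv2 F247983)) (tt N99610 (iv3 F425403)) (tt N37620 F210852) (tt N78311 F247962) (tt N69669 (iv6 F215538)) (tt N37617 (iv7 D131610)))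
theorem Q68566 : ∀ i, i < 68566 → P i := stepQ 68565 Q68565 (allL N68565 (tt N103063 (iv1 F439920)) (tt N98354 (iv0 F420621)) (tt N103061 F439906) (tt N37618 (iv3 D131612)) (tt N100313 (iv4 F428389)) (tt N88195 F382122) (tt N88537 (iv6 F383457)) (tt N103062 (iv7 F439909)))
theorem Q68567 : ∀ i, i < 68567 → P i := stepQ 68566 Q68566 (allL N68566 (tt N68595 F227763) (tt N44532 (iv0 F247989)) (tt N100655 F429867) (tt N62299 (iv3 F332422)) (tt N37618 (iv4 D131613)) (tt N62293 (iv5 F333343)) (tt N75634 (iv6 F333339)) (tt N68571 (iv7 F340989)))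
theorem Q68568 : ∀ i, i < 68568 → P i := stepQ 68567 Q68567 (allL N68567 (tt N69680 F282892) (tt N42299 F317805) (tt N69682 (iv2 F350178)) (tt N88537 F383455) (tt N75634 (iv4 F350180)) (tt N63762 F350177) (tt N37618 (iv6 D131615)) (tt N69681 (iv7 F350179)))
theorem Q68569 : ∀ i, i < 68569 → P i := stepQ 68568 Q68568 (allL N68568 (tt N57429 F247736) (tt N57480 (iv0 F247734)) (tt N57482 (iv2 F340983)) (tt N37619 (iv3 D131617)) (tt N104258 D207450) (tt N104259 D207451) (tt N78131 F342391) (tt N57481 (iv7 F340985)))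
theorem Q68570 : ∀ i, i < 68570 → P i := stepQ 68569 Q68569 (allL N68569 (tt N44532 F247730) (tt N68595 F247735) (tt N68571 F341023) (tt N104260 D207452) (tt N37619 (iv4 D131618)) (tt N81709 F341024) (tt N66855 (iv6 F341022)) (tt N100655 (iv7 F429869)))
theorem Q68571 : ∀ i, i < 68571 → P i := stepQ 68570 Q68570 (allL N68570 (tt N62607 F341057) (tt N88196 F382127) (tt N66730 (iv2 F340997)) (tt N104259 (iv3 F444989)) (tt N87750 (iv4 F380360)) (tt N37619 (iv5 D131619)) (tt N66635 (iv6 F210855)) (tt N46618 F340988))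
theorem Q68572 : ∀ i, i < 68572 → P i := stepQ 68571 Q68571 (allL N68571 (tt N64029 (iv1 F342570)) (tt N78321 (iv0 F342569)) (tt N68569 (iv2 F341023)) (tt N78131 (iv3 F342387)) (tt N66855 F340992) (tt N78129 F363148) (tt N37619 (iv6 D131620)) (tt N68566 F340989))
theorem Q68573 : ∀ i, i < 68573 → P i := stepQ 68572 Q68572 (allL N68572 (tt N40245 F318743) (tt N37624 (iv0 D131633)) (tt N67102 (iv2 F210865)) (tt N64029 (iv3 F311173)) (tt N70114 (iv4 F216711)) (tt N44138 F210863) (tt N64028 (iv6 F307140)) (tt N37650 F210866))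
theorem Q68574 : ∀ i, i < 68574 → P i := stepQ 68573 Q68573 (allL N68573 (tt N37650 (iv1 F210870)) (tt N67102 F210871) (tt N40245 F318738) (tt N74308 F318739) (tt N69341 (iv4 F213873)) (tt N40240 F318740) (tt N37648 F210869) (tt N37624 (iv7 D131634)))
theorem Q68575 : ∀ i, i < 68575 → P i := stepQ 68574 Q68574 (allL N68574 (tt N37631 (iv1 F210974)) (tt N37630 F210975) (tt N37632 F210973) (tt N54140 (iv3 F309045)) (tt N43980 F309193) (tt N76006 (iv5 F235551)) (tt N69659 (iv6 F215478)) (tt N37626 (iv7 D131639)))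
theorem Q68576 : ∀ i, i < 68576 → P i := stepQ 68575 Q68575 (allL N68575 (tt N37628 (iv1 D131641)) (tt N42295 F310049) (tt N42294 (iv2 F312047)) (tt N75690 F309871) (tt N42460 (iv4 F312079)) (tt N38321 F210979) (tt N78938 F309872) (tt N42293 (iv7 F312068)))
theorem Q68577 : ∀ i, i < 68577 → P i := stepQ 68576 Q68576 (allL N68576 (tt N45226 F312182) (tt N76631 F312183) (tt N42291 F312184) (tt N45234 F312185) (tt N37628 (iv4 D131642)) (tt N78282 (iv5 F247665)) (tt N42286 F312186) (tt N69660 (iv7 F215482)))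
theorem Q68578 : ∀ i, i < 68578 → P i := stepQ 68577 Q68577 (allL N68577 (tt N37634 (iv1 D131655)) (tt N42861 F307847) (tt N64028 F308988) (tt N40025 (iv3 F211014)) (tt N70115 (iv4 F216721)) (tt N42697 F308989) (tt N67102 (iv6 F211011)) (tt N37652 F211010))
theorem Q68579 : ∀ i, i < 68579 → P i := stepQ 68578 Q68578 (allL N68578 (tt N78569 F384812) (tt N104261 D207453) (tt N78546 F366446) (tt N37637 F211024) (tt N70539 (iv4 F217749)) (tt N80642 F366650) (tt N37635 (iv6 D131666)) (tt N104262 D207454))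
theorem Q68580 : ∀ i, i < 68580 → P i := stepQ 68579 Q68579 (allL N68579 (tt N37639 (iv1 F211031)) (tt N37636 (iv0 D131668)) (tt N69299 F213704) (tt N43319 F317033) (tt N44823 F317034) (tt N104263 D207455) (tt N81053 F317035) (tt N43317 (iv7 F317451)))
theorem Q68581 : ∀ i, i < 68581 → P i := stepQ 68580 Q68580 (allL N68580 (tt N81079 F324751) (tt N49647 F324752) (tt N81080 F324753) (tt N37636 (iv3 D131670)) (tt N53567 F324754) (tt N46843 F324755) (tt N81089 F324756) (tt N53561 F324757))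
theorem Q68582 : ∀ i, i < 68582 → P i := stepQ 68581 Q68581 (allL N68581 (tt N87809 F380605) (tt N102277 F436514) (tt N41982 F333680) (tt N46843 F362984) (tt N55548 (iv4 F366591)) (tt N37636 (iv5 D131671)) (tt N41954 F333681) (tt N69300 (iv7 F217732)))
theorem Q68583 : ∀ i, i < 68583 → P i := stepQ 68582 Q68582 (allL N68582 (tt N91310 (iv1 F392663)) (tt N91340 (iv0 F392803)) (tt N41985 F333684) (tt N81089 (iv3 F362983)) (tt N37637 F211028) (tt N41955 F333685) (tt N37636 (iv6 D131672)) (tt N81084 F343371))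
theorem Q68584 : ∀ i, i < 68584 → P i := stepQ 68583 Q68583 (allL N68583 (tt N69309 (iv1 F217718)) (tt N37637 (iv0 D131679)) (tt N69306 F354050) (tt N69675 F354051) (tt N103932 (iv4 F443426)) (tt N91330 (iv5 F392759)) (tt N77029 (iv6 F354049)) (tt N69307 (iv7 F354052)))
theorem Q68585 : ∀ i, i < 68585 → P i := stepQ 68584 Q68584 (allL N68584 (tt N69307 (iv1 F217715)) (tt N69306 F217717) (tt N69309 (iv2 F217714)) (tt N104262 (iv3 F445002)) (tt N81084 (iv4 F358083)) (tt N91269 (iv5 F392469)) (tt N69303 (iv6 F217745)) (tt N37637 (iv7 D131682)))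
theorem Q68586 : ∀ i, i < 68586 → P i := stepQ 68585 Q68585 (allL N68585 (tt N69304 (iv1 F217680)) (tt N37638 (iv0 D131684)) (tt N69176 (iv2 F213186)) (tt N69670 F215566) (tt N68979 F212287) (tt N69081 (iv5 F212758)) (tt N78541 F335253) (tt N69270 (iv7 F213617)))
theorem Q68587 : ∀ i, i < 68587 → P i := stepQ 68586 Q68586 (allL N68586 (tt N69176 F217652) (tt N69270 (iv0 F217651)) (tt N37638 (iv2 D131686)) (tt N69298 (iv3 F217672)) (tt N46598 F317697) (tt N69388 (iv5 F217650)) (tt N104264 D207456) (tt N69304 F217653))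
theorem Q68588 : ∀ i, i < 68588 → P i := stepQ 68587 Q68587 (allL N68587 (tt N46593 F312035) (tt N44904 (iv0 F313735)) (tt N46598 F316293) (tt N76040 (iv3 F343402)) (tt N37638 (iv4 D131687)) (tt N103057 (iv5 F439879)) (tt N80344 F351473) (tt N46597 F316294))
theorem Q68589 : ∀ i, i < 68589 → P i := stepQ 68588 Q68588 (allL N68588 (tt N63249 F351478) (tt N104253 (iv0 F444956)) (tt N104264 (iv2 F445014)) (tt N37640 F211053) (tt N80344 (iv4 F351476)) (tt N100707 (iv5 F430112)) (tt N37638 (iv6 D131688)) (tt N104256 (iv7 F444970)))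
theorem Q68590 : ∀ i, i < 68590 → P i := stepQ 68589 Q68589 (allL N68589 (tt N81081 (iv1 F358079)) (tt N80938 F358081) (tt N53559 (iv2 F358075)) (tt N62140 F351477) (tt N37640 F211054) (tt N62138 (iv5 F359936)) (tt N37639 (iv6 D131691)) (tt N81082 (iv7 F358074)))
theorem Q68591 : ∀ i, i < 68591 → P i := stepQ 68590 Q68590 (allL N68590 (tt N45483 F334240) (tt N45481 F334241) (tt N45479 F336540) (tt N100707 F430113) (tt N81618 F336541) (tt N37640 (iv5 D131694)) (tt N46124 F336542) (tt N45480 F336543))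
theorem Q68592 : ∀ i, i < 68592 → P i := stepQ 68591 Q68591 (allL N68591 (tt N69302 (iv1 F217741)) (tt N69301 F217743) (tt N69303 F217739) (tt N104256 (iv3 F444969)) (tt N81082 F358071) (tt N45480 F336544) (tt N69309 (iv6 F217746)) (tt N37640 (iv7 D131695)))
theorem Q68593 : ∀ i, i < 68593 → P i := stepQ 68592 Q68592 (allL N68592 (tt N78579 F334243) (tt N77029 (iv0 F340791)) (tt N78543 F306579) (tt N87923 (iv3 F381145)) (tt N46880 F306580) (tt N79750 (iv5 F334242)) (tt N37643 (iv6 D131709)) (tt N79758 (iv7 F341631)))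
theorem Q68594 : ∀ i, i < 68594 → P i := stepQ 68593 Q68593 (allL N68593 (tt N46601 (iv1 F305339)) (tt N37644 (iv0 D131740)) (tt N46556 (iv2 F305604)) (tt N63917 F304888) (tt N38380 F211087) (tt N77375 (iv5 F242482)) (tt N54141 (iv6 F309042)) (tt N66817 F211089))
theorem Q68595 : ∀ i, i < 68595 → P i := stepQ 68594 Q68594 (allL N68594 (tt N66817 (iv1 F211095)) (tt N46556 (iv0 F305603)) (tt N46601 (iv2 F305340)) (tt N37646 F211093) (tt N43444 F211094) (tt N74750 (iv5 F228881)) (tt N42299 F315919) (tt N37644 (iv7 D131741)))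
theorem Q68596 : ∀ i, i < 68596 → P i := stepQ 68595 Q68595 (allL N68595 (tt N68569 (iv1 F247735)) (tt N68566 (iv0 F227763)) (tt N78321 (iv2 F248087)) (tt N37650 F211143) (tt N76904 (iv4 F240657)) (tt N67073 F211145) (tt N37649 (iv6 D131778)) (tt N64029 (iv7 F311176)))
theorem Q68597 : ∀ i, i < 68597 → P i := stepQ 68596 Q68596 (allL N68596 (tt N64680 (iv1 F328651)) (tt N64679 (iv0 F328648)) (tt N64682 (iv2 F329067)) (tt N37878 F211156) (tt N64276 (iv4 F329065)) (tt N41248 F211157) (tt N57715 F211158) (tt N37653 (iv7 D131787)))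
theorem Q68598 : ∀ i, i < 68598 → P i := stepQ 68597 Q68597 (allL N68597 (tt N78092 (iv1 F245956)) (tt N37655 (iv0 D131788)) (tt N52970 F354695) (tt N104265 D207457) (tt N104266 D207458) (tt N69941 (iv5 F377958)) (tt N49509 (iv6 F354694)) (tt N78091 (iv7 F354696)))
theorem Q68599 : ∀ i, i < 68599 → P i := stepQ 68598 Q68598 (allL N68598 (tt N37655 (iv1 D131789)) (tt N78092 F245958) (tt N78091 (iv2 F354698)) (tt N87849 F380836) (tt N93100 (iv4 F399498)) (tt N69942 F361767) (tt N104267 D207459) (tt N52970 F354697))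
theorem Q68600 : ∀ i, i < 68600 → P i := stepQ 68599 Q68599 (allL N68599 (tt N68840 F211683) (tt N94495 (iv0 F404713)) (tt N67571 F211167) (tt N94047 (iv3 F402968)) (tt N69802 (iv4 F216181)) (tt N67233 F211168) (tt N37659 (iv6 D131795)) (tt N67233 F211169))
theorem Q68601 : ∀ i, i < 68601 → P i := stepQ 68600 Q68600 (allL N68600 (tt N65990 (iv1 F349605)) (tt N37661 (iv0 D131796)) (tt N93015 F399130) (tt N103690 (iv3 F442489)) (tt N102410 (iv4 F437121)) (tt N56466 (iv5 F349606)) (tt N102409 (iv6 F437119)) (tt N93014 F399125))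
theorem Q68602 : ∀ i, i < 68602 → P i := stepQ 68601 Q68601 (allL N68601 (tt N37661 (iv1 D131797)) (tt N65990 F349615) (tt N93014 F399124) (tt N60810 F349616) (tt N104268 D207460) (tt N56467 (iv5 F349617)) (tt N93096 (iv6 F399466)) (tt N93015 (iv7 F399127)))
theorem Q68603 : ∀ i, i < 68603 → P i := stepQ 68602 Q68602 (allL N68602 (tt N93015 (iv1 F399126)) (tt N93014 F399123) (tt N37661 (iv2 D131798)) (tt N67577 F211171) (tt N67241 F211172) (tt N79738 F348756) (tt N79740 (iv6 F348755)) (tt N65990 F349604))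
theorem Q68604 : ∀ i, i < 68604 → P i := stepQ 68603 Q68603 (allL N68603 (tt N56552 F358254) (tt N56557 F358315) (tt N79738 F348727) (tt N37662 F211173) (tt N52667 (iv4 F295478)) (tt N37661 (iv5 D131799)) (tt N79734 F348748) (tt N52664 (iv7 F295475)))
theorem Q68605 : ∀ i, i < 68605 → P i := stepQ 68604 Q68604 (allL N68604 (tt N104269 D207461) (tt N97599 (iv0 F417546)) (tt N79740 F348751) (tt N37663 F211175) (tt N67243 F211176) (tt N79735 (iv5 F348750)) (tt N37661 (iv6 D131800)) (tt N65985 (iv7 F349571)))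
theorem Q68606 : ∀ i, i < 68606 → P i := stepQ 68605 Q68605 (allL N68605 (tt N83602 F358224) (tt N83601 F363245) (tt N49999 (iv2 F341773)) (tt N79734 (iv3 F348749)) (tt N56410 F211178) (tt N60617 F358216) (tt N37662 (iv6 D131801)) (tt N83603 (iv7 F358217)))
theorem Q68607 : ∀ i, i < 68607 → P i := stepQ 68606 Q68606 (allL N68606 (tt N67306 (iv1 F211186)) (tt N37663 (iv0 D131802)) (tt N60767 (iv2 F358164)) (tt N97591 F417505) (tt N38192 F211189) (tt N60764 F358175) (tt N93222 (iv6 F400018)) (tt N67578 F211188))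
theorem Q68608 : ∀ i, i < 68608 → P i := stepQ 68607 Q68607 (allL N68607 (tt N37663 (iv1 D131803)) (tt N67306 F211179) (tt N67578 (iv2 F211181)) (tt N60772 F358167) (tt N38193 F211180) (tt N60768 F358168) (tt N67246 (iv6 F211182)) (tt N60767 (iv7 F358166)))
theorem Q68609 : ∀ i, i < 68609 → P i := stepQ 68608 Q68608 (allL N68608 (tt N67578 (iv1 F211187)) (tt N60767 (iv0 F358162)) (tt N67306 F211183) (tt N65985 F349572) (tt N37666 F211184) (tt N103255 (iv5 F440817)) (tt N59152 F211185) (tt N37663 (iv7 D131804)))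
theorem Q68610 : ∀ i, i < 68610 → P i := stepQ 68609 Q68609 (allL N68609 (tt N50900 (iv1 F327155)) (tt N37688 F211694) (tt N93011 F399111) (tt N37664 (iv3 D131805)) (tt N69357 (iv4 F213986)) (tt N92534 (iv5 F397287)) (tt N68844 F211695) (tt N67581 F211194))
theorem Q68611 : ∀ i, i < 68611 → P i := stepQ 68610 Q68610 (allL N68610 (tt N67304 F211197) (tt N37671 F211206) (tt N67580 F211195) (tt N66628 F363887) (tt N37664 (iv4 D131806)) (tt N104270 D207462) (tt N68848 (iv6 F211708)) (tt N67582 F211196))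
theorem Q68612 : ∀ i, i < 68612 → P i := stepQ 68611 Q68611 (allL N68611 (tt N37671 F211204) (tt N67304 F211205) (tt N67582 F211201) (tt N97701 F417969) (tt N37665 (iv4 D131808)) (tt N104271 D207463) (tt N67251 F211202) (tt N67580 F211203))
theorem Q68613 : ∀ i, i < 68613 → P i := stepQ 68612 Q68612 (allL N68612 (tt N67577 (iv1 F211207)) (tt N37667 (iv0 D131809)) (tt N67576 F216663) (tt N88248 (iv3 F382343)) (tt N44824 F317045) (tt N37772 (iv5 F211212)) (tt N104272 D207464) (tt N67575 F216634))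
theorem Q68614 : ∀ i, i < 68614 → P i := stepQ 68613 Q68613 (allL N68613 (tt N37667 (iv1 D131810)) (tt N67577 (iv0 F211210)) (tt N67575 F216660) (tt N104273 D207465) (tt N67603 (iv4 F211209)) (tt N37773 F212088) (tt N102651 (iv6 F438057)) (tt N67576 (iv7 F216662)))
theorem Q68615 : ∀ i, i < 68615 → P i := stepQ 68614 Q68614 (allL N68614 (tt N67576 (iv1 F211216)) (tt N67575 F211215) (tt N37667 (iv2 D131811)) (tt N65990 F349602) (tt N37852 F211213) (tt N68781 (iv5 F212104)) (tt N65988 (iv6 F360839)) (tt N67577 F211214))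
theorem Q68616 : ∀ i, i < 68616 → P i := stepQ 68615 Q68615 (allL N68615 (tt N68784 F211620) (tt N68774 F211621) (tt N68781 F212103) (tt N37668 F211225) (tt N50003 F340298) (tt N37667 (iv5 D131812)) (tt N83607 F340299) (tt N50000 (iv7 F340295)))
theorem Q68617 : ∀ i, i < 68617 → P i := stepQ 68616 Q68616 (allL N68616 (tt N91223 (iv1 F392333)) (tt N51556 (iv0 F211228)) (tt N52663 (iv2 F341778)) (tt N83607 (iv3 F341777)) (tt N50726 F211227) (tt N80210 F343692) (tt N37668 (iv6 D131813)) (tt N83604 F341776))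
theorem Q68618 : ∀ i, i < 68618 → P i := stepQ 68617 Q68617 (allL N68617 (tt N92923 (iv1 F398777)) (tt N37669 (iv0 D131814)) (tt N88242 (iv2 F382321)) (tt N102419 (iv3 F437156)) (tt N60803 F335827) (tt N58928 F335829) (tt N60802 (iv6 F335828)) (tt N88235 (iv7 F382290)))
theorem Q68619 : ∀ i, i < 68619 → P i := stepQ 68618 Q68618 (allL N68618 (tt N37669 (iv1 D131815)) (tt N92923 F398778) (tt N88235 F382328) (tt N97689 F417913) (tt N98059 (iv4 F419313)) (tt N58929 (iv5 F382327)) (tt N104274 D207466) (tt N88242 F382326))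
theorem Q68620 : ∀ i, i < 68620 → P i := stepQ 68619 Q68619 (allL N68619 (tt N88242 (iv1 F382324)) (tt N88235 F382292) (tt N37669 (iv2 D131816)) (tt N69473 (iv3 F214455)) (tt N69514 (iv4 F214571)) (tt N93001 F399084) (tt N104275 D207467) (tt N92923 (iv7 F398776)))
theorem Q68621 : ∀ i, i < 68621 → P i := stepQ 68620 Q68620 (allL N68620 (tt N52596 (iv1 F363584)) (tt N52608 F340415) (tt N93001 F399083) (tt N37670 F211229) (tt N88376 (iv4 F382796)) (tt N37669 (iv5 D131817)) (tt N88375 F382793) (tt N68710 (iv7 F211425)))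
theorem Q68622 : ∀ i, i < 68622 → P i := stepQ 68621 Q68621 (allL N68621 (tt N104276 D207468) (tt N104277 D207469) (tt N104275 (iv2 F445067)) (tt N37671 F211230) (tt N69516 (iv4 F214579)) (tt N102352 (iv5 F436859)) (tt N37669 (iv6 D131818)) (tt N104278 D207470))
theorem Q68623 : ∀ i, i < 68623 → P i := stepQ 68622 Q68622 (allL N68622 (tt N104279 D207471) (tt N104280 D207472) (tt N68713 (iv2 F211430)) (tt N88375 (iv3 F382789)) (tt N38291 F211231) (tt N102351 (iv5 F436855)) (tt N37670 (iv6 D131819)) (tt N104281 D207473))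
theorem Q68624 : ∀ i, i < 68624 → P i := stepQ 68623 Q68623 (allL N68623 (tt N67582 (iv1 F211235)) (tt N67580 F211236) (tt N67304 F211232) (tt N104278 (iv3 F445077)) (tt N56575 F211233) (tt N103242 (iv5 F440741)) (tt N57031 F211234) (tt N37671 (iv7 D131820)))
theorem Q68625 : ∀ i, i < 68625 → P i := stepQ 68624 Q68624 (allL N68624 (tt N69473 (iv1 F214458)) (tt N37672 (iv0 D131821)) (tt N69472 F217724) (tt N67587 F211237) (tt N103743 (iv4 F442644)) (tt N56722 (iv5 F358298)) (tt N104282 D207474) (tt N69471 (iv7 F217723)))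
theorem Q68626 : ∀ i, i < 68626 → P i := stepQ 68625 Q68625 (allL N68625 (tt N37672 (iv1 D131822)) (tt N69473 F214460) (tt N69471 (iv2 F217725)) (tt N104283 D207475) (tt N103670 (iv4 F442442)) (tt N56723 (iv5 F358291)) (tt N102247 (iv6 F436354)) (tt N69472 F217726))
theorem Q68627 : ∀ i, i < 68627 → P i := stepQ 68626 Q68626 (allL N68626 (tt N69472 (iv1 F214459)) (tt N69471 F214454) (tt N37672 (iv2 D131823)) (tt N92923 (iv3 F398773)) (tt N67691 F211238) (tt N68830 (iv5 F343682)) (tt N104284 D207476) (tt N69473 (iv7 F214457)))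
theorem Q68628 : ∀ i, i < 68628 → P i := stepQ 68627 Q68627 (allL N68627 (tt N69282 F361707) (tt N93235 F400073) (tt N68830 F343681) (tt N37673 F211239) (tt N94023 (iv4 F402852)) (tt N37672 (iv5 D131824)) (tt N56570 (iv6 F358289)) (tt N68712 (iv7 F211429)))
theorem Q68629 : ∀ i, i < 68629 → P i := stepQ 68628 Q68628 (allL N68628 (tt N97657 F417807) (tt N86965 (iv0 F377875)) (tt N104284 (iv2 F445091)) (tt N37674 F211240) (tt N67693 F211241) (tt N65533 (iv5 F342899)) (tt N37672 (iv6 D131825)) (tt N67303 (iv7 F211242)))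
theorem Q68630 : ∀ i, i < 68630 → P i := stepQ 68629 Q68629 (allL N68629 (tt N86708 (iv1 F376866)) (tt N68738 (iv0 F349624)) (tt N68711 (iv2 F211426)) (tt N56570 (iv3 F358287)) (tt N45163 F211243) (tt N92096 (iv5 F395717)) (tt N37673 (iv6 D131826)) (tt N68825 (iv7 F343677)))
theorem Q68631 : ∀ i, i < 68631 → P i := stepQ 68630 Q68630 (allL N68630 (tt N104283 F445090) (tt N104285 D207477) (tt N70269 (iv2 F352542)) (tt N37675 (iv3 D131829)) (tt N70158 F216826) (tt N85679 (iv5 F373502)) (tt N104286 D207478) (tt N70273 (iv7 F352495)))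
theorem Q68632 : ∀ i, i < 68632 → P i := stepQ 68631 Q68631 (allL N68631 (tt N70959 F352507) (tt N49722 (iv0 F352508)) (tt N54262 F352502) (tt N73844 (iv3 F355777)) (tt N37675 (iv4 D131830)) (tt N77286 (iv5 F352504)) (tt N49592 (iv6 F352505)) (tt N87661 (iv7 F380024)))
theorem Q68633 : ∀ i, i < 68633 → P i := stepQ 68632 Q68632 (allL N68632 (tt N68701 (iv1 F362893)) (tt N56526 F362892) (tt N68704 (iv2 F362888)) (tt N85679 F373503) (tt N104287 D207479) (tt N37675 (iv5 D131831)) (tt N104288 D207480) (tt N68703 F362891))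
theorem Q68634 : ∀ i, i < 68634 → P i := stepQ 68633 Q68633 (allL N68633 (tt N97666 (iv1 F417850)) (tt N97701 F417967) (tt N54261 (iv2 F352513)) (tt N104286 (iv3 F445102)) (tt N49592 F352506) (tt N103367 (iv5 F441308)) (tt N37675 (iv6 D131832)) (tt N54259 (iv7 F352514)))
theorem Q68635 : ∀ i, i < 68635 → P i := stepQ 68634 Q68634 (allL N68634 (tt N49722 (iv1 F352509)) (tt N70959 F352615) (tt N87661 (iv2 F380026)) (tt N69731 (iv3 F215993)) (tt N37676 (iv4 D131835)) (tt N77291 (iv5 F352501)) (tt N97700 (iv6 F417962)) (tt N54262 F352500))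
theorem Q68636 : ∀ i, i < 68636 → P i := stepQ 68635 Q68635 (allL N68635 (tt N56526 (iv1 F361769)) (tt N68701 (iv0 F352570)) (tt N68703 F362890) (tt N52671 (iv3 F352534)) (tt N104289 D207481) (tt N37676 (iv5 D131836)) (tt N52670 F352533) (tt N68704 (iv7 F362889)))
theorem Q68637 : ∀ i, i < 68637 → P i := stepQ 68636 Q68636 (allL N68636 (tt N93021 (iv1 F399146)) (tt N93020 F399143) (tt N37678 F211248) (tt N37680 F364671) (tt N104290 D207482) (tt N37677 (iv5 D131838)) (tt N37678 F364672) (tt N93019 (iv7 F399139)))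
theorem Q68638 : ∀ i, i < 68638 → P i := stepQ 68637 Q68637 (allL N68637 (tt N93019 (iv1 F399141)) (tt N37678 (iv0 D131840)) (tt N93021 F399149) (tt N104291 D207483) (tt N104292 D207484) (tt N37716 F367308) (tt N104293 D207485) (tt N93020 F399145))
theorem Q68639 : ∀ i, i < 68639 → P i := stepQ 68638 Q68638 (allL N68638 (tt N37678 (iv1 D131841)) (tt N93019 (iv0 F399140)) (tt N93020 F399144) (tt N104294 D207486) (tt N104295 D207487) (tt N37717 F354693) (tt N104296 D207488) (tt N93021 (iv7 F399147)))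
theorem Q68640 : ∀ i, i < 68640 → P i := stepQ 68639 Q68639 (allL N68639 (tt N104297 D207489) (tt N86623 (iv0 F493760)) (tt N104290 (iv2 F445106)) (tt N56462 F211250) (tt N37678 (iv4 D131842)) (tt N104298 D207491) (tt N104290 (iv6 F445108)) (tt N93022 (iv7 F399151)))
theorem Q68641 : ∀ i, i < 68641 → P i := stepQ 68640 Q68640 (allL N68640 (tt N37695 F349622) (tt N37680 (iv0 D131848)) (tt N92952 (iv2 F398898)) (tt N93068 (iv3 F399351)) (tt N56597 (iv4 F343654)) (tt N37736 F349623) (tt N93062 (iv6 F399339)) (tt N92956 (iv7 F398905)))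
theorem Q68642 : ∀ i, i < 68642 → P i := stepQ 68641 Q68641 (allL N68641 (tt N37680 (iv1 D131849)) (tt N37695 F342924) (tt N92956 (iv2 F398904)) (tt N79896 F363065) (tt N56598 F343659) (tt N37735 F342925) (tt N104299 D207492) (tt N92952 F398895))
theorem Q68643 : ∀ i, i < 68643 → P i := stepQ 68642 Q68642 (allL N68642 (tt N92956 (iv1 F398907)) (tt N92952 F398899) (tt N37695 F349636) (tt N93019 (iv3 F399138)) (tt N56465 F211255) (tt N37694 F349637) (tt N93026 (iv6 F399158)) (tt N37680 (iv7 D131851)))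
theorem Q68644 : ∀ i, i < 68644 → P i := stepQ 68643 Q68643 (allL N68643 (tt N93982 F413911) (tt N104274 (iv0 F445065)) (tt N104300 D207493) (tt N37681 (iv3 D131852)) (tt N96782 (iv4 F413907)) (tt N60664 F364797) (tt N60712 (iv6 F332785)) (tt N92929 (iv7 F398799)))
theorem Q68645 : ∀ i, i < 68645 → P i := stepQ 68644 Q68644 (allL N68644 (tt N104282 F445087) (tt N104301 D207494) (tt N104302 D207495) (tt N37682 (iv3 D131853)) (tt N104303 D207496) (tt N102931 (iv5 F439307)) (tt N104304 D207497) (tt N92928 (iv7 F398797)))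
theorem Q68646 : ∀ i, i < 68646 → P i := stepQ 68645 Q68645 (allL N68645 (tt N68843 (iv1 F211689)) (tt N68848 F211710) (tt N92930 (iv2 F398800)) (tt N104304 (iv3 F445144)) (tt N56582 F211257) (tt N98010 (iv5 F419156)) (tt N37682 (iv6 D131854)) (tt N67282 F211258))
theorem Q68647 : ∀ i, i < 68647 → P i := stepQ 68646 Q68646 (allL N68646 (tt N91112 (iv1 F391982)) (tt N37683 (iv0 D131855)) (tt N67366 (iv2 F211260)) (tt N104305 D207498) (tt N92847 (iv4 F398484)) (tt N60939 (iv5 F342920)) (tt N74377 F332870) (tt N67368 (iv7 F211261)))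
theorem Q68648 : ∀ i, i < 68648 → P i := stepQ 68647 Q68647 (allL N68647 (tt N37683 (iv1 D131856)) (tt N91112 F391983) (tt N67368 (iv2 F211264)) (tt N104306 D207499) (tt N56200 F342922) (tt N65613 F211263) (tt N56199 (iv6 F349625)) (tt N67366 F211262))
theorem Q68649 : ∀ i, i < 68649 → P i := stepQ 68648 Q68648 (allL N68648 (tt N104307 D207500) (tt N93096 (iv0 F399468)) (tt N104308 D207501) (tt N37685 (iv3 D131859)) (tt N60464 (iv4 F328353)) (tt N60461 (iv5 F360821)) (tt N60464 (iv6 F328354)) (tt N93016 (iv7 F399131)))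
theorem Q68650 : ∀ i, i < 68650 → P i := stepQ 68649 Q68649 (allL N68649 (tt N104272 (iv1 F445058)) (tt N54504 (iv0 F365319)) (tt N104309 D207502) (tt N37686 (iv3 D131860)) (tt N37870 F211270) (tt N102380 (iv5 F436988)) (tt N104310 D207503) (tt N67650 F211271))
theorem Q68651 : ∀ i, i < 68651 → P i := stepQ 68650 Q68650 (allL N68650 (tt N93221 (iv1 F400017)) (tt N93222 (iv0 F400020)) (tt N93017 (iv2 F399132)) (tt N104310 (iv3 F445174)) (tt N37687 F211272) (tt N103476 (iv5 F441793)) (tt N37686 (iv6 D131861)) (tt N67284 F211273))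
theorem Q68652 : ∀ i, i < 68652 → P i := stepQ 68651 Q68651 (allL N68651 (tt N37688 (iv1 D131863)) (tt N50900 (iv0 F327154)) (tt N67581 (iv2 F211696)) (tt N64680 (iv3 F328652)) (tt N69358 (iv4 F213992)) (tt N102676 (iv5 F438168)) (tt N67285 (iv6 F211977)) (tt N93011 (iv7 F399113)))
theorem Q68653 : ∀ i, i < 68653 → P i := stepQ 68652 Q68652 (allL N68652 (tt N104311 D207504) (tt N104312 D207505) (tt N102527 (iv2 F437510)) (tt N97919 (iv3 F418803)) (tt N99161 (iv4 F423531)) (tt N37689 (iv5 D131869)) (tt N70686 (iv6 F218106)) (tt N104066 (iv7 F444010)))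
theorem Q68654 : ∀ i, i < 68654 → P i := stepQ 68653 Q68653 (allL N68653 (tt N67285 (iv1 F211288)) (tt N67249 (iv0 F211287)) (tt N67286 F211284) (tt N64682 (iv3 F329068)) (tt N68189 F211285) (tt N70215 (iv5 F216996)) (tt N37690 (iv6 D131870)) (tt N64681 (iv7 F329394)))
theorem Q68655 : ∀ i, i < 68655 → P i := stepQ 68654 Q68654 (allL N68654 (tt N94217 (iv1 F403742)) (tt N37691 (iv0 D131871)) (tt N67732 (iv2 F211296)) (tt N69777 F217195) (tt N68335 (iv4 F217196)) (tt N104313 D207506) (tt N74201 F226976) (tt N94216 (iv7 F403730)))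
theorem Q68656 : ∀ i, i < 68656 → P i := stepQ 68655 Q68655 (allL N68655 (tt N94216 (iv1 F403729)) (tt N67732 (iv0 F211300)) (tt N94217 (iv2 F403736)) (tt N37708 F211297) (tt N77870 (iv4 F245179)) (tt N37692 F211298) (tt N57220 F211299) (tt N37691 (iv7 D131873)))
theorem Q68657 : ∀ i, i < 68657 → P i := stepQ 68656 Q68656 (allL N68656 (tt N67584 F214805) (tt N67587 (iv0 F212536)) (tt N69046 (iv2 F212541)) (tt N37693 (iv3 D131879)) (tt N69045 (iv4 F212535)) (tt N69256 (iv5 F213568)) (tt N87900 (iv6 F381029)) (tt N92078 (iv7 F395658)))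
theorem Q68658 : ∀ i, i < 68658 → P i := stepQ 68657 Q68657 (allL N68657 (tt N56511 (iv1 F211477)) (tt N68733 F211473) (tt N68735 F211471) (tt N69256 F213569) (tt N86861 (iv4 F377472)) (tt N37693 (iv5 D131881)) (tt N87903 (iv6 F381061)) (tt N68736 (iv7 F211474)))
theorem Q68659 : ∀ i, i < 68659 → P i := stepQ 68658 Q68658 (allL N68658 (tt N97474 F417004) (tt N67293 F391985) (tt N37696 F211317) (tt N91111 (iv3 F391972)) (tt N92134 (iv4 F395900)) (tt N104314 D207507) (tt N37694 (iv6 D131884)) (tt N91109 F391967))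
theorem Q68660 : ∀ i, i < 68660 → P i := stepQ 68659 Q68659 (allL N68659 (tt N92935 F398830) (tt N65602 F347759) (tt N93026 (iv2 F399156)) (tt N37697 F211320) (tt N56461 F333544) (tt N102122 (iv5 F435844)) (tt N37695 (iv6 D131888)) (tt N37697 F333545))
theorem Q68661 : ∀ i, i < 68661 → P i := stepQ 68660 Q68660 (allL N68660 (tt N91109 (iv1 F391969)) (tt N37696 (iv0 D131889)) (tt N97474 (iv2 F417002)) (tt N103478 (iv3 F441796)) (tt N97889 F418676) (tt N92043 F395515) (tt N103473 (iv6 F441783)) (tt N67293 F391970))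
theorem Q68662 : ∀ i, i < 68662 → P i := stepQ 68661 Q68661 (allL N68661 (tt N37696 (iv1 D131890)) (tt N91109 (iv0 F391968)) (tt N67293 F362257) (tt N104315 D207508) (tt N97879 (iv4 F418640)) (tt N92044 F395502) (tt N67167 (iv6 F362256)) (tt N97474 (iv7 F417003)))
theorem Q68663 : ∀ i, i < 68663 → P i := stepQ 68662 Q68662 (allL N68662 (tt N60677 (iv1 F395782)) (tt N60674 (iv0 F365770)) (tt N104314 (iv2 F445196)) (tt N37700 F211321) (tt N102123 (iv4 F435848)) (tt N37696 (iv5 D131891)) (tt N102122 F435846) (tt N102147 (iv7 F435936)))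
theorem Q68664 : ∀ i, i < 68664 → P i := stepQ 68663 Q68663 (allL N68663 (tt N67293 F391984) (tt N97474 F417005) (tt N91109 (iv2 F391965)) (tt N37701 F211322) (tt N97920 (iv4 F418807)) (tt N102147 (iv5 F435935)) (tt N91112 (iv6 F391980)) (tt N37696 (iv7 D131892)))
theorem Q68665 : ∀ i, i < 68665 → P i := stepQ 68664 Q68664 (allL N68664 (tt N93026 (iv1 F399160)) (tt N37697 (iv0 D131893)) (tt N65602 (iv2 F342978)) (tt N102220 (iv3 F436243)) (tt N56583 F342979) (tt N65503 F342980) (tt N65505 F342981) (tt N92935 (iv7 F398828)))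
theorem Q68666 : ∀ i, i < 68666 → P i := stepQ 68665 Q68665 (allL N68665 (tt N37697 (iv1 D131894)) (tt N93026 F399159) (tt N92935 (iv2 F398826)) (tt N104316 D207509) (tt N56584 F338514) (tt N65603 F342977) (tt N86832 (iv6 F377356)) (tt N65602 (iv7 F342976)))
theorem Q68667 : ∀ i, i < 68667 → P i := stepQ 68666 Q68666 (allL N68666 (tt N104317 D207510) (tt N104318 D207511) (tt N93025 (iv2 F399154)) (tt N102122 (iv3 F435843)) (tt N65569 (iv4 F366349)) (tt N37697 (iv5 D131895)) (tt N37700 F211323) (tt N102122 (iv7 F435845)))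
theorem Q68668 : ∀ i, i < 68668 → P i := stepQ 68667 Q68667 (allL N68667 (tt N102248 (iv1 F436358)) (tt N102247 F436355) (tt N102242 (iv2 F436328)) (tt N37698 (iv3 D131897)) (tt N67724 F211325) (tt N65807 (iv5 F362930)) (tt N92632 (iv6 F397695)) (tt N65806 (iv7 F343580)))
theorem Q68669 : ∀ i, i < 68669 → P i := stepQ 68668 Q68668 (allL N68668 (tt N103487 (iv1 F441831)) (tt N92042 F395499) (tt N92946 (iv2 F398861)) (tt N65807 F362929) (tt N65637 (iv4 F362565)) (tt N37698 (iv5 D131898)) (tt N97470 F416992) (tt N65803 (iv7 F362928)))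
theorem Q68670 : ∀ i, i < 68670 → P i := stepQ 68669 Q68669 (allL N68669 (tt N67251 (iv1 F211331)) (tt N67250 (iv0 F211332)) (tt N67263 F211328) (tt N92632 (iv3 F397693)) (tt N56593 F211329) (tt N68722 (iv5 F211440)) (tt N37698 (iv6 D131899)) (tt N56827 F211330))
theorem Q68671 : ∀ i, i < 68671 → P i := stepQ 68670 Q68670 (allL N68670 (tt N92042 F395498) (tt N103487 (iv0 F441830)) (tt N65803 (iv2 F362926)) (tt N97940 (iv3 F418887)) (tt N65636 (iv4 F358191)) (tt N37699 (iv5 D131901)) (tt N65802 F362925) (tt N92946 (iv7 F398863)))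
theorem Q68672 : ∀ i, i < 68672 → P i := stepQ 68671 Q68671 (allL N68671 (tt N102821 (iv1 F438802)) (tt N102651 (iv0 F438059)) (tt N102828 F438832) (tt N37702 (iv3 D131906)) (tt N37910 F211339) (tt N104319 D207512) (tt N104320 D207513) (tt N67256 F211340))
theorem Q68673 : ∀ i, i < 68673 → P i := stepQ 68672 Q68672 (allL N68672 (tt N102094 (iv1 F435695)) (tt N101968 (iv0 F435136)) (tt N93030 (iv2 F399175)) (tt N104319 (iv3 F445219)) (tt N97477 (iv4 F417007)) (tt N37702 (iv5 D131907)) (tt N65805 F360463) (tt N67258 F211341))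
theorem Q68674 : ∀ i, i < 68674 → P i := stepQ 68673 Q68673 (allL N68673 (tt N67246 (iv1 F211345)) (tt N67245 F211347) (tt N67248 F211342) (tt N104320 (iv3 F445226)) (tt N37703 F211343) (tt N68758 (iv5 F211525)) (tt N37702 (iv6 D131908)) (tt N37839 F211344))
theorem Q68675 : ∀ i, i < 68675 → P i := stepQ 68674 Q68674 (allL N68674 (tt N102409 (iv1 F437118)) (tt N102408 (iv0 F437112)) (tt N65989 (iv2 F349600)) (tt N37704 (iv3 D131909)) (tt N59150 F211350) (tt N65775 (iv5 F349573)) (tt N67164 F211351) (tt N65984 F349565))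
theorem Q68676 : ∀ i, i < 68676 → P i := stepQ 68675 Q68675 (allL N68675 (tt N101968 (iv1 F435137)) (tt N102094 (iv0 F435694)) (tt N67258 F211352) (tt N65775 F349596) (tt N102165 (iv4 F436000)) (tt N37704 (iv5 D131910)) (tt N103411 (iv6 F441500)) (tt N93030 (iv7 F399177)))
theorem Q68677 : ∀ i, i < 68677 → P i := stepQ 68676 Q68676 (allL N68676 (tt N62669 (iv1 F211361)) (tt N37707 (iv0 D131911)) (tt N68075 (iv2 F211358)) (tt N99264 (iv3 F423868)) (tt N38176 F211359) (tt N95393 (iv5 F408094)) (tt N74207 F226992) (tt N68076 F211360))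
theorem Q68678 : ∀ i, i < 68678 → P i := stepQ 68677 Q68677 (allL N68677 (tt N37707 (iv1 D131912)) (tt N62669 F211353) (tt N68076 (iv2 F211355)) (tt N58577 (iv3 F349528)) (tt N38177 F211354) (tt N59809 F349529) (tt N62631 (iv6 F211356)) (tt N68075 (iv7 F211357)))
theorem Q68679 : ∀ i, i < 68679 → P i := stepQ 68678 Q68678 (allL N68678 (tt N58584 F359067) (tt N95380 F408056) (tt N95382 F408069) (tt N37707 (iv3 D131913)) (tt N62501 (iv4 F330561)) (tt N48382 F359068) (tt N37709 F211362) (tt N95383 (iv7 F408072)))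
theorem Q68680 : ∀ i, i < 68680 → P i := stepQ 68679 Q68679 (allL N68679 (tt N65703 F360766) (tt N58573 (iv0 F344589)) (tt N68090 F211363) (tt N48382 F332880) (tt N102003 (iv4 F435317)) (tt N37707 (iv5 D131914)) (tt N48380 F332881) (tt N96914 (iv7 F414586)))
theorem Q68681 : ∀ i, i < 68681 → P i := stepQ 68680 Q68680 (allL N68680 (tt N68076 (iv1 F211368)) (tt N68075 F211369) (tt N62669 F211365) (tt N95383 F408075) (tt N37708 F211366) (tt N96914 (iv5 F414585)) (tt N39523 F211367) (tt N37707 (iv7 D131915)))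
theorem Q68682 : ∀ i, i < 68682 → P i := stepQ 68681 Q68681 (allL N68681 (tt N68093 (iv1 F211371)) (tt N37709 (iv0 D131916)) (tt N68092 F245140) (tt N94235 (iv3 F403797)) (tt N44283 F211370) (tt N60192 (iv5 F211372)) (tt N74096 (iv6 F365083)) (tt N68091 F245133))
theorem Q68683 : ∀ i, i < 68683 → P i := stepQ 68682 Q68682 (allL N68682 (tt N37709 (iv1 D131917)) (tt N68093 F211376) (tt N68091 (iv2 F245139)) (tt N65318 (iv3 F355485)) (tt N82083 F355483) (tt N60193 F245143) (tt N75910 F414404) (tt N68092 (iv7 F245142)))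
theorem Q68684 : ∀ i, i < 68684 → P i := stepQ 68683 Q68683 (allL N68683 (tt N68092 (iv1 F211377)) (tt N68091 F211375) (tt N37709 (iv2 D131918)) (tt N68086 F211373) (tt N77869 (iv4 F245175)) (tt N104197 (iv5 F444647)) (tt N95382 F408070) (tt N68093 F211374))
theorem Q68685 : ∀ i, i < 68685 → P i := stepQ 68684 Q68684 (allL N68684 (tt N38535 (iv1 F211378)) (tt N37710 (iv0 D131919)) (tt N38534 F354729) (tt N104321 D207514) (tt N104322 D207515) (tt N54737 F354715) (tt N104323 D207516) (tt N38533 F354730))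
theorem Q68686 : ∀ i, i < 68686 → P i := stepQ 68685 Q68685 (allL N68685 (tt N37710 (iv1 D131920)) (tt N38535 F211383) (tt N38533 F354725) (tt N75127 F354726) (tt N93054 (iv4 F399298)) (tt N54738 F354692) (tt N67318 F354691) (tt N38534 F354727))
theorem Q68687 : ∀ i, i < 68687 → P i := stepQ 68686 Q68686 (allL N68686 (tt N38534 (iv1 F211384)) (tt N38533 F211382) (tt N37710 (iv2 D131921)) (tt N38526 F211379) (tt N37718 F211380) (tt N104324 D207517) (tt N84013 (iv6 F367809)) (tt N38535 F211381))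
theorem Q68688 : ∀ i, i < 68688 → P i := stepQ 68687 Q68687 (allL N68687 (tt N104325 D207518) (tt N86987 F377963) (tt N104324 (iv2 F445248)) (tt N37711 F211385) (tt N104326 D207519) (tt N37710 (iv5 D131922)) (tt N104327 D207520) (tt N38536 F211386))
theorem Q68689 : ∀ i, i < 68689 → P i := stepQ 68688 Q68688 (allL N68688 (tt N100945 F431067) (tt N104328 D207521) (tt N38530 F211389) (tt N104327 (iv3 F445267)) (tt N46759 F329682) (tt N100575 F429533) (tt N37711 (iv6 D131924)) (tt N49775 F363023))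
theorem Q68690 : ∀ i, i < 68690 → P i := stepQ 68689 Q68689 (allL N68689 (tt N37712 (iv1 D131925)) (tt N38532 F211391) (tt N38503 (iv2 F211394)) (tt N104329 D207522) (tt N38416 F211393) (tt N104330 D207523) (tt N73226 (iv6 F360534)) (tt N38501 F211392))
theorem Q68691 : ∀ i, i < 68691 → P i := stepQ 68690 Q68690 (allL N68690 (tt N68221 F211396) (tt N104331 D207524) (tt N38531 F211395) (tt N88754 (iv3 F384058)) (tt N104332 D207525) (tt N37712 (iv5 D131926)) (tt N100575 (iv6 F429535)) (tt N104333 D207526))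
theorem Q68692 : ∀ i, i < 68692 → P i := stepQ 68691 Q68691 (allL N68691 (tt N38503 (iv1 F211400)) (tt N38501 F211401) (tt N38532 F211397) (tt N84012 F367794) (tt N37715 F211398) (tt N104333 (iv5 F445298)) (tt N38540 F211399) (tt N37712 (iv7 D131927)))
theorem Q68693 : ∀ i, i < 68693 → P i := stepQ 68692 Q68692 (allL N68692 (tt N89391 F386345) (tt N59004 (iv0 F211965)) (tt N95898 (iv2 F410147)) (tt N66102 F211402) (tt N47772 F332919) (tt N37713 (iv5 D131928)) (tt N47771 F332920) (tt N59053 F211404))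
theorem Q68694 : ∀ i, i < 68694 → P i := stepQ 68693 Q68693 (allL N68693 (tt N57717 (iv1 F211409)) (tt N66067 (iv0 F211408)) (tt N66066 F211405) (tt N37714 (iv3 D131929)) (tt N61690 F211407) (tt N97056 (iv5 F415245)) (tt N104313 (iv6 F445192)) (tt N66065 F211406))
theorem Q68695 : ∀ i, i < 68695 → P i := stepQ 68694 Q68694 (allL N68694 (tt N59004 F211963) (tt N89391 (iv0 F386344)) (tt N59053 F211410) (tt N97056 (iv3 F415243)) (tt N96245 (iv4 F411718)) (tt N37714 (iv5 D131930)) (tt N58969 F211411) (tt N95898 (iv7 F410149)))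
theorem Q68696 : ∀ i, i < 68696 → P i := stepQ 68695 Q68695 (allL N68695 (tt N66508 F216109) (tt N60875 F350321) (tt N67806 F211412) (tt N104313 (iv3 F445190)) (tt N69871 (iv4 F216280)) (tt N69777 (iv5 F216108)) (tt N37714 (iv6 D131931)) (tt N73299 (iv7 F342839)))
theorem Q68697 : ∀ i, i < 68697 → P i := stepQ 68696 Q68696 (allL N68696 (tt N56717 (iv1 F213566)) (tt N38045 (iv0 F211415)) (tt N70331 F355039) (tt N37716 (iv3 D131933)) (tt N59458 F211414) (tt N104291 (iv5 F445109)) (tt N104334 D207527) (tt N70334 (iv7 F355034)))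
theorem Q68698 : ∀ i, i < 68698 → P i := stepQ 68697 Q68697 (allL N68697 (tt N68791 F211629) (tt N70055 F355061) (tt N69853 F355059) (tt N104335 D207528) (tt N37716 (iv4 D131934)) (tt N49720 (iv5 F367305)) (tt N104336 D207529) (tt N70054 F355055))
theorem Q68699 : ∀ i, i < 68699 → P i := stepQ 68698 Q68698 (allL N68698 (tt N55749 F367309) (tt N67504 F367310) (tt N93048 (iv2 F399262)) (tt N104334 (iv3 F445302)) (tt N104336 (iv4 F445315)) (tt N88748 (iv5 F440834)) (tt N37716 (iv6 D131936)) (tt N67328 (iv7 F354707)))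
theorem Q68700 : ∀ i, i < 68700 → P i := stepQ 68699 Q68699 (allL N68699 (tt N67204 F211631) (tt N67208 F358357) (tt N93202 (iv2 F399952)) (tt N37717 (iv3 D131938)) (tt N103365 (iv4 F441296)) (tt N104294 (iv5 F445117)) (tt N67329 F354702) (tt N93047 (iv7 F399261)))
theorem Q68701 : ∀ i, i < 68701 → P i := stepQ 68700 Q68700 (allL N68700 (tt N70055 (iv1 F216520)) (tt N68791 (iv0 F211630)) (tt N70054 F355060) (tt N58050 (iv3 F211417)) (tt N37717 (iv4 D131939)) (tt N49721 F354705) (tt N67330 F354703) (tt N69853 F355058))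
theorem Q68702 : ∀ i, i < 68702 → P i := stepQ 68701 Q68701 (allL N68701 (tt N68635 F352570) (tt N68632 F362893) (tt N37719 F211418) (tt N93033 (iv3 F399194)) (tt N104337 D207530) (tt N37718 (iv5 D131942)) (tt N104338 D207531) (tt N93049 (iv7 F399270)))
theorem Q68703 : ∀ i, i < 68703 → P i := stepQ 68702 Q68702 (allL N68702 (tt N84022 F367838) (tt N60652 (iv0 F352572)) (tt N37720 F211419) (tt N60669 (iv3 F391696)) (tt N84013 (iv4 F367808)) (tt N104339 D207532) (tt N37718 (iv6 D131943)) (tt N88752 (iv7 F384051)))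
theorem Q68704 : ∀ i, i < 68704 → P i := stepQ 68703 Q68703 (allL N68703 (tt N93049 (iv1 F399272)) (tt N37719 (iv0 D131944)) (tt N68635 (iv2 F362890)) (tt N85689 (iv3 F373536)) (tt N104340 D207533) (tt N56495 F362894) (tt N60646 (iv6 F362895)) (tt N68632 (iv7 F362891)))
theorem Q68705 : ∀ i, i < 68705 → P i := stepQ 68704 Q68704 (allL N68704 (tt N37719 (iv1 D131945)) (tt N93049 (iv0 F399271)) (tt N68632 F362888) (tt N88327 (iv3 F382602)) (tt N104341 D207534) (tt N56496 (iv5 F362887)) (tt N104342 D207535) (tt N68635 F362889))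
theorem Q68706 : ∀ i, i < 68706 → P i := stepQ 68705 Q68705 (allL N68705 (tt N104343 D207536) (tt N104344 D207537) (tt N104337 (iv2 F445319)) (tt N56445 F211420) (tt N37719 (iv4 D131946)) (tt N104345 D207538) (tt N104297 F445125) (tt N86512 (iv7 F376404)))
theorem Q68707 : ∀ i, i < 68707 → P i := stepQ 68706 Q68706 (allL N68706 (tt N88249 F382347) (tt N93180 F399832) (tt N104338 (iv2 F445321)) (tt N37723 F211421) (tt N104297 (iv4 F445123)) (tt N104322 (iv5 F445238)) (tt N37719 (iv6 D131947)) (tt N104346 D207539))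
theorem Q68708 : ∀ i, i < 68708 → P i := stepQ 68707 Q68707 (allL N68707 (tt N37720 (iv1 D131949)) (tt N88752 F384053) (tt N60652 F362897) (tt N104347 D207540) (tt N84095 (iv4 F368083)) (tt N87689 F383724) (tt N55746 (iv6 F362896)) (tt N84022 (iv7 F367836)))
theorem Q68709 : ∀ i, i < 68709 → P i := stepQ 68708 Q68708 (allL N68708 (tt N103317 (iv1 F441117)) (tt N104348 D207541) (tt N104339 (iv2 F445325)) (tt N37726 F211422) (tt N104323 (iv4 F445244)) (tt N37720 (iv5 D131950)) (tt N104322 F445242) (tt N104349 D207542))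
theorem Q68710 : ∀ i, i < 68710 → P i := stepQ 68709 Q68709 (allL N68709 (tt N60652 (iv1 F352573)) (tt N84022 (iv0 F367837)) (tt N88752 (iv2 F384049)) (tt N37727 F211423) (tt N84012 F367795) (tt N104349 (iv5 F445366)) (tt N78403 (iv6 F334366)) (tt N37720 (iv7 D131951)))
theorem Q68711 : ∀ i, i < 68711 → P i := stepQ 68710 Q68710 (allL N68710 (tt N87892 F380994) (tt N56469 (iv0 F348991)) (tt N88213 F382202) (tt N37721 (iv3 D131952)) (tt N88052 (iv4 F381597)) (tt N56399 F211424) (tt N79695 F343688) (tt N68620 F211425))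
theorem Q68712 : ∀ i, i < 68712 → P i := stepQ 68711 Q68711 (allL N68711 (tt N104350 D207543) (tt N85299 (iv0 F372209)) (tt N68629 F211426) (tt N79695 (iv3 F343679)) (tt N38216 F211427) (tt N55670 (iv5 F342869)) (tt N37721 (iv6 D131953)) (tt N91224 (iv7 F392336)))
theorem Q68713 : ∀ i, i < 68713 → P i := stepQ 68712 Q68712 (allL N68712 (tt N56715 F370128) (tt N56719 (iv0 F373565)) (tt N104351 D207544) (tt N37722 (iv3 D131954)) (tt N76415 (iv4 F238557)) (tt N38196 F211428) (tt N88300 (iv6 F382502)) (tt N68627 F211429))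
theorem Q68714 : ∀ i, i < 68714 → P i := stepQ 68713 Q68713 (allL N68713 (tt N104352 D207545) (tt N104353 D207546) (tt N68622 F211430) (tt N88300 F382501) (tt N56411 F211431) (tt N104354 D207547) (tt N37722 (iv6 D131955)) (tt N104355 D207548))
theorem Q68715 : ∀ i, i < 68715 → P i := stepQ 68714 Q68714 (allL N68714 (tt N93037 (iv1 F399227)) (tt N37723 (iv0 D131956)) (tt N92963 (iv2 F398936)) (tt N56466 F398937) (tt N56604 F398938) (tt N103690 (iv5 F442490)) (tt N104356 D207549) (tt N92966 (iv7 F398948)))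
theorem Q68716 : ∀ i, i < 68716 → P i := stepQ 68715 Q68715 (allL N68715 (tt N37723 (iv1 D131957)) (tt N93037 F399226) (tt N92966 (iv2 F398946)) (tt N37778 F341614) (tt N56605 (iv4 F341616)) (tt N97642 (iv5 F417738)) (tt N37777 F341615) (tt N92963 (iv7 F398935)))
theorem Q68717 : ∀ i, i < 68717 → P i := stepQ 68716 Q68716 (allL N68716 (tt N71087 (iv1 F398939)) (tt N71083 (iv0 F396126)) (tt N93036 (iv2 F399215)) (tt N104322 (iv3 F445241)) (tt N104357 D207550) (tt N37723 (iv5 D131958)) (tt N37726 F211432) (tt N93061 (iv7 F399334)))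
theorem Q68718 : ∀ i, i < 68718 → P i := stepQ 68717 Q68717 (allL N68717 (tt N92966 (iv1 F398951)) (tt N92963 F398953) (tt N93037 (iv2 F399221)) (tt N104346 (iv3 F445346)) (tt N56451 F211433) (tt N93061 (iv5 F399335)) (tt N60621 (iv6 F349631)) (tt N37723 (iv7 D131959)))
theorem Q68719 : ∀ i, i < 68719 → P i := stepQ 68718 Q68718 (allL N68718 (tt N93207 F399970) (tt N93080 F440946) (tt N93206 F399967) (tt N37724 (iv3 D131960)) (tt N83616 (iv4 F349140)) (tt N104358 D207551) (tt N67367 F211434) (tt N93040 (iv7 F399241)))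
theorem Q68720 : ∀ i, i < 68720 → P i := stepQ 68719 Q68719 (allL N68719 (tt N104359 D207552) (tt N104360 D207553) (tt N93039 (iv2 F399234)) (tt N104358 (iv3 F445415)) (tt N104361 D207554) (tt N37724 (iv5 D131961)) (tt N92179 F396117) (tt N93041 (iv7 F399244)))
theorem Q68721 : ∀ i, i < 68721 → P i := stepQ 68720 Q68720 (allL N68720 (tt N56716 F364239) (tt N60956 (iv0 F347558)) (tt N98569 (iv2 F421354)) (tt N37725 (iv3 D131962)) (tt N104362 D207555) (tt N92242 F396437) (tt N60936 (iv6 F365421)) (tt N93038 (iv7 F399229)))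
theorem Q68722 : ∀ i, i < 68722 → P i := stepQ 68721 Q68721 (allL N68721 (tt N104360 (iv1 F445423)) (tt N104359 F445419) (tt N93041 (iv2 F399243)) (tt N92242 (iv3 F396438)) (tt N104363 D207556) (tt N37725 (iv5 D131963)) (tt N97602 (iv6 F417551)) (tt N93039 (iv7 F399237)))
theorem Q68723 : ∀ i, i < 68723 → P i := stepQ 68722 Q68722 (allL N68722 (tt N37726 (iv1 D131965)) (tt N93044 F399252) (tt N93042 F399248) (tt N56168 (iv3 F362920)) (tt N103764 (iv4 F442730)) (tt N68669 F211440) (tt N92706 (iv6 F397921)) (tt N56166 F362919))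
theorem Q68724 : ∀ i, i < 68724 → P i := stepQ 68723 Q68723 (allL N68723 (tt N103299 (iv1 F441041)) (tt N104364 D207557) (tt N93043 (iv2 F399249)) (tt N104365 D207558) (tt N37726 (iv4 D131966)) (tt N104366 D207559) (tt N104357 (iv6 F445411)) (tt N104367 D207560))
theorem Q68725 : ∀ i, i < 68725 → P i := stepQ 68724 Q68724 (allL N68724 (tt N93042 (iv1 F399245)) (tt N56166 (iv0 F362922)) (tt N93044 (iv2 F399250)) (tt N104349 (iv3 F445364)) (tt N104367 (iv4 F445447)) (tt N37727 F211441) (tt N97521 (iv6 F417235)) (tt N37726 (iv7 D131967)))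
theorem Q68726 : ∀ i, i < 68726 → P i := stepQ 68725 Q68725 (allL N68725 (tt N93070 (iv1 F399360)) (tt N93060 (iv0 F399333)) (tt N93069 F399354) (tt N37728 (iv3 D131968)) (tt N67350 F211442) (tt N104368 D207561) (tt N67372 F211443) (tt N92774 (iv7 F398167)))
theorem Q68727 : ∀ i, i < 68727 → P i := stepQ 68726 Q68726 (allL N68726 (tt N104369 D207562) (tt N104304 F445148) (tt N67839 F211444) (tt N104368 (iv3 F445451)) (tt N104370 D207563) (tt N37728 (iv5 D131969)) (tt N92244 (iv6 F396442)) (tt N93045 (iv7 F399255)))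
theorem Q68728 : ∀ i, i < 68728 → P i := stepQ 68727 Q68727 (allL N68727 (tt N93430 (iv1 F400723)) (tt N59144 F211448) (tt N67840 F211445) (tt N104371 D207564) (tt N37729 (iv4 D131970)) (tt N74576 (iv5 F228384)) (tt N65689 F211446) (tt N57149 F211447))
theorem Q68729 : ∀ i, i < 68729 → P i := stepQ 68728 Q68728 (allL N68728 (tt N37765 F354356) (tt N104372 D207565) (tt N102371 (iv2 F436950)) (tt N37730 (iv3 D131971)) (tt N37961 F211450) (tt N82389 (iv5 F359031)) (tt N102370 (iv6 F436949)) (tt N67838 F211451))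
theorem Q68730 : ∀ i, i < 68730 → P i := stepQ 68729 Q68729 (allL N68729 (tt N104304 F445147) (tt N104369 F445457) (tt N93045 (iv2 F399254)) (tt N82389 F359032) (tt N104373 D207566) (tt N37730 (iv5 D131972)) (tt N104374 D207567) (tt N67839 F211452))
theorem Q68731 : ∀ i, i < 68731 → P i := stepQ 68730 Q68730 (allL N68730 (tt N57022 (iv1 F211456)) (tt N57027 (iv0 F211455)) (tt N92772 F398157) (tt N102370 (iv3 F436945)) (tt N37731 F211453) (tt N96817 (iv5 F414098)) (tt N37730 (iv6 D131973)) (tt N67371 F211454))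
theorem Q68732 : ∀ i, i < 68732 → P i := stepQ 68731 Q68731 (allL N68731 (tt N66376 F211458) (tt N60897 (iv0 F328377)) (tt N67888 F211457) (tt N73299 (iv3 F342849)) (tt N70036 (iv4 F216449)) (tt N94216 (iv5 F403732)) (tt N37732 (iv6 D131974)) (tt N104313 (iv7 F445193)))
theorem Q68733 : ∀ i, i < 68733 → P i := stepQ 68732 Q68732 (allL N68732 (tt N38048 (iv1 F213155)) (tt N38034 (iv0 F213161)) (tt N38043 (iv2 F211461)) (tt N37736 (iv3 D131976)) (tt N68778 (iv4 F211558)) (tt N93068 (iv5 F399352)) (tt N60944 (iv6 F359271)) (tt N38044 F211460))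
theorem Q68734 : ∀ i, i < 68734 → P i := stepQ 68733 Q68733 (allL N68733 (tt N68657 (iv1 F211473)) (tt N60620 (iv0 F327331)) (tt N37738 F211467) (tt N93049 (iv3 F399269)) (tt N85297 F372199) (tt N37737 (iv5 D131980)) (tt N85299 (iv6 F372208)) (tt N93033 (iv7 F399196)))
theorem Q68735 : ∀ i, i < 68735 → P i := stepQ 68734 Q68734 (allL N68734 (tt N60675 F365771) (tt N104375 D207568) (tt N37739 F211469) (tt N78402 F354708) (tt N70786 (iv4 F218407)) (tt N92014 (iv5 F395362)) (tt N37737 (iv6 D131981)) (tt N102896 (iv7 F439167)))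
theorem Q68736 : ∀ i, i < 68736 → P i := stepQ 68735 Q68735 (allL N68735 (tt N93033 (iv1 F399199)) (tt N37738 (iv0 D131982)) (tt N68657 (iv2 F211471)) (tt N56471 F347534) (tt N98638 (iv4 F421681)) (tt N56488 F211470) (tt N97647 (iv6 F417759)) (tt N60620 (iv7 F327334)))
theorem Q68737 : ∀ i, i < 68737 → P i := stepQ 68736 Q68736 (allL N68736 (tt N37738 (iv1 D131983)) (tt N93033 (iv0 F399197)) (tt N60620 (iv2 F327333)) (tt N104376 D207569) (tt N92960 (iv4 F398926)) (tt N55659 (iv5 F325764)) (tt N55660 (iv6 F333546)) (tt N68657 F211474))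
theorem Q68738 : ∀ i, i < 68738 → P i := stepQ 68737 Q68737 (allL N68737 (tt N98699 (iv1 F421904)) (tt N93125 (iv0 F399590)) (tt N85297 (iv2 F372194)) (tt N56437 F211478) (tt N37738 (iv4 D131984)) (tt N85285 (iv5 F372182)) (tt N85286 F372181) (tt N78292 (iv7 F247869)))
theorem Q68739 : ∀ i, i < 68739 → P i := stepQ 68738 Q68738 (allL N68738 (tt N68629 F349624) (tt N91224 (iv0 F392338)) (tt N85299 (iv2 F372207)) (tt N37740 F211479) (tt N85286 (iv4 F372180)) (tt N65604 (iv5 F364796)) (tt N37738 (iv6 D131985)) (tt N104350 (iv7 F445374)))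
theorem Q68740 : ∀ i, i < 68740 → P i := stepQ 68739 Q68739 (allL N68739 (tt N102896 F439169) (tt N37739 (iv0 D131986)) (tt N60675 F395779) (tt N103458 (iv3 F441722)) (tt N92637 (iv4 F397713)) (tt N102112 (iv5 F435789)) (tt N55676 F395780) (tt N104375 (iv7 F445482)))
theorem Q68741 : ∀ i, i < 68741 → P i := stepQ 68740 Q68740 (allL N68740 (tt N37739 (iv1 D131987)) (tt N102896 F439168) (tt N104375 (iv2 F445484)) (tt N101709 (iv3 F433987)) (tt N91043 (iv4 F391728)) (tt N102148 (iv5 F435943)) (tt N91042 F391729) (tt N60675 F395778))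
theorem Q68742 : ∀ i, i < 68742 → P i := stepQ 68741 Q68741 (allL N68741 (tt N104375 (iv1 F445481)) (tt N60675 (iv0 F398244)) (tt N102896 (iv2 F439163)) (tt N37742 F211481) (tt N60918 (iv4 F327708)) (tt N92051 (iv5 F395554)) (tt N60670 (iv6 F391703)) (tt N37739 (iv7 D131989)))
theorem Q68743 : ∀ i, i < 68743 → P i := stepQ 68742 Q68742 (allL N68742 (tt N37740 (iv1 D131991)) (tt N60621 F332840) (tt N60622 F332837) (tt N87769 (iv3 F380442)) (tt N56601 (iv4 F332842)) (tt N55661 (iv5 F332838)) (tt N87768 F380441) (tt N55660 F332810))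
theorem Q68744 : ∀ i, i < 68744 → P i := stepQ 68743 Q68743 (allL N68743 (tt N60622 (iv1 F332828)) (tt N55660 F332839) (tt N60621 F332811) (tt N104350 F445375) (tt N56441 F211483) (tt N59741 (iv5 F332820)) (tt N93037 (iv6 F399225)) (tt N37740 (iv7 D131993)))
theorem Q68745 : ∀ i, i < 68745 → P i := stepQ 68744 Q68744 (allL N68744 (tt N93208 F399975) (tt N93213 F399990) (tt N93211 F422232) (tt N37741 (iv3 D131997)) (tt N70473 (iv4 F217478)) (tt N96652 (iv5 F413338)) (tt N67341 F211492) (tt N92754 F398080))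
theorem Q68746 : ∀ i, i < 68746 → P i := stepQ 68745 Q68745 (allL N68745 (tt N104377 D207570) (tt N37770 F340133) (tt N104378 D207571) (tt N37743 (iv3 D132001)) (tt N37991 F211498) (tt N60418 (iv5 F341942)) (tt N102843 F438901) (tt N67914 F211499))
theorem Q68747 : ∀ i, i < 68747 → P i := stepQ 68746 Q68746 (allL N68746 (tt N67497 (iv1 F211503)) (tt N73294 (iv0 F224304)) (tt N65750 F360469) (tt N102843 (iv3 F438899)) (tt N37744 F211501) (tt N60419 (iv5 F360479)) (tt N37743 (iv6 D132003)) (tt N67352 F211502))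
theorem Q68748 : ∀ i, i < 68748 → P i := stepQ 68747 Q68747 (allL N68747 (tt N93071 (iv1 F417144)) (tt N93077 F417143) (tt N93075 (iv2 F399373)) (tt N37745 (iv3 D132004)) (tt N67372 F211504) (tt N65748 (iv5 F360394)) (tt N67350 F211505) (tt N65747 F360393))
theorem Q68749 : ∀ i, i < 68749 → P i := stepQ 68748 Q68748 (allL N68748 (tt N37767 F216344) (tt N98763 (iv0 F422208)) (tt N104322 (iv2 F445236)) (tt N37746 (iv3 D132007)) (tt N38534 F211508) (tt N104338 F445323) (tt N104339 (iv6 F445327)) (tt N93054 (iv7 F399297)))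
theorem Q68750 : ∀ i, i < 68750 → P i := stepQ 68749 Q68749 (allL N68749 (tt N93209 (iv1 F399980)) (tt N93184 (iv0 F399854)) (tt N93057 (iv2 F399314)) (tt N69015 F212477) (tt N37746 (iv4 D132008)) (tt N69147 (iv5 F212958)) (tt N104379 D207572) (tt N93055 (iv7 F399304)))
theorem Q68751 : ∀ i, i < 68751 → P i := stepQ 68750 Q68750 (allL N68750 (tt N93082 (iv1 F399402)) (tt N37777 F212478) (tt N93034 (iv2 F399200)) (tt N104338 (iv3 F445322)) (tt N45066 F341602) (tt N37746 (iv5 D132009)) (tt N93033 (iv6 F399195)) (tt N93056 (iv7 F399309)))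
theorem Q68752 : ∀ i, i < 68752 → P i := stepQ 68751 Q68751 (allL N68751 (tt N103332 (iv1 F441175)) (tt N67495 (iv0 F421210)) (tt N93035 (iv2 F399212)) (tt N104339 (iv3 F445326)) (tt N104379 (iv4 F445504)) (tt N60669 (iv5 F363271)) (tt N37746 (iv6 D132010)) (tt N67377 F396542))
theorem Q68753 : ∀ i, i < 68753 → P i := stepQ 68752 Q68752 (allL N68752 (tt N71083 (iv1 F399219)) (tt N71087 F399220) (tt N93061 (iv2 F399337)) (tt N37747 (iv3 D132012)) (tt N104380 D207573) (tt N93037 (iv5 F399224)) (tt N67378 (iv6 F396539)) (tt N93036 F399218))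
theorem Q68754 : ∀ i, i < 68754 → P i := stepQ 68753 Q68753 (allL N68753 (tt N93184 (iv1 F399853)) (tt N93209 (iv0 F399979)) (tt N93055 (iv2 F399302)) (tt N66163 F211510) (tt N37747 (iv4 D132013)) (tt N75698 (iv5 F341593)) (tt N67379 (iv6 F396540)) (tt N93057 (iv7 F399316)))
theorem Q68755 : ∀ i, i < 68755 → P i := stepQ 68754 Q68754 (allL N68754 (tt N37777 F211511) (tt N93082 F399403) (tt N93056 (iv2 F399308)) (tt N93037 (iv3 F399222)) (tt N45069 F341592) (tt N37747 (iv5 D132014)) (tt N104350 (iv6 F445371)) (tt N93034 F399206))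
theorem Q68756 : ∀ i, i < 68756 → P i := stepQ 68755 Q68755 (allL N68755 (tt N67325 (iv1 F362881)) (tt N37749 (iv0 D132022)) (tt N93218 F400007) (tt N84011 F367797) (tt N104381 D207574) (tt N68843 F362882) (tt N84010 (iv6 F367798)) (tt N93219 (iv7 F400010)))
theorem Q68757 : ∀ i, i < 68757 → P i := stepQ 68756 Q68756 (allL N68756 (tt N37749 (iv1 D132023)) (tt N67325 F366019) (tt N93219 F400012) (tt N92699 (iv3 F397907)) (tt N104382 D207575) (tt N68848 (iv5 F366018)) (tt N92697 F397908) (tt N93218 F400008))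
theorem Q68758 : ∀ i, i < 68758 → P i := stepQ 68757 Q68757 (allL N68757 (tt N93219 (iv1 F400009)) (tt N93218 F400006) (tt N67325 F362879) (tt N37752 F211517) (tt N102575 (iv4 F437727)) (tt N56708 (iv5 F362878)) (tt N93058 (iv6 F399323)) (tt N37749 (iv7 D132025)))
theorem Q68759 : ∀ i, i < 68759 → P i := stepQ 68758 Q68758 (allL N68758 (tt N37751 (iv1 D132032)) (tt N93053 F399295) (tt N93051 F399285) (tt N104383 D207576) (tt N104364 (iv4 F445437)) (tt N68673 F211525) (tt N102230 (iv6 F436282)) (tt N68938 (iv7 F211957)))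
theorem Q68760 : ∀ i, i < 68760 → P i := stepQ 68759 Q68759 (allL N68759 (tt N92615 F397655) (tt N104384 D207577) (tt N93052 (iv2 F399286)) (tt N37921 F327164) (tt N37751 (iv4 D132033)) (tt N104385 D207578) (tt N37920 F327165) (tt N67772 F327166))
theorem Q68761 : ∀ i, i < 68761 → P i := stepQ 68760 Q68760 (allL N68760 (tt N93051 (iv1 F399281)) (tt N68938 (iv0 F211958)) (tt N93053 (iv2 F399290)) (tt N56708 F362875) (tt N67772 F362876) (tt N37752 F211526) (tt N56705 (iv6 F362874)) (tt N37751 (iv7 D132034)))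
theorem Q68762 : ∀ i, i < 68762 → P i := stepQ 68761 Q68761 (allL N68761 (tt N93059 F399328) (tt N93072 F399364) (tt N70785 (iv2 F218386)) (tt N37753 (iv3 D132036)) (tt N38981 F211528) (tt N88253 (iv5 F382359)) (tt N67404 (iv6 F339690)) (tt N60966 (iv7 F326356)))
theorem Q68763 : ∀ i, i < 68763 → P i := stepQ 68762 Q68762 (allL N68762 (tt N82763 F337797) (tt N38808 (iv0 F217263)) (tt N82761 F363959) (tt N104386 D207579) (tt N37753 (iv4 D132037)) (tt N104387 D207580) (tt N67405 (iv6 F339691)) (tt N82762 (iv7 F363972)))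
theorem Q68764 : ∀ i, i < 68764 → P i := stepQ 68763 Q68763 (allL N68763 (tt N93079 F399390) (tt N37779 F359038) (tt N79697 (iv2 F349641)) (tt N88253 (iv3 F382357)) (tt N97318 (iv4 F416332)) (tt N37753 (iv5 D132038)) (tt N79693 (iv6 F339678)) (tt N93050 (iv7 F399276)))
theorem Q68765 : ∀ i, i < 68765 → P i := stepQ 68764 Q68764 (allL N68764 (tt N88255 (iv1 F382370)) (tt N37762 F363956) (tt N88257 (iv2 F382381)) (tt N37754 (iv3 D132041)) (tt N88199 (iv4 F382142)) (tt N79705 (iv5 F359035)) (tt N92766 (iv6 F398132)) (tt N79704 F359039))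
theorem Q68766 : ∀ i, i < 68766 → P i := stepQ 68765 Q68765 (allL N68765 (tt N38808 F363954) (tt N82763 F363955) (tt N82762 F363970) (tt N38794 (iv3 F211530)) (tt N37754 (iv4 D132042)) (tt N104388 D207581) (tt N72071 (iv6 F419229)) (tt N82761 F363960))
theorem Q68767 : ∀ i, i < 68767 → P i := stepQ 68766 Q68766 (allL N68766 (tt N37779 F359036) (tt N93079 (iv0 F399388)) (tt N93050 (iv2 F399273)) (tt N79705 F359034) (tt N84700 (iv4 F370271)) (tt N37754 (iv5 D132043)) (tt N38046 F347517) (tt N79697 F347528))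
theorem Q68768 : ∀ i, i < 68768 → P i := stepQ 68767 Q68767 (allL N68767 (tt N67498 (iv1 F362096)) (tt N104389 D207582) (tt N60965 (iv2 F365925)) (tt N92766 (iv3 F398134)) (tt N72071 F419227) (tt N38047 F347515) (tt N37754 (iv6 D132044)) (tt N67410 F347516))
theorem Q68769 : ∀ i, i < 68769 → P i := stepQ 68768 Q68768 (allL N68768 (tt N85692 (iv1 F373550)) (tt N85696 F373567) (tt N37756 F211531) (tt N58932 F349644) (tt N52680 F349645) (tt N37755 (iv5 D132045)) (tt N52679 (iv6 F349643)) (tt N58931 F349646))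
theorem Q68770 : ∀ i, i < 68770 → P i := stepQ 68769 Q68769 (allL N68769 (tt N58931 (iv1 F360831)) (tt N37756 (iv0 D132047)) (tt N85692 F373553) (tt N102356 (iv3 F436877)) (tt N85683 F373548) (tt N56576 F360832) (tt N104390 D207583) (tt N85696 (iv7 F373563)))
theorem Q68771 : ∀ i, i < 68771 → P i := stepQ 68770 Q68770 (allL N68770 (tt N37756 (iv1 D132048)) (tt N58931 F349649) (tt N85696 (iv2 F373562)) (tt N88210 (iv3 F382194)) (tt N85684 (iv4 F373508)) (tt N56577 F349650) (tt N102350 (iv6 F436853)) (tt N85692 F373554))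
theorem Q68772 : ∀ i, i < 68772 → P i := stepQ 68771 Q68771 (allL N68771 (tt N104391 D207584) (tt N104392 D207585) (tt N52680 F360833) (tt N56427 F211533) (tt N37756 (iv4 D132049)) (tt N87156 (iv5 F378562)) (tt N48523 F360834) (tt N86803 (iv7 F377253)))
theorem Q68773 : ∀ i, i < 68773 → P i := stepQ 68772 Q68772 (allL N68772 (tt N67463 (iv1 F211543)) (tt N67462 F211544) (tt N37776 F211540) (tt N92779 F398185) (tt N38032 F211541) (tt N93203 (iv5 F399956)) (tt N37760 (iv6 D132061)) (tt N67424 F211542))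
theorem Q68774 : ∀ i, i < 68774 → P i := stepQ 68773 Q68773 (allL N68773 (tt N104322 (iv1 F445239)) (tt N93054 F399300) (tt N98763 (iv2 F422205)) (tt N37761 (iv3 D132064)) (tt N38607 (iv4 F211605)) (tt N104293 (iv5 F445114)) (tt N88748 (iv6 F384057)) (tt N37767 F211547))
theorem Q68775 : ∀ i, i < 68775 → P i := stepQ 68774 Q68774 (allL N68774 (tt N68615 (iv1 F211621)) (tt N45873 F357665) (tt N37764 F211552) (tt N104293 (iv3 F445113)) (tt N88345 (iv4 F382669)) (tt N37761 (iv5 D132066)) (tt N104291 F445112) (tt N37769 F211553))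
theorem Q68776 : ∀ i, i < 68776 → P i := stepQ 68775 Q68775 (allL N68775 (tt N67838 F363253) (tt N102371 (iv0 F436954)) (tt N37765 F211554) (tt N88748 F384055) (tt N38604 (iv4 F211606)) (tt N104334 (iv5 F445304)) (tt N37761 (iv6 D132067)) (tt N104372 (iv7 F445472)))
theorem Q68777 : ∀ i, i < 68777 → P i := stepQ 68776 Q68776 (allL N68776 (tt N88210 (iv1 F382193)) (tt N88212 (iv0 F382199)) (tt N98764 (iv2 F422210)) (tt N37764 F211555) (tt N87743 (iv4 F380320)) (tt N37762 (iv5 D132071)) (tt N104393 D207586) (tt N98766 (iv7 F422222)))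
theorem Q68778 : ∀ i, i < 68778 → P i := stepQ 68777 Q68777 (allL N68777 (tt N104394 D207587) (tt N60494 F354357) (tt N84969 (iv2 F371204)) (tt N37765 F211556) (tt N49227 F354358) (tt N104395 D207588) (tt N37762 (iv6 D132072)) (tt N83650 F354359))
theorem Q68779 : ∀ i, i < 68779 → P i := stepQ 68778 Q68778 (allL N68778 (tt N37768 (iv1 F211564)) (tt N37763 (iv0 D132074)) (tt N37981 (iv2 F211559)) (tt N67811 F211560) (tt N68732 F211558) (tt N44737 F320705) (tt N81058 F320706) (tt N38602 F211561))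
theorem Q68780 : ∀ i, i < 68780 → P i := stepQ 68779 Q68779 (allL N68779 (tt N104396 D207589) (tt N67826 (iv0 F439116)) (tt N38604 F211609) (tt N47597 F321346) (tt N37765 F211610) (tt N67007 (iv5 F336894)) (tt N37763 (iv6 D132077)) (tt N77338 (iv7 F346105)))
theorem Q68781 : ∀ i, i < 68781 → P i := stepQ 68780 Q68780 (allL N68780 (tt N38602 (iv1 F211614)) (tt N37981 F211615) (tt N37768 F211611) (tt N38618 F211612) (tt N37766 F211613) (tt N47027 F317498) (tt N104397 D207590) (tt N37763 (iv7 D132078)))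
theorem Q68782 : ∀ i, i < 68782 → P i := stepQ 68781 Q68781 (allL N68781 (tt N37769 (iv1 F211619)) (tt N37764 (iv0 D132079)) (tt N68615 (iv2 F212103)) (tt N79671 (iv3 F348725)) (tt N84670 (iv4 F370136)) (tt N68614 F212104) (tt N79670 F340296) (tt N45873 F340297))
theorem Q68783 : ∀ i, i < 68783 → P i := stepQ 68782 Q68782 (allL N68782 (tt N88347 (iv1 F382679)) (tt N82608 (iv0 F347531)) (tt N88345 F382670) (tt N103210 (iv3 F440580)) (tt N37764 (iv4 D132081)) (tt N104398 D207591) (tt N103208 F440576) (tt N88346 (iv7 F382673)))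
theorem Q68784 : ∀ i, i < 68784 → P i := stepQ 68783 Q68783 (allL N68783 (tt N104399 D207592) (tt N94012 (iv0 F444545)) (tt N104291 F445110) (tt N104393 (iv3 F445568)) (tt N103208 (iv4 F440575)) (tt N70331 F359028) (tt N37764 (iv6 D132082)) (tt N104400 D207593))
theorem Q68785 : ∀ i, i < 68785 → P i := stepQ 68784 Q68784 (allL N68784 (tt N45873 F340300) (tt N68615 (iv0 F211620)) (tt N37769 F211617) (tt N98766 (iv3 F422220)) (tt N88346 (iv4 F382674)) (tt N37766 F211618) (tt N104401 D207594) (tt N37764 (iv7 D132083)))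
theorem Q68786 : ∀ i, i < 68786 → P i := stepQ 68785 Q68785 (allL N68785 (tt N104372 (iv1 F445471)) (tt N37765 (iv0 D132084)) (tt N67838 F354353) (tt N93069 (iv3 F399355)) (tt N38053 F354354) (tt N82390 F341760) (tt N67443 (iv6 F361230)) (tt N102371 (iv7 F436953)))
theorem Q68787 : ∀ i, i < 68787 → P i := stepQ 68786 Q68786 (allL N68786 (tt N72069 F412734) (tt N104383 F445524) (tt N104334 (iv2 F445301)) (tt N104395 (iv3 F445577)) (tt N70332 F359030) (tt N37765 (iv5 D132086)) (tt N70331 (iv6 F359029)) (tt N104402 D207595))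
theorem Q68788 : ∀ i, i < 68788 → P i := stepQ 68787 Q68787 (allL N68787 (tt N102371 (iv1 F436956)) (tt N67838 (iv0 F354362)) (tt N104372 (iv2 F445476)) (tt N83650 (iv3 F354360)) (tt N77338 F354361) (tt N104402 (iv5 F445615)) (tt N104377 F445497) (tt N37765 (iv7 D132087)))
theorem Q68789 : ∀ i, i < 68789 → P i := stepQ 68788 Q68788 (allL N68788 (tt N104378 (iv1 F445502)) (tt N67914 F358979) (tt N37770 F211625) (tt N98767 (iv3 F422225)) (tt N104397 (iv4 F445589)) (tt N92050 (iv5 F395547)) (tt N37766 (iv6 D132088)) (tt N104377 (iv7 F445496)))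
theorem Q68790 : ∀ i, i < 68790 → P i := stepQ 68789 Q68789 (allL N68789 (tt N98763 F422209) (tt N37767 (iv0 D132089)) (tt N93054 F399299) (tt N93061 F399336) (tt N38533 F211626) (tt N104346 (iv5 F445347)) (tt N67438 F354754) (tt N104322 (iv7 F445237)))
theorem Q68791 : ∀ i, i < 68791 → P i := stepQ 68790 Q68790 (allL N68790 (tt N93054 F399301) (tt N104322 (iv0 F445240)) (tt N37767 (iv2 D132091)) (tt N88255 (iv3 F382374)) (tt N95904 (iv4 F410175)) (tt N104403 D207596) (tt N82400 F358983) (tt N98763 (iv7 F422207)))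
theorem Q68792 : ∀ i, i < 68792 → P i := stepQ 68791 Q68791 (allL N68791 (tt N68700 F211630) (tt N68697 (iv0 F211629)) (tt N95904 (iv2 F410174)) (tt N38610 F211627) (tt N37767 (iv4 D132092)) (tt N77290 F368377) (tt N90147 (iv6 F388690)) (tt N38607 F211628))
theorem Q68793 : ∀ i, i < 68793 → P i := stepQ 68792 Q68792 (allL N68792 (tt N104404 D207597) (tt N93190 (iv0 F399878)) (tt N104403 (iv2 F445618)) (tt N37769 F211632) (tt N104405 D207598) (tt N37767 (iv5 D132093)) (tt N104406 D207599) (tt N104293 F445116))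
theorem Q68794 : ∀ i, i < 68794 → P i := stepQ 68793 Q68793 (allL N68793 (tt N82494 F383855) (tt N88677 F383850) (tt N82400 (iv2 F358982)) (tt N37770 F211633) (tt N90147 (iv4 F388687)) (tt N65420 F358981) (tt N37767 (iv6 D132094)) (tt N82395 (iv7 F358980)))
theorem Q68795 : ∀ i, i < 68795 → P i := stepQ 68794 Q68794 (allL N68794 (tt N47596 F317955) (tt N47595 F317956) (tt N47027 F317957) (tt N38612 F211634) (tt N81301 (iv4 F334271)) (tt N37768 (iv5 D132095)) (tt N81518 F317958) (tt N38603 F211635))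
theorem Q68796 : ∀ i, i < 68796 → P i := stepQ 68795 Q68795 (allL N68795 (tt N102819 F438794) (tt N104407 D207600) (tt N104397 (iv2 F445587)) (tt N38616 F211636) (tt N37770 F211637) (tt N85734 (iv5 F373721)) (tt N37768 (iv6 D132096)) (tt N102847 (iv7 F438920)))
theorem Q68797 : ∀ i, i < 68797 → P i := stepQ 68796 Q68796 (allL N68796 (tt N82608 F348724) (tt N88347 F382678) (tt N88346 F382675) (tt N64128 F364578) (tt N37769 (iv4 D132097)) (tt N64126 (iv5 F334274)) (tt N104408 D207601) (tt N88345 F382671))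
theorem Q68798 : ∀ i, i < 68798 → P i := stepQ 68797 Q68797 (allL N68797 (tt N60564 F358967) (tt N79749 F358968) (tt N104401 (iv2 F445607)) (tt N104406 (iv3 F445628)) (tt N104408 (iv4 F445637)) (tt N46344 F358969) (tt N37769 (iv6 D132098)) (tt N104409 D207602))
theorem Q68799 : ∀ i, i < 68799 → P i := stepQ 68798 Q68798 (allL N68798 (tt N37770 (iv1 D132100)) (tt N104377 F445495) (tt N67914 (iv2 F359049)) (tt N93075 F399372) (tt N38067 F359047) (tt N100687 (iv5 F430018)) (tt N65127 F359048) (tt N104378 (iv7 F445501)))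
theorem Q68800 : ∀ i, i < 68800 → P i := stepQ 68799 Q68799 (allL N68799 (tt N69294 F358970) (tt N80069 F358971) (tt N92050 F395548) (tt N65420 F358972) (tt N46172 F358973) (tt N37770 (iv5 D132101)) (tt N46344 F358974) (tt N82394 F358975))
theorem Q68801 : ∀ i, i < 68801 → P i := stepQ 68800 Q68800 (allL N68800 (tt N67914 F358978) (tt N104378 F445503) (tt N104377 F445494) (tt N82395 F358977) (tt N102847 (iv4 F438917)) (tt N82394 (iv5 F358976)) (tt N104372 (iv6 F445477)) (tt N37770 (iv7 D132102)))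
theorem Q68802 : ∀ i, i < 68802 → P i := stepQ 68801 Q68801 (allL N68801 (tt N87896 F381012) (tt N88238 F382306) (tt N37774 F211638) (tt N104410 D207603) (tt N37771 (iv4 D132103)) (tt N68542 F211639) (tt N91872 (iv6 F394780)) (tt N88237 (iv7 F382301)))
theorem Q68803 : ∀ i, i < 68803 → P i := stepQ 68802 Q68802 (allL N68802 (tt N88323 (iv1 F382594)) (tt N79700 F354469) (tt N37775 F211640) (tt N93078 (iv3 F399380)) (tt N91872 (iv4 F394779)) (tt N67447 F211641) (tt N37771 (iv6 D132104)) (tt N88322 (iv7 F382589)))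
theorem Q68804 : ∀ i, i < 68804 → P i := stepQ 68803 Q68803 (allL N68803 (tt N104411 D207604) (tt N78513 (iv0 F363612)) (tt N93181 (iv2 F399833)) (tt N103220 (iv3 F440637)) (tt N37772 (iv4 D132107)) (tt N66673 (iv5 F363610)) (tt N66675 F363609) (tt N93178 (iv7 F399825)))
theorem Q68805 : ∀ i, i < 68805 → P i := stepQ 68804 Q68804 (allL N68804 (tt N104346 F445349) (tt N104338 (iv0 F445324)) (tt N88249 (iv2 F382346)) (tt N37773 (iv3 D132110)) (tt N104412 D207605) (tt N104273 (iv5 F445060)) (tt N104413 D207606) (tt N93180 (iv7 F399831)))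
theorem Q68806 : ∀ i, i < 68806 → P i := stepQ 68805 Q68805 (allL N68805 (tt N78513 (iv1 F380613)) (tt N104411 F445650) (tt N93178 (iv2 F399823)) (tt N96919 (iv3 F414615)) (tt N37773 (iv4 D132111)) (tt N87810 F380612) (tt N102820 (iv6 F438796)) (tt N93181 (iv7 F399836)))
theorem Q68807 : ∀ i, i < 68807 → P i := stepQ 68806 Q68806 (allL N68806 (tt N102218 F436238) (tt N88282 (iv0 F382453)) (tt N93179 (iv2 F399828)) (tt N104413 (iv3 F445654)) (tt N102820 F438798) (tt N104414 D207607) (tt N37773 (iv6 D132113)) (tt N88251 (iv7 F382350)))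
theorem Q68808 : ∀ i, i < 68808 → P i := stepQ 68807 Q68807 (allL N68807 (tt N37774 (iv1 D132115)) (tt N88237 F382302) (tt N88238 (iv2 F382303)) (tt N98159 (iv3 F419771)) (tt N94010 (iv4 F402814)) (tt N87819 (iv5 F380651)) (tt N88247 (iv6 F382342)) (tt N87896 F381011))
theorem Q68809 : ∀ i, i < 68809 → P i := stepQ 68808 Q68808 (allL N68808 (tt N84699 F370270) (tt N84702 (iv0 F370273)) (tt N68542 F211644) (tt N91851 (iv3 F394682)) (tt N64136 (iv4 F334251)) (tt N37774 (iv5 D132116)) (tt N91297 F392605) (tt N93162 (iv7 F399738)))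
theorem Q68810 : ∀ i, i < 68810 → P i := stepQ 68809 Q68809 (allL N68809 (tt N104415 D207608) (tt N85698 (iv0 F373572)) (tt N91872 (iv2 F394776)) (tt N93166 (iv3 F399759)) (tt N37775 F211646) (tt N55563 (iv5 F363590)) (tt N37774 (iv6 D132117)) (tt N88321 (iv7 F382581)))
theorem Q68811 : ∀ i, i < 68811 → P i := stepQ 68810 Q68810 (allL N68810 (tt N37775 (iv1 D132119)) (tt N88322 F382588) (tt N79700 F348770) (tt N60646 F348771) (tt N78511 F341830) (tt N60641 (iv5 F348769)) (tt N85689 (iv6 F373537)) (tt N88323 (iv7 F382593)))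
theorem Q68812 : ∀ i, i < 68812 → P i := stepQ 68811 Q68811 (allL N68811 (tt N79700 F354468) (tt N88323 F382595) (tt N88322 F382587) (tt N37783 F211647) (tt N88321 (iv4 F382580)) (tt N67460 F211648) (tt N88320 F382576) (tt N37775 (iv7 D132120)))
theorem Q68813 : ∀ i, i < 68813 → P i := stepQ 68812 Q68812 (allL N68812 (tt N67424 (iv1 F211649)) (tt N37776 (iv0 D132121)) (tt N67463 (iv2 F366775)) (tt N77304 F335846) (tt N104416 D207609) (tt N77303 (iv5 F335847)) (tt N95179 F407326) (tt N67462 (iv7 F366777)))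
theorem Q68814 : ∀ i, i < 68814 → P i := stepQ 68813 Q68813 (allL N68813 (tt N37776 (iv1 D132122)) (tt N67424 F211650) (tt N67462 F366776) (tt N104348 F445359) (tt N70551 (iv4 F217754)) (tt N102411 F437124) (tt N102663 (iv6 F438121)) (tt N67463 F366774))
theorem Q68815 : ∀ i, i < 68815 → P i := stepQ 68814 Q68814 (allL N68814 (tt N104417 D207610) (tt N104347 (iv0 F445356)) (tt N93203 (iv2 F399954)) (tt N37786 F211651) (tt N67205 (iv4 F358320)) (tt N37776 (iv5 D132123)) (tt N67204 F358319) (tt N67464 F211652))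
theorem Q68816 : ∀ i, i < 68816 → P i := stepQ 68815 Q68815 (allL N68815 (tt N93034 F399207) (tt N93056 (iv0 F399311)) (tt N37777 (iv2 D132125)) (tt N93079 (iv3 F399386)) (tt N61577 (iv4 F341606)) (tt N56402 F211653) (tt N92966 (iv6 F398947)) (tt N93082 (iv7 F399401)))
theorem Q68817 : ∀ i, i < 68817 → P i := stepQ 68816 Q68816 (allL N68816 (tt N45996 F341596) (tt N45998 F341597) (tt N61577 F341598) (tt N56422 F211654) (tt N37777 (iv4 D132126)) (tt N55828 F341599) (tt N56605 F341600) (tt N61494 F341601))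
theorem Q68818 : ∀ i, i < 68818 → P i := stepQ 68817 Q68817 (allL N68817 (tt N88252 (iv1 F382356)) (tt N37778 (iv0 D132128)) (tt N88254 (iv2 F382364)) (tt N93050 (iv3 F399274)) (tt N56464 F341618) (tt N60966 F363064) (tt N56715 F365929) (tt N88253 F382361))
theorem Q68819 : ∀ i, i < 68819 → P i := stepQ 68818 Q68818 (allL N68818 (tt N88253 (iv1 F382363)) (tt N88254 F382368) (tt N88252 (iv2 F382354)) (tt N92963 (iv3 F398934)) (tt N56426 F211657) (tt N60814 (iv5 F343640)) (tt N93087 (iv6 F399424)) (tt N37778 (iv7 D132131)))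
theorem Q68820 : ∀ i, i < 68820 → P i := stepQ 68819 Q68819 (allL N68819 (tt N79697 (iv1 F399280)) (tt N93050 F399279) (tt N37779 (iv2 D132134)) (tt N93082 (iv3 F399398)) (tt N104418 D207611) (tt N56416 F211658) (tt N88284 F382458) (tt N93079 (iv7 F399387)))
theorem Q68821 : ∀ i, i < 68821 → P i := stepQ 68820 Q68820 (allL N68820 (tt N103223 F440656) (tt N104419 D207612) (tt N104418 (iv2 F445669)) (tt N51509 F211659) (tt N37779 (iv4 D132135)) (tt N103986 (iv5 F443658)) (tt N52697 F373557) (tt N93081 (iv7 F399396)))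
theorem Q68822 : ∀ i, i < 68822 → P i := stepQ 68821 Q68821 (allL N68821 (tt N79680 F373555) (tt N88286 F382463) (tt N88284 (iv2 F382459)) (tt N37780 F211660) (tt N52697 (iv4 F373556)) (tt N104420 D207613) (tt N37779 (iv6 D132136)) (tt N88283 F382456))
theorem Q68823 : ∀ i, i < 68823 → P i := stepQ 68822 Q68822 (allL N68822 (tt N37780 (iv1 D132138)) (tt N93087 F399425) (tt N93085 (iv2 F399417)) (tt N79680 F367033) (tt N56460 F353144) (tt N94796 (iv5 F405973)) (tt N79679 (iv6 F367034)) (tt N93084 F399411))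
theorem Q68824 : ∀ i, i < 68824 → P i := stepQ 68823 Q68823 (allL N68823 (tt N104421 D207614) (tt N104422 D207615) (tt N93086 (iv2 F399420)) (tt N104420 (iv3 F445678)) (tt N101985 (iv4 F435226)) (tt N37780 (iv5 D132139)) (tt N56418 F211661) (tt N104423 D207616))
theorem Q68825 : ∀ i, i < 68825 → P i := stepQ 68824 Q68824 (allL N68824 (tt N93085 (iv1 F399413)) (tt N93084 (iv0 F399412)) (tt N93087 (iv2 F399422)) (tt N88283 F382455) (tt N54904 (iv4 F356100)) (tt N104423 (iv5 F445686)) (tt N88252 (iv6 F382355)) (tt N37780 (iv7 D132140)))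
theorem Q68826 : ∀ i, i < 68826 → P i := stepQ 68825 Q68825 (allL N68825 (tt N85299 (iv1 F372211)) (tt N104350 F445373) (tt N91224 (iv2 F392335)) (tt N37781 (iv3 D132142)) (tt N51533 (iv4 F343676)) (tt N104424 D207617) (tt N104355 (iv6 F445401)) (tt N68629 F343677))
theorem Q68827 : ∀ i, i < 68827 → P i := stepQ 68826 Q68826 (allL N68826 (tt N97615 (iv1 F417610)) (tt N104425 D207618) (tt N79733 (iv2 F341805)) (tt N104424 (iv3 F445688)) (tt N52362 F341809) (tt N37781 (iv5 D132144)) (tt N102342 F436814) (tt N93088 (iv7 F399430)))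
theorem Q68828 : ∀ i, i < 68828 → P i := stepQ 68827 Q68827 (allL N68827 (tt N79679 F350483) (tt N88301 F382509) (tt N51538 F341788) (tt N104355 (iv3 F445399)) (tt N51534 (iv4 F341787)) (tt N80209 F341786) (tt N37781 (iv6 D132145)) (tt N88300 (iv7 F382498)))
theorem Q68829 : ∀ i, i < 68829 → P i := stepQ 68828 Q68828 (allL N68828 (tt N79693 F341796) (tt N50670 F341797) (tt N79695 F341798) (tt N37782 (iv3 D132147)) (tt N104426 D207619) (tt N46291 F341799) (tt N88213 (iv6 F382201)) (tt N79694 F341800))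
theorem Q68830 : ∀ i, i < 68830 → P i := stepQ 68829 Q68829 (allL N68829 (tt N104425 (iv1 F445694)) (tt N97615 (iv0 F417609)) (tt N93088 (iv2 F399427)) (tt N46291 F341806) (tt N52363 F341807) (tt N37782 (iv5 D132149)) (tt N101999 (iv6 F435300)) (tt N79733 F341808))
theorem Q68831 : ∀ i, i < 68831 → P i := stepQ 68830 Q68830 (allL N68830 (tt N56719 (iv1 F370130)) (tt N56715 F370129) (tt N68627 (iv2 F343681)) (tt N88213 (iv3 F382204)) (tt N95897 (iv4 F410142)) (tt N68626 F343682) (tt N37782 (iv6 D132150)) (tt N104351 (iv7 F445380)))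
theorem Q68832 : ∀ i, i < 68832 → P i := stepQ 68831 Q68831 (allL N68831 (tt N67377 F396544) (tt N93035 F418108) (tt N103332 (iv2 F441171)) (tt N37784 (iv3 D132151)) (tt N102622 (iv4 F437933)) (tt N103231 (iv5 F440689)) (tt N104427 D207620) (tt N67495 F211665))
theorem Q68833 : ∀ i, i < 68833 → P i := stepQ 68832 Q68832 (allL N68832 (tt N104428 D207621) (tt N97571 (iv0 F417414)) (tt N67499 F211666) (tt N103231 (iv3 F440686)) (tt N104429 D207622) (tt N37784 (iv5 D132152)) (tt N103230 F440684) (tt N67496 F211667))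
theorem Q68834 : ∀ i, i < 68834 → P i := stepQ 68833 Q68833 (allL N68833 (tt N92772 F398159) (tt N67371 (iv0 F211671)) (tt N57027 F211668) (tt N104427 (iv3 F445709)) (tt N56375 F211669) (tt N96098 (iv5 F411046)) (tt N37784 (iv6 D132153)) (tt N57022 (iv7 F211670)))
theorem Q68835 : ∀ i, i < 68835 → P i := stepQ 68834 Q68834 (allL N68834 (tt N60965 F365454) (tt N67410 F365927) (tt N104389 (iv2 F445549)) (tt N37785 (iv3 D132154)) (tt N70004 (iv4 F216411)) (tt N104430 D207623) (tt N102215 (iv6 F436231)) (tt N67498 F211672))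
theorem Q68836 : ∀ i, i < 68836 → P i := stepQ 68835 Q68835 (allL N68835 (tt N97571 (iv1 F417415)) (tt N104428 F445716) (tt N67496 F211673) (tt N104430 (iv3 F445725)) (tt N104431 D207624) (tt N37785 (iv5 D132155)) (tt N104432 D207625) (tt N67499 F211674))
theorem Q68837 : ∀ i, i < 68837 → P i := stepQ 68836 Q68836 (allL N68836 (tt N67352 (iv1 F211677)) (tt N65750 F360471) (tt N67497 F211675) (tt N102215 (iv3 F436226)) (tt N56697 F211676) (tt N65638 (iv5 F360473)) (tt N37785 (iv6 D132156)) (tt N73294 (iv7 F224303)))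
theorem Q68838 : ∀ i, i < 68838 → P i := stepQ 68837 Q68837 (allL N68837 (tt N67222 (iv1 F211678)) (tt N37786 (iv0 D132157)) (tt N67500 F399093) (tt N60672 (iv3 F358252)) (tt N104433 D207626) (tt N93221 (iv5 F400016)) (tt N102931 (iv6 F439308)) (tt N60668 F358251))
theorem Q68839 : ∀ i, i < 68839 → P i := stepQ 68838 Q68838 (allL N68838 (tt N37786 (iv1 D132158)) (tt N67222 F211679) (tt N60668 F358250) (tt N102888 (iv3 F439119)) (tt N103813 (iv4 F442932)) (tt N93222 (iv5 F400019)) (tt N60666 (iv6 F358249)) (tt N67500 (iv7 F399092)))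
theorem Q68840 : ∀ i, i < 68840 → P i := stepQ 68839 Q68839 (allL N68839 (tt N104381 (iv1 F445515)) (tt N104382 (iv0 F445518)) (tt N93089 (iv2 F399432)) (tt N103763 (iv3 F442725)) (tt N37786 (iv4 D132159)) (tt N103286 (iv5 F440993)) (tt N93184 (iv6 F399851)) (tt N67501 F211680))
theorem Q68841 : ∀ i, i < 68841 → P i := stepQ 68840 Q68840 (allL N68840 (tt N68928 F211908) (tt N68599 (iv0 F211683)) (tt N94591 (iv2 F405096)) (tt N37789 F211681) (tt N88602 (iv4 F383564)) (tt N37787 (iv5 D132160)) (tt N68939 (iv6 F211961)) (tt N67502 F211682))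
theorem Q68842 : ∀ i, i < 68842 → P i := stepQ 68841 Q68841 (allL N68841 (tt N67328 (iv1 F399266)) (tt N93048 (iv0 F399264)) (tt N55749 F365453) (tt N37788 (iv3 D132161)) (tt N70428 (iv4 F217378)) (tt N104434 D207627) (tt N55748 (iv6 F365452)) (tt N67504 F211684))
theorem Q68843 : ∀ i, i < 68843 → P i := stepQ 68842 Q68842 (allL N68842 (tt N104435 D207628) (tt N97854 (iv0 F418522)) (tt N60940 (iv2 F329387)) (tt N104434 (iv3 F445743)) (tt N104436 D207629) (tt N37788 (iv5 D132162)) (tt N67234 (iv6 F381086)) (tt N67505 F211686))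
theorem Q68844 : ∀ i, i < 68844 → P i := stepQ 68843 Q68843 (allL N68843 (tt N97520 (iv1 F417233)) (tt N68645 F211689) (tt N67508 F211687) (tt N87682 (iv3 F384027)) (tt N37789 (iv4 D132163)) (tt N68755 (iv5 F362882)) (tt N68940 (iv6 F211968)) (tt N67507 F211688))
theorem Q68845 : ∀ i, i < 68845 → P i := stepQ 68844 Q68844 (allL N68844 (tt N102425 F437190) (tt N95806 (iv0 F409750)) (tt N102531 (iv2 F437534)) (tt N37792 F211690) (tt N61437 F338657) (tt N37790 (iv5 D132164)) (tt N68609 (iv6 F211695)) (tt N60896 (iv7 F328646)))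
theorem Q68846 : ∀ i, i < 68846 → P i := stepQ 68845 Q68845 (allL N68845 (tt N104313 (iv1 F445195)) (tt N67888 (iv0 F211701)) (tt N66376 F211697) (tt N37793 F211698) (tt N60900 (iv4 F327849)) (tt N56008 F211700) (tt N37790 (iv6 D132165)) (tt N60897 (iv7 F328380)))
theorem Q68847 : ∀ i, i < 68847 → P i := stepQ 68846 Q68846 (allL N68846 (tt N97854 (iv1 F418523)) (tt N104435 F445749) (tt N67505 F211703) (tt N60949 F365451) (tt N104437 D207630) (tt N37791 (iv5 D132167)) (tt N104438 D207631) (tt N60940 (iv7 F329388)))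
theorem Q68848 : ∀ i, i < 68848 → P i := stepQ 68847 Q68847 (allL N68847 (tt N67345 (iv1 F214403)) (tt N92752 F398072) (tt N67506 F211705) (tt N55678 (iv3 F342883)) (tt N37793 F211706) (tt N102227 (iv5 F436275)) (tt N37791 (iv6 D132168)) (tt N55674 F342882))
theorem Q68849 : ∀ i, i < 68849 → P i := stepQ 68848 Q68848 (allL N68848 (tt N68645 (iv1 F211710)) (tt N97520 (iv0 F417232)) (tt N67507 F211707) (tt N61568 (iv3 F363884)) (tt N37792 (iv4 D132169)) (tt N68756 F366018) (tt N68610 F211708) (tt N67508 F211709))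
theorem Q68850 : ∀ i, i < 68850 → P i := stepQ 68849 Q68849 (allL N68849 (tt N55843 (iv1 F211712)) (tt N37795 (iv0 D132170)) (tt N55842 (iv2 F211719)) (tt N61714 F211711) (tt N60838 (iv4 F326365)) (tt N98696 (iv5 F421889)) (tt N104439 D207632) (tt N55841 (iv7 F211721)))
theorem Q68851 : ∀ i, i < 68851 → P i := stepQ 68850 Q68850 (allL N68850 (tt N37795 (iv1 D132171)) (tt N55843 (iv0 F211716)) (tt N55841 F211720) (tt N102507 (iv3 F437466)) (tt N38996 (iv4 F211713)) (tt N78804 (iv5 F333529)) (tt N104440 D207633) (tt N55842 F211714))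
theorem Q68852 : ∀ i, i < 68852 → P i := stepQ 68851 Q68851 (allL N68851 (tt N55842 (iv1 F211725)) (tt N55841 F211724) (tt N37795 (iv2 D132172)) (tt N67658 F211722) (tt N70028 (iv4 F216440)) (tt N104441 D207634) (tt N92622 (iv6 F397667)) (tt N55843 F211723))
theorem Q68853 : ∀ i, i < 68853 → P i := stepQ 68852 Q68852 (allL N68852 (tt N104442 D207635) (tt N98620 (iv0 F421619)) (tt N104441 (iv2 F445780)) (tt N37796 F211726) (tt N93115 (iv4 F399549)) (tt N37795 (iv5 D132173)) (tt N104443 D207636) (tt N55844 F211727))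
theorem Q68854 : ∀ i, i < 68854 → P i := stepQ 68853 Q68853 (allL N68853 (tt N100779 (iv1 F430435)) (tt N104444 D207637) (tt N92622 (iv2 F397666)) (tt N37797 F211728) (tt N70029 (iv4 F216447)) (tt N104445 D207638) (tt N37795 (iv6 D132174)) (tt N66130 F211729))
theorem Q68855 : ∀ i, i < 68855 → P i := stepQ 68854 Q68854 (allL N68854 (tt N71320 F434959) (tt N71324 (iv0 F351699)) (tt N67661 F211730) (tt N104443 (iv3 F445793)) (tt N65461 F211731) (tt N104446 D207639) (tt N37796 (iv6 D132175)) (tt N104447 D207640))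
theorem Q68856 : ∀ i, i < 68856 → P i := stepQ 68855 Q68855 (allL N68855 (tt N102627 (iv1 F437943)) (tt N102626 F437942) (tt N67662 F211732) (tt N104445 (iv3 F445798)) (tt N104448 D207641) (tt N37797 (iv5 D132176)) (tt N104446 (iv6 F445801)) (tt N66140 F211733))
theorem Q68857 : ∀ i, i < 68857 → P i := stepQ 68856 Q68856 (allL N68856 (tt N67665 (iv1 F211734)) (tt N37798 (iv0 D132177)) (tt N67664 (iv2 F437791)) (tt N104449 D207642) (tt N102585 (iv4 F437799)) (tt N103826 (iv5 F442975)) (tt N104450 D207643) (tt N67663 F437792))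
theorem Q68858 : ∀ i, i < 68858 → P i := stepQ 68857 Q68857 (allL N68857 (tt N37798 (iv1 D132178)) (tt N67665 F211739) (tt N67663 F437790) (tt N104451 D207644) (tt N102584 (iv4 F437783)) (tt N103827 (iv5 F442979)) (tt N102541 (iv6 F442980)) (tt N67664 (iv7 F437789)))
theorem Q68859 : ∀ i, i < 68859 → P i := stepQ 68858 Q68858 (allL N68858 (tt N67664 (iv1 F211740)) (tt N67663 F211738) (tt N37798 (iv2 D132179)) (tt N37823 F211735) (tt N66083 F211736) (tt N104452 D207645) (tt N96991 F414952) (tt N67665 F211737))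
theorem Q68860 : ∀ i, i < 68860 → P i := stepQ 68859 Q68859 (allL N68859 (tt N104453 D207646) (tt N104454 D207647) (tt N104452 (iv2 F445822)) (tt N37799 F211741) (tt N104455 D207648) (tt N37798 (iv5 D132180)) (tt N104456 D207649) (tt N67666 F211742))
theorem Q68861 : ∀ i, i < 68861 → P i := stepQ 68860 Q68860 (allL N68860 (tt N103852 (iv1 F443084)) (tt N103851 F443081) (tt N96991 (iv2 F414949)) (tt N37800 F211743) (tt N66085 F211744) (tt N96966 (iv5 F414830)) (tt N37798 (iv6 D132181)) (tt N69159 (iv7 F345892)))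
theorem Q68862 : ∀ i, i < 68862 → P i := stepQ 68861 Q68861 (allL N68861 (tt N104457 D207650) (tt N104458 D207651) (tt N37828 F211745) (tt N104456 (iv3 F445841)) (tt N39282 F211746) (tt N104459 D207652) (tt N37799 (iv6 D132182)) (tt N104460 D207653))
theorem Q68863 : ∀ i, i < 68863 → P i := stepQ 68862 Q68862 (allL N68862 (tt N37800 (iv1 D132183)) (tt N37832 F211747) (tt N37830 (iv2 F211750)) (tt N104303 (iv3 F445140)) (tt N39243 F211749) (tt N69157 (iv5 F212991)) (tt N103945 (iv6 F443469)) (tt N37829 F211748))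
theorem Q68864 : ∀ i, i < 68864 → P i := stepQ 68863 Q68863 (allL N68863 (tt N102562 (iv1 F437671)) (tt N102565 (iv0 F437683)) (tt N37831 F211751) (tt N96966 (iv3 F414829)) (tt N67554 F361168) (tt N37800 (iv5 D132184)) (tt N104459 (iv6 F445846)) (tt N103825 (iv7 F442974)))
theorem Q68865 : ∀ i, i < 68865 → P i := stepQ 68864 Q68864 (allL N68864 (tt N37830 (iv1 F211755)) (tt N37829 F211756) (tt N37832 F211752) (tt N69159 (iv3 F345896)) (tt N37801 F211753) (tt N103825 (iv5 F442971)) (tt N67529 F211754) (tt N37800 (iv7 D132185)))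
theorem Q68866 : ∀ i, i < 68866 → P i := stepQ 68865 Q68865 (allL N68865 (tt N101614 F433557) (tt N104461 D207654) (tt N59650 (iv2 F353361)) (tt N37802 (iv3 D132186)) (tt N70752 (iv4 F218267)) (tt N59050 (iv5 F332961)) (tt N39577 F211757) (tt N39259 F211758))
theorem Q68867 : ∀ i, i < 68867 → P i := stepQ 68866 Q68866 (allL N68866 (tt N104462 D207655) (tt N104463 D207656) (tt N104464 D207657) (tt N37803 (iv3 D132187)) (tt N39863 F211759) (tt N71181 (iv5 F219601)) (tt N72698 F333087) (tt N39269 F211760))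
theorem Q68868 : ∀ i, i < 68868 → P i := stepQ 68867 Q68867 (allL N68867 (tt N90319 F432881) (tt N90325 F432882) (tt N90324 F389359) (tt N37804 (iv3 D132189)) (tt N41203 F211764) (tt N71179 (iv5 F219597)) (tt N39567 F211765) (tt N39266 F211766))
theorem Q68869 : ∀ i, i < 68869 → P i := stepQ 68868 Q68868 (allL N68868 (tt N67672 (iv1 F211778)) (tt N37806 (iv0 D132195)) (tt N67671 (iv2 F211781)) (tt N75087 (iv3 F363917)) (tt N70652 F218045) (tt N104442 (iv5 F445786)) (tt N75085 F363919) (tt N67670 (iv7 F211783)))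
theorem Q68870 : ∀ i, i < 68870 → P i := stepQ 68869 Q68869 (allL N68869 (tt N37806 (iv1 D132196)) (tt N67672 F211784) (tt N67670 F211782) (tt N102479 (iv3 F437375)) (tt N39063 (iv4 F211779)) (tt N98620 F421618) (tt N104465 D207658) (tt N67671 F211780))
theorem Q68871 : ∀ i, i < 68871 → P i := stepQ 68870 Q68870 (allL N68870 (tt N67671 (iv1 F211789)) (tt N67670 F211788) (tt N37806 (iv2 D132197)) (tt N67679 F211785) (tt N68311 F211786) (tt N104466 D207659) (tt N84928 (iv6 F371110)) (tt N67672 F211787))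
theorem Q68872 : ∀ i, i < 68872 → P i := stepQ 68871 Q68871 (allL N68871 (tt N61657 (iv1 F364673)) (tt N92266 (iv0 F396521)) (tt N104466 (iv2 F445885)) (tt N37807 F211790) (tt N61625 (iv4 F398911)) (tt N37806 (iv5 D132198)) (tt N104467 D207660) (tt N67673 F211791))
theorem Q68873 : ∀ i, i < 68873 → P i := stepQ 68872 Q68872 (allL N68872 (tt N84925 (iv1 F371104)) (tt N84924 F371103) (tt N84928 (iv2 F371108)) (tt N37808 F211792) (tt N68312 F211793) (tt N104468 D207661) (tt N37806 (iv6 D132199)) (tt N75722 (iv7 F365668)))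
theorem Q68874 : ∀ i, i < 68874 → P i := stepQ 68873 Q68873 (allL N68873 (tt N95984 (iv1 F410521)) (tt N95983 (iv0 F410520)) (tt N67682 F211794) (tt N104467 (iv3 F445891)) (tt N71180 (iv4 F219600)) (tt N104469 D207662) (tt N37807 (iv6 D132200)) (tt N104470 D207663))
theorem Q68875 : ∀ i, i < 68875 → P i := stepQ 68874 Q68874 (allL N68874 (tt N67686 (iv1 F211802)) (tt N37808 (iv0 D132201)) (tt N67683 F214090) (tt N104471 D207664) (tt N68165 F211795) (tt N104471 F445905) (tt N104472 D207665) (tt N67684 F214087))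
theorem Q68876 : ∀ i, i < 68876 → P i := stepQ 68875 Q68875 (allL N68875 (tt N37808 (iv1 D132202)) (tt N67686 F211796) (tt N67684 F214085) (tt N104473 D207666) (tt N68166 F211972) (tt N104474 D207667) (tt N67514 F213976) (tt N67683 (iv7 F214091)))
theorem Q68877 : ∀ i, i < 68877 → P i := stepQ 68876 Q68876 (allL N68876 (tt N66109 (iv1 F344990)) (tt N66181 F211798) (tt N67685 F211797) (tt N104468 (iv3 F445893)) (tt N52971 (iv4 F344991)) (tt N37808 (iv5 D132203)) (tt N104469 (iv6 F445896)) (tt N102486 (iv7 F437405)))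
theorem Q68878 : ∀ i, i < 68878 → P i := stepQ 68877 Q68877 (allL N68877 (tt N67684 (iv1 F211803)) (tt N67683 F211804) (tt N67686 F211799) (tt N75722 F365667) (tt N37811 F211800) (tt N102486 (iv5 F437406)) (tt N37891 F211801) (tt N37808 (iv7 D132204)))
theorem Q68879 : ∀ i, i < 68879 → P i := stepQ 68878 Q68878 (allL N68878 (tt N67703 F211807) (tt N37818 F211813) (tt N67594 F211805) (tt N104475 D207668) (tt N37809 (iv4 D132205)) (tt N104476 D207669) (tt N102525 (iv6 F437502)) (tt N67687 F211806))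
theorem Q68880 : ∀ i, i < 68880 → P i := stepQ 68879 Q68879 (allL N68879 (tt N37818 F211811) (tt N67703 (iv0 F211812)) (tt N67687 F211808) (tt N104112 (iv3 F444238)) (tt N37810 (iv4 D132206)) (tt N104477 D207670) (tt N67519 F211809) (tt N67594 F211810))
theorem Q68881 : ∀ i, i < 68881 → P i := stepQ 68880 Q68880 (allL N68880 (tt N104478 D207671) (tt N104479 D207672) (tt N104480 D207673) (tt N37812 (iv3 D132207)) (tt N37814 F211814) (tt N70339 (iv5 F217226)) (tt N69833 (iv6 F216231)) (tt N38725 F211815))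
theorem Q68882 : ∀ i, i < 68882 → P i := stepQ 68881 Q68881 (allL N68881 (tt N67679 (iv1 F211816)) (tt N37814 (iv0 D132208)) (tt N67678 (iv2 F217709)) (tt N104481 D207674) (tt N104482 D207675) (tt N92282 F442310) (tt N104483 D207676) (tt N67677 (iv7 F217711)))
theorem Q68883 : ∀ i, i < 68883 → P i := stepQ 68882 Q68882 (allL N68882 (tt N37814 (iv1 D132209)) (tt N67679 F211820) (tt N67677 F217710) (tt N67741 (iv3 F213633)) (tt N104093 (iv4 F444142)) (tt N92283 (iv5 F396571)) (tt N104484 D207677) (tt N67678 F217708))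
theorem Q68884 : ∀ i, i < 68884 → P i := stepQ 68883 Q68883 (allL N68883 (tt N67678 (iv1 F211821)) (tt N67677 F211819) (tt N37814 (iv2 D132210)) (tt N67672 F211817) (tt N104480 (iv4 F445954)) (tt N104485 D207678) (tt N75723 (iv6 F347264)) (tt N67679 F211818))
theorem Q68885 : ∀ i, i < 68885 → P i := stepQ 68884 Q68884 (allL N68884 (tt N103626 F442290) (tt N103627 (iv0 F442298)) (tt N104485 (iv2 F445971)) (tt N37815 F211822) (tt N94492 (iv4 F442291)) (tt N37814 (iv5 D132211)) (tt N69112 (iv6 F347257)) (tt N67680 F211823))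
theorem Q68886 : ∀ i, i < 68886 → P i := stepQ 68885 Q68885 (allL N68885 (tt N103668 (iv1 F442431)) (tt N39740 F347252) (tt N75723 F347253) (tt N37816 F211824) (tt N69833 (iv4 F216230)) (tt N69113 F347254) (tt N37814 (iv6 D132212)) (tt N102550 (iv7 F437616)))
theorem Q68887 : ∀ i, i < 68887 → P i := stepQ 68886 Q68886 (allL N68886 (tt N98586 (iv1 F445983)) (tt N104486 D207680) (tt N67674 F211825) (tt N69112 F347258) (tt N71182 (iv4 F219604)) (tt N69111 (iv5 F347259)) (tt N37815 (iv6 D132213)) (tt N104487 D207681))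
theorem Q68888 : ∀ i, i < 68888 → P i := stepQ 68887 Q68887 (allL N68887 (tt N37816 (iv1 D132214)) (tt N37891 F211826) (tt N67675 (iv2 F211829)) (tt N104488 D207682) (tt N38747 F211828) (tt N70984 F361829) (tt N67568 (iv6 F211830)) (tt N38744 F211827))
theorem Q68889 : ∀ i, i < 68889 → P i := stepQ 68888 Q68888 (allL N68888 (tt N72079 (iv1 F360516)) (tt N71006 (iv0 F360514)) (tt N67676 F211831) (tt N69113 (iv3 F347256)) (tt N104489 D207683) (tt N37816 (iv5 D132215)) (tt N69111 F347260) (tt N72081 F361831))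
theorem Q68890 : ∀ i, i < 68890 → P i := stepQ 68889 Q68889 (allL N68889 (tt N67691 (iv1 F211832)) (tt N37817 (iv0 D132216)) (tt N67690 F418669) (tt N97885 F418663) (tt N97887 (iv4 F418665)) (tt N104490 D207684) (tt N104491 D207685) (tt N67689 (iv7 F418668)))
theorem Q68891 : ∀ i, i < 68891 → P i := stepQ 68890 Q68890 (allL N68890 (tt N37817 (iv1 D132217)) (tt N67691 F211836) (tt N67689 (iv2 F418670)) (tt N104492 D207686) (tt N104493 D207687) (tt N104494 D207688) (tt N104495 D207689) (tt N67690 F418671))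
theorem Q68892 : ∀ i, i < 68892 → P i := stepQ 68891 Q68891 (allL N68891 (tt N67690 (iv1 F211837)) (tt N67689 F211835) (tt N37817 (iv2 D132218)) (tt N67698 F211833) (tt N69473 (iv4 F214456)) (tt N103853 (iv5 F443092)) (tt N104496 D207690) (tt N67691 F211834))
theorem Q68893 : ∀ i, i < 68893 → P i := stepQ 68892 Q68892 (allL N68892 (tt N104497 D207691) (tt N104498 D207692) (tt N104496 (iv2 F446022)) (tt N37818 F211838) (tt N69469 (iv4 F214447)) (tt N103784 (iv5 F442796)) (tt N37817 (iv6 D132219)) (tt N104499 D207693))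
theorem Q68894 : ∀ i, i < 68894 → P i := stepQ 68893 Q68893 (allL N68893 (tt N67687 (iv1 F211841)) (tt N67594 F211842) (tt N67703 F211839) (tt N104499 (iv3 F446032)) (tt N69430 (iv4 F214367)) (tt N102462 (iv5 F437311)) (tt N37888 F211840) (tt N37818 (iv7 D132220)))
theorem Q68895 : ∀ i, i < 68895 → P i := stepQ 68894 Q68894 (allL N68894 (tt N67698 (iv1 F211843)) (tt N37819 (iv0 D132221)) (tt N67697 F355399) (tt N104500 D207694) (tt N75081 (iv4 F347376)) (tt N98718 (iv5 F421992)) (tt N104501 D207695) (tt N67696 (iv7 F355268)))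
theorem Q68896 : ∀ i, i < 68896 → P i := stepQ 68895 Q68895 (allL N68895 (tt N37819 (iv1 D132222)) (tt N67698 F211847) (tt N67696 (iv2 F355264)) (tt N104502 D207696) (tt N60797 (iv4 F347372)) (tt N98719 (iv5 F421999)) (tt N60796 F347374) (tt N67697 F355400))
theorem Q68897 : ∀ i, i < 68897 → P i := stepQ 68896 Q68896 (allL N68896 (tt N67697 (iv1 F211848)) (tt N67696 F211846) (tt N37819 (iv2 D132223)) (tt N67691 F211844) (tt N69510 (iv4 F214559)) (tt N64911 F355287) (tt N102559 F437651) (tt N67698 F211845))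
theorem Q68898 : ∀ i, i < 68898 → P i := stepQ 68897 Q68897 (allL N68897 (tt N37970 F347625) (tt N102561 F437664) (tt N102559 (iv2 F437652)) (tt N37820 F211849) (tt N62001 F211850) (tt N104503 D207697) (tt N37819 (iv6 D132224)) (tt N102545 (iv7 F437593)))
theorem Q68899 : ∀ i, i < 68899 → P i := stepQ 68898 Q68898 (allL N68898 (tt N102858 (iv1 F438971)) (tt N104504 D207698) (tt N67695 F211851) (tt N104503 (iv3 F446047)) (tt N39730 F347217) (tt N37820 (iv5 D132225)) (tt N103859 (iv6 F443114)) (tt N102546 (iv7 F437597)))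
theorem Q68900 : ∀ i, i < 68900 → P i := stepQ 68899 Q68899 (allL N68899 (tt N104502 F446044) (tt N104505 D207699) (tt N104506 D207700) (tt N37821 (iv3 D132226)) (tt N38471 F211853) (tt N103840 (iv5 F443038)) (tt N67794 F363933) (tt N67704 F211852))
theorem Q68901 : ∀ i, i < 68901 → P i := stepQ 68900 Q68900 (allL N68900 (tt N68339 (iv1 F211858)) (tt N67586 (iv0 F212288)) (tt N38140 F211854) (tt N66425 (iv3 F327898)) (tt N37821 (iv4 D132227)) (tt N68410 F211856) (tt N104507 D207701) (tt N67705 F211855))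
theorem Q68902 : ∀ i, i < 68902 → P i := stepQ 68901 Q68901 (allL N68901 (tt N104508 D207702) (tt N104112 (iv0 F444241)) (tt N67710 F211860) (tt N67794 (iv3 F363934)) (tt N104507 (iv4 F446064)) (tt N67556 F345876) (tt N37821 (iv6 D132228)) (tt N104509 D207703))
theorem Q68903 : ∀ i, i < 68903 → P i := stepQ 68902 Q68902 (allL N68902 (tt N97892 (iv1 F418682)) (tt N97885 (iv0 F418662)) (tt N60842 F322889) (tt N37822 (iv3 D132229)) (tt N42380 F322890) (tt N98698 (iv5 F421893)) (tt N42379 F322891) (tt N67708 F211862))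
theorem Q68904 : ∀ i, i < 68904 → P i := stepQ 68903 Q68903 (allL N68903 (tt N37886 F347268) (tt N104510 D207704) (tt N67707 F211863) (tt N42379 F325508) (tt N66387 F325509) (tt N75707 F325510) (tt N37822 (iv6 D132230)) (tt N78904 F325511))
theorem Q68905 : ∀ i, i < 68905 → P i := stepQ 68904 Q68904 (allL N68904 (tt N67714 (iv1 F211870)) (tt N67713 (iv0 F211868)) (tt N37824 F211865) (tt N104452 (iv3 F445823)) (tt N100569 (iv4 F429508)) (tt N37823 (iv5 D132231)) (tt N69103 (iv6 F361178)) (tt N67711 F211866))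
theorem Q68906 : ∀ i, i < 68906 → P i := stepQ 68905 Q68905 (allL N68905 (tt N67711 (iv1 F211873)) (tt N37824 (iv0 D132233)) (tt N67714 (iv2 F212267)) (tt N104511 D207705) (tt N75864 (iv4 F355252)) (tt N37922 F212269) (tt N88531 (iv6 F383429)) (tt N67713 (iv7 F212268)))
theorem Q68907 : ∀ i, i < 68907 → P i := stepQ 68906 Q68906 (allL N68906 (tt N37824 (iv1 D132234)) (tt N67711 F211874) (tt N67713 F212265) (tt N104512 D207706) (tt N88898 (iv4 F384475)) (tt N37923 (iv5 F212264)) (tt N104513 D207707) (tt N67714 F212266))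
theorem Q68908 : ∀ i, i < 68908 → P i := stepQ 68907 Q68907 (allL N68907 (tt N100612 (iv1 F429704)) (tt N100611 F429701) (tt N100569 (iv2 F429506)) (tt N84052 F367945) (tt N37824 (iv4 D132235)) (tt N100568 (iv5 F429505)) (tt N104514 D207708) (tt N67715 F211875))
theorem Q68909 : ∀ i, i < 68909 → P i := stepQ 68908 Q68908 (allL N68908 (tt N69101 (iv1 F361177)) (tt N67533 F361179) (tt N69103 F361176) (tt N37828 F211876) (tt N104514 (iv4 F446097)) (tt N69072 F345874) (tt N37824 (iv6 D132236)) (tt N69071 (iv7 F361175)))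
theorem Q68910 : ∀ i, i < 68910 → P i := stepQ 68909 Q68909 (allL N68909 (tt N104490 (iv1 F446001)) (tt N104494 (iv0 F446018)) (tt N104515 D207709) (tt N37826 (iv3 D132241)) (tt N104516 D207710) (tt N37920 F211881) (tt N104517 D207711) (tt N39252 F211882))
theorem Q68911 : ∀ i, i < 68911 → P i := stepQ 68910 Q68910 (allL N68910 (tt N104518 D207712) (tt N104519 D207713) (tt N39361 F211883) (tt N104517 (iv3 F446114)) (tt N39110 F211884) (tt N104520 D207714) (tt N37826 (iv6 D132242)) (tt N104521 D207715))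
theorem Q68912 : ∀ i, i < 68912 → P i := stepQ 68911 Q68911 (allL N68911 (tt N90701 (iv1 F390559)) (tt N64854 (iv0 F344856)) (tt N90702 (iv2 F390564)) (tt N37827 (iv3 D132243)) (tt N84052 (iv4 F367944)) (tt N39090 F211885) (tt N104522 D207716) (tt N39273 F211886))
theorem Q68913 : ∀ i, i < 68913 → P i := stepQ 68912 Q68912 (allL N68912 (tt N98430 F420900) (tt N104523 D207717) (tt N39282 F211887) (tt N104522 (iv3 F446128)) (tt N37828 F211888) (tt N104524 D207718) (tt N37827 (iv6 D132244)) (tt N90072 (iv7 F388491)))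
theorem Q68914 : ∀ i, i < 68914 → P i := stepQ 68913 Q68913 (allL N68913 (tt N104460 (iv1 F445860)) (tt N37828 (iv0 D132245)) (tt N104457 (iv2 F445858)) (tt N104525 D207719) (tt N104526 D207720) (tt N104527 D207721) (tt N104528 D207722) (tt N104458 F445859))
theorem Q68915 : ∀ i, i < 68915 → P i := stepQ 68914 Q68914 (allL N68914 (tt N37828 (iv1 D132246)) (tt N104460 F445852) (tt N104458 F445844) (tt N104529 D207723) (tt N104530 D207724) (tt N102535 (iv5 F437548)) (tt N104531 D207725) (tt N104457 (iv7 F445853)))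
theorem Q68916 : ∀ i, i < 68916 → P i := stepQ 68915 Q68915 (allL N68915 (tt N104532 D207726) (tt N104533 D207727) (tt N104459 (iv2 F445845)) (tt N69072 (iv3 F361172)) (tt N102454 (iv4 F437279)) (tt N37828 (iv5 D132247)) (tt N37831 F211889) (tt N69067 F361167))
theorem Q68917 : ∀ i, i < 68917 → P i := stepQ 68916 Q68916 (allL N68916 (tt N104458 (iv1 F445842)) (tt N104457 F445851) (tt N104460 (iv2 F445848)) (tt N69071 F361174) (tt N90072 (iv4 F388490)) (tt N69067 (iv5 F361173)) (tt N67723 F211890) (tt N37828 (iv7 D132248)))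
theorem Q68918 : ∀ i, i < 68918 → P i := stepQ 68917 Q68917 (allL N68917 (tt N104534 D207728) (tt N104495 (iv0 F487167)) (tt N104535 D207730) (tt N37829 (iv3 D132249)) (tt N92928 (iv4 F398794)) (tt N104536 D207731) (tt N67559 F211891) (tt N104303 (iv7 F445141)))
theorem Q68919 : ∀ i, i < 68919 → P i := stepQ 68918 Q68918 (allL N68918 (tt N66171 F211892) (tt N66085 (iv0 F345888)) (tt N69158 F212996) (tt N104536 (iv3 F446176)) (tt N104537 D207732) (tt N37829 (iv5 D132250)) (tt N103852 (iv6 F443089)) (tt N69157 F212993))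
theorem Q68920 : ∀ i, i < 68920 → P i := stepQ 68919 Q68919 (allL N68919 (tt N104501 (iv1 F446041)) (tt N75074 (iv0 F379625)) (tt N88715 (iv2 F383961)) (tt N37830 (iv3 D132251)) (tt N87515 F379624) (tt N88712 (iv5 F383955)) (tt N98416 (iv6 F420869)) (tt N104090 (iv7 F444126)))
theorem Q68921 : ∀ i, i < 68921 → P i := stepQ 68920 Q68920 (allL N68920 (tt N66085 (iv1 F345889)) (tt N66171 F211893) (tt N69157 F212992) (tt N88712 (iv3 F383956)) (tt N104538 D207733) (tt N37830 (iv5 D132252)) (tt N104539 D207734) (tt N69158 (iv7 F212994)))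
theorem Q68922 : ∀ i, i < 68922 → P i := stepQ 68921 Q68921 (allL N68921 (tt N69351 F407072) (tt N102525 (iv0 F437504)) (tt N103945 F443470) (tt N98416 (iv3 F420868)) (tt N95106 (iv4 F407067)) (tt N103942 (iv5 F443467)) (tt N37830 (iv6 D132253)) (tt N67563 F211894))
theorem Q68923 : ∀ i, i < 68923 → P i := stepQ 68922 Q68922 (allL N68922 (tt N103825 (iv1 F442973)) (tt N37831 (iv0 D132254)) (tt N102562 (iv2 F437667)) (tt N104540 D207735) (tt N104541 D207736) (tt N37971 F211895) (tt N102451 (iv6 F437276)) (tt N102565 (iv7 F437682)))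
theorem Q68924 : ∀ i, i < 68924 → P i := stepQ 68923 Q68923 (allL N68923 (tt N37831 (iv1 D132255)) (tt N103825 (iv0 F442972)) (tt N102565 (iv2 F437681)) (tt N87842 (iv3 F380807)) (tt N104542 D207737) (tt N37972 F211896) (tt N104543 D207738) (tt N102562 (iv7 F437669)))
theorem Q68925 : ∀ i, i < 68925 → P i := stepQ 68924 Q68924 (allL N68924 (tt N104544 D207739) (tt N104545 D207740) (tt N67554 (iv2 F361169)) (tt N66172 F361170) (tt N37831 (iv4 D132256)) (tt N67547 F361171) (tt N102454 (iv6 F437280)) (tt N66167 F361166))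
theorem Q68926 : ∀ i, i < 68926 → P i := stepQ 68925 Q68925 (allL N68925 (tt N37836 (iv1 F211899)) (tt N37834 (iv0 D132258)) (tt N71075 (iv2 F219393)) (tt N88692 F383898) (tt N58197 F211898) (tt N104546 D207741) (tt N67526 (iv6 F211901)) (tt N58196 F211900))
theorem Q68927 : ∀ i, i < 68927 → P i := stepQ 68926 Q68926 (allL N68926 (tt N104547 D207742) (tt N104465 (iv0 F445884)) (tt N104548 D207743) (tt N37834 (iv3 D132259)) (tt N70604 (iv4 F217930)) (tt N104549 D207744) (tt N67569 F211902) (tt N96994 (iv7 F414963)))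
theorem Q68928 : ∀ i, i < 68928 → P i := stepQ 68927 Q68927 (allL N68927 (tt N66189 F211903) (tt N102493 F437425) (tt N96999 (iv2 F414976)) (tt N104549 (iv3 F446222)) (tt N103852 (iv4 F443087)) (tt N37834 (iv5 D132260)) (tt N104537 (iv6 F446178)) (tt N96995 (iv7 F414966)))
theorem Q68929 : ∀ i, i < 68929 → P i := stepQ 68928 Q68928 (allL N68928 (tt N94495 F404715) (tt N68840 (iv0 F211908)) (tt N67233 F211904) (tt N37837 F211905) (tt N96595 (iv4 F413125)) (tt N67571 F211906) (tt N37835 (iv6 D132261)) (tt N67571 F211907))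
theorem Q68930 : ∀ i, i < 68930 → P i := stepQ 68929 Q68929 (allL N68929 (tt N104483 (iv1 F446228)) (tt N104550 D207746) (tt N104551 D207747) (tt N37836 (iv3 D132262)) (tt N96594 (iv4 F413122)) (tt N104552 D207748) (tt N104553 D207749) (tt N96998 (iv7 F414975)))
theorem Q68931 : ∀ i, i < 68931 → P i := stepQ 68930 Q68930 (allL N68930 (tt N102493 (iv1 F437426)) (tt N66189 F211909) (tt N96995 (iv2 F414965)) (tt N104552 (iv3 F446229)) (tt N103851 (iv4 F443080)) (tt N37836 (iv5 D132263)) (tt N104554 D207750) (tt N96999 (iv7 F414977)))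
theorem Q68932 : ∀ i, i < 68932 → P i := stepQ 68931 Q68931 (allL N68931 (tt N104555 D207751) (tt N104472 (iv0 F445912)) (tt N96996 (iv2 F414968)) (tt N104553 (iv3 F446231)) (tt N37837 F211910) (tt N104556 D207752) (tt N37836 (iv6 D132264)) (tt N67574 F211911))
theorem Q68933 : ∀ i, i < 68933 → P i := stepQ 68932 Q68932 (allL N68932 (tt N67254 (iv1 F211912)) (tt N37838 (iv0 D132265)) (tt N67253 (iv2 F214147)) (tt N70804 (iv3 F218470)) (tt N67746 (iv4 F211913)) (tt N67446 (iv5 F211922)) (tt N97632 (iv6 F417696)) (tt N67252 (iv7 F214151)))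
theorem Q68934 : ∀ i, i < 68934 → P i := stepQ 68933 Q68933 (allL N68933 (tt N37838 (iv1 D132266)) (tt N67254 (iv0 F211919)) (tt N67252 F214144) (tt N97720 F418057) (tt N67610 (iv4 F211918)) (tt N67445 (iv5 F211929)) (tt N104557 D207753) (tt N67253 F214150))
theorem Q68935 : ∀ i, i < 68935 → P i := stepQ 68934 Q68934 (allL N68934 (tt N67253 (iv1 F211934)) (tt N67252 F211933) (tt N37838 (iv2 D132267)) (tt N67241 F211930) (tt N37844 F211931) (tt N78186 (iv5 F246740)) (tt N104558 D207754) (tt N67254 F211932))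
theorem Q68936 : ∀ i, i < 68936 → P i := stepQ 68935 Q68935 (allL N68935 (tt N104559 D207755) (tt N65135 (iv0 F361750)) (tt N104558 (iv2 F446250)) (tt N37839 F211942) (tt N37845 F211943) (tt N104560 D207756) (tt N37838 (iv6 D132268)) (tt N104320 (iv7 F445228)))
theorem Q68937 : ∀ i, i < 68937 → P i := stepQ 68936 Q68936 (allL N68936 (tt N67248 (iv1 F211945)) (tt N37839 (iv0 D132269)) (tt N67245 (iv2 F211949)) (tt N98010 F419159) (tt N68299 F211944) (tt N104304 (iv5 F445145)) (tt N93221 (iv6 F400015)) (tt N67246 (iv7 F211950)))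
theorem Q68938 : ∀ i, i < 68938 → P i := stepQ 68937 Q68937 (allL N68937 (tt N37839 (iv1 D132270)) (tt N67248 F211951) (tt N67246 (iv2 F211954)) (tt N77234 F365503) (tt N68300 F211953) (tt N104369 (iv5 F445454)) (tt N67578 (iv6 F211955)) (tt N67245 F211952))
theorem Q68939 : ∀ i, i < 68939 → P i := stepQ 68938 Q68938 (allL N68938 (tt N68760 F211958) (tt N56539 F211959) (tt N67247 F211956) (tt N104560 (iv3 F446264)) (tt N104561 D207757) (tt N37839 (iv5 D132271)) (tt N98005 F419144) (tt N68758 F211957))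
theorem Q68940 : ∀ i, i < 68940 → P i := stepQ 68939 Q68939 (allL N68939 (tt N67225 F211966) (tt N38467 (iv0 F211964)) (tt N67223 F214364) (tt N37840 (iv3 D132272)) (tt N70250 (iv4 F217062)) (tt N59004 F211960) (tt N68840 F211961) (tt N67224 (iv7 F214363)))
theorem Q68941 : ∀ i, i < 68941 → P i := stepQ 68940 Q68940 (allL N68940 (tt N67263 F211970) (tt N56827 F211971) (tt N67250 F211967) (tt N104562 D207758) (tt N37840 (iv4 D132273)) (tt N104360 (iv5 F445425)) (tt N68843 F211968) (tt N67251 F211969))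
theorem Q68942 : ∀ i, i < 68942 → P i := stepQ 68941 Q68941 (allL N68941 (tt N64681 (iv1 F329389)) (tt N67286 F214098) (tt N67285 F211976) (tt N37841 (iv3 D132274)) (tt N69518 (iv4 F214582)) (tt N97967 (iv5 F419004)) (tt N67581 F211974) (tt N67249 F211975))
theorem Q68943 : ∀ i, i < 68943 → P i := stepQ 68942 Q68942 (allL N68942 (tt N56827 F211981) (tt N67263 F211982) (tt N67251 F211978) (tt N97665 (iv3 F417843)) (tt N37841 (iv4 D132275)) (tt N104359 (iv5 F445418)) (tt N67582 F211979) (tt N67250 F211980))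
theorem Q68944 : ∀ i, i < 68944 → P i := stepQ 68943 Q68943 (allL N68943 (tt N68968 (iv1 F212213)) (tt N67037 (iv0 F316697)) (tt N67599 (iv2 F212058)) (tt N71916 (iv3 F359787)) (tt N37842 (iv4 D132278)) (tt N104563 D207759) (tt N60703 F359785) (tt N67597 (iv7 F212057)))
theorem Q68945 : ∀ i, i < 68945 → P i := stepQ 68944 Q68944 (allL N68944 (tt N67540 F212216) (tt N38244 F214708) (tt N44789 (iv2 F313037)) (tt N37843 (iv3 D132280)) (tt N66195 (iv4 F211991)) (tt N38373 F211990) (tt N96993 F414960) (tt N44786 (iv7 F313020)))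
theorem Q68946 : ∀ i, i < 68946 → P i := stepQ 68945 Q68945 (allL N68945 (tt N67037 (iv1 F316698)) (tt N68968 F212214) (tt N67597 F212063) (tt N66020 (iv3 F343574)) (tt N37843 (iv4 D132281)) (tt N104564 D207760) (tt N87046 (iv6 F378168)) (tt N67599 F212064))
theorem Q68947 : ∀ i, i < 68947 → P i := stepQ 68946 Q68946 (allL N68946 (tt N37869 F337764) (tt N67654 F337765) (tt N67598 F212066) (tt N96993 F414959) (tt N87046 (iv4 F378166)) (tt N46156 F337766) (tt N37843 (iv6 D132282)) (tt N67653 (iv7 F345636)))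
theorem Q68948 : ∀ i, i < 68948 → P i := stepQ 68947 Q68947 (allL N68947 (tt N104565 D207761) (tt N104566 D207762) (tt N37845 F212067) (tt N67589 F212068) (tt N104558 (iv4 F446252)) (tt N66843 (iv5 F342772)) (tt N37844 (iv6 D132283)) (tt N104567 D207763))
theorem Q68949 : ∀ i, i < 68949 → P i := stepQ 68948 Q68948 (allL N68948 (tt N104567 (iv1 F446313)) (tt N37845 (iv0 D132284)) (tt N104565 F446298) (tt N76784 (iv3 F366860)) (tt N104568 D207764) (tt N104569 D207765) (tt N76781 F366859) (tt N104566 (iv7 F446302)))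
theorem Q68950 : ∀ i, i < 68950 → P i := stepQ 68949 Q68949 (allL N68949 (tt N37845 (iv1 D132285)) (tt N104567 F446312) (tt N104566 (iv2 F446306)) (tt N104570 D207766) (tt N98589 (iv4 F421474)) (tt N104571 D207767) (tt N67591 F421475) (tt N104565 F446300))
theorem Q68951 : ∀ i, i < 68951 → P i := stepQ 68950 Q68950 (allL N68950 (tt N104566 (iv1 F446301)) (tt N104565 (iv0 F446299)) (tt N104567 (iv2 F446307)) (tt N37848 F212069) (tt N104320 (iv4 F445227)) (tt N69210 (iv5 F213317)) (tt N37910 F212070) (tt N37845 (iv7 D132286)))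
theorem Q68952 : ∀ i, i < 68952 → P i := stepQ 68951 Q68951 (allL N68951 (tt N68242 F319753) (tt N38249 F319754) (tt N68241 (iv2 F336053)) (tt N37846 (iv3 D132287)) (tt N85004 (iv4 F371338)) (tt N104572 D207768) (tt N44794 F306715) (tt N67593 F212071))
theorem Q68953 : ∀ i, i < 68953 → P i := stepQ 68952 Q68952 (allL N68952 (tt N37959 F212074) (tt N37962 F212075) (tt N66754 F321653) (tt N104572 (iv3 F446337)) (tt N44375 F321654) (tt N37846 (iv5 D132288)) (tt N44379 F321655) (tt N62599 F321656))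
theorem Q68954 : ∀ i, i < 68954 → P i := stepQ 68953 Q68953 (allL N68953 (tt N67534 (iv1 F212429)) (tt N37881 (iv0 F212084)) (tt N67517 F212082) (tt N104111 (iv3 F444230)) (tt N37849 (iv4 D132291)) (tt N104573 D207769) (tt N69351 (iv6 F213946)) (tt N67519 F212083))
theorem Q68955 : ∀ i, i < 68955 → P i := stepQ 68954 Q68954 (allL N68954 (tt N38247 F214794) (tt N66391 (iv0 F330925)) (tt N68243 (iv2 F217692)) (tt N37850 (iv3 D132293)) (tt N68215 F212107) (tt N38072 F212106) (tt N104574 D207770) (tt N67583 (iv7 F217693)))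
theorem Q68956 : ∀ i, i < 68956 → P i := stepQ 68955 Q68955 (allL N68955 (tt N69046 F212543) (tt N92078 (iv0 F395659)) (tt N67587 F217721) (tt N104285 F445100) (tt N37850 (iv4 D132294)) (tt N88236 (iv5 F382294)) (tt N104575 D207771) (tt N67584 F217719))
theorem Q68957 : ∀ i, i < 68957 → P i := stepQ 68956 Q68956 (allL N68956 (tt N67652 F336579) (tt N37870 F336580) (tt N67588 (iv2 F217744)) (tt N104574 (iv3 F446348)) (tt N104575 (iv4 F446356)) (tt N46159 F336581) (tt N37850 (iv6 D132295)) (tt N67651 F336582))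
theorem Q68958 : ∀ i, i < 68958 → P i := stepQ 68957 Q68957 (allL N68957 (tt N67705 (iv1 F213500)) (tt N38140 (iv0 F213499)) (tt N68339 F217704) (tt N37851 (iv3 D132297)) (tt N68961 (iv4 F212116)) (tt N38075 F212110) (tt N102691 (iv6 F438220)) (tt N67586 F217703))
theorem Q68959 : ∀ i, i < 68959 → P i := stepQ 68958 Q68958 (allL N68958 (tt N92078 (iv1 F395660)) (tt N69046 (iv0 F213501)) (tt N67584 (iv2 F217720)) (tt N69471 (iv3 F214453)) (tt N37851 (iv4 D132298)) (tt N94010 (iv5 F402811)) (tt N104576 D207772) (tt N67587 (iv7 F217722)))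
theorem Q68960 : ∀ i, i < 68960 → P i := stepQ 68959 Q68959 (allL N68959 (tt N37910 F212649) (tt N67600 (iv0 F212111)) (tt N67585 F217727) (tt N102691 F438219) (tt N104576 (iv4 F446361)) (tt N82184 F337779) (tt N37851 (iv6 D132299)) (tt N67601 (iv7 F217728)))
theorem Q68961 : ∀ i, i < 68961 → P i := stepQ 68960 Q68960 (allL N68960 (tt N104577 D207773) (tt N85958 (iv0 F374619)) (tt N48392 F315272) (tt N37855 F212115) (tt N69533 (iv4 F214647)) (tt N45649 F315273) (tt N37853 (iv6 D132302)) (tt N104578 D207774))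
theorem Q68962 : ∀ i, i < 68962 → P i := stepQ 68961 Q68961 (allL N68961 (tt N37857 (iv1 F212117)) (tt N37854 (iv0 D132303)) (tt N67741 (iv2 F217705)) (tt N104579 D207775) (tt N68957 F212116) (tt N104580 D207776) (tt N104581 D207777) (tt N67740 (iv7 F217707)))
theorem Q68963 : ∀ i, i < 68963 → P i := stepQ 68962 Q68962 (allL N68962 (tt N37854 (iv1 D132304)) (tt N37857 F212118) (tt N67740 F217702) (tt N67678 F214798) (tt N69388 F214797) (tt N104582 D207778) (tt N103872 (iv6 F443164)) (tt N67741 F217706))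
theorem Q68964 : ∀ i, i < 68964 → P i := stepQ 68963 Q68963 (allL N68963 (tt N75087 F363918) (tt N104583 D207779) (tt N104584 D207780) (tt N37854 (iv3 D132305)) (tt N69532 (iv4 F214644)) (tt N104585 D207781) (tt N104586 D207782) (tt N67742 F212119))
theorem Q68965 : ∀ i, i < 68965 → P i := stepQ 68964 Q68964 (allL N68964 (tt N103879 (iv1 F443195)) (tt N88901 (iv0 F384488)) (tt N67749 F212120) (tt N104585 (iv3 F446415)) (tt N42245 F351930) (tt N37854 (iv5 D132306)) (tt N42244 F351931) (tt N67743 F212121))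
theorem Q68966 : ∀ i, i < 68966 → P i := stepQ 68965 Q68965 (allL N68965 (tt N104587 D207783) (tt N104588 D207784) (tt N67750 F212122) (tt N104586 (iv3 F446422)) (tt N37855 F212123) (tt N97793 (iv5 F418327)) (tt N37854 (iv6 D132307)) (tt N104589 D207785))
theorem Q68967 : ∀ i, i < 68967 → P i := stepQ 68966 Q68966 (allL N68966 (tt N67752 (iv1 F212128)) (tt N37855 (iv0 D132308)) (tt N67595 (iv2 F371344)) (tt N67625 (iv3 F371345)) (tt N104508 (iv4 F446069)) (tt N104590 D207786) (tt N103948 (iv6 F443484)) (tt N67751 F371343))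
theorem Q68968 : ∀ i, i < 68968 → P i := stepQ 68967 Q68967 (allL N68967 (tt N67751 (iv1 F212129)) (tt N67595 (iv0 F363456)) (tt N67752 F212126) (tt N104578 (iv3 F446373)) (tt N104589 (iv4 F446428)) (tt N103807 F442910) (tt N37907 F359750) (tt N37855 (iv7 D132311)))
theorem Q68969 : ∀ i, i < 68969 → P i := stepQ 68968 Q68968 (allL N68968 (tt N68945 (iv1 F212214)) (tt N68943 F212213) (tt N101850 (iv2 F434659)) (tt N103329 (iv3 F441160)) (tt N37856 (iv4 D132315)) (tt N65740 (iv5 F355973)) (tt N102824 (iv6 F438812)) (tt N67747 F212211))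
theorem Q68970 : ∀ i, i < 68970 → P i := stepQ 68969 Q68969 (allL N68969 (tt N71070 (iv1 F219386)) (tt N61669 (iv0 F212223)) (tt N71069 F421976) (tt N37857 (iv3 D132317)) (tt N103329 (iv4 F441161)) (tt N103403 (iv5 F441459)) (tt N104591 D207787) (tt N67748 F212222))
theorem Q68971 : ∀ i, i < 68971 → P i := stepQ 68970 Q68970 (allL N68970 (tt N88901 (iv1 F384487)) (tt N103879 (iv0 F443194)) (tt N67743 F212224) (tt N103403 (iv3 F441460)) (tt N100609 (iv4 F429690)) (tt N37857 (iv5 D132318)) (tt N104592 D207788) (tt N67749 F212225))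
theorem Q68972 : ∀ i, i < 68972 → P i := stepQ 68971 Q68971 (allL N68971 (tt N99181 (iv1 F423610)) (tt N102777 (iv0 F438601)) (tt N67744 F212226) (tt N104591 (iv3 F446441)) (tt N37858 F212227) (tt N104593 D207789) (tt N37857 (iv6 D132319)) (tt N102779 (iv7 F438607)))
theorem Q68973 : ∀ i, i < 68973 → P i := stepQ 68972 Q68972 (allL N68972 (tt N37858 (iv1 D132321)) (tt N37907 (iv0 F359747)) (tt N37908 F359742) (tt N67632 F359743) (tt N104510 (iv4 F446084)) (tt N65867 F359744) (tt N65868 F359745) (tt N37904 F359746))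
theorem Q68974 : ∀ i, i < 68974 → P i := stepQ 68973 Q68973 (allL N68973 (tt N73425 (iv1 F359757)) (tt N99265 (iv0 F423873)) (tt N67745 F212229) (tt N70925 F350866) (tt N66265 F350868) (tt N37858 (iv5 D132322)) (tt N103092 (iv6 F440030)) (tt N71360 (iv7 F350865)))
theorem Q68975 : ∀ i, i < 68975 → P i := stepQ 68974 Q68974 (allL N68974 (tt N37908 (iv1 F350856)) (tt N37904 F350853) (tt N37907 (iv2 F359748)) (tt N71362 (iv3 F350863)) (tt N102779 (iv4 F438608)) (tt N71360 F350864) (tt N67752 F212231) (tt N37858 (iv7 D132323)))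
theorem Q68976 : ∀ i, i < 68976 → P i := stepQ 68975 Q68975 (allL N68975 (tt N67757 F212237) (tt N67756 (iv0 F212240)) (tt N37862 F212235) (tt N42696 F311389) (tt N37859 (iv4 D132324)) (tt N76013 (iv5 F355256)) (tt N44543 F212239) (tt N67753 F212236))
theorem Q68977 : ∀ i, i < 68977 → P i := stepQ 68976 Q68976 (allL N68976 (tt N80195 F330767) (tt N45421 F311386) (tt N37863 F212241) (tt N44863 F311387) (tt N44543 F212243) (tt N64066 (iv5 F330770)) (tt N37859 (iv6 D132325)) (tt N94123 (iv7 F403316)))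
theorem Q68978 : ∀ i, i < 68978 → P i := stepQ 68977 Q68977 (allL N68977 (tt N46812 F311916) (tt N43159 (iv0 F212281)) (tt N44817 F311917) (tt N37861 (iv3 D132334)) (tt N69672 (iv4 F215577)) (tt N37941 F212279) (tt N88491 (iv6 F383263)) (tt N46808 F311918))
theorem Q68979 : ∀ i, i < 68979 → P i := stepQ 68978 Q68978 (allL N68978 (tt N46598 F312040) (tt N46597 (iv0 F313843)) (tt N44904 (iv2 F313736)) (tt N40030 F212285) (tt N37861 (iv4 D132335)) (tt N82555 F341999) (tt N75821 (iv6 F234276)) (tt N46593 F312041))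
theorem Q68980 : ∀ i, i < 68980 → P i := stepQ 68979 Q68979 (allL N68979 (tt N67753 (iv1 F212286)) (tt N37862 (iv0 D132336)) (tt N67757 (iv2 F212303)) (tt N69578 (iv3 F214932)) (tt N68585 (iv4 F212287)) (tt N69609 (iv5 F215082)) (tt N75592 F232008) (tt N67756 F212302))
theorem Q68981 : ∀ i, i < 68981 → P i := stepQ 68980 Q68980 (allL N68980 (tt N45421 F330748) (tt N80195 F330749) (tt N94123 (iv2 F403313)) (tt N37867 F212314) (tt N62551 (iv4 F345697)) (tt N44941 F313451) (tt N67761 F212315) (tt N37863 (iv7 D132342)))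
theorem Q68982 : ∀ i, i < 68982 → P i := stepQ 68981 Q68981 (allL N68981 (tt N71742 (iv1 F365899)) (tt N44827 F362641) (tt N104077 (iv2 F444058)) (tt N37864 (iv3 D132344)) (tt N97857 (iv4 F418537)) (tt N79777 F362642) (tt N67638 F361184) (tt N80078 (iv7 F362644)))
theorem Q68983 : ∀ i, i < 68983 → P i := stepQ 68982 Q68982 (allL N68982 (tt N92262 (iv1 F396510)) (tt N103872 (iv0 F443162)) (tt N67570 F362155) (tt N104594 D207790) (tt N37864 (iv4 D132345)) (tt N58827 F362157) (tt N67639 F361185) (tt N67573 F362153))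
theorem Q68984 : ∀ i, i < 68984 → P i := stepQ 68983 Q68983 (allL N68983 (tt N103141 F440265) (tt N104131 (iv0 F444343)) (tt N104595 D207791) (tt N37865 (iv3 D132349)) (tt N87787 (iv4 F380497)) (tt N79785 F366150) (tt N104222 (iv6 F444781)) (tt N80083 (iv7 F366151)))
theorem Q68985 : ∀ i, i < 68985 → P i := stepQ 68984 Q68984 (allL N68984 (tt N103872 (iv1 F443163)) (tt N92262 (iv0 F396509)) (tt N67573 F362152) (tt N104596 D207792) (tt N37865 (iv4 D132350)) (tt N58822 F362156) (tt N104223 (iv6 F444786)) (tt N67570 (iv7 F362154)))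
theorem Q68986 : ∀ i, i < 68986 → P i := stepQ 68985 Q68985 (allL N68985 (tt N104597 D207793) (tt N104557 (iv0 F446248)) (tt N104598 D207794) (tt N37868 (iv3 D132369)) (tt N37869 F212369) (tt N55625 (iv5 F334353)) (tt N67650 F212370) (tt N67283 F212371))
theorem Q68987 : ∀ i, i < 68987 → P i := stepQ 68986 Q68986 (allL N68986 (tt N67654 (iv1 F212376)) (tt N37869 (iv0 D132371)) (tt N67653 (iv2 F345635)) (tt N66234 F338373) (tt N52255 F338374) (tt N46155 F338375) (tt N66232 F338380) (tt N67598 (iv7 F338376)))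
theorem Q68988 : ∀ i, i < 68988 → P i := stepQ 68987 Q68987 (allL N68987 (tt N67653 (iv1 F212382)) (tt N67598 (iv0 F341924)) (tt N37869 (iv2 D132373)) (tt N67652 F212377) (tt N104598 (iv4 F446470)) (tt N64069 (iv5 F358986)) (tt N67652 F212378) (tt N67654 F212379))
theorem Q68989 : ∀ i, i < 68989 → P i := stepQ 68988 Q68988 (allL N68988 (tt N37870 (iv1 D132375)) (tt N67652 F212387) (tt N67651 F336565) (tt N80284 F336566) (tt N104599 D207795) (tt N46160 F336567) (tt N67601 F336573) (tt N67588 (iv7 F336578)))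
theorem Q68990 : ∀ i, i < 68990 → P i := stepQ 68989 Q68989 (allL N68989 (tt N67588 (iv1 F336576)) (tt N67651 F212386) (tt N37870 (iv2 D132376)) (tt N67654 F212384) (tt N104309 (iv4 F445169)) (tt N64071 F336603) (tt N104600 D207796) (tt N67652 F212385))
theorem Q68991 : ∀ i, i < 68991 → P i := stepQ 68990 Q68990 (allL N68990 (tt N76781 (iv1 F354041)) (tt N104601 D207797) (tt N104600 (iv2 F446480)) (tt N37871 F212389) (tt N104310 (iv4 F445175)) (tt N80322 (iv5 F346981)) (tt N37870 (iv6 D132377)) (tt N67655 F212390))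
theorem Q68992 : ∀ i, i < 68992 → P i := stepQ 68991 Q68991 (allL N68991 (tt N67509 (iv1 F212401)) (tt N45085 F333191) (tt N37872 (iv2 D132379)) (tt N67523 F212391) (tt N60986 (iv4 F333200)) (tt N69048 (iv5 F212546)) (tt N102794 (iv6 F438674)) (tt N67510 F212393))
theorem Q68993 : ∀ i, i < 68993 → P i := stepQ 68992 Q68992 (allL N68992 (tt N38930 (iv1 F212404)) (tt N70575 F217871) (tt N69048 (iv2 F212545)) (tt N37873 F212402) (tt N93003 (iv4 F399095)) (tt N37872 (iv5 D132380)) (tt N97851 F418511) (tt N67511 F212403))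
theorem Q68994 : ∀ i, i < 68994 → P i := stepQ 68993 Q68993 (allL N68993 (tt N84998 (iv1 F371320)) (tt N84997 F371319) (tt N67525 F212405) (tt N97851 F418510) (tt N41896 F326333) (tt N102796 (iv5 F438678)) (tt N37873 (iv6 D132381)) (tt N41893 F326334))
theorem Q68995 : ∀ i, i < 68995 → P i := stepQ 68994 Q68994 (allL N68994 (tt N37874 (iv1 D132382)) (tt N67523 F212407) (tt N67521 (iv2 F212410)) (tt N67623 (iv3 F212411)) (tt N78690 (iv4 F337005)) (tt N67813 F212409) (tt N87844 (iv6 F380813)) (tt N67522 F212408))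
theorem Q68996 : ∀ i, i < 68996 → P i := stepQ 68995 Q68995 (allL N68995 (tt N104602 D207798) (tt N104603 D207799) (tt N103600 (iv2 F442189)) (tt N37876 F212412) (tt N64456 (iv4 F329058)) (tt N104604 D207800) (tt N37874 (iv6 D132383)) (tt N104605 D207801))
theorem Q68997 : ∀ i, i < 68997 → P i := stepQ 68996 Q68996 (allL N68996 (tt N67516 (iv1 F212421)) (tt N37876 (iv0 D132385)) (tt N67513 (iv2 F213969)) (tt N60771 F358206) (tt N70563 (iv4 F217833)) (tt N104606 D207802) (tt N104555 F446238) (tt N67514 (iv7 F213971)))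
theorem Q68998 : ∀ i, i < 68998 → P i := stepQ 68997 Q68997 (allL N68997 (tt N37876 (iv1 D132386)) (tt N67516 F212415) (tt N67514 F213970) (tt N104607 D207803) (tt N68224 F212416) (tt N104608 D207804) (tt N67684 F214086) (tt N67513 F213968))
theorem Q68999 : ∀ i, i < 68999 → P i := stepQ 68998 Q68998 (allL N68998 (tt N104609 D207805) (tt N92256 (iv0 F396489)) (tt N67515 F212417) (tt N104604 (iv3 F446498)) (tt N41918 F365820) (tt N37876 (iv5 D132387)) (tt N41917 F365821) (tt N104610 D207806))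
theorem Q69000 : ∀ i, i < 69000 → P i := stepQ 68999 Q68999 (allL N68999 (tt N67514 (iv1 F212422)) (tt N67513 F212423) (tt N67516 F212418) (tt N104605 (iv3 F446501)) (tt N37878 F212419) (tt N104610 (iv5 F446527)) (tt N67528 F212420) (tt N37876 (iv7 D132388)))
theorem Q69001 : ∀ i, i < 69001 → P i := stepQ 69000 Q69000 (allL N69000 (tt N37881 F212427) (tt N67534 F212428) (tt N67519 F212424) (tt N104611 D207807) (tt N37877 (iv4 D132389)) (tt N104612 D207808) (tt N67687 F212425) (tt N67517 F212426))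
theorem Q69002 : ∀ i, i < 69002 → P i := stepQ 69001 Q69001 (allL N69001 (tt N66021 (iv1 F343597)) (tt N37879 (iv0 D132390)) (tt N67531 F358345) (tt N78901 (iv3 F362909)) (tt N60686 F358342) (tt N67771 F212430) (tt N104613 D207809) (tt N67530 (iv7 F358344)))
theorem Q69003 : ∀ i, i < 69003 → P i := stepQ 69002 Q69002 (allL N69002 (tt N37879 (iv1 D132391)) (tt N66021 (iv0 F343596)) (tt N67530 (iv2 F358346)) (tt N104614 D207810) (tt N60685 (iv4 F349611)) (tt N67770 F343603) (tt N78906 (iv6 F362914)) (tt N67531 F358347))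
theorem Q69004 : ∀ i, i < 69004 → P i := stepQ 69003 Q69003 (allL N69003 (tt N104491 F446004) (tt N104615 D207811) (tt N97943 (iv2 F418901)) (tt N37880 F212433) (tt N65806 (iv4 F343578)) (tt N104616 D207812) (tt N37879 (iv6 D132392)) (tt N67724 (iv7 F212435)))
theorem Q69005 : ∀ i, i < 69005 → P i := stepQ 69004 Q69004 (allL N69004 (tt N95117 (iv1 F407118)) (tt N95115 (iv0 F407110)) (tt N67537 F212436) (tt N104616 (iv3 F446556)) (tt N104617 D207813) (tt N37880 (iv5 D132393)) (tt N103777 (iv6 F442769)) (tt N67725 F212437))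
theorem Q69006 : ∀ i, i < 69006 → P i := stepQ 69005 Q69005 (allL N69005 (tt N69103 F212784) (tt N69071 (iv0 F212722)) (tt N67533 F212438) (tt N103521 (iv3 F441929)) (tt N104618 D207814) (tt N37881 (iv5 D132394)) (tt N103520 (iv6 F441924)) (tt N69101 (iv7 F212781)))
theorem Q69007 : ∀ i, i < 69007 → P i := stepQ 69006 Q69006 (allL N69006 (tt N67519 (iv1 F212441)) (tt N67517 F212442) (tt N67534 F212439) (tt N97946 (iv3 F418911)) (tt N69355 (iv4 F213978)) (tt N69101 (iv5 F212782)) (tt N67538 F212440) (tt N37881 (iv7 D132395)))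
theorem Q69008 : ∀ i, i < 69008 → P i := stepQ 69007 Q69007 (allL N69007 (tt N66094 F212447) (tt N102554 (iv0 F437635)) (tt N70298 (iv2 F217153)) (tt N37882 (iv3 D132397)) (tt N70154 F216810) (tt N66154 (iv5 F380826)) (tt N71428 (iv6 F365140)) (tt N67539 F214756))
theorem Q69009 : ∀ i, i < 69009 → P i := stepQ 69008 Q69008 (allL N69008 (tt N44789 F315447) (tt N44786 F315448) (tt N38244 F214749) (tt N66391 (iv3 F330928)) (tt N37882 (iv4 D132398)) (tt N47353 F315449) (tt N66390 F330966) (tt N67540 (iv7 F214751)))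
theorem Q69010 : ∀ i, i < 69010 → P i := stepQ 69009 Q69009 (allL N69009 (tt N67712 (iv1 F330979)) (tt N67719 (iv0 F330970)) (tt N67545 (iv2 F214762)) (tt N71428 F330969) (tt N66390 (iv4 F330968)) (tt N104619 D207815) (tt N37882 (iv6 D132400)) (tt N67717 (iv7 F354194)))
theorem Q69011 : ∀ i, i < 69011 → P i := stepQ 69010 Q69010 (allL N69010 (tt N60987 F326563) (tt N78901 F326564) (tt N78900 F326565) (tt N37883 (iv3 D132402)) (tt N42367 F326566) (tt N93101 (iv5 F399503)) (tt N104620 D207816) (tt N67543 (iv7 F214763)))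
theorem Q69012 : ∀ i, i < 69012 → P i := stepQ 69011 Q69011 (allL N69011 (tt N104111 F444234) (tt N104621 D207817) (tt N67542 F214761) (tt N104620 (iv3 F446577)) (tt N68239 F212460) (tt N104622 D207818) (tt N37883 (iv6 D132403)) (tt N104623 D207819))
theorem Q69013 : ∀ i, i < 69013 → P i := stepQ 69012 Q69012 (allL N69012 (tt N67549 (iv1 F212466)) (tt N67548 (iv0 F212464)) (tt N37885 F212461) (tt N102536 (iv3 F437550)) (tt N69849 (iv4 F216250)) (tt N37884 (iv5 D132404)) (tt N104624 D207820) (tt N67546 F212462))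
theorem Q69014 : ∀ i, i < 69014 → P i := stepQ 69013 Q69013 (allL N69013 (tt N78904 (iv1 F350881)) (tt N67707 F350880) (tt N37886 F212467) (tt N102537 (iv3 F437557)) (tt N37904 F212468) (tt N97927 F423587) (tt N37884 (iv6 D132405)) (tt N104510 (iv7 F446082)))
theorem Q69015 : ∀ i, i < 69015 → P i := stepQ 69014 Q69014 (allL N69014 (tt N67546 (iv1 F212469)) (tt N37885 (iv0 D132406)) (tt N67549 (iv2 F212471)) (tt N66092 (iv3 F216362)) (tt N44871 F336985) (tt N37965 F212470) (tt N104625 D207821) (tt N67548 (iv7 F212472)))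
theorem Q69016 : ∀ i, i < 69016 → P i := stepQ 69015 Q69015 (allL N69015 (tt N37885 (iv1 D132407)) (tt N67546 F212474) (tt N67548 (iv2 F212479)) (tt N68749 (iv3 F212477)) (tt N69936 (iv4 F216342)) (tt N37966 F212476) (tt N104626 D207822) (tt N67549 F212475))
theorem Q69017 : ∀ i, i < 69017 → P i := stepQ 69016 Q69016 (allL N69016 (tt N104627 D207823) (tt N104628 D207824) (tt N104624 (iv2 F446590)) (tt N37887 F212480) (tt N95901 (iv4 F410162)) (tt N104629 D207825) (tt N37885 (iv6 D132408)) (tt N104630 D207826))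
theorem Q69018 : ∀ i, i < 69018 → P i := stepQ 69017 Q69017 (allL N69017 (tt N104510 (iv1 F446081)) (tt N37886 (iv0 D132409)) (tt N78904 (iv2 F347266)) (tt N104631 D207827) (tt N66388 F347265) (tt N104632 D207828) (tt N104509 (iv6 F446078)) (tt N67707 F347267))
theorem Q69019 : ∀ i, i < 69019 → P i := stepQ 69018 Q69018 (allL N69018 (tt N97928 (iv1 F418833)) (tt N75717 (iv0 F362141)) (tt N97927 (iv2 F423589)) (tt N37889 F212481) (tt N104633 D207829) (tt N37886 (iv5 D132411)) (tt N104629 (iv6 F446605)) (tt N97926 F418829))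
theorem Q69020 : ∀ i, i < 69020 → P i := stepQ 69019 Q69019 (allL N69019 (tt N67707 F350878) (tt N78904 F350879) (tt N104510 (iv2 F446087)) (tt N37890 F212482) (tt N37908 F212483) (tt N97926 (iv5 F418826)) (tt N65879 (iv6 F324947)) (tt N37886 (iv7 D132412)))
theorem Q69021 : ∀ i, i < 69021 → P i := stepQ 69020 Q69020 (allL N69020 (tt N102544 (iv1 F437590)) (tt N37887 (iv0 D132413)) (tt N102542 F437573) (tt N104634 D207830) (tt N70696 (iv4 F384124)) (tt N84008 (iv5 F384122)) (tt N104635 D207831) (tt N88761 F384123))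
theorem Q69022 : ∀ i, i < 69022 → P i := stepQ 69021 Q69021 (allL N69021 (tt N37887 (iv1 D132414)) (tt N102544 F437589) (tt N88761 F384118) (tt N37972 F384119) (tt N70697 F384120) (tt N87842 F384121) (tt N104636 D207832) (tt N102542 (iv7 F437574)))
theorem Q69023 : ∀ i, i < 69023 → P i := stepQ 69022 Q69022 (allL N69022 (tt N52999 F384114) (tt N82962 F384115) (tt N102543 (iv2 F437576)) (tt N104629 (iv3 F446604)) (tt N88780 F384116) (tt N37887 (iv5 D132415)) (tt N37889 F212485) (tt N103771 (iv7 F442748)))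
theorem Q69024 : ∀ i, i < 69024 → P i := stepQ 69023 Q69023 (allL N69023 (tt N88761 F384069) (tt N102542 F437575) (tt N102544 (iv2 F437584)) (tt N104630 (iv3 F446607)) (tt N70603 (iv4 F217926)) (tt N103771 (iv5 F442747)) (tt N67558 F212486) (tt N37887 (iv7 D132416)))
theorem Q69025 : ∀ i, i < 69025 → P i := stepQ 69024 Q69024 (allL N69024 (tt N78908 F365650) (tt N78906 F402682) (tt N78905 F365648) (tt N37888 (iv3 D132417)) (tt N67303 F212487) (tt N104637 D207833) (tt N104499 (iv6 F446034)) (tt N67693 F212488))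
theorem Q69026 : ∀ i, i < 69026 → P i := stepQ 69025 Q69025 (allL N69025 (tt N104504 (iv1 F446048)) (tt N102858 (iv0 F438970)) (tt N102546 (iv2 F437595)) (tt N104637 (iv3 F446634)) (tt N39727 F345906) (tt N37888 (iv5 D132418)) (tt N104638 D207834) (tt N67695 F212489))
theorem Q69027 : ∀ i, i < 69027 → P i := stepQ 69026 Q69026 (allL N69026 (tt N69151 F347279) (tt N37889 (iv0 D132419)) (tt N102547 F437601) (tt N98066 F419333) (tt N39738 F347280) (tt N104639 D207835) (tt N104640 D207836) (tt N102548 (iv7 F437604)))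
theorem Q69028 : ∀ i, i < 69028 → P i := stepQ 69027 Q69027 (allL N69027 (tt N37889 (iv1 D132420)) (tt N69151 F345904) (tt N102548 F437607) (tt N104641 D207837) (tt N39739 F345905) (tt N102563 (iv5 F437675)) (tt N104642 D207838) (tt N102547 F437602))
theorem Q69029 : ∀ i, i < 69029 → P i := stepQ 69028 Q69028 (allL N69028 (tt N71461 F345907) (tt N104643 D207839) (tt N102549 (iv2 F437608)) (tt N40925 F345908) (tt N37889 (iv4 D132421)) (tt N40920 F345909) (tt N88780 (iv6 F384112)) (tt N40918 F345910))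
theorem Q69030 : ∀ i, i < 69030 → P i := stepQ 69029 Q69029 (allL N69029 (tt N102548 (iv1 F437603)) (tt N102547 F437600) (tt N69151 (iv2 F345902)) (tt N97926 (iv3 F418828)) (tt N40918 F347241) (tt N37890 F212490) (tt N69149 F361807) (tt N37889 (iv7 D132422)))
theorem Q69031 : ∀ i, i < 69031 → P i := stepQ 69030 Q69030 (allL N69030 (tt N71006 (iv1 F360515)) (tt N72079 (iv0 F361830)) (tt N72081 F328421) (tt N42390 F328422) (tt N104644 D207840) (tt N37891 (iv5 D132424)) (tt N104645 D207841) (tt N67676 F212492))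
theorem Q69032 : ∀ i, i < 69032 → P i := stepQ 69031 Q69031 (allL N69031 (tt N57237 (iv1 F219460)) (tt N58828 (iv0 F219461)) (tt N60891 (iv2 F328476)) (tt N37892 (iv3 D132425)) (tt N62894 (iv4 F328030)) (tt N60873 F336165) (tt N74369 (iv6 F227570)) (tt N60893 (iv7 F328272)))
theorem Q69033 : ∀ i, i < 69033 → P i := stepQ 69032 Q69032 (allL N69032 (tt N71937 (iv1 F360507)) (tt N55931 (iv0 F342911)) (tt N71942 (iv2 F344615)) (tt N98919 (iv3 F422783)) (tt N37892 (iv4 D132426)) (tt N92293 (iv5 F396603)) (tt N74370 (iv6 F227573)) (tt N71941 (iv7 F347235)))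
theorem Q69034 : ∀ i, i < 69034 → P i := stepQ 69033 Q69033 (allL N69033 (tt N55939 F212496) (tt N38107 (iv0 F212497)) (tt N37938 F212493) (tt N60873 (iv3 F336164)) (tt N75733 F336169) (tt N37892 (iv5 D132427)) (tt N37918 F212494) (tt N37977 F212495))
theorem Q69035 : ∀ i, i < 69035 → P i := stepQ 69034 Q69034 (allL N69034 (tt N38691 (iv1 F214385)) (tt N58081 (iv0 F214384)) (tt N74054 (iv2 F226746)) (tt N37893 (iv3 D132428)) (tt N69840 (iv4 F216241)) (tt N93046 (iv5 F399258)) (tt N57964 F212498) (tt N74731 (iv7 F228693)))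
theorem Q69036 : ∀ i, i < 69036 → P i := stepQ 69035 Q69035 (allL N69035 (tt N55931 (iv1 F342912)) (tt N71937 (iv0 F360506)) (tt N71941 (iv2 F347233)) (tt N104646 D207842) (tt N37893 (iv4 D132429)) (tt N71460 F360505) (tt N60110 F212499) (tt N71942 (iv7 F344617)))
theorem Q69037 : ∀ i, i < 69037 → P i := stepQ 69036 Q69036 (allL N69036 (tt N74720 F228662) (tt N37894 (iv0 D132430)) (tt N74729 F228684) (tt N92461 (iv3 F397071)) (tt N70294 F217146) (tt N93571 F401184) (tt N74366 F227563) (tt N74728 F228680))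
theorem Q69038 : ∀ i, i < 69038 → P i := stepQ 69037 Q69037 (allL N69037 (tt N37894 (iv1 D132431)) (tt N74720 F228661) (tt N74728 F228679) (tt N57626 F404224) (tt N70295 (iv4 F217137)) (tt N104647 D207843) (tt N60113 F217138) (tt N74729 (iv7 F228682)))
theorem Q69039 : ∀ i, i < 69039 → P i := stepQ 69038 Q69038 (allL N69038 (tt N104648 D207844) (tt N104649 D207845) (tt N65381 F353529) (tt N37894 (iv3 D132432)) (tt N37913 F212500) (tt N69709 F353531) (tt N37895 F212501) (tt N74723 (iv7 F228676)))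
theorem Q69040 : ∀ i, i < 69040 → P i := stepQ 69039 Q69039 (allL N69039 (tt N39729 F347210) (tt N39726 F347211) (tt N40900 F347212) (tt N69709 F347213) (tt N40917 F347214) (tt N37894 (iv5 D132433)) (tt N92471 (iv6 F397107)) (tt N74730 (iv7 F228685)))
theorem Q69041 : ∀ i, i < 69041 → P i := stepQ 69040 Q69040 (allL N69040 (tt N57608 (iv1 F222269)) (tt N57612 F212505) (tt N65380 (iv2 F343121)) (tt N37896 F212504) (tt N57752 (iv4 F212506)) (tt N37895 (iv5 D132437)) (tt N92470 (iv6 F397099)) (tt N78081 (iv7 F245703)))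
theorem Q69042 : ∀ i, i < 69042 → P i := stepQ 69041 Q69041 (allL N69041 (tt N37897 (iv1 D132440)) (tt N67621 F212508) (tt N67613 (iv2 F214113)) (tt N67746 (iv3 F212509)) (tt N68342 F212510) (tt N70529 (iv5 F217636)) (tt N93799 F401940) (tt N67620 (iv7 F214110)))
theorem Q69043 : ∀ i, i < 69043 → P i := stepQ 69042 Q69042 (allL N69042 (tt N104581 F446393) (tt N104650 D207846) (tt N67631 F212515) (tt N60795 (iv3 F326342)) (tt N37899 F212517) (tt N75143 F365936) (tt N37898 (iv6 D132442)) (tt N67762 F354211))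
theorem Q69044 : ∀ i, i < 69044 → P i := stepQ 69043 Q69043 (allL N69043 (tt N99303 F424009) (tt N73426 (iv0 F337580)) (tt N67633 F212519) (tt N39374 F354172) (tt N104651 D207847) (tt N37899 (iv5 D132445)) (tt N47970 F348505) (tt N67763 (iv7 F354198)))
theorem Q69045 : ∀ i, i < 69045 → P i := stepQ 69044 Q69044 (allL N69044 (tt N67626 (iv1 F212526)) (tt N37900 (iv0 D132447)) (tt N67603 F216659) (tt N44725 (iv3 F317495)) (tt N67575 F212525) (tt N44724 F317031) (tt N102650 (iv6 F438052)) (tt N44824 F317032))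
theorem Q69046 : ∀ i, i < 69046 → P i := stepQ 69045 Q69045 (allL N69045 (tt N67603 (iv1 F212539)) (tt N44824 F317043) (tt N37900 (iv2 D132449)) (tt N67621 F212529) (tt N68656 F212535) (tt N70046 (iv5 F216510)) (tt N83614 (iv6 F348871)) (tt N67626 F212530))
theorem Q69047 : ∀ i, i < 69047 → P i := stepQ 69046 Q69046 (allL N69046 (tt N68958 F213501) (tt N68955 (iv0 F212543)) (tt N68656 F212541) (tt N93182 (iv3 F399838)) (tt N37900 (iv4 D132450)) (tt N82821 (iv5 F347530)) (tt N65118 (iv6 F348876)) (tt N67627 F212542))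
theorem Q69048 : ∀ i, i < 69048 → P i := stepQ 69047 Q69047 (allL N69047 (tt N65114 (iv1 F348877)) (tt N65134 F348874) (tt N83614 F348872) (tt N37902 F212544) (tt N65118 F348875) (tt N65120 (iv5 F348873)) (tt N37900 (iv6 D132451)) (tt N85959 (iv7 F374626)))
theorem Q69049 : ∀ i, i < 69049 → P i := stepQ 69048 Q69048 (allL N69048 (tt N66126 (iv1 F212549)) (tt N38939 (iv0 F212548)) (tt N68992 F212545) (tt N37901 (iv3 D132452)) (tt N93182 (iv4 F399839)) (tt N68991 F212546) (tt N97565 (iv6 F417397)) (tt N67629 F212547))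
theorem Q69050 : ∀ i, i < 69050 → P i := stepQ 69049 Q69049 (allL N69049 (tt N104652 D207848) (tt N104653 D207849) (tt N67624 F212551) (tt N97565 (iv3 F417396)) (tt N37902 F212552) (tt N104654 D207850) (tt N37901 (iv6 D132453)) (tt N104655 D207851))
theorem Q69051 : ∀ i, i < 69051 → P i := stepQ 69050 Q69050 (allL N69050 (tt N37902 (iv1 D132455)) (tt N50238 (iv0 F324316)) (tt N67596 (iv2 F358028)) (tt N67751 (iv3 F363459)) (tt N104621 (iv4 F446581)) (tt N104656 D207852) (tt N67751 (iv6 F363460)) (tt N67625 F358027))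
theorem Q69052 : ∀ i, i < 69052 → P i := stepQ 69051 Q69051 (allL N69051 (tt N67596 (iv1 F358023)) (tt N67625 F212559) (tt N50238 (iv2 F324318)) (tt N85959 (iv3 F374623)) (tt N104655 (iv4 F446717)) (tt N69132 (iv5 F348926)) (tt N67634 F212556) (tt N37902 (iv7 D132457)))
theorem Q69053 : ∀ i, i < 69053 → P i := stepQ 69052 Q69052 (allL N69052 (tt N43162 F217586) (tt N70529 F217637) (tt N70498 (iv2 F217571)) (tt N37905 (iv3 D132464)) (tt N69328 F213744) (tt N37980 F212575) (tt N46820 F323883) (tt N67635 F212576))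
theorem Q69054 : ∀ i, i < 69054 → P i := stepQ 69053 Q69053 (allL N69053 (tt N37906 (iv1 D132475)) (tt N97383 (iv0 F416630)) (tt N99955 F426943) (tt N91270 (iv3 F392475)) (tt N103143 (iv4 F440271)) (tt N63638 F317292) (tt N82053 F317293) (tt N99956 (iv7 F426946)))
theorem Q69055 : ∀ i, i < 69055 → P i := stepQ 69054 Q69054 (allL N69054 (tt N73421 (iv1 F359761)) (tt N93799 F401941) (tt N102825 (iv2 F438814)) (tt N37907 (iv3 D132479)) (tt N104076 (iv4 F444054)) (tt N97017 (iv5 F415046)) (tt N104578 (iv6 F446376)) (tt N67739 (iv7 F359751)))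
theorem Q69056 : ∀ i, i < 69056 → P i := stepQ 69055 Q69055 (allL N69055 (tt N102777 (iv1 F438602)) (tt N99181 (iv0 F423609)) (tt N102779 F438609) (tt N102588 F437815) (tt N37907 (iv4 D132480)) (tt N104657 D207853) (tt N104589 (iv6 F446430)) (tt N67744 (iv7 F359752)))
theorem Q69057 : ∀ i, i < 69057 → P i := stepQ 69056 Q69056 (allL N69056 (tt N99265 F423874) (tt N73425 (iv0 F354187)) (tt N71360 F359754) (tt N97017 (iv3 F415044)) (tt N66264 F357044) (tt N37907 (iv5 D132481)) (tt N60096 (iv6 F350848)) (tt N67745 (iv7 F359753)))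
theorem Q69058 : ∀ i, i < 69058 → P i := stepQ 69057 Q69057 (allL N69057 (tt N67600 (iv1 F212645)) (tt N37910 (iv0 D132505)) (tt N67601 (iv2 F217730)) (tt N104658 D207854) (tt N104659 D207855) (tt N82183 (iv5 F364107)) (tt N67651 F336574) (tt N67585 F217729))
theorem Q69059 : ∀ i, i < 69059 → P i := stepQ 69058 Q69058 (allL N69058 (tt N67601 (iv1 F212650)) (tt N67585 F212648) (tt N37910 (iv2 D132507)) (tt N66421 (iv3 F325319)) (tt N102828 (iv4 F438831)) (tt N102633 (iv5 F437960)) (tt N104567 (iv6 F446311)) (tt N67600 F212647))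
theorem Q69060 : ∀ i, i < 69060 → P i := stepQ 69059 Q69059 (allL N69059 (tt N102758 (iv1 F438502)) (tt N55040 (iv0 F367032)) (tt N102633 (iv2 F437958)) (tt N37911 F212651) (tt N62680 (iv4 F366244)) (tt N37910 (iv5 D132508)) (tt N75673 (iv6 F366550)) (tt N67602 F212652))
theorem Q69061 : ∀ i, i < 69061 → P i := stepQ 69060 Q69060 (allL N69060 (tt N44441 F212658) (tt N56971 (iv0 F212659)) (tt N67308 F212655) (tt N99993 (iv3 F427093)) (tt N37912 (iv4 D132511)) (tt N96085 (iv5 F410968)) (tt N56902 F212656) (tt N67307 F212657))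
theorem Q69062 : ∀ i, i < 69062 → P i := stepQ 69061 Q69061 (allL N69061 (tt N65382 (iv1 F317333)) (tt N37913 (iv0 D132513)) (tt N41414 F316350) (tt N104660 D207856) (tt N104661 D207857) (tt N41381 F316351) (tt N63179 F316352) (tt N41410 F316353))
theorem Q69063 : ∀ i, i < 69063 → P i := stepQ 69062 Q69062 (allL N69062 (tt N37913 (iv1 D132514)) (tt N65382 (iv0 F317332)) (tt N41410 F316354) (tt N95567 (iv3 F408688)) (tt N92346 (iv4 F396788)) (tt N41380 F316355) (tt N40229 F333642) (tt N41414 F316356))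
theorem Q69064 : ∀ i, i < 69064 → P i := stepQ 69063 Q69063 (allL N69063 (tt N67848 (iv1 F212699)) (tt N37914 (iv0 D132522)) (tt N67847 (iv2 F437764)) (tt N103260 (iv3 F440847)) (tt N102582 (iv4 F437780)) (tt N104453 (iv5 F445827)) (tt N104662 D207858) (tt N67846 (iv7 F437765)))
theorem Q69065 : ∀ i, i < 69065 → P i := stepQ 69064 Q69064 (allL N69064 (tt N37914 (iv1 D132523)) (tt N67848 F212704) (tt N67846 F437759) (tt N104625 (iv3 F446593)) (tt N102578 (iv4 F437744)) (tt N104454 (iv5 F445833)) (tt N66092 F437760) (tt N67847 F437761))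
theorem Q69066 : ∀ i, i < 69066 → P i := stepQ 69065 Q69065 (allL N69065 (tt N67847 (iv1 F212705)) (tt N67846 F212703) (tt N37914 (iv2 D132524)) (tt N37924 F212700) (tt N66093 F212701) (tt N104663 D207859) (tt N104664 D207860) (tt N67848 F212702))
theorem Q69067 : ∀ i, i < 69067 → P i := stepQ 69066 Q69066 (allL N69066 (tt N103641 (iv1 F442341)) (tt N103644 (iv0 F442344)) (tt N104663 (iv2 F446755)) (tt N37915 F212706) (tt N104665 D207861) (tt N37914 (iv5 D132525)) (tt N103734 (iv6 F442622)) (tt N67849 F212707))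
theorem Q69068 : ∀ i, i < 69068 → P i := stepQ 69067 Q69067 (allL N69067 (tt N104666 D207862) (tt N104667 D207863) (tt N104664 (iv2 F446761)) (tt N37916 F212708) (tt N66095 F212709) (tt N68916 F361173) (tt N37914 (iv6 D132526)) (tt N68915 (iv7 F361167)))
theorem Q69069 : ∀ i, i < 69069 → P i := stepQ 69068 Q69068 (allL N69068 (tt N90100 (iv1 F441477)) (tt N104668 D207864) (tt N37927 F212710) (tt N103734 (iv3 F442620)) (tt N39315 F212711) (tt N103725 (iv5 F442595)) (tt N37915 (iv6 D132527)) (tt N103724 F442590))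
theorem Q69070 : ∀ i, i < 69070 → P i := stepQ 69069 Q69069 (allL N69069 (tt N37931 (iv1 F212716)) (tt N37916 (iv0 D132528)) (tt N37928 (iv2 F212714)) (tt N104636 (iv3 F446630)) (tt N38579 F212712) (tt N104669 D207865) (tt N37972 F212713) (tt N37929 (iv7 F212715)))
theorem Q69071 : ∀ i, i < 69071 → P i := stepQ 69070 Q69070 (allL N69070 (tt N37916 (iv1 D132529)) (tt N37931 F212717) (tt N37929 F212720) (tt N104362 (iv3 F445431)) (tt N39247 (iv4 F212719)) (tt N104670 D207866) (tt N104639 (iv6 F446648)) (tt N37928 F212718))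
theorem Q69072 : ∀ i, i < 69072 → P i := stepQ 69071 Q69071 (allL N69071 (tt N69005 F212722) (tt N92832 (iv0 F398421)) (tt N37930 F212721) (tt N68916 (iv3 F361174)) (tt N75145 F398423) (tt N37916 (iv5 D132530)) (tt N103725 (iv6 F442596)) (tt N68908 F361175))
theorem Q69073 : ∀ i, i < 69073 → P i := stepQ 69072 Q69072 (allL N69072 (tt N37929 (iv1 F212726)) (tt N37928 F212727) (tt N37931 F212723) (tt N68915 F361172) (tt N37919 F212724) (tt N68908 (iv5 F345874)) (tt N67854 F212725) (tt N37916 (iv7 D132531)))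
theorem Q69074 : ∀ i, i < 69074 → P i := stepQ 69073 Q69073 (allL N69073 (tt N71079 (iv1 F219408)) (tt N55837 (iv0 F212731)) (tt N37933 F212728) (tt N104671 D207867) (tt N37917 (iv4 D132532)) (tt N104672 D207868) (tt N37979 F212729) (tt N37936 F212730))
theorem Q69075 : ∀ i, i < 69075 → P i := stepQ 69074 Q69074 (allL N69074 (tt N41299 F212736) (tt N67518 (iv0 F212737)) (tt N37934 F212732) (tt N67320 F212733) (tt N104673 D207869) (tt N37917 (iv5 D132533)) (tt N65835 F212734) (tt N37937 F212735))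
theorem Q69076 : ∀ i, i < 69076 → P i := stepQ 69075 Q69075 (allL N69075 (tt N55837 F212740) (tt N71079 F219407) (tt N37936 F212738) (tt N75734 F347262) (tt N37918 (iv4 D132534)) (tt N104674 D207870) (tt N75733 (iv6 F347261)) (tt N37933 F212739))
theorem Q69077 : ∀ i, i < 69077 → P i := stepQ 69076 Q69076 (allL N69076 (tt N39251 (iv1 F212741)) (tt N37920 (iv0 D132535)) (tt N39250 F330452) (tt N102529 (iv3 F437527)) (tt N104675 D207871) (tt N103693 (iv5 F442507)) (tt N104676 D207872) (tt N39249 F330453))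
theorem Q69078 : ∀ i, i < 69078 → P i := stepQ 69077 Q69077 (allL N69077 (tt N37920 (iv1 D132536)) (tt N39251 (iv0 F212743)) (tt N39249 F330450) (tt N103393 F441419) (tt N56550 (iv4 F212742)) (tt N103694 (iv5 F442500)) (tt N98020 (iv6 F419192)) (tt N39250 F330451))
theorem Q69079 : ∀ i, i < 69079 → P i := stepQ 69078 Q69078 (allL N69078 (tt N39250 (iv1 F212748)) (tt N39249 F212747) (tt N37920 (iv2 D132537)) (tt N67858 F212744) (tt N56712 F212745) (tt N104515 (iv5 F446103)) (tt N93052 (iv6 F399288)) (tt N39251 F212746))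
theorem Q69080 : ∀ i, i < 69080 → P i := stepQ 69079 Q69079 (allL N69079 (tt N104677 D207873) (tt N103947 (iv0 F443480)) (tt N67860 F212752) (tt N104385 (iv3 F445530)) (tt N104678 D207874) (tt N37921 (iv5 D132539)) (tt N104520 (iv6 F446122)) (tt N67773 F212753))
theorem Q69081 : ∀ i, i < 69081 → P i := stepQ 69080 Q69080 (allL N69080 (tt N98716 F421990) (tt N94642 (iv0 F405331)) (tt N104679 D207875) (tt N37922 (iv3 D132540)) (tt N38512 F212755) (tt N104511 (iv5 F446088)) (tt N104680 D207876) (tt N67861 F212754))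
theorem Q69082 : ∀ i, i < 69082 → P i := stepQ 69081 Q69081 (allL N69081 (tt N38058 (iv1 F213180)) (tt N38033 (iv0 F213158)) (tt N37995 F212756) (tt N67934 F212759) (tt N37922 (iv4 D132541)) (tt N68585 F212758) (tt N104681 D207877) (tt N38057 F212757))
theorem Q69083 : ∀ i, i < 69083 → P i := stepQ 69082 Q69082 (allL N69082 (tt N104682 D207878) (tt N68048 F365933) (tt N67863 F212762) (tt N104680 (iv3 F446840)) (tt N104681 (iv4 F446845)) (tt N104683 D207879) (tt N37922 (iv6 D132542)) (tt N67775 F365931))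
theorem Q69084 : ∀ i, i < 69084 → P i := stepQ 69083 Q69083 (allL N69083 (tt N98634 (iv1 F421667)) (tt N102529 (iv0 F437526)) (tt N104684 D207880) (tt N37923 (iv3 D132543)) (tt N60968 (iv4 F325504)) (tt N104512 (iv5 F446091)) (tt N67776 F365772) (tt N67862 F212764))
theorem Q69085 : ∀ i, i < 69085 → P i := stepQ 69084 Q69084 (allL N69084 (tt N67867 (iv1 F212770)) (tt N67866 F212769) (tt N37925 F212767) (tt N104663 (iv3 F446756)) (tt N63976 (iv4 F352314)) (tt N37924 (iv5 D132545)) (tt N104685 D207881) (tt N67864 F212768))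
theorem Q69086 : ∀ i, i < 69086 → P i := stepQ 69085 Q69085 (allL N69085 (tt N103556 F442028) (tt N104686 D207882) (tt N37926 F212771) (tt N104664 (iv3 F446762)) (tt N37944 F212772) (tt N104687 D207883) (tt N37924 (iv6 D132546)) (tt N104688 D207884))
theorem Q69087 : ∀ i, i < 69087 → P i := stepQ 69086 Q69086 (allL N69086 (tt N75586 (iv1 F357332)) (tt N75573 F357330) (tt N63976 F352316) (tt N84049 (iv3 F367920)) (tt N37925 (iv4 D132547)) (tt N69616 (iv5 F215107)) (tt N104689 D207885) (tt N67868 F212773))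
theorem Q69088 : ∀ i, i < 69088 → P i := stepQ 69087 Q69087 (allL N69087 (tt N104690 D207886) (tt N98629 (iv0 F421648)) (tt N104685 (iv2 F446862)) (tt N37927 F212774) (tt N104689 (iv4 F446884)) (tt N104691 D207887) (tt N37925 (iv6 D132548)) (tt N104692 D207888))
theorem Q69089 : ∀ i, i < 69089 → P i := stepQ 69088 Q69088 (allL N69088 (tt N104688 (iv1 F446881)) (tt N37926 (iv0 D132549)) (tt N103556 (iv2 F442024)) (tt N104693 D207889) (tt N104694 D207890) (tt N103739 (iv5 F442634)) (tt N102441 F437251) (tt N104686 (iv7 F446865)))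
theorem Q69090 : ∀ i, i < 69090 → P i := stepQ 69089 Q69089 (allL N69089 (tt N37926 (iv1 D132550)) (tt N104688 F446880) (tt N104686 (iv2 F446867)) (tt N78914 F423591) (tt N104695 D207891) (tt N104696 D207892) (tt N78913 (iv6 F423590)) (tt N103556 (iv7 F442026)))
theorem Q69091 : ∀ i, i < 69091 → P i := stepQ 69090 Q69090 (allL N69090 (tt N103529 F441955) (tt N104697 D207893) (tt N104687 (iv2 F446869)) (tt N37930 F212775) (tt N104698 D207894) (tt N37926 (iv5 D132551)) (tt N104691 (iv6 F446888)) (tt N104699 D207895))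
theorem Q69092 : ∀ i, i < 69092 → P i := stepQ 69091 Q69091 (allL N69091 (tt N104686 (iv1 F446864)) (tt N103556 (iv0 F442027)) (tt N104688 (iv2 F446875)) (tt N37931 F212776) (tt N37948 F212777) (tt N104699 (iv5 F446915)) (tt N60007 (iv6 F326080)) (tt N37926 (iv7 D132552)))
theorem Q69093 : ∀ i, i < 69093 → P i := stepQ 69092 Q69092 (allL N69092 (tt N103724 F442591) (tt N37927 (iv0 D132553)) (tt N90100 (iv2 F388561)) (tt N98643 F441482) (tt N83092 F441481) (tt N104700 D207896) (tt N83091 (iv6 F441480)) (tt N104668 (iv7 F446787)))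
theorem Q69094 : ∀ i, i < 69094 → P i := stepQ 69093 Q69093 (allL N69093 (tt N37927 (iv1 D132554)) (tt N103724 F442592) (tt N104668 F446788) (tt N83094 (iv3 F388379)) (tt N104701 D207897) (tt N104702 D207898) (tt N104703 D207899) (tt N90100 (iv7 F388560)))
theorem Q69095 : ∀ i, i < 69095 → P i := stepQ 69094 Q69094 (allL N69094 (tt N103723 (iv1 F442584)) (tt N103722 F442597) (tt N103725 (iv2 F442593)) (tt N104691 (iv3 F446887)) (tt N104704 D207900) (tt N37927 (iv5 D132555)) (tt N37930 F212779) (tt N103716 (iv7 F442567)))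
theorem Q69096 : ∀ i, i < 69096 → P i := stepQ 69095 Q69095 (allL N69095 (tt N104668 (iv1 F446786)) (tt N90100 (iv0 F421643)) (tt N103724 (iv2 F442586)) (tt N104692 (iv3 F446892)) (tt N90090 F388536) (tt N103716 (iv5 F442566)) (tt N67880 F212780) (tt N37927 (iv7 D132556)))
theorem Q69097 : ∀ i, i < 69097 → P i := stepQ 69096 Q69096 (allL N69096 (tt N98017 (iv1 F419184)) (tt N98020 (iv0 F419193)) (tt N104705 D207901) (tt N37928 (iv3 D132557)) (tt N93038 (iv4 F399228)) (tt N98560 (iv5 F421336)) (tt N102564 (iv6 F437679)) (tt N104362 (iv7 F445433)))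
theorem Q69098 : ∀ i, i < 69098 → P i := stepQ 69097 Q69097 (allL N69097 (tt N104612 (iv1 F446537)) (tt N104573 (iv0 F446345)) (tt N104669 (iv2 F446790)) (tt N98560 F421339) (tt N88941 (iv4 F421340)) (tt N37928 (iv5 D132558)) (tt N104706 D207902) (tt N104670 (iv7 F446797)))
theorem Q69099 : ∀ i, i < 69099 → P i := stepQ 69098 Q69098 (allL N69098 (tt N84993 F422068) (tt N84943 (iv0 F422069)) (tt N104707 D207903) (tt N37929 (iv3 D132559)) (tt N98732 (iv4 F422064)) (tt N104708 D207904) (tt N104709 D207905) (tt N104636 F446632))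
theorem Q69100 : ∀ i, i < 69100 → P i := stepQ 69099 Q69099 (allL N69099 (tt N104573 (iv1 F446346)) (tt N104612 (iv0 F446536)) (tt N104670 (iv2 F446795)) (tt N104708 (iv3 F446941)) (tt N88942 F446538) (tt N37929 (iv5 D132560)) (tt N104710 D207906) (tt N104669 (iv7 F446792)))
theorem Q69101 : ∀ i, i < 69101 → P i := stepQ 69100 Q69100 (allL N69100 (tt N66517 F421985) (tt N102631 F437952) (tt N104639 (iv2 F446643)) (tt N104709 (iv3 F446942)) (tt N98714 (iv4 F421980)) (tt N102547 (iv5 F437598)) (tt N37929 (iv6 D132561)) (tt N102563 (iv7 F437674)))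
theorem Q69102 : ∀ i, i < 69102 → P i := stepQ 69101 Q69101 (allL N69101 (tt N37930 (iv1 D132562)) (tt N68908 F361177) (tt N92832 (iv2 F398419)) (tt N104711 D207907) (tt N104712 D207908) (tt N69006 F212782) (tt N92866 (iv6 F398576)) (tt N69005 F212781))
theorem Q69103 : ∀ i, i < 69103 → P i := stepQ 69102 Q69102 (allL N69102 (tt N75049 F365823) (tt N75147 F365824) (tt N75145 (iv2 F398424)) (tt N62426 F397026) (tt N37930 (iv4 D132563)) (tt N62425 (iv5 F397025)) (tt N104704 (iv6 F446928)) (tt N75144 F396491))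
theorem Q69104 : ∀ i, i < 69104 → P i := stepQ 69103 Q69103 (allL N69103 (tt N92832 (iv1 F398422)) (tt N69005 (iv0 F212784)) (tt N68908 (iv2 F361176)) (tt N104699 (iv3 F446914)) (tt N75144 (iv4 F396490)) (tt N37931 F212783) (tt N68904 F361178) (tt N37930 (iv7 D132564)))
theorem Q69105 : ∀ i, i < 69105 → P i := stepQ 69104 Q69104 (allL N69104 (tt N97967 (iv1 F419007)) (tt N71808 F390639) (tt N93031 (iv2 F399180)) (tt N37934 F212785) (tt N104713 D207909) (tt N37932 (iv5 D132565)) (tt N65852 F212786) (tt N92522 (iv7 F397228)))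
theorem Q69106 : ∀ i, i < 69106 → P i := stepQ 69105 Q69105 (allL N69105 (tt N37936 (iv1 F212788)) (tt N37933 (iv0 D132566)) (tt N71079 (iv2 F219405)) (tt N104714 D207910) (tt N61672 F212787) (tt N103498 (iv5 F441866)) (tt N67889 (iv6 F212790)) (tt N55837 F212789))
theorem Q69107 : ∀ i, i < 69107 → P i := stepQ 69106 Q69106 (allL N69106 (tt N104715 D207911) (tt N104440 (iv0 F445779)) (tt N104716 D207912) (tt N37933 (iv3 D132567)) (tt N70633 (iv4 F217988)) (tt N104717 D207913) (tt N102569 (iv6 F437702)) (tt N75734 (iv7 F347263)))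
theorem Q69108 : ∀ i, i < 69108 → P i := stepQ 69107 Q69107 (allL N69107 (tt N104608 (iv1 F446519)) (tt N104606 (iv0 F446508)) (tt N104672 (iv2 F446807)) (tt N104717 (iv3 F446972)) (tt N104718 D207914) (tt N37933 (iv5 D132568)) (tt N104719 D207915) (tt N104674 (iv7 F446819)))
theorem Q69109 : ∀ i, i < 69109 → P i := stepQ 69108 Q69108 (allL N69108 (tt N102734 F438414) (tt N92426 F396983) (tt N104673 (iv2 F446812)) (tt N104720 D207916) (tt N37934 (iv4 D132569)) (tt N104721 D207917) (tt N65856 F212791) (tt N92524 F397235))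
theorem Q69110 : ∀ i, i < 69110 → P i := stepQ 69109 Q69109 (allL N69109 (tt N101139 (iv1 F431890)) (tt N70224 (iv0 F217034)) (tt N67321 F212796) (tt N37937 F212797) (tt N82011 F344446) (tt N37935 (iv5 D132571)) (tt N41075 F212799) (tt N67320 F212798))
theorem Q69111 : ∀ i, i < 69111 → P i := stepQ 69110 Q69110 (allL N69110 (tt N95940 F410361) (tt N67503 (iv0 F228697)) (tt N60889 (iv2 F336152)) (tt N37938 F212801) (tt N100821 (iv4 F430629)) (tt N74731 (iv5 F228691)) (tt N37935 (iv6 D132572)) (tt N93046 (iv7 F399257)))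
theorem Q69112 : ∀ i, i < 69112 → P i := stepQ 69111 Q69111 (allL N69111 (tt N92279 F421597) (tt N104722 D207918) (tt N103665 (iv2 F442419)) (tt N37936 (iv3 D132573)) (tt N100820 (iv4 F430624)) (tt N68886 F347259) (tt N68888 (iv6 F347260)) (tt N104671 (iv7 F446802)))
theorem Q69113 : ∀ i, i < 69113 → P i := stepQ 69112 Q69112 (allL N69112 (tt N104606 (iv1 F446509)) (tt N104608 (iv0 F446518)) (tt N104674 (iv2 F446817)) (tt N68886 (iv3 F347258)) (tt N104723 D207919) (tt N37936 (iv5 D132574)) (tt N68884 F347257) (tt N104672 (iv7 F446809)))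
theorem Q69114 : ∀ i, i < 69114 → P i := stepQ 69113 Q69113 (allL N69113 (tt N104724 D207920) (tt N73303 F228701) (tt N75733 F347255) (tt N68888 F347256) (tt N37938 F212802) (tt N68885 (iv5 F347254)) (tt N37936 (iv6 D132575)) (tt N102568 (iv7 F437697)))
theorem Q69115 : ∀ i, i < 69115 → P i := stepQ 69114 Q69114 (allL N69114 (tt N92426 F396982) (tt N102734 (iv0 F438412)) (tt N92524 (iv2 F397233)) (tt N74727 (iv3 F351855)) (tt N37937 (iv4 D132576)) (tt N104725 D207921) (tt N57634 F212803) (tt N104673 (iv7 F446814)))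
theorem Q69116 : ∀ i, i < 69116 → P i := stepQ 69115 Q69115 (allL N69115 (tt N37939 (iv1 D132578)) (tt N37942 F212805) (tt N67895 (iv2 F213174)) (tt N67657 (iv3 F213143)) (tt N69175 (iv4 F213142)) (tt N103746 (iv5 F442653)) (tt N104726 D207922) (tt N67896 F213177))
theorem Q69117 : ∀ i, i < 69117 → P i := stepQ 69116 Q69116 (allL N69116 (tt N104580 (iv1 F446386)) (tt N104582 (iv0 F446400)) (tt N67899 F212808) (tt N90058 F388446) (tt N100612 F429707) (tt N37939 (iv5 D132580)) (tt N104727 D207923) (tt N67897 F212809))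
theorem Q69118 : ∀ i, i < 69118 → P i := stepQ 69117 Q69117 (allL N69117 (tt N103931 (iv1 F443424)) (tt N104728 D207924) (tt N67900 F212810) (tt N102620 (iv3 F437926)) (tt N37940 F212811) (tt N104729 D207925) (tt N37939 (iv6 D132581)) (tt N67814 F365971))
theorem Q69119 : ∀ i, i < 69119 → P i := stepQ 69118 Q69118 (allL N69118 (tt N37983 F326066) (tt N37940 (iv0 D132582)) (tt N38108 F337574) (tt N67815 (iv3 F350875)) (tt N104682 (iv4 F446850)) (tt N68469 F337662) (tt N102840 (iv6 F438887)) (tt N67815 (iv7 F350876)))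
theorem Q69120 : ∀ i, i < 69120 → P i := stepQ 69119 Q69119 (allL N69119 (tt N67381 (iv1 F212822)) (tt N55838 (iv0 F212821)) (tt N66129 F366063) (tt N37942 (iv3 D132587)) (tt N103379 (iv4 F441362)) (tt N98660 F421772) (tt N66113 (iv6 F366066)) (tt N67384 F212820))
theorem Q69121 : ∀ i, i < 69121 → P i := stepQ 69120 Q69120 (allL N69120 (tt N104582 (iv1 F446401)) (tt N104580 (iv0 F446385)) (tt N67897 F212823) (tt N98660 (iv3 F421773)) (tt N100611 (iv4 F429699)) (tt N37942 (iv5 D132588)) (tt N92281 (iv6 F396568)) (tt N67899 F212824))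
theorem Q69122 : ∀ i, i < 69122 → P i := stepQ 69121 Q69121 (allL N69121 (tt N37948 (iv1 F212840)) (tt N37944 (iv0 D132594)) (tt N37945 F348903) (tt N70479 (iv3 F354293)) (tt N103877 (iv4 F443183)) (tt N104730 D207926) (tt N37988 F348905) (tt N37946 F348904))
theorem Q69123 : ∀ i, i < 69123 → P i := stepQ 69122 Q69122 (allL N69122 (tt N37944 (iv1 D132595)) (tt N37948 F212834) (tt N37946 F348901) (tt N49241 F354296) (tt N104731 D207927) (tt N82207 F347852) (tt N82209 (iv6 F351325)) (tt N37945 F348902))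
theorem Q69124 : ∀ i, i < 69124 → P i := stepQ 69123 Q69123 (allL N69123 (tt N52502 F336920) (tt N60001 (iv0 F348908)) (tt N37947 F212835) (tt N67819 F212836) (tt N58516 (iv4 F348890)) (tt N37944 (iv5 D132596)) (tt N69619 (iv6 F215114)) (tt N58512 F348889))
theorem Q69125 : ∀ i, i < 69125 → P i := stepQ 69124 Q69124 (allL N69124 (tt N37946 (iv1 F212841)) (tt N37945 F212842) (tt N37948 F212837) (tt N67820 F212838) (tt N104688 (iv4 F446877)) (tt N58512 (iv5 F348891)) (tt N59973 (iv6 F326077)) (tt N37944 (iv7 D132597)))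
theorem Q69126 : ∀ i, i < 69126 → P i := stepQ 69125 Q69125 (allL N69125 (tt N104732 D207928) (tt N104726 (iv0 F447003)) (tt N103877 (iv2 F443181)) (tt N86913 (iv3 F377686)) (tt N37945 (iv4 D132600)) (tt N104733 D207929) (tt N103830 F443002) (tt N104731 (iv7 F447028)))
theorem Q69127 : ∀ i, i < 69127 → P i := stepQ 69126 Q69126 (allL N69126 (tt N104656 F446726) (tt N103012 (iv0 F439667)) (tt N104730 (iv2 F447020)) (tt N82742 F354319) (tt N104734 D207930) (tt N37945 (iv5 D132601)) (tt N46274 F348894) (tt N82207 (iv7 F348900)))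
theorem Q69128 : ∀ i, i < 69128 → P i := stepQ 69127 Q69127 (allL N69127 (tt N37985 F348895) (tt N37989 F348896) (tt N37988 F348897) (tt N70506 (iv3 F366461)) (tt N103830 (iv4 F442998)) (tt N48352 F348898) (tt N37945 (iv6 D132602)) (tt N37987 F348899))
theorem Q69129 : ∀ i, i < 69129 → P i := stepQ 69128 Q69128 (allL N69128 (tt N67431 (iv1 F354301)) (tt N70482 F354302) (tt N70480 (iv2 F354298)) (tt N37946 (iv3 D132604)) (tt N65121 (iv4 F354299)) (tt N65112 (iv5 F354300)) (tt N102648 (iv6 F438042)) (tt N70479 F354297))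
theorem Q69130 : ∀ i, i < 69130 → P i := stepQ 69129 Q69129 (allL N69129 (tt N104726 (iv1 F447004)) (tt N104732 F447030) (tt N104731 (iv2 F447026)) (tt N97006 (iv3 F414996)) (tt N37946 (iv4 D132605)) (tt N104735 D207931) (tt N102717 (iv6 F438344)) (tt N103877 F443184))
theorem Q69131 : ∀ i, i < 69131 → P i := stepQ 69130 Q69130 (allL N69130 (tt N103012 F439668) (tt N104656 (iv0 F446725)) (tt N82207 (iv2 F351361)) (tt N65112 F354317) (tt N87890 (iv4 F380983)) (tt N37946 (iv5 D132606)) (tt N82198 F351360) (tt N104730 (iv7 F447023)))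
theorem Q69132 : ∀ i, i < 69132 → P i := stepQ 69131 Q69131 (allL N69131 (tt N66518 F359980) (tt N102840 F438889) (tt N82209 (iv2 F359999)) (tt N102648 (iv3 F438041)) (tt N102717 F438343) (tt N65874 (iv5 F350852)) (tt N37946 (iv6 D132607)) (tt N99173 (iv7 F423576)))
theorem Q69133 : ∀ i, i < 69133 → P i := stepQ 69132 Q69132 (allL N69132 (tt N37947 (iv1 D132609)) (tt N58512 F348892) (tt N60001 (iv2 F348924)) (tt N74990 F348925) (tt N52506 (iv4 F348928)) (tt N69051 F348926) (tt N77183 (iv6 F348929)) (tt N52502 F348927))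
theorem Q69134 : ∀ i, i < 69134 → P i := stepQ 69133 Q69133 (allL N69133 (tt N38544 F363247) (tt N39826 F363248) (tt N102662 (iv2 F438114)) (tt N38503 F212882) (tt N37952 (iv4 D132626)) (tt N104736 D207932) (tt N39816 F362702) (tt N67836 F212883))
theorem Q69135 : ∀ i, i < 69135 → P i := stepQ 69134 Q69134 (allL N69134 (tt N38614 F212895) (tt N81504 F340125) (tt N81503 (iv2 F340123)) (tt N37953 (iv3 D132631)) (tt N56152 (iv4 F334130)) (tt N41209 F325881) (tt N41212 F325882) (tt N64040 (iv7 F314430)))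
theorem Q69136 : ∀ i, i < 69136 → P i := stepQ 69135 Q69135 (allL N69135 (tt N63652 F311296) (tt N63517 (iv0 F312465)) (tt N63654 (iv2 F312461)) (tt N51814 (iv3 F334071)) (tt N37955 F212907) (tt N40249 F212908) (tt N44098 F311298) (tt N37954 (iv7 D132636)))
theorem Q69137 : ∀ i, i < 69137 → P i := stepQ 69136 Q69136 (allL N69136 (tt N67436 (iv1 F341957)) (tt N67427 (iv0 F337859)) (tt N65127 (iv2 F341755)) (tt N37956 (iv3 D132638)) (tt N37958 F212913) (tt N65093 F341955) (tt N67914 F212914) (tt N65124 (iv7 F341954)))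
theorem Q69138 : ∀ i, i < 69138 → P i := stepQ 69137 Q69137 (allL N69137 (tt N60768 (iv1 F358169)) (tt N60764 (iv0 F358174)) (tt N60765 (iv2 F358207)) (tt N65093 F358171) (tt N80814 F358172) (tt N37956 (iv5 D132639)) (tt N65735 (iv6 F358170)) (tt N60766 (iv7 F358215)))
theorem Q69139 : ∀ i, i < 69139 → P i := stepQ 69138 Q69138 (allL N69138 (tt N91594 (iv1 F393734)) (tt N92531 (iv0 F397270)) (tt N67351 F212918) (tt N104737 D207933) (tt N37957 (iv4 D132640)) (tt N74153 (iv5 F226861)) (tt N65862 F212919) (tt N67353 F212920))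
theorem Q69140 : ∀ i, i < 69140 → P i := stepQ 69139 Q69139 (allL N69139 (tt N75351 F354305) (tt N82564 F354311) (tt N65107 (iv2 F341964)) (tt N37959 F212928) (tt N65090 F341963) (tt N37958 (iv5 D132644)) (tt N46208 F321878) (tt N65109 (iv7 F341962)))
theorem Q69141 : ∀ i, i < 69141 → P i := stepQ 69140 Q69140 (allL N69140 (tt N63193 F313662) (tt N40819 F322333) (tt N63776 F348143) (tt N37960 (iv3 D132647)) (tt N104737 (iv4 F447045)) (tt N72707 (iv5 F222977)) (tt N65863 F212934) (tt N41047 F212935))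
theorem Q69142 : ∀ i, i < 69142 → P i := stepQ 69141 Q69141 (allL N69141 (tt N37961 (iv1 D132649)) (tt N38053 (iv0 F338388)) (tt N38055 F338385) (tt N104738 D207934) (tt N102892 (iv4 F439148)) (tt N43775 F361986) (tt N38069 F338386) (tt N38036 F338387))
theorem Q69143 : ∀ i, i < 69143 → P i := stepQ 69142 Q69142 (allL N69142 (tt N38036 F336586) (tt N38055 F336587) (tt N37961 (iv2 D132650)) (tt N67844 F212937) (tt N102371 (iv4 F436952)) (tt N104739 D207935) (tt N66360 (iv6 F336588)) (tt N38053 (iv7 F338390)))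
theorem Q69144 : ∀ i, i < 69144 → P i := stepQ 69143 Q69143 (allL N69143 (tt N104569 F446322) (tt N104571 (iv0 F446334)) (tt N104739 (iv2 F447057)) (tt N37962 F212942) (tt N84477 (iv4 F369455)) (tt N37961 (iv5 D132651)) (tt N64016 F361987) (tt N67841 F212943))
theorem Q69145 : ∀ i, i < 69145 → P i := stepQ 69144 Q69144 (allL N69144 (tt N66221 F336302) (tt N66358 (iv0 F350808)) (tt N66360 F336589) (tt N37963 F212944) (tt N102370 (iv4 F436946)) (tt N65328 (iv5 F322390)) (tt N37961 (iv6 D132652)) (tt N66361 (iv7 F336593)))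
theorem Q69146 : ∀ i, i < 69146 → P i := stepQ 69145 Q69145 (allL N69145 (tt N103947 (iv1 F443481)) (tt N104677 F446831) (tt N67773 F212951) (tt N70707 (iv3 F218148)) (tt N104740 D207936) (tt N37964 (iv5 D132655)) (tt N70707 (iv6 F218149)) (tt N67860 F212952))
theorem Q69147 : ∀ i, i < 69147 → P i := stepQ 69146 Q69146 (allL N69146 (tt N66084 F212954) (tt N102536 (iv0 F437553)) (tt N70348 (iv2 F217259)) (tt N37965 (iv3 D132656)) (tt N70165 F216847) (tt N66092 F216363) (tt N67861 (iv6 F347105)) (tt N67774 F212953))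
theorem Q69148 : ∀ i, i < 69148 → P i := stepQ 69147 Q69147 (allL N69147 (tt N104741 D207937) (tt N70582 (iv0 F217901)) (tt N78945 F327789) (tt N37966 (iv3 D132658)) (tt N42364 F327790) (tt N68749 F212958) (tt N92616 F397659) (tt N67776 F212959))
theorem Q69149 : ∀ i, i < 69149 → P i := stepQ 69148 Q69148 (allL N69148 (tt N68048 F347022) (tt N104682 F446852) (tt N67775 F212961) (tt N92616 F397658) (tt N44784 F319893) (tt N104742 D207938) (tt N37966 (iv6 D132659)) (tt N67863 F365932))
theorem Q69150 : ∀ i, i < 69150 → P i := stepQ 69149 Q69149 (allL N69149 (tt N67780 (iv1 F212968)) (tt N67779 (iv0 F212966)) (tt N37968 F212963) (tt N102554 (iv3 F437632)) (tt N69786 (iv4 F216150)) (tt N37967 (iv5 D132660)) (tt N69029 (iv6 F361807)) (tt N67777 F212964))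
theorem Q69151 : ∀ i, i < 69151 → P i := stepQ 69150 Q69150 (allL N69150 (tt N67520 F212982) (tt N69787 F216153) (tt N69786 F216151) (tt N70623 (iv3 F217976)) (tt N37968 (iv4 D132662)) (tt N44867 F336980) (tt N73830 F347275) (tt N67781 F212981))
theorem Q69152 : ∀ i, i < 69152 → P i := stepQ 69151 Q69151 (allL N69151 (tt N69027 (iv1 F345904)) (tt N69026 (iv0 F347279)) (tt N69029 F345902) (tt N37970 F212983) (tt N73830 (iv4 F347242)) (tt N66161 F345903) (tt N37968 (iv6 D132663)) (tt N66160 (iv7 F345901)))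
theorem Q69153 : ∀ i, i < 69153 → P i := stepQ 69152 Q69152 (allL N69152 (tt N102561 (iv1 F437665)) (tt N37970 (iv0 D132668)) (tt N102545 (iv2 F437591)) (tt N78905 (iv3 F347278)) (tt N70655 F347277) (tt N104743 D207939) (tt N104744 D207940) (tt N102559 (iv7 F437650)))
theorem Q69154 : ∀ i, i < 69154 → P i := stepQ 69153 Q69153 (allL N69153 (tt N103642 (iv1 F442343)) (tt N104641 (iv0 F446653)) (tt N102560 (iv2 F437654)) (tt N66161 (iv3 F345898)) (tt N103515 (iv4 F441908)) (tt N37970 (iv5 D132670)) (tt N37973 F212988) (tt N66157 F345893))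
theorem Q69155 : ∀ i, i < 69155 → P i := stepQ 69154 Q69154 (allL N69154 (tt N102559 (iv1 F437649)) (tt N102545 (iv0 F437614)) (tt N102561 (iv2 F437659)) (tt N66160 F345900) (tt N70632 (iv4 F217984)) (tt N66157 (iv5 F345899)) (tt N67790 F212989) (tt N37970 (iv7 D132671)))
theorem Q69156 : ∀ i, i < 69156 → P i := stepQ 69155 Q69155 (allL N69155 (tt N104745 D207941) (tt N70585 (iv0 F384038)) (tt N104634 (iv2 F446622)) (tt N37971 (iv3 D132672)) (tt N67365 F212990) (tt N104540 (iv5 F446186)) (tt N92613 (iv6 F397651)) (tt N102564 (iv7 F437680)))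
theorem Q69157 : ∀ i, i < 69157 → P i := stepQ 69156 Q69156 (allL N69156 (tt N102631 F437953) (tt N66517 (iv0 F217257)) (tt N102563 (iv2 F437672)) (tt N92613 F397649) (tt N70346 (iv4 F217252)) (tt N102548 (iv5 F437605)) (tt N37971 (iv6 D132673)) (tt N104639 (iv7 F446645)))
theorem Q69158 : ∀ i, i < 69158 → P i := stepQ 69157 Q69157 (allL N69157 (tt N102433 (iv1 F437213)) (tt N37973 (iv0 D132675)) (tt N68920 (iv2 F212992)) (tt N104746 D207942) (tt N103616 (iv4 F442253)) (tt N68862 F212991) (tt N104747 D207943) (tt N68918 (iv7 F212993)))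
theorem Q69159 : ∀ i, i < 69159 → P i := stepQ 69158 Q69158 (allL N69158 (tt N37973 (iv1 D132676)) (tt N102433 (iv0 F437211)) (tt N68918 (iv2 F212996)) (tt N82962 (iv3 F366039)) (tt N103611 (iv4 F442241)) (tt N68210 F212995) (tt N103543 (iv6 F441991)) (tt N68920 F212994))
theorem Q69160 : ∀ i, i < 69160 → P i := stepQ 69159 Q69159 (allL N69159 (tt N103545 (iv1 F441998)) (tt N103543 (iv0 F441993)) (tt N67872 (iv2 F345895)) (tt N68864 F345896) (tt N37973 (iv4 D132677)) (tt N67865 F345897) (tt N103515 (iv6 F441909)) (tt N68860 F345892))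
theorem Q69161 : ∀ i, i < 69161 → P i := stepQ 69160 Q69160 (allL N69160 (tt N104748 D207944) (tt N66127 F365589) (tt N75737 F365590) (tt N37976 (iv3 D132680)) (tt N45184 F365591) (tt N104749 D207945) (tt N45183 F365592) (tt N102569 (iv7 F437703)))
theorem Q69162 : ∀ i, i < 69162 → P i := stepQ 69161 Q69161 (allL N69161 (tt N104546 (iv1 F446213)) (tt N71074 (iv0 F219391)) (tt N102567 (iv2 F437690)) (tt N104749 (iv3 F447099)) (tt N104544 (iv4 F446200)) (tt N37976 (iv5 D132681)) (tt N104750 D207946) (tt N102570 (iv7 F437709)))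
theorem Q69163 : ∀ i, i < 69163 → P i := stepQ 69162 Q69162 (allL N69162 (tt N73303 (iv1 F224327)) (tt N104724 F446996) (tt N102568 (iv2 F437694)) (tt N45183 F328661) (tt N37977 F213008) (tt N71952 F328662) (tt N37976 (iv6 D132682)) (tt N75733 F328663))
theorem Q69164 : ∀ i, i < 69164 → P i := stepQ 69163 Q69163 (allL N69163 (tt N102602 (iv1 F437880)) (tt N102607 (iv0 F437879)) (tt N102605 (iv2 F444400)) (tt N37979 (iv3 D132683)) (tt N69906 (iv4 F216313)) (tt N104751 D207947) (tt N104671 (iv6 F446801)) (tt N102566 (iv7 F437686)))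
theorem Q69165 : ∀ i, i < 69165 → P i := stepQ 69164 Q69164 (allL N69164 (tt N71074 (iv1 F219392)) (tt N104546 (iv0 F446212)) (tt N102570 (iv2 F437707)) (tt N104751 (iv3 F447105)) (tt N104545 (iv4 F446207)) (tt N37979 (iv5 D132684)) (tt N104752 D207948) (tt N102567 (iv7 F437691)))
theorem Q69166 : ∀ i, i < 69166 → P i := stepQ 69165 Q69165 (allL N69165 (tt N104416 (iv1 F445661)) (tt N70551 (iv0 F347125)) (tt N81058 F320707) (tt N37983 F213017) (tt N69248 (iv4 F213556)) (tt N46880 F320708) (tt N37981 (iv6 D132690)) (tt N67898 F354045))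
theorem Q69167 : ∀ i, i < 69167 → P i := stepQ 69166 Q69166 (allL N69166 (tt N104728 (iv1 F447011)) (tt N103931 (iv0 F443423)) (tt N67814 F213018) (tt N102571 (iv3 F437712)) (tt N37983 F213019) (tt N104753 D207949) (tt N37982 (iv6 D132691)) (tt N67900 F365970))
theorem Q69168 : ∀ i, i < 69168 → P i := stepQ 69167 Q69167 (allL N69167 (tt N37989 (iv1 F213040)) (tt N37985 (iv0 D132698)) (tt N37987 F325950) (tt N102819 (iv3 F438791)) (tt N103793 (iv4 F442841)) (tt N48353 F324967) (tt N99173 (iv6 F423575)) (tt N37988 F325951))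
theorem Q69169 : ∀ i, i < 69169 → P i := stepQ 69168 Q69168 (allL N69168 (tt N70508 (iv1 F366376)) (tt N70499 F366468) (tt N70505 F366466) (tt N37987 (iv3 D132711)) (tt N86916 (iv4 F377695)) (tt N64079 F326012) (tt N104754 D207950) (tt N70506 (iv7 F366465)))
theorem Q69170 : ∀ i, i < 69170 → P i := stepQ 69169 Q69169 (allL N69169 (tt N102840 (iv1 F438888)) (tt N66518 (iv0 F359760)) (tt N99173 (iv2 F423573)) (tt N104754 (iv3 F447110)) (tt N102716 (iv4 F438341)) (tt N65873 F351373) (tt N37987 (iv6 D132714)) (tt N82209 (iv7 F351374)))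
theorem Q69171 : ∀ i, i < 69171 → P i := stepQ 69170 Q69170 (allL N69170 (tt N104397 F445591) (tt N102847 (iv0 F438921)) (tt N104407 (iv2 F445635)) (tt N37988 (iv3 D132716)) (tt N69286 (iv4 F341947)) (tt N64082 F326014) (tt N70479 F354292) (tt N102819 (iv7 F438793)))
theorem Q69172 : ∀ i, i < 69172 → P i := stepQ 69171 Q69171 (allL N69171 (tt N38067 (iv1 F338365)) (tt N37991 (iv0 D132739)) (tt N38069 F338359) (tt N82628 F338360) (tt N78405 F338361) (tt N46163 F338362) (tt N38055 F338363) (tt N38056 F338364))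
theorem Q69173 : ∀ i, i < 69173 → P i := stepQ 69172 Q69172 (allL N69172 (tt N38069 (iv1 F338310)) (tt N38056 F338307) (tt N37991 (iv2 D132741)) (tt N67913 F213110) (tt N104378 (iv4 F445499)) (tt N46157 F324232) (tt N104755 D207951) (tt N38067 F338371))
theorem Q69174 : ∀ i, i < 69174 → P i := stepQ 69173 Q69173 (allL N69173 (tt N68029 (iv1 F393010)) (tt N91404 (iv0 F393004)) (tt N104755 (iv2 F447115)) (tt N37992 F213117) (tt N102843 (iv4 F438898)) (tt N66552 (iv5 F322389)) (tt N37991 (iv6 D132743)) (tt N67845 F213118))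
theorem Q69175 : ∀ i, i < 69175 → P i := stepQ 69174 Q69174 (allL N69174 (tt N67437 (iv1 F365893)) (tt N49600 (iv0 F365892)) (tt N67443 (iv2 F361228)) (tt N37993 (iv3 D132745)) (tt N37994 F213122) (tt N98573 (iv5 F421372)) (tt N67838 F213123) (tt N67369 F213124))
theorem Q69176 : ∀ i, i < 69176 → P i := stepQ 69175 Q69175 (allL N69175 (tt N37995 (iv1 D132752)) (tt N38057 F213139) (tt N38033 (iv2 F213144)) (tt N38038 (iv3 F213146)) (tt N69115 F213142) (tt N80863 F341988) (tt N104756 D207952) (tt N38058 F213140))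
theorem Q69177 : ∀ i, i < 69177 → P i := stepQ 69176 Q69176 (allL N69176 (tt N38075 (iv1 F213620)) (tt N68586 (iv0 F217652)) (tt N68585 F213186) (tt N37997 F213187) (tt N67757 F213189) (tt N37995 (iv5 D132753)) (tt N44756 F321675) (tt N67930 F213188))
theorem Q69178 : ∀ i, i < 69178 → P i := stepQ 69177 Q69177 (allL N69177 (tt N68030 F347045) (tt N104224 (iv0 F444792)) (tt N104681 (iv2 F446843)) (tt N37998 F213190) (tt N67863 F213191) (tt N44785 F321680) (tt N37995 (iv6 D132754)) (tt N44784 F321681))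
theorem Q69179 : ∀ i, i < 69179 → P i := stepQ 69178 Q69178 (allL N69178 (tt N37996 (iv1 D132755)) (tt N38000 F213192) (tt N67931 F213195) (tt N39068 F213196) (tt N67430 (iv4 F213194)) (tt N85048 (iv5 F371454)) (tt N104757 D207953) (tt N39074 F213193))
theorem Q69180 : ∀ i, i < 69180 → P i := stepQ 69179 Q69179 (allL N69179 (tt N39000 F213199) (tt N70683 F218104) (tt N70663 (iv2 F218064)) (tt N37996 (iv3 D132756)) (tt N67862 F213197) (tt N38981 (iv5 F213200)) (tt N97902 F418726) (tt N60968 (iv7 F325505)))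
theorem Q69181 : ∀ i, i < 69181 → P i := stepQ 69180 Q69180 (allL N69180 (tt N70796 F218435) (tt N70799 F218450) (tt N67935 F213205) (tt N38981 F213206) (tt N104386 (iv4 F445534)) (tt N37996 (iv5 D132757)) (tt N55407 (iv6 F364193)) (tt N60964 (iv7 F326353)))
theorem Q69182 : ∀ i, i < 69182 → P i := stepQ 69181 Q69181 (allL N69181 (tt N85059 F371491) (tt N104758 D207954) (tt N67936 F213208) (tt N97902 F418725) (tt N37998 F213209) (tt N84735 (iv5 F370412)) (tt N37996 (iv6 D132758)) (tt N44797 F321682))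
theorem Q69183 : ∀ i, i < 69183 → P i := stepQ 69182 Q69182 (allL N69182 (tt N53706 (iv1 F338853)) (tt N55353 F316605) (tt N52820 F321676) (tt N64294 (iv3 F323357)) (tt N37997 (iv4 D132759)) (tt N101471 (iv5 F433062)) (tt N44757 F321677) (tt N67932 F213211))
theorem Q69184 : ∀ i, i < 69184 → P i := stepQ 69183 Q69183 (allL N69183 (tt N38020 (iv1 F322816)) (tt N37998 (iv0 D132761)) (tt N38104 F321102) (tt N44796 F321103) (tt N60779 F337563) (tt N47486 F321104) (tt N60778 (iv6 F337549)) (tt N44796 F321106))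
theorem Q69185 : ∀ i, i < 69185 → P i := stepQ 69184 Q69184 (allL N69184 (tt N38600 F213222) (tt N38610 (iv0 F213223)) (tt N38606 F213220) (tt N70661 (iv3 F218058)) (tt N37999 (iv4 D132765)) (tt N62837 (iv5 F359671)) (tt N67915 (iv6 F359672)) (tt N38605 F213221))
theorem Q69186 : ∀ i, i < 69186 → P i := stepQ 69185 Q69185 (allL N69185 (tt N44788 F315474) (tt N38370 F213228) (tt N67965 F213224) (tt N38001 F213225) (tt N80339 F315475) (tt N37999 (iv5 D132766)) (tt N100533 F429370) (tt N52819 (iv7 F321375)))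
theorem Q69187 : ∀ i, i < 69187 → P i := stepQ 69186 Q69186 (allL N69186 (tt N70799 (iv1 F218451)) (tt N70796 F218436) (tt N60964 (iv2 F326352)) (tt N70662 (iv3 F218062)) (tt N104759 D207955) (tt N38000 (iv5 D132768)) (tt N47479 F324702) (tt N67935 F213232))
theorem Q69188 : ∀ i, i < 69188 → P i := stepQ 69187 Q69187 (allL N69187 (tt N55353 F316607) (tt N53706 (iv0 F338852)) (tt N67932 F213236) (tt N53745 F316608) (tt N38001 (iv4 D132770)) (tt N101766 (iv5 F434253)) (tt N80917 F357442) (tt N52820 (iv7 F321378)))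
theorem Q69189 : ∀ i, i < 69189 → P i := stepQ 69188 Q69188 (allL N69188 (tt N38098 (iv1 F213855)) (tt N44808 (iv0 F314794)) (tt N44807 (iv2 F316723)) (tt N100533 F429369) (tt N80917 F314804) (tt N44681 F314805) (tt N38001 (iv6 D132771)) (tt N44680 (iv7 F316721)))
theorem Q69190 : ∀ i, i < 69190 → P i := stepQ 69189 Q69189 (allL N69189 (tt N91046 F391743) (tt N55699 F362103) (tt N38007 F213247) (tt N70621 (iv3 F217975)) (tt N38003 F213248) (tt N104760 D207956) (tt N38002 (iv6 D132776)) (tt N91035 (iv7 F391688)))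
theorem Q69191 : ∀ i, i < 69191 → P i := stepQ 69190 Q69190 (allL N69190 (tt N38012 (iv1 F213261)) (tt N38003 (iv0 D132779)) (tt N38009 F342152) (tt N67972 F365522) (tt N83676 (iv4 F342154)) (tt N104761 D207957) (tt N38028 F342150) (tt N38010 F342153))
theorem Q69192 : ∀ i, i < 69192 → P i := stepQ 69191 Q69191 (allL N69191 (tt N38003 (iv1 D132780)) (tt N38012 F213255) (tt N38010 F363183) (tt N104695 (iv3 F446902)) (tt N78912 (iv4 F330898)) (tt N104762 D207958) (tt N71774 F330897) (tt N38009 F363184))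
theorem Q69193 : ∀ i, i < 69193 → P i := stepQ 69192 Q69192 (allL N69192 (tt N92132 F395891) (tt N85047 F371453) (tt N104159 (iv2 F444472)) (tt N102555 (iv3 F437637)) (tt N38006 (iv4 D132785)) (tt N64835 (iv5 F366658)) (tt N104763 D207959) (tt N67945 F213268))
theorem Q69194 : ∀ i, i < 69194 → P i := stepQ 69193 Q69193 (allL N69193 (tt N104173 (iv1 F444533)) (tt N69525 (iv0 F355687)) (tt N104160 (iv2 F444478)) (tt N38839 F213269) (tt N104763 (iv4 F447158)) (tt N96688 F413466) (tt N38006 (iv6 D132786)) (tt N104172 F444529))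
theorem Q69195 : ∀ i, i < 69195 → P i := stepQ 69194 Q69194 (allL N69194 (tt N91035 (iv1 F391691)) (tt N38007 (iv0 D132787)) (tt N91046 (iv2 F391738)) (tt N55703 (iv3 F391693)) (tt N103809 (iv4 F442917)) (tt N104764 D207960) (tt N60785 (iv6 F391694)) (tt N55699 F391692))
theorem Q69196 : ∀ i, i < 69196 → P i := stepQ 69195 Q69195 (allL N69195 (tt N38007 (iv1 D132788)) (tt N91035 F391690) (tt N55699 F366123) (tt N60725 F366124) (tt N103805 (iv4 F442897)) (tt N104765 D207961) (tt N55697 (iv6 F366122)) (tt N91046 (iv7 F391741)))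
theorem Q69197 : ∀ i, i < 69197 → P i := stepQ 69196 Q69196 (allL N69196 (tt N104074 (iv1 F444047)) (tt N104766 D207962) (tt N104760 (iv2 F447145)) (tt N38842 F213270) (tt N104767 D207963) (tt N38007 (iv5 D132789)) (tt N96688 (iv6 F413468)) (tt N104768 D207964))
theorem Q69198 : ∀ i, i < 69198 → P i := stepQ 69197 Q69197 (allL N69197 (tt N55699 F362102) (tt N91046 F391744) (tt N91035 (iv2 F391686)) (tt N38843 F213271) (tt N38012 F213272) (tt N104768 (iv5 F447176)) (tt N67949 F213273) (tt N38007 (iv7 D132790)))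
theorem Q69199 : ∀ i, i < 69199 → P i := stepQ 69198 Q69198 (allL N69198 (tt N53258 (iv1 F357926)) (tt N64834 (iv0 F366656)) (tt N64498 (iv2 F366657)) (tt N38296 F213281) (tt N104769 D207965) (tt N38008 (iv5 D132793)) (tt N104770 D207966) (tt N64832 (iv7 F315062)))
theorem Q69200 : ∀ i, i < 69200 → P i := stepQ 69199 Q69199 (allL N69199 (tt N104738 (iv1 F447055)) (tt N104756 (iv0 F447124)) (tt N104694 (iv2 F446896)) (tt N38009 (iv3 D132800)) (tt N103556 (iv4 F442025)) (tt N104771 D207967) (tt N64147 (iv6 F364317)) (tt N104695 (iv7 F446904)))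
theorem Q69201 : ∀ i, i < 69201 → P i := stepQ 69200 Q69200 (allL N69200 (tt N102846 F438916) (tt N104757 (iv0 F447129)) (tt N83676 F342155) (tt N78916 (iv3 F363186)) (tt N38009 (iv4 D132801)) (tt N86048 (iv5 F375004)) (tt N83653 (iv6 F363187)) (tt N78912 F363185))
theorem Q69202 : ∀ i, i < 69202 → P i := stepQ 69201 Q69201 (allL N69201 (tt N85787 F373937) (tt N104572 (iv0 F446341)) (tt N104761 (iv2 F447147)) (tt N104771 (iv3 F447187)) (tt N81364 F364316) (tt N38009 (iv5 D132802)) (tt N65163 (iv6 F364315)) (tt N104762 (iv7 F447155)))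
theorem Q69203 : ∀ i, i < 69203 → P i := stepQ 69202 Q69202 (allL N69202 (tt N38022 F336067) (tt N38030 F336068) (tt N38028 F336069) (tt N64147 F336070) (tt N83653 F336071) (tt N64146 F336072) (tt N38009 (iv6 D132803)) (tt N38027 F336073))
theorem Q69204 : ∀ i, i < 69204 → P i := stepQ 69203 Q69203 (allL N69203 (tt N67967 (iv1 F394443)) (tt N67975 (iv0 F394442)) (tt N67973 (iv2 F394436)) (tt N38010 (iv3 D132805)) (tt N91791 F394439) (tt N104772 D207968) (tt N66321 (iv6 F362706)) (tt N67972 (iv7 F365524)))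
theorem Q69205 : ∀ i, i < 69205 → P i := stepQ 69204 Q69204 (allL N69204 (tt N104757 F447130) (tt N102846 (iv0 F438915)) (tt N78912 F342161) (tt N78955 (iv3 F342160)) (tt N38010 (iv4 D132806)) (tt N85078 (iv5 F371559)) (tt N78881 F342162) (tt N83676 F342156))
theorem Q69206 : ∀ i, i < 69206 → P i := stepQ 69205 Q69205 (allL N69205 (tt N104572 F446342) (tt N85787 F373936) (tt N104762 (iv2 F447153)) (tt N104772 (iv3 F447191)) (tt N75401 (iv4 F356063)) (tt N38010 (iv5 D132807)) (tt N81428 F344783) (tt N104761 (iv7 F447150)))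
theorem Q69207 : ∀ i, i < 69207 → P i := stepQ 69206 Q69206 (allL N69206 (tt N60781 F342169) (tt N60778 F342170) (tt N71774 F342166) (tt N66321 F362703) (tt N78881 (iv4 F342165)) (tt N66553 F342167) (tt N38010 (iv6 D132808)) (tt N71771 F342168))
theorem Q69208 : ∀ i, i < 69208 → P i := stepQ 69207 Q69207 (allL N69207 (tt N38011 (iv1 D132810)) (tt N80665 F336066) (tt N80666 F336057) (tt N100664 (iv3 F429904)) (tt N80537 (iv4 F336059)) (tt N69553 (iv5 F336056)) (tt N80537 (iv6 F336060)) (tt N64290 F336058))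
theorem Q69209 : ∀ i, i < 69209 → P i := stepQ 69208 Q69208 (allL N69208 (tt N45642 F344834) (tt N45653 F344835) (tt N45651 F342206) (tt N75258 F344836) (tt N38011 (iv4 D132811)) (tt N104773 D207969) (tt N75256 F344837) (tt N45650 F342207))
theorem Q69210 : ∀ i, i < 69210 → P i := stepQ 69209 Q69209 (allL N69209 (tt N80666 (iv1 F330964)) (tt N64290 (iv0 F334635)) (tt N80665 (iv2 F336062)) (tt N38015 F213295) (tt N45650 F342203) (tt N38012 F213296) (tt N95823 (iv6 F409816)) (tt N38011 (iv7 D132812)))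
theorem Q69211 : ∀ i, i < 69211 → P i := stepQ 69210 Q69210 (allL N69210 (tt N38054 F213319) (tt N43775 F339658) (tt N101696 (iv2 F433912)) (tt N38014 (iv3 D132822)) (tt N63660 (iv4 F342783)) (tt N68950 F213317) (tt N101237 (iv6 F432351)) (tt N67926 F213318))
theorem Q69212 : ∀ i, i < 69212 → P i := stepQ 69211 Q69211 (allL N69211 (tt N48514 F314913) (tt N41687 F314914) (tt N67927 F213320) (tt N101237 F432350) (tt N42417 F314915) (tt N42334 (iv5 F317160)) (tt N38014 (iv6 D132823)) (tt N74747 F314916))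
theorem Q69213 : ∀ i, i < 69213 → P i := stepQ 69212 Q69212 (allL N69212 (tt N59937 F317750) (tt N48066 F317751) (tt N67929 F213330) (tt N95823 F409813) (tt N48244 F317752) (tt N45814 (iv5 F321783)) (tt N38015 (iv6 D132827)) (tt N65403 F319957))
theorem Q69214 : ∀ i, i < 69214 → P i := stepQ 69213 Q69213 (allL N69213 (tt N38037 (iv1 F213372)) (tt N38018 (iv0 D132840)) (tt N38042 (iv2 F213371)) (tt N38058 F213369) (tt N38807 F213370) (tt N80870 F354623) (tt N104774 D207970) (tt N38038 F213373))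
theorem Q69215 : ∀ i, i < 69215 → P i := stepQ 69214 Q69214 (allL N69214 (tt N38042 (iv1 F213377)) (tt N38038 F213376) (tt N38018 (iv2 D132841)) (tt N44779 F315467) (tt N70349 (iv4 F217261)) (tt N44717 F315468) (tt N66365 (iv6 F347079)) (tt N38037 F213375))
theorem Q69216 : ∀ i, i < 69216 → P i := stepQ 69215 Q69215 (allL N69215 (tt N66229 (iv1 F347019)) (tt N66366 F347113) (tt N66365 (iv2 F347075)) (tt N38020 F213382) (tt N39475 (iv4 F339480)) (tt N44718 F317542) (tt N38018 (iv6 D132843)) (tt N66364 (iv7 F347088)))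
theorem Q69217 : ∀ i, i < 69217 → P i := stepQ 69216 Q69216 (allL N69216 (tt N104758 (iv1 F447131)) (tt N85059 (iv0 F371490)) (tt N44797 (iv2 F318975)) (tt N92140 (iv3 F395928)) (tt N38020 F213386) (tt N84736 F370420) (tt N38019 (iv6 D132845)) (tt N67936 (iv7 F339467)))
theorem Q69218 : ∀ i, i < 69218 → P i := stepQ 69217 Q69217 (allL N69217 (tt N38030 (iv1 F213415)) (tt N38022 (iv0 D132856)) (tt N38027 F333820) (tt N104775 D207971) (tt N83654 F347566) (tt N47803 F333821) (tt N71771 F345848) (tt N38028 F333822))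
theorem Q69219 : ∀ i, i < 69219 → P i := stepQ 69218 Q69218 (allL N69218 (tt N69406 (iv1 F334668)) (tt N46345 F323702) (tt N38029 F213410) (tt N67940 F213411) (tt N83567 F323703) (tt N38022 (iv5 D132858)) (tt N46671 F317536) (tt N79835 F323704))
theorem Q69220 : ∀ i, i < 69220 → P i := stepQ 69219 Q69219 (allL N69219 (tt N85943 F374538) (tt N60793 F342943) (tt N67355 (iv2 F213420)) (tt N38023 (iv3 D132860)) (tt N67176 F213418) (tt N61082 F347551) (tt N67942 F342930) (tt N56276 (iv7 F332638)))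
theorem Q69221 : ∀ i, i < 69221 → P i := stepQ 69220 Q69220 (allL N69220 (tt N74450 F347617) (tt N85963 (iv0 F374641)) (tt N92634 (iv2 F397702)) (tt N38024 (iv3 D132863)) (tt N66210 (iv4 F326071)) (tt N79071 F347613) (tt N75062 (iv6 F361691)) (tt N66207 (iv7 F326069)))
theorem Q69222 : ∀ i, i < 69222 → P i := stepQ 69221 Q69221 (allL N69221 (tt N68047 (iv1 F337572)) (tt N60779 (iv0 F337567)) (tt N56274 (iv2 F339451)) (tt N75062 F361692) (tt N47095 (iv4 F319783)) (tt N85811 (iv5 F374059)) (tt N38024 (iv6 D132865)) (tt N67944 F339460))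
theorem Q69223 : ∀ i, i < 69223 → P i := stepQ 69222 Q69222 (allL N69222 (tt N75233 (iv1 F342094)) (tt N74428 F342093) (tt N47514 F317560) (tt N38856 F213437) (tt N47011 F317561) (tt N86693 (iv5 F376820)) (tt N38025 (iv6 D132867)) (tt N50077 F342082))
theorem Q69224 : ∀ i, i < 69224 → P i := stepQ 69223 Q69223 (allL N69223 (tt N86688 (iv1 F376799)) (tt N86687 F376803) (tt N86689 (iv2 F376800)) (tt N38859 F213438) (tt N104776 D207972) (tt N38026 (iv5 D132870)) (tt N86693 (iv6 F376821)) (tt N85952 (iv7 F374589)))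
theorem Q69225 : ∀ i, i < 69225 → P i := stepQ 69224 Q69224 (allL N69224 (tt N68006 (iv1 F359610)) (tt N67999 (iv0 F359606)) (tt N64142 F334328) (tt N38027 (iv3 D132880)) (tt N102442 (iv4 F437255)) (tt N45911 F334329) (tt N66310 F359608) (tt N64147 F334330))
theorem Q69226 : ∀ i, i < 69226 → P i := stepQ 69225 Q69225 (allL N69225 (tt N60643 F337539) (tt N38149 F337540) (tt N47803 F333818) (tt N45911 F337541) (tt N97639 (iv4 F417727)) (tt N38027 (iv5 D132882)) (tt N47799 F333819) (tt N64146 F337542))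
theorem Q69227 : ∀ i, i < 69227 → P i := stepQ 69226 Q69226 (allL N69226 (tt N60778 F324722) (tt N60781 F324723) (tt N71771 F324724) (tt N66310 F324725) (tt N42373 F324726) (tt N66381 F324727) (tt N38027 (iv6 D132883)) (tt N71774 F324728))
theorem Q69228 : ∀ i, i < 69228 → P i := stepQ 69227 Q69227 (allL N69227 (tt N104774 F447204) (tt N82628 F363997) (tt N104777 D207973) (tt N38028 (iv3 D132885)) (tt N49585 (iv4 F363996)) (tt N104778 D207974) (tt N67972 (iv6 F365523)) (tt N104775 (iv7 F447209)))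
theorem Q69229 : ∀ i, i < 69229 → P i := stepQ 69228 Q69228 (allL N69228 (tt N38149 F337545) (tt N60643 F337546) (tt N64146 F337547) (tt N104778 (iv3 F447219)) (tt N104779 D207975) (tt N38028 (iv5 D132887)) (tt N81991 F333815) (tt N47803 F333816))
theorem Q69230 : ∀ i, i < 69230 → P i := stepQ 69229 Q69229 (allL N69229 (tt N79835 F323705) (tt N38029 (iv0 D132889)) (tt N69406 (iv2 F334669)) (tt N45921 F323706) (tt N104780 D207976) (tt N69400 F345857) (tt N47435 F317562) (tt N46345 F323707))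
theorem Q69231 : ∀ i, i < 69231 → P i := stepQ 69230 Q69230 (allL N69230 (tt N68034 (iv1 F213492)) (tt N68033 F213493) (tt N38086 F213488) (tt N67960 F213489) (tt N44739 F305915) (tt N38032 (iv5 D132905)) (tt N44736 F305916) (tt N67960 F213491))
theorem Q69232 : ∀ i, i < 69232 → P i := stepQ 69231 Q69231 (allL N69231 (tt N69620 (iv1 F215123)) (tt N67950 (iv0 F213498)) (tt N80863 F354615) (tt N38035 F213494) (tt N48423 F311197) (tt N38033 (iv5 D132906)) (tt N63822 (iv6 F213497)) (tt N38060 F213495))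
theorem Q69233 : ∀ i, i < 69233 → P i := stepQ 69232 Q69232 (allL N69232 (tt N104694 (iv1 F446899)) (tt N104695 (iv0 F446905)) (tt N104756 (iv2 F447121)) (tt N38036 F213502) (tt N103880 (iv4 F443197)) (tt N88096 (iv5 F381792)) (tt N38033 (iv6 D132907)) (tt N104738 (iv7 F447053)))
theorem Q69234 : ∀ i, i < 69234 → P i := stepQ 69233 Q69233 (allL N69233 (tt N104376 (iv1 F445493)) (tt N82821 F347532) (tt N38046 F213503) (tt N56715 F213504) (tt N84668 (iv4 F370124)) (tt N38034 (iv5 D132908)) (tt N93050 (iv6 F399275)) (tt N38063 F213505))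
theorem Q69235 : ∀ i, i < 69235 → P i := stepQ 69234 Q69234 (allL N69234 (tt N102893 (iv1 F439153)) (tt N102888 F439123) (tt N38047 F213506) (tt N56716 F213507) (tt N38036 F213508) (tt N60965 F365926) (tt N38034 (iv6 D132909)) (tt N102892 (iv7 F439143)))
theorem Q69236 : ∀ i, i < 69236 → P i := stepQ 69235 Q69235 (allL N69235 (tt N81534 F337632) (tt N81535 F348714) (tt N38050 F213509) (tt N68472 F213510) (tt N38035 (iv4 D132910)) (tt N95805 (iv5 F409742)) (tt N68468 (iv6 F213512)) (tt N38065 F213511))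
theorem Q69237 : ∀ i, i < 69237 → P i := stepQ 69236 Q69236 (allL N69236 (tt N67922 F213518) (tt N80845 (iv0 F342050)) (tt N38051 F213513) (tt N63822 F213514) (tt N68468 F213515) (tt N100148 (iv5 F427699)) (tt N38035 (iv6 D132911)) (tt N68454 (iv7 F213516)))
theorem Q69238 : ∀ i, i < 69238 → P i := stepQ 69237 Q69237 (allL N69237 (tt N67926 F213521) (tt N101696 (iv0 F433916)) (tt N38054 F213520) (tt N88096 (iv3 F381789)) (tt N43608 F354984) (tt N38036 (iv5 D132914)) (tt N100148 (iv6 F427700)) (tt N43775 F339660))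
theorem Q69239 : ∀ i, i < 69239 → P i := stepQ 69238 Q69238 (allL N69238 (tt N38072 F213530) (tt N44719 (iv0 F317689)) (tt N44720 F315434) (tt N44780 F315435) (tt N70524 F217630) (tt N38037 (iv5 D132916)) (tt N100305 (iv6 F428349)) (tt N44717 F315436))
theorem Q69240 : ∀ i, i < 69240 → P i := stepQ 69239 Q69239 (allL N69239 (tt N104781 D207977) (tt N56356 (iv0 F338462)) (tt N38041 F213536) (tt N104756 (iv3 F447122)) (tt N38806 F213537) (tt N79908 (iv5 F338581)) (tt N38038 (iv6 D132919)) (tt N72115 (iv7 F338559)))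
theorem Q69241 : ∀ i, i < 69241 → P i := stepQ 69240 Q69240 (allL N69240 (tt N82762 F337802) (tt N82761 F337803) (tt N82763 F337804) (tt N38039 (iv3 D132920)) (tt N38045 F213538) (tt N82885 (iv5 F364104)) (tt N43666 F337805) (tt N38808 F213539))
theorem Q69242 : ∀ i, i < 69242 → P i := stepQ 69241 Q69241 (allL N69241 (tt N67618 F213542) (tt N104096 (iv0 F444159)) (tt N38805 F213540) (tt N82885 F337792) (tt N104782 D207978) (tt N38039 (iv5 D132921)) (tt N48174 F337793) (tt N38809 F213541))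
theorem Q69243 : ∀ i, i < 69243 → P i := stepQ 69242 Q69242 (allL N69242 (tt N72115 (iv1 F342190)) (tt N38041 (iv0 D132928)) (tt N104781 F447238) (tt N49235 F338549) (tt N70490 F338550) (tt N86112 (iv5 F375143)) (tt N67958 (iv6 F342187)) (tt N56356 (iv7 F342189)))
theorem Q69244 : ∀ i, i < 69244 → P i := stepQ 69243 Q69243 (allL N69243 (tt N38041 (iv1 D132929)) (tt N72115 F338562) (tt N56356 F338563) (tt N104783 D207979) (tt N39471 F338564) (tt N57793 F338565) (tt N38649 F338566) (tt N104781 (iv7 F447240)))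
theorem Q69245 : ∀ i, i < 69245 → P i := stepQ 69244 Q69244 (allL N69244 (tt N56356 (iv1 F346155)) (tt N104781 F447239) (tt N72115 F338560) (tt N38055 F213552) (tt N42540 F338590) (tt N79907 F338589) (tt N82628 F338591) (tt N38041 (iv7 D132931)))
theorem Q69246 : ∀ i, i < 69246 → P i := stepQ 69245 Q69245 (allL N69245 (tt N104775 F447210) (tt N104777 F447217) (tt N104774 (iv2 F447199)) (tt N38056 F213553) (tt N38810 F213554) (tt N100670 (iv5 F429936)) (tt N38042 (iv6 D132932)) (tt N82628 F337816))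
theorem Q69247 : ∀ i, i < 69247 → P i := stepQ 69246 Q69246 (allL N69246 (tt N93185 (iv1 F399860)) (tt N56472 F363070) (tt N93032 (iv2 F399187)) (tt N38043 (iv3 D132933)) (tt N66176 F213555) (tt N79893 (iv5 F363068)) (tt N97816 (iv6 F418406)) (tt N93183 (iv7 F399844)))
theorem Q69248 : ∀ i, i < 69248 → P i := stepQ 69247 Q69247 (allL N69247 (tt N94010 F402815) (tt N88236 (iv0 F382295)) (tt N93068 (iv2 F399350)) (tt N79893 F363069) (tt N104784 D207980) (tt N38043 (iv5 D132934)) (tt N88319 F382572) (tt N100523 (iv7 F429318)))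
theorem Q69249 : ∀ i, i < 69249 → P i := stepQ 69248 Q69248 (allL N69248 (tt N68031 (iv1 F347124)) (tt N68027 (iv0 F337579)) (tt N60944 F359270) (tt N97816 (iv3 F418405)) (tt N69165 F213556) (tt N93060 (iv5 F399331)) (tt N38043 (iv6 D132935)) (tt N67979 (iv7 F354046)))
theorem Q69250 : ∀ i, i < 69250 → P i := stepQ 69249 Q69249 (allL N69249 (tt N88236 F382296) (tt N94010 (iv0 F402813)) (tt N100523 (iv2 F429314)) (tt N92956 (iv3 F398910)) (tt N104785 D207981) (tt N38044 (iv5 D132936)) (tt N102354 (iv6 F436870)) (tt N93068 F399353))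
theorem Q69251 : ∀ i, i < 69251 → P i := stepQ 69250 Q69250 (allL N69250 (tt N38045 (iv1 D132938)) (tt N56717 F213560) (tt N70334 (iv2 F355040)) (tt N93202 F399951) (tt N59457 (iv4 F213557)) (tt N104400 (iv5 F445604)) (tt N67981 (iv6 F354706)) (tt N70331 (iv7 F355031)))
theorem Q69252 : ∀ i, i < 69252 → P i := stepQ 69251 Q69251 (allL N69251 (tt N70331 (iv1 F217215)) (tt N70334 F217220) (tt N38045 (iv2 D132939)) (tt N56713 F213558) (tt N82763 (iv4 F362904)) (tt N85690 (iv5 F373544)) (tt N82980 F362903) (tt N56717 (iv7 F213559)))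
theorem Q69253 : ∀ i, i < 69253 → P i := stepQ 69252 Q69252 (allL N69252 (tt N85689 (iv1 F373533)) (tt N85688 F373541) (tt N85690 (iv2 F373542)) (tt N38046 F213561) (tt N85685 (iv4 F373510)) (tt N38045 (iv5 D132940)) (tt N79705 (iv6 F359033)) (tt N50671 F359027))
theorem Q69254 : ∀ i, i < 69254 → P i := stepQ 69253 Q69253 (allL N69253 (tt N82979 F362885) (tt N82978 (iv0 F362901)) (tt N82980 (iv2 F362899)) (tt N38047 F213562) (tt N43666 F362900) (tt N92766 (iv5 F398133)) (tt N38045 (iv6 D132941)) (tt N78406 F362898))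
theorem Q69255 : ∀ i, i < 69255 → P i := stepQ 69254 Q69254 (allL N69254 (tt N70334 F217218) (tt N70331 (iv0 F217214)) (tt N56717 F213563) (tt N38048 F213564) (tt N38808 F213565) (tt N50671 (iv5 F359026)) (tt N48292 F337800) (tt N38045 (iv7 D132942)))
theorem Q69256 : ∀ i, i < 69256 → P i := stepQ 69255 Q69255 (allL N69255 (tt N38063 (iv1 F213572)) (tt N38046 (iv0 D132943)) (tt N104376 (iv2 F445487)) (tt N56470 (iv3 F361705)) (tt N104786 D207982) (tt N67627 F213573) (tt N88328 (iv6 F382605)) (tt N82821 F361704))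
theorem Q69257 : ∀ i, i < 69257 → P i := stepQ 69256 Q69256 (allL N69256 (tt N38046 (iv1 D132944)) (tt N38063 F213567) (tt N82821 F347519) (tt N68657 (iv3 F213569)) (tt N52690 F347520) (tt N68656 F213568) (tt N52352 (iv6 F347518)) (tt N104376 (iv7 F445490)))
theorem Q69258 : ∀ i, i < 69258 → P i := stepQ 69257 Q69257 (allL N69257 (tt N82821 F347529) (tt N104376 (iv0 F445491)) (tt N38063 F213570) (tt N50671 F347527) (tt N84669 F370134) (tt N38048 F213571) (tt N50670 (iv6 F347526)) (tt N38046 (iv7 D132947)))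
theorem Q69259 : ∀ i, i < 69259 → P i := stepQ 69258 Q69258 (allL N69258 (tt N102892 (iv1 F439142)) (tt N38047 (iv0 D132948)) (tt N102893 (iv2 F439149)) (tt N67500 (iv3 F400127)) (tt N70048 F394693) (tt N86929 (iv5 F394695)) (tt N68009 (iv6 F394694)) (tt N102888 (iv7 F439121)))
theorem Q69260 : ∀ i, i < 69260 → P i := stepQ 69259 Q69259 (allL N69259 (tt N102888 F439122) (tt N102893 F439152) (tt N102892 (iv2 F439146)) (tt N78406 (iv3 F338592)) (tt N38055 F213575) (tt N67410 F347513) (tt N78405 (iv6 F338342)) (tt N38047 (iv7 D132951)))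
theorem Q69261 : ∀ i, i < 69261 → P i := stepQ 69260 Q69260 (allL N69260 (tt N104787 D207983) (tt N101709 (iv0 F433990)) (tt N38064 F213576) (tt N48292 F338318) (tt N38056 F213577) (tt N48291 F338319) (tt N38048 (iv6 D132952)) (tt N78405 F338320))
theorem Q69262 : ∀ i, i < 69262 → P i := stepQ 69261 Q69261 (allL N69261 (tt N38065 (iv1 F213582)) (tt N38050 (iv0 D132955)) (tt N81534 F320100) (tt N48039 F320101) (tt N47193 F320102) (tt N87809 (iv5 F380602)) (tt N47191 F320103) (tt N81535 F320104))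
theorem Q69263 : ∀ i, i < 69263 → P i := stepQ 69262 Q69262 (allL N69262 (tt N38050 (iv1 D132956)) (tt N38065 F213584) (tt N81535 F348712) (tt N68484 (iv3 F333010)) (tt N70046 F216512) (tt N102277 (iv5 F436509)) (tt N46807 F320107) (tt N81534 F342036))
theorem Q69264 : ∀ i, i < 69264 → P i := stepQ 69263 Q69263 (allL N69263 (tt N76745 F362188) (tt N104788 D207984) (tt N95805 (iv2 F409740)) (tt N46838 F315981) (tt N84702 (iv4 F370272)) (tt N38050 (iv5 D132958)) (tt N82466 F362187) (tt N88912 (iv7 F384513)))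
theorem Q69265 : ∀ i, i < 69265 → P i := stepQ 69264 Q69264 (allL N69264 (tt N47578 (iv1 F315824)) (tt N44740 (iv0 F315825)) (tt N68468 F213587) (tt N46839 (iv3 F317268)) (tt N38051 F213589) (tt N103448 (iv5 F441679)) (tt N38050 (iv6 D132959)) (tt N68465 (iv7 F213590)))
theorem Q69266 : ∀ i, i < 69266 → P i := stepQ 69265 Q69265 (allL N69265 (tt N68454 (iv1 F213599)) (tt N38051 (iv0 D132961)) (tt N67922 (iv2 F213595)) (tt N67993 F342052) (tt N79726 F342053) (tt N66961 (iv5 F347338)) (tt N100487 (iv6 F429129)) (tt N80845 (iv7 F342051)))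
theorem Q69267 : ∀ i, i < 69267 → P i := stepQ 69266 Q69266 (allL N69266 (tt N104789 D207985) (tt N80163 (iv0 F361709)) (tt N100148 (iv2 F427698)) (tt N79914 F338574) (tt N43780 F339656) (tt N38051 (iv5 D132962)) (tt N38054 F213596) (tt N80871 (iv7 F338575)))
theorem Q69268 : ∀ i, i < 69268 → P i := stepQ 69267 Q69267 (allL N69267 (tt N79752 (iv1 F334239)) (tt N66753 (iv0 F334237)) (tt N38066 F213601) (tt N80877 (iv3 F348179)) (tt N88913 (iv4 F384517)) (tt N80398 (iv5 F341644)) (tt N38052 (iv6 D132964)) (tt N79759 (iv7 F341889)))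
theorem Q69269 : ∀ i, i < 69269 → P i := stepQ 69268 Q69268 (allL N69268 (tt N104571 (iv1 F446335)) (tt N104569 (iv0 F446320)) (tt N67841 (iv2 F338395)) (tt N65107 (iv3 F341965)) (tt N84468 (iv4 F369416)) (tt N38053 (iv5 D132968)) (tt N75452 F338394) (tt N104739 (iv7 F447060)))
theorem Q69270 : ∀ i, i < 69270 → P i := stepQ 69269 Q69269 (allL N69269 (tt N101696 F433917) (tt N67926 (iv0 F355076)) (tt N43775 F339662) (tt N79907 F338587) (tt N43607 (iv4 F354974)) (tt N38055 F213607) (tt N102949 F439393) (tt N38054 (iv7 D132977)))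
theorem Q69271 : ∀ i, i < 69271 → P i := stepQ 69270 Q69270 (allL N69270 (tt N68586 F217651) (tt N38075 F213619) (tt N67930 F213615) (tt N67965 F213616) (tt N67756 F213618) (tt N38057 (iv5 D132982)) (tt N69576 (iv6 F214918)) (tt N68585 F213617))
theorem Q69272 : ∀ i, i < 69272 → P i := stepQ 69271 Q69271 (allL N69271 (tt N67950 F213625) (tt N69620 (iv0 F215121)) (tt N38060 F213624) (tt N80870 (iv3 F354620)) (tt N48424 F315978) (tt N38058 (iv5 D132984)) (tt N95784 (iv6 F409627)) (tt N80863 (iv7 F354616)))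
theorem Q69273 : ∀ i, i < 69273 → P i := stepQ 69272 Q69272 (allL N69272 (tt N65885 (iv1 F351657)) (tt N65882 (iv0 F351656)) (tt N38061 F213626) (tt N104774 (iv3 F447200)) (tt N103881 (iv4 F443202)) (tt N60009 F351655) (tt N38058 (iv6 D132985)) (tt N95828 (iv7 F409836)))
theorem Q69274 : ∀ i, i < 69274 → P i := stepQ 69273 Q69273 (allL N69273 (tt N104380 (iv1 F445510)) (tt N104357 (iv0 F445414)) (tt N56718 F213627) (tt N38059 (iv3 D132986)) (tt N38062 F213628) (tt N104790 D207986) (tt N104791 D207987) (tt N56714 F213629))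
theorem Q69275 : ∀ i, i < 69275 → P i := stepQ 69274 Q69274 (allL N69274 (tt N67749 F213630) (tt N67743 F213631) (tt N88901 (iv2 F384485)) (tt N104790 (iv3 F447290)) (tt N88899 (iv4 F384480)) (tt N38059 (iv5 D132987)) (tt N104792 D207988) (tt N103879 (iv7 F443193)))
theorem Q69276 : ∀ i, i < 69276 → P i := stepQ 69275 Q69275 (allL N69275 (tt N96987 (iv1 F414936)) (tt N96985 (iv0 F414931)) (tt N103881 (iv2 F443200)) (tt N104791 (iv3 F447293)) (tt N38061 F213634) (tt N102592 (iv5 F437830)) (tt N38059 (iv6 D132988)) (tt N103883 (iv7 F443208)))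
theorem Q69277 : ∀ i, i < 69277 → P i := stepQ 69276 Q69276 (allL N69276 (tt N48422 F307934) (tt N48131 (iv0 F309905)) (tt N48424 F311200) (tt N68445 F213638) (tt N38060 (iv4 D132989)) (tt N68481 (iv5 F213639)) (tt N68457 (iv6 F213640)) (tt N48423 F311201))
theorem Q69278 : ∀ i, i < 69278 → P i := stepQ 69277 Q69277 (allL N69277 (tt N42273 F319527) (tt N96492 F412747) (tt N95784 (iv2 F409624)) (tt N38066 F213642) (tt N68457 F213643) (tt N60070 F351646) (tt N38060 (iv6 D132990)) (tt N60480 (iv7 F341897)))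
theorem Q69279 : ∀ i, i < 69279 → P i := stepQ 69278 Q69278 (allL N69278 (tt N95828 (iv1 F409838)) (tt N38061 (iv0 D132991)) (tt N65885 (iv2 F351683)) (tt N66319 F351685) (tt N67870 (iv4 F351694)) (tt N58191 F351650) (tt N66318 (iv6 F351686)) (tt N65882 (iv7 F351684)))
theorem Q69280 : ∀ i, i < 69280 → P i := stepQ 69279 Q69279 (allL N69279 (tt N38061 (iv1 D132992)) (tt N95828 (iv0 F409837)) (tt N65882 F351680) (tt N67918 F351681) (tt N67871 F351693) (tt N58190 (iv5 F351677)) (tt N67916 (iv6 F351692)) (tt N65885 F351682))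
theorem Q69281 : ∀ i, i < 69281 → P i := stepQ 69280 Q69280 (allL N69280 (tt N59975 (iv1 F351654)) (tt N59974 (iv0 F351649)) (tt N60009 (iv2 F351653)) (tt N38068 F213645) (tt N55621 F351651) (tt N38061 (iv5 D132993)) (tt N60070 (iv6 F351647)) (tt N55619 F338313))
theorem Q69282 : ∀ i, i < 69282 → P i := stepQ 69281 Q69281 (allL N69281 (tt N65882 (iv1 F351658)) (tt N65885 (iv0 F351660)) (tt N95828 (iv2 F409835)) (tt N38069 F213646) (tt N103883 (iv4 F443206)) (tt N55619 F351659) (tt N104738 (iv6 F447052)) (tt N38061 (iv7 D132994)))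
theorem Q69283 : ∀ i, i < 69283 → P i := stepQ 69282 Q69282 (allL N69282 (tt N104351 (iv1 F445381)) (tt N68627 (iv0 F361707)) (tt N56719 F213647) (tt N38063 F213648) (tt N104793 D207989) (tt N38062 (iv5 D132995)) (tt N85687 (iv6 F373526)) (tt N56715 F213649))
theorem Q69284 : ∀ i, i < 69284 → P i := stepQ 69283 Q69283 (allL N69283 (tt N83011 (iv1 F359011)) (tt N83010 F359005) (tt N56720 F213650) (tt N38064 F213651) (tt N104791 (iv4 F447294)) (tt N82758 (iv5 F359000)) (tt N38062 (iv6 D132996)) (tt N83012 (iv7 F359004)))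
theorem Q69285 : ∀ i, i < 69285 → P i := stepQ 69284 Q69284 (allL N69284 (tt N79695 F347524) (tt N79694 F347525) (tt N50670 F347522) (tt N85687 (iv3 F373524)) (tt N84703 (iv4 F370275)) (tt N50669 (iv5 F347521)) (tt N38063 (iv6 D132998)) (tt N79693 F347523))
theorem Q69286 : ∀ i, i < 69286 → P i := stepQ 69285 Q69285 (allL N69285 (tt N78405 (iv1 F345639)) (tt N38064 (iv0 D132999)) (tt N104787 F447271) (tt N60675 (iv3 F416709)) (tt N104794 D207990) (tt N52253 F338378) (tt N60673 F416710) (tt N101709 (iv7 F433989)))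
theorem Q69287 : ∀ i, i < 69287 → P i := stepQ 69286 Q69286 (allL N69286 (tt N38064 (iv1 D133000)) (tt N78405 F338343) (tt N101709 (iv2 F433986)) (tt N95853 (iv3 F409953)) (tt N69170 F341947) (tt N52252 F341944) (tt N67989 (iv6 F354290)) (tt N104787 (iv7 F447273)))
theorem Q69288 : ∀ i, i < 69288 → P i := stepQ 69287 Q69287 (allL N69287 (tt N80066 F358990) (tt N80065 F358991) (tt N48291 F358992) (tt N82758 F358993) (tt N64069 F358994) (tt N38064 (iv5 D133001)) (tt N50669 F341948) (tt N80067 F358995))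
theorem Q69289 : ∀ i, i < 69289 → P i := stepQ 69288 Q69288 (allL N69288 (tt N101709 (iv1 F433991)) (tt N104787 F447272) (tt N78405 (iv2 F338338)) (tt N83012 F359009) (tt N38069 F213652) (tt N80067 (iv5 F358997)) (tt N102892 F439145) (tt N38064 (iv7 D133002)))
theorem Q69290 : ∀ i, i < 69290 → P i := stepQ 69289 Q69289 (allL N69289 (tt N104788 (iv1 F447276)) (tt N76745 (iv0 F366490)) (tt N88912 (iv2 F384511)) (tt N60004 (iv3 F364883)) (tt N84699 (iv4 F370268)) (tt N38065 (iv5 D133004)) (tt N60003 F364884) (tt N95805 (iv7 F409743)))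
theorem Q69291 : ∀ i, i < 69291 → P i := stepQ 69290 Q69290 (allL N69290 (tt N54348 F366647) (tt N101815 (iv0 F434478)) (tt N88913 (iv2 F384515)) (tt N68471 F213660) (tt N38066 F213661) (tt N103614 (iv5 F442252)) (tt N38065 (iv6 D133005)) (tt N68467 F213662))
theorem Q69292 : ∀ i, i < 69292 → P i := stepQ 69291 Q69291 (allL N69291 (tt N38066 (iv1 D133007)) (tt N79759 (iv0 F348171)) (tt N66753 F341891) (tt N68012 F341919) (tt N69322 F341920) (tt N79753 (iv5 F341918)) (tt N66966 F341917) (tt N79752 F341885))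
theorem Q69293 : ∀ i, i < 69293 → P i := stepQ 69292 Q69292 (allL N69292 (tt N46145 F348160) (tt N80399 (iv0 F341880)) (tt N80398 F341643) (tt N60070 (iv3 F348162)) (tt N60498 (iv4 F348163)) (tt N38066 (iv5 D133008)) (tt N38068 F213663) (tt N60478 F338315))
theorem Q69294 : ∀ i, i < 69294 → P i := stepQ 69293 Q69293 (allL N69293 (tt N66753 (iv1 F334238)) (tt N79752 F341890) (tt N79759 F341886) (tt N60480 (iv3 F341894)) (tt N68467 F213665) (tt N60478 F341892) (tt N68454 F213666) (tt N38066 (iv7 D133009)))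
theorem Q69295 : ∀ i, i < 69295 → P i := stepQ 69294 Q69294 (allL N69294 (tt N104795 D207991) (tt N68799 (iv0 F358970)) (tt N100671 (iv2 F429942)) (tt N55626 F338345) (tt N38068 (iv4 D133022)) (tt N67283 F338346) (tt N60498 F361610) (tt N55625 F338314))
theorem Q69296 : ∀ i, i < 69296 → P i := stepQ 69295 Q69295 (allL N69295 (tt N68494 (iv1 F213673)) (tt N68493 F213674) (tt N40040 F213670) (tt N38070 (iv3 D133024)) (tt N40039 F213671) (tt N102851 (iv5 F438944)) (tt N47957 F309292) (tt N49640 F309293))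
theorem Q69297 : ∀ i, i < 69297 → P i := stepQ 69296 Q69296 (allL N69296 (tt N64135 (iv1 F334269)) (tt N64072 (iv0 F345779)) (tt N38080 F213675) (tt N102851 (iv3 F438942)) (tt N93162 (iv4 F399737)) (tt N38070 (iv5 D133025)) (tt N64099 F333978) (tt N64136 (iv7 F334253)))
theorem Q69298 : ∀ i, i < 69298 → P i := stepQ 69297 Q69297 (allL N69297 (tt N80303 F333402) (tt N45509 F333403) (tt N38081 F213679) (tt N47957 F333404) (tt N38071 F213680) (tt N90266 (iv5 F389161)) (tt N38070 (iv6 D133026)) (tt N46874 F333405))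
theorem Q69299 : ∀ i, i < 69299 → P i := stepQ 69298 Q69298 (allL N69298 (tt N44717 F315461) (tt N44720 F315462) (tt N38072 (iv2 D133035)) (tt N68586 F217672) (tt N38906 F217673) (tt N68243 F217674) (tt N89424 (iv6 F386450)) (tt N44719 F319886))
theorem Q69300 : ∀ i, i < 69300 → P i := stepQ 69299 Q69299 (allL N69299 (tt N38073 (iv1 D133039)) (tt N38076 F213702) (tt N68579 (iv2 F213704)) (tt N46911 F316725) (tt N70045 (iv4 F216503)) (tt N104788 (iv5 F447278)) (tt N47187 F316726) (tt N46905 (iv7 F319082)))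
theorem Q69301 : ∀ i, i < 69301 → P i := stepQ 69300 Q69300 (allL N69300 (tt N75218 F358080) (tt N75217 (iv0 F348711)) (tt N65872 (iv2 F333682)) (tt N78563 (iv3 F362986)) (tt N87819 (iv4 F380652)) (tt N38073 (iv5 D133041)) (tt N65871 F362987) (tt N68581 F217732))
theorem Q69302 : ∀ i, i < 69302 → P i := stepQ 69301 Q69301 (allL N69301 (tt N68591 (iv1 F217743)) (tt N38074 (iv0 D133044)) (tt N68035 (iv2 F351969)) (tt N66839 F351972) (tt N76731 F351973) (tt N80162 F351974) (tt N100145 F427687) (tt N66837 (iv7 F351971)))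
theorem Q69303 : ∀ i, i < 69303 → P i := stepQ 69302 Q69302 (allL N69302 (tt N38074 (iv1 D133045)) (tt N68591 F217741) (tt N66837 F351970) (tt N38091 F351966) (tt N63572 (iv4 F351968)) (tt N42112 F336537) (tt N42113 F336538) (tt N68035 F351967))
theorem Q69304 : ∀ i, i < 69304 → P i := stepQ 69303 Q69303 (allL N69303 (tt N66837 F341902) (tt N68035 (iv0 F351479)) (tt N68591 (iv2 F217739)) (tt N89005 (iv3 F384784)) (tt N47201 F341903) (tt N79334 (iv5 F336548)) (tt N68584 F217745) (tt N38074 (iv7 D133047)))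
theorem Q69305 : ∀ i, i < 69305 → P i := stepQ 69304 Q69304 (allL N69304 (tt N67930 (iv1 F217679)) (tt N68585 F217680) (tt N38075 (iv2 D133049)) (tt N44719 F319888) (tt N78725 F319889) (tt N68339 F217681) (tt N104796 D207992) (tt N68586 (iv7 F217653)))
theorem Q69306 : ∀ i, i < 69306 → P i := stepQ 69305 Q69305 (allL N69305 (tt N74356 F364618) (tt N104797 D207993) (tt N104796 (iv2 F447314)) (tt N38077 F213711) (tt N80455 (iv4 F364617)) (tt N104798 D207994) (tt N38075 (iv6 D133051)) (tt N104799 D207995))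
theorem Q69307 : ∀ i, i < 69307 → P i := stepQ 69306 Q69306 (allL N69306 (tt N68584 (iv1 F217717)) (tt N38077 (iv0 D133055)) (tt N68583 (iv2 F354050)) (tt N38094 F341648) (tt N104800 D207996) (tt N77686 (iv5 F341650)) (tt N79397 F341647) (tt N68041 F341649))
theorem Q69308 : ∀ i, i < 69308 → P i := stepQ 69307 Q69307 (allL N69307 (tt N38077 (iv1 D133056)) (tt N68584 F217715) (tt N68041 (iv2 F341651)) (tt N68020 F341652) (tt N104801 D207997) (tt N77685 F341653) (tt N104802 D207998) (tt N68583 F354052))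
theorem Q69309 : ∀ i, i < 69309 → P i := stepQ 69308 Q69308 (allL N69308 (tt N90677 F390489) (tt N90675 (iv0 F390477)) (tt N54978 (iv2 F358084)) (tt N104798 (iv3 F447330)) (tt N54919 F343373) (tt N38077 (iv5 D133057)) (tt N82184 (iv6 F337780)) (tt N54982 (iv7 F358087)))
theorem Q69310 : ∀ i, i < 69310 → P i := stepQ 69309 Q69309 (allL N69309 (tt N68041 (iv1 F354054)) (tt N68583 F217718) (tt N68584 F217714) (tt N104799 (iv3 F447335)) (tt N75223 F358073) (tt N54982 (iv5 F358086)) (tt N68591 F217746) (tt N38077 (iv7 D133058)))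
theorem Q69311 : ∀ i, i < 69311 → P i := stepQ 69310 Q69310 (allL N69310 (tt N75412 F361258) (tt N75411 (iv0 F342738)) (tt N68540 (iv2 F216683)) (tt N44822 F312345) (tt N87810 (iv4 F380606)) (tt N38078 (iv5 D133062)) (tt N58671 (iv6 F322508)) (tt N68537 F216682))
theorem Q69312 : ∀ i, i < 69312 → P i := stepQ 69311 Q69311 (allL N69311 (tt N79725 (iv1 F342746)) (tt N46091 F312339) (tt N45521 F312340) (tt N38079 (iv3 D133065)) (tt N80336 F312341) (tt N75410 (iv5 F348426)) (tt N104803 D207999) (tt N68539 (iv7 F216677)))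
theorem Q69313 : ∀ i, i < 69313 → P i := stepQ 69312 Q69312 (allL N69312 (tt N104800 (iv1 F447346)) (tt N104801 (iv0 F447350)) (tt N68538 (iv2 F216680)) (tt N104803 (iv3 F447359)) (tt N91339 (iv4 F392799)) (tt N66648 (iv5 F342759)) (tt N38079 (iv6 D133067)) (tt N104804 D208000))
theorem Q69314 : ∀ i, i < 69314 → P i := stepQ 69313 Q69313 (allL N69313 (tt N38080 (iv1 D133069)) (tt N64136 (iv0 F334249)) (tt N64072 (iv2 F334264)) (tt N79722 (iv3 F334265)) (tt N104398 (iv4 F445594)) (tt N81301 F334267) (tt N64071 (iv6 F334266)) (tt N64135 F334263))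
theorem Q69315 : ∀ i, i < 69315 → P i := stepQ 69314 Q69314 (allL N69314 (tt N84702 (iv1 F370274)) (tt N84699 (iv0 F370269)) (tt N93162 (iv2 F399735)) (tt N79855 (iv3 F334260)) (tt N38080 (iv4 D133070)) (tt N88237 (iv5 F382297)) (tt N79526 (iv6 F336600)) (tt N68542 F213720))
theorem Q69316 : ∀ i, i < 69316 → P i := stepQ 69315 Q69315 (allL N69315 (tt N38081 (iv1 D133073)) (tt N46874 F334205) (tt N45509 F334206) (tt N68541 F334207) (tt N43726 F334208) (tt N66362 F334209) (tt N68539 F334214) (tt N80303 F334210))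
theorem Q69317 : ∀ i, i < 69317 → P i := stepQ 69316 Q69316 (allL N69316 (tt N73200 F334211) (tt N91709 (iv0 F394130)) (tt N90266 (iv2 F389157)) (tt N63605 (iv3 F343413)) (tt N43718 F334212) (tt N38081 (iv5 D133074)) (tt N79527 F334213) (tt N101211 (iv7 F432221)))
theorem Q69318 : ∀ i, i < 69318 → P i := stepQ 69317 Q69317 (allL N69317 (tt N45509 F334189) (tt N80303 F334190) (tt N46874 F306991) (tt N68552 F213723) (tt N38083 F213724) (tt N101211 (iv5 F432219)) (tt N44735 F306992) (tt N38081 (iv7 D133075)))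
theorem Q69319 : ∀ i, i < 69319 → P i := stepQ 69318 Q69318 (allL N69318 (tt N44678 F331996) (tt N100305 F428350) (tt N100304 (iv2 F428345)) (tt N38082 (iv3 D133077)) (tt N89744 (iv4 F387388)) (tt N79509 F331999) (tt N94074 (iv6 F403085)) (tt N89738 F387376))
theorem Q69320 : ∀ i, i < 69320 → P i := stepQ 69319 Q69319 (allL N69319 (tt N47178 F331993) (tt N47187 F331994) (tt N47185 F332025) (tt N84139 F368276) (tt N38082 (iv4 D133078)) (tt N43760 F311889) (tt N104805 D208001) (tt N47184 F332026))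
theorem Q69321 : ∀ i, i < 69321 → P i := stepQ 69320 Q69320 (allL N69320 (tt N104802 F447357) (tt N104806 D208002) (tt N103110 (iv2 F440117)) (tt N94074 (iv3 F403082)) (tt N104805 (iv4 F447371)) (tt N94072 (iv5 F403073)) (tt N38082 (iv6 D133080)) (tt N94071 F403070))
theorem Q69322 : ∀ i, i < 69322 → P i := stepQ 69321 Q69321 (allL N69321 (tt N67979 F350894) (tt N60944 (iv0 F347108)) (tt N68031 (iv2 F347122)) (tt N72069 (iv3 F347121)) (tt N38084 (iv4 D133086)) (tt N103295 (iv5 F441029)) (tt N60581 F347120) (tt N68027 (iv7 F346996)))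
theorem Q69323 : ∀ i, i < 69323 → P i := stepQ 69322 Q69322 (allL N69322 (tt N104807 D208003) (tt N47576 F347001) (tt N68032 F346998) (tt N65321 (iv3 F347000)) (tt N69291 (iv4 F341920)) (tt N38084 (iv5 D133087)) (tt N66363 F346999) (tt N68028 (iv7 F346997)))
theorem Q69324 : ∀ i, i < 69324 → P i := stepQ 69323 Q69323 (allL N69323 (tt N104681 (iv1 F446849)) (tt N44784 F359263) (tt N104224 (iv2 F444788)) (tt N38085 (iv3 D133090)) (tt N103801 (iv4 F442880)) (tt N69642 F359264) (tt N104808 D208004) (tt N68030 (iv7 F359265)))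
theorem Q69325 : ∀ i, i < 69325 → P i := stepQ 69324 Q69324 (allL N69324 (tt N60944 F359266) (tt N67979 F359269) (tt N68027 (iv2 F359268)) (tt N93051 F399284) (tt N38085 (iv4 D133091)) (tt N102363 (iv5 F436915)) (tt N104809 D208005) (tt N68031 F359267))
theorem Q69326 : ∀ i, i < 69326 → P i := stepQ 69325 Q69325 (allL N69325 (tt N47576 F346986) (tt N104807 F447388) (tt N68028 F346987) (tt N69642 F346988) (tt N45887 F346989) (tt N38085 (iv5 D133092)) (tt N79339 F346990) (tt N68032 F346991))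
theorem Q69327 : ∀ i, i < 69327 → P i := stepQ 69326 Q69326 (allL N69326 (tt N67845 F437963) (tt N104755 (iv0 F447119)) (tt N68029 F361873) (tt N104808 (iv3 F447391)) (tt N104809 (iv4 F447398)) (tt N91405 F393008) (tt N38085 (iv6 D133093)) (tt N91404 (iv7 F393009)))
theorem Q69328 : ∀ i, i < 69328 → P i := stepQ 69327 Q69327 (allL N69327 (tt N38086 (iv1 D133095)) (tt N67960 F213733) (tt N68033 F354001) (tt N44782 F344383) (tt N79397 F305918) (tt N104601 (iv5 F446487)) (tt N104800 (iv6 F447343)) (tt N68034 (iv7 F344394)))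
theorem Q69329 : ∀ i, i < 69329 → P i := stepQ 69328 Q69328 (allL N69328 (tt N38088 (iv1 D133100)) (tt N44798 (iv0 F315089)) (tt N53259 (iv2 F315094)) (tt N42782 F314245) (tt N69052 (iv4 F213744)) (tt N64834 F366652) (tt N53875 F314246) (tt N42778 (iv7 F315098)))
theorem Q69330 : ∀ i, i < 69330 → P i := stepQ 69329 Q69329 (allL N69329 (tt N54389 F333414) (tt N64418 (iv0 F355877)) (tt N79141 (iv2 F345500)) (tt N38267 F213751) (tt N38089 F213752) (tt N71167 (iv5 F346589)) (tt N38088 (iv6 D133102)) (tt N71772 F346590))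
theorem Q69331 : ∀ i, i < 69331 → P i := stepQ 69330 Q69330 (allL N69330 (tt N79158 (iv1 F342110)) (tt N38089 (iv0 D133103)) (tt N79290 (iv2 F347443)) (tt N100137 (iv3 F427640)) (tt N76942 F351923) (tt N79222 F347444) (tt N81434 F347445) (tt N76940 F347435))
theorem Q69332 : ∀ i, i < 69332 → P i := stepQ 69331 Q69331 (allL N69331 (tt N38089 (iv1 D133104)) (tt N79158 F347436) (tt N76940 F347437) (tt N43259 F347438) (tt N76938 F347439) (tt N79223 F347440) (tt N43257 F347441) (tt N79290 F347442))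
theorem Q69333 : ∀ i, i < 69333 → P i := stepQ 69332 Q69332 (allL N69332 (tt N76940 F334765) (tt N79290 F342112) (tt N79158 F342106) (tt N38092 F213755) (tt N71772 (iv4 F345499)) (tt N45389 F313454) (tt N68040 F213756) (tt N38089 (iv7 D133106)))
theorem Q69334 : ∀ i, i < 69334 → P i := stepQ 69333 Q69333 (allL N69333 (tt N66835 F308405) (tt N38375 F308672) (tt N66839 F308406) (tt N38090 (iv3 D133107)) (tt N42726 F312782) (tt N47920 F311623) (tt N66841 F308407) (tt N42724 F308408))
theorem Q69335 : ∀ i, i < 69335 → P i := stepQ 69334 Q69334 (allL N69334 (tt N38103 F213769) (tt N68046 F213770) (tt N68036 F213761) (tt N66841 F308403) (tt N38367 F213762) (tt N47921 (iv5 F314101)) (tt N38090 (iv6 D133109)) (tt N53063 F308404))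
theorem Q69336 : ∀ i, i < 69336 → P i := stepQ 69335 Q69335 (allL N69335 (tt N38093 (iv1 D133124)) (tt N44803 F316625) (tt N44801 F316626) (tt N104810 D208006) (tt N44727 F316627) (tt N79244 F316628) (tt N46871 F316629) (tt N44753 F316630))
theorem Q69337 : ∀ i, i < 69337 → P i := stepQ 69336 Q69336 (allL N69336 (tt N38372 F333391) (tt N68021 F333392) (tt N68020 F339297) (tt N38095 (iv3 D133130)) (tt N40041 F237552) (tt N63771 (iv5 F339295)) (tt N100506 (iv6 F429229)) (tt N66879 (iv7 F311476)))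
theorem Q69338 : ∀ i, i < 69338 → P i := stepQ 69337 Q69337 (allL N69337 (tt N42870 F321975) (tt N38096 (iv0 D133133)) (tt N47303 (iv2 F305144)) (tt N90677 (iv3 F390486)) (tt N40505 F321976) (tt N46369 F304924) (tt N40504 (iv6 F323640)) (tt N66566 (iv7 F323282)))
theorem Q69339 : ∀ i, i < 69339 → P i := stepQ 69338 Q69338 (allL N69338 (tt N38096 (iv1 D133134)) (tt N42870 F321972) (tt N66566 (iv2 F323280)) (tt N66423 F333396) (tt N63078 F321973) (tt N47304 F307059) (tt N63077 F321974) (tt N47303 F307060))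
theorem Q69340 : ∀ i, i < 69340 → P i := stepQ 69339 Q69339 (allL N69339 (tt N66566 (iv1 F323279)) (tt N47303 F307057) (tt N42870 F321970) (tt N46771 F316633) (tt N40758 F323254) (tt N38097 F213847) (tt N63784 F321971) (tt N38096 (iv7 D133136)))
theorem Q69341 : ∀ i, i < 69341 → P i := stepQ 69340 Q69340 (allL N69340 (tt N104811 D208007) (tt N52827 (iv0 F353794)) (tt N79481 F315039) (tt N38100 F213863) (tt N53900 F353802) (tt N80125 F315040) (tt N38098 (iv6 D133141)) (tt N104812 D208008))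
theorem Q69342 : ∀ i, i < 69342 → P i := stepQ 69341 Q69341 (allL N69341 (tt N38100 (iv1 D133145)) (tt N68044 F213872) (tt N68042 F213885) (tt N104806 F447380) (tt N68573 F213873) (tt N44083 (iv5 F320129)) (tt N44765 F304934) (tt N44082 (iv7 F320270)))
theorem Q69343 : ∀ i, i < 69343 → P i := stepQ 69342 Q69342 (allL N69342 (tt N47308 F308043) (tt N47306 F308044) (tt N68043 F213877) (tt N80125 F344765) (tt N42875 F320868) (tt N38100 (iv5 D133146)) (tt N42874 F320869) (tt N48146 F320870))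
theorem Q69344 : ∀ i, i < 69344 → P i := stepQ 69343 Q69343 (allL N69343 (tt N68042 (iv1 F213882)) (tt N44082 F321978) (tt N68044 F213879) (tt N104812 (iv3 F447415)) (tt N44086 F213880) (tt N48146 F321979) (tt N68046 F213881) (tt N38100 (iv7 D133147)))
theorem Q69345 : ∀ i, i < 69345 → P i := stepQ 69344 Q69344 (allL N69344 (tt N47056 F312790) (tt N47054 F312791) (tt N44809 F312792) (tt N38102 F213896) (tt N64449 F313353) (tt N38101 (iv5 D133152)) (tt N47532 F312793) (tt N44811 (iv7 F315247)))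
theorem Q69346 : ∀ i, i < 69346 → P i := stepQ 69345 Q69345 (allL N69345 (tt N68046 (iv1 F213905)) (tt N38103 (iv0 D133154)) (tt N53063 (iv2 F306585)) (tt N81261 F304572) (tt N68448 F213901) (tt N42408 (iv5 F313963)) (tt N46348 F304573) (tt N68036 F213903))
theorem Q69347 : ∀ i, i < 69347 → P i := stepQ 69346 Q69346 (allL N69346 (tt N68036 (iv1 F213912)) (tt N53063 F308400) (tt N68046 F213909) (tt N46429 F308401) (tt N46575 (iv4 F310550)) (tt N47013 F308402) (tt N68044 F213911) (tt N38103 (iv7 D133156)))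
theorem Q69348 : ∀ i, i < 69348 → P i := stepQ 69347 Q69347 (allL N69347 (tt N56274 (iv1 F339450)) (tt N67944 F344111) (tt N60779 (iv2 F337564)) (tt N38921 F213920) (tt N38104 (iv4 D133160)) (tt N55766 F363408) (tt N50226 (iv6 F327485)) (tt N68047 F213921))
theorem Q69349 : ∀ i, i < 69349 → P i := stepQ 69348 Q69348 (allL N69348 (tt N67775 (iv1 F366306)) (tt N67863 (iv0 F366305)) (tt N104682 F446851) (tt N38105 (iv3 D133169)) (tt N38108 F213941) (tt N104813 D208009) (tt N102841 (iv6 F438891)) (tt N68048 F213942))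
theorem Q69350 : ∀ i, i < 69350 → P i := stepQ 69349 Q69349 (allL N69349 (tt N104814 D208010) (tt N103554 (iv0 F442017)) (tt N102630 (iv2 F437947)) (tt N104813 (iv3 F447421)) (tt N104815 D208011) (tt N38105 (iv5 D133170)) (tt N104816 D208012) (tt N68049 F213943))
theorem Q69351 : ∀ i, i < 69351 → P i := stepQ 69350 Q69350 (allL N69350 (tt N104639 (iv1 F446647)) (tt N102563 F437677) (tt N102631 (iv2 F437949)) (tt N102841 (iv3 F438890)) (tt N38107 F213944) (tt N103702 (iv5 F442532)) (tt N38105 (iv6 D133171)) (tt N66517 (iv7 F213945)))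
theorem Q69352 : ∀ i, i < 69352 → P i := stepQ 69351 Q69351 (allL N69351 (tt N102440 F437245) (tt N68921 (iv0 F407072)) (tt N102632 (iv2 F437954)) (tt N80312 (iv3 F366840)) (tt N38106 (iv4 D133172)) (tt N103766 (iv5 F442737)) (tt N68953 F213946) (tt N68050 F213947))
theorem Q69353 : ∀ i, i < 69353 → P i := stepQ 69352 Q69352 (allL N69352 (tt N68450 F344113) (tt N68471 F344115) (tt N68469 F337664) (tt N38109 F213954) (tt N47740 F307467) (tt N38108 (iv5 D133176)) (tt N45534 F307468) (tt N45600 (iv7 F307535)))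
theorem Q69354 : ∀ i, i < 69354 → P i := stepQ 69353 Q69353 (allL N69353 (tt N69811 (iv1 F216198)) (tt N38110 (iv0 D133181)) (tt N70563 F217835) (tt N38722 (iv3 F213965)) (tt N67513 (iv4 F213967)) (tt N40570 F213964) (tt N70436 (iv6 F217399)) (tt N68224 F213966))
theorem Q69355 : ∀ i, i < 69355 → P i := stepQ 69354 Q69354 (allL N69354 (tt N38110 (iv1 D133182)) (tt N69811 F216197) (tt N68224 F213973) (tt N38193 (iv3 F213972)) (tt N67514 (iv4 F213975)) (tt N71372 (iv5 F219986)) (tt N68166 F213974) (tt N70563 (iv7 F217837)))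
theorem Q69356 : ∀ i, i < 69356 → P i := stepQ 69355 Q69355 (allL N69355 (tt N68224 (iv1 F213981)) (tt N70563 F217836) (tt N69811 (iv2 F216192)) (tt N38115 F213977) (tt N69006 F213978) (tt N40086 F213979) (tt N38237 F213980) (tt N38110 (iv7 D133183)))
theorem Q69357 : ∀ i, i < 69357 → P i := stepQ 69356 Q69356 (allL N69356 (tt N104817 D208013) (tt N99811 F426338) (tt N68305 F213983) (tt N38112 F213984) (tt N67536 F213985) (tt N54170 F363895) (tt N38111 (iv6 D133184)) (tt N60867 (iv7 F363897)))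
theorem Q69358 : ∀ i, i < 69358 → P i := stepQ 69357 Q69357 (allL N69357 (tt N60864 (iv1 F327039)) (tt N38112 (iv0 D133185)) (tt N60869 (iv2 F328057)) (tt N55715 (iv3 F363885)) (tt N68609 F213986) (tt N86787 (iv5 F377201)) (tt N61437 (iv6 F338658)) (tt N60854 (iv7 F363893)))
theorem Q69359 : ∀ i, i < 69359 → P i := stepQ 69358 Q69358 (allL N69358 (tt N38112 (iv1 D133186)) (tt N60864 (iv0 F327038)) (tt N60854 (iv2 F363890)) (tt N83622 F363904) (tt N68651 F213992) (tt N104818 D208014) (tt N68172 (iv6 F214590)) (tt N60869 (iv7 F328058)))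
theorem Q69360 : ∀ i, i < 69360 → P i := stepQ 69359 Q69359 (allL N69359 (tt N68302 (iv1 F214013)) (tt N68301 F214012) (tt N38116 (iv2 D133191)) (tt N38117 F214010) (tt N65789 F360025) (tt N38116 (iv5 F214014)) (tt N56241 F335806) (tt N68303 F214011))
theorem Q69361 : ∀ i, i < 69361 → P i := stepQ 69360 Q69360 (allL N69360 (tt N103585 F442135) (tt N104819 D208015) (tt N84968 (iv2 F371198)) (tt N38469 F214020) (tt N38118 (iv4 D133195)) (tt N70341 (iv5 F217230)) (tt N50921 (iv6 F352103)) (tt N38728 F214021))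
theorem Q69362 : ∀ i, i < 69362 → P i := stepQ 69361 Q69361 (allL N69361 (tt N103609 (iv1 F442231)) (tt N92840 (iv0 F398455)) (tt N38125 F214050) (tt N70593 (iv3 F217916)) (tt N38146 F214051) (tt N104820 D208016) (tt N38123 (iv6 D133208)) (tt N104821 D208017))
theorem Q69363 : ∀ i, i < 69363 → P i := stepQ 69362 Q69362 (allL N69362 (tt N104386 F445538) (tt N104759 (iv0 F447143)) (tt N102426 (iv2 F437191)) (tt N102538 (iv3 F437559)) (tt N38124 (iv4 D133209)) (tt N101066 (iv5 F431515)) (tt N82988 (iv6 F366184)) (tt N68316 F214052))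
theorem Q69364 : ∀ i, i < 69364 → P i := stepQ 69363 Q69363 (allL N69363 (tt N104822 D208018) (tt N51437 (iv0 F366182)) (tt N102427 (iv2 F437197)) (tt N38126 F214053) (tt N82988 F366183) (tt N104823 D208019) (tt N38124 (iv6 D133210)) (tt N104824 D208020))
theorem Q69365 : ∀ i, i < 69365 → P i := stepQ 69364 Q69364 (allL N69364 (tt N104821 (iv1 F447459)) (tt N38125 (iv0 D133211)) (tt N103609 (iv2 F442225)) (tt N92847 F398489) (tt N103608 F442223) (tt N104825 D208021) (tt N68197 (iv6 F398490)) (tt N92840 (iv7 F398491)))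
theorem Q69366 : ∀ i, i < 69366 → P i := stepQ 69365 Q69365 (allL N69365 (tt N38125 (iv1 D133212)) (tt N104821 F447458) (tt N92840 (iv2 F398453)) (tt N70765 F371360) (tt N102281 (iv4 F436539)) (tt N104826 D208022) (tt N85008 (iv6 F371359)) (tt N103609 (iv7 F442228)))
theorem Q69367 : ∀ i, i < 69367 → P i := stepQ 69366 Q69366 (allL N69366 (tt N56610 F366145) (tt N91045 (iv0 F391737)) (tt N104820 (iv2 F447449)) (tt N38129 F214054) (tt N104827 D208023) (tt N38125 (iv5 D133213)) (tt N104823 (iv6 F447467)) (tt N104828 D208024))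
theorem Q69368 : ∀ i, i < 69368 → P i := stepQ 69367 Q69367 (allL N69367 (tt N92840 F398458) (tt N103609 (iv0 F442230)) (tt N104821 (iv2 F447453)) (tt N38130 F214055) (tt N38150 F214056) (tt N104828 (iv5 F447494)) (tt N68320 F214057) (tt N38125 (iv7 D133214)))
theorem Q69369 : ∀ i, i < 69369 → P i := stepQ 69368 Q69368 (allL N69368 (tt N70603 (iv1 F217929)) (tt N38126 (iv0 D133215)) (tt N70600 (iv2 F371150)) (tt N86916 (iv3 F377694)) (tt N102614 (iv4 F437894)) (tt N86911 (iv5 F377676)) (tt N97799 (iv6 F418349)) (tt N70601 F371149))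
theorem Q69370 : ∀ i, i < 69370 → P i := stepQ 69369 Q69369 (allL N69369 (tt N38126 (iv1 D133216)) (tt N70603 F217928) (tt N70601 F371147) (tt N97275 (iv3 F416164)) (tt N102615 F437904) (tt N86904 (iv5 F377651)) (tt N84942 (iv6 F371146)) (tt N70600 (iv7 F371148)))
theorem Q69371 : ∀ i, i < 69371 → P i := stepQ 69370 Q69370 (allL N69370 (tt N104829 D208025) (tt N104830 D208026) (tt N70602 (iv2 F217923)) (tt N104823 (iv3 F447466)) (tt N52043 (iv4 F364265)) (tt N38126 (iv5 D133217)) (tt N38129 F214058) (tt N104831 D208027))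
theorem Q69372 : ∀ i, i < 69372 → P i := stepQ 69371 Q69371 (allL N69371 (tt N70601 (iv1 F217922)) (tt N70600 F217927) (tt N70603 (iv2 F217925)) (tt N104824 (iv3 F447470)) (tt N102544 (iv4 F437586)) (tt N104831 (iv5 F447514)) (tt N68323 F214059) (tt N38126 (iv7 D133218)))
theorem Q69373 : ∀ i, i < 69373 → P i := stepQ 69372 Q69372 (allL N69372 (tt N103900 F443276) (tt N103894 (iv0 F443253)) (tt N103898 F443268) (tt N38127 (iv3 D133219)) (tt N96593 (iv4 F413118)) (tt N81657 (iv5 F367058)) (tt N68201 F214060) (tt N70605 (iv7 F217933)))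
theorem Q69374 : ∀ i, i < 69374 → P i := stepQ 69373 Q69373 (allL N69373 (tt N61731 F214061) (tt N70472 F217470) (tt N70470 F217468) (tt N81657 F367059) (tt N96941 (iv4 F414698)) (tt N38127 (iv5 D133220)) (tt N96940 F414695) (tt N70469 F217465))
theorem Q69375 : ∀ i, i < 69375 → P i := stepQ 69374 Q69374 (allL N69374 (tt N97893 F418684) (tt N104005 (iv0 F443752)) (tt N104832 D208028) (tt N38128 (iv3 D133221)) (tt N96994 (iv4 F414962)) (tt N97278 (iv5 F416183)) (tt N56189 (iv6 F363882)) (tt N70604 (iv7 F217931)))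
theorem Q69376 : ∀ i, i < 69376 → P i := stepQ 69375 Q69375 (allL N69375 (tt N70472 (iv1 F217471)) (tt N61731 F214062) (tt N70469 F217464) (tt N97278 (iv3 F416182)) (tt N104833 D208029) (tt N38128 (iv5 D133222)) (tt N97277 F416180) (tt N70470 (iv7 F217466)))
theorem Q69377 : ∀ i, i < 69377 → P i := stepQ 69376 Q69376 (allL N69376 (tt N70562 F338689) (tt N70837 F338688) (tt N70606 (iv2 F217934)) (tt N56189 F338687) (tt N93013 (iv4 F399120)) (tt N56188 (iv5 F338685)) (tt N38128 (iv6 D133223)) (tt N68205 F214063))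
theorem Q69378 : ∀ i, i < 69378 → P i := stepQ 69377 Q69377 (allL N69377 (tt N38129 (iv1 D133225)) (tt N70609 F217946) (tt N70607 F217942) (tt N69476 (iv3 F362778)) (tt N104834 D208030) (tt N38858 F214065) (tt N76430 F362777) (tt N69411 (iv7 F328277)))
theorem Q69379 : ∀ i, i < 69379 → P i := stepQ 69378 Q69378 (allL N69378 (tt N97965 (iv1 F418995)) (tt N98285 (iv0 F420333)) (tt N70608 (iv2 F217943)) (tt N104835 D208031) (tt N38129 (iv4 D133226)) (tt N104836 D208032) (tt N52043 F364267) (tt N104837 D208033))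
theorem Q69380 : ∀ i, i < 69380 → P i := stepQ 69379 Q69379 (allL N69379 (tt N70607 (iv1 F217939)) (tt N69411 (iv0 F328274)) (tt N70609 (iv2 F217944)) (tt N104828 (iv3 F447493)) (tt N104837 (iv4 F447534)) (tt N38130 F214066) (tt N104838 D208034) (tt N38129 (iv7 D133227)))
theorem Q69381 : ∀ i, i < 69381 → P i := stepQ 69380 Q69380 (allL N69380 (tt N38133 (iv1 F214068)) (tt N38132 (iv0 D133228)) (tt N70610 F217949) (tt N61575 (iv3 F391866)) (tt N56486 F214067) (tt N92959 (iv5 F398922)) (tt N68183 (iv6 F214070)) (tt N56483 F214069))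
theorem Q69382 : ∀ i, i < 69382 → P i := stepQ 69381 Q69381 (allL N69381 (tt N70792 F370289) (tt N38993 F370290) (tt N70790 F344977) (tt N38132 (iv3 D133229)) (tt N102438 (iv4 F437235)) (tt N104839 D208035) (tt N68211 F214071) (tt N70613 (iv7 F217959)))
theorem Q69383 : ∀ i, i < 69383 → P i := stepQ 69382 Q69382 (allL N69382 (tt N61742 F214072) (tt N98736 F422085) (tt N70612 (iv2 F217955)) (tt N104839 (iv3 F447542)) (tt N96778 (iv4 F413886)) (tt N38132 (iv5 D133230)) (tt N96777 F413884) (tt N70614 (iv7 F217961)))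
theorem Q69384 : ∀ i, i < 69384 → P i := stepQ 69383 Q69383 (allL N69383 (tt N70814 F365420) (tt N104840 D208036) (tt N104841 D208037) (tt N38133 (iv3 D133231)) (tt N97519 (iv4 F417226)) (tt N104842 D208038) (tt N61434 (iv6 F365417)) (tt N70611 (iv7 F217954)))
theorem Q69385 : ∀ i, i < 69385 → P i := stepQ 69384 Q69384 (allL N69384 (tt N98736 (iv1 F422086)) (tt N61742 F214073) (tt N70614 (iv2 F217960)) (tt N104842 (iv3 F447556)) (tt N104843 D208039) (tt N38133 (iv5 D133232)) (tt N61439 (iv6 F365418)) (tt N70612 (iv7 F217956)))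
theorem Q69386 : ∀ i, i < 69386 → P i := stepQ 69385 Q69385 (allL N69385 (tt N38169 (iv1 F214089)) (tt N68167 F214088) (tt N68166 F214081) (tt N38136 (iv3 D133240)) (tt N67684 (iv4 F214084)) (tt N94569 (iv5 F405003)) (tt N68224 F214082) (tt N68165 F214083))
theorem Q69387 : ∀ i, i < 69387 → P i := stepQ 69386 Q69386 (allL N69386 (tt N68189 (iv1 F214603)) (tt N38229 (iv0 F214095)) (tt N68175 F214093) (tt N85004 (iv3 F371337)) (tt N38138 (iv4 D133242)) (tt N104844 D208040) (tt N70562 (iv6 F217827)) (tt N68176 F214094))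
theorem Q69388 : ∀ i, i < 69388 → P i := stepQ 69387 Q69387 (allL N69387 (tt N104845 D208041) (tt N104846 D208042) (tt N70376 (iv2 F217304)) (tt N39423 F365137) (tt N72296 (iv4 F221902)) (tt N39420 F365138) (tt N38139 (iv6 D133243)) (tt N104847 D208043))
theorem Q69389 : ∀ i, i < 69389 → P i := stepQ 69388 Q69388 (allL N69388 (tt N38140 (iv1 D133244)) (tt N67705 F214099) (tt N67586 (iv2 F217701)) (tt N68243 (iv3 F214100)) (tt N68962 (iv4 F214797)) (tt N68586 F217650) (tt N80283 F351663) (tt N68339 F217690))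
theorem Q69390 : ∀ i, i < 69390 → P i := stepQ 69389 Q69389 (allL N69389 (tt N104848 D208044) (tt N104849 D208045) (tt N104507 (iv2 F446062)) (tt N38142 F214101) (tt N67710 F214102) (tt N51289 F319156) (tt N38140 (iv6 D133245)) (tt N50287 F319157))
theorem Q69391 : ∀ i, i < 69391 → P i := stepQ 69390 Q69390 (allL N69390 (tt N38144 (iv1 F214104)) (tt N38141 (iv0 D133246)) (tt N68342 (iv2 F214112)) (tt N86030 (iv3 F374954)) (tt N67613 F214103) (tt N70796 (iv5 F218432)) (tt N85213 (iv6 F371914)) (tt N68341 F214114))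
theorem Q69392 : ∀ i, i < 69392 → P i := stepQ 69391 Q69391 (allL N69391 (tt N38141 (iv1 D133247)) (tt N38144 F214105) (tt N68341 F214111) (tt N68302 F214107) (tt N67620 (iv4 F214106)) (tt N70799 (iv5 F218449)) (tt N104850 D208046) (tt N68342 (iv7 F214109)))
theorem Q69393 : ∀ i, i < 69393 → P i := stepQ 69392 Q69392 (allL N69392 (tt N38983 F214189) (tt N60841 (iv0 F321188)) (tt N60843 (iv2 F321194)) (tt N38141 (iv3 D133248)) (tt N67708 F214187) (tt N55713 (iv5 F321195)) (tt N49262 F319149) (tt N42380 (iv7 F321197)))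
theorem Q69394 : ∀ i, i < 69394 → P i := stepQ 69393 Q69393 (allL N69393 (tt N66425 (iv1 F327896)) (tt N38143 (iv0 D133255)) (tt N66426 (iv2 F327910)) (tt N44789 F315478) (tt N68235 F214204) (tt N44788 F315479) (tt N66396 (iv6 F351671)) (tt N66237 (iv7 F327906)))
theorem Q69395 : ∀ i, i < 69395 → P i := stepQ 69394 Q69394 (allL N69394 (tt N66426 (iv1 F327909)) (tt N66237 (iv0 F327902)) (tt N38143 (iv2 D133256)) (tt N67705 F214210) (tt N39641 F352618) (tt N47559 F344164) (tt N102706 (iv6 F438288)) (tt N66425 (iv7 F327901)))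
theorem Q69396 : ∀ i, i < 69396 → P i := stepQ 69395 Q69395 (allL N69395 (tt N39644 F327490) (tt N39158 F327491) (tt N39641 F327808) (tt N99828 (iv3 F426416)) (tt N38143 (iv4 D133257)) (tt N70058 (iv5 F216529)) (tt N99827 F426413) (tt N39642 F327809))
theorem Q69397 : ∀ i, i < 69397 → P i := stepQ 69396 Q69396 (allL N69396 (tt N104851 D208047) (tt N104658 F446734) (tt N102706 (iv2 F438285)) (tt N38145 F214216) (tt N99827 (iv4 F426411)) (tt N102704 F438275) (tt N38143 (iv6 D133258)) (tt N86006 (iv7 F374854)))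
theorem Q69398 : ∀ i, i < 69398 → P i := stepQ 69397 Q69397 (allL N69397 (tt N70810 (iv1 F218475)) (tt N86030 F374956) (tt N55710 (iv2 F321199)) (tt N41740 F319940) (tt N103896 (iv4 F443257)) (tt N38144 (iv5 D133260)) (tt N41738 F319941) (tt N50268 F319942))
theorem Q69399 : ∀ i, i < 69399 → P i := stepQ 69398 Q69398 (allL N69398 (tt N72746 F325512) (tt N81420 (iv0 F337536)) (tt N39458 F325513) (tt N102704 (iv3 F438273)) (tt N39136 F325514) (tt N38145 (iv5 D133264)) (tt N81483 (iv6 F337530)) (tt N39454 F325515))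
theorem Q69400 : ∀ i, i < 69400 → P i := stepQ 69399 Q69399 (allL N69399 (tt N38150 (iv1 F214236)) (tt N38146 (iv0 D133266)) (tt N38147 F334649) (tt N66395 F362655) (tt N104852 D208048) (tt N48303 F334650) (tt N68248 F334651) (tt N38148 F334652))
theorem Q69401 : ∀ i, i < 69401 → P i := stepQ 69400 Q69400 (allL N69400 (tt N38146 (iv1 D133267)) (tt N38150 F214230) (tt N38148 F345853) (tt N79784 (iv3 F345856)) (tt N104853 D208049) (tt N69229 (iv5 F345857)) (tt N80319 F345854) (tt N38147 F345855))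
theorem Q69402 : ∀ i, i < 69402 → P i := stepQ 69401 Q69401 (allL N69401 (tt N47803 F337544) (tt N64146 F320964) (tt N38149 F214231) (tt N68250 F214232) (tt N60647 (iv4 F327288)) (tt N38146 (iv5 D133268)) (tt N78414 (iv6 F336019)) (tt N60643 (iv7 F327283)))
theorem Q69403 : ∀ i, i < 69403 → P i := stepQ 69402 Q69402 (allL N69402 (tt N38148 (iv1 F214237)) (tt N38147 F214238) (tt N38150 F214233) (tt N68251 F214234) (tt N104821 (iv4 F447455)) (tt N60643 (iv5 F342146)) (tt N68247 (iv6 F330906)) (tt N38146 (iv7 D133269)))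
theorem Q69404 : ∀ i, i < 69404 → P i := stepQ 69403 Q69403 (allL N69403 (tt N104854 D208050) (tt N104850 (iv0 F447610)) (tt N104852 (iv2 F447626)) (tt N104855 D208051) (tt N38147 (iv4 D133272)) (tt N86548 (iv5 F376470)) (tt N68253 F365182) (tt N104853 (iv7 F447635)))
theorem Q69405 : ∀ i, i < 69405 → P i := stepQ 69404 Q69404 (allL N69404 (tt N66396 (iv1 F344350)) (tt N66234 F344345) (tt N66394 (iv2 F344356)) (tt N38148 (iv3 D133276)) (tt N39677 F344346) (tt N80282 (iv5 F347058)) (tt N76769 F347056) (tt N66395 (iv7 F362653)))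
theorem Q69406 : ∀ i, i < 69406 → P i := stepQ 69405 Q69405 (allL N69405 (tt N104850 F447611) (tt N104854 F447641) (tt N104853 (iv2 F447633)) (tt N104856 D208052) (tt N38148 (iv4 D133277)) (tt N86549 F376474) (tt N86011 F374882) (tt N104852 (iv7 F447629)))
theorem Q69407 : ∀ i, i < 69407 → P i := stepQ 69406 Q69406 (allL N69406 (tt N45959 F334667) (tt N69218 F334668) (tt N69229 F334669) (tt N80282 F334670) (tt N103323 (iv4 F441138)) (tt N38148 (iv5 D133278)) (tt N78581 F334671) (tt N48303 F334672))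
theorem Q69408 : ∀ i, i < 69408 → P i := stepQ 69407 Q69407 (allL N69407 (tt N44794 F334626) (tt N44792 F334627) (tt N80319 F334628) (tt N76769 (iv3 F347055)) (tt N86011 (iv4 F374881)) (tt N78582 F334629) (tt N38148 (iv6 D133279)) (tt N68257 F334630))
theorem Q69409 : ∀ i, i < 69409 → P i := stepQ 69408 Q69408 (allL N69408 (tt N101486 F433107) (tt N38539 F214252) (tt N94908 (iv2 F406290)) (tt N103621 (iv3 F442269)) (tt N104857 D208053) (tt N38151 (iv5 D133288)) (tt N104858 D208054) (tt N68259 F214251))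
theorem Q69410 : ∀ i, i < 69410 → P i := stepQ 69409 Q69409 (allL N69409 (tt N64603 F341432) (tt N88602 (iv0 F383566)) (tt N88604 (iv2 F383570)) (tt N101816 (iv3 F434480)) (tt N38152 F214253) (tt N104859 D208055) (tt N38151 (iv6 D133289)) (tt N68263 F214254))
theorem Q69411 : ∀ i, i < 69411 → P i := stepQ 69410 Q69410 (allL N69410 (tt N69592 (iv1 F215058)) (tt N76405 (iv0 F238526)) (tt N63819 F214255) (tt N104198 (iv3 F444652)) (tt N38153 (iv4 D133290)) (tt N82942 (iv5 F365206)) (tt N104860 D208056) (tt N63827 F214256))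
theorem Q69412 : ∀ i, i < 69412 → P i := stepQ 69411 Q69411 (allL N69411 (tt N69379 F328274) (tt N38958 F328275) (tt N63820 F214257) (tt N38197 F214258) (tt N104860 (iv4 F447667)) (tt N61729 F328276) (tt N38153 (iv6 D133291)) (tt N69377 F328277))
theorem Q69413 : ∀ i, i < 69413 → P i := stepQ 69412 Q69412 (allL N69412 (tt N48487 F310632) (tt N42082 (iv0 F231278)) (tt N46645 (iv2 F310847)) (tt N78322 (iv3 F248100)) (tt N65112 F310633) (tt N38155 (iv5 D133305)) (tt N87891 (iv6 F380985)) (tt N42183 F241173))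
theorem Q69414 : ∀ i, i < 69414 → P i := stepQ 69413 Q69413 (allL N69413 (tt N68531 (iv1 F335003)) (tt N76481 (iv0 F355319)) (tt N76480 (iv2 F248112)) (tt N38156 (iv3 D133308)) (tt N95443 (iv4 F408195)) (tt N81309 (iv5 F355318)) (tt N104861 D208057) (tt N46641 F313103))
theorem Q69415 : ∀ i, i < 69415 → P i := stepQ 69414 Q69414 (allL N69414 (tt N42082 F241176) (tt N48487 F310634) (tt N42183 F241168) (tt N81309 (iv3 F339574)) (tt N65111 F310635) (tt N38156 (iv5 D133310)) (tt N41946 (iv6 F214281)) (tt N46645 (iv7 F310848)))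
theorem Q69416 : ∀ i, i < 69416 → P i := stepQ 69415 Q69415 (allL N69415 (tt N46576 F310652) (tt N46462 F310653) (tt N44910 F310654) (tt N104861 (iv3 F447669)) (tt N44902 F310655) (tt N48445 F310656) (tt N38156 (iv6 D133311)) (tt N44909 F310657))
theorem Q69417 : ∀ i, i < 69417 → P i := stepQ 69416 Q69416 (allL N69416 (tt N81308 (iv1 F357751)) (tt N42226 F329364) (tt N76492 (iv2 F247841)) (tt N38159 F214289) (tt N46635 F316370) (tt N38158 (iv5 D133316)) (tt N73722 F335182) (tt N42324 F214290))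
theorem Q69418 : ∀ i, i < 69418 → P i := stepQ 69417 Q69417 (allL N69417 (tt N38161 (iv1 D133320)) (tt N63233 (iv0 F237473)) (tt N63234 (iv2 F237477)) (tt N76904 (iv3 F240656)) (tt N70111 (iv4 F237481)) (tt N62756 F237478) (tt N63236 F237479) (tt N62755 F237480))
theorem Q69419 : ∀ i, i < 69419 → P i := stepQ 69418 Q69418 (allL N69418 (tt N62755 (iv1 F237488)) (tt N63234 (iv0 F237489)) (tt N38161 (iv2 D133321)) (tt N68294 F214300) (tt N104236 (iv4 F444859)) (tt N99760 (iv5 F426101)) (tt N78279 (iv6 F361622)) (tt N63233 (iv7 F237476)))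
theorem Q69420 : ∀ i, i < 69420 → P i := stepQ 69419 Q69419 (allL N69419 (tt N63239 (iv1 F338163)) (tt N100415 F428872) (tt N104236 F444861) (tt N102802 (iv3 F438702)) (tt N38161 (iv4 D133322)) (tt N97073 (iv5 F415336)) (tt N102801 F438701) (tt N68290 F214305))
theorem Q69421 : ∀ i, i < 69421 → P i := stepQ 69420 Q69420 (allL N69420 (tt N73986 F340941) (tt N99610 (iv0 F425407)) (tt N78279 F361621) (tt N38162 F214306) (tt N102801 (iv4 F438698)) (tt N41287 F340942) (tt N38161 (iv6 D133323)) (tt N41286 F340943))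
theorem Q69422 : ∀ i, i < 69422 → P i := stepQ 69421 Q69421 (allL N69421 (tt N41053 F317911) (tt N44086 F214311) (tt N68298 F214307) (tt N41286 F322117) (tt N70112 (iv4 F216706)) (tt N41279 F322118) (tt N42278 F317912) (tt N38162 (iv7 D133324)))
theorem Q69423 : ∀ i, i < 69423 → P i := stepQ 69422 Q69422 (allL N69422 (tt N60041 (iv1 F214312)) (tt N38163 (iv0 D133325)) (tt N68054 F214314) (tt N38176 (iv3 F214313)) (tt N67736 (iv4 F214316)) (tt N70581 (iv5 F217896)) (tt N71329 (iv6 F219829)) (tt N68055 (iv7 F214319)))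
theorem Q69424 : ∀ i, i < 69424 → P i := stepQ 69423 Q69423 (allL N69423 (tt N38163 (iv1 D133326)) (tt N60041 F214321) (tt N68055 (iv2 F214323)) (tt N39263 (iv3 F214324)) (tt N67737 F214326) (tt N60885 (iv5 F326874)) (tt N39369 F214325) (tt N68054 F214322))
theorem Q69425 : ∀ i, i < 69425 → P i := stepQ 69424 Q69424 (allL N69424 (tt N68059 (iv1 F214331)) (tt N38165 (iv0 D133328)) (tt N68058 (iv2 F355453)) (tt N82143 (iv3 F351340)) (tt N87573 (iv4 F379782)) (tt N75166 F335857) (tt N90515 (iv6 F389915)) (tt N68057 (iv7 F355451)))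
theorem Q69426 : ∀ i, i < 69426 → P i := stepQ 69425 Q69425 (allL N69425 (tt N101702 F433957) (tt N75499 (iv0 F335860)) (tt N103137 (iv2 F440241)) (tt N38166 F214337) (tt N101701 (iv4 F433946)) (tt N38165 (iv5 D133331)) (tt N75467 (iv6 F334526)) (tt N57399 F214338))
theorem Q69427 : ∀ i, i < 69427 → P i := stepQ 69426 Q69426 (allL N69426 (tt N79898 F326287) (tt N44031 F334447) (tt N57400 F214341) (tt N75467 (iv3 F334051)) (tt N43253 (iv4 F327111)) (tt N75770 F332324) (tt N38166 (iv6 D133333)) (tt N43249 F326289))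
theorem Q69428 : ∀ i, i < 69428 → P i := stepQ 69427 Q69427 (allL N69427 (tt N62574 (iv1 F214347)) (tt N38167 (iv0 D133334)) (tt N44484 (iv2 F214344)) (tt N104862 D208058) (tt N44483 F214343) (tt N88515 (iv5 F383355)) (tt N66288 F214345) (tt N39372 F214346))
theorem Q69429 : ∀ i, i < 69429 → P i := stepQ 69428 Q69428 (allL N69428 (tt N104863 D208059) (tt N100508 (iv0 F429240)) (tt N94568 (iv2 F404998)) (tt N75771 F332327) (tt N83234 F332328) (tt N38167 (iv5 D133335)) (tt N75770 (iv6 F332326)) (tt N70548 F332329))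
theorem Q69430 : ∀ i, i < 69430 → P i := stepQ 69429 Q69429 (allL N69429 (tt N68167 (iv1 F214358)) (tt N38169 (iv0 D133337)) (tt N68165 (iv2 F214356)) (tt N68299 F214353) (tt N67683 F214354) (tt N39612 F214355) (tt N70586 (iv6 F217907)) (tt N68166 F214357))
theorem Q69431 : ∀ i, i < 69431 → P i := stepQ 69430 Q69430 (allL N69430 (tt N68166 (iv1 F214370)) (tt N68165 F214371) (tt N68167 F214365) (tt N38195 F214366) (tt N68893 F214367) (tt N38170 F214368) (tt N38745 F214369) (tt N38169 (iv7 D133338)))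
theorem Q69432 : ∀ i, i < 69432 → P i := stepQ 69431 Q69431 (allL N69431 (tt N68068 (iv1 F214372)) (tt N38171 (iv0 D133339)) (tt N68067 (iv2 F390591)) (tt N90738 (iv3 F390698)) (tt N104864 D208060) (tt N60306 (iv5 F377579)) (tt N89252 F385799) (tt N68066 F390596))
theorem Q69433 : ∀ i, i < 69433 → P i := stepQ 69432 Q69432 (allL N69432 (tt N38171 (iv1 D133340)) (tt N68068 F214376) (tt N68066 F390595) (tt N89255 (iv3 F385808)) (tt N104865 D208061) (tt N60307 F396280) (tt N90755 (iv6 F390733)) (tt N68067 (iv7 F390594)))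
theorem Q69434 : ∀ i, i < 69434 → P i := stepQ 69433 Q69433 (allL N69433 (tt N68067 (iv1 F214377)) (tt N68066 F214375) (tt N38171 (iv2 D133341)) (tt N68079 F214373) (tt N78096 (iv4 F245964)) (tt N97300 (iv5 F416284)) (tt N97624 (iv6 F417652)) (tt N68068 F214374))
theorem Q69435 : ∀ i, i < 69435 → P i := stepQ 69434 Q69434 (allL N69434 (tt N38173 (iv1 D133344)) (tt N70296 F217151) (tt N70295 (iv2 F217142)) (tt N60025 (iv3 F217143)) (tt N74728 (iv4 F228677)) (tt N70346 (iv5 F217253)) (tt N58393 F217145) (tt N70294 F217141))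
theorem Q69436 : ∀ i, i < 69436 → P i := stepQ 69435 Q69435 (allL N69435 (tt N68079 (iv1 F214386)) (tt N38174 (iv0 D133345)) (tt N68078 (iv2 F379505)) (tt N90770 (iv3 F390790)) (tt N92466 (iv4 F403773)) (tt N61259 F361841) (tt N99676 (iv6 F425702)) (tt N68077 (iv7 F379508)))
theorem Q69437 : ∀ i, i < 69437 → P i := stepQ 69436 Q69436 (allL N69436 (tt N38174 (iv1 D133346)) (tt N68079 F214390) (tt N68077 F379506) (tt N87484 (iv3 F379500)) (tt N92467 F397095) (tt N61260 F379501) (tt N87474 F379502) (tt N68078 F379503))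
theorem Q69438 : ∀ i, i < 69438 → P i := stepQ 69437 Q69437 (allL N69437 (tt N68078 (iv1 F214391)) (tt N68077 F214389) (tt N38174 (iv2 D133347)) (tt N68068 F214387) (tt N92302 (iv4 F396634)) (tt N104190 (iv5 F444606)) (tt N39220 F344603) (tt N68079 F214388))
theorem Q69439 : ∀ i, i < 69439 → P i := stepQ 69438 Q69438 (allL N69438 (tt N68074 (iv1 F214394)) (tt N38175 (iv0 D133349)) (tt N68072 (iv2 F214393)) (tt N104866 D208062) (tt N56504 F214396) (tt N96800 (iv5 F414011)) (tt N74037 (iv6 F226658)) (tt N68073 F214395))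
theorem Q69440 : ∀ i, i < 69440 → P i := stepQ 69439 Q69439 (allL N69439 (tt N40561 F214404) (tt N56730 (iv0 F214405)) (tt N60880 (iv2 F326883)) (tt N70581 (iv3 F217894)) (tt N67345 F214402) (tt N38176 (iv5 D133351)) (tt N38487 F214400) (tt N56711 F214401))
theorem Q69441 : ∀ i, i < 69441 → P i := stepQ 69440 Q69440 (allL N69440 (tt N68086 (iv1 F214406)) (tt N38179 (iv0 D133352)) (tt N68085 F415165) (tt N104867 D208063) (tt N90371 (iv4 F397743)) (tt N60152 (iv5 F351307)) (tt N90369 F397742) (tt N68084 (iv7 F415167)))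
theorem Q69442 : ∀ i, i < 69442 → P i := stepQ 69441 Q69441 (allL N69441 (tt N38179 (iv1 D133353)) (tt N68086 F214410) (tt N68084 (iv2 F415169)) (tt N104868 D208064) (tt N104869 D208065) (tt N60153 F364954) (tt N104870 D208066) (tt N68085 F415168))
theorem Q69443 : ∀ i, i < 69443 → P i := stepQ 69442 Q69442 (allL N69442 (tt N68085 (iv1 F214411)) (tt N68084 F214409) (tt N38179 (iv2 D133354)) (tt N68093 F214407) (tt N78063 (iv4 F245635)) (tt N97148 (iv5 F415675)) (tt N97040 (iv6 F415160)) (tt N68086 F214408))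
theorem Q69444 : ∀ i, i < 69444 → P i := stepQ 69443 Q69443 (allL N69443 (tt N52150 F355472) (tt N58743 F355473) (tt N68100 (iv2 F366280)) (tt N65320 (iv3 F366282)) (tt N98301 (iv4 F420410)) (tt N38180 (iv5 D133357)) (tt N92802 F398294) (tt N68097 F366281))
theorem Q69445 : ∀ i, i < 69445 → P i := stepQ 69444 Q69444 (allL N69444 (tt N90516 (iv1 F389921)) (tt N84655 (iv0 F370068)) (tt N68101 F366411) (tt N62691 (iv3 F366412)) (tt N65325 F366413) (tt N91847 (iv5 F394666)) (tt N38180 (iv6 D133358)) (tt N104871 D208067))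
theorem Q69446 : ∀ i, i < 69446 → P i := stepQ 69445 Q69445 (allL N69445 (tt N104872 D208068) (tt N104867 F447713) (tt N82115 (iv2 F366283)) (tt N38181 (iv3 D133360)) (tt N104873 D208069) (tt N104874 D208070) (tt N104875 D208071) (tt N68099 (iv7 F366277)))
theorem Q69447 : ∀ i, i < 69447 → P i := stepQ 69446 Q69446 (allL N69446 (tt N58743 F363717) (tt N52150 (iv0 F355169)) (tt N68097 F366279) (tt N104874 (iv3 F447747)) (tt N104876 D208072) (tt N38181 (iv5 D133362)) (tt N104877 D208073) (tt N68100 (iv7 F366278)))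
theorem Q69448 : ∀ i, i < 69448 → P i := stepQ 69447 Q69447 (allL N69447 (tt N99264 (iv1 F423870)) (tt N95394 (iv0 F408101)) (tt N68098 (iv2 F366162)) (tt N104875 (iv3 F447754)) (tt N82153 F366161) (tt N96917 (iv5 F414600)) (tt N38181 (iv6 D133363)) (tt N104878 D208074))
theorem Q69449 : ∀ i, i < 69449 → P i := stepQ 69448 Q69448 (allL N69448 (tt N68104 (iv1 F214417)) (tt N68103 F214418) (tt N38183 F214414) (tt N68153 F214415) (tt N78922 F364333) (tt N38182 (iv5 D133364)) (tt N86773 F377130) (tt N68102 F214416))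
theorem Q69450 : ∀ i, i < 69450 → P i := stepQ 69449 Q69449 (allL N69449 (tt N68102 (iv1 F214420)) (tt N38183 (iv0 D133366)) (tt N68104 F355411) (tt N48090 F339717) (tt N86851 F377434) (tt N48089 F339718) (tt N104879 D208075) (tt N68103 (iv7 F355409)))
theorem Q69451 : ∀ i, i < 69451 → P i := stepQ 69450 Q69450 (allL N69450 (tt N38183 (iv1 D133367)) (tt N68102 F214421) (tt N68103 (iv2 F355407)) (tt N104880 D208076) (tt N104881 D208077) (tt N55068 (iv5 F354256)) (tt N87161 (iv6 F378583)) (tt N68104 F355412))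
theorem Q69452 : ∀ i, i < 69452 → P i := stepQ 69451 Q69451 (allL N69451 (tt N104882 D208078) (tt N98124 (iv0 F419566)) (tt N78922 (iv2 F335868)) (tt N60165 F214422) (tt N38183 (iv4 D133368)) (tt N75266 F335864) (tt N88430 (iv6 F383020)) (tt N68105 F214423))
theorem Q69453 : ∀ i, i < 69453 → P i := stepQ 69452 Q69452 (allL N69452 (tt N85707 F373606) (tt N51252 F373607) (tt N86773 (iv2 F377131)) (tt N38185 F214424) (tt N88430 (iv4 F383022)) (tt N104883 D208079) (tt N38183 (iv6 D133369)) (tt N86774 (iv7 F377134)))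
theorem Q69454 : ∀ i, i < 69454 → P i := stepQ 69453 Q69453 (allL N69453 (tt N89243 (iv1 F385759)) (tt N38184 (iv0 D133370)) (tt N103135 F440236) (tt N74351 F340950) (tt N66934 (iv4 F354111)) (tt N87384 F379187) (tt N104884 D208080) (tt N74345 (iv7 F340951)))
theorem Q69455 : ∀ i, i < 69455 → P i := stepQ 69454 Q69454 (allL N69454 (tt N38184 (iv1 D133371)) (tt N89243 F385758) (tt N74345 (iv2 F379193)) (tt N104885 D208081) (tt N67044 F379192) (tt N87385 (iv5 F379191)) (tt N71347 (iv6 F379194)) (tt N103135 (iv7 F440233)))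
theorem Q69456 : ∀ i, i < 69456 → P i := stepQ 69455 Q69455 (allL N69455 (tt N87209 (iv1 F378770)) (tt N51835 (iv0 F364590)) (tt N87498 (iv2 F379557)) (tt N38187 F214425) (tt N75456 F358455) (tt N38184 (iv5 D133372)) (tt N104883 (iv6 F447796)) (tt N88065 (iv7 F381651)))
theorem Q69457 : ∀ i, i < 69457 → P i := stepQ 69456 Q69456 (allL N69456 (tt N68158 (iv1 F214434)) (tt N38185 (iv0 D133374)) (tt N68155 F365038) (tt N104886 D208082) (tt N60189 F340442) (tt N87184 (iv5 F378634)) (tt N83737 (iv6 F340441)) (tt N68156 (iv7 F365040)))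
theorem Q69458 : ∀ i, i < 69458 → P i := stepQ 69457 Q69457 (allL N69457 (tt N38185 (iv1 D133375)) (tt N68158 F214428) (tt N68156 (iv2 F365042)) (tt N104887 D208083) (tt N60190 (iv4 F365043)) (tt N104888 D208084) (tt N104889 D208085) (tt N68155 F365041))
theorem Q69459 : ∀ i, i < 69459 → P i := stepQ 69458 Q69458 (allL N69458 (tt N104890 D208086) (tt N104891 D208087) (tt N68157 F214429) (tt N104883 (iv3 F447795)) (tt N95663 (iv4 F409039)) (tt N38185 (iv5 D133376)) (tt N38187 F214430) (tt N104892 D208088))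
theorem Q69460 : ∀ i, i < 69460 → P i := stepQ 69459 Q69459 (allL N69459 (tt N68156 (iv1 F214435)) (tt N68155 F214436) (tt N68158 F214431) (tt N86774 F377135) (tt N60168 F214432) (tt N104892 (iv5 F447826)) (tt N68113 F214433) (tt N38185 (iv7 D133377)))
theorem Q69461 : ∀ i, i < 69461 → P i := stepQ 69460 Q69460 (allL N69460 (tt N104893 D208089) (tt N104870 F447834) (tt N104894 D208090) (tt N38186 (iv3 D133378)) (tt N94599 (iv4 F405127)) (tt N104895 D208091) (tt N74063 (iv6 F226770)) (tt N62618 F214437))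
theorem Q69462 : ∀ i, i < 69462 → P i := stepQ 69461 Q69461 (allL N69461 (tt N74106 (iv1 F226816)) (tt N74105 F226820) (tt N74108 (iv2 F226818)) (tt N104895 (iv3 F447838)) (tt N104896 D208092) (tt N38186 (iv5 D133379)) (tt N88160 F381956) (tt N62620 F214438))
theorem Q69463 : ∀ i, i < 69463 → P i := stepQ 69462 Q69462 (allL N69462 (tt N74104 (iv1 F226815)) (tt N38187 (iv0 D133380)) (tt N97251 F416079) (tt N104897 D208093) (tt N104898 D208094) (tt N96079 (iv5 F410946)) (tt N104899 D208095) (tt N97252 (iv7 F416082)))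
theorem Q69464 : ∀ i, i < 69464 → P i := stepQ 69463 Q69463 (allL N69463 (tt N38187 (iv1 D133381)) (tt N74104 F226814) (tt N97252 (iv2 F416085)) (tt N104900 D208096) (tt N104901 D208097) (tt N93569 (iv5 F401177)) (tt N51797 F378635) (tt N97251 F416080))
theorem Q69465 : ∀ i, i < 69465 → P i := stepQ 69464 Q69464 (allL N69464 (tt N104902 D208098) (tt N104903 D208099) (tt N84547 (iv2 F369664)) (tt N95664 (iv3 F409043)) (tt N38187 (iv4 D133382)) (tt N91903 (iv5 F394890)) (tt N95663 (iv6 F409041)) (tt N104904 D208100))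
theorem Q69466 : ∀ i, i < 69466 → P i := stepQ 69465 Q69465 (allL N69465 (tt N97252 (iv1 F416081)) (tt N97251 F416078) (tt N74104 (iv2 F226812)) (tt N88065 F381656) (tt N104904 (iv4 F447868)) (tt N38188 F214439) (tt N102991 (iv6 F439581)) (tt N38187 (iv7 D133383)))
theorem Q69467 : ∀ i, i < 69467 → P i := stepQ 69466 Q69466 (allL N69466 (tt N90749 (iv1 F390736)) (tt N90755 (iv0 F390734)) (tt N90753 F390726) (tt N38189 (iv3 D133384)) (tt N78121 (iv4 F246044)) (tt N104905 D208101) (tt N99690 (iv6 F425757)) (tt N41144 F214440))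
theorem Q69468 : ∀ i, i < 69468 → P i := stepQ 69467 Q69467 (allL N69467 (tt N99683 (iv1 F425727)) (tt N99682 F425723) (tt N78269 (iv2 F247457)) (tt N104905 (iv3 F447871)) (tt N88073 F381683) (tt N38189 (iv5 D133385)) (tt N87956 (iv6 F381686)) (tt N41146 F214441))
theorem Q69469 : ∀ i, i < 69469 → P i := stepQ 69468 Q69468 (allL N69468 (tt N60543 F214445) (tt N60315 (iv0 F214446)) (tt N93090 (iv2 F399435)) (tt N40524 F214442) (tt N92531 (iv4 F397269)) (tt N38192 (iv5 D133386)) (tt N39149 F214443) (tt N60294 F214444))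
theorem Q69470 : ∀ i, i < 69470 → P i := stepQ 69469 Q69469 (allL N69469 (tt N104906 D208102) (tt N104907 D208103) (tt N104908 D208104) (tt N38194 (iv3 D133387)) (tt N68892 F214447) (tt N104909 D208105) (tt N38196 F214448) (tt N103342 (iv7 F441202)))
theorem Q69471 : ∀ i, i < 69471 → P i := stepQ 69470 Q69470 (allL N69470 (tt N67349 F214451) (tt N67183 F214452) (tt N67346 F214449) (tt N104909 (iv3 F447887)) (tt N55479 F363901) (tt N38194 (iv5 D133388)) (tt N104354 (iv6 F445395)) (tt N67347 F214450))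
theorem Q69472 : ∀ i, i < 69472 → P i := stepQ 69471 Q69471 (allL N69471 (tt N68626 (iv1 F214454)) (tt N38196 (iv0 D133389)) (tt N68625 F217725) (tt N68958 F214453) (tt N104579 (iv4 F446380)) (tt N57279 (iv5 F343683)) (tt N102231 (iv6 F436284)) (tt N68624 F217723))
theorem Q69473 : ∀ i, i < 69473 → P i := stepQ 69472 Q69472 (allL N69472 (tt N38196 (iv1 D133390)) (tt N68626 F214459) (tt N68624 (iv2 F217724)) (tt N104910 D208106) (tt N104481 (iv4 F445961)) (tt N57280 F358297) (tt N104911 D208107) (tt N68625 (iv7 F217726)))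
theorem Q69474 : ∀ i, i < 69474 → P i := stepQ 69473 Q69473 (allL N69473 (tt N68625 (iv1 F214460)) (tt N68624 F214458) (tt N38196 (iv2 D133391)) (tt N68619 F214455) (tt N68891 F214456) (tt N104351 (iv5 F445378)) (tt N104908 (iv6 F447884)) (tt N68626 F214457))
theorem Q69475 : ∀ i, i < 69475 → P i := stepQ 69474 Q69474 (allL N69474 (tt N68129 (iv1 F214464)) (tt N38197 (iv0 D133392)) (tt N68127 (iv2 F399664)) (tt N93144 F399662) (tt N103957 (iv4 F443591)) (tt N104912 D208108) (tt N83744 (iv6 F367249)) (tt N68128 F399665))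
theorem Q69476 : ∀ i, i < 69476 → P i := stepQ 69475 Q69475 (allL N69475 (tt N38197 (iv1 D133393)) (tt N68129 F214461) (tt N68128 F399666) (tt N56440 F399667) (tt N103958 (iv4 F443523)) (tt N104162 (iv5 F444494)) (tt N104913 D208109) (tt N68127 F399668))
theorem Q69477 : ∀ i, i < 69477 → P i := stepQ 69476 Q69476 (allL N69476 (tt N68128 (iv1 F214465)) (tt N68127 F214466) (tt N68129 F214462) (tt N69377 F362778) (tt N88468 (iv4 F383175)) (tt N70468 (iv5 F328783)) (tt N68125 F214463) (tt N38197 (iv7 D133394)))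
theorem Q69478 : ∀ i, i < 69478 → P i := stepQ 69477 Q69477 (allL N69477 (tt N50009 F214470) (tt N43112 F214471) (tt N38199 F214467) (tt N63821 F214468) (tt N51516 (iv4 F214472)) (tt N38198 (iv5 D133395)) (tt N104914 D208110) (tt N53059 F214469))
theorem Q69479 : ∀ i, i < 69479 → P i := stepQ 69478 Q69478 (allL N69478 (tt N45972 F293657) (tt N51519 F214476) (tt N51516 F214473) (tt N102866 (iv3 F439004)) (tt N38199 (iv4 D133396)) (tt N104915 D208111) (tt N102864 F438998) (tt N51515 F214474))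
theorem Q69480 : ∀ i, i < 69480 → P i := stepQ 69479 Q69479 (allL N69479 (tt N104916 D208112) (tt N91205 (iv0 F400392)) (tt N104914 (iv2 F447914)) (tt N38201 F214477) (tt N102864 (iv4 F438999)) (tt N92858 (iv5 F398542)) (tt N38199 (iv6 D133397)) (tt N104917 D208113))
theorem Q69481 : ∀ i, i < 69481 → P i := stepQ 69480 Q69480 (allL N69480 (tt N38201 (iv1 D133398)) (tt N68125 F214478) (tt N68124 (iv2 F214480)) (tt N93151 F414519) (tt N95454 (iv4 F413983)) (tt N103194 (iv5 F440509)) (tt N98157 (iv6 F419763)) (tt N68123 F214479))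
theorem Q69482 : ∀ i, i < 69482 → P i := stepQ 69481 Q69481 (allL N69481 (tt N68124 (iv1 F214484)) (tt N68123 F214485) (tt N68125 F214482) (tt N104917 (iv3 F447928)) (tt N104199 (iv4 F444659)) (tt N92861 (iv5 F398555)) (tt N68129 F214483) (tt N38201 (iv7 D133399)))
theorem Q69483 : ∀ i, i < 69483 → P i := stepQ 69482 Q69482 (allL N69482 (tt N42999 F214489) (tt N38209 F214490) (tt N51307 F214486) (tt N56283 F214487) (tt N93174 (iv4 F399804)) (tt N38202 (iv5 D133400)) (tt N104918 D208114) (tt N51308 F214488))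
theorem Q69484 : ∀ i, i < 69484 → P i := stepQ 69483 Q69483 (allL N69483 (tt N38209 F214493) (tt N42999 F214494) (tt N51308 F214491) (tt N61341 F376125) (tt N93173 (iv4 F399797)) (tt N38203 (iv5 D133401)) (tt N51359 F214495) (tt N51307 F214492))
theorem Q69485 : ∀ i, i < 69485 → P i := stepQ 69484 Q69484 (allL N69484 (tt N97274 (iv1 F416162)) (tt N86486 (iv0 F376366)) (tt N86893 F377601) (tt N38207 (iv3 D133404)) (tt N38211 F214503) (tt N51074 F374370) (tt N49373 F374371) (tt N68145 F214504))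
theorem Q69486 : ∀ i, i < 69486 → P i := stepQ 69485 Q69485 (allL N69485 (tt N104086 F444104) (tt N93192 (iv0 F399885)) (tt N100661 (iv2 F429895)) (tt N49373 F374372) (tt N38208 F214508) (tt N104919 D208115) (tt N38207 (iv6 D133406)) (tt N86894 (iv7 F377614)))
theorem Q69487 : ∀ i, i < 69487 → P i := stepQ 69486 Q69486 (allL N69486 (tt N98772 F422259) (tt N38208 (iv0 D133407)) (tt N100659 (iv2 F429890)) (tt N87146 (iv3 F378542)) (tt N104033 (iv4 F443885)) (tt N104920 D208116) (tt N87145 F378540) (tt N100660 (iv7 F429892)))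
theorem Q69488 : ∀ i, i < 69488 → P i := stepQ 69487 Q69487 (allL N69487 (tt N38208 (iv1 D133408)) (tt N98772 (iv0 F422258)) (tt N100660 (iv2 F429894)) (tt N58925 F416130) (tt N104921 D208117) (tt N98398 (iv5 F420784)) (tt N104922 D208118) (tt N100659 F429889))
theorem Q69489 : ∀ i, i < 69489 → P i := stepQ 69488 Q69488 (allL N69488 (tt N100660 (iv1 F429891)) (tt N100659 F429887) (tt N98772 (iv2 F422254)) (tt N38215 F214509) (tt N86894 F377615) (tt N46081 F214510) (tt N68150 F214511) (tt N38208 (iv7 D133409)))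
theorem Q69490 : ∀ i, i < 69490 → P i := stepQ 69489 Q69489 (allL N69489 (tt N61030 F214515) (tt N92977 (iv0 F398996)) (tt N51309 F214512) (tt N60308 F214513) (tt N38209 (iv4 D133410)) (tt N104923 D208119) (tt N104924 D208120) (tt N51311 F214514))
theorem Q69491 : ∀ i, i < 69491 → P i := stepQ 69490 Q69490 (allL N69490 (tt N85167 F371784) (tt N85165 (iv0 F371777)) (tt N51310 F214516) (tt N38210 F214517) (tt N104924 (iv4 F447966)) (tt N50310 F214518) (tt N38209 (iv6 D133411)) (tt N91243 (iv7 F392390)))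
theorem Q69492 : ∀ i, i < 69492 → P i := stepQ 69491 Q69491 (allL N69491 (tt N61258 (iv1 F214524)) (tt N38210 (iv0 D133412)) (tt N61262 F365003) (tt N46004 F351262) (tt N60156 F351263) (tt N104925 D208121) (tt N98663 (iv6 F421788)) (tt N61263 (iv7 F364981)))
theorem Q69493 : ∀ i, i < 69493 → P i := stepQ 69492 Q69492 (allL N69492 (tt N38210 (iv1 D133413)) (tt N61258 F214519) (tt N61263 (iv2 F365004)) (tt N92949 F398874) (tt N60157 (iv4 F365010)) (tt N104926 D208122) (tt N104927 D208123) (tt N61262 F365005))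
theorem Q69494 : ∀ i, i < 69494 → P i := stepQ 69493 Q69493 (allL N69493 (tt N61263 (iv1 F214525)) (tt N61262 F214526) (tt N61258 F214520) (tt N91243 (iv3 F392388)) (tt N60312 F214521) (tt N61315 F214522) (tt N55792 F214523) (tt N38210 (iv7 D133414)))
theorem Q69495 : ∀ i, i < 69495 → P i := stepQ 69494 Q69494 (allL N69494 (tt N68153 (iv1 F214527)) (tt N38211 (iv0 D133415)) (tt N68152 (iv2 F352958)) (tt N91649 (iv3 F393892)) (tt N54907 (iv4 F356094)) (tt N60136 (iv5 F352959)) (tt N54905 F356092) (tt N68151 F352957))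
theorem Q69496 : ∀ i, i < 69496 → P i := stepQ 69495 Q69495 (allL N69495 (tt N38211 (iv1 D133416)) (tt N68153 F214532) (tt N68151 F352950) (tt N104928 D208124) (tt N51508 (iv4 F352954)) (tt N60137 (iv5 F352897)) (tt N51507 (iv6 F352955)) (tt N68152 (iv7 F352956)))
theorem Q69497 : ∀ i, i < 69497 → P i := stepQ 69496 Q69496 (allL N69496 (tt N104929 D208125) (tt N47634 F359399) (tt N84239 (iv2 F368645)) (tt N38212 F214534) (tt N49373 F374373) (tt N83864 (iv5 F367281)) (tt N38211 (iv6 D133418)) (tt N86895 (iv7 F377618)))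
theorem Q69498 : ∀ i, i < 69498 → P i := stepQ 69497 Q69497 (allL N69497 (tt N68113 (iv1 F214541)) (tt N38212 (iv0 D133419)) (tt N68110 (iv2 F331585)) (tt N104930 D208126) (tt N56454 (iv4 F259154)) (tt N87942 F381253) (tt N104931 D208127) (tt N68111 (iv7 F331582)))
theorem Q69499 : ∀ i, i < 69499 → P i := stepQ 69498 Q69498 (allL N69498 (tt N38212 (iv1 D133420)) (tt N68113 F214535) (tt N68111 (iv2 F331588)) (tt N104932 D208128) (tt N56455 (iv4 F288203)) (tt N104933 D208129) (tt N88472 (iv6 F399048)) (tt N68110 F331587))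
theorem Q69500 : ∀ i, i < 69500 → P i := stepQ 69499 Q69499 (allL N69499 (tt N79964 F352662) (tt N52196 (iv0 F350602)) (tt N68112 F214536) (tt N83864 (iv3 F367279)) (tt N46072 F352663) (tt N38212 (iv5 D133421)) (tt N60163 F214537) (tt N79962 (iv7 F340440)))
theorem Q69501 : ∀ i, i < 69501 → P i := stepQ 69500 Q69500 (allL N69500 (tt N68111 (iv1 F214542)) (tt N68110 F214543) (tt N68113 F214538) (tt N86895 (iv3 F377617)) (tt N38215 F214539) (tt N79962 F340439) (tt N68158 F214540) (tt N38212 (iv7 D133422)))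
theorem Q69502 : ∀ i, i < 69502 → P i := stepQ 69501 Q69501 (allL N69501 (tt N52603 F360265) (tt N57639 (iv0 F350608)) (tt N92990 F399033) (tt N68453 F360262) (tt N38213 (iv4 D133425)) (tt N79959 F350610) (tt N104934 D208130) (tt N92991 (iv7 F399036)))
theorem Q69503 : ∀ i, i < 69503 → P i := stepQ 69502 Q69502 (allL N69502 (tt N98481 (iv1 F421075)) (tt N64194 (iv0 F233496)) (tt N97254 (iv2 F416091)) (tt N82577 F360263) (tt N100648 (iv4 F429835)) (tt N38213 (iv5 D133426)) (tt N104935 D208131) (tt N92224 F396349))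
theorem Q69504 : ∀ i, i < 69504 → P i := stepQ 69503 Q69503 (allL N69503 (tt N104927 F447982) (tt N104088 (iv0 F444115)) (tt N97255 (iv2 F416096)) (tt N86840 (iv3 F377392)) (tt N104934 (iv4 F448013)) (tt N92933 F398820) (tt N38213 (iv6 D133427)) (tt N104936 D208132))
theorem Q69505 : ∀ i, i < 69505 → P i := stepQ 69504 Q69504 (allL N69504 (tt N104918 F447936) (tt N104937 D208133) (tt N94007 (iv2 F402799)) (tt N38214 (iv3 D133429)) (tt N104938 D208134) (tt N96230 (iv5 F413802)) (tt N83678 F413804) (tt N97253 (iv7 F416086)))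
theorem Q69506 : ∀ i, i < 69506 → P i := stepQ 69505 Q69505 (allL N69505 (tt N57639 (iv1 F259096)) (tt N52603 F340436) (tt N92991 F399040) (tt N91246 F396243) (tt N38214 (iv4 D133430)) (tt N104939 D208135) (tt N91244 (iv6 F396242)) (tt N92990 F399034))
theorem Q69507 : ∀ i, i < 69507 → P i := stepQ 69506 Q69506 (allL N69506 (tt N64194 F396238) (tt N98481 F421074) (tt N92224 (iv2 F396343)) (tt N96230 F413801) (tt N92643 (iv4 F397731)) (tt N38214 (iv5 D133431)) (tt N64196 (iv6 F214546)) (tt N97254 (iv7 F416093)))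
theorem Q69508 : ∀ i, i < 69508 → P i := stepQ 69507 Q69507 (allL N69507 (tt N88473 (iv1 F396240)) (tt N61254 (iv0 F396239)) (tt N97256 (iv2 F416098)) (tt N83678 (iv3 F413806)) (tt N91244 F396241) (tt N104940 D208136) (tt N38214 (iv6 D133432)) (tt N104941 D208137))
theorem Q69509 : ∀ i, i < 69509 → P i := stepQ 69508 Q69508 (allL N69508 (tt N68169 (iv1 F214557)) (tt N38217 (iv0 D133435)) (tt N68168 F355279) (tt N42369 F335152) (tt N104583 (iv4 F446403)) (tt N42354 F335153) (tt N104942 D208138) (tt N42353 F335154))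
theorem Q69510 : ∀ i, i < 69510 → P i := stepQ 69509 Q69509 (allL N69509 (tt N38217 (iv1 D133436)) (tt N68169 F214562) (tt N42353 F338612) (tt N41757 F338613) (tt N75087 F338614) (tt N42349 F338615) (tt N41755 F338616) (tt N68168 (iv7 F355271)))
theorem Q69511 : ∀ i, i < 69511 → P i := stepQ 69510 Q69510 (allL N69510 (tt N68168 (iv1 F214563)) (tt N42353 (iv0 F355262)) (tt N38217 (iv2 D133437)) (tt N68179 F214558) (tt N68896 F214559) (tt N74782 F355261) (tt N70779 F355277) (tt N68169 F214560))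
theorem Q69512 : ∀ i, i < 69512 → P i := stepQ 69511 Q69511 (allL N69511 (tt N98400 F420792) (tt N104943 D208139) (tt N68182 F214566) (tt N82335 F360653) (tt N67738 F214567) (tt N99109 (iv5 F423367)) (tt N38218 (iv6 D133439)) (tt N98423 (iv7 F420887)))
theorem Q69513 : ∀ i, i < 69513 → P i := stepQ 69512 Q69512 (allL N69512 (tt N68179 (iv1 F214568)) (tt N38219 (iv0 D133440)) (tt N68178 (iv2 F216631)) (tt N60851 F335832) (tt N88250 (iv4 F382348)) (tt N61336 (iv5 F335831)) (tt N60850 F335833) (tt N68177 (iv7 F216633)))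
theorem Q69514 : ∀ i, i < 69514 → P i := stepQ 69513 Q69513 (allL N69513 (tt N38219 (iv1 D133441)) (tt N68179 F214574) (tt N68177 F216632) (tt N44826 F319743) (tt N88248 (iv4 F382344)) (tt N47533 F319744) (tt N104944 D208140) (tt N68178 F216628))
theorem Q69515 : ∀ i, i < 69515 → P i := stepQ 69514 Q69514 (allL N69514 (tt N68178 (iv1 F214575)) (tt N68177 F214573) (tt N38219 (iv2 D133442)) (tt N68169 F214570) (tt N68619 F214571) (tt N81509 F363737) (tt N104945 D208141) (tt N68179 F214572))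
theorem Q69516 : ∀ i, i < 69516 → P i := stepQ 69515 Q69515 (allL N69515 (tt N61746 F348979) (tt N61750 (iv0 F348992)) (tt N81509 F335840) (tt N38220 F214576) (tt N73773 (iv4 F348975)) (tt N38219 (iv5 D133443)) (tt N66950 (iv6 F335839)) (tt N68180 F214577))
theorem Q69517 : ∀ i, i < 69517 → P i := stepQ 69516 Q69516 (allL N69516 (tt N104946 D208142) (tt N86008 (iv0 F374859)) (tt N104945 (iv2 F448064)) (tt N38221 F214578) (tt N68621 F214579) (tt N104947 D208143) (tt N38219 (iv6 D133444)) (tt N104948 D208144))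
theorem Q69518 : ∀ i, i < 69518 → P i := stepQ 69517 Q69517 (allL N69517 (tt N68174 (iv1 F214588)) (tt N38221 (iv0 D133446)) (tt N68171 (iv2 F214585)) (tt N104949 D208145) (tt N101209 (iv4 F432207)) (tt N97954 (iv5 F418952)) (tt N61436 (iv6 F363883)) (tt N68172 (iv7 F214586)))
theorem Q69519 : ∀ i, i < 69519 → P i := stepQ 69518 Q69518 (allL N69518 (tt N38221 (iv1 D133447)) (tt N68174 F214581) (tt N68172 F214587) (tt N60855 F363899) (tt N68941 F214582) (tt N97955 (iv5 F418956)) (tt N60854 (iv6 F363892)) (tt N68171 (iv7 F214584)))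
theorem Q69520 : ∀ i, i < 69520 → P i := stepQ 69519 Q69519 (allL N69519 (tt N70784 (iv1 F218385)) (tt N38986 F214592) (tt N68173 F214591) (tt N104947 (iv3 F448072)) (tt N75652 (iv4 F339350)) (tt N38221 (iv5 D133448)) (tt N75651 F339337) (tt N70782 (iv7 F218378)))
theorem Q69521 : ∀ i, i < 69521 → P i := stepQ 69520 Q69520 (allL N69520 (tt N68172 (iv1 F214596)) (tt N68171 F214597) (tt N68174 F214593) (tt N104948 (iv3 F448086)) (tt N38223 F214594) (tt N70782 (iv5 F218379)) (tt N39032 F214595) (tt N38221 (iv7 D133449)))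
theorem Q69522 : ∀ i, i < 69522 → P i := stepQ 69521 Q69521 (allL N69521 (tt N38229 F214601) (tt N68189 (iv0 F214602)) (tt N68176 F214598) (tt N99810 F426330) (tt N38222 (iv4 D133450)) (tt N85353 (iv5 F372326)) (tt N50899 (iv6 F326627)) (tt N68175 F214600))
theorem Q69523 : ∀ i, i < 69523 → P i := stepQ 69522 Q69522 (allL N69522 (tt N68186 (iv1 F214604)) (tt N38224 (iv0 D133451)) (tt N68185 (iv2 F355684)) (tt N97867 (iv3 F418590)) (tt N104950 D208146) (tt N61034 (iv5 F355685)) (tt N86721 (iv6 F376904)) (tt N61033 F355671))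
theorem Q69524 : ∀ i, i < 69524 → P i := stepQ 69523 Q69523 (allL N69523 (tt N68185 (iv1 F214609)) (tt N61033 (iv0 F347369)) (tt N38224 (iv2 D133453)) (tt N60986 (iv3 F333199)) (tt N69790 (iv4 F216162)) (tt N84725 (iv5 F370361)) (tt N104951 D208147) (tt N68186 F214606))
theorem Q69525 : ∀ i, i < 69525 → P i := stepQ 69524 Q69524 (allL N69524 (tt N74776 (iv1 F357124)) (tt N50784 (iv0 F355686)) (tt N84725 F370363) (tt N38225 F214610) (tt N90869 (iv4 F391103)) (tt N38224 (iv5 D133454)) (tt N104952 D208148) (tt N68187 F214611))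
theorem Q69526 : ∀ i, i < 69526 → P i := stepQ 69525 Q69525 (allL N69525 (tt N69193 F355687) (tt N104953 D208149) (tt N104951 (iv2 F448104)) (tt N38226 F214612) (tt N69791 (iv4 F216165)) (tt N59582 F349532) (tt N38224 (iv6 D133455)) (tt N68324 (iv7 F214613)))
theorem Q69527 : ∀ i, i < 69527 → P i := stepQ 69526 Q69526 (allL N69526 (tt N62818 F346150) (tt N74937 (iv0 F353818)) (tt N68191 F214614) (tt N104952 (iv3 F448111)) (tt N94056 (iv4 F403009)) (tt N104954 D208150) (tt N38225 (iv6 D133456)) (tt N74936 F353824))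
theorem Q69528 : ∀ i, i < 69528 → P i := stepQ 69527 Q69527 (allL N69527 (tt N43281 F365661) (tt N99105 (iv0 F423357)) (tt N68192 F214615) (tt N59582 (iv3 F349533)) (tt N59009 F349534) (tt N38226 (iv5 D133457)) (tt N104954 (iv6 F448124)) (tt N68325 F214616))
theorem Q69529 : ∀ i, i < 69529 → P i := stepQ 69528 Q69528 (allL N69528 (tt N104955 D208151) (tt N84919 (iv0 F374649)) (tt N78899 F352124) (tt N38229 F214626) (tt N67512 F214627) (tt N78850 (iv5 F352123)) (tt N38227 (iv6 D133462)) (tt N104956 D208152))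
theorem Q69530 : ∀ i, i < 69530 → P i := stepQ 69529 Q69529 (allL N69529 (tt N70451 F217416) (tt N38971 F214630) (tt N68188 F214629) (tt N78850 F352122) (tt N104957 D208153) (tt N38229 (iv5 D133464)) (tt N76623 (iv6 F352121)) (tt N70449 (iv7 F217413)))
theorem Q69531 : ∀ i, i < 69531 → P i := stepQ 69530 Q69530 (allL N69530 (tt N68176 (iv1 F214634)) (tt N68175 F214635) (tt N68189 F214631) (tt N104956 (iv3 F448131)) (tt N67286 F214632) (tt N70449 (iv5 F217414)) (tt N39029 F214633) (tt N38229 (iv7 D133465)))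
theorem Q69532 : ∀ i, i < 69532 → P i := stepQ 69531 Q69531 (allL N69531 (tt N68315 F366067) (tt N68320 F366069) (tt N68195 F214643) (tt N97879 (iv3 F418639)) (tt N78624 (iv4 F366068)) (tt N104958 D208154) (tt N38230 (iv6 D133467)) (tt N68318 (iv7 F365180)))
theorem Q69533 : ∀ i, i < 69533 → P i := stepQ 69532 Q69532 (allL N69532 (tt N41888 F355401) (tt N97867 F418594) (tt N97866 (iv2 F418588)) (tt N38231 (iv3 D133468)) (tt N68963 F214644) (tt N74778 F335159) (tt N104959 D208155) (tt N68194 F214645))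
theorem Q69534 : ∀ i, i < 69534 → P i := stepQ 69533 Q69533 (allL N69533 (tt N85004 F371340) (tt N50892 F362466) (tt N68193 F214646) (tt N104959 (iv3 F448143)) (tt N68960 F214647) (tt N104960 D208156) (tt N38231 (iv6 D133469)) (tt N85003 (iv7 F371336)))
theorem Q69535 : ∀ i, i < 69535 → P i := stepQ 69534 Q69534 (allL N69534 (tt N43270 F354426) (tt N84766 (iv0 F370540)) (tt N66072 F214662) (tt N84716 F370320) (tt N94063 (iv4 F403031)) (tt N66080 F214663) (tt N38234 (iv6 D133479)) (tt N104961 D208157))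
theorem Q69536 : ∀ i, i < 69536 → P i := stepQ 69535 Q69535 (allL N69535 (tt N79921 F346154) (tt N79923 F346156) (tt N68199 F214666) (tt N60985 (iv3 F346170)) (tt N60355 F214667) (tt N75473 (iv5 F346151)) (tt N38235 (iv6 D133481)) (tt N98148 (iv7 F419702)))
theorem Q69537 : ∀ i, i < 69537 → P i := stepQ 69536 Q69536 (allL N69536 (tt N76311 (iv1 F341191)) (tt N76378 (iv0 F355800)) (tt N76377 (iv2 F354837)) (tt N38240 (iv3 D133500)) (tt N38260 F214684) (tt N74783 (iv5 F341536)) (tt N38242 F214685) (tt N71696 (iv7 F220381)))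
theorem Q69538 : ∀ i, i < 69538 → P i := stepQ 69537 Q69537 (allL N69537 (tt N104962 D208158) (tt N104963 D208159) (tt N104964 D208160) (tt N38241 (iv3 D133502)) (tt N38698 F214690) (tt N70882 (iv5 F218649)) (tt N71411 (iv6 F220035)) (tt N65448 F214691))
theorem Q69539 : ∀ i, i < 69539 → P i := stepQ 69538 Q69538 (allL N69538 (tt N71108 (iv1 F219483)) (tt N38242 (iv0 D133503)) (tt N48143 F314412) (tt N104965 D208161) (tt N48142 F314413) (tt N71287 (iv5 F219788)) (tt N71404 (iv6 F220977)) (tt N71107 (iv7 F221563)))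
theorem Q69540 : ∀ i, i < 69540 → P i := stepQ 69539 Q69539 (allL N69539 (tt N39344 (iv1 F219692)) (tt N39348 F214694) (tt N82073 F314607) (tt N38243 F214693) (tt N101075 (iv4 F431552)) (tt N38242 (iv5 D133506)) (tt N78971 (iv6 F341533)) (tt N71109 (iv7 F219486)))
theorem Q69541 : ∀ i, i < 69541 → P i := stepQ 69540 Q69540 (allL N69540 (tt N95990 (iv1 F410534)) (tt N95989 F410533) (tt N71106 (iv2 F219454)) (tt N78971 F341534) (tt N67876 F214695) (tt N74784 F357697) (tt N38243 (iv6 D133507)) (tt N95982 (iv7 F410516)))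
theorem Q69542 : ∀ i, i < 69542 → P i := stepQ 69541 Q69541 (allL N69541 (tt N38244 (iv1 D133514)) (tt N67540 (iv0 F214707)) (tt N44786 F315444) (tt N66237 (iv3 F327904)) (tt N66200 F214705) (tt N44778 F315445) (tt N62057 F336277) (tt N44789 F315446))
theorem Q69543 : ∀ i, i < 69543 → P i := stepQ 69542 Q69542 (allL N69542 (tt N102691 (iv1 F438217)) (tt N102690 F438214) (tt N66390 (iv2 F330967)) (tt N38246 F214713) (tt N67545 F214714) (tt N71357 F361154) (tt N38244 (iv6 D133516)) (tt N68344 (iv7 F362002)))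
theorem Q69544 : ∀ i, i < 69544 → P i := stepQ 69543 Q69543 (allL N69543 (tt N38248 (iv1 F214726)) (tt N38245 (iv0 D133518)) (tt N44826 F319738) (tt N104966 D208162) (tt N44729 F319739) (tt N47017 F319740) (tt N86836 (iv6 F377378)) (tt N44819 F319741))
theorem Q69545 : ∀ i, i < 69545 → P i := stepQ 69544 Q69544 (allL N69544 (tt N38245 (iv1 D133519)) (tt N38248 F214719) (tt N44819 F319733) (tt N68178 F214721) (tt N44725 F319734) (tt N47018 F319735) (tt N50281 F365895) (tt N44826 F319736))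
theorem Q69546 : ∀ i, i < 69546 → P i := stepQ 69545 Q69545 (allL N69545 (tt N85213 (iv1 F371913)) (tt N85211 (iv0 F371904)) (tt N68246 (iv2 F214779)) (tt N76245 (iv3 F363676)) (tt N38246 F214723) (tt N76244 F363675) (tt N38245 (iv6 D133522)) (tt N68345 (iv7 F346551)))
theorem Q69547 : ∀ i, i < 69547 → P i := stepQ 69546 Q69546 (allL N69546 (tt N66391 (iv1 F330926)) (tt N38247 (iv0 D133529)) (tt N67583 F217688) (tt N68339 F214729) (tt N68214 F214728) (tt N44719 F319891) (tt N104851 (iv6 F447623)) (tt N68243 F217689))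
theorem Q69548 : ∀ i, i < 69548 → P i := stepQ 69547 Q69547 (allL N69547 (tt N67583 (iv1 F214804)) (tt N68243 F214793) (tt N38247 (iv2 D133531)) (tt N67540 F214790) (tt N70301 (iv4 F217155)) (tt N49026 F319747) (tt N102698 (iv6 F438244)) (tt N66391 (iv7 F330929)))
theorem Q69549 : ∀ i, i < 69549 → P i := stepQ 69548 Q69548 (allL N69548 (tt N67614 F214807) (tt N67611 (iv0 F214808)) (tt N70301 F217156) (tt N104967 D208163) (tt N38247 (iv4 D133532)) (tt N85558 (iv5 F373060)) (tt N71454 F330938) (tt N39640 F330939))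
theorem Q69550 : ∀ i, i < 69550 → P i := stepQ 69549 Q69549 (allL N69549 (tt N76771 F347074) (tt N102696 (iv0 F438234)) (tt N102698 (iv2 F438241)) (tt N38249 F214809) (tt N71454 (iv4 F347094)) (tt N64045 (iv5 F347096)) (tt N38247 (iv6 D133533)) (tt N66393 F347092))
theorem Q69551 : ∀ i, i < 69551 → P i := stepQ 69550 Q69550 (allL N69550 (tt N41344 F329171) (tt N57323 (iv0 F214811)) (tt N78947 F343526) (tt N38248 (iv3 D133534)) (tt N104967 (iv4 F448186)) (tt N76344 F329172) (tt N104968 D208164) (tt N68244 F214810))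
theorem Q69552 : ∀ i, i < 69552 → P i := stepQ 69551 Q69551 (allL N69551 (tt N86010 (iv1 F374869)) (tt N50282 (iv0 F365904)) (tt N68240 F214814) (tt N104968 (iv3 F448189)) (tt N38249 F214815) (tt N104969 D208165) (tt N38248 (iv6 D133536)) (tt N86009 (iv7 F374861)))
theorem Q69553 : ∀ i, i < 69553 → P i := stepQ 69552 Q69552 (allL N69552 (tt N38249 (iv1 D133538)) (tt N68242 F214816) (tt N67593 F334641) (tt N50285 (iv3 F334645)) (tt N50892 F334642) (tt N85787 (iv5 F373934)) (tt N50285 (iv6 F334637)) (tt N68241 (iv7 F336055)))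
theorem Q69554 : ∀ i, i < 69554 → P i := stepQ 69553 Q69553 (allL N69553 (tt N67593 (iv1 F352106)) (tt N68241 F214822) (tt N68242 F214818) (tt N66393 (iv3 F347093)) (tt N86009 F374863) (tt N69207 F336056) (tt N66392 (iv6 F330910)) (tt N38249 (iv7 D133540)))
theorem Q69555 : ∀ i, i < 69555 → P i := stepQ 69554 Q69554 (allL N69554 (tt N66553 F323473) (tt N66381 F323474) (tt N38252 F214824) (tt N56353 (iv3 F323656)) (tt N39775 F323475) (tt N38250 (iv5 D133543)) (tt N44802 F319759) (tt N66554 F323476))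
theorem Q69556 : ∀ i, i < 69556 → P i := stepQ 69555 Q69555 (allL N69555 (tt N40519 (iv1 F329149)) (tt N40559 F328800) (tt N38257 F214856) (tt N71985 (iv3 F333085)) (tt N38256 (iv4 D133567)) (tt N62288 F328801) (tt N64280 (iv6 F328256)) (tt N38758 F214857))
theorem Q69557 : ∀ i, i < 69557 → P i := stepQ 69556 Q69556 (allL N69556 (tt N68351 F328654) (tt N72151 F328655) (tt N62288 F328656) (tt N103761 (iv3 F442714)) (tt N41505 F328657) (tt N38257 (iv5 D133569)) (tt N41504 F328658) (tt N40577 F214865))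
theorem Q69558 : ∀ i, i < 69558 → P i := stepQ 69557 Q69557 (allL N69557 (tt N62288 F214868) (tt N40577 F329400) (tt N72151 (iv2 F221486)) (tt N56067 F363072) (tt N38258 (iv4 D133570)) (tt N73287 F224287) (tt N41062 F214866) (tt N68351 F214867))
theorem Q69559 : ∀ i, i < 69559 → P i := stepQ 69558 Q69558 (allL N69558 (tt N44300 F214872) (tt N57006 (iv0 F331790)) (tt N69838 (iv2 F216235)) (tt N74519 F366504) (tt N38259 (iv4 D133571)) (tt N93378 (iv5 F400583)) (tt N58542 F214870) (tt N68350 F214871))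
theorem Q69560 : ∀ i, i < 69560 → P i := stepQ 69559 Q69559 (allL N69559 (tt N73194 (iv1 F224050)) (tt N38260 (iv0 D133572)) (tt N42225 F314618) (tt N98314 (iv3 F420465)) (tt N104970 D208166) (tt N42206 F314619) (tt N63371 (iv6 F316897)) (tt N42221 F314620))
theorem Q69561 : ∀ i, i < 69561 → P i := stepQ 69560 Q69560 (allL N69560 (tt N38260 (iv1 D133573)) (tt N73194 F224049) (tt N42221 F314621) (tt N65295 F314622) (tt N99902 (iv4 F426748)) (tt N42205 F314623) (tt N58546 (iv6 F334950)) (tt N42225 F314624))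
theorem Q69562 : ∀ i, i < 69562 → P i := stepQ 69561 Q69561 (allL N69561 (tt N44460 F247375) (tt N65209 F340783) (tt N65244 (iv2 F340782)) (tt N38261 (iv3 D133575)) (tt N65377 (iv4 F316479)) (tt N44544 F214876) (tt N72701 (iv6 F222946)) (tt N65243 (iv7 F313680)))
theorem Q69563 : ∀ i, i < 69563 → P i := stepQ 69562 Q69562 (allL N69562 (tt N78087 (iv1 F245804)) (tt N54517 (iv0 F329269)) (tt N72182 (iv2 F221550)) (tt N104971 D208167) (tt N38261 (iv4 D133576)) (tt N101096 (iv5 F431654)) (tt N72702 (iv6 F222947)) (tt N53359 (iv7 F341561)))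
theorem Q69564 : ∀ i, i < 69564 → P i := stepQ 69563 Q69563 (allL N69563 (tt N54517 (iv1 F329270)) (tt N78087 F245805) (tt N53359 (iv2 F341559)) (tt N71116 (iv3 F219493)) (tt N38262 (iv4 D133579)) (tt N101469 (iv5 F433054)) (tt N53317 F363275) (tt N72182 (iv7 F221551)))
theorem Q69565 : ∀ i, i < 69565 → P i := stepQ 69564 Q69564 (allL N69564 (tt N98360 F420640) (tt N70033 (iv0 F345016)) (tt N56438 F214878) (tt N86628 (iv3 F376621)) (tt N51443 F345020) (tt N66608 F214879) (tt N38263 (iv6 D133581)) (tt N92031 (iv7 F395440)))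
theorem Q69566 : ∀ i, i < 69566 → P i := stepQ 69565 Q69565 (allL N69565 (tt N54001 F366760) (tt N83235 F366761) (tt N53294 (iv2 F342638)) (tt N38264 (iv3 D133582)) (tt N76483 (iv4 F239012)) (tt N88859 (iv5 F384359)) (tt N50925 F342640) (tt N68274 F214880))
theorem Q69567 : ∀ i, i < 69567 → P i := stepQ 69566 Q69566 (allL N69566 (tt N63446 F214883) (tt N38296 F214884) (tt N64818 (iv2 F314899)) (tt N88859 (iv3 F384361)) (tt N98256 (iv4 F420205)) (tt N38264 (iv5 D133583)) (tt N91284 (iv6 F392545)) (tt N64819 (iv7 F314905)))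
theorem Q69568 : ∀ i, i < 69568 → P i := stepQ 69567 Q69567 (allL N69567 (tt N38296 F214901) (tt N63446 F214902) (tt N64819 (iv2 F314903)) (tt N71277 (iv3 F219758)) (tt N61361 F214900) (tt N38265 (iv5 D133586)) (tt N95018 (iv6 F406659)) (tt N64818 (iv7 F314901)))
theorem Q69569 : ∀ i, i < 69569 → P i := stepQ 69568 Q69568 (allL N69568 (tt N53898 F309756) (tt N46729 F309757) (tt N68275 F214903) (tt N53289 (iv3 F311965)) (tt N66828 F214905) (tt N64653 (iv5 F366483)) (tt N38265 (iv6 D133587)) (tt N53280 F335227))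
theorem Q69570 : ∀ i, i < 69570 → P i := stepQ 69569 Q69569 (allL N69569 (tt N78293 (iv1 F247872)) (tt N78301 (iv0 F247888)) (tt N68146 F214906) (tt N104972 D208168) (tt N38266 (iv4 D133588)) (tt N61357 F214907) (tt N104973 D208169) (tt N68278 F214908))
theorem Q69571 : ∀ i, i < 69571 → P i := stepQ 69570 Q69570 (allL N69570 (tt N104974 D208170) (tt N104975 D208171) (tt N100663 (iv2 F429901)) (tt N71128 (iv3 F358059)) (tt N104973 (iv4 F448218)) (tt N71166 F358058) (tt N38266 (iv6 D133589)) (tt N104976 D208172))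
theorem Q69572 : ∀ i, i < 69572 → P i := stepQ 69571 Q69571 (allL N69571 (tt N76744 (iv1 F239835)) (tt N38267 (iv0 D133590)) (tt N76742 F239821) (tt N104977 D208173) (tt N68524 F215546) (tt N104978 D208174) (tt N100567 (iv6 F429497)) (tt N64368 (iv7 F351917)))
theorem Q69573 : ∀ i, i < 69573 → P i := stepQ 69572 Q69572 (allL N69572 (tt N101188 (iv1 F432105)) (tt N73946 (iv0 F358054)) (tt N76743 (iv2 F239831)) (tt N71167 F358051) (tt N102744 (iv4 F438456)) (tt N38267 (iv5 D133592)) (tt N71166 (iv6 F358052)) (tt N71769 (iv7 F358053)))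
theorem Q69574 : ∀ i, i < 69574 → P i := stepQ 69573 Q69573 (allL N69573 (tt N64368 (iv1 F351915)) (tt N76742 F239825) (tt N76744 (iv2 F239832)) (tt N71772 F354485) (tt N38269 F214909) (tt N71769 F358056) (tt N68283 F214910) (tt N38267 (iv7 D133593)))
theorem Q69575 : ∀ i, i < 69575 → P i := stepQ 69574 Q69574 (allL N69574 (tt N76926 (iv1 F312487)) (tt N63454 F214912) (tt N63847 F214911) (tt N39843 F333415) (tt N38268 (iv4 D133594)) (tt N100029 (iv5 F427282)) (tt N94153 (iv6 F403454)) (tt N64421 (iv7 F308202)))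
theorem Q69576 : ∀ i, i < 69576 → P i := stepQ 69575 Q69575 (allL N69575 (tt N46577 F309758) (tt N76013 F309759) (tt N63848 F214913) (tt N40028 F214914) (tt N94153 (iv4 F403452)) (tt N63229 F214916) (tt N38268 (iv6 D133595)) (tt N76012 F309760))
theorem Q69577 : ∀ i, i < 69577 → P i := stepQ 69576 Q69576 (allL N69576 (tt N63859 (iv1 F335246)) (tt N63242 (iv0 F214920)) (tt N63844 F214917) (tt N103618 (iv3 F442257)) (tt N38270 (iv4 D133596)) (tt N63430 (iv5 F335248)) (tt N69270 F214918) (tt N63429 (iv7 F319361)))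
theorem Q69578 : ∀ i, i < 69578 → P i := stepQ 69577 Q69577 (allL N69577 (tt N38272 (iv1 D133598)) (tt N68361 F214925) (tt N46575 F312778) (tt N76013 F312779) (tt N68046 F214927) (tt N42696 (iv5 F309188)) (tt N44086 (iv6 F214929)) (tt N41048 F315536))
theorem Q69579 : ∀ i, i < 69579 → P i := stepQ 69578 Q69578 (allL N69578 (tt N46575 F312777) (tt N41048 F315534) (tt N68361 F214931) (tt N68979 F214932) (tt N41702 F314395) (tt N38305 F214933) (tt N46567 F306165) (tt N38272 (iv7 D133599)))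
theorem Q69580 : ∀ i, i < 69580 → P i := stepQ 69579 Q69579 (allL N69579 (tt N41836 F214954) (tt N46571 (iv0 F308131)) (tt N45303 F306154) (tt N55180 F306155) (tt N53064 F306156) (tt N38275 (iv5 D133605)) (tt N46103 F214953) (tt N75762 (iv7 F233698)))
theorem Q69581 : ∀ i, i < 69581 → P i := stepQ 69580 Q69580 (allL N69580 (tt N45273 (iv1 F233102)) (tt N76024 (iv0 F312138)) (tt N78290 F247701) (tt N38276 (iv3 D133610)) (tt N77629 F314403) (tt N76004 (iv5 F235517)) (tt N42705 F314404) (tt N63869 F214972))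
theorem Q69582 : ∀ i, i < 69582 → P i := stepQ 69581 Q69581 (allL N69581 (tt N64514 F361499) (tt N69649 (iv0 F215400)) (tt N64549 (iv2 F361501)) (tt N65419 (iv3 F361497)) (tt N38280 (iv4 D133627)) (tt N64399 F361503) (tt N64539 F361498) (tt N63038 (iv7 F316805)))
theorem Q69583 : ∀ i, i < 69583 → P i := stepQ 69582 Q69582 (allL N69582 (tt N76447 (iv1 F307794)) (tt N43749 F306274) (tt N64547 (iv2 F307788)) (tt N38281 F214997) (tt N64539 F306275) (tt N44550 F309945) (tt N38280 (iv6 D133629)) (tt N44549 (iv7 F311603)))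
theorem Q69584 : ∀ i, i < 69584 → P i := stepQ 69583 Q69583 (allL N69583 (tt N44500 F215038) (tt N68370 F215039) (tt N38284 F215035) (tt N104979 D208175) (tt N38283 (iv4 D133639)) (tt N68394 F215037) (tt N70772 (iv6 F333580)) (tt N61355 F215036))
theorem Q69585 : ∀ i, i < 69585 → P i := stepQ 69584 Q69584 (allL N69584 (tt N104091 F444137) (tt N52052 (iv0 F333582)) (tt N38285 F215040) (tt N68429 F215041) (tt N70772 F333575) (tt N59735 (iv5 F333569)) (tt N38283 (iv6 D133640)) (tt N70771 (iv7 F333574)))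
theorem Q69586 : ∀ i, i < 69586 → P i := stepQ 69585 Q69585 (allL N69585 (tt N49339 F353355) (tt N49299 F353356) (tt N49337 F352835) (tt N38284 (iv3 D133641)) (tt N38287 F215043) (tt N104980 D208176) (tt N103904 (iv6 F443293)) (tt N49338 F352836))
theorem Q69587 : ∀ i, i < 69587 → P i := stepQ 69586 Q69586 (allL N69586 (tt N63424 F215048) (tt N61655 (iv0 F333552)) (tt N68394 F215045) (tt N104980 (iv3 F448244)) (tt N63446 F215047) (tt N38284 (iv5 D133642)) (tt N70451 F352118) (tt N64820 (iv7 F314908)))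
theorem Q69588 : ∀ i, i < 69588 → P i := stepQ 69587 Q69587 (allL N69587 (tt N68202 F333558) (tt N68204 F333559) (tt N70772 F333560) (tt N103904 (iv3 F443290)) (tt N38285 F215050) (tt N38594 F333561) (tt N38284 (iv6 D133643)) (tt N38593 F333562))
theorem Q69589 : ∀ i, i < 69589 → P i := stepQ 69588 Q69588 (allL N69588 (tt N70771 (iv1 F364659)) (tt N38285 (iv0 D133644)) (tt N104091 (iv2 F444131)) (tt N51766 (iv3 F364662)) (tt N68212 F364661) (tt N87138 (iv5 F378507)) (tt N70680 (iv6 F364667)) (tt N52052 F364660))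
theorem Q69590 : ∀ i, i < 69590 → P i := stepQ 69589 Q69589 (allL N69589 (tt N38285 (iv1 D133645)) (tt N70771 F333576) (tt N52052 (iv2 F333583)) (tt N104981 D208177) (tt N41649 F333578) (tt N87567 (iv5 F379769)) (tt N41648 F333579) (tt N104091 (iv7 F444135)))
theorem Q69591 : ∀ i, i < 69591 → P i := stepQ 69590 Q69590 (allL N69590 (tt N52064 (iv1 F363792)) (tt N104981 (iv0 F448254)) (tt N59735 (iv2 F333568)) (tt N38291 F215052) (tt N59688 F333567) (tt N38285 (iv5 D133646)) (tt N38286 F215053) (tt N104982 D208178))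
theorem Q69592 : ∀ i, i < 69592 → P i := stepQ 69591 Q69591 (allL N69591 (tt N52052 F364633) (tt N104091 (iv0 F444136)) (tt N70771 F333563) (tt N38292 F215054) (tt N38593 F333564) (tt N104982 (iv5 F448259)) (tt N68374 F215055) (tt N38285 (iv7 D133647)))
theorem Q69593 : ∀ i, i < 69593 → P i := stepQ 69592 Q69592 (allL N69592 (tt N100526 (iv1 F429328)) (tt N69410 F215058) (tt N59726 (iv2 F360271)) (tt N88376 (iv3 F382795)) (tt N38286 (iv4 D133648)) (tt N58887 (iv5 F360277)) (tt N59688 F360278) (tt N63225 F215057))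
theorem Q69594 : ∀ i, i < 69594 → P i := stepQ 69593 Q69593 (allL N69593 (tt N68389 (iv1 F215059)) (tt N38287 (iv0 D133649)) (tt N68388 (iv2 F352930)) (tt N82600 F377491) (tt N51562 (iv4 F352915)) (tt N54514 (iv5 F352861)) (tt N78520 (iv6 F352916)) (tt N51559 F352913))
theorem Q69595 : ∀ i, i < 69595 → P i := stepQ 69594 Q69594 (allL N69594 (tt N68388 (iv1 F215064)) (tt N51559 (iv0 F352938)) (tt N38287 (iv2 D133651)) (tt N87657 (iv3 F380010)) (tt N49337 F352837) (tt N60138 F215060) (tt N104983 D208179) (tt N68389 F215061))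
theorem Q69596 : ∀ i, i < 69596 → P i := stepQ 69595 Q69595 (allL N69595 (tt N104984 D208180) (tt N104985 D208181) (tt N104983 (iv2 F448263)) (tt N38288 F215065) (tt N103904 (iv4 F443291)) (tt N104986 D208182) (tt N38287 (iv6 D133652)) (tt N103903 F443288))
theorem Q69597 : ∀ i, i < 69597 → P i := stepQ 69596 Q69596 (allL N69596 (tt N87632 (iv1 F379953)) (tt N38288 (iv0 D133653)) (tt N95742 F409407) (tt N104987 D208183) (tt N57210 F409408) (tt N104988 D208184) (tt N104989 D208185) (tt N95743 (iv7 F409410)))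
theorem Q69598 : ∀ i, i < 69598 → P i := stepQ 69597 Q69597 (allL N69597 (tt N38288 (iv1 D133654)) (tt N87632 (iv0 F379952)) (tt N95743 (iv2 F409412)) (tt N62619 F331462) (tt N57211 (iv4 F364663)) (tt N104990 D208186) (tt N62617 (iv6 F331461)) (tt N95742 F409406))
theorem Q69599 : ∀ i, i < 69599 → P i := stepQ 69598 Q69598 (allL N69598 (tt N104991 D208187) (tt N104992 D208188) (tt N95744 (iv2 F409413)) (tt N104986 (iv3 F448273)) (tt N104993 D208189) (tt N38288 (iv5 D133655)) (tt N60140 F215066) (tt N104994 D208190))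
theorem Q69600 : ∀ i, i < 69600 → P i := stepQ 69599 Q69599 (allL N69599 (tt N95743 (iv1 F409409)) (tt N95742 F409404) (tt N87632 (iv2 F379948)) (tt N103903 (iv3 F443285)) (tt N38292 F215067) (tt N104994 (iv5 F448293)) (tt N68391 F215068) (tt N38288 (iv7 D133656)))
theorem Q69601 : ∀ i, i < 69601 → P i := stepQ 69600 Q69600 (allL N69600 (tt N84453 F376740) (tt N43066 F376741) (tt N86683 (iv2 F376786)) (tt N38289 (iv3 D133657)) (tt N83792 F376742) (tt N104995 D208191) (tt N104996 D208192) (tt N86819 (iv7 F377294)))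
theorem Q69602 : ∀ i, i < 69602 → P i := stepQ 69601 Q69601 (allL N69601 (tt N83589 (iv1 F376736)) (tt N57657 (iv0 F376743)) (tt N93901 F402348) (tt N83793 (iv3 F376737)) (tt N38289 (iv4 D133658)) (tt N104997 D208193) (tt N104998 D208194) (tt N93902 (iv7 F402350)))
theorem Q69603 : ∀ i, i < 69603 → P i := stepQ 69602 Q69602 (allL N69602 (tt N94017 (iv1 F402833)) (tt N92957 (iv0 F398916)) (tt N94018 (iv2 F402836)) (tt N104995 (iv3 F448296)) (tt N52672 (iv4 F362868)) (tt N38289 (iv5 D133659)) (tt N94021 (iv6 F402846)) (tt N58934 F215069))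
theorem Q69604 : ∀ i, i < 69604 → P i := stepQ 69603 Q69603 (allL N69603 (tt N98591 (iv1 F421478)) (tt N97993 (iv0 F419094)) (tt N74384 (iv2 F227666)) (tt N104996 (iv3 F448300)) (tt N104998 (iv4 F448303)) (tt N60053 F215070) (tt N38289 (iv6 D133660)) (tt N74381 (iv7 F227663)))
theorem Q69605 : ∀ i, i < 69605 → P i := stepQ 69604 Q69604 (allL N69604 (tt N51322 F376676) (tt N51268 F376677) (tt N51392 F376678) (tt N38290 (iv3 D133661)) (tt N104999 D208195) (tt N94016 (iv5 F402831)) (tt N98582 (iv6 F421450)) (tt N51393 F376679))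
theorem Q69606 : ∀ i, i < 69606 → P i := stepQ 69605 Q69605 (allL N69605 (tt N57657 F376680) (tt N83589 F376681) (tt N93902 F402354) (tt N105000 D208196) (tt N38290 (iv4 D133662)) (tt N105001 D208197) (tt N98155 F419753) (tt N93901 F402349))
theorem Q69607 : ∀ i, i < 69607 → P i := stepQ 69606 Q69606 (allL N69606 (tt N86828 F377334) (tt N38291 (iv0 D133663)) (tt N85756 (iv2 F373807)) (tt N68439 F392289) (tt N84696 F373808) (tt N104936 (iv5 F448022)) (tt N105002 D208198) (tt N92933 (iv7 F398818)))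
theorem Q69608 : ∀ i, i < 69608 → P i := stepQ 69607 Q69607 (allL N69607 (tt N38291 (iv1 D133664)) (tt N86828 F377333) (tt N92933 (iv2 F398821)) (tt N85739 (iv3 F373751)) (tt N84697 (iv4 F370267)) (tt N97255 (iv5 F416097)) (tt N105003 D208199) (tt N85756 F373802))
theorem Q69609 : ∀ i, i < 69609 → P i := stepQ 69608 Q69608 (allL N69608 (tt N92933 (iv1 F398817)) (tt N85756 F373803) (tt N86828 (iv2 F377329)) (tt N104982 (iv3 F448257)) (tt N104281 (iv4 F445084)) (tt N38292 F215071) (tt N54880 (iv6 F293780)) (tt N38291 (iv7 D133665)))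
theorem Q69610 : ∀ i, i < 69610 → P i := stepQ 69609 Q69609 (allL N69609 (tt N38301 (iv1 F215084)) (tt N38293 (iv0 D133669)) (tt N38298 (iv2 F215085)) (tt N38305 F215083) (tt N53111 F304548) (tt N68979 F215082) (tt N63082 (iv6 F306197)) (tt N38299 (iv7 F215086)))
theorem Q69611 : ∀ i, i < 69611 → P i := stepQ 69610 Q69610 (allL N69610 (tt N38293 (iv1 D133670)) (tt N38301 F215087) (tt N38299 F215091) (tt N47939 (iv3 F306187)) (tt N42538 F304090) (tt N63845 F215089) (tt N42537 F304091) (tt N38298 F215088))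
theorem Q69612 : ∀ i, i < 69612 → P i := stepQ 69611 Q69611 (allL N69611 (tt N53090 (iv1 F354639)) (tt N53088 (iv0 F354634)) (tt N105004 D208200) (tt N38294 (iv3 D133671)) (tt N57449 F215092) (tt N104137 (iv5 F444374)) (tt N101749 (iv6 F434167)) (tt N64630 (iv7 F314895)))
theorem Q69613 : ∀ i, i < 69613 → P i := stepQ 69612 Q69612 (allL N69612 (tt N48438 F348260) (tt N64627 F348261) (tt N64629 (iv2 F348265)) (tt N101749 F434165) (tt N57442 F215095) (tt N105005 D208201) (tt N38294 (iv6 D133672)) (tt N64452 F348262))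
theorem Q69614 : ∀ i, i < 69614 → P i := stepQ 69613 Q69613 (allL N69613 (tt N61655 (iv1 F333553)) (tt N63424 F215104) (tt N64820 (iv2 F314906)) (tt N105006 D208202) (tt N38296 (iv4 D133675)) (tt N61355 F215101) (tt N105007 D208203) (tt N68394 F215102))
theorem Q69615 : ∀ i, i < 69615 → P i := stepQ 69614 Q69614 (allL N69614 (tt N105008 D208204) (tt N105009 D208205) (tt N64821 F366747) (tt N104770 (iv3 F447185)) (tt N105007 (iv4 F448338)) (tt N103844 (iv5 F443059)) (tt N38296 (iv6 D133676)) (tt N105010 D208206))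
theorem Q69616 : ∀ i, i < 69616 → P i := stepQ 69615 Q69615 (allL N69615 (tt N48482 F308284) (tt N38297 (iv0 D133677)) (tt N64822 F342006) (tt N94143 (iv3 F403407)) (tt N68479 F215105) (tt N103720 (iv5 F442575)) (tt N64455 F364929) (tt N64823 F342005))
theorem Q69617 : ∀ i, i < 69617 → P i := stepQ 69616 Q69616 (allL N69616 (tt N64823 F306370) (tt N64822 F306371) (tt N48482 F306372) (tt N49552 F306373) (tt N38301 F215106) (tt N69086 F215107) (tt N68398 F215108) (tt N38297 (iv7 D133678)))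
theorem Q69618 : ∀ i, i < 69618 → P i := stepQ 69617 Q69617 (allL N69617 (tt N48486 (iv1 F306191)) (tt N46141 F312432) (tt N63082 (iv2 F306195)) (tt N72374 (iv3 F222302)) (tt N52962 F305760) (tt N45302 F314865) (tt N38298 (iv6 D133680)) (tt N48442 F305761))
theorem Q69619 : ∀ i, i < 69619 → P i := stepQ 69618 Q69618 (allL N69618 (tt N47070 F309689) (tt N38302 (iv0 D133682)) (tt N47020 (iv2 F309977)) (tt N47555 F309690) (tt N38318 F215109) (tt N75462 (iv5 F342240)) (tt N77191 F343989) (tt N47069 F309691))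
theorem Q69620 : ∀ i, i < 69620 → P i := stepQ 69619 Q69619 (allL N69619 (tt N58888 (iv1 F346713)) (tt N47565 F315253) (tt N58889 (iv2 F327267)) (tt N47984 F312211) (tt N59727 F360276) (tt N38302 (iv5 D133683)) (tt N69123 F215114) (tt N48010 F312212))
theorem Q69621 : ∀ i, i < 69621 → P i := stepQ 69620 Q69620 (allL N69620 (tt N69271 F215121) (tt N69231 F215123) (tt N68340 F215119) (tt N47559 F313510) (tt N38303 (iv4 D133684)) (tt N67705 F215122) (tt N102709 (iv6 F438302)) (tt N68410 F215120))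
theorem Q69622 : ∀ i, i < 69622 → P i := stepQ 69621 Q69621 (allL N69621 (tt N45307 F310776) (tt N99991 (iv0 F427084)) (tt N99773 (iv2 F426164)) (tt N38304 F215127) (tt N102709 (iv4 F438303)) (tt N41824 F215129) (tt N38303 (iv6 D133686)) (tt N44041 F215128))
theorem Q69623 : ∀ i, i < 69623 → P i := stepQ 69622 Q69622 (allL N69622 (tt N64167 F215146) (tt N60165 F215147) (tt N68425 F215144) (tt N105011 D208207) (tt N38308 (iv4 D133693)) (tt N41785 F335870) (tt N105012 D208208) (tt N56092 F215145))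
theorem Q69624 : ∀ i, i < 69624 → P i := stepQ 69623 Q69623 (allL N69623 (tt N93995 F402752) (tt N105013 D208209) (tt N68426 F215148) (tt N76453 (iv3 F238928)) (tt N105012 (iv4 F448363)) (tt N76178 (iv5 F237313)) (tt N38308 (iv6 D133694)) (tt N105014 D208210))
theorem Q69625 : ∀ i, i < 69625 → P i := stepQ 69624 Q69624 (allL N69624 (tt N42453 F306007) (tt N38309 (iv0 D133698)) (tt N38384 F248027) (tt N44531 F248028) (tt N44550 F248029) (tt N62432 (iv5 F361955)) (tt N72398 F248030) (tt N42467 (iv7 F307428)))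
theorem Q69626 : ∀ i, i < 69626 → P i := stepQ 69625 Q69625 (allL N69625 (tt N60165 F215176) (tt N64167 F215177) (tt N56092 F215174) (tt N54861 (iv3 F377417)) (tt N38311 (iv4 D133702)) (tt N76129 (iv5 F335874)) (tt N105015 D208211) (tt N68425 F215175))
theorem Q69627 : ∀ i, i < 69627 → P i := stepQ 69626 Q69626 (allL N69626 (tt N105016 D208212) (tt N105017 D208213) (tt N56089 F215178) (tt N56290 F215179) (tt N105015 (iv4 F448383)) (tt N42218 F314514) (tt N38311 (iv6 D133703)) (tt N42217 F314515))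
theorem Q69628 : ∀ i, i < 69628 → P i := stepQ 69627 Q69627 (allL N69627 (tt N68435 F215191) (tt N68434 F215192) (tt N38316 F215188) (tt N100783 (iv3 F430450)) (tt N38312 (iv4 D133707)) (tt N68443 F215190) (tt N86778 (iv6 F377151)) (tt N68428 F215189))
theorem Q69629 : ∀ i, i < 69629 → P i := stepQ 69628 Q69628 (allL N69628 (tt N63729 F348330) (tt N77629 (iv0 F348328)) (tt N38323 F215198) (tt N63734 (iv3 F311126)) (tt N38314 F215200) (tt N73869 F348327) (tt N38313 (iv6 D133709)) (tt N68365 F215201))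
theorem Q69630 : ∀ i, i < 69630 → P i := stepQ 69629 Q69629 (allL N69629 (tt N38326 (iv1 F215207)) (tt N38314 (iv0 D133710)) (tt N38324 F235573) (tt N68455 (iv3 F337667)) (tt N42710 F309464) (tt N42319 F320085) (tt N42708 F309465) (tt N38325 F235574))
theorem Q69631 : ∀ i, i < 69631 → P i := stepQ 69630 Q69630 (allL N69630 (tt N38325 (iv1 F215208)) (tt N38324 F215209) (tt N38326 F215203) (tt N48478 F314585) (tt N68365 F215205) (tt N44048 (iv5 F319819)) (tt N48137 F307943) (tt N38314 (iv7 D133712)))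
theorem Q69632 : ∀ i, i < 69632 → P i := stepQ 69631 Q69631 (allL N69631 (tt N68428 (iv1 F215214)) (tt N38316 (iv0 D133715)) (tt N68435 (iv2 F215215)) (tt N76643 F340668) (tt N57433 F215213) (tt N76631 (iv5 F340669)) (tt N98724 (iv6 F422022)) (tt N68434 (iv7 F215216)))
theorem Q69633 : ∀ i, i < 69633 → P i := stepQ 69632 Q69632 (allL N69632 (tt N38316 (iv1 D133716)) (tt N68428 F215217) (tt N68434 (iv2 F215220)) (tt N97262 (iv3 F416122)) (tt N56628 F215219) (tt N45226 F334830) (tt N45227 F334831) (tt N68435 F215218))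
theorem Q69634 : ∀ i, i < 69634 → P i := stepQ 69633 Q69633 (allL N69633 (tt N41785 F313460) (tt N76129 F313461) (tt N68443 F215223) (tt N92818 (iv3 F398368)) (tt N41773 F313462) (tt N38316 (iv5 D133718)) (tt N99561 (iv6 F425167)) (tt N68437 F215224))
theorem Q69635 : ∀ i, i < 69635 → P i := stepQ 69634 Q69634 (allL N69634 (tt N105018 D208214) (tt N105019 D208215) (tt N86778 (iv2 F377150)) (tt N51775 (iv3 F331354)) (tt N38317 F215226) (tt N87159 (iv5 F378574)) (tt N38316 (iv6 D133719)) (tt N52090 F331358))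
theorem Q69636 : ∀ i, i < 69636 → P i := stepQ 69635 Q69635 (allL N69635 (tt N47694 F306070) (tt N47693 F306071) (tt N47696 (iv2 F308023)) (tt N38320 F215243) (tt N77191 F306072) (tt N76042 (iv5 F236017)) (tt N38318 (iv6 D133726)) (tt N47692 F306073))
theorem Q69637 : ∀ i, i < 69637 → P i := stepQ 69636 Q69636 (allL N69636 (tt N42828 (iv1 F309926)) (tt N42825 F309832) (tt N42612 (iv2 F312022)) (tt N75778 F309833) (tt N76631 F335875) (tt N38319 (iv5 D133728)) (tt N88192 F382108) (tt N68442 F215246))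
theorem Q69638 : ∀ i, i < 69638 → P i := stepQ 69637 Q69637 (allL N69637 (tt N67101 F222357) (tt N80086 F306075) (tt N42606 (iv2 F307999)) (tt N76042 (iv3 F236016)) (tt N105020 D208216) (tt N38320 (iv5 D133731)) (tt N44977 F215255) (tt N80085 F306076))
theorem Q69639 : ∀ i, i < 69639 → P i := stepQ 69638 Q69638 (allL N69638 (tt N77546 F357839) (tt N65210 F310046) (tt N64906 F310047) (tt N38321 (iv3 D133733)) (tt N48204 (iv4 F311082)) (tt N75690 (iv5 F347611)) (tt N63528 F310048) (tt N64588 (iv7 F312065)))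
theorem Q69640 : ∀ i, i < 69640 → P i := stepQ 69639 Q69639 (allL N69639 (tt N76129 F314148) (tt N41785 F314149) (tt N68437 F215271) (tt N100157 (iv3 F427751)) (tt N38322 (iv4 D133735)) (tt N68428 F215272) (tt N92220 (iv6 F396328)) (tt N68443 F215273))
theorem Q69641 : ∀ i, i < 69641 → P i := stepQ 69640 Q69640 (allL N69640 (tt N38323 (iv1 D133738)) (tt N68365 F215277) (tt N77629 F361471) (tt N65247 (iv3 F361465)) (tt N78290 (iv4 F247703)) (tt N63769 (iv5 F342592)) (tt N63632 F342588) (tt N63729 F361474))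
theorem Q69642 : ∀ i, i < 69642 → P i := stepQ 69641 Q69641 (allL N69641 (tt N68451 (iv1 F344136)) (tt N68457 (iv0 F344122)) (tt N47723 F344123) (tt N38325 (iv3 D133747)) (tt N45914 F344124) (tt N99447 (iv5 F424625)) (tt N47721 F344125) (tt N68455 F344126))
theorem Q69643 : ∀ i, i < 69643 → P i := stepQ 69642 Q69642 (allL N69642 (tt N104220 (iv1 F444773)) (tt N74524 (iv0 F235424)) (tt N68473 F215288) (tt N69325 (iv3 F346988)) (tt N38328 (iv4 D133751)) (tt N69323 (iv5 F359264)) (tt N75838 (iv6 F234301)) (tt N63603 (iv7 F344034)))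
theorem Q69644 : ∀ i, i < 69644 → P i := stepQ 69643 Q69643 (allL N69643 (tt N38386 (iv1 F215317)) (tt N44531 F215318) (tt N44529 F215314) (tt N64362 (iv3 F305312)) (tt N54141 (iv4 F309041)) (tt N66890 F215315) (tt N38380 F215316) (tt N38331 (iv7 D133757)))
theorem Q69645 : ∀ i, i < 69645 → P i := stepQ 69644 Q69644 (allL N69644 (tt N74529 F228259) (tt N105021 D208217) (tt N57442 F215319) (tt N38333 F215320) (tt N64629 (iv4 F348267)) (tt N67068 F215322) (tt N38332 (iv6 D133758)) (tt N64625 F348269))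
theorem Q69646 : ∀ i, i < 69646 → P i := stepQ 69645 Q69645 (allL N69645 (tt N68413 (iv1 F215347)) (tt N46519 F304899) (tt N68414 F215343) (tt N64625 (iv3 F348257)) (tt N67058 F215344) (tt N67074 F215345) (tt N64623 (iv6 F304893)) (tt N38333 (iv7 D133762)))
theorem Q69647 : ∀ i, i < 69647 → P i := stepQ 69646 Q69646 (allL N69646 (tt N74526 F232866) (tt N81319 (iv0 F337601)) (tt N68485 F215378) (tt N79727 F333447) (tt N38338 (iv4 D133769)) (tt N59969 (iv5 F333428)) (tt N76106 (iv6 F236402)) (tt N68447 F215379))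
theorem Q69648 : ∀ i, i < 69648 → P i := stepQ 69647 Q69647 (allL N69647 (tt N57434 F215391) (tt N57445 F215392) (tt N43063 F215389) (tt N94023 (iv3 F402851)) (tt N38340 (iv4 D133772)) (tt N101473 (iv5 F433073)) (tt N86777 (iv6 F377147)) (tt N43065 F215390))
theorem Q69649 : ∀ i, i < 69649 → P i := stepQ 69648 Q69648 (allL N69648 (tt N43141 F215397) (tt N43018 F215398) (tt N43137 F215395) (tt N48175 F313757) (tt N84825 (iv4 F370760)) (tt N38341 (iv5 D133774)) (tt N84824 F370757) (tt N43138 F215396))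
theorem Q69650 : ∀ i, i < 69650 → P i := stepQ 69649 Q69649 (allL N69649 (tt N69581 F215400) (tt N100002 (iv0 F427137)) (tt N48168 F313758) (tt N48176 F313759) (tt N38342 F215399) (tt N105022 D208218) (tt N38341 (iv6 D133775)) (tt N100004 (iv7 F427147)))
theorem Q69651 : ∀ i, i < 69651 → P i := stepQ 69650 Q69650 (allL N69650 (tt N48477 F332434) (tt N38342 (iv0 D133776)) (tt N75801 (iv2 F234099)) (tt N66851 F215401) (tt N76463 (iv4 F238966)) (tt N80100 (iv5 F261564)) (tt N75794 F233966) (tt N68419 (iv7 F234102)))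
theorem Q69652 : ∀ i, i < 69652 → P i := stepQ 69651 Q69651 (allL N69651 (tt N38342 (iv1 D133777)) (tt N48477 F332435) (tt N68419 F234108) (tt N105023 D208219) (tt N76464 F332436) (tt N99456 (iv5 F424664)) (tt N47674 F333284) (tt N75801 F234107))
theorem Q69653 : ∀ i, i < 69653 → P i := stepQ 69652 Q69652 (allL N69652 (tt N68419 F215410) (tt N75801 (iv0 F234100)) (tt N48477 F311130) (tt N38344 F215402) (tt N100004 (iv4 F427148)) (tt N44049 F318758) (tt N48465 F310021) (tt N38342 (iv7 D133778)))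
theorem Q69654 : ∀ i, i < 69654 → P i := stepQ 69653 Q69653 (allL N69653 (tt N44817 (iv1 F311276)) (tt N46808 (iv0 F311277)) (tt N43159 F215414) (tt N70529 (iv3 F217635)) (tt N38345 (iv4 D133782)) (tt N67746 F215416) (tt N80367 (iv6 F353861)) (tt N46812 F311920))
theorem Q69655 : ∀ i, i < 69655 → P i := stepQ 69654 Q69654 (allL N69654 (tt N43535 F309115) (tt N40041 F313937) (tt N68023 F215418) (tt N65264 F309116) (tt N80367 F309117) (tt N40848 F320145) (tt N38345 (iv6 D133783)) (tt N76729 F309119))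
theorem Q69656 : ∀ i, i < 69656 → P i := stepQ 69655 Q69655 (allL N69655 (tt N63325 (iv1 F311686)) (tt N40027 F248141) (tt N65266 (iv2 F311684)) (tt N38346 (iv3 D133784)) (tt N70525 (iv4 F217631)) (tt N39992 F215419) (tt N63090 (iv6 F366371)) (tt N68022 F215420))
theorem Q69657 : ∀ i, i < 69657 → P i := stepQ 69656 Q69656 (allL N69656 (tt N99945 (iv1 F426905)) (tt N72401 F247315) (tt N38353 F215473) (tt N63109 F309930) (tt N38351 F215474) (tt N78710 F309931) (tt N38350 (iv6 D133817)) (tt N77614 F309932))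
theorem Q69658 : ∀ i, i < 69658 → P i := stepQ 69657 Q69657 (allL N69657 (tt N38356 (iv1 F215479)) (tt N38351 (iv0 D133818)) (tt N38354 F309933) (tt N68504 (iv3 F337041)) (tt N46504 F309512) (tt N62969 F355223) (tt N46493 (iv6 F311702)) (tt N38355 F309934))
theorem Q69659 : ∀ i, i < 69659 → P i := stepQ 69658 Q69658 (allL N69658 (tt N38351 (iv1 D133819)) (tt N38356 F215475) (tt N38355 F309028) (tt N46498 F307152) (tt N46510 F307153) (tt N92573 (iv5 F397430)) (tt N72396 (iv6 F282936)) (tt N38354 F309029))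
theorem Q69660 : ∀ i, i < 69660 → P i := stepQ 69659 Q69659 (allL N69659 (tt N38355 (iv1 F215480)) (tt N38354 F215481) (tt N38356 F215476) (tt N66856 F215477) (tt N77614 F309510) (tt N56130 F309511) (tt N68574 F215478) (tt N38351 (iv7 D133820)))
theorem Q69661 : ∀ i, i < 69661 → P i := stepQ 69660 Q69660 (allL N69660 (tt N75627 F312072) (tt N43247 F312073) (tt N75628 (iv2 F312176)) (tt N64203 F312074) (tt N38352 (iv4 D133821)) (tt N64167 F215483) (tt N105024 D208220) (tt N68576 F215482))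
theorem Q69662 : ∀ i, i < 69662 → P i := stepQ 69661 Q69661 (allL N69661 (tt N63063 (iv1 F315985)) (tt N63062 (iv0 F315986)) (tt N46234 F312077) (tt N44862 F313519) (tt N105024 (iv4 F448436)) (tt N99871 (iv5 F426627)) (tt N38352 (iv6 D133822)) (tt N63058 (iv7 F315988)))
theorem Q69663 : ∀ i, i < 69663 → P i := stepQ 69662 Q69662 (allL N69662 (tt N38353 (iv1 D133824)) (tt N77614 F313523) (tt N72401 (iv2 F252514)) (tt N77457 F313524) (tt N79096 F252501) (tt N63630 F313525) (tt N72389 (iv6 F313506)) (tt N99945 (iv7 F426906)))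
theorem Q69664 : ∀ i, i < 69664 → P i := stepQ 69663 Q69663 (allL N69663 (tt N68500 (iv1 F344907)) (tt N68506 (iv0 F344904)) (tt N68505 (iv2 F337048)) (tt N38355 (iv3 D133833)) (tt N103757 (iv4 F442693)) (tt N92580 (iv5 F397470)) (tt N103756 F442690) (tt N68504 F337044))
theorem Q69665 : ∀ i, i < 69665 → P i := stepQ 69664 Q69664 (allL N69664 (tt N46509 F334075) (tt N46508 F334076) (tt N46510 F334077) (tt N66716 F334078) (tt N38355 (iv4 D133834)) (tt N80458 F360669) (tt N76164 F334079) (tt N46504 F334080))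
theorem Q69666 : ∀ i, i < 69666 → P i := stepQ 69665 Q69665 (allL N69665 (tt N72387 F334084) (tt N72398 F334085) (tt N72396 F334082) (tt N103756 (iv3 F442689)) (tt N76164 (iv4 F334081)) (tt N90730 F390671) (tt N38355 (iv6 D133836)) (tt N72395 F334083))
theorem Q69667 : ∀ i, i < 69667 → P i := stepQ 69666 Q69666 (allL N69666 (tt N68534 (iv1 F337071)) (tt N68491 (iv0 F247851)) (tt N68516 F335005) (tt N104800 (iv3 F447342)) (tt N38357 (iv4 D133840)) (tt N81287 F344380) (tt N44782 F344381) (tt N68519 (iv7 F323851)))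
theorem Q69668 : ∀ i, i < 69668 → P i := stepQ 69667 Q69667 (allL N69667 (tt N85806 F374036) (tt N41415 F278616) (tt N68517 F339767) (tt N38358 F215495) (tt N98319 (iv4 F420485)) (tt N38357 (iv5 D133841)) (tt N74849 (iv6 F339769)) (tt N68520 (iv7 F323854)))
theorem Q69669 : ∀ i, i < 69669 → P i := stepQ 69668 Q69668 (allL N69668 (tt N68499 F278617) (tt N68557 F278620) (tt N68518 (iv2 F324171)) (tt N38359 F215497) (tt N44782 F344382) (tt N44017 F317621) (tt N38357 (iv6 D133842)) (tt N68556 (iv7 F321620)))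
theorem Q69670 : ∀ i, i < 69670 → P i := stepQ 69669 Q69669 (allL N69669 (tt N44522 (iv1 F215539)) (tt N43426 F215540) (tt N44521 F215536) (tt N62551 F345695) (tt N38366 F215537) (tt N62550 (iv5 F345693)) (tt N68564 F215538) (tt N38364 (iv7 D133852)))
theorem Q69671 : ∀ i, i < 69671 → P i := stepQ 69670 Q69670 (allL N69670 (tt N38370 (iv1 D133857)) (tt N44788 F315472) (tt N52819 F322998) (tt N68585 (iv3 F215566)) (tt N46787 (iv4 F324402)) (tt N67934 F215565) (tt N44774 F322999) (tt N67965 F215564))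
theorem Q69672 : ∀ i, i < 69672 → P i := stepQ 69671 Q69671 (allL N69671 (tt N67965 (iv1 F215575)) (tt N52819 (iv0 F321372)) (tt N38370 (iv2 D133858)) (tt N44778 F315442) (tt N63243 F215571) (tt N66237 (iv5 F327905)) (tt N66239 (iv6 F348187)) (tt N44788 F315443))
theorem Q69673 : ∀ i, i < 69673 → P i := stepQ 69672 Q69672 (allL N69672 (tt N38374 (iv1 F215578)) (tt N38371 (iv0 D133860)) (tt N46239 F310789) (tt N72394 (iv3 F222399)) (tt N68977 F215577) (tt N48148 (iv5 F313025)) (tt N66848 F310790) (tt N46517 F310791))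
theorem Q69674 : ∀ i, i < 69674 → P i := stepQ 69673 Q69673 (allL N69673 (tt N57686 F215586) (tt N66823 F310794) (tt N72191 (iv2 F221616)) (tt N38371 (iv3 D133862)) (tt N70098 (iv4 F216689)) (tt N57674 F215584) (tt N105025 D208221) (tt N68019 F215585))
theorem Q69675 : ∀ i, i < 69675 → P i := stepQ 69674 Q69674 (allL N69674 (tt N46482 F310796) (tt N42616 F310797) (tt N46484 (iv2 F313022)) (tt N105025 (iv3 F448440)) (tt N38372 F215588) (tt N46227 F310798) (tt N38371 (iv6 D133863)) (tt N46483 F310799))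
theorem Q69676 : ∀ i, i < 69676 → P i := stepQ 69675 Q69675 (allL N69675 (tt N68021 (iv1 F215593)) (tt N38372 (iv0 D133864)) (tt N66879 F313046) (tt N68583 (iv3 F354051)) (tt N43535 F313047) (tt N103091 (iv5 F440021)) (tt N43534 F313048) (tt N68020 F358472))
theorem Q69677 : ∀ i, i < 69677 → P i := stepQ 69676 Q69676 (allL N69676 (tt N68020 (iv1 F215594)) (tt N66879 (iv0 F314367)) (tt N68021 F215591) (tt N66433 (iv3 F353099)) (tt N46483 F311948) (tt N66424 F353100) (tt N66835 F311949) (tt N38372 (iv7 D133867)))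
theorem Q69678 : ∀ i, i < 69678 → P i := stepQ 69677 Q69677 (allL N69677 (tt N77584 F308674) (tt N43146 F308675) (tt N44790 F308676) (tt N38375 F215610) (tt N76023 F308677) (tt N60374 F342478) (tt N38373 (iv6 D133871)) (tt N60373 (iv7 F323470)))
theorem Q69679 : ∀ i, i < 69679 → P i := stepQ 69678 Q69678 (allL N69678 (tt N46311 F319347) (tt N46307 F319348) (tt N46308 (iv2 F330146)) (tt N60374 F341208) (tt N65730 (iv4 F330157)) (tt N38375 (iv5 D133875)) (tt N46156 F337762) (tt N46309 F330145))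
theorem Q69680 : ∀ i, i < 69680 → P i := stepQ 69679 Q69679 (allL N69679 (tt N44596 F215803) (tt N42110 F308225) (tt N41616 F215800) (tt N43256 F305783) (tt N38378 (iv4 D133945)) (tt N48388 F305784) (tt N44879 F215801) (tt N41613 F215802))
theorem Q69681 : ∀ i, i < 69681 → P i := stepQ 69680 Q69680 (allL N69680 (tt N75634 (iv1 F333337)) (tt N68567 (iv0 F282892)) (tt N38382 F215804) (tt N42465 F305414) (tt N52375 (iv4 F306565)) (tt N63066 (iv5 F317790)) (tt N38381 (iv6 D133946)) (tt N75632 (iv7 F317811)))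
theorem Q69682 : ∀ i, i < 69682 → P i := stepQ 69681 Q69681 (allL N69681 (tt N75632 (iv1 F317807)) (tt N38382 (iv0 D133949)) (tt N75634 F350183) (tt N105026 D208222) (tt N69682 F340961) (tt N44018 F343017) (tt N100655 (iv6 F429866)) (tt N68567 F350179))
theorem Q69683 : ∀ i, i < 69683 → P i := stepQ 69682 Q69682 (allL N69682 (tt N38382 (iv1 D133950)) (tt N75632 (iv0 F317806)) (tt N68567 F350178) (tt N64364 F340962) (tt N69681 (iv4 F340961)) (tt N44019 F343016) (tt N66854 (iv6 F340963)) (tt N75634 (iv7 F340964)))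
theorem Q69684 : ∀ i, i < 69684 → P i := stepQ 69683 Q69683 (allL N69683 (tt N72396 (iv1 F222402)) (tt N72395 F222409) (tt N72398 (iv2 F222406)) (tt N38385 F215882) (tt N72390 (iv4 F222360)) (tt N75960 (iv5 F309025)) (tt N38384 (iv6 D133965)) (tt N72387 (iv7 F222355)))
theorem Q69685 : ∀ i, i < 69685 → P i := stepQ 69684 Q69684 (allL N69684 (tt N59493 (iv1 F215892)) (tt N38388 (iv0 D133969)) (tt N59492 F360750) (tt N93436 (iv3 F400741)) (tt N79288 (iv4 F360744)) (tt N96426 (iv5 F412472)) (tt N79287 F360745) (tt N59491 F360748))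
theorem Q69686 : ∀ i, i < 69686 → P i := stepQ 69685 Q69685 (allL N69685 (tt N38388 (iv1 D133970)) (tt N59493 F215897) (tt N59491 (iv2 F360749)) (tt N100924 F430986) (tt N102274 (iv4 F436493)) (tt N96427 (iv5 F412476)) (tt N100921 (iv6 F430987)) (tt N59492 (iv7 F360751)))
theorem Q69687 : ∀ i, i < 69687 → P i := stepQ 69686 Q69686 (allL N69686 (tt N59492 (iv1 F215898)) (tt N59491 F215896) (tt N38388 (iv2 D133971)) (tt N59497 F215893) (tt N57302 F215894) (tt N98189 (iv5 F419911)) (tt N70201 (iv6 F216946)) (tt N59493 F215895))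
theorem Q69688 : ∀ i, i < 69688 → P i := stepQ 69687 Q69687 (allL N69687 (tt N105027 D208223) (tt N86051 (iv0 F387851)) (tt N98189 (iv2 F419909)) (tt N38389 F215899) (tt N98169 (iv4 F419814)) (tt N38388 (iv5 D133972)) (tt N86141 (iv6 F394207)) (tt N59444 F215900))
theorem Q69689 : ∀ i, i < 69689 → P i := stepQ 69688 Q69688 (allL N69688 (tt N105028 D208224) (tt N105029 D208225) (tt N59447 F215901) (tt N86141 F394206) (tt N62253 F215902) (tt N70203 (iv5 F216955)) (tt N38389 (iv6 D133973)) (tt N101325 (iv7 F432658)))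
theorem Q69690 : ∀ i, i < 69690 → P i := stepQ 69689 Q69689 (allL N69689 (tt N40771 F215904) (tt N99563 F425182) (tt N67136 F215903) (tt N93739 F401726) (tt N38390 (iv4 D133974)) (tt N105030 D208226) (tt N105031 D208227) (tt N72415 (iv7 F222473)))
theorem Q69691 : ∀ i, i < 69691 → P i := stepQ 69690 Q69690 (allL N69690 (tt N99374 (iv1 F424338)) (tt N40072 F393165) (tt N72419 (iv2 F222482)) (tt N96109 (iv3 F411098)) (tt N75141 F230338) (tt N38390 (iv5 D133975)) (tt N86285 (iv6 F375690)) (tt N72416 (iv7 F222477)))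
theorem Q69692 : ∀ i, i < 69692 → P i := stepQ 69691 Q69691 (allL N69691 (tt N73297 (iv1 F393164)) (tt N73231 F393163) (tt N72420 (iv2 F222484)) (tt N96110 (iv3 F411102)) (tt N105031 (iv4 F448473)) (tt N105032 D208228) (tt N38390 (iv6 D133976)) (tt N73296 (iv7 F393173)))
theorem Q69693 : ∀ i, i < 69693 → P i := stepQ 69692 Q69692 (allL N69692 (tt N73428 F224824) (tt N73430 (iv0 F390054)) (tt N93328 (iv2 F400420)) (tt N38391 (iv3 D133977)) (tt N93327 (iv4 F400418)) (tt N105033 D208229) (tt N51178 (iv6 F372454)) (tt N72418 (iv7 F222481)))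
theorem Q69694 : ∀ i, i < 69694 → P i := stepQ 69693 Q69693 (allL N69693 (tt N99563 (iv1 F425181)) (tt N40771 (iv0 F215906)) (tt N72415 (iv2 F222471)) (tt N41079 (iv3 F215907)) (tt N38391 (iv4 D133978)) (tt N105034 D208230) (tt N105035 D208231) (tt N67136 F215905))
theorem Q69695 : ∀ i, i < 69695 → P i := stepQ 69694 Q69694 (allL N69694 (tt N40072 F393166) (tt N99374 F424339) (tt N72416 (iv2 F222475)) (tt N105033 (iv3 F448480)) (tt N105036 D208232) (tt N38391 (iv5 D133979)) (tt N105037 D208233) (tt N72419 (iv7 F222483)))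
theorem Q69696 : ∀ i, i < 69696 → P i := stepQ 69695 Q69695 (allL N69695 (tt N62422 F424340) (tt N91090 (iv0 F391885)) (tt N72417 (iv2 F222478)) (tt N51178 F372455) (tt N105035 (iv4 F448490)) (tt N51176 (iv5 F372456)) (tt N38391 (iv6 D133980)) (tt N105038 D208234))
theorem Q69697 : ∀ i, i < 69697 → P i := stepQ 69696 Q69696 (allL N69696 (tt N72424 (iv1 F222491)) (tt N72423 F222490) (tt N38393 F215908) (tt N69715 (iv3 F215940)) (tt N105039 D208235) (tt N38392 (iv5 D133981)) (tt N98114 (iv6 F419512)) (tt N72421 (iv7 F222486)))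
theorem Q69698 : ∀ i, i < 69698 → P i := stepQ 69697 Q69697 (allL N69697 (tt N72421 (iv1 F222488)) (tt N38393 (iv0 D133982)) (tt N72424 (iv2 F357527)) (tt N90044 (iv3 F388398)) (tt N75580 F357528) (tt N62255 (iv5 F357530)) (tt N85383 (iv6 F372431)) (tt N72423 (iv7 F357529)))
theorem Q69699 : ∀ i, i < 69699 → P i := stepQ 69698 Q69698 (allL N69698 (tt N38393 (iv1 D133983)) (tt N72421 F222487) (tt N72423 F357526) (tt N85388 (iv3 F372461)) (tt N94589 (iv4 F405091)) (tt N62256 (iv5 F357459)) (tt N89088 (iv6 F385113)) (tt N72424 (iv7 F357520)))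
theorem Q69700 : ∀ i, i < 69700 → P i := stepQ 69699 Q69699 (allL N69699 (tt N91176 (iv1 F396202)) (tt N105040 D208236) (tt N105039 (iv2 F448511)) (tt N105041 D208237) (tt N38393 (iv4 D133984)) (tt N105042 D208238) (tt N101330 (iv6 F432677)) (tt N72425 (iv7 F222492)))
theorem Q69701 : ∀ i, i < 69701 → P i := stepQ 69700 Q69700 (allL N69700 (tt N105043 D208239) (tt N105044 D208240) (tt N105045 D208241) (tt N38394 (iv3 D133986)) (tt N105041 (iv4 F448519)) (tt N59341 F215911) (tt N101331 (iv6 F432678)) (tt N59446 F215912))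
theorem Q69702 : ∀ i, i < 69702 → P i := stepQ 69701 Q69701 (allL N69701 (tt N92412 (iv1 F396935)) (tt N38395 (iv0 D133991)) (tt N92411 (iv2 F410458)) (tt N102653 (iv3 F438069)) (tt N95963 F410457) (tt N105046 D208242) (tt N105047 D208243) (tt N92410 (iv7 F410461)))
theorem Q69703 : ∀ i, i < 69703 → P i := stepQ 69702 Q69702 (allL N69702 (tt N38395 (iv1 D133992)) (tt N92412 F396936) (tt N92410 F410462) (tt N93701 (iv3 F401616)) (tt N95966 (iv4 F410467)) (tt N105048 D208244) (tt N105049 D208245) (tt N92411 F410460))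
theorem Q69704 : ∀ i, i < 69704 → P i := stepQ 69703 Q69703 (allL N69703 (tt N92411 F396931) (tt N92410 F396929) (tt N38395 (iv2 D133993)) (tt N71066 (iv3 F219375)) (tt N38402 F215916) (tt N56017 (iv5 F364295)) (tt N59280 F215917) (tt N92412 (iv7 F396934)))
theorem Q69705 : ∀ i, i < 69705 → P i := stepQ 69704 Q69704 (allL N69704 (tt N77498 F336185) (tt N99555 (iv0 F425139)) (tt N56017 F336186) (tt N38396 F215918) (tt N40583 F336187) (tt N38395 (iv5 D133994)) (tt N40581 F336188) (tt N92365 (iv7 F396825)))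
theorem Q69706 : ∀ i, i < 69706 → P i := stepQ 69705 Q69705 (allL N69705 (tt N95316 (iv1 F407832)) (tt N39238 F336189) (tt N71068 (iv2 F219381)) (tt N40581 F336190) (tt N58447 F215919) (tt N59282 F215920) (tt N38396 (iv6 D133995)) (tt N56023 F336191))
theorem Q69707 : ∀ i, i < 69707 → P i := stepQ 69706 Q69706 (allL N69706 (tt N59616 (iv1 F215926)) (tt N59615 F215927) (tt N59617 F215921) (tt N65693 F215922) (tt N59375 F215923) (tt N57712 F215924) (tt N59590 F215925) (tt N38397 (iv7 D133996)))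
theorem Q69708 : ∀ i, i < 69708 → P i := stepQ 69707 Q69707 (allL N69707 (tt N64505 (iv1 F343843)) (tt N64851 F343842) (tt N59000 F215928) (tt N99162 (iv3 F423535)) (tt N59373 F215929) (tt N59565 (iv5 F343844)) (tt N38398 (iv6 D133997)) (tt N59564 (iv7 F343840)))
theorem Q69709 : ∀ i, i < 69709 → P i := stepQ 69708 Q69708 (allL N69708 (tt N73871 (iv1 F226067)) (tt N71896 (iv0 F220833)) (tt N71762 (iv2 F220518)) (tt N38400 (iv3 D134000)) (tt N70951 F218877) (tt N105050 D208246) (tt N99914 (iv6 F426799)) (tt N71765 (iv7 F220532)))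
theorem Q69710 : ∀ i, i < 69710 → P i := stepQ 69709 Q69709 (allL N69709 (tt N105051 D208247) (tt N73811 F353532) (tt N55973 F215936) (tt N69039 (iv3 F347213)) (tt N38400 (iv4 D134001)) (tt N69038 (iv5 F353531)) (tt N105052 D208248) (tt N99364 (iv7 F424300)))
theorem Q69711 : ∀ i, i < 69711 → P i := stepQ 69710 Q69710 (allL N69710 (tt N72503 (iv1 F355997)) (tt N58131 (iv0 F355996)) (tt N72506 (iv2 F372575)) (tt N105050 (iv3 F448563)) (tt N98426 (iv4 F420892)) (tt N38400 (iv5 D134002)) (tt N104142 F444393) (tt N72505 F372574))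
theorem Q69712 : ∀ i, i < 69712 → P i := stepQ 69711 Q69711 (allL N69711 (tt N105053 D208249) (tt N40571 F424312) (tt N99366 (iv2 F424306)) (tt N99914 F426803) (tt N105052 (iv4 F448572)) (tt N105054 D208250) (tt N38400 (iv6 D134003)) (tt N105055 D208251))
theorem Q69713 : ∀ i, i < 69713 → P i := stepQ 69712 Q69712 (allL N69712 (tt N73811 (iv1 F353533)) (tt N105051 F448568) (tt N99364 (iv2 F424297)) (tt N40586 F215937) (tt N38401 (iv4 D134004)) (tt N101859 (iv5 F434704)) (tt N105056 D208252) (tt N55973 F215938))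
theorem Q69714 : ∀ i, i < 69714 → P i := stepQ 69713 Q69713 (allL N69713 (tt N58131 (iv1 F372577)) (tt N72503 F372576) (tt N72505 F372572) (tt N72760 F223175) (tt N105057 D208253) (tt N38401 (iv5 D134005)) (tt N105058 D208254) (tt N72506 (iv7 F372571)))
theorem Q69715 : ∀ i, i < 69715 → P i := stepQ 69714 Q69714 (allL N69714 (tt N99502 F424887) (tt N99532 F425011) (tt N99365 (iv2 F424303)) (tt N73868 (iv3 F226058)) (tt N105056 (iv4 F448589)) (tt N105059 D208255) (tt N38401 (iv6 D134006)) (tt N99531 (iv7 F425004)))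
theorem Q69716 : ∀ i, i < 69716 → P i := stepQ 69715 Q69715 (allL N69715 (tt N95019 (iv1 F406672)) (tt N95018 (iv0 F406662)) (tt N38403 F215939) (tt N69696 F215940) (tt N63467 F406664) (tt N38402 (iv5 D134007)) (tt N75650 (iv6 F364975)) (tt N98386 (iv7 F420728)))
theorem Q69717 : ∀ i, i < 69717 → P i := stepQ 69716 Q69716 (allL N69716 (tt N38403 (iv1 D134009)) (tt N98386 F420727) (tt N95018 (iv2 F406658)) (tt N99428 (iv3 F424537)) (tt N41407 F353542) (tt N40089 F353543) (tt N64819 (iv6 F356868)) (tt N95019 (iv7 F406670)))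
theorem Q69718 : ∀ i, i < 69718 → P i := stepQ 69717 Q69717 (allL N69717 (tt N63416 (iv1 F353539)) (tt N63469 F353536) (tt N63467 (iv2 F406665)) (tt N61155 F353544) (tt N38403 (iv4 D134010)) (tt N79922 F353540) (tt N98583 F421457) (tt N63466 F364000))
theorem Q69719 : ∀ i, i < 69719 → P i := stepQ 69718 Q69718 (allL N69718 (tt N75641 F331641) (tt N63051 F331642) (tt N75650 F331643) (tt N38405 F215941) (tt N98583 (iv4 F421454)) (tt N44036 F331644) (tt N38403 (iv6 D134011)) (tt N64780 (iv7 F331652)))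
theorem Q69720 : ∀ i, i < 69720 → P i := stepQ 69719 Q69719 (allL N69719 (tt N99159 (iv1 F423521)) (tt N99161 (iv0 F423533)) (tt N83252 (iv2 F354430)) (tt N38404 (iv3 D134012)) (tt N68326 F354330) (tt N40067 F215943) (tt N83229 F354422) (tt N58994 F215944))
theorem Q69721 : ∀ i, i < 69721 → P i := stepQ 69720 Q69720 (allL N69720 (tt N53472 F337435) (tt N53471 F337436) (tt N50641 (iv2 F337440)) (tt N83229 F337437) (tt N59394 F215946) (tt N40138 F337438) (tt N38404 (iv6 D134013)) (tt N46748 F337439))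
theorem Q69722 : ∀ i, i < 69722 → P i := stepQ 69721 Q69721 (allL N69721 (tt N64491 (iv1 F342793)) (tt N38405 (iv0 D134014)) (tt N64786 (iv2 F362804)) (tt N105060 D208256) (tt N59660 F401100) (tt N69902 (iv5 F362805)) (tt N64841 F363298) (tt N64785 F362803))
theorem Q69723 : ∀ i, i < 69723 → P i := stepQ 69722 Q69722 (allL N69722 (tt N38405 (iv1 D134015)) (tt N64491 (iv0 F342792)) (tt N64785 F362800) (tt N105061 D208257) (tt N59661 F363105) (tt N58053 F362801) (tt N58045 (iv6 F362799)) (tt N64786 (iv7 F362802)))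
theorem Q69724 : ∀ i, i < 69724 → P i := stepQ 69723 Q69723 (allL N69723 (tt N78127 F246112) (tt N105062 D208258) (tt N78005 (iv2 F245551)) (tt N38406 (iv3 D134017)) (tt N57521 F215953) (tt N59312 F215954) (tt N105063 D208259) (tt N38464 F215955))
theorem Q69725 : ∀ i, i < 69725 → P i := stepQ 69724 Q69724 (allL N69724 (tt N39875 F215958) (tt N39877 F215959) (tt N38437 F215956) (tt N105063 (iv3 F448620)) (tt N38407 F215957) (tt N99529 (iv5 F424997)) (tt N38406 (iv6 D134018)) (tt N96190 (iv7 F411413)))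
theorem Q69726 : ∀ i, i < 69726 → P i := stepQ 69725 Q69725 (allL N69725 (tt N38407 (iv1 D134019)) (tt N38440 F215960) (tt N38439 F215964) (tt N53977 (iv3 F328167)) (tt N59219 F215965) (tt N38694 (iv5 F215963)) (tt N96003 (iv6 F410590)) (tt N38438 F215961))
theorem Q69727 : ∀ i, i < 69727 → P i := stepQ 69726 Q69726 (allL N69726 (tt N38439 (iv1 F215972)) (tt N38438 F215973) (tt N38440 F215968) (tt N57525 F215969) (tt N96190 (iv4 F411410)) (tt N67124 F215970) (tt N38468 F215971) (tt N38407 (iv7 D134020)))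
theorem Q69728 : ∀ i, i < 69728 → P i := stepQ 69727 Q69727 (allL N69727 (tt N38472 (iv1 F215978)) (tt N38408 (iv0 D134022)) (tt N38471 (iv2 F215981)) (tt N105064 D208260) (tt N104506 (iv4 F446056)) (tt N69893 F365396) (tt N90234 (iv6 F389021)) (tt N38470 (iv7 F215983)))
theorem Q69729 : ∀ i, i < 69729 → P i := stepQ 69728 Q69728 (allL N69728 (tt N38408 (iv1 D134023)) (tt N38472 F215984) (tt N38470 F215982) (tt N39641 F352621) (tt N67704 (iv4 F215979)) (tt N69894 (iv5 F365400)) (tt N70311 F365404) (tt N38471 F215980))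
theorem Q69730 : ∀ i, i < 69730 → P i := stepQ 69729 Q69729 (allL N69729 (tt N38471 (iv1 F215988)) (tt N38470 F215987) (tt N38408 (iv2 D134024)) (tt N38450 F215985) (tt N98711 (iv4 F421957)) (tt N78719 F348519) (tt N51597 (iv6 F339541)) (tt N38472 F215986))
theorem Q69731 : ∀ i, i < 69731 → P i := stepQ 69730 Q69730 (allL N69730 (tt N105065 D208261) (tt N105066 D208262) (tt N78719 F348518) (tt N38409 F215989) (tt N65348 (iv4 F354745)) (tt N38408 (iv5 D134025)) (tt N84128 (iv6 F368218)) (tt N38473 F215990))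
theorem Q69732 : ∀ i, i < 69732 → P i := stepQ 69731 Q69731 (allL N69731 (tt N38450 (iv1 F215994)) (tt N38410 (iv0 D134027)) (tt N38449 F347330) (tt N68634 F215993) (tt N87047 F378170) (tt N43740 F347331) (tt N105067 D208263) (tt N38448 F347332))
theorem Q69733 : ∀ i, i < 69733 → P i := stepQ 69732 Q69732 (allL N69732 (tt N38449 (iv1 F216001)) (tt N38448 F215999) (tt N38410 (iv2 D134029)) (tt N38472 F215996) (tt N67289 F215997) (tt N84130 (iv5 F368231)) (tt N82771 (iv6 F349681)) (tt N38450 F215998))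
theorem Q69734 : ∀ i, i < 69734 → P i := stepQ 69733 Q69733 (allL N69733 (tt N84129 (iv1 F368222)) (tt N43780 F361708) (tt N84130 (iv2 F368228)) (tt N38411 F216002) (tt N47583 F339664) (tt N38410 (iv5 D134030)) (tt N84133 (iv6 F368251)) (tt N38451 F216003))
theorem Q69735 : ∀ i, i < 69735 → P i := stepQ 69734 Q69734 (allL N69734 (tt N71620 (iv1 F349665)) (tt N70275 (iv0 F349657)) (tt N82771 (iv2 F349680)) (tt N38412 F216004) (tt N60523 (iv4 F345918)) (tt N54200 F349705) (tt N38410 (iv6 D134031)) (tt N50007 (iv7 F345921)))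
theorem Q69736 : ∀ i, i < 69736 → P i := stepQ 69735 Q69735 (allL N69735 (tt N38479 (iv1 F216010)) (tt N38412 (iv0 D134033)) (tt N38476 (iv2 F216009)) (tt N104643 F446660) (tt N44325 F216008) (tt N71469 (iv5 F365677)) (tt N70261 (iv6 F217092)) (tt N38477 F216011))
theorem Q69737 : ∀ i, i < 69737 → P i := stepQ 69736 Q69736 (allL N69736 (tt N38513 (iv1 F216013)) (tt N38413 (iv0 D134035)) (tt N38512 (iv2 F216017)) (tt N70664 F218071) (tt N104679 (iv4 F446836)) (tt N105065 (iv5 F448628)) (tt N105068 D208264) (tt N38511 (iv7 F216019)))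
theorem Q69738 : ∀ i, i < 69738 → P i := stepQ 69737 Q69737 (allL N69737 (tt N38413 (iv1 D134036)) (tt N38513 F216020) (tt N38511 F216018) (tt N38606 (iv3 F216014)) (tt N67861 (iv4 F216015)) (tt N105066 (iv5 F448635)) (tt N70165 (iv6 F347103)) (tt N38512 F216016))
theorem Q69739 : ∀ i, i < 69739 → P i := stepQ 69738 Q69738 (allL N69738 (tt N38512 (iv1 F216024)) (tt N38511 F216023) (tt N38413 (iv2 D134037)) (tt N38492 F216021) (tt N92252 (iv4 F396477)) (tt N77295 (iv5 F360775)) (tt N105069 D208265) (tt N38513 F216022))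
theorem Q69740 : ∀ i, i < 69740 → P i := stepQ 69739 Q69739 (allL N69739 (tt N69822 (iv1 F350814)) (tt N64466 (iv0 F355518)) (tt N77295 (iv2 F360774)) (tt N38414 F216025) (tt N65344 (iv4 F350811)) (tt N38413 (iv5 D134038)) (tt N100811 (iv6 F430586)) (tt N38514 F216026))
theorem Q69741 : ∀ i, i < 69741 → P i := stepQ 69740 Q69740 (allL N69740 (tt N105070 D208266) (tt N105071 D208267) (tt N105069 (iv2 F448646)) (tt N38415 F216027) (tt N92254 (iv4 F396484)) (tt N105072 D208268) (tt N38413 (iv6 D134039)) (tt N105073 D208269))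
theorem Q69742 : ∀ i, i < 69742 → P i := stepQ 69741 Q69741 (allL N69741 (tt N79152 (iv1 F368214)) (tt N84348 (iv0 F369017)) (tt N38496 F216028) (tt N100811 (iv3 F430585)) (tt N49625 (iv4 F356360)) (tt N100587 (iv5 F429573)) (tt N38414 (iv6 D134040)) (tt N101284 (iv7 F432524)))
theorem Q69743 : ∀ i, i < 69743 → P i := stepQ 69742 Q69742 (allL N69742 (tt N38500 (iv1 F216034)) (tt N38415 (iv0 D134041)) (tt N38497 (iv2 F216030)) (tt N51440 F359592) (tt N58944 F216031) (tt N80516 F363086) (tt N59456 F216032) (tt N38498 F216033))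
theorem Q69744 : ∀ i, i < 69744 → P i := stepQ 69743 Q69743 (allL N69743 (tt N84315 F368876) (tt N105074 D208270) (tt N38499 F216035) (tt N105072 (iv3 F448653)) (tt N105075 D208271) (tt N38415 (iv5 D134042)) (tt N100587 F429574) (tt N105076 D208272))
theorem Q69745 : ∀ i, i < 69745 → P i := stepQ 69744 Q69744 (allL N69744 (tt N38498 (iv1 F216039)) (tt N38497 F216040) (tt N38500 F216036) (tt N105073 (iv3 F448655)) (tt N38417 F216037) (tt N105076 (iv5 F448667)) (tt N38520 F216038) (tt N38415 (iv7 D134043)))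
theorem Q69746 : ∀ i, i < 69746 → P i := stepQ 69745 Q69745 (allL N69745 (tt N40522 F216044) (tt N38569 (iv0 F216045)) (tt N38504 F216041) (tt N70168 (iv3 F216876)) (tt N73226 F350276) (tt N39861 F216042) (tt N38416 (iv6 D134044)) (tt N40566 F216043))
theorem Q69747 : ∀ i, i < 69747 → P i := stepQ 69746 Q69746 (allL N69746 (tt N38526 (iv1 F216046)) (tt N38418 (iv0 D134045)) (tt N38525 F336851) (tt N103246 (iv3 F440763)) (tt N70733 F218207) (tt N73373 F336850) (tt N70169 F363968) (tt N38524 F336852))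
theorem Q69748 : ∀ i, i < 69748 → P i := stepQ 69747 Q69747 (allL N69747 (tt N38418 (iv1 D134046)) (tt N38526 F216051) (tt N38524 F336857) (tt N90635 F390335) (tt N70615 (iv4 F217966)) (tt N90868 (iv5 F391099)) (tt N90632 (iv6 F390337)) (tt N38525 F336858))
theorem Q69749 : ∀ i, i < 69749 → P i := stepQ 69748 Q69748 (allL N69748 (tt N38525 (iv1 F216052)) (tt N38524 F216050) (tt N38418 (iv2 D134047)) (tt N38535 F216047) (tt N38990 F216048) (tt N105077 D208273) (tt N105078 D208274) (tt N38526 F216049))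
theorem Q69750 : ∀ i, i < 69750 → P i := stepQ 69749 Q69749 (allL N69749 (tt N65198 (iv1 F336886)) (tt N105079 D208275) (tt N105077 (iv2 F448670)) (tt N38419 F216053) (tt N62831 (iv4 F359684)) (tt N38418 (iv5 D134048)) (tt N105080 D208276) (tt N38527 F216054))
theorem Q69751 : ∀ i, i < 69751 → P i := stepQ 69750 Q69750 (allL N69750 (tt N105081 D208277) (tt N53110 (iv0 F375704)) (tt N105078 (iv2 F448676)) (tt N38420 F216055) (tt N38992 F216056) (tt N85436 (iv5 F379873)) (tt N38418 (iv6 D134049)) (tt N105082 D208278))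
theorem Q69752 : ∀ i, i < 69752 → P i := stepQ 69751 Q69751 (allL N69751 (tt N91024 F391632) (tt N100941 (iv0 F431044)) (tt N38538 F216057) (tt N105080 (iv3 F448690)) (tt N39930 F216058) (tt N95913 (iv5 F410228)) (tt N38419 (iv6 D134050)) (tt N95997 (iv7 F410557)))
theorem Q69753 : ∀ i, i < 69753 → P i := stepQ 69752 Q69752 (allL N69752 (tt N94908 (iv1 F406293)) (tt N68259 F216060) (tt N38539 F216059) (tt N85436 F379874) (tt N105083 D208279) (tt N38420 (iv5 D134051)) (tt N95913 F410229) (tt N101486 (iv7 F433104)))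
theorem Q69754 : ∀ i, i < 69754 → P i := stepQ 69753 Q69753 (allL N69753 (tt N38523 (iv1 F216064)) (tt N38521 F216065) (tt N38540 F216061) (tt N105082 (iv3 F448703)) (tt N58956 F216062) (tt N101486 (iv5 F433105)) (tt N38532 F216063) (tt N38420 (iv7 D134052)))
theorem Q69755 : ∀ i, i < 69755 → P i := stepQ 69754 Q69754 (allL N69754 (tt N38422 (iv1 F216069)) (tt N38421 (iv0 D134053)) (tt N38425 (iv2 F216066)) (tt N38541 F216067) (tt N70174 (iv4 F216903)) (tt N96241 (iv5 F411700)) (tt N105084 D208280) (tt N38423 F216068))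
theorem Q69756 : ∀ i, i < 69756 → P i := stepQ 69755 Q69755 (allL N69755 (tt N38425 F355338) (tt N38423 F355339) (tt N38421 (iv2 D134054)) (tt N105085 D208281) (tt N94484 (iv4 F404680)) (tt N76359 F355340) (tt N105086 D208282) (tt N38422 (iv7 F216070)))
theorem Q69757 : ∀ i, i < 69757 → P i := stepQ 69756 Q69756 (allL N69756 (tt N90635 F390334) (tt N91793 (iv0 F394454)) (tt N85968 (iv2 F374657)) (tt N38421 (iv3 D134055)) (tt N50189 (iv4 F336945)) (tt N77206 F355303) (tt N50188 F336946) (tt N105087 D208283))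
theorem Q69758 : ∀ i, i < 69758 → P i := stepQ 69757 Q69757 (allL N69757 (tt N103362 F441286) (tt N70333 (iv0 F217219)) (tt N94484 F404681) (tt N105088 D208284) (tt N38421 (iv4 D134056)) (tt N94146 F403430) (tt N94147 (iv6 F403429)) (tt N105089 D208285))
theorem Q69759 : ∀ i, i < 69759 → P i := stepQ 69758 Q69758 (allL N69758 (tt N105090 D208286) (tt N104329 (iv0 F445283)) (tt N105086 (iv2 F448723)) (tt N50188 (iv3 F336947)) (tt N94147 F403428) (tt N52898 F336948) (tt N38421 (iv6 D134058)) (tt N85976 (iv7 F374697)))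
theorem Q69760 : ∀ i, i < 69760 → P i := stepQ 69759 Q69759 (allL N69759 (tt N38423 F355347) (tt N38425 F355348) (tt N38422 F216071) (tt N105087 (iv3 F448729)) (tt N105089 (iv4 F448739)) (tt N76362 F355341) (tt N39801 F355791) (tt N38421 (iv7 D134059)))
theorem Q69761 : ∀ i, i < 69761 → P i := stepQ 69760 Q69760 (allL N69760 (tt N78698 F373075) (tt N104321 F445235) (tt N105091 D208287) (tt N38422 (iv3 D134060)) (tt N103835 F443018) (tt N105092 D208288) (tt N105093 D208289) (tt N105085 (iv7 F448720)))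
theorem Q69762 : ∀ i, i < 69762 → P i := stepQ 69761 Q69761 (allL N69761 (tt N70333 (iv1 F404685)) (tt N103362 (iv0 F441285)) (tt N105089 (iv2 F448738)) (tt N70325 (iv3 F217200)) (tt N38422 (iv4 D134061)) (tt N85563 (iv5 F373073)) (tt N53034 (iv6 F357345)) (tt N94484 F404682))
theorem Q69763 : ∀ i, i < 69763 → P i := stepQ 69762 Q69762 (allL N69762 (tt N45232 F355342) (tt N76373 F355343) (tt N76362 F355344) (tt N105092 (iv3 F448757)) (tt N45097 F355345) (tt N38422 (iv5 D134062)) (tt N105094 D208290) (tt N76359 F355346))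
theorem Q69764 : ∀ i, i < 69764 → P i := stepQ 69763 Q69763 (allL N69763 (tt N39788 F357342) (tt N39802 F357343) (tt N39801 F355792) (tt N105093 (iv3 F448759)) (tt N53034 F357344) (tt N105095 D208291) (tt N38422 (iv6 D134063)) (tt N39800 F355793))
theorem Q69765 : ∀ i, i < 69765 → P i := stepQ 69764 Q69764 (allL N69764 (tt N96240 (iv1 F411694)) (tt N96239 F411660) (tt N38424 F216074) (tt N38549 F216075) (tt N105096 D208292) (tt N38423 (iv5 D134066)) (tt N105097 D208293) (tt N96241 (iv7 F411701)))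
theorem Q69766 : ∀ i, i < 69766 → P i := stepQ 69765 Q69765 (allL N69765 (tt N38424 (iv1 D134068)) (tt N96241 F411703) (tt N96239 F411684) (tt N78696 (iv3 F411691)) (tt N98541 (iv4 F421245)) (tt N39768 F411685) (tt N39771 F411686) (tt N96240 F411687))
theorem Q69767 : ∀ i, i < 69767 → P i := stepQ 69766 Q69766 (allL N69766 (tt N76303 F399777) (tt N104218 (iv0 F444759)) (tt N105096 (iv2 F448768)) (tt N96234 (iv3 F411633)) (tt N38424 (iv4 D134069)) (tt N93999 (iv5 F402766)) (tt N74885 F343211) (tt N96233 F411631))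
theorem Q69768 : ∀ i, i < 69768 → P i := stepQ 69767 Q69767 (allL N69767 (tt N105098 D208294) (tt N100952 F431086) (tt N105097 (iv2 F448774)) (tt N38427 F216076) (tt N74885 (iv4 F343207)) (tt N70189 (iv5 F216917)) (tt N38424 (iv6 D134070)) (tt N100208 (iv7 F428001)))
theorem Q69769 : ∀ i, i < 69769 → P i := stepQ 69768 Q69768 (allL N69768 (tt N105099 D208295) (tt N39791 F411666) (tt N105084 (iv2 F448713)) (tt N38428 F216077) (tt N70191 (iv4 F216921)) (tt N105100 D208296) (tt N38425 (iv6 D134071)) (tt N70191 (iv7 F216922)))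
theorem Q69770 : ∀ i, i < 69770 → P i := stepQ 69769 Q69769 (allL N69769 (tt N73373 F359683) (tt N90868 (iv0 F391101)) (tt N40937 F333154) (tt N38426 (iv3 D134072)) (tt N40894 F333155) (tt N58952 F216078) (tt N40893 F333156) (tt N38555 F216079))
theorem Q69771 : ∀ i, i < 69771 → P i := stepQ 69770 Q69770 (allL N69770 (tt N90945 (iv1 F391325)) (tt N78113 F360246) (tt N38557 F216080) (tt N40893 F341441) (tt N38560 F343191) (tt N39193 F343212) (tt N38426 (iv6 D134073)) (tt N40965 F341442))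
theorem Q69772 : ∀ i, i < 69772 → P i := stepQ 69771 Q69771 (allL N69771 (tt N38561 (iv1 F216085)) (tt N38560 F216086) (tt N38562 F216083) (tt N100208 (iv3 F427999)) (tt N64492 F342801) (tt N70196 (iv5 F216933)) (tt N64490 (iv6 F360250)) (tt N38427 (iv7 D134076)))
theorem Q69773 : ∀ i, i < 69773 → P i := stepQ 69772 Q69772 (allL N69772 (tt N70431 (iv1 F217386)) (tt N47860 (iv0 F341427)) (tt N38566 F216087) (tt N105100 (iv3 F448788)) (tt N105101 D208297) (tt N38428 (iv5 D134077)) (tt N64793 F341426) (tt N70198 (iv7 F216940)))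
theorem Q69774 : ∀ i, i < 69774 → P i := stepQ 69773 Q69773 (allL N69773 (tt N67289 (iv1 F216088)) (tt N38429 (iv0 D134078)) (tt N67288 (iv2 F347319)) (tt N74665 F336928) (tt N43663 F339644) (tt N67413 F349819) (tt N43669 F339645) (tt N67287 (iv7 F347323)))
theorem Q69775 : ∀ i, i < 69775 → P i := stepQ 69774 Q69774 (allL N69774 (tt N38429 (iv1 D134079)) (tt N67289 F216093) (tt N67287 F347324) (tt N92719 (iv3 F397959)) (tt N51697 F347326) (tt N67414 F336396) (tt N92717 F397957) (tt N67288 F347321))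
theorem Q69776 : ∀ i, i < 69776 → P i := stepQ 69775 Q69775 (allL N69775 (tt N67288 (iv1 F216094)) (tt N67287 F216092) (tt N38429 (iv2 D134080)) (tt N67236 F216089) (tt N38450 F216090) (tt N80446 F329121) (tt N48406 F329122) (tt N67289 F216091))
theorem Q69777 : ∀ i, i < 69777 → P i := stepQ 69776 Q69776 (allL N69776 (tt N56696 F216104) (tt N56695 (iv0 F216105)) (tt N60473 F216100) (tt N70579 (iv3 F217884)) (tt N67282 F216101) (tt N56582 F216102) (tt N38432 (iv6 D134083)) (tt N56582 F216103))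
theorem Q69778 : ∀ i, i < 69778 → P i := stepQ 69777 Q69777 (allL N69777 (tt N41505 (iv1 F216110)) (tt N38435 (iv0 D134084)) (tt N74218 F227020) (tt N68654 (iv3 F217195)) (tt N70320 (iv4 F217194)) (tt N68695 F216108) (tt N95915 (iv6 F410240)) (tt N72922 F223605))
theorem Q69779 : ∀ i, i < 69779 → P i := stepQ 69778 Q69778 (allL N69778 (tt N77323 (iv1 F354232)) (tt N38436 (iv0 D134085)) (tt N77325 (iv2 F354229)) (tt N84242 (iv3 F368658)) (tt N103113 (iv4 F440132)) (tt N64687 F354230) (tt N105102 D208298) (tt N64686 F354231))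
theorem Q69780 : ∀ i, i < 69780 → P i := stepQ 69779 Q69779 (allL N69779 (tt N77325 (iv1 F354238)) (tt N64686 F354239) (tt N38436 (iv2 D134087)) (tt N78005 F245554) (tt N65301 F354237) (tt N96237 (iv5 F411654)) (tt N83284 (iv6 F354240)) (tt N77323 (iv7 F354228)))
theorem Q69781 : ∀ i, i < 69781 → P i := stepQ 69780 Q69780 (allL N69780 (tt N99503 (iv1 F424895)) (tt N99505 (iv0 F424903)) (tt N99529 (iv2 F424999)) (tt N103102 (iv3 F440082)) (tt N105103 D208299) (tt N38437 (iv5 D134089)) (tt N96238 (iv6 F411655)) (tt N99528 F424995))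
theorem Q69782 : ∀ i, i < 69782 → P i := stepQ 69781 Q69781 (allL N69781 (tt N39877 (iv1 F216114)) (tt N39875 F216115) (tt N96190 F411411) (tt N83283 F362973) (tt N38440 F216112) (tt N99528 (iv5 F424993)) (tt N40094 F216113) (tt N38437 (iv7 D134090)))
theorem Q69783 : ∀ i, i < 69783 → P i := stepQ 69782 Q69782 (allL N69782 (tt N66504 F216119) (tt N95915 (iv0 F410242)) (tt N96003 F410591) (tt N59065 F216116) (tt N72175 (iv4 F221526)) (tt N58987 F216117) (tt N38439 (iv6 D134091)) (tt N58987 F216118))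
theorem Q69784 : ∀ i, i < 69784 → P i := stepQ 69783 Q69783 (allL N69783 (tt N104113 (iv1 F444249)) (tt N38441 (iv0 D134092)) (tt N39768 F361493) (tt N98175 F419857) (tt N105104 D208300) (tt N96239 F411663) (tt N39754 F361494) (tt N98544 (iv7 F421267)))
theorem Q69785 : ∀ i, i < 69785 → P i := stepQ 69784 Q69784 (allL N69784 (tt N38441 (iv1 D134093)) (tt N104113 F444250) (tt N98544 (iv2 F421265)) (tt N105105 D208301) (tt N105106 D208302) (tt N96240 F411682) (tt N105107 D208303) (tt N39768 F361495))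
theorem Q69786 : ∀ i, i < 69786 → P i := stepQ 69785 Q69785 (allL N69785 (tt N39768 F354839) (tt N98544 (iv0 F421268)) (tt N38441 (iv2 D134094)) (tt N39724 F328676) (tt N70246 (iv4 F217057)) (tt N43043 F328714) (tt N101002 (iv6 F431214)) (tt N104113 (iv7 F444248)))
theorem Q69787 : ∀ i, i < 69787 → P i := stepQ 69786 Q69786 (allL N69786 (tt N103504 (iv1 F441876)) (tt N38445 (iv0 D134104)) (tt N69150 (iv2 F216151)) (tt N40924 F347283) (tt N69149 F216150) (tt N48009 F336978) (tt N40918 F347284) (tt N78686 F336979))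
theorem Q69788 : ∀ i, i < 69788 → P i := stepQ 69787 Q69787 (allL N69787 (tt N69150 (iv1 F216153)) (tt N78686 (iv0 F361790)) (tt N38445 (iv2 D134105)) (tt N90404 (iv3 F389529)) (tt N67630 F216152) (tt N75587 F361791) (tt N90403 (iv6 F389527)) (tt N103504 (iv7 F441875)))
theorem Q69789 : ∀ i, i < 69789 → P i := stepQ 69788 Q69788 (allL N69788 (tt N90404 F389533) (tt N38446 (iv0 D134111)) (tt N84253 (iv2 F368700)) (tt N39644 F327810) (tt N104966 (iv4 F448180)) (tt N84247 F368672) (tt N87675 (iv6 F380113)) (tt N39632 F327811))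
theorem Q69790 : ∀ i, i < 69790 → P i := stepQ 69789 Q69789 (allL N69789 (tt N38446 (iv1 D134112)) (tt N90404 (iv0 F389532)) (tt N39632 F364335) (tt N84263 (iv3 F368730)) (tt N60851 F364336) (tt N84254 (iv5 F368709)) (tt N39627 F364337) (tt N84253 (iv7 F368705)))
theorem Q69791 : ∀ i, i < 69791 → P i := stepQ 69790 Q69790 (allL N69790 (tt N84253 (iv1 F368704)) (tt N39632 F347386) (tt N38446 (iv2 D134113)) (tt N103504 (iv3 F441872)) (tt N69523 F216162) (tt N98087 (iv5 F419405)) (tt N105108 D208304) (tt N90404 (iv7 F389534)))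
theorem Q69792 : ∀ i, i < 69792 → P i := stepQ 69791 Q69791 (allL N69791 (tt N105109 D208305) (tt N105110 D208306) (tt N105108 (iv2 F448828)) (tt N38447 F216164) (tt N69525 F216165) (tt N72148 F336382) (tt N38446 (iv6 D134115)) (tt N70316 (iv7 F217166)))
theorem Q69793 : ∀ i, i < 69793 → P i := stepQ 69792 Q69792 (allL N69792 (tt N71916 F352614) (tt N52316 F358872) (tt N67264 (iv2 F359792)) (tt N105111 D208307) (tt N38448 (iv4 D134120)) (tt N65946 F358867) (tt N43743 F336392) (tt N87047 (iv7 F378169)))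
theorem Q69794 : ∀ i, i < 69794 → P i := stepQ 69793 Q69793 (allL N69793 (tt N88784 (iv1 F384139)) (tt N40924 F380087) (tt N105112 D208308) (tt N38449 (iv3 D134124)) (tt N73840 F352546) (tt N76357 F336395) (tt N73839 (iv6 F352548)) (tt N76356 (iv7 F336397)))
theorem Q69795 : ∀ i, i < 69795 → P i := stepQ 69794 Q69794 (allL N69794 (tt N52316 (iv1 F359791)) (tt N71916 (iv0 F359790)) (tt N87047 (iv2 F378173)) (tt N67170 (iv3 F216169)) (tt N38449 (iv4 D134125)) (tt N97435 (iv5 F416900)) (tt N105113 D208309) (tt N67264 (iv7 F359709)))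
theorem Q69796 : ∀ i, i < 69796 → P i := stepQ 69795 Q69795 (allL N69795 (tt N70161 F352550) (tt N82815 F375984) (tt N105067 (iv2 F448638)) (tt N73839 F352549) (tt N105113 (iv4 F448857)) (tt N105114 D208310) (tt N38449 (iv6 D134127)) (tt N90238 (iv7 F389045)))
theorem Q69797 : ∀ i, i < 69797 → P i := stepQ 69796 Q69796 (allL N69796 (tt N84130 (iv1 F368233)) (tt N38451 (iv0 D134130)) (tt N43780 F354987) (tt N83868 (iv3 F367311)) (tt N100148 F427703) (tt N38490 F349806) (tt N43608 F353722) (tt N84129 (iv7 F368223)))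
theorem Q69798 : ∀ i, i < 69798 → P i := stepQ 69797 Q69797 (allL N69797 (tt N38451 (iv1 D134131)) (tt N84130 F368232) (tt N84129 F368225) (tt N105115 D208311) (tt N80871 F354991) (tt N38491 F354992) (tt N105116 D208312) (tt N43780 F354990))
theorem Q69799 : ∀ i, i < 69799 → P i := stepQ 69798 Q69798 (allL N69798 (tt N47024 F315799) (tt N47580 F315800) (tt N47582 F315801) (tt N47995 F315802) (tt N38451 (iv4 D134132)) (tt N78213 (iv5 F247168)) (tt N82775 (iv6 F348456)) (tt N47583 F315803))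
theorem Q69800 : ∀ i, i < 69800 → P i := stepQ 69799 Q69799 (allL N69799 (tt N48009 F336970) (tt N74985 F336971) (tt N75139 F336972) (tt N38452 (iv3 D134138)) (tt N103059 (iv4 F439895)) (tt N38488 F216175) (tt N64773 (iv6 F341481)) (tt N58949 F216176))
theorem Q69801 : ∀ i, i < 69801 → P i := stepQ 69800 Q69800 (allL N69800 (tt N88780 F384117) (tt N103775 (iv0 F442765)) (tt N105117 D208313) (tt N38453 (iv3 D134144)) (tt N95809 (iv4 F409756)) (tt N82802 F365760) (tt N70286 (iv6 F217113)) (tt N95136 (iv7 F407190)))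
theorem Q69802 : ∀ i, i < 69802 → P i := stepQ 69801 Q69801 (allL N69801 (tt N87675 (iv1 F380115)) (tt N52151 (iv0 F365869)) (tt N80684 F365636) (tt N38454 (iv3 D134146)) (tt N98725 (iv4 F422024)) (tt N51147 (iv5 F365618)) (tt N105118 D208314) (tt N80681 F365637))
theorem Q69803 : ∀ i, i < 69803 → P i := stepQ 69802 Q69802 (allL N69802 (tt N70007 F363079) (tt N70011 F363080) (tt N95137 (iv2 F407191)) (tt N105118 (iv3 F448878)) (tt N68599 F216181) (tt N83364 F363287) (tt N38454 (iv6 D134148)) (tt N70288 (iv7 F217115)))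
theorem Q69804 : ∀ i, i < 69804 → P i := stepQ 69803 Q69803 (allL N69803 (tt N39781 F356275) (tt N105107 (iv0 F448826)) (tt N105119 D208315) (tt N38456 (iv3 D134153)) (tt N70289 (iv4 F217125)) (tt N52911 F356276) (tt N70289 (iv6 F217126)) (tt N52918 (iv7 F356277)))
theorem Q69805 : ∀ i, i < 69805 → P i := stepQ 69804 Q69804 (allL N69804 (tt N98711 (iv1 F421960)) (tt N38458 (iv0 D134155)) (tt N98710 F421962) (tt N102430 (iv3 F437203)) (tt N105120 D208316) (tt N94636 F405325) (tt N105121 D208317) (tt N98709 F421955))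
theorem Q69806 : ∀ i, i < 69806 → P i := stepQ 69805 Q69805 (allL N69805 (tt N38458 (iv1 D134156)) (tt N98711 F421966) (tt N98709 (iv2 F421964)) (tt N105122 D208318) (tt N104265 (iv4 F445022)) (tt N94638 F421965) (tt N102468 F437339) (tt N98710 F421963))
theorem Q69807 : ∀ i, i < 69807 → P i := stepQ 69806 Q69806 (allL N69806 (tt N98710 (iv1 F421961)) (tt N98709 F421952) (tt N38458 (iv2 D134157)) (tt N98713 (iv3 F421967)) (tt N38472 F216187) (tt N105123 D208319) (tt N105124 D208320) (tt N98711 (iv7 F421959)))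
theorem Q69808 : ∀ i, i < 69808 → P i := stepQ 69807 Q69807 (allL N69807 (tt N105125 D208321) (tt N105126 D208322) (tt N105123 (iv2 F448896)) (tt N38459 F216188) (tt N105127 D208323) (tt N38458 (iv5 D134158)) (tt N105128 D208324) (tt N92272 (iv7 F396546)))
theorem Q69809 : ∀ i, i < 69809 → P i := stepQ 69808 Q69808 (allL N69808 (tt N105129 D208325) (tt N105130 D208326) (tt N105124 (iv2 F448901)) (tt N38460 F216189) (tt N38474 F216190) (tt N103681 F442468) (tt N38458 (iv6 D134159)) (tt N103511 (iv7 F441891)))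
theorem Q69810 : ∀ i, i < 69810 → P i := stepQ 69809 Q69809 (allL N69809 (tt N54012 F338291) (tt N54017 (iv0 F362362)) (tt N61645 F343922) (tt N105128 (iv3 F448916)) (tt N39357 F216191) (tt N98705 (iv5 F421932)) (tt N38459 (iv6 D134160)) (tt N91670 (iv7 F393972)))
theorem Q69811 : ∀ i, i < 69811 → P i := stepQ 69810 Q69810 (allL N69810 (tt N58099 F362478) (tt N103878 (iv0 F443188)) (tt N98706 (iv2 F421935)) (tt N103681 (iv3 F442469)) (tt N105131 D208327) (tt N38460 (iv5 D134161)) (tt N98705 F421934) (tt N103512 (iv7 F441895)))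
theorem Q69812 : ∀ i, i < 69812 → P i := stepQ 69811 Q69811 (allL N69811 (tt N69354 (iv1 F216197)) (tt N69353 F216198) (tt N69355 F216192) (tt N56593 F216193) (tt N67534 F216194) (tt N56816 F216195) (tt N38461 (iv6 D134162)) (tt N38924 F216196))
theorem Q69813 : ∀ i, i < 69813 → P i := stepQ 69812 Q69812 (allL N69812 (tt N78005 (iv1 F245555)) (tt N38464 (iv0 D134163)) (tt N105062 F448618) (tt N39887 F216200) (tt N48020 F332245) (tt N47420 F332246) (tt N64460 (iv6 F332288)) (tt N78127 (iv7 F246110)))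
theorem Q69814 : ∀ i, i < 69814 → P i := stepQ 69813 Q69813 (allL N69813 (tt N38464 (iv1 D134164)) (tt N78005 F245553) (tt N78127 (iv2 F246113)) (tt N105132 D208328) (tt N48022 F332242) (tt N47416 F332243) (tt N105133 D208329) (tt N105062 (iv7 F448615)))
theorem Q69815 : ∀ i, i < 69815 → P i := stepQ 69814 Q69814 (allL N69814 (tt N105062 (iv1 F448614)) (tt N78127 (iv0 F246111)) (tt N38464 (iv2 D134165)) (tt N77323 F336349) (tt N78002 (iv4 F245544)) (tt N81329 F332247) (tt N105134 D208330) (tt N78005 (iv7 F245552)))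
theorem Q69816 : ∀ i, i < 69816 → P i := stepQ 69815 Q69815 (allL N69815 (tt N105135 D208331) (tt N105136 D208332) (tt N105134 (iv2 F448943)) (tt N38465 F216201) (tt N78007 (iv4 F245557)) (tt N105137 D208333) (tt N38464 (iv6 D134166)) (tt N99385 (iv7 F424371)))
theorem Q69817 : ∀ i, i < 69817 → P i := stepQ 69816 Q69816 (allL N69816 (tt N105138 D208334) (tt N105139 D208335) (tt N94068 (iv2 F403051)) (tt N105137 (iv3 F448950)) (tt N105140 D208336) (tt N38465 (iv5 D134167)) (tt N64753 (iv6 F356357)) (tt N99386 (iv7 F424374)))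
theorem Q69818 : ∀ i, i < 69818 → P i := stepQ 69817 Q69817 (allL N69817 (tt N38467 (iv1 D134168)) (tt N67225 F216202) (tt N67224 F216205) (tt N67285 (iv3 F216204)) (tt N70251 (iv4 F217069)) (tt N89391 (iv5 F386343)) (tt N64680 (iv6 F328653)) (tt N67223 F216203))
theorem Q69819 : ∀ i, i < 69819 → P i := stepQ 69818 Q69818 (allL N69818 (tt N68223 F216209) (tt N64678 (iv0 F329432)) (tt N38727 F216206) (tt N50921 F352102) (tt N38467 (iv4 D134169)) (tt N84315 (iv5 F368873)) (tt N38469 F216207) (tt N50919 (iv7 F328202)))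
theorem Q69820 : ∀ i, i < 69820 → P i := stepQ 69819 Q69819 (allL N69819 (tt N67224 (iv1 F216214)) (tt N67223 F216215) (tt N67225 F216210) (tt N50900 (iv3 F327156)) (tt N50919 (iv4 F328199)) (tt N38468 F216212) (tt N58953 F216213) (tt N38467 (iv7 D134170)))
theorem Q69821 : ∀ i, i < 69821 → P i := stepQ 69820 Q69820 (allL N69820 (tt N70758 F366214) (tt N105141 D208337) (tt N99828 (iv2 F426415)) (tt N38470 (iv3 D134171)) (tt N41765 F366215) (tt N105142 D208338) (tt N41768 F366216) (tt N105064 (iv7 F448626)))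
theorem Q69822 : ∀ i, i < 69822 → P i := stepQ 69821 Q69821 (allL N69821 (tt N104505 (iv1 F446054)) (tt N104502 F446045) (tt N67704 F216216) (tt N60842 (iv3 F366213)) (tt N38470 (iv4 D134172)) (tt N105143 D208339) (tt N60844 F366217) (tt N104506 (iv7 F446059)))
theorem Q69823 : ∀ i, i < 69823 → P i := stepQ 69822 Q69822 (allL N69822 (tt N69891 (iv1 F360209)) (tt N69739 F350814) (tt N69894 (iv2 F365397)) (tt N105142 (iv3 F448968)) (tt N81296 (iv4 F341468)) (tt N38470 (iv5 D134173)) (tt N81295 F341466) (tt N69893 (iv7 F365394)))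
theorem Q69824 : ∀ i, i < 69824 → P i := stepQ 69823 Q69823 (allL N69823 (tt N70305 F366218) (tt N70313 F366219) (tt N70311 (iv2 F365405)) (tt N41768 F366220) (tt N60844 F366221) (tt N99254 (iv5 F423849)) (tt N38470 (iv6 D134174)) (tt N70310 F366222))
theorem Q69825 : ∀ i, i < 69825 → P i := stepQ 69824 Q69824 (allL N69824 (tt N39158 F327492) (tt N39644 F327493) (tt N39642 F327805) (tt N38471 (iv3 D134175)) (tt N66425 (iv4 F327899)) (tt N70059 (iv5 F216524)) (tt N77451 (iv6 F338472)) (tt N39641 F327806))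
theorem Q69826 : ∀ i, i < 69826 → P i := stepQ 69825 Q69825 (allL N69825 (tt N105066 (iv1 F448633)) (tt N105065 F448629) (tt N38473 F216221) (tt N84130 (iv3 F368229)) (tt N65347 (iv4 F354749)) (tt N38472 (iv5 D134178)) (tt N105144 D208340) (tt N78719 (iv7 F348523)))
theorem Q69827 : ∀ i, i < 69827 → P i := stepQ 69826 Q69826 (allL N69826 (tt N39637 F336144) (tt N70300 (iv0 F365144)) (tt N38474 F216222) (tt N82771 (iv3 F349682)) (tt N105124 (iv4 F448903)) (tt N39615 F336146) (tt N38472 (iv6 D134179)) (tt N71427 F336147))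
theorem Q69828 : ∀ i, i < 69828 → P i := stepQ 69827 Q69827 (allL N69827 (tt N78719 F361287) (tt N38473 (iv0 D134180)) (tt N105066 (iv2 F448637)) (tt N73383 F340099) (tt N94572 (iv4 F405015)) (tt N38511 F361288) (tt N73381 (iv6 F363635)) (tt N105065 F448631))
theorem Q69829 : ∀ i, i < 69829 → P i := stepQ 69828 Q69828 (allL N69828 (tt N38473 (iv1 D134181)) (tt N78719 (iv0 F348521)) (tt N105065 F448630) (tt N62879 (iv3 F331621)) (tt N75260 F348522) (tt N38512 F352309) (tt N64768 F365395) (tt N105066 (iv7 F448634)))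
theorem Q69830 : ∀ i, i < 69830 → P i := stepQ 69829 Q69829 (allL N69829 (tt N73854 F341464) (tt N46101 F341465) (tt N105144 (iv2 F448980)) (tt N38475 F216223) (tt N78724 (iv4 F348483)) (tt N95854 (iv5 F409959)) (tt N38473 (iv6 D134183)) (tt N101289 (iv7 F432547)))
theorem Q69831 : ∀ i, i < 69831 → P i := stepQ 69830 Q69830 (allL N69830 (tt N71427 F330971) (tt N38474 (iv0 D134184)) (tt N39637 F330972) (tt N71443 F330973) (tt N105145 D208341) (tt N70901 F330974) (tt N105146 D208342) (tt N70300 (iv7 F365149)))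
theorem Q69832 : ∀ i, i < 69832 → P i := stepQ 69831 Q69831 (allL N69831 (tt N70300 (iv1 F365145)) (tt N39637 F336141) (tt N71427 (iv2 F336143)) (tt N38479 F216225) (tt N103511 (iv4 F441889)) (tt N39614 F336142) (tt N82767 (iv6 F362231)) (tt N38474 (iv7 D134187)))
theorem Q69833 : ∀ i, i < 69833 → P i := stepQ 69832 Q69832 (allL N69832 (tt N98902 (iv1 F422738)) (tt N100602 (iv0 F429654)) (tt N98816 (iv2 F422445)) (tt N95854 (iv3 F409957)) (tt N98812 (iv4 F422425)) (tt N38475 (iv5 D134190)) (tt N38478 F216226) (tt N101290 (iv7 F432553)))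
theorem Q69834 : ∀ i, i < 69834 → P i := stepQ 69833 Q69833 (allL N69833 (tt N40918 F347249) (tt N102549 F437612) (tt N71461 F347250) (tt N38477 (iv3 D134195)) (tt N68885 F216230) (tt N71459 F347251) (tt N68880 F216231) (tt N104643 (iv7 F446658)))
theorem Q69835 : ∀ i, i < 69835 → P i := stepQ 69834 Q69834 (allL N69834 (tt N71418 (iv1 F365680)) (tt N71468 F365675) (tt N70267 (iv2 F217101)) (tt N71459 (iv3 F347271)) (tt N98775 (iv4 F422268)) (tt N38477 (iv5 D134196)) (tt N105147 D208343) (tt N71469 F365674))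
theorem Q69836 : ∀ i, i < 69836 → P i := stepQ 69835 Q69835 (allL N69835 (tt N54197 F345484) (tt N38478 (iv0 D134197)) (tt N98815 F422441) (tt N39167 F331002) (tt N70996 F331003) (tt N70344 F217237) (tt N45347 F328518) (tt N39625 F331004))
theorem Q69837 : ∀ i, i < 69837 → P i := stepQ 69836 Q69836 (allL N69836 (tt N38478 (iv1 D134198)) (tt N54197 (iv0 F345483)) (tt N39625 F331005) (tt N40916 F331006) (tt N61969 F331007) (tt N94912 (iv5 F406300)) (tt N105148 D208344) (tt N98815 (iv7 F422443)))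
theorem Q69838 : ∀ i, i < 69838 → P i := stepQ 69837 Q69837 (allL N69837 (tt N39754 F327505) (tt N39769 F327506) (tt N39722 F327507) (tt N38480 (iv3 D134201)) (tt N70318 (iv4 F217178)) (tt N58537 F327508) (tt N67226 F216233) (tt N39766 F327509))
theorem Q69839 : ∀ i, i < 69839 → P i := stepQ 69838 Q69838 (allL N69838 (tt N39902 F216237) (tt N40401 F216238) (tt N69558 F216235) (tt N97411 (iv3 F416768)) (tt N38481 (iv4 D134203)) (tt N95275 (iv5 F407684)) (tt N40358 F216236) (tt N72633 (iv7 F222782)))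
theorem Q69840 : ∀ i, i < 69840 → P i := stepQ 69839 Q69839 (allL N69839 (tt N40411 (iv1 F216248)) (tt N38482 (iv0 D134204)) (tt N72630 F226754) (tt N99894 (iv3 F426709)) (tt N70205 (iv4 F216963)) (tt N99487 (iv5 F424813)) (tt N99339 F424172) (tt N72631 (iv7 F226753)))
theorem Q69841 : ∀ i, i < 69841 → P i := stepQ 69840 Q69840 (allL N69840 (tt N38482 (iv1 D134205)) (tt N40411 F216240) (tt N72631 (iv2 F226751)) (tt N105149 D208345) (tt N69034 F216241) (tt N96731 (iv5 F413649)) (tt N40356 (iv6 F216242)) (tt N72630 F226755))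
theorem Q69842 : ∀ i, i < 69842 → P i := stepQ 69841 Q69841 (allL N69841 (tt N95759 F409499) (tt N105150 D208346) (tt N105151 D208347) (tt N38482 (iv3 D134206)) (tt N94055 (iv4 F403006)) (tt N105152 D208348) (tt N38484 F216243) (tt N105153 D208349))
theorem Q69843 : ∀ i, i < 69843 → P i := stepQ 69842 Q69842 (allL N69842 (tt N105154 D208350) (tt N56761 F216244) (tt N72632 (iv2 F222779)) (tt N105152 (iv3 F449019)) (tt N98818 (iv4 F422462)) (tt N38482 (iv5 D134207)) (tt N105155 D208351) (tt N98817 (iv7 F422460)))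
theorem Q69844 : ∀ i, i < 69844 → P i := stepQ 69843 Q69843 (allL N69843 (tt N72631 (iv1 F222778)) (tt N72630 F222777) (tt N40411 F216245) (tt N105153 (iv3 F449026)) (tt N38483 F216246) (tt N98817 (iv5 F422456)) (tt N40316 F216247) (tt N38482 (iv7 D134208)))
theorem Q69845 : ∀ i, i < 69845 → P i := stepQ 69844 Q69844 (allL N69844 (tt N72636 (iv1 F222788)) (tt N38484 (iv0 D134209)) (tt N72635 (iv2 F366689)) (tt N58106 F361293) (tt N82139 F351348) (tt N58100 F361294) (tt N58103 (iv6 F361290)) (tt N72634 F366694))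
theorem Q69846 : ∀ i, i < 69846 → P i := stepQ 69845 Q69845 (allL N69845 (tt N38484 (iv1 D134210)) (tt N72636 F222790) (tt N72634 F366693) (tt N65231 (iv3 F351351)) (tt N65300 (iv4 F351352)) (tt N90130 (iv5 F388631)) (tt N105156 D208352) (tt N72635 (iv7 F366692)))
theorem Q69847 : ∀ i, i < 69847 → P i := stepQ 69846 Q69846 (allL N69846 (tt N72635 (iv1 F222789)) (tt N72634 F222785) (tt N38484 (iv2 D134211)) (tt N72626 (iv3 F222767)) (tt N94053 (iv4 F403000)) (tt N105157 D208353) (tt N105151 (iv6 F449013)) (tt N72636 (iv7 F222787)))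
theorem Q69848 : ∀ i, i < 69848 → P i := stepQ 69847 Q69847 (allL N69847 (tt N57841 F359037) (tt N57844 (iv0 F403107)) (tt N105157 (iv2 F449049)) (tt N38485 F216249) (tt N105158 D208354) (tt N38484 (iv5 D134212)) (tt N105159 D208355) (tt N72637 (iv7 F222792)))
theorem Q69849 : ∀ i, i < 69849 → P i := stepQ 69848 Q69848 (allL N69848 (tt N95691 (iv1 F409158)) (tt N95673 (iv0 F409087)) (tt N72629 (iv2 F222775)) (tt N105159 (iv3 F449058)) (tt N70340 (iv4 F217229)) (tt N105155 (iv5 F449039)) (tt N38485 (iv6 D134213)) (tt N95689 (iv7 F409151)))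
theorem Q69850 : ∀ i, i < 69850 → P i := stepQ 69849 Q69849 (allL N69849 (tt N58948 (iv1 F216252)) (tt N38488 (iv0 D134214)) (tt N58947 (iv2 F216251)) (tt N70182 (iv3 F216911)) (tt N69012 F216250) (tt N78677 F336961) (tt N105160 D208356) (tt N58946 F216253))
theorem Q69851 : ∀ i, i < 69851 → P i := stepQ 69850 Q69850 (allL N69850 (tt N58947 (iv1 F216257)) (tt N58946 F216256) (tt N38488 (iv2 D134215)) (tt N91792 (iv3 F394446)) (tt N66191 F216254) (tt N75139 (iv5 F336976)) (tt N105161 D208357) (tt N58948 F216255))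
theorem Q69852 : ∀ i, i < 69852 → P i := stepQ 69851 Q69851 (allL N69851 (tt N105162 D208358) (tt N105163 D208359) (tt N105161 (iv2 F449063)) (tt N38489 F216258) (tt N66203 F216259) (tt N105164 D208360) (tt N38488 (iv6 D134216)) (tt N70328 (iv7 F217209)))
theorem Q69853 : ∀ i, i < 69853 → P i := stepQ 69852 Q69852 (allL N69852 (tt N105165 D208361) (tt N101206 (iv0 F432195)) (tt N94918 (iv2 F406331)) (tt N105164 (iv3 F449070)) (tt N105166 D208362) (tt N38489 (iv5 D134217)) (tt N64774 (iv6 F363285)) (tt N70329 (iv7 F217210)))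
theorem Q69854 : ∀ i, i < 69854 → P i := stepQ 69853 Q69853 (allL N69853 (tt N95904 F410178) (tt N38607 (iv0 F216262)) (tt N68697 (iv2 F355059)) (tt N38490 (iv3 D134219)) (tt N56524 F216261) (tt N83868 F367303) (tt N105167 D208363) (tt N68700 (iv7 F355058)))
theorem Q69855 : ∀ i, i < 69855 → P i := stepQ 69854 Q69854 (allL N69854 (tt N67985 F216263) (tt N67982 F355044) (tt N67326 F355043) (tt N93063 F399343) (tt N38490 (iv4 D134220)) (tt N105168 D208364) (tt N104402 (iv6 F445616)) (tt N67981 F355042))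
theorem Q69856 : ∀ i, i < 69856 → P i := stepQ 69855 Q69855 (allL N69855 (tt N77370 F353723) (tt N70433 F358578) (tt N94920 (iv2 F406340)) (tt N105167 (iv3 F449076)) (tt N104402 (iv4 F445614)) (tt N83420 (iv5 F353721)) (tt N38490 (iv6 D134222)) (tt N70332 (iv7 F355002)))
theorem Q69857 : ∀ i, i < 69857 → P i := stepQ 69856 Q69856 (allL N69856 (tt N70177 F216909) (tt N70182 (iv0 F360770)) (tt N105169 D208365) (tt N38491 (iv3 D134224)) (tt N105170 D208366) (tt N105115 (iv5 F448865)) (tt N70333 F355000) (tt N94919 (iv7 F406338)))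
theorem Q69858 : ∀ i, i < 69858 → P i := stepQ 69857 Q69857 (allL N69857 (tt N67982 (iv1 F216267)) (tt N67985 (iv0 F216266)) (tt N67981 (iv2 F355041)) (tt N65614 F216265) (tt N38491 (iv4 D134225)) (tt N105171 D208367) (tt N70334 F355001) (tt N67326 F355025))
theorem Q69859 : ∀ i, i < 69859 → P i := stepQ 69858 Q69858 (allL N69858 (tt N52300 F336398) (tt N55605 F336403) (tt N38494 F216269) (tt N105069 (iv3 F448647)) (tt N103248 (iv4 F440778)) (tt N105172 D208368) (tt N38492 (iv6 D134229)) (tt N55603 (iv7 F361741)))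
theorem Q69860 : ∀ i, i < 69860 → P i := stepQ 69859 Q69859 (allL N69859 (tt N66990 F347327) (tt N65200 (iv0 F336888)) (tt N47174 F336889) (tt N47946 F336890) (tt N38493 (iv4 D134232)) (tt N46903 F336891) (tt N105173 D208369) (tt N47579 F336892))
theorem Q69861 : ∀ i, i < 69861 → P i := stepQ 69860 Q69860 (allL N69860 (tt N105174 D208370) (tt N105175 D208371) (tt N77296 F365269) (tt N38496 F216270) (tt N105173 (iv4 F449107)) (tt N101228 F432294) (tt N38493 (iv6 D134233)) (tt N105176 D208372))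
theorem Q69862 : ∀ i, i < 69862 → P i := stepQ 69861 Q69861 (allL N69861 (tt N38494 (iv1 D134235)) (tt N55603 F361742) (tt N55605 (iv2 F361736)) (tt N90417 (iv3 F389569)) (tt N78408 (iv4 F361734)) (tt N105177 D208373) (tt N82755 (iv6 F361737)) (tt N52300 F361735))
theorem Q69863 : ∀ i, i < 69863 → P i := stepQ 69862 Q69862 (allL N69862 (tt N105178 D208374) (tt N105179 D208375) (tt N105172 (iv2 F449102)) (tt N38499 F216271) (tt N105180 D208376) (tt N38494 (iv5 D134236)) (tt N101228 (iv6 F432297)) (tt N105181 D208377))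
theorem Q69864 : ∀ i, i < 69864 → P i := stepQ 69863 Q69863 (allL N69863 (tt N55605 (iv1 F336404)) (tt N52300 F361739) (tt N55603 F361740) (tt N38500 F216272) (tt N103253 (iv4 F440804)) (tt N105181 (iv5 F449126)) (tt N91690 (iv6 F394053)) (tt N38494 (iv7 D134237)))
theorem Q69865 : ∀ i, i < 69865 → P i := stepQ 69864 Q69864 (allL N69864 (tt N78677 F347368) (tt N78676 (iv0 F336963)) (tt N78681 (iv2 F364183)) (tt N38495 (iv3 D134238)) (tt N103098 (iv4 F440060)) (tt N67520 F216273) (tt N64644 (iv6 F356549)) (tt N64454 (iv7 F329644)))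
theorem Q69866 : ∀ i, i < 69866 → P i := stepQ 69865 Q69865 (allL N69865 (tt N101284 (iv1 F432525)) (tt N38496 (iv0 D134242)) (tt N79152 (iv2 F364378)) (tt N99987 (iv3 F427064)) (tt N54733 F364379) (tt N105182 D208378) (tt N63951 F364380) (tt N84348 (iv7 F369016)))
theorem Q69867 : ∀ i, i < 69867 → P i := stepQ 69866 Q69866 (allL N69866 (tt N38496 (iv1 D134243)) (tt N101284 (iv0 F432527)) (tt N84348 (iv2 F369015)) (tt N84715 (iv3 F370316)) (tt N54735 F364376) (tt N105183 D208379) (tt N84714 (iv6 F370311)) (tt N79152 (iv7 F364377)))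
theorem Q69868 : ∀ i, i < 69868 → P i := stepQ 69867 Q69867 (allL N69867 (tt N84348 (iv1 F369019)) (tt N79152 F369020) (tt N101284 (iv2 F432521)) (tt N105176 (iv3 F449113)) (tt N96214 (iv4 F411529)) (tt N100586 (iv5 F429567)) (tt N94921 (iv6 F406346)) (tt N38496 (iv7 D134245)))
theorem Q69869 : ∀ i, i < 69869 → P i := stepQ 69868 Q69868 (allL N69868 (tt N105184 D208380) (tt N103537 (iv0 F441977)) (tt N91788 (iv2 F394423)) (tt N38497 (iv3 D134246)) (tt N102465 (iv4 F437327)) (tt N105185 D208381) (tt N70359 (iv6 F217280)) (tt N103794 (iv7 F442847)))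
theorem Q69870 : ∀ i, i < 69870 → P i := stepQ 69869 Q69869 (allL N69869 (tt N64341 (iv1 F363075)) (tt N80517 F363076) (tt N80516 F363085) (tt N105185 (iv3 F449150)) (tt N105186 D208382) (tt N38497 (iv5 D134247)) (tt N82680 F356424) (tt N80515 (iv7 F363074)))
theorem Q69871 : ∀ i, i < 69871 → P i := stepQ 69870 Q69870 (allL N69870 (tt N80517 F363083) (tt N64341 (iv0 F345490)) (tt N80515 (iv2 F363073)) (tt N83701 F365795) (tt N105187 D208383) (tt N38498 (iv5 D134249)) (tt N105138 (iv6 F448954)) (tt N80516 (iv7 F363084)))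
theorem Q69872 : ∀ i, i < 69872 → P i := stepQ 69871 Q69871 (allL N69871 (tt N40567 (iv1 F224143)) (tt N40574 F217197) (tt N40572 F329932) (tt N91789 (iv3 F394424)) (tt N68695 F216280) (tt N40523 F329933) (tt N38498 (iv6 D134250)) (tt N40564 (iv7 F329960)))
theorem Q69873 : ∀ i, i < 69873 → P i := stepQ 69872 Q69872 (allL N69872 (tt N105076 (iv1 F448669)) (tt N38499 (iv0 D134251)) (tt N84315 (iv2 F368875)) (tt N105188 D208384) (tt N105189 D208385) (tt N38727 F216281) (tt N105190 D208386) (tt N105074 (iv7 F448661)))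
theorem Q69874 : ∀ i, i < 69874 → P i := stepQ 69873 Q69873 (allL N69873 (tt N38499 (iv1 D134252)) (tt N105076 F448668) (tt N105074 F448663) (tt N50920 F365673) (tt N105191 D208387) (tt N50919 (iv5 F328200)) (tt N105192 D208388) (tt N84315 (iv7 F368874)))
theorem Q69875 : ∀ i, i < 69875 → P i := stepQ 69874 Q69874 (allL N69874 (tt N105193 D208389) (tt N105194 D208390) (tt N105075 (iv2 F448664)) (tt N105195 D208391) (tt N38499 (iv4 D134253)) (tt N105196 D208392) (tt N100991 F431176) (tt N105197 D208393))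
theorem Q69876 : ∀ i, i < 69876 → P i := stepQ 69875 Q69875 (allL N69875 (tt N105074 (iv1 F448660)) (tt N84315 F368877) (tt N105076 (iv2 F448666)) (tt N105181 (iv3 F449125)) (tt N105197 (iv4 F449171)) (tt N38500 F216283) (tt N101387 (iv6 F432830)) (tt N38499 (iv7 D134254)))
theorem Q69877 : ∀ i, i < 69877 → P i := stepQ 69876 Q69876 (allL N69876 (tt N85976 F374698) (tt N105086 (iv0 F448726)) (tt N105090 F448748) (tt N38501 (iv3 D134255)) (tt N70345 (iv4 F217241)) (tt N105198 D208394) (tt N70361 (iv6 F217291)) (tt N104329 (iv7 F445282)))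
theorem Q69878 : ∀ i, i < 69878 → P i := stepQ 69877 Q69877 (allL N69877 (tt N64325 F365659) (tt N104105 (iv0 F444202)) (tt N70457 (iv2 F217426)) (tt N105198 (iv3 F449174)) (tt N105199 D208395) (tt N38501 (iv5 D134256)) (tt N84414 (iv6 F369213)) (tt N104330 (iv7 F445287)))
theorem Q69879 : ∀ i, i < 69879 → P i := stepQ 69878 Q69878 (allL N69878 (tt N104105 (iv1 F444203)) (tt N64325 (iv0 F356533)) (tt N104330 (iv2 F445285)) (tt N104736 (iv3 F447040)) (tt N105200 D208396) (tt N38503 (iv5 D134258)) (tt N73291 (iv6 F356528)) (tt N70457 (iv7 F217427)))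
theorem Q69880 : ∀ i, i < 69880 → P i := stepQ 69879 Q69879 (allL N69879 (tt N92252 (iv1 F396479)) (tt N38505 (iv0 D134260)) (tt N92251 (iv2 F396470)) (tt N102445 (iv3 F437260)) (tt N78698 F352311) (tt N105125 (iv5 F448905)) (tt N66183 (iv6 F437753)) (tt N92250 (iv7 F396473)))
theorem Q69881 : ∀ i, i < 69881 → P i := stepQ 69880 Q69880 (allL N69880 (tt N38505 (iv1 D134261)) (tt N92252 F396480) (tt N92250 F396475) (tt N104357 (iv3 F445410)) (tt N104321 (iv4 F445234)) (tt N105126 (iv5 F448910)) (tt N104365 (iv6 F445440)) (tt N92251 F396474))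
theorem Q69882 : ∀ i, i < 69882 → P i := stepQ 69881 Q69881 (allL N69881 (tt N92251 F396472) (tt N92250 F396468) (tt N38505 (iv2 D134262)) (tt N92258 (iv3 F396496)) (tt N38513 F216286) (tt N105201 D208397) (tt N105202 D208398) (tt N92252 (iv7 F396478)))
theorem Q69883 : ∀ i, i < 69883 → P i := stepQ 69882 Q69882 (allL N69882 (tt N94967 F406533) (tt N105203 D208399) (tt N105201 (iv2 F449186)) (tt N38506 F216287) (tt N105204 D208400) (tt N38505 (iv5 D134263)) (tt N105205 D208401) (tt N92253 (iv7 F396482)))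
theorem Q69884 : ∀ i, i < 69884 → P i := stepQ 69883 Q69883 (allL N69883 (tt N104751 F447106) (tt N105206 D208402) (tt N105202 (iv2 F449190)) (tt N38507 F216288) (tt N38515 F216289) (tt N104550 (iv5 F446225)) (tt N38505 (iv6 D134264)) (tt N103871 (iv7 F443158)))
theorem Q69885 : ∀ i, i < 69885 → P i := stepQ 69884 Q69884 (allL N69884 (tt N99981 (iv1 F446696)) (tt N105207 D208403) (tt N92261 (iv2 F396505)) (tt N105205 (iv3 F449201)) (tt N39329 F216290) (tt N104650 F446694) (tt N38506 (iv6 D134265)) (tt N105208 D208404))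
theorem Q69886 : ∀ i, i < 69886 → P i := stepQ 69885 Q69885 (allL N69885 (tt N67573 F216291) (tt N67570 F216292) (tt N92262 (iv2 F396507)) (tt N104550 F446224) (tt N100733 (iv4 F430211)) (tt N38507 (iv5 D134266)) (tt N104650 F446693) (tt N103872 (iv7 F443161)))
theorem Q69887 : ∀ i, i < 69887 → P i := stepQ 69886 Q69886 (allL N69886 (tt N39611 F216296) (tt N39609 (iv0 F216297)) (tt N60885 (iv2 F326873)) (tt N56711 F216293) (tt N67882 F216294) (tt N68055 F216295) (tt N38508 (iv6 D134267)) (tt N70581 (iv7 F217895)))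
theorem Q69888 : ∀ i, i < 69888 → P i := stepQ 69887 Q69887 (allL N69887 (tt N70734 F218210) (tt N105209 D208405) (tt N70661 (iv2 F218057)) (tt N38511 (iv3 D134268)) (tt N39054 F216298) (tt N73383 (iv5 F335185)) (tt N70347 (iv6 F347107)) (tt N70664 (iv7 F218069)))
theorem Q69889 : ∀ i, i < 69889 → P i := stepQ 69888 Q69888 (allL N69888 (tt N94642 (iv1 F405386)) (tt N98716 (iv0 F421989)) (tt N67861 F216299) (tt N104684 (iv3 F446856)) (tt N38511 (iv4 D134269)) (tt N105210 D208406) (tt N70348 (iv6 F347106)) (tt N104679 (iv7 F446837)))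
theorem Q69890 : ∀ i, i < 69890 → P i := stepQ 69889 Q69889 (allL N69889 (tt N38610 (iv1 F216304)) (tt N38600 F216305) (tt N38605 (iv2 F216303)) (tt N38512 (iv3 D134272)) (tt N67934 F216300) (tt N62879 F331619) (tt N39474 F339485) (tt N38606 F216301))
theorem Q69891 : ∀ i, i < 69891 → P i := stepQ 69890 Q69890 (allL N69890 (tt N70437 F347114) (tt N105211 D208407) (tt N105068 (iv2 F448644)) (tt N39474 F339488) (tt N104680 (iv4 F446841)) (tt N105212 D208408) (tt N38512 (iv6 D134274)) (tt N70350 F347102))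
theorem Q69892 : ∀ i, i < 69892 → P i := stepQ 69891 Q69891 (allL N69891 (tt N64466 F355249) (tt N69822 F360209) (tt N38514 F216306) (tt N64693 (iv3 F349805)) (tt N65339 (iv4 F352319)) (tt N38513 (iv5 D134275)) (tt N105213 D208409) (tt N77295 F360773))
theorem Q69893 : ∀ i, i < 69893 → P i := stepQ 69892 Q69892 (allL N69892 (tt N95859 F409984) (tt N105214 D208410) (tt N38515 F216307) (tt N91686 F394034) (tt N105202 (iv4 F449191)) (tt N91684 (iv5 F394036)) (tt N38513 (iv6 D134276)) (tt N105215 D208411))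
theorem Q69894 : ∀ i, i < 69894 → P i := stepQ 69893 Q69893 (allL N69893 (tt N77295 (iv1 F360777)) (tt N38514 (iv0 D134277)) (tt N64466 (iv2 F365392)) (tt N79099 F365391) (tt N94576 (iv4 F405031)) (tt N69727 (iv5 F365396)) (tt N63947 (iv6 F365393)) (tt N69822 F365394))
theorem Q69895 : ∀ i, i < 69895 → P i := stepQ 69894 Q69894 (allL N69894 (tt N38514 (iv1 D134278)) (tt N77295 F360776) (tt N69822 F365397) (tt N71801 F365398) (tt N47418 F365399) (tt N69728 F365400) (tt N47416 F365401) (tt N64466 F365402))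
theorem Q69896 : ∀ i, i < 69896 → P i := stepQ 69895 Q69895 (allL N69895 (tt N78707 F342711) (tt N78217 (iv0 F352310)) (tt N65339 F352307) (tt N77188 (iv3 F336377)) (tt N38514 (iv4 D134279)) (tt N65336 (iv5 F352306)) (tt N67828 F352308) (tt N65344 (iv7 F350812)))
theorem Q69897 : ∀ i, i < 69897 → P i := stepQ 69896 Q69896 (allL N69896 (tt N105216 D208412) (tt N105217 D208413) (tt N105213 (iv2 F449226)) (tt N38516 F216308) (tt N67828 (iv4 F352318)) (tt N101320 (iv5 F432640)) (tt N38514 (iv6 D134280)) (tt N105218 D208414))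
theorem Q69898 : ∀ i, i < 69898 → P i := stepQ 69897 Q69897 (allL N69897 (tt N105215 (iv1 F449239)) (tt N38515 (iv0 D134281)) (tt N95859 (iv2 F409982)) (tt N105219 D208415) (tt N105220 D208416) (tt N105221 D208417) (tt N95855 F409969) (tt N105214 (iv7 F449231)))
theorem Q69899 : ∀ i, i < 69899 → P i := stepQ 69898 Q69898 (allL N69898 (tt N38515 (iv1 D134282)) (tt N105215 F449238) (tt N105214 (iv2 F449233)) (tt N95861 (iv3 F409995)) (tt N103786 (iv4 F442808)) (tt N105222 D208418) (tt N80548 (iv6 F409987)) (tt N95859 F409986))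
theorem Q69900 : ∀ i, i < 69900 → P i := stepQ 69899 Q69899 (allL N69899 (tt N105223 D208419) (tt N90093 (iv0 F449244)) (tt N91684 F394037) (tt N38519 F216309) (tt N105224 D208420) (tt N38515 (iv5 D134283)) (tt N101320 (iv6 F432641)) (tt N105225 D208421))
theorem Q69901 : ∀ i, i < 69901 → P i := stepQ 69900 Q69900 (allL N69900 (tt N105214 (iv1 F449230)) (tt N95859 (iv0 F409985)) (tt N105215 (iv2 F449235)) (tt N38520 F216310) (tt N103871 (iv4 F443157)) (tt N105225 (iv5 F449288)) (tt N105073 (iv6 F448657)) (tt N38515 (iv7 D134284)))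
theorem Q69902 : ∀ i, i < 69902 → P i := stepQ 69901 Q69901 (allL N69901 (tt N94921 (iv1 F406348)) (tt N38516 (iv0 D134285)) (tt N64797 (iv2 F357150)) (tt N84187 (iv3 F368459)) (tt N72257 (iv4 F364408)) (tt N64493 F357149) (tt N84127 F368215) (tt N64801 (iv7 F357151)))
theorem Q69903 : ∀ i, i < 69903 → P i := stepQ 69902 Q69902 (allL N69902 (tt N64801 (iv1 F363291)) (tt N64797 F363292) (tt N94921 (iv2 F406344)) (tt N105218 (iv3 F449249)) (tt N83413 (iv4 F353709)) (tt N69721 F362805) (tt N101284 (iv6 F432526)) (tt N38516 (iv7 D134288)))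
theorem Q69904 : ∀ i, i < 69904 → P i := stepQ 69903 Q69903 (allL N69903 (tt N55414 F364208) (tt N95905 F410185) (tt N105226 D208422) (tt N38517 (iv3 D134289)) (tt N70467 (iv4 F217461)) (tt N105227 D208423) (tt N39464 F364209) (tt N94913 (iv7 F406308)))
theorem Q69905 : ∀ i, i < 69905 → P i := stepQ 69904 Q69904 (allL N69904 (tt N59000 (iv1 F343837)) (tt N59564 F216312) (tt N64851 (iv2 F328924)) (tt N105227 (iv3 F449296)) (tt N96334 (iv4 F412102)) (tt N38517 (iv5 D134290)) (tt N64860 F331014) (tt N64505 (iv7 F328922)))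
theorem Q69906 : ∀ i, i < 69906 → P i := stepQ 69905 Q69905 (allL N69905 (tt N70435 (iv1 F331027)) (tt N93278 (iv0 F400271)) (tt N94912 (iv2 F406298)) (tt N39464 F331008) (tt N95903 (iv4 F410170)) (tt N39625 F331009) (tt N38517 (iv6 D134291)) (tt N70344 (iv7 F217236)))
theorem Q69907 : ∀ i, i < 69907 → P i := stepQ 69906 Q69906 (allL N69906 (tt N105160 F449062) (tt N105228 D208424) (tt N104143 (iv2 F444395)) (tt N38518 (iv3 D134292)) (tt N69163 F216313) (tt N64846 (iv5 F358468)) (tt N70343 (iv6 F217234)) (tt N94911 (iv7 F406297)))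
theorem Q69908 : ∀ i, i < 69908 → P i := stepQ 69907 Q69907 (allL N69907 (tt N91688 (iv1 F394047)) (tt N38519 (iv0 D134294)) (tt N94915 F406317) (tt N105229 D208425) (tt N105230 D208426) (tt N38738 F216315) (tt N105231 D208427) (tt N89316 F386062))
theorem Q69909 : ∀ i, i < 69909 → P i := stepQ 69908 Q69908 (allL N69908 (tt N38519 (iv1 D134295)) (tt N91688 F394046) (tt N89316 (iv2 F386058)) (tt N100331 (iv3 F428447)) (tt N99336 (iv4 F424155)) (tt N38737 F216316) (tt N80615 (iv6 F343846)) (tt N94915 (iv7 F406319)))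
theorem Q69910 : ∀ i, i < 69910 → P i := stepQ 69909 Q69909 (allL N69909 (tt N104857 (iv1 F447655)) (tt N96694 (iv0 F413504)) (tt N94916 (iv2 F406320)) (tt N105232 D208428) (tt N38519 (iv4 D134296)) (tt N94903 (iv5 F406274)) (tt N95993 F410548) (tt N94902 F406272))
theorem Q69911 : ∀ i, i < 69911 → P i := stepQ 69910 Q69910 (allL N69910 (tt N89316 (iv1 F386061)) (tt N94915 F406318) (tt N91688 F394044) (tt N105225 (iv3 F449286)) (tt N94902 (iv4 F406271)) (tt N38520 F216317) (tt N101063 (iv6 F431500)) (tt N38519 (iv7 D134297)))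
theorem Q69912 : ∀ i, i < 69912 → P i := stepQ 69911 Q69911 (allL N69911 (tt N39801 F356302) (tt N39800 F356303) (tt N39802 F356304) (tt N38523 (iv3 D134300)) (tt N70361 (iv4 F217290)) (tt N73284 F357733) (tt N70345 (iv6 F217242)) (tt N39788 F356305))
theorem Q69913 : ∀ i, i < 69913 → P i := stepQ 69912 Q69912 (allL N69912 (tt N38953 F217918) (tt N70732 F218200) (tt N70615 F336859) (tt N103414 (iv3 F441512)) (tt N38524 (iv4 D134303)) (tt N38964 F218080) (tt N100022 (iv6 F427240)) (tt N70733 (iv7 F336860)))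
theorem Q69914 : ∀ i, i < 69914 → P i := stepQ 69913 Q69913 (allL N69913 (tt N40937 F363636) (tt N38555 F340097) (tt N90868 (iv2 F391096)) (tt N87825 (iv3 F380687)) (tt N73376 (iv4 F333167)) (tt N38524 (iv5 D134304)) (tt N90866 (iv6 F391086)) (tt N73373 F333232))
theorem Q69915 : ∀ i, i < 69915 → P i := stepQ 69914 Q69914 (allL N69914 (tt N55729 F396008) (tt N70426 F396009) (tt N90632 F390338) (tt N103415 (iv3 F441519)) (tt N100022 (iv4 F427242)) (tt N90631 (iv5 F390339)) (tt N38524 (iv6 D134305)) (tt N70364 (iv7 F363969)))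
theorem Q69916 : ∀ i, i < 69916 → P i := stepQ 69915 Q69915 (allL N69915 (tt N85968 F374659) (tt N105087 F448733) (tt N91793 (iv2 F394451)) (tt N38525 (iv3 D134307)) (tt N84971 F371214) (tt N90871 (iv5 F391112)) (tt N70365 F364331) (tt N90635 F390336))
theorem Q69917 : ∀ i, i < 69917 → P i := stepQ 69916 Q69916 (allL N69916 (tt N70732 (iv1 F218201)) (tt N38953 (iv0 F216324)) (tt N70733 F336853) (tt N39040 F216323) (tt N38525 (iv4 D134308)) (tt N38963 F218274) (tt N70366 F335886) (tt N70615 F333492))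
theorem Q69918 : ∀ i, i < 69918 → P i := stepQ 69917 Q69917 (allL N69917 (tt N38555 F218113) (tt N40937 F333157) (tt N73373 F333158) (tt N90871 (iv3 F391110)) (tt N40260 F333159) (tt N38525 (iv5 D134309)) (tt N40259 F333160) (tt N90868 (iv7 F391100)))
theorem Q69919 : ∀ i, i < 69919 → P i := stepQ 69918 Q69918 (allL N69918 (tt N105079 (iv1 F448683)) (tt N65198 F336887) (tt N38527 F216325) (tt N104324 (iv3 F445249)) (tt N62830 F359680) (tt N38526 (iv5 D134311)) (tt N73899 (iv6 F359681)) (tt N105077 (iv7 F448673)))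
theorem Q69920 : ∀ i, i < 69920 → P i := stepQ 69919 Q69919 (allL N69919 (tt N83972 F380871) (tt N105233 D208429) (tt N38528 F216326) (tt N84013 (iv3 F367807)) (tt N60915 (iv4 F326360)) (tt N105234 D208430) (tt N38526 (iv6 D134312)) (tt N88751 (iv7 F384046)))
theorem Q69921 : ∀ i, i < 69921 → P i := stepQ 69920 Q69920 (allL N69920 (tt N105077 (iv1 F448675)) (tt N38527 (iv0 D134313)) (tt N105079 (iv2 F448689)) (tt N65203 F359708) (tt N79128 F359679) (tt N87048 (iv5 F378174)) (tt N65292 (iv6 F359706)) (tt N65198 (iv7 F359707)))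
theorem Q69922 : ∀ i, i < 69922 → P i := stepQ 69921 Q69921 (allL N69921 (tt N38527 (iv1 D134314)) (tt N105077 (iv0 F448674)) (tt N65198 F335175) (tt N61143 F335176) (tt N42629 F335177) (tt N95902 F410166) (tt N42628 F335178) (tt N105079 (iv7 F448684)))
theorem Q69923 : ∀ i, i < 69923 → P i := stepQ 69922 Q69922 (allL N69922 (tt N88751 (iv1 F384048)) (tt N38528 (iv0 D134317)) (tt N83972 F367671) (tt N48799 F367672) (tt N105235 D208431) (tt N105236 D208432) (tt N48797 F367673) (tt N105233 (iv7 F449326)))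
theorem Q69924 : ∀ i, i < 69924 → P i := stepQ 69923 Q69923 (allL N69923 (tt N38528 (iv1 D134318)) (tt N88751 F384047) (tt N105233 (iv2 F449330)) (tt N55410 F359590) (tt N74404 (iv4 F359568)) (tt N84297 (iv5 F368842)) (tt N55725 F359591) (tt N83972 F367669))
theorem Q69925 : ∀ i, i < 69925 → P i := stepQ 69924 Q69924 (allL N69924 (tt N105237 D208433) (tt N84311 (iv0 F391855)) (tt N105234 (iv2 F449331)) (tt N38531 F216328) (tt N105238 D208434) (tt N38528 (iv5 D134319)) (tt N73941 F365286) (tt N105239 D208435))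
theorem Q69926 : ∀ i, i < 69926 → P i := stepQ 69925 Q69925 (allL N69925 (tt N105233 (iv1 F449325)) (tt N83972 (iv0 F367670)) (tt N88751 (iv2 F384045)) (tt N38532 F216329) (tt N70778 (iv4 F218367)) (tt N105239 (iv5 F449342)) (tt N105082 (iv6 F448706)) (tt N38528 (iv7 D134320)))
theorem Q69927 : ∀ i, i < 69927 → P i := stepQ 69926 Q69926 (allL N69926 (tt N76362 F329092) (tt N76359 F329093) (tt N76373 F329094) (tt N38529 (iv3 D134321)) (tt N45236 F329095) (tt N68234 F216330) (tt N64545 F329096) (tt N45232 F329097))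
theorem Q69928 : ∀ i, i < 69928 → P i := stepQ 69927 Q69927 (allL N69927 (tt N49775 (iv1 F363026)) (tt N38530 (iv0 D134323)) (tt N100945 (iv2 F431062)) (tt N76376 (iv3 F363030)) (tt N63959 (iv4 F363027)) (tt N105240 D208436) (tt N63957 F363028) (tt N104328 (iv7 F445274)))
theorem Q69929 : ∀ i, i < 69929 → P i := stepQ 69928 Q69928 (allL N69928 (tt N38530 (iv1 D134324)) (tt N49775 F363025) (tt N104328 (iv2 F445278)) (tt N105241 D208437) (tt N96213 (iv4 F411523)) (tt N105242 D208438) (tt N96195 F411526) (tt N100945 (iv7 F431065)))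
theorem Q69930 : ∀ i, i < 69930 → P i := stepQ 69929 Q69929 (allL N69929 (tt N104328 (iv1 F445273)) (tt N100945 (iv0 F431066)) (tt N49775 (iv2 F363024)) (tt N73897 F364180) (tt N46757 F329907) (tt N100574 (iv5 F429527)) (tt N95997 F410561) (tt N38530 (iv7 D134326)))
theorem Q69931 : ∀ i, i < 69931 → P i := stepQ 69930 Q69930 (allL N69930 (tt N104333 (iv1 F445300)) (tt N38531 (iv0 D134327)) (tt N68221 (iv2 F216335)) (tt N105243 D208439) (tt N105193 (iv4 F449162)) (tt N38721 F216334) (tt N105244 D208440) (tt N104331 (iv7 F445291)))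
theorem Q69932 : ∀ i, i < 69932 → P i := stepQ 69931 Q69931 (allL N69931 (tt N38531 (iv1 D134328)) (tt N104333 F445299) (tt N104331 F445293) (tt N71926 (iv3 F365882)) (tt N105194 (iv4 F449165)) (tt N68222 (iv5 F216337)) (tt N100876 (iv6 F430847)) (tt N68221 F216336))
theorem Q69933 : ∀ i, i < 69933 → P i := stepQ 69932 Q69932 (allL N69932 (tt N105245 D208441) (tt N105246 D208442) (tt N104332 (iv2 F445295)) (tt N105247 D208443) (tt N38531 (iv4 D134329)) (tt N105248 D208444) (tt N100989 (iv6 F431169)) (tt N105249 D208445))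
theorem Q69934 : ∀ i, i < 69934 → P i := stepQ 69933 Q69933 (allL N69933 (tt N104331 (iv1 F445290)) (tt N68221 (iv0 F216339)) (tt N104333 (iv2 F445297)) (tt N105239 (iv3 F449341)) (tt N105249 (iv4 F449382)) (tt N38532 F216338) (tt N101485 (iv6 F433106)) (tt N38531 (iv7 D134330)))
theorem Q69935 : ∀ i, i < 69935 → P i := stepQ 69934 Q69934 (allL N69934 (tt N105085 F448721) (tt N105091 F448754) (tt N78698 F354752) (tt N38533 (iv3 D134332)) (tt N92251 F396469) (tt N78697 (iv5 F354744)) (tt N70377 F354753) (tt N104321 (iv7 F445233)))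
theorem Q69936 : ∀ i, i < 69936 → P i := stepQ 69935 Q69935 (allL N69935 (tt N52868 F354721) (tt N38556 F354722) (tt N54738 F354723) (tt N78697 F354743) (tt N84256 F368714) (tt N38533 (iv5 D134333)) (tt N75122 (iv6 F354739)) (tt N54737 F354724))
theorem Q69937 : ∀ i, i < 69937 → P i := stepQ 69936 Q69936 (allL N69936 (tt N78699 (iv1 F337001)) (tt N38542 (iv0 F216343)) (tt N78700 F336982) (tt N38534 (iv3 D134336)) (tt N69015 F216342) (tt N75128 F337000) (tt N105250 D208446) (tt N75127 (iv7 F336986)))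
theorem Q69938 : ∀ i, i < 69938 → P i := stepQ 69937 Q69937 (allL N69937 (tt N38556 F354731) (tt N52868 F354732) (tt N54737 F354733) (tt N75128 (iv3 F354736)) (tt N84255 (iv4 F368711)) (tt N38534 (iv5 D134337)) (tt N87969 (iv6 F381325)) (tt N54738 F354734))
theorem Q69939 : ∀ i, i < 69939 → P i := stepQ 69938 Q69938 (allL N69938 (tt N70428 F392040) (tt N105251 D208447) (tt N104323 (iv2 F445243)) (tt N105250 (iv3 F449387)) (tt N104339 F445330) (tt N105252 D208448) (tt N38534 (iv6 D134338)) (tt N70381 F354755))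
theorem Q69940 : ∀ i, i < 69940 → P i := stepQ 69939 Q69939 (allL N69939 (tt N86987 F383864) (tt N104325 F445258) (tt N38536 F216345) (tt N105077 (iv3 F448671)) (tt N87862 (iv4 F383865)) (tt N38535 (iv5 D134339)) (tt N91021 F391610) (tt N104324 (iv7 F445250)))
theorem Q69941 : ∀ i, i < 69941 → P i := stepQ 69940 Q69940 (allL N69940 (tt N88679 (iv1 F383861)) (tt N83984 F383863) (tt N38537 F216346) (tt N105078 (iv3 F448677)) (tt N78402 F354690) (tt N53804 (iv5 F354689)) (tt N38535 (iv6 D134340)) (tt N88678 (iv7 F383852)))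
theorem Q69942 : ∀ i, i < 69942 → P i := stepQ 69941 Q69941 (allL N69941 (tt N104324 (iv1 F445251)) (tt N38536 (iv0 D134341)) (tt N86987 (iv2 F377956)) (tt N80849 (iv3 F377960)) (tt N52262 F377957) (tt N68597 F377958) (tt N52261 F377959) (tt N104325 (iv7 F445259)))
theorem Q69943 : ∀ i, i < 69943 → P i := stepQ 69942 Q69942 (allL N69942 (tt N38536 (iv1 D134342)) (tt N104324 (iv0 F445252)) (tt N104325 F445257) (tt N78678 (iv3 F361768)) (tt N86990 (iv4 F377976)) (tt N68598 (iv5 F361767)) (tt N49817 (iv6 F361770)) (tt N86987 (iv7 F377955)))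
theorem Q69944 : ∀ i, i < 69944 → P i := stepQ 69943 Q69943 (allL N69943 (tt N79979 F361766) (tt N105253 D208449) (tt N87862 F383866) (tt N96194 (iv3 F411433)) (tt N38536 (iv4 D134343)) (tt N105254 D208450) (tt N105255 D208451) (tt N104326 (iv7 F445264)))
theorem Q69945 : ∀ i, i < 69945 → P i := stepQ 69944 Q69944 (allL N69944 (tt N49782 F354735) (tt N91022 F391619) (tt N91021 (iv2 F391612)) (tt N38538 F216347) (tt N105255 (iv4 F449409)) (tt N95999 (iv5 F410566)) (tt N38536 (iv6 D134344)) (tt N91020 F391607))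
theorem Q69946 : ∀ i, i < 69946 → P i := stepQ 69945 Q69945 (allL N69945 (tt N88678 (iv1 F383851)) (tt N38537 (iv0 D134345)) (tt N88679 (iv2 F383857)) (tt N105256 D208452) (tt N82494 (iv4 F364569)) (tt N105257 D208453) (tt N88673 F383839) (tt N83984 (iv7 F383841)))
theorem Q69947 : ∀ i, i < 69947 → P i := stepQ 69946 Q69946 (allL N69946 (tt N53806 F377962) (tt N53224 F354720) (tt N53804 F354686) (tt N38539 F216348) (tt N78456 (iv4 F354685)) (tt N38537 (iv5 D134347)) (tt N95999 (iv6 F410567)) (tt N53805 F354684))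
theorem Q69948 : ∀ i, i < 69948 → P i := stepQ 69947 Q69947 (allL N69947 (tt N83984 (iv1 F383862)) (tt N88679 (iv0 F383860)) (tt N88678 F383854) (tt N38540 F216349) (tt N78403 (iv4 F334365)) (tt N53805 (iv5 F354681)) (tt N84012 (iv6 F367793)) (tt N38537 (iv7 D134348)))
theorem Q69949 : ∀ i, i < 69949 → P i := stepQ 69948 Q69948 (allL N69948 (tt N95997 F410560) (tt N38538 (iv0 D134349)) (tt N91024 (iv2 F391627)) (tt N105258 D208454) (tt N96209 (iv4 F411504)) (tt N89390 (iv5 F386339)) (tt N49773 F364410) (tt N100941 (iv7 F431043)))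
theorem Q69950 : ∀ i, i < 69950 → P i := stepQ 69949 Q69949 (allL N69949 (tt N38538 (iv1 D134350)) (tt N95997 (iv0 F410559)) (tt N100941 (iv2 F431039)) (tt N85817 (iv3 F374109)) (tt N85820 (iv4 F374108)) (tt N105259 D208455) (tt N64559 F374110) (tt N91024 (iv7 F391631)))
theorem Q69951 : ∀ i, i < 69951 → P i := stepQ 69950 Q69950 (allL N69950 (tt N100941 (iv1 F431045)) (tt N91024 (iv0 F391633)) (tt N95997 (iv2 F410556)) (tt N91020 (iv3 F391603)) (tt N49776 F363021) (tt N95912 (iv5 F410221)) (tt N49775 (iv6 F363022)) (tt N38538 (iv7 D134352)))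
theorem Q69952 : ∀ i, i < 69952 → P i := stepQ 69951 Q69951 (allL N69951 (tt N38539 (iv1 D134353)) (tt N101486 F433108) (tt N68259 (iv2 F216352)) (tt N105260 D208456) (tt N96694 (iv4 F413503)) (tt N38741 F216351) (tt N40129 F350361) (tt N94908 (iv7 F406291)))
theorem Q69953 : ∀ i, i < 69953 → P i := stepQ 69952 Q69952 (allL N69952 (tt N105261 D208457) (tt N96520 F412833) (tt N105083 (iv2 F448710)) (tt N103090 (iv3 F464058)) (tt N38539 (iv4 D134354)) (tt N105262 D208459) (tt N96000 (iv6 F410570)) (tt N105263 D208460))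
theorem Q69954 : ∀ i, i < 69954 → P i := stepQ 69953 Q69953 (allL N69953 (tt N68259 (iv1 F216354)) (tt N94908 (iv0 F406292)) (tt N101486 (iv2 F433103)) (tt N53805 (iv3 F354682)) (tt N105263 (iv4 F449455)) (tt N38540 F216353) (tt N101078 (iv6 F431563)) (tt N38539 (iv7 D134355)))
theorem Q69955 : ∀ i, i < 69955 → P i := stepQ 69954 Q69954 (allL N69954 (tt N39812 F347015) (tt N39202 (iv0 F347016)) (tt N38554 F216359) (tt N105084 (iv3 F448714)) (tt N38599 F216360) (tt N105264 D208461) (tt N38541 (iv6 D134357)) (tt N39810 F347010))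
theorem Q69956 : ∀ i, i < 69956 → P i := stepQ 69955 Q69955 (allL N69955 (tt N78678 F337007) (tt N78680 F337008) (tt N77221 (iv2 F360771)) (tt N38543 F216364) (tt N76077 (iv4 F337006)) (tt N38542 (iv5 D134359)) (tt N105265 D208462) (tt N102604 (iv7 F437867)))
theorem Q69957 : ∀ i, i < 69957 → P i := stepQ 69956 Q69956 (allL N69956 (tt N84009 F380824) (tt N105266 D208463) (tt N102597 (iv2 F437844)) (tt N38544 F216365) (tt N102594 (iv4 F437834)) (tt N105267 D208464) (tt N38542 (iv6 D134360)) (tt N105268 D208465))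
theorem Q69958 : ∀ i, i < 69958 → P i := stepQ 69957 Q69957 (allL N69957 (tt N38547 (iv1 F216369)) (tt N38543 (iv0 D134361)) (tt N64595 (iv2 F328724)) (tt N76373 (iv3 F347357)) (tt N80464 F347359) (tt N68236 F216486) (tt N100651 F429851) (tt N64591 F337786))
theorem Q69959 : ∀ i, i < 69959 → P i := stepQ 69958 Q69958 (allL N69958 (tt N100488 (iv1 F429139)) (tt N62840 (iv0 F352589)) (tt N62984 (iv2 F352595)) (tt N87462 (iv3 F379410)) (tt N38543 (iv4 D134363)) (tt N40812 F334161) (tt N62845 F352596) (tt N104152 (iv7 F444440)))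
theorem Q69960 : ∀ i, i < 69960 → P i := stepQ 69959 Q69959 (allL N69959 (tt N62916 F352600) (tt N105241 (iv0 F449352)) (tt N62983 F352598) (tt N105265 (iv3 F449464)) (tt N62845 (iv4 F352597)) (tt N105269 D208466) (tt N38543 (iv6 D134364)) (tt N62980 F352599))
theorem Q69961 : ∀ i, i < 69961 → P i := stepQ 69960 Q69960 (allL N69960 (tt N64591 F337787) (tt N64595 F333876) (tt N38547 F216367) (tt N102604 (iv3 F437865)) (tt N104152 (iv4 F444438)) (tt N38545 F216368) (tt N104151 F444435) (tt N38543 (iv7 D134365)))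
theorem Q69962 : ∀ i, i < 69962 → P i := stepQ 69961 Q69961 (allL N69961 (tt N39826 F363250) (tt N38544 (iv0 D134366)) (tt N67836 (iv2 F363249)) (tt N105090 (iv3 F448747)) (tt N38613 F363251) (tt N105270 D208467) (tt N51690 F363252) (tt N102662 (iv7 F438117)))
theorem Q69963 : ∀ i, i < 69963 → P i := stepQ 69962 Q69962 (allL N69962 (tt N105271 D208468) (tt N71926 (iv0 F365450)) (tt N103912 (iv2 F443335)) (tt N105267 (iv3 F449471)) (tt N77066 F359637) (tt N38544 (iv5 D134368)) (tt N105269 (iv6 F449480)) (tt N105272 D208469))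
theorem Q69964 : ∀ i, i < 69964 → P i := stepQ 69963 Q69963 (allL N69963 (tt N102662 (iv1 F438119)) (tt N67836 F337782) (tt N39826 F333888) (tt N105268 (iv3 F449474)) (tt N103911 (iv4 F443330)) (tt N105272 (iv5 F449493)) (tt N39205 F359621) (tt N38544 (iv7 D134369)))
theorem Q69965 : ∀ i, i < 69965 → P i := stepQ 69964 Q69964 (allL N69964 (tt N103246 (iv1 F440768)) (tt N103244 (iv0 F440754)) (tt N38546 (iv2 D134372)) (tt N78699 F360768) (tt N93229 F400043) (tt N65202 (iv5 F347342)) (tt N105273 D208470) (tt N77223 (iv7 F349811)))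
theorem Q69966 : ∀ i, i < 69966 → P i := stepQ 69965 Q69965 (allL N69965 (tt N97508 F417163) (tt N103419 (iv0 F441545)) (tt N105273 (iv2 F449496)) (tt N38548 F216372) (tt N103916 (iv4 F443358)) (tt N83136 (iv5 F339697)) (tt N38546 (iv6 D134374)) (tt N39823 F333881))
theorem Q69967 : ∀ i, i < 69967 → P i := stepQ 69966 Q69966 (allL N69966 (tt N62840 (iv1 F352591)) (tt N100488 (iv0 F429138)) (tt N104152 (iv2 F444437)) (tt N72687 (iv3 F352593)) (tt N38547 (iv4 D134375)) (tt N40813 F331618) (tt N100315 (iv6 F428397)) (tt N62984 F352594))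
theorem Q69968 : ∀ i, i < 69968 → P i := stepQ 69967 Q69967 (allL N69967 (tt N105258 (iv1 F449422)) (tt N105274 D208471) (tt N104151 (iv2 F444431)) (tt N77226 (iv3 F361782)) (tt N100315 (iv4 F428399)) (tt N95990 (iv5 F410537)) (tt N38547 (iv6 D134376)) (tt N104153 (iv7 F444445)))
theorem Q69969 : ∀ i, i < 69969 → P i := stepQ 69968 Q69968 (allL N69968 (tt N103621 (iv1 F442271)) (tt N83095 (iv0 F375557)) (tt N39829 F333884) (tt N83136 F339698) (tt N105275 D208472) (tt N38548 (iv5 D134379)) (tt N95990 F410535) (tt N39825 F333885))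
theorem Q69970 : ∀ i, i < 69970 → P i := stepQ 69969 Q69969 (allL N69969 (tt N105276 D208473) (tt N60868 (iv0 F339492)) (tt N38551 F216381) (tt N62718 F331667) (tt N38549 (iv4 D134383)) (tt N81501 (iv5 F346387)) (tt N105277 D208474) (tt N62727 (iv7 F331665)))
theorem Q69971 : ∀ i, i < 69971 → P i := stepQ 69970 Q69970 (allL N69970 (tt N82133 (iv1 F361435)) (tt N75102 F342810) (tt N38552 F216382) (tt N105097 (iv3 F448775)) (tt N105277 (iv4 F449520)) (tt N70396 (iv5 F217352)) (tt N38549 (iv6 D134384)) (tt N100429 (iv7 F428938)))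
theorem Q69972 : ∀ i, i < 69972 → P i := stepQ 69971 Q69971 (allL N69971 (tt N62727 (iv1 F331666)) (tt N38551 (iv0 D134391)) (tt N105276 F449514) (tt N62732 F339500) (tt N75169 F339499) (tt N88197 (iv5 F382131)) (tt N65096 F352610) (tt N60868 (iv7 F352611)))
theorem Q69973 : ∀ i, i < 69973 → P i := stepQ 69972 Q69972 (allL N69972 (tt N38551 (iv1 D134392)) (tt N62727 F331668) (tt N60868 F331671) (tt N66655 F331672) (tt N39643 F331673) (tt N79126 F331674) (tt N39649 F331675) (tt N105276 (iv7 F449516)))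
theorem Q69974 : ∀ i, i < 69974 → P i := stepQ 69973 Q69973 (allL N69973 (tt N105278 D208475) (tt N56047 F331623) (tt N62725 F331624) (tt N38551 (iv3 D134393)) (tt N38558 F216383) (tt N99198 F423665) (tt N99199 (iv6 F423669)) (tt N59310 (iv7 F216384)))
theorem Q69975 : ∀ i, i < 69975 → P i := stepQ 69974 Q69974 (allL N69974 (tt N80466 (iv1 F335852)) (tt N81499 (iv0 F334143)) (tt N81501 (iv2 F346391)) (tt N99198 (iv3 F423662)) (tt N81335 (iv4 F334152)) (tt N38551 (iv5 D134394)) (tt N73102 F346392) (tt N81502 F346393))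
theorem Q69976 : ∀ i, i < 69976 → P i := stepQ 69975 Q69975 (allL N69975 (tt N99500 F424880) (tt N105279 D208476) (tt N105277 (iv2 F449518)) (tt N99199 (iv3 F423668)) (tt N38552 F216385) (tt N99197 (iv5 F423659)) (tt N38551 (iv6 D134395)) (tt N105280 D208477))
theorem Q69977 : ∀ i, i < 69977 → P i := stepQ 69976 Q69976 (allL N69976 (tt N60868 (iv1 F346396)) (tt N105276 F449515) (tt N62727 F331664) (tt N59310 F216386) (tt N38553 F216387) (tt N81502 F346395) (tt N67039 (iv6 F331661)) (tt N38551 (iv7 D134396)))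
theorem Q69978 : ∀ i, i < 69978 → P i := stepQ 69977 Q69977 (allL N69977 (tt N100429 F428940) (tt N38552 (iv0 D134397)) (tt N82133 F363090) (tt N42394 F363091) (tt N40820 F363092) (tt N105281 D208478) (tt N80012 F363093) (tt N75102 F363094))
theorem Q69979 : ∀ i, i < 69979 → P i := stepQ 69978 Q69978 (allL N69978 (tt N38552 (iv1 D134398)) (tt N100429 F428941) (tt N75102 (iv2 F363096)) (tt N105282 D208479) (tt N40821 F363097) (tt N105283 D208480) (tt N100573 F429526) (tt N82133 F363095))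
theorem Q69980 : ∀ i, i < 69980 → P i := stepQ 69979 Q69979 (allL N69979 (tt N75102 F342809) (tt N82133 F363098) (tt N100429 (iv2 F428937)) (tt N38562 F216388) (tt N105280 (iv4 F449535)) (tt N70408 (iv5 F217359)) (tt N64783 F364973) (tt N38552 (iv7 D134399)))
theorem Q69981 : ∀ i, i < 69981 → P i := stepQ 69980 Q69980 (allL N69980 (tt N39810 F347006) (tt N38554 (iv0 D134401)) (tt N39812 F347007) (tt N105284 D208481) (tt N90469 (iv4 F389775)) (tt N105285 D208482) (tt N39818 F347008) (tt N39202 F347009))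
theorem Q69982 : ∀ i, i < 69982 → P i := stepQ 69981 Q69981 (allL N69981 (tt N105286 D208483) (tt N105287 D208484) (tt N105264 (iv2 F449459)) (tt N38566 F216391) (tt N105288 D208485) (tt N38554 (iv5 D134403)) (tt N100430 (iv6 F428944)) (tt N70410 (iv7 F217365)))
theorem Q69983 : ∀ i, i < 69983 → P i := stepQ 69982 Q69982 (allL N69982 (tt N90868 F391102) (tt N73373 F359686) (tt N38555 (iv2 D134406)) (tt N52868 F333150) (tt N40940 F333151) (tt N91088 (iv5 F391875)) (tt N43926 F333152) (tt N40937 F333153))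
theorem Q69984 : ∀ i, i < 69984 → P i := stepQ 69983 Q69983 (allL N69983 (tt N54738 (iv1 F333149)) (tt N54737 F354716) (tt N38556 (iv2 D134415)) (tt N40937 F333144) (tt N96899 (iv4 F414509)) (tt N78092 (iv5 F245954)) (tt N40935 F333145) (tt N52868 (iv7 F333146)))
theorem Q69985 : ∀ i, i < 69985 → P i := stepQ 69984 Q69984 (allL N69984 (tt N105289 D208486) (tt N105290 D208487) (tt N96899 (iv2 F414507)) (tt N96186 (iv3 F411390)) (tt N38556 (iv4 D134416)) (tt N105291 D208488) (tt N58667 F365583) (tt N49729 (iv7 F365584)))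
theorem Q69986 : ∀ i, i < 69986 → P i := stepQ 69985 Q69985 (allL N69985 (tt N38557 (iv1 D134419)) (tt N40965 F341444) (tt N78113 F341445) (tt N99834 (iv3 F426443)) (tt N58960 F341446) (tt N100946 (iv5 F431068)) (tt N39870 F341447) (tt N90945 (iv7 F391326)))
theorem Q69987 : ∀ i, i < 69987 → P i := stepQ 69986 Q69986 (allL N69986 (tt N41919 (iv1 F331630)) (tt N38558 (iv0 D134422)) (tt N41921 F331625) (tt N105292 D208489) (tt N41876 F331626) (tt N70323 (iv5 F340092)) (tt N64749 F356542) (tt N41872 F331627))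
theorem Q69988 : ∀ i, i < 69988 → P i := stepQ 69987 Q69987 (allL N69987 (tt N41921 (iv1 F331634)) (tt N41872 (iv0 F331635)) (tt N38558 (iv2 D134424)) (tt N96215 (iv3 F411534)) (tt N62725 F331629) (tt N59301 F216395) (tt N105293 D208490) (tt N41919 (iv7 F331632)))
theorem Q69989 : ∀ i, i < 69989 → P i := stepQ 69988 Q69988 (allL N69988 (tt N73833 F353339) (tt N99562 (iv0 F425175)) (tt N105293 (iv2 F449596)) (tt N38559 F216400) (tt N99199 (iv4 F423670)) (tt N105294 D208491) (tt N38558 (iv6 D134425)) (tt N64781 F353342))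
theorem Q69990 : ∀ i, i < 69990 → P i := stepQ 69989 Q69989 (allL N69989 (tt N38559 (iv1 D134427)) (tt N64492 F342802) (tt N64762 (iv2 F356449)) (tt N49633 F357250) (tt N75129 (iv4 F342816)) (tt N90211 (iv5 F388916)) (tt N49631 (iv6 F356372)) (tt N64789 F342815))
theorem Q69991 : ∀ i, i < 69991 → P i := stepQ 69990 Q69990 (allL N69990 (tt N100604 (iv1 F429670)) (tt N45343 F342819) (tt N96242 (iv2 F411705)) (tt N105294 (iv3 F449603)) (tt N98943 (iv4 F422824)) (tt N38559 (iv5 D134428)) (tt N59316 F216401) (tt N64790 (iv7 F365244)))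
theorem Q69992 : ∀ i, i < 69992 → P i := stepQ 69991 Q69991 (allL N69991 (tt N40272 F343185) (tt N40259 F343186) (tt N73362 F343187) (tt N38560 (iv3 D134431)) (tt N40888 F343188) (tt N88887 (iv5 F384424)) (tt N39868 F343189) (tt N40952 F343190))
theorem Q69993 : ∀ i, i < 69993 → P i := stepQ 69992 Q69992 (allL N69992 (tt N101113 (iv1 F431743)) (tt N72965 F343181) (tt N88968 (iv2 F384615)) (tt N88887 F384427) (tt N99587 (iv4 F425295)) (tt N38560 (iv5 D134433)) (tt N39873 F343182) (tt N100985 (iv7 F431157)))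
theorem Q69994 : ∀ i, i < 69994 → P i := stepQ 69993 Q69993 (allL N69993 (tt N75122 (iv1 F360248)) (tt N62751 (iv0 F360247)) (tt N75121 F343196) (tt N38561 (iv3 D134436)) (tt N91012 (iv4 F391559)) (tt N50606 (iv5 F373119)) (tt N90947 (iv6 F391338)) (tt N75120 F343210))
theorem Q69995 : ∀ i, i < 69995 → P i := stepQ 69994 Q69994 (allL N69994 (tt N72965 F343202) (tt N101113 (iv0 F431742)) (tt N100985 (iv2 F431155)) (tt N50606 F373120) (tt N105295 D208492) (tt N38561 (iv5 D134438)) (tt N105296 D208493) (tt N88968 (iv7 F384618)))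
theorem Q69996 : ∀ i, i < 69996 → P i := stepQ 69995 Q69995 (allL N69995 (tt N90862 F391074) (tt N96197 (iv0 F411453)) (tt N64793 (iv2 F341435)) (tt N100430 (iv3 F428943)) (tt N105297 D208494) (tt N38563 (iv5 D134443)) (tt N38566 F216408) (tt N64784 (iv7 F343234)))
theorem Q69997 : ∀ i, i < 69997 → P i := stepQ 69996 Q69996 (allL N69996 (tt N70364 (iv1 F363111)) (tt N90632 (iv0 F390326)) (tt N55729 F360485) (tt N38564 (iv3 D134444)) (tt N55719 (iv4 F327837)) (tt N105298 D208495) (tt N55718 (iv6 F350303)) (tt N70426 (iv7 F217374)))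
theorem Q69998 : ∀ i, i < 69998 → P i := stepQ 69997 Q69997 (allL N69997 (tt N88603 (iv1 F383568)) (tt N104859 (iv0 F447663)) (tt N70429 (iv2 F217380)) (tt N105298 (iv3 F449623)) (tt N105299 D208496) (tt N38564 (iv5 D134445)) (tt N72488 F350271) (tt N70427 (iv7 F217376)))
theorem Q69999 : ∀ i, i < 69999 → P i := stepQ 69998 Q69998 (allL N69998 (tt N73226 F350275) (tt N70360 F350274) (tt N70430 (iv2 F217382)) (tt N55718 F350301) (tt N60875 (iv4 F350302)) (tt N68351 (iv5 F350272)) (tt N38564 (iv6 D134446)) (tt N73287 F350273))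
theorem Q70000 : ∀ i, i < 70000 → P i := stepQ 69999 Q69999 (allL N69999 (tt N104323 F445247) (tt N70381 (iv0 F392050)) (tt N105251 F449393) (tt N38565 (iv3 D134447)) (tt N67504 F216409) (tt N88732 (iv5 F383980)) (tt N88672 F383814) (tt N70428 (iv7 F217379)))
theorem Q70001 : ∀ i, i < 70001 → P i := stepQ 70000 Q70000 (allL N70000 (tt N104859 (iv1 F447664)) (tt N88603 (iv0 F383569)) (tt N70427 (iv2 F217375)) (tt N88732 F383981) (tt N105300 D208497) (tt N38565 (iv5 D134448)) (tt N105301 D208498) (tt N70429 (iv7 F217381)))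
theorem Q70002 : ∀ i, i < 70002 → P i := stepQ 70001 Q70001 (allL N70001 (tt N70198 (iv1 F216942)) (tt N38566 (iv0 D134450)) (tt N70431 F350269) (tt N83442 F421401) (tt N105302 D208499) (tt N101140 (iv5 F431893)) (tt N83440 (iv6 F421402)) (tt N47860 F350270))
theorem Q70003 : ∀ i, i < 70003 → P i := stepQ 70002 Q70002 (allL N70002 (tt N38566 (iv1 D134451)) (tt N70198 F216941) (tt N47860 F350266) (tt N105303 D208500) (tt N105304 D208501) (tt N101005 (iv5 F431224)) (tt N47824 F350267) (tt N70431 F350268))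
theorem Q70004 : ∀ i, i < 70004 → P i := stepQ 70003 Q70003 (allL N70003 (tt N105305 D208502) (tt N105306 D208503) (tt N105101 (iv2 F448793)) (tt N105307 D208504) (tt N38566 (iv4 D134452)) (tt N105308 D208505) (tt N105297 (iv6 F449618)) (tt N70432 (iv7 F217387)))
theorem Q70005 : ∀ i, i < 70005 → P i := stepQ 70004 Q70004 (allL N70004 (tt N70332 (iv1 F412733)) (tt N94920 (iv0 F406343)) (tt N77370 (iv2 F349425)) (tt N38567 (iv3 D134453)) (tt N68834 F216411) (tt N77153 F349424) (tt N82753 (iv6 F352431)) (tt N70433 (iv7 F217389)))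
theorem Q70006 : ∀ i, i < 70006 → P i := stepQ 70005 Q70005 (allL N70005 (tt N90878 (iv1 F406336)) (tt N105309 D208506) (tt N70438 (iv2 F217402)) (tt N77153 (iv3 F349423)) (tt N105310 D208507) (tt N38567 (iv5 D134454)) (tt N77163 F349418) (tt N70434 (iv7 F217391)))
theorem Q70007 : ∀ i, i < 70007 → P i := stepQ 70006 Q70006 (allL N70006 (tt N40572 F342843) (tt N40564 F342844) (tt N40574 F216412) (tt N82753 F352434) (tt N38569 F216413) (tt N70321 F342845) (tt N38567 (iv6 D134455)) (tt N40567 (iv7 F216414)))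
theorem Q70008 : ∀ i, i < 70008 → P i := stepQ 70007 Q70007 (allL N70007 (tt N96595 F413128) (tt N69802 (iv0 F363079)) (tt N70439 (iv2 F217404)) (tt N83016 F366837) (tt N38568 (iv4 D134456)) (tt N105311 D208508) (tt N68223 F216415) (tt N64676 (iv7 F329431)))
theorem Q70009 : ∀ i, i < 70009 → P i := stepQ 70008 Q70008 (allL N70008 (tt N71076 F219402) (tt N70569 (iv0 F217848)) (tt N70586 (iv2 F217905)) (tt N38572 F216416) (tt N104472 (iv4 F445910)) (tt N38570 (iv5 D134457)) (tt N68165 F216417) (tt N70436 (iv7 F217400)))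
theorem Q70010 : ∀ i, i < 70010 → P i := stepQ 70009 Q70009 (allL N70009 (tt N105068 F448645) (tt N70350 (iv0 F389776)) (tt N105211 (iv2 F449222)) (tt N38571 (iv3 D134458)) (tt N102515 (iv4 F437487)) (tt N105312 D208509) (tt N95856 F409975) (tt N70437 (iv7 F217401)))
theorem Q70011 : ∀ i, i < 70011 → P i := stepQ 70010 Q70010 (allL N70010 (tt N105309 (iv1 F449651)) (tt N90878 (iv0 F406335)) (tt N70434 (iv2 F217390)) (tt N105312 (iv3 F449665)) (tt N105313 D208510) (tt N38571 (iv5 D134459)) (tt N105314 D208511) (tt N70438 (iv7 F217403)))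
theorem Q70012 : ∀ i, i < 70012 → P i := stepQ 70011 Q70011 (allL N70011 (tt N69802 (iv1 F363080)) (tt N96595 (iv0 F413127)) (tt N64676 (iv2 F329429)) (tt N105315 D208512) (tt N38572 (iv4 D134460)) (tt N105316 D208513) (tt N64457 (iv6 F329057)) (tt N70439 (iv7 F217406)))
theorem Q70013 : ∀ i, i < 70013 → P i := stepQ 70012 Q70012 (allL N70012 (tt N70461 (iv1 F217439)) (tt N38573 (iv0 D134461)) (tt N70460 (iv2 F336950)) (tt N74780 (iv3 F355299)) (tt N105317 D208514) (tt N74776 F355300) (tt N84947 (iv6 F371155)) (tt N50908 F336949))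
theorem Q70014 : ∀ i, i < 70014 → P i := stepQ 70013 Q70013 (allL N70013 (tt N70460 (iv1 F217440)) (tt N50908 (iv0 F332260)) (tt N38573 (iv2 D134463)) (tt N45043 F332606) (tt N91792 (iv4 F394445)) (tt N45042 (iv5 F332616)) (tt N105318 D208515) (tt N70461 (iv7 F217438)))
theorem Q70015 : ∀ i, i < 70015 → P i := stepQ 70014 Q70014 (allL N70014 (tt N105319 D208516) (tt N84930 (iv0 F371117)) (tt N105318 (iv2 F449683)) (tt N38574 F216420) (tt N94917 (iv4 F406324)) (tt N84769 F370553) (tt N38573 (iv6 D134464)) (tt N70440 (iv7 F217408)))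
theorem Q70016 : ∀ i, i < 70016 → P i := stepQ 70015 Q70015 (allL N70015 (tt N74807 F338639) (tt N74493 F338640) (tt N70463 (iv2 F217453)) (tt N84769 F370552) (tt N42172 F338641) (tt N38574 (iv5 D134465)) (tt N42170 F338642) (tt N70441 (iv7 F217410)))
theorem Q70017 : ∀ i, i < 70017 → P i := stepQ 70016 Q70016 (allL N70016 (tt N84912 F371073) (tt N83734 (iv0 F369241)) (tt N84427 (iv2 F369242)) (tt N38577 (iv3 D134472)) (tt N102467 (iv4 F437333)) (tt N84426 F369240) (tt N97896 F418694) (tt N84913 (iv7 F371075)))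
theorem Q70018 : ∀ i, i < 70018 → P i := stepQ 70017 Q70017 (allL N70017 (tt N50773 (iv1 F339553)) (tt N51431 (iv0 F339551)) (tt N51432 (iv2 F339552)) (tt N84426 (iv3 F369237)) (tt N105320 D208517) (tt N38577 (iv5 D134473)) (tt N84412 (iv6 F369201)) (tt N51427 F339554))
theorem Q70019 : ∀ i, i < 70019 → P i := stepQ 70018 Q70018 (allL N70018 (tt N40650 (iv1 F218318)) (tt N70836 F218542) (tt N98730 (iv2 F422053)) (tt N97896 (iv3 F418696)) (tt N97968 (iv4 F419010)) (tt N70740 (iv5 F218228)) (tt N38577 (iv6 D134474)) (tt N70770 (iv7 F218311)))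
theorem Q70020 : ∀ i, i < 70020 → P i := stepQ 70019 Q70019 (allL N70019 (tt N71345 F219890) (tt N61957 (iv0 F217256)) (tt N73304 F224329) (tt N38581 F216426) (tt N105321 D208518) (tt N38579 (iv5 D134478)) (tt N59868 F216427) (tt N62161 F216428))
theorem Q70021 : ∀ i, i < 70021 → P i := stepQ 70020 Q70020 (allL N70020 (tt N98742 F422110) (tt N98738 (iv0 F422098)) (tt N98741 F422102) (tt N38580 (iv3 D134479)) (tt N104636 (iv4 F446631)) (tt N105322 D208519) (tt N70697 (iv6 F365388)) (tt N98732 (iv7 F422066)))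
theorem Q70022 : ∀ i, i < 70022 → P i := stepQ 70021 Q70021 (allL N70021 (tt N86574 F376524) (tt N88522 F383389) (tt N86414 (iv2 F376149)) (tt N105322 (iv3 F449708)) (tt N82797 F339543) (tt N38580 (iv5 D134480)) (tt N79033 (iv6 F363797)) (tt N98733 (iv7 F422072)))
theorem Q70023 : ∀ i, i < 70023 → P i := stepQ 70022 Q70022 (allL N70022 (tt N71547 F245265) (tt N61988 F245405) (tt N98731 (iv2 F422059)) (tt N105323 D208520) (tt N38581 (iv4 D134481)) (tt N76831 (iv5 F359504)) (tt N59873 F216429) (tt N62164 F216430))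
theorem Q70024 : ∀ i, i < 70024 → P i := stepQ 70023 Q70023 (allL N70023 (tt N50204 F349142) (tt N49255 F349143) (tt N83617 F349144) (tt N38582 (iv3 D134482)) (tt N93040 (iv4 F399239)) (tt N85795 (iv5 F373981)) (tt N105324 D208521) (tt N83616 F349145))
theorem Q70025 : ∀ i, i < 70025 → P i := stepQ 70024 Q70024 (allL N70024 (tt N88522 F383388) (tt N86574 (iv0 F376523)) (tt N98733 (iv2 F422071)) (tt N85795 F373978) (tt N83326 F339546) (tt N38582 (iv5 D134483)) (tt N105325 D208522) (tt N86414 F376153))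
theorem Q70026 : ∀ i, i < 70026 → P i := stepQ 70025 Q70025 (allL N70025 (tt N60858 (iv1 F363781)) (tt N60900 (iv0 F327846)) (tt N60902 F363763) (tt N105324 (iv3 F449715)) (tt N38584 F216431) (tt N104311 (iv5 F445178)) (tt N38582 (iv6 D134484)) (tt N60901 (iv7 F363761)))
theorem Q70027 : ∀ i, i < 70027 → P i := stepQ 70026 Q70026 (allL N70026 (tt N61988 (iv1 F387035)) (tt N71547 F245266) (tt N62164 F216432) (tt N105326 D208523) (tt N38583 (iv4 D134485)) (tt N83323 F339544) (tt N44297 F216433) (tt N98731 (iv7 F422061)))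
theorem Q70028 : ∀ i, i < 70028 → P i := stepQ 70027 Q70027 (allL N70027 (tt N72300 (iv1 F358821)) (tt N62356 F344461) (tt N65408 (iv2 F341361)) (tt N80088 (iv3 F359316)) (tt N38586 (iv4 D134487)) (tt N64281 F344463) (tt N59887 F216434) (tt N62567 F216435))
theorem Q70029 : ∀ i, i < 70029 → P i := stepQ 70028 Q70028 (allL N70028 (tt N66150 (iv1 F216445)) (tt N66149 F216443) (tt N38588 (iv2 D134491)) (tt N67943 F216439) (tt N68851 F216440) (tt N67942 F216441) (tt N56160 (iv6 F364864)) (tt N66151 F216442))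
theorem Q70030 : ∀ i, i < 70030 → P i := stepQ 70029 Q70029 (allL N70029 (tt N46064 F332611) (tt N56161 F332612) (tt N56160 F332613) (tt N38589 F216446) (tt N68853 F216447) (tt N78894 F332614) (tt N38588 (iv6 D134492)) (tt N56159 F332615))
theorem Q70031 : ∀ i, i < 70031 → P i := stepQ 70030 Q70030 (allL N70030 (tt N74493 (iv1 F339567)) (tt N74807 (iv0 F338693)) (tt N70441 (iv2 F217409)) (tt N78894 F361697) (tt N61427 F338679) (tt N38589 (iv5 D134493)) (tt N78893 (iv6 F347593)) (tt N70463 (iv7 F217454)))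
theorem Q70032 : ∀ i, i < 70032 → P i := stepQ 70031 Q70031 (allL N70031 (tt N70767 (iv1 F218302)) (tt N38590 (iv0 D134494)) (tt N70764 F364871) (tt N103609 (iv3 F442226)) (tt N102482 F437388) (tt N51429 F361696) (tt N97870 F418603) (tt N70765 F364869))
theorem Q70033 : ∀ i, i < 70033 → P i := stepQ 70032 Q70032 (allL N70032 (tt N38590 (iv1 D134495)) (tt N70767 F218301) (tt N70765 (iv2 F364866)) (tt N56200 F359183) (tt N102483 (iv4 F437390)) (tt N93193 (iv5 F399891)) (tt N56195 (iv6 F359182)) (tt N70764 (iv7 F364870)))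
theorem Q70034 : ∀ i, i < 70034 → P i := stepQ 70033 Q70033 (allL N70033 (tt N69564 F345016) (tt N92973 F398983) (tt N70766 (iv2 F218295)) (tt N103899 (iv3 F443269)) (tt N68374 (iv4 F345021)) (tt N38590 (iv5 D134496)) (tt N38593 F216448) (tt N68371 F333565))
theorem Q70035 : ∀ i, i < 70035 → P i := stepQ 70034 Q70034 (allL N70034 (tt N70765 (iv1 F218294)) (tt N70764 F218300) (tt N70767 (iv2 F218297)) (tt N103900 (iv3 F443274)) (tt N102457 (iv4 F437290)) (tt N68371 (iv5 F345003)) (tt N70445 (iv6 F217412)) (tt N38590 (iv7 D134497)))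
theorem Q70036 : ∀ i, i < 70036 → P i := stepQ 70035 Q70035 (allL N70035 (tt N104824 (iv1 F447474)) (tt N102427 (iv0 F437199)) (tt N104822 F447462) (tt N38591 (iv3 D134498)) (tt N53910 (iv4 F361232)) (tt N51438 (iv5 F365737)) (tt N96690 (iv6 F413480)) (tt N51437 (iv7 F326629)))
theorem Q70037 : ∀ i, i < 70037 → P i := stepQ 70036 Q70036 (allL N70036 (tt N70836 F218543) (tt N40650 (iv0 F218231)) (tt N70770 (iv2 F218309)) (tt N96690 (iv3 F413476)) (tt N68731 F216449) (tt N70741 F218230) (tt N38591 (iv6 D134499)) (tt N98730 (iv7 F422056)))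
theorem Q70038 : ∀ i, i < 70038 → P i := stepQ 70037 Q70037 (allL N70037 (tt N97884 F418661) (tt N97821 (iv0 F418418)) (tt N93197 (iv2 F399923)) (tt N38592 (iv3 D134500)) (tt N103791 (iv4 F442832)) (tt N56480 F365945) (tt N84913 F371076) (tt N70768 (iv7 F218304)))
theorem Q70039 : ∀ i, i < 70039 → P i := stepQ 70038 Q70038 (allL N70038 (tt N70772 (iv1 F218330)) (tt N38593 (iv0 D134501)) (tt N68204 (iv2 F216451)) (tt N105327 D208524) (tt N75236 F345024) (tt N61681 F216450) (tt N74429 (iv6 F345017)) (tt N68202 (iv7 F216452)))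
theorem Q70040 : ∀ i, i < 70040 → P i := stepQ 70039 Q70039 (allL N70039 (tt N38593 (iv1 D134502)) (tt N70772 F218329) (tt N68202 (iv2 F216455)) (tt N105328 D208525) (tt N104228 (iv4 F444808)) (tt N61680 F216454) (tt N104228 (iv6 F444809)) (tt N68204 F216453))
theorem Q70041 : ∀ i, i < 70041 → P i := stepQ 70040 Q70040 (allL N70040 (tt N40569 F216460) (tt N92884 (iv0 F398646)) (tt N70346 (iv2 F217250)) (tt N38597 F216459) (tt N102563 (iv4 F437673)) (tt N70295 F217133) (tt N38595 (iv6 D134505)) (tt N98714 (iv7 F421982)))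
theorem Q70042 : ∀ i, i < 70042 → P i := stepQ 70041 Q70041 (allL N70041 (tt N70699 F378531) (tt N38999 F378532) (tt N70696 F365390) (tt N38596 (iv3 D134506)) (tt N102542 (iv4 F437571)) (tt N87144 F378530) (tt N75040 F349041) (tt N70697 (iv7 F365389)))
theorem Q70043 : ∀ i, i < 70043 → P i := stepQ 70042 Q70042 (allL N70042 (tt N60900 (iv1 F327847)) (tt N60858 F363780) (tt N60901 (iv2 F363758)) (tt N75040 (iv3 F349040)) (tt N38597 F216461) (tt N104312 (iv5 F445187)) (tt N38596 (iv6 D134508)) (tt N60902 (iv7 F363762)))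
theorem Q70044 : ∀ i, i < 70044 → P i := stepQ 70043 Q70043 (allL N70043 (tt N70809 F364361) (tt N70817 F364362) (tt N70815 (iv2 F364367)) (tt N38598 (iv3 D134509)) (tt N67367 F216462) (tt N86418 (iv5 F376158)) (tt N83616 (iv6 F349141)) (tt N70773 (iv7 F218331)))
theorem Q70045 : ∀ i, i < 70045 → P i := stepQ 70044 Q70044 (allL N70044 (tt N71801 (iv1 F352623)) (tt N71804 F352590) (tt N38608 F216467) (tt N64668 (iv3 F364197)) (tt N80465 (iv4 F352581)) (tt N38600 (iv5 D134515)) (tt N99823 F426396) (tt N38622 F216468))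
theorem Q70046 : ∀ i, i < 70046 → P i := stepQ 70045 Q70045 (allL N70045 (tt N38630 F216502) (tt N44724 F317027) (tt N44823 F317028) (tt N70498 (iv3 F217572)) (tt N69299 F216503) (tt N38602 (iv5 D134525)) (tt N46879 F317029) (tt N44737 F317030))
theorem Q70047 : ∀ i, i < 70047 → P i := stepQ 70046 Q70046 (allL N70046 (tt N38603 (iv1 D134527)) (tt N47027 F317945) (tt N47596 F317946) (tt N66989 F317947) (tt N69262 (iv4 F216512)) (tt N69045 F216510) (tt N45646 F317948) (tt N47595 F317949))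
theorem Q70048 : ∀ i, i < 70048 → P i := stepQ 70047 Q70047 (allL N70047 (tt N67919 F216509) (tt N43190 F313252) (tt N45558 F313253) (tt N79721 (iv3 F323692)) (tt N38603 (iv4 D134528)) (tt N64135 (iv5 F334270)) (tt N79721 (iv6 F323694)) (tt N81301 F313256))
theorem Q70049 : ∀ i, i < 70049 → P i := stepQ 70048 Q70048 (allL N70048 (tt N77338 (iv1 F346115)) (tt N38604 (iv0 D134530)) (tt N104396 F445584) (tt N67817 (iv3 F394691)) (tt N69258 (iv4 F394693)) (tt N83422 F359718) (tt N67910 F394690) (tt N67826 F394692))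
theorem Q70050 : ∀ i, i < 70050 → P i := stepQ 70049 Q70049 (allL N70049 (tt N38604 (iv1 D134531)) (tt N77338 F362094) (tt N67826 (iv2 F394696)) (tt N92120 (iv3 F395832)) (tt N66594 (iv4 F362098)) (tt N103112 (iv5 F440128)) (tt N66593 F362099) (tt N104396 (iv7 F445586)))
theorem Q70051 : ∀ i, i < 70051 → P i := stepQ 70050 Q70050 (allL N70050 (tt N67826 (iv1 F439117)) (tt N104396 F445585) (tt N77338 (iv2 F346114)) (tt N38615 F216515) (tt N104372 F445475) (tt N67006 F346113) (tt N102847 (iv6 F438919)) (tt N38604 (iv7 D134533)))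
theorem Q70052 : ∀ i, i < 70052 → P i := stepQ 70051 Q70051 (allL N70051 (tt N105209 (iv1 F449215)) (tt N70734 (iv0 F218208)) (tt N70664 (iv2 F218068)) (tt N38605 (iv3 D134534)) (tt N39053 F216516) (tt N73721 F335168) (tt N92156 (iv6 F396001)) (tt N70661 (iv7 F218059)))
theorem Q70053 : ∀ i, i < 70053 → P i := stepQ 70052 Q70052 (allL N70052 (tt N39477 F347089) (tt N39126 F347090) (tt N39474 F339486) (tt N92156 (iv3 F396000)) (tt N66364 (iv4 F347085)) (tt N105329 D208526) (tt N38605 (iv6 D134536)) (tt N39475 F339487))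
theorem Q70054 : ∀ i, i < 70054 → P i := stepQ 70053 Q70053 (allL N70053 (tt N75169 (iv1 F339496)) (tt N39643 F352617) (tt N62837 (iv2 F330259)) (tt N105066 F448636) (tt N62836 (iv4 F330250)) (tt N38606 (iv5 D134537)) (tt N73661 F365212) (tt N62879 (iv7 F339495)))
theorem Q70055 : ∀ i, i < 70055 → P i := stepQ 70054 Q70054 (allL N70054 (tt N38607 (iv1 D134539)) (tt N95904 (iv0 F410177)) (tt N68700 (iv2 F355060)) (tt N105169 (iv3 F449084)) (tt N56523 (iv4 F216519)) (tt N83869 F367294) (tt N70486 F355062) (tt N68697 (iv7 F355055)))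
theorem Q70056 : ∀ i, i < 70056 → P i := stepQ 70055 Q70055 (allL N70055 (tt N68697 (iv1 F355061)) (tt N68700 F216520) (tt N38607 (iv2 D134540)) (tt N84323 (iv3 F368894)) (tt N98763 (iv4 F422206)) (tt N77289 (iv5 F368373)) (tt N84322 F368888) (tt N95904 (iv7 F410176)))
theorem Q70057 : ∀ i, i < 70057 → P i := stepQ 70056 Q70056 (allL N70056 (tt N77291 (iv1 F352571)) (tt N77286 (iv0 F355349)) (tt N77289 F368374) (tt N38608 F216521) (tt N80468 F355350) (tt N38607 (iv5 D134541)) (tt N99939 (iv6 F426895)) (tt N77290 (iv7 F368375)))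
theorem Q70058 : ∀ i, i < 70058 → P i := stepQ 70057 Q70057 (allL N70057 (tt N49597 F355351) (tt N88804 F384208) (tt N84322 (iv2 F368886)) (tt N38609 F216522) (tt N88748 (iv4 F384056)) (tt N84321 F368885) (tt N38607 (iv6 D134542)) (tt N88803 (iv7 F384203)))
theorem Q70059 : ∀ i, i < 70059 → P i := stepQ 70058 Q70058 (allL N70058 (tt N38622 (iv1 F216528)) (tt N38608 (iv0 D134543)) (tt N71801 (iv2 F352626)) (tt N99818 (iv3 F426370)) (tt N78704 F339491) (tt N69395 F216529) (tt N78703 (iv6 F352628)) (tt N71804 F352627))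
theorem Q70060 : ∀ i, i < 70060 → P i := stepQ 70059 Q70059 (allL N70059 (tt N38608 (iv1 D134544)) (tt N38622 F216523) (tt N71804 F352606) (tt N64466 (iv3 F338486)) (tt N99819 (iv4 F426375)) (tt N69824 F216524) (tt N64463 F338475) (tt N71801 (iv7 F352622)))
theorem Q70061 : ∀ i, i < 70061 → P i := stepQ 70060 Q70060 (allL N70060 (tt N71804 F352588) (tt N71801 F352624) (tt N38622 F216526) (tt N77290 F368376) (tt N52581 (iv4 F352586)) (tt N38610 F216527) (tt N105330 D208527) (tt N38608 (iv7 D134547)))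
theorem Q70062 : ∀ i, i < 70062 → P i := stepQ 70061 Q70061 (allL N70061 (tt N55412 (iv1 F365520)) (tt N38609 (iv0 D134548)) (tt N91790 F394431) (tt N105331 D208528) (tt N67972 F365521) (tt N105332 D208529) (tt N49585 F338478) (tt N91791 (iv7 F394438)))
theorem Q70063 : ∀ i, i < 70063 → P i := stepQ 70062 Q70062 (allL N70062 (tt N38609 (iv1 D134549)) (tt N55412 F365593) (tt N91791 (iv2 F394440)) (tt N105071 F448651) (tt N67973 F380791) (tt N105333 D208530) (tt N39560 F394433) (tt N91790 F394434))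
theorem Q70064 : ∀ i, i < 70064 → P i := stepQ 70063 Q70063 (allL N70063 (tt N105334 D208531) (tt N71796 (iv0 F352101)) (tt N83696 (iv2 F367185)) (tt N84321 (iv3 F368883)) (tt N105335 D208532) (tt N38609 (iv5 D134550)) (tt N99940 (iv6 F426897)) (tt N105336 D208533))
theorem Q70065 : ∀ i, i < 70065 → P i := stepQ 70064 Q70064 (allL N70064 (tt N91791 (iv1 F394437)) (tt N91790 F394430) (tt N55412 (iv2 F365519)) (tt N88803 (iv3 F384202)) (tt N38615 F216531) (tt N105336 (iv5 F449763)) (tt N95860 (iv6 F409991)) (tt N38609 (iv7 D134551)))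
theorem Q70066 : ∀ i, i < 70066 → P i := stepQ 70065 Q70065 (allL N70065 (tt N39473 F340134) (tt N95861 F409997) (tt N38623 F216532) (tt N90147 (iv3 F388686)) (tt N38616 F216533) (tt N90097 (iv5 F388552)) (tt N38610 (iv6 D134552)) (tt N95860 (iv7 F409992)))
theorem Q70067 : ∀ i, i < 70067 → P i := stepQ 70066 Q70066 (allL N70066 (tt N48282 F330232) (tt N42284 (iv0 F330233)) (tt N38624 F216543) (tt N81518 F321665) (tt N48283 F334685) (tt N80527 (iv5 F340137)) (tt N38612 (iv6 D134564)) (tt N48283 F330244))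
theorem Q70068 : ∀ i, i < 70068 → P i := stepQ 70067 Q70067 (allL N70067 (tt N84771 F370565) (tt N100008 F427171) (tt N42282 F361224) (tt N70495 F361225) (tt N42281 F361226) (tt N38613 (iv5 D134568)) (tt N63544 F334093) (tt N94042 (iv7 F402944)))
theorem Q70069 : ∀ i, i < 70069 → P i := stepQ 70068 Q70068 (allL N70068 (tt N81504 F338598) (tt N38614 (iv0 D134575)) (tt N64040 (iv2 F314428)) (tt N70496 (iv3 F217562)) (tt N62886 (iv4 F334125)) (tt N68229 F216546) (tt N62885 F334117) (tt N81503 F340122))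
theorem Q70070 : ∀ i, i < 70070 → P i := stepQ 70069 Q70069 (allL N70069 (tt N75936 F334636) (tt N75940 F334646) (tt N75939 (iv2 F362055)) (tt N63087 (iv3 F334128)) (tt N38614 (iv4 D134576)) (tt N80434 F334132) (tt N81499 F334141) (tt N72783 F334129))
theorem Q70071 : ∀ i, i < 70071 → P i := stepQ 70070 Q70070 (allL N70070 (tt N81503 (iv1 F346118)) (tt N64040 F346117) (tt N81504 (iv2 F346116)) (tt N67006 F346112) (tt N72783 F346119) (tt N38615 F216548) (tt N62509 F346120) (tt N38614 (iv7 D134577)))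
theorem Q70072 : ∀ i, i < 70072 → P i := stepQ 70071 Q70071 (allL N70071 (tt N67907 F334336) (tt N83672 F363985) (tt N38620 F216564) (tt N104397 (iv3 F445588)) (tt N83655 (iv4 F334340)) (tt N80370 F317500) (tt N38618 (iv6 D134585)) (tt N83652 F334339))
theorem Q70073 : ∀ i, i < 70073 → P i := stepQ 70072 Q70072 (allL N70072 (tt N38620 (iv1 D134593)) (tt N83652 F334341) (tt N83672 (iv2 F363983)) (tt N60005 F363986) (tt N54754 F363987) (tt N65875 (iv5 F363988)) (tt N67823 (iv6 F364574)) (tt N67907 (iv7 F363984)))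
theorem Q70074 : ∀ i, i < 70074 → P i := stepQ 70073 Q70073 (allL N70073 (tt N88915 F384526) (tt N60002 (iv0 F362645)) (tt N80370 F321672) (tt N38626 F216576) (tt N105337 D208534) (tt N38620 (iv5 D134594)) (tt N46847 F321673) (tt N83673 F362993))
theorem Q70075 : ∀ i, i < 70075 → P i := stepQ 70074 Q70074 (allL N70074 (tt N61031 (iv1 F355305)) (tt N64671 F355302) (tt N64669 F364188) (tt N38622 F216578) (tt N78939 (iv4 F355306)) (tt N38621 (iv5 D134597)) (tt N105338 D208535) (tt N64668 F364199))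
theorem Q70076 : ∀ i, i < 70076 → P i := stepQ 70075 Q70075 (allL N70075 (tt N105226 (iv1 F449294)) (tt N94913 (iv0 F406309)) (tt N95905 (iv2 F410180)) (tt N38623 F216579) (tt N55416 (iv4 F364206)) (tt N84059 (iv5 F367960)) (tt N38621 (iv6 D134598)) (tt N55414 F364204))
theorem Q70077 : ∀ i, i < 70077 → P i := stepQ 70076 Q70076 (allL N70076 (tt N64594 F335198) (tt N80464 (iv0 F355307)) (tt N52581 (iv2 F352579)) (tt N78940 F335031) (tt N38622 (iv4 D134599)) (tt N81499 F349369) (tt N105339 D208536) (tt N80465 F352578))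
theorem Q70078 : ∀ i, i < 70078 → P i := stepQ 70077 Q70077 (allL N70077 (tt N84229 F368610) (tt N99890 (iv0 F449776)) (tt N105330 (iv2 F449739)) (tt N105338 (iv3 F449769)) (tt N105339 (iv4 F449773)) (tt N105340 D208537) (tt N38622 (iv6 D134600)) (tt N99938 (iv7 F426893)))
theorem Q70079 : ∀ i, i < 70079 → P i := stepQ 70078 Q70078 (allL N70078 (tt N38623 (iv1 D134602)) (tt N95860 F409993) (tt N95861 (iv2 F409994)) (tt N105341 D208538) (tt N67958 F342183) (tt N90059 (iv5 F388448)) (tt N70490 (iv6 F342185)) (tt N39473 F342184))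
theorem Q70080 : ∀ i, i < 70080 → P i := stepQ 70079 Q70079 (allL N70079 (tt N90099 F449312) (tt N90040 (iv0 F388390)) (tt N90097 F388553) (tt N84059 F367961) (tt N105342 D208539) (tt N38623 (iv5 D134603)) (tt N105340 (iv6 F449777)) (tt N90098 (iv7 F388555)))
theorem Q70081 : ∀ i, i < 70081 → P i := stepQ 70080 Q70080 (allL N70080 (tt N95861 (iv1 F409998)) (tt N39473 F363980) (tt N95860 F409989) (tt N55414 (iv3 F364205)) (tt N38627 F216580) (tt N90098 F388556) (tt N55412 F364207) (tt N38623 (iv7 D134604)))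
theorem Q70082 : ∀ i, i < 70082 → P i := stepQ 70081 Q70081 (allL N70081 (tt N38624 (iv1 D134609)) (tt N48283 F330236) (tt N42284 F330237) (tt N70515 (iv3 F341218)) (tt N81202 (iv4 F334683)) (tt N48247 F330238) (tt N80910 F340186) (tt N48282 F330239))
theorem Q70083 : ∀ i, i < 70083 → P i := stepQ 70082 Q70082 (allL N70082 (tt N46146 F340177) (tt N46827 F340178) (tt N80527 (iv2 F340136)) (tt N46847 F321669) (tt N86983 (iv4 F377937)) (tt N38624 (iv5 D134610)) (tt N38626 F216582) (tt N80371 F321670))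
theorem Q70084 : ∀ i, i < 70084 → P i := stepQ 70083 Q70083 (allL N70083 (tt N64074 F333836) (tt N64073 F333837) (tt N46352 F333838) (tt N64078 F333839) (tt N91989 (iv4 F395273)) (tt N38625 (iv5 D134620)) (tt N47905 F333840) (tt N39822 F333841))
theorem Q70085 : ∀ i, i < 70085 → P i := stepQ 70084 Q70084 (allL N70084 (tt N58457 F408144) (tt N105343 D208540) (tt N85735 (iv2 F373729)) (tt N79626 F338710) (tt N38626 (iv4 D134624)) (tt N105344 D208541) (tt N86983 F377938) (tt N85736 (iv7 F373732)))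
theorem Q70086 : ∀ i, i < 70086 → P i := stepQ 70085 Q70085 (allL N70085 (tt N68045 (iv1 F344796)) (tt N46443 F344791) (tt N81434 F344792) (tt N38628 (iv3 D134626)) (tt N70519 (iv4 F217614)) (tt N80892 (iv5 F344798)) (tt N79290 (iv6 F344795)) (tt N61283 F344794))
theorem Q70087 : ∀ i, i < 70087 → P i := stepQ 70086 Q70086 (allL N70086 (tt N81289 F346377) (tt N72681 (iv0 F332294)) (tt N38636 F216586) (tt N80892 (iv3 F344802)) (tt N81502 F344804) (tt N38628 (iv5 D134627)) (tt N47979 F331680) (tt N81335 (iv7 F334155)))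
theorem Q70088 : ∀ i, i < 70088 → P i := stepQ 70087 Q70087 (allL N70087 (tt N100139 (iv1 F427645)) (tt N68018 (iv0 F346374)) (tt N38637 F216587) (tt N79290 F342114) (tt N38629 F216588) (tt N81210 (iv5 F342133)) (tt N38628 (iv6 D134628)) (tt N43259 F310818))
theorem Q70089 : ∀ i, i < 70089 → P i := stepQ 70088 Q70088 (allL N70088 (tt N102396 (iv1 F437055)) (tt N46888 F354481) (tt N44825 F317042) (tt N38632 F216602) (tt N68541 F216603) (tt N79226 (iv5 F364966)) (tt N38630 (iv6 D134638)) (tt N105345 D208542))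
theorem Q70090 : ∀ i, i < 70090 → P i := stepQ 70089 Q70089 (allL N70089 (tt N38633 (iv1 F216608)) (tt N38631 (iv0 D134640)) (tt N46787 F323000) (tt N88517 (iv3 F383363)) (tt N52819 F323001) (tt N73656 (iv5 F330248)) (tt N44732 F323002) (tt N80339 (iv7 F330263)))
theorem Q70091 : ∀ i, i < 70091 → P i := stepQ 70090 Q70090 (allL N70090 (tt N38631 (iv1 D134641)) (tt N38633 F216609) (tt N80339 (iv2 F330261)) (tt N67644 F216611) (tt N67965 (iv4 F216610)) (tt N73703 (iv5 F330258)) (tt N67643 (iv6 F216612)) (tt N46787 F330264))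
theorem Q70092 : ∀ i, i < 70092 → P i := stepQ 70091 Q70091 (allL N70091 (tt N46890 F342733) (tt N80335 F342734) (tt N44831 F342735) (tt N38631 (iv3 D134642)) (tt N68539 F216613) (tt N65200 F342736) (tt N43726 F342737) (tt N80336 (iv7 F348432)))
theorem Q70093 : ∀ i, i < 70093 → P i := stepQ 70092 Q70092 (allL N70092 (tt N47075 F334096) (tt N47560 F334097) (tt N80340 (iv2 F364587)) (tt N65200 F330253) (tt N79126 F330254) (tt N38631 (iv5 D134643)) (tt N42662 F330255) (tt N100153 (iv7 F427730)))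
theorem Q70094 : ∀ i, i < 70094 → P i := stepQ 70093 Q70093 (allL N70093 (tt N45443 F331733) (tt N38632 (iv0 D134646)) (tt N67643 F330267) (tt N70527 F357455) (tt N100533 (iv4 F429367)) (tt N80173 (iv5 F330282)) (tt N80339 F330268) (tt N46788 F330269))
theorem Q70095 : ∀ i, i < 70095 → P i := stepQ 70094 Q70094 (allL N70094 (tt N46788 F330207) (tt N67643 F330276) (tt N45443 F330199) (tt N105345 (iv3 F449796)) (tt N38638 F330200) (tt N79228 (iv5 F331731)) (tt N100155 (iv6 F427742)) (tt N38632 (iv7 D134649)))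
theorem Q70096 : ∀ i, i < 70096 → P i := stepQ 70095 Q70095 (allL N70095 (tt N47560 F334098) (tt N47075 F334099) (tt N100153 (iv2 F427728)) (tt N44815 F321355) (tt N88197 (iv4 F382130)) (tt N38633 (iv5 D134655)) (tt N82327 (iv6 F350983)) (tt N80340 F321356))
theorem Q70097 : ∀ i, i < 70097 → P i := stepQ 70096 Q70096 (allL N70096 (tt N43435 F317698) (tt N66841 F317699) (tt N42436 F317700) (tt N38634 (iv3 D134661)) (tt N42423 F317701) (tt N99850 (iv5 F426524)) (tt N68017 F317702) (tt N42432 F317703))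
theorem Q70098 : ∀ i, i < 70098 → P i := stepQ 70097 Q70097 (allL N70097 (tt N100533 (iv1 F429365)) (tt N76547 F353091) (tt N100147 (iv2 F427692)) (tt N68017 F334179) (tt N70103 F334176) (tt N80532 (iv5 F340241)) (tt N38634 (iv6 D134663)) (tt N68024 (iv7 F364585)))
theorem Q70099 : ∀ i, i < 70099 → P i := stepQ 70098 Q70098 (allL N70098 (tt N44427 (iv1 F247146)) (tt N44428 F219731) (tt N47417 F313027) (tt N38635 (iv3 D134664)) (tt N69673 F216689) (tt N47368 F313028) (tt N100282 F428247) (tt N47421 F313029))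
theorem Q70100 : ∀ i, i < 70100 → P i := stepQ 70099 Q70099 (allL N70099 (tt N99849 (iv1 F426515)) (tt N99848 (iv0 F426513)) (tt N99851 (iv2 F426529)) (tt N47368 F332292) (tt N75995 F331617) (tt N38635 (iv5 D134665)) (tt N105346 D208543) (tt N47419 F332293))
theorem Q70101 : ∀ i, i < 70101 → P i := stepQ 70100 Q70100 (allL N70100 (tt N81335 F334164) (tt N38636 (iv0 D134667)) (tt N81289 F334165) (tt N67994 F334166) (tt N40813 F334167) (tt N67971 F334168) (tt N67974 F334169) (tt N72681 (iv7 F346381)))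
theorem Q70102 : ∀ i, i < 70102 → P i := stepQ 70101 Q70101 (allL N70101 (tt N81499 (iv1 F346394)) (tt N80466 (iv0 F335851)) (tt N81502 F346390) (tt N62729 (iv3 F331670)) (tt N38636 (iv4 D134669)) (tt N62727 F331669) (tt N66928 (iv6 F331678)) (tt N81501 (iv7 F346389)))
theorem Q70103 : ∀ i, i < 70103 → P i := stepQ 70102 Q70102 (allL N70102 (tt N43259 F348190) (tt N38637 (iv0 D134671)) (tt N100139 (iv2 F427648)) (tt N66835 (iv3 F353098)) (tt N63856 F353097) (tt N105347 D208544) (tt N66433 F348186) (tt N68018 F348191))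
theorem Q70104 : ∀ i, i < 70104 → P i := stepQ 70103 Q70103 (allL N70103 (tt N38637 (iv1 D134672)) (tt N43259 F334177) (tt N68018 (iv2 F334175)) (tt N44790 F334173) (tt N70097 (iv4 F334176)) (tt N102397 (iv5 F437058)) (tt N44788 F334174) (tt N100139 (iv7 F427646)))
theorem Q70105 : ∀ i, i < 70105 → P i := stepQ 70104 Q70104 (allL N70104 (tt N103145 (iv1 F440283)) (tt N63589 F361532) (tt N81210 F361531) (tt N68547 F336418) (tt N80949 (iv4 F330220)) (tt N38637 (iv5 D134673)) (tt N94928 F406370) (tt N100140 (iv7 F427653)))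
theorem Q70106 : ∀ i, i < 70106 → P i := stepQ 70105 Q70105 (allL N70105 (tt N44738 F330192) (tt N46879 F330193) (tt N44838 F330194) (tt N38638 (iv3 D134676)) (tt N80303 F330195) (tt N43727 F330196) (tt N105348 D208545) (tt N43726 F330197))
theorem Q70107 : ∀ i, i < 70107 → P i := stepQ 70106 Q70106 (allL N70106 (tt N80911 F340191) (tt N41056 F330206) (tt N79493 F363370) (tt N43727 F340192) (tt N54142 (iv4 F351743)) (tt N38638 (iv5 D134678)) (tt N66980 F340194) (tt N43725 F340195))
theorem Q70108 : ∀ i, i < 70108 → P i := stepQ 70107 Q70107 (allL N70107 (tt N102837 F438879) (tt N46824 F340196) (tt N88492 (iv2 F383266)) (tt N105348 (iv3 F449815)) (tt N100155 (iv4 F427740)) (tt N105349 D208546) (tt N38638 (iv6 D134679)) (tt N100154 (iv7 F427736)))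
theorem Q70109 : ∀ i, i < 70109 → P i := stepQ 70108 Q70108 (allL N70108 (tt N41056 F341198) (tt N80911 F330184) (tt N43725 F330185) (tt N44835 F330186) (tt N54073 F330187) (tt N38639 (iv5 D134683)) (tt N54072 F330188) (tt N79493 (iv7 F363372)))
theorem Q70110 : ∀ i, i < 70110 → P i := stepQ 70109 Q70109 (allL N70109 (tt N67898 (iv1 F354048)) (tt N81058 (iv0 F339479)) (tt N104416 (iv2 F445657)) (tt N38640 (iv3 D134686)) (tt N67463 F216695) (tt N101815 (iv5 F434475)) (tt N97723 F418072) (tt N70551 F366773))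
theorem Q70111 : ∀ i, i < 70111 → P i := stepQ 70110 Q70110 (allL N70110 (tt N39475 F338724) (tt N39474 F338725) (tt N39477 F338726) (tt N105350 D208547) (tt N38640 (iv4 D134687)) (tt N105351 D208548) (tt N39562 F338727) (tt N39126 F338728))
theorem Q70112 : ∀ i, i < 70112 → P i := stepQ 70111 Q70111 (allL N70111 (tt N81120 F337054) (tt N88510 (iv0 F383333)) (tt N88511 F383338) (tt N38643 F216698) (tt N69417 F237481) (tt N63640 F341160) (tt N38641 (iv6 D134699)) (tt N88512 (iv7 F383341)))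
theorem Q70113 : ∀ i, i < 70113 → P i := stepQ 70112 Q70112 (allL N70112 (tt N38643 (iv1 D134703)) (tt N70558 F217794) (tt N70556 (iv2 F217786)) (tt N46824 F306019) (tt N69421 F216706) (tt N44107 F318953) (tt N45582 F306021) (tt N44106 F318954))
theorem Q70114 : ∀ i, i < 70114 → P i := stepQ 70113 Q70113 (allL N70113 (tt N40243 F323783) (tt N73427 F224822) (tt N70557 (iv2 F217789)) (tt N63640 (iv3 F341159)) (tt N63772 (iv4 F341138)) (tt N38643 (iv5 D134704)) (tt N63636 F341139) (tt N65298 (iv7 F319099)))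
theorem Q70115 : ∀ i, i < 70115 → P i := stepQ 70114 Q70114 (allL N70114 (tt N70556 (iv1 F217783)) (tt N44106 (iv0 F318540)) (tt N70558 (iv2 F217791)) (tt N88512 F383343) (tt N68572 F216711) (tt N65298 (iv5 F319098)) (tt N70561 (iv6 F217816)) (tt N38643 (iv7 D134705)))
theorem Q70116 : ∀ i, i < 70116 → P i := stepQ 70115 Q70115 (allL N70115 (tt N67644 (iv1 F216722)) (tt N70559 F217808) (tt N70561 (iv2 F217813)) (tt N44425 F216720) (tt N68577 F216721) (tt N82142 (iv5 F336907)) (tt N70558 (iv6 F217793)) (tt N38645 (iv7 D134711)))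
theorem Q70117 : ∀ i, i < 70117 → P i := stepQ 70116 Q70116 (allL N70116 (tt N70606 F339556) (tt N68205 F339557) (tt N70837 (iv2 F218544)) (tt N50894 F340915) (tt N38647 (iv4 D134716)) (tt N85807 (iv5 F374042)) (tt N50893 (iv6 F326624)) (tt N70562 (iv7 F217828)))
theorem Q70118 : ∀ i, i < 70118 → P i := stepQ 70117 Q70117 (allL N70117 (tt N66380 (iv1 F216729)) (tt N38648 (iv0 D134718)) (tt N66379 (iv2 F424708)) (tt N105352 D208549) (tt N105353 D208550) (tt N102690 (iv5 F438215)) (tt N105354 D208551) (tt N66378 F424709))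
theorem Q70119 : ∀ i, i < 70119 → P i := stepQ 70118 Q70118 (allL N70118 (tt N38648 (iv1 D134719)) (tt N66380 F216735) (tt N66378 F424707) (tt N82184 F366372) (tt N73463 (iv4 F224899)) (tt N102691 (iv5 F438218)) (tt N104798 (iv6 F447331)) (tt N66379 (iv7 F424706)))
theorem Q70120 : ∀ i, i < 70120 → P i := stepQ 70119 Q70119 (allL N70119 (tt N66379 (iv1 F216736)) (tt N66378 F216734) (tt N38648 (iv2 D134720)) (tt N56354 F216730) (tt N38657 F216731) (tt N105355 D208552) (tt N57791 F216732) (tt N66380 F216733))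
theorem Q70121 : ∀ i, i < 70121 → P i := stepQ 70120 Q70120 (allL N70120 (tt N66313 F362704) (tt N104808 F447394) (tt N105355 (iv2 F449856)) (tt N38649 F216737) (tt N103864 (iv4 F443139)) (tt N38648 (iv5 D134721)) (tt N104783 (iv6 F447247)) (tt N66318 F216738))
theorem Q70122 : ∀ i, i < 70122 → P i := stepQ 70121 Q70121 (allL N70121 (tt N85099 F371626) (tt N105356 D208553) (tt N56760 F216742) (tt N71907 (iv3 F220866)) (tt N57909 F216743) (tt N100129 (iv5 F427594)) (tt N38650 (iv6 D134723)) (tt N103164 (iv7 F440363)))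
theorem Q70123 : ∀ i, i < 70123 → P i := stepQ 70122 Q70122 (allL N70122 (tt N72632 (iv1 F222780)) (tt N98817 (iv0 F422458)) (tt N56761 F216744) (tt N57074 (iv3 F350035)) (tt N98917 (iv4 F422777)) (tt N38651 (iv5 D134724)) (tt N100129 (iv6 F427595)) (tt N105154 (iv7 F449036)))
theorem Q70124 : ∀ i, i < 70124 → P i := stepQ 70123 Q70123 (allL N70123 (tt N56753 (iv1 F216747)) (tt N56751 F216748) (tt N56762 F216745) (tt N55377 (iv3 F329318)) (tt N71923 (iv4 F220935)) (tt N105154 (iv5 F449031)) (tt N55376 (iv6 F360801)) (tt N38651 (iv7 D134725)))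
theorem Q70125 : ∀ i, i < 70125 → P i := stepQ 70124 Q70124 (allL N70124 (tt N56757 (iv1 F216749)) (tt N38652 (iv0 D134726)) (tt N56756 F397102) (tt N73215 (iv3 F224103)) (tt N101856 (iv4 F434689)) (tt N90162 F388739) (tt N57830 (iv6 F388740)) (tt N56755 (iv7 F397103)))
theorem Q70126 : ∀ i, i < 70126 → P i := stepQ 70125 Q70125 (allL N70125 (tt N38652 (iv1 D134727)) (tt N56757 F216754) (tt N56755 (iv2 F397105)) (tt N94662 (iv3 F405424)) (tt N99052 (iv4 F423153)) (tt N94644 F405337) (tt N94647 (iv6 F405353)) (tt N56756 F397104))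
theorem Q70127 : ∀ i, i < 70127 → P i := stepQ 70126 Q70126 (allL N70126 (tt N56756 (iv1 F216755)) (tt N56755 F216753) (tt N38652 (iv2 D134728)) (tt N55383 (iv3 F329347)) (tt N55945 F216751) (tt N105357 D208554) (tt N55382 F365462) (tt N56757 F216752))
theorem Q70128 : ∀ i, i < 70128 → P i := stepQ 70127 Q70127 (allL N70127 (tt N94800 (iv1 F405995)) (tt N94804 (iv0 F406020)) (tt N105357 (iv2 F449868)) (tt N38653 F216756) (tt N103508 (iv4 F441881)) (tt N38652 (iv5 D134729)) (tt N105358 D208555) (tt N56758 F216757))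
theorem Q70129 : ∀ i, i < 70129 → P i := stepQ 70128 Q70128 (allL N70128 (tt N105359 D208556) (tt N101530 (iv0 F433265)) (tt N55382 (iv2 F365463)) (tt N38654 F216758) (tt N55947 F216759) (tt N105360 D208557) (tt N38652 (iv6 D134730)) (tt N73546 (iv7 F225010)))
theorem Q70130 : ∀ i, i < 70130 → P i := stepQ 70129 Q70129 (allL N70129 (tt N105361 D208558) (tt N85182 (iv0 F406882)) (tt N56766 F216760) (tt N105358 (iv3 F449873)) (tt N57897 F216761) (tt N79817 F343789) (tt N38653 (iv6 D134731)) (tt N105362 D208559))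
theorem Q70131 : ∀ i, i < 70131 → P i := stepQ 70130 Q70130 (allL N70130 (tt N78080 (iv1 F245683)) (tt N78078 (iv0 F245682)) (tt N56767 F216762) (tt N105360 (iv3 F449880)) (tt N105363 D208560) (tt N38654 (iv5 D134732)) (tt N79817 (iv6 F343790)) (tt N73547 (iv7 F225011)))
theorem Q70132 : ∀ i, i < 70132 → P i := stepQ 70131 Q70131 (allL N70131 (tt N94662 F405428) (tt N99156 (iv0 F423503)) (tt N73566 (iv2 F225035)) (tt N38655 (iv3 D134733)) (tt N93624 F401318) (tt N105295 (iv5 F449609)) (tt N93633 (iv6 F401369)) (tt N72833 (iv7 F223428)))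
theorem Q70133 : ∀ i, i < 70133 → P i := stepQ 70132 Q70132 (allL N70132 (tt N99305 (iv1 F424021)) (tt N40353 F354212) (tt N72836 (iv2 F223440)) (tt N105295 (iv3 F449608)) (tt N50605 F331087) (tt N38655 (iv5 D134734)) (tt N105364 D208561) (tt N72834 (iv7 F223438)))
theorem Q70134 : ∀ i, i < 70134 → P i := stepQ 70133 Q70133 (allL N70133 (tt N77528 (iv1 F400262)) (tt N62366 (iv0 F360185)) (tt N72837 (iv2 F223442)) (tt N93633 (iv3 F401368)) (tt N65866 (iv4 F350842)) (tt N105365 D208562) (tt N38655 (iv6 D134735)) (tt N97381 (iv7 F416617)))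
theorem Q70135 : ∀ i, i < 70135 → P i := stepQ 70134 Q70134 (allL N70134 (tt N40353 F354216) (tt N99305 (iv0 F424018)) (tt N72834 (iv2 F223437)) (tt N73569 (iv3 F225044)) (tt N71185 F361152) (tt N38656 (iv5 D134736)) (tt N71193 (iv6 F361157)) (tt N72836 (iv7 F223441)))
theorem Q70136 : ∀ i, i < 70136 → P i := stepQ 70135 Q70135 (allL N70135 (tt N73454 F366275) (tt N73559 (iv0 F400455)) (tt N72835 (iv2 F223439)) (tt N73570 (iv3 F225049)) (tt N67760 (iv4 F366158)) (tt N105366 D208563) (tt N38656 (iv6 D134737)) (tt N73558 (iv7 F366180)))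
theorem Q70137 : ∀ i, i < 70137 → P i := stepQ 70136 Q70136 (allL N70136 (tt N58337 (iv1 F216766)) (tt N58336 F216767) (tt N38658 F216763) (tt N50368 (iv3 F336078)) (tt N105367 D208564) (tt N38657 (iv5 D134738)) (tt N50367 F364310) (tt N58338 F216765))
theorem Q70138 : ∀ i, i < 70138 → P i := stepQ 70137 Q70137 (allL N70137 (tt N58338 (iv1 F216768)) (tt N38658 (iv0 D134739)) (tt N58337 (iv2 F404830)) (tt N70422 F362325) (tt N105368 D208565) (tt N62178 F404831) (tt N70403 (iv6 F362326)) (tt N58336 F404832))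
theorem Q70139 : ∀ i, i < 70139 → P i := stepQ 70138 Q70138 (allL N70138 (tt N38658 (iv1 D134740)) (tt N58338 F216769) (tt N58336 (iv2 F404828)) (tt N73109 (iv3 F404826)) (tt N105369 D208566) (tt N62179 F404824) (tt N105370 D208567) (tt N58337 (iv7 F404827)))
theorem Q70140 : ∀ i, i < 70140 → P i := stepQ 70139 Q70139 (allL N70139 (tt N70399 F365865) (tt N105371 D208568) (tt N105367 (iv2 F449905)) (tt N58319 F216770) (tt N38658 (iv4 D134741)) (tt N71239 (iv5 F358535)) (tt N82264 (iv6 F343154)) (tt N58318 F216771))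
theorem Q70141 : ∀ i, i < 70141 → P i := stepQ 70140 Q70140 (allL N70140 (tt N85511 F372897) (tt N103051 (iv0 F439854)) (tt N50367 (iv2 F364311)) (tt N38661 F216772) (tt N82264 F343151) (tt N54067 (iv5 F364313)) (tt N38658 (iv6 D134742)) (tt N82260 (iv7 F343116)))
theorem Q70142 : ∀ i, i < 70142 → P i := stepQ 70141 Q70141 (allL N70141 (tt N71903 F223822) (tt N61191 (iv0 F363659)) (tt N96463 (iv2 F412630)) (tt N38659 (iv3 D134743)) (tt N96316 (iv4 F411987)) (tt N57865 F216774) (tt N105372 D208569) (tt N56785 F216775))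
theorem Q70143 : ∀ i, i < 70143 → P i := stepQ 70142 Q70142 (allL N70142 (tt N105373 D208570) (tt N58019 (iv0 F364227)) (tt N56784 F216776) (tt N105372 (iv3 F449933)) (tt N57887 F216777) (tt N105374 D208571) (tt N38659 (iv6 D134744)) (tt N105375 D208572))
theorem Q70144 : ∀ i, i < 70144 → P i := stepQ 70143 Q70143 (allL N70143 (tt N90162 F388731) (tt N94644 F405338) (tt N105376 D208573) (tt N38660 (iv3 D134745)) (tt N105377 D208574) (tt N55911 F216778) (tt N105378 D208575) (tt N56783 F216779))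
theorem Q70145 : ∀ i, i < 70145 → P i := stepQ 70144 Q70144 (allL N70144 (tt N105379 D208576) (tt N82407 (iv0 F363355)) (tt N56786 F216780) (tt N105378 (iv3 F449964)) (tt N57875 F216781) (tt N105380 D208577) (tt N38660 (iv6 D134746)) (tt N105381 D208578))
theorem Q70146 : ∀ i, i < 70146 → P i := stepQ 70145 Q70145 (allL N70145 (tt N50376 (iv1 F351184)) (tt N38661 (iv0 D134747)) (tt N56789 F351286) (tt N61219 (iv3 F372029)) (tt N100830 (iv4 F430679)) (tt N95692 (iv5 F409161)) (tt N46712 F351287) (tt N56790 (iv7 F351288)))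
theorem Q70147 : ∀ i, i < 70147 → P i := stepQ 70146 Q70146 (allL N70146 (tt N38661 (iv1 D134748)) (tt N50376 (iv0 F351183)) (tt N56790 (iv2 F351290)) (tt N90154 (iv3 F388719)) (tt N105382 D208579) (tt N95701 (iv5 F409206)) (tt N105382 F449987) (tt N56789 F351289))
theorem Q70148 : ∀ i, i < 70148 → P i := stepQ 70147 Q70147 (allL N70147 (tt N56790 (iv1 F216788)) (tt N56789 F216789) (tt N50376 (iv2 F351185)) (tt N82260 F343150) (tt N58346 F216784) (tt N57858 F216785) (tt N58105 (iv6 F343112)) (tt N38661 (iv7 D134749)))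
theorem Q70149 : ∀ i, i < 70149 → P i := stepQ 70148 Q70148 (allL N70148 (tt N38662 (iv1 D134750)) (tt N38705 F216790) (tt N38704 (iv2 F216793)) (tt N57357 F216794) (tt N57747 F216792) (tt N95273 (iv5 F407672)) (tt N97074 (iv6 F415342)) (tt N38703 F216791))
theorem Q70150 : ∀ i, i < 70150 → P i := stepQ 70149 Q70149 (allL N70149 (tt N38704 (iv1 F216800)) (tt N38703 F216801) (tt N38705 F216795) (tt N60758 F216796) (tt N57829 F216797) (tt N59487 F216798) (tt N38709 F216799) (tt N38662 (iv7 D134751)))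
theorem Q70151 : ∀ i, i < 70151 → P i := stepQ 70150 Q70150 (allL N70150 (tt N38663 (iv1 D134753)) (tt N73026 (iv0 F345278)) (tt N78133 (iv2 F349765)) (tt N105383 D208580) (tt N77838 F349769) (tt N96712 (iv5 F413571)) (tt N105384 D208581) (tt N78134 F349763))
theorem Q70152 : ∀ i, i < 70152 → P i := stepQ 70151 Q70151 (allL N70151 (tt N78134 F246213) (tt N78133 F246210) (tt N38663 (iv2 D134754)) (tt N38712 F216802) (tt N77923 (iv4 F245324)) (tt N73027 F351206) (tt N40679 F216803) (tt N73026 (iv7 F345283)))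
theorem Q70153 : ∀ i, i < 70153 → P i := stepQ 70152 Q70152 (allL N70152 (tt N50128 (iv1 F351315)) (tt N58283 F349734) (tt N38715 F216806) (tt N73023 F351116) (tt N38827 F216807) (tt N40391 F216808) (tt N38664 (iv6 D134756)) (tt N73021 F351193))
theorem Q70154 : ∀ i, i < 70154 → P i := stepQ 70153 Q70153 (allL N70153 (tt N38750 (iv1 F216809)) (tt N38666 (iv0 D134757)) (tt N38749 (iv2 F216812)) (tt N105385 D208582) (tt N102448 (iv4 F437270)) (tt N70352 (iv5 F365167)) (tt N105386 D208583) (tt N38748 (iv7 F216814)))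
theorem Q70155 : ∀ i, i < 70155 → P i := stepQ 70154 Q70154 (allL N70154 (tt N38666 (iv1 D134758)) (tt N38750 F216815) (tt N38748 F216813) (tt N39442 F365141) (tt N69007 (iv4 F216810)) (tt N70353 F365142) (tt N39440 F365143) (tt N38749 F216811))
theorem Q70156 : ∀ i, i < 70156 → P i := stepQ 70155 Q70155 (allL N70155 (tt N38749 (iv1 F216819)) (tt N38748 F216818) (tt N38666 (iv2 D134759)) (tt N38733 F216816) (tt N70566 (iv4 F217839)) (tt N105387 D208584) (tt N96598 (iv6 F413130)) (tt N38750 F216817))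
theorem Q70157 : ∀ i, i < 70157 → P i := stepQ 70156 Q70156 (allL N70156 (tt N105388 D208585) (tt N105389 D208586) (tt N105387 (iv2 F450003)) (tt N38667 F216820) (tt N105390 D208587) (tt N38666 (iv5 D134760)) (tt N95240 (iv6 F407547)) (tt N38751 F216821))
theorem Q70158 : ∀ i, i < 70158 → P i := stepQ 70157 Q70157 (allL N70157 (tt N38733 (iv1 F216825)) (tt N38668 (iv0 D134762)) (tt N38732 F352485) (tt N67269 F216824) (tt N105391 D208588) (tt N70336 (iv5 F349690)) (tt N71842 (iv6 F333061)) (tt N38731 F352486))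
theorem Q70159 : ∀ i, i < 70159 → P i := stepQ 70158 Q70158 (allL N70158 (tt N38668 (iv1 D134763)) (tt N38733 F216831) (tt N38731 F352492) (tt N105392 D208589) (tt N68630 (iv4 F216826)) (tt N70337 F352493) (tt N105393 D208590) (tt N38732 F352494))
theorem Q70160 : ∀ i, i < 70160 → P i := stepQ 70159 Q70159 (allL N70159 (tt N38732 (iv1 F216832)) (tt N38731 F216830) (tt N38668 (iv2 D134764)) (tt N38750 F216827) (tt N56416 F216828) (tt N105394 D208591) (tt N86371 (iv6 F375983)) (tt N38733 F216829))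
theorem Q70161 : ∀ i, i < 70161 → P i := stepQ 70160 Q70160 (allL N70160 (tt N96485 F412720) (tt N96487 (iv0 F412724)) (tt N105394 (iv2 F450037)) (tt N38669 F216833) (tt N105395 D208592) (tt N38668 (iv5 D134765)) (tt N51167 F352536) (tt N38734 F216834))
theorem Q70162 : ∀ i, i < 70162 → P i := stepQ 70161 Q70161 (allL N70161 (tt N77306 F355869) (tt N69795 (iv0 F352550)) (tt N86371 (iv2 F375980)) (tt N38670 F216835) (tt N56417 F216836) (tt N73295 F365358) (tt N38668 (iv6 D134766)) (tt N86373 (iv7 F375993)))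
theorem Q70163 : ∀ i, i < 70163 → P i := stepQ 70162 Q70162 (allL N70162 (tt N88446 F383085) (tt N95952 F410403) (tt N38753 F216837) (tt N51167 (iv3 F352537)) (tt N57733 F216838) (tt N62421 F343813) (tt N38669 (iv6 D134767)) (tt N66415 (iv7 F343810)))
theorem Q70164 : ∀ i, i < 70164 → P i := stepQ 70163 Q70163 (allL N70163 (tt N38757 (iv1 F216841)) (tt N38670 (iv0 D134768)) (tt N38754 (iv2 F216840)) (tt N105396 D208593) (tt N57715 F216839) (tt N64657 (iv5 F345489)) (tt N64276 (iv6 F329066)) (tt N38755 F216842))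
theorem Q70165 : ∀ i, i < 70165 → P i := stepQ 70164 Q70164 (allL N70164 (tt N38783 (iv1 F216845)) (tt N38671 (iv0 D134770)) (tt N38782 (iv2 F216850)) (tt N98734 (iv3 F422079)) (tt N102434 (iv4 F437216)) (tt N105388 (iv5 F450009)) (tt N105397 D208594) (tt N38781 (iv7 F216852)))
theorem Q70166 : ∀ i, i < 70166 → P i := stepQ 70165 Q70165 (allL N70165 (tt N38671 (iv1 D134771)) (tt N38783 (iv0 F216849)) (tt N38781 F216851) (tt N38872 (iv3 F216846)) (tt N69146 (iv4 F216847)) (tt N105389 (iv5 F450015)) (tt N69737 F347103) (tt N38782 F216848))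
theorem Q70167 : ∀ i, i < 70167 → P i := stepQ 70166 Q70166 (allL N70166 (tt N38782 (iv1 F216857)) (tt N38781 F216856) (tt N38671 (iv2 D134772)) (tt N38767 F216853) (tt N66107 F216854) (tt N105398 D208595) (tt N90236 (iv6 F389032)) (tt N38783 F216855))
theorem Q70168 : ∀ i, i < 70168 → P i := stepQ 70167 Q70167 (allL N70167 (tt N70299 (iv1 F365159)) (tt N70302 F365166) (tt N105398 (iv2 F450058)) (tt N38672 F216858) (tt N105399 D208596) (tt N38671 (iv5 D134773)) (tt N48167 F328926) (tt N38784 F216859))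
theorem Q70169 : ∀ i, i < 70169 → P i := stepQ 70168 Q70168 (allL N70168 (tt N56752 F216879) (tt N38833 (iv0 F216880)) (tt N38777 F216875) (tt N69745 F216876) (tt N66488 (iv4 F331024)) (tt N40153 F216877) (tt N38673 (iv6 D134779)) (tt N58041 F216878))
theorem Q70170 : ∀ i, i < 70170 → P i := stepQ 70169 Q70169 (allL N70169 (tt N38796 (iv1 F216881)) (tt N38675 (iv0 D134780)) (tt N38795 F363964) (tt N82761 F363961) (tt N100786 (iv4 F430469)) (tt N105400 D208597) (tt N69746 (iv6 F363968)) (tt N38794 F363965))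
theorem Q70171 : ∀ i, i < 70171 → P i := stepQ 70170 Q70170 (allL N70170 (tt N38675 (iv1 D134781)) (tt N38796 F216886) (tt N38794 F363966) (tt N104759 (iv3 F447139)) (tt N98727 (iv4 F422039)) (tt N105401 D208598) (tt N92151 F396007) (tt N38795 F363967))
theorem Q70172 : ∀ i, i < 70172 → P i := stepQ 70171 Q70171 (allL N70171 (tt N38795 (iv1 F216887)) (tt N38794 F216885) (tt N38675 (iv2 D134782)) (tt N38802 F216882) (tt N61702 F216883) (tt N50499 F332671) (tt N49505 (iv6 F332666)) (tt N38796 F216884))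
theorem Q70173 : ∀ i, i < 70173 → P i := stepQ 70172 Q70172 (allL N70172 (tt N105402 D208599) (tt N105403 D208600) (tt N50499 (iv2 F332672)) (tt N38676 F216888) (tt N105404 D208601) (tt N38675 (iv5 D134783)) (tt N50495 F364851) (tt N38797 F216889))
theorem Q70174 : ∀ i, i < 70174 → P i := stepQ 70173 Q70173 (allL N70173 (tt N49503 F364855) (tt N49502 (iv0 F364856)) (tt N49505 F332670) (tt N38677 F216890) (tt N61704 F216891) (tt N49493 (iv5 F364853)) (tt N38675 (iv6 D134784)) (tt N49492 F364854))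
theorem Q70175 : ∀ i, i < 70175 → P i := stepQ 70174 Q70174 (allL N70174 (tt N38679 (iv1 F216905)) (tt N38678 (iv0 D134788)) (tt N38682 (iv2 F216901)) (tt N38803 F216902) (tt N69754 F216903) (tt N105405 D208602) (tt N72026 (iv6 F428204)) (tt N38680 F216904))
theorem Q70176 : ∀ i, i < 70176 → P i := stepQ 70175 Q70175 (allL N70175 (tt N38682 F410156) (tt N38680 F410157) (tt N38678 (iv2 D134789)) (tt N105406 D208603) (tt N95899 F410158) (tt N104207 (iv5 F444694)) (tt N72056 F411665) (tt N38679 (iv7 F216906)))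
theorem Q70177 : ∀ i, i < 70177 → P i := stepQ 70176 Q70176 (allL N70176 (tt N104759 (iv1 F447144)) (tt N104386 (iv0 F445537)) (tt N68316 (iv2 F216908)) (tt N38678 (iv3 D134790)) (tt N68314 F216907) (tt N101397 (iv5 F432847)) (tt N105407 D208604) (tt N102426 (iv7 F437192)))
theorem Q70178 : ∀ i, i < 70178 → P i := stepQ 70177 Q70177 (allL N70177 (tt N104335 F445313) (tt N69856 (iv0 F216909)) (tt N95899 (iv2 F410159)) (tt N105408 D208605) (tt N38678 (iv4 D134791)) (tt N76354 (iv5 F355353)) (tt N105409 D208606) (tt N105410 D208607))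
theorem Q70179 : ∀ i, i < 70179 → P i := stepQ 70178 Q70178 (allL N70178 (tt N105411 D208608) (tt N70247 (iv0 F361802)) (tt N104207 (iv2 F444692)) (tt N101397 F432849) (tt N104972 (iv4 F448210)) (tt N38678 (iv5 D134792)) (tt N57471 F386974) (tt N105412 D208609))
theorem Q70180 : ∀ i, i < 70180 → P i := stepQ 70179 Q70179 (allL N70179 (tt N72055 (iv1 F411678)) (tt N71961 F411679) (tt N72056 (iv2 F411667)) (tt N105407 (iv3 F450109)) (tt N105409 (iv4 F450120)) (tt N100822 F430640) (tt N38678 (iv6 D134793)) (tt N72057 F411677))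
theorem Q70181 : ∀ i, i < 70181 → P i := stepQ 70180 Q70180 (allL N70180 (tt N38680 F410160) (tt N38682 F410161) (tt N38679 F216910) (tt N102426 (iv3 F437195)) (tt N105410 (iv4 F450125)) (tt N105412 (iv5 F450139)) (tt N72044 (iv6 F411676)) (tt N38678 (iv7 D134794)))
theorem Q70182 : ∀ i, i < 70182 → P i := stepQ 70181 Q70181 (allL N70181 (tt N102579 (iv1 F437748)) (tt N102581 (iv0 F437773)) (tt N102538 (iv2 F437558)) (tt N38679 (iv3 D134795)) (tt N102536 F437554) (tt N105413 D208610) (tt N52982 F411675) (tt N105406 (iv7 F450105)))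
theorem Q70183 : ∀ i, i < 70183 → P i := stepQ 70182 Q70182 (allL N70182 (tt N69856 F360770) (tt N104335 (iv0 F445310)) (tt N105410 (iv2 F450123)) (tt N69849 F216911) (tt N38679 (iv4 D134796)) (tt N76355 F347361) (tt N105414 D208611) (tt N95899 (iv7 F410153)))
theorem Q70184 : ∀ i, i < 70184 → P i := stepQ 70183 Q70183 (allL N70183 (tt N70247 (iv1 F355352)) (tt N105411 F450135) (tt N105412 (iv2 F450136)) (tt N105413 (iv3 F450144)) (tt N105415 D208612) (tt N38679 (iv5 D134797)) (tt N88985 (iv6 F411674)) (tt N104207 (iv7 F444695)))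
theorem Q70185 : ∀ i, i < 70185 → P i := stepQ 70184 Q70184 (allL N70184 (tt N52923 F411668) (tt N72046 F411669) (tt N72044 F411670) (tt N52982 F411671) (tt N105414 (iv4 F450149)) (tt N52916 F411672) (tt N38679 (iv6 D134798)) (tt N72043 F411673))
theorem Q70186 : ∀ i, i < 70186 → P i := stepQ 70185 Q70185 (allL N70185 (tt N105416 D208613) (tt N105417 D208614) (tt N38681 F216914) (tt N38811 F216915) (tt N105418 D208615) (tt N38680 (iv5 D134801)) (tt N100195 (iv6 F427939)) (tt N105405 (iv7 F450098)))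
theorem Q70187 : ∀ i, i < 70187 → P i := stepQ 70186 Q70186 (allL N70186 (tt N105405 (iv1 F450101)) (tt N38681 (iv0 D134802)) (tt N105416 F450161) (tt N104769 F447182) (tt N105006 (iv4 F448333)) (tt N103287 (iv5 F447183)) (tt N105419 D208616) (tt N105417 (iv7 F450164)))
theorem Q70188 : ∀ i, i < 70188 → P i := stepQ 70187 Q70187 (allL N70187 (tt N38681 (iv1 D134803)) (tt N105405 (iv0 F450100)) (tt N105417 F450169) (tt N105420 D208617) (tt N105421 D208618) (tt N73842 (iv5 F411688)) (tt N105422 D208619) (tt N105416 F450162))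
theorem Q70189 : ∀ i, i < 70189 → P i := stepQ 70188 Q70188 (allL N70188 (tt N105423 D208620) (tt N98636 (iv0 F421674)) (tt N105418 (iv2 F450170)) (tt N78387 (iv3 F351260)) (tt N38681 (iv4 D134804)) (tt N76404 F351264) (tt N63311 F351265) (tt N63324 F351266))
theorem Q70190 : ∀ i, i < 70190 → P i := stepQ 70189 Q70189 (allL N70189 (tt N100197 (iv1 F427949)) (tt N43140 F386972) (tt N100195 F427938) (tt N38685 F216916) (tt N63311 F351273) (tt N69767 F216917) (tt N38681 (iv6 D134805)) (tt N63310 (iv7 F351271)))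
theorem Q70191 : ∀ i, i < 70191 → P i := stepQ 70190 Q70190 (allL N70190 (tt N105417 (iv1 F450163)) (tt N105416 F450160) (tt N105405 (iv2 F450095)) (tt N38686 F216918) (tt N63324 (iv4 F351267)) (tt N38682 F216919) (tt N63323 F351268) (tt N38681 (iv7 D134806)))
theorem Q70192 : ∀ i, i < 70192 → P i := stepQ 70191 Q70191 (allL N70191 (tt N72012 F406329) (tt N72028 F406330) (tt N72026 (iv2 F428202)) (tt N38687 F216920) (tt N69768 F216921) (tt N105424 D208621) (tt N38682 (iv6 D134807)) (tt N69768 F216922))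
theorem Q70193 : ∀ i, i < 70193 → P i := stepQ 70192 Q70192 (allL N70192 (tt N105400 (iv1 F450071)) (tt N105401 (iv0 F450076)) (tt N105425 D208622) (tt N38683 (iv3 D134808)) (tt N105426 D208623) (tt N57794 F216923) (tt N80397 (iv6 F365569)) (tt N38818 F216924))
theorem Q70194 : ∀ i, i < 70194 → P i := stepQ 70193 Q70193 (allL N70193 (tt N94770 F405852) (tt N98343 F420566) (tt N73025 F351253) (tt N38684 (iv3 D134810)) (tt N78387 F351259) (tt N38714 F216927) (tt N73024 (iv6 F351261)) (tt N38713 F216928))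
theorem Q70195 : ∀ i, i < 70195 → P i := stepQ 70194 Q70194 (allL N70194 (tt N72960 (iv1 F345322)) (tt N63961 F349749) (tt N38823 F216929) (tt N73024 F345312) (tt N38685 F216930) (tt N62334 (iv5 F345311)) (tt N38684 (iv6 D134811)) (tt N73020 F345313))
theorem Q70196 : ∀ i, i < 70196 → P i := stepQ 70195 Q70195 (allL N70195 (tt N38826 (iv1 F216934)) (tt N38685 (iv0 D134812)) (tt N38824 F350740) (tt N105427 D208624) (tt N94564 (iv4 F404981)) (tt N64377 F341411) (tt N101849 (iv6 F434654)) (tt N38825 F350741))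
theorem Q70197 : ∀ i, i < 70197 → P i := stepQ 70196 Q70196 (allL N70196 (tt N38825 (iv1 F216935)) (tt N38824 F216936) (tt N38826 F216932) (tt N63310 F351272) (tt N73020 (iv4 F345318)) (tt N69771 F216933) (tt N63321 (iv6 F351276)) (tt N38685 (iv7 D134814)))
theorem Q70198 : ∀ i, i < 70198 → P i := stepQ 70197 Q70197 (allL N70197 (tt N84758 (iv1 F370524)) (tt N84755 (iv0 F370501)) (tt N38827 F216937) (tt N63323 (iv3 F351270)) (tt N38715 F216938) (tt N105428 D208625) (tt N38686 (iv6 D134815)) (tt N63321 F351278))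
theorem Q70199 : ∀ i, i < 70199 → P i := stepQ 70198 Q70198 (allL N70198 (tt N70002 (iv1 F216941)) (tt N70001 F216942) (tt N38830 F216939) (tt N105424 (iv3 F450195)) (tt N105308 (iv4 F449648)) (tt N38687 (iv5 D134816)) (tt N105428 (iv6 F450221)) (tt N69772 F216940))
theorem Q70200 : ∀ i, i < 70200 → P i := stepQ 70199 Q70199 (allL N70199 (tt N58144 (iv1 F216943)) (tt N38688 (iv0 D134817)) (tt N58143 (iv2 F358827)) (tt N74239 (iv3 F361203)) (tt N101904 (iv4 F434891)) (tt N94825 (iv5 F406068)) (tt N101677 F433823) (tt N58142 F358826))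
theorem Q70201 : ∀ i, i < 70201 → P i := stepQ 70200 Q70200 (allL N70200 (tt N38688 (iv1 D134818)) (tt N58144 F216949) (tt N58142 F358638) (tt N80581 F358639) (tt N75213 (iv4 F230755)) (tt N85151 (iv5 F371754)) (tt N80579 (iv6 F358637)) (tt N58143 (iv7 F358825)))
theorem Q70202 : ∀ i, i < 70202 → P i := stepQ 70201 Q70201 (allL N70201 (tt N58143 (iv1 F216950)) (tt N58142 F216948) (tt N38688 (iv2 D134819)) (tt N58147 F216944) (tt N57497 F216945) (tt N105429 D208626) (tt N69686 F216946) (tt N58144 F216947))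
theorem Q70203 : ∀ i, i < 70203 → P i := stepQ 70202 Q70202 (allL N70202 (tt N105430 D208627) (tt N105431 D208628) (tt N105429 (iv2 F450223)) (tt N38689 F216951) (tt N61291 (iv4 F361663)) (tt N38688 (iv5 D134820)) (tt N105432 D208629) (tt N58016 F216952))
theorem Q70204 : ∀ i, i < 70204 → P i := stepQ 70203 Q70203 (allL N70203 (tt N56784 F361296) (tt N105375 F449954) (tt N58019 F216953) (tt N105432 (iv3 F450243)) (tt N40393 F216954) (tt N69688 F216955) (tt N38689 (iv6 D134821)) (tt N105373 (iv7 F449941)))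
theorem Q70205 : ∀ i, i < 70205 → P i := stepQ 70204 Q70204 (allL N70204 (tt N56216 (iv1 F216961)) (tt N45638 F327055) (tt N56217 F216956) (tt N65937 F216957) (tt N57929 F216958) (tt N58943 F216959) (tt N58253 F216960) (tt N38690 (iv7 D134822)))
theorem Q70206 : ∀ i, i < 70206 → P i := stepQ 70205 Q70205 (allL N70205 (tt N58081 F216965) (tt N38691 (iv0 D134823)) (tt N74731 (iv2 F228690)) (tt N60891 (iv3 F328477)) (tt N69839 F216963) (tt N60889 (iv5 F336154)) (tt N70243 (iv6 F217054)) (tt N74054 (iv7 F226747)))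
theorem Q70207 : ∀ i, i < 70207 → P i := stepQ 70206 Q70206 (allL N70206 (tt N74054 F226749) (tt N74731 F228696) (tt N58081 F216968) (tt N94217 (iv3 F403737)) (tt N40401 F216969) (tt N58954 F216970) (tt N40399 F216971) (tt N38691 (iv7 D134824)))
theorem Q70208 : ∀ i, i < 70208 → P i := stepQ 70207 Q70207 (allL N70207 (tt N94253 (iv1 F403846)) (tt N38692 (iv0 D134825)) (tt N57616 (iv2 F216974)) (tt N96259 (iv3 F411776)) (tt N57613 F216975) (tt N94154 (iv5 F403460)) (tt N105433 D208630) (tt N94252 (iv7 F403840)))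
theorem Q70209 : ∀ i, i < 70209 → P i := stepQ 70208 Q70208 (allL N70208 (tt N38692 (iv1 D134826)) (tt N94253 F403847) (tt N94252 F403838) (tt N77848 (iv3 F245124)) (tt N57618 (iv4 F216972)) (tt N94619 (iv5 F405247)) (tt N105434 D208631) (tt N57616 F216973))
theorem Q70210 : ∀ i, i < 70210 → P i := stepQ 70209 Q70209 (allL N70209 (tt N57616 (iv1 F403605)) (tt N94252 F403839) (tt N38692 (iv2 D134827)) (tt N90228 (iv3 F388996)) (tt N94184 (iv4 F403600)) (tt N94545 (iv5 F404914)) (tt N90227 F388994) (tt N94253 (iv7 F403845)))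
theorem Q70211 : ∀ i, i < 70211 → P i := stepQ 70210 Q70210 (allL N70210 (tt N89568 F386775) (tt N90359 F389416) (tt N90227 (iv2 F388992)) (tt N38693 F216976) (tt N66440 F216977) (tt N101589 (iv5 F433467)) (tt N38692 (iv6 D134828)) (tt N90360 (iv7 F389418)))
theorem Q70212 : ∀ i, i < 70212 → P i := stepQ 70211 Q70211 (allL N70211 (tt N73455 (iv1 F224886)) (tt N73457 (iv0 F224891)) (tt N73553 F225019) (tt N101589 F433468) (tt N78072 F343805) (tt N38693 (iv5 D134829)) (tt N78076 (iv6 F343806)) (tt N73552 F225016))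
theorem Q70213 : ∀ i, i < 70213 → P i := stepQ 70212 Q70212 (allL N70212 (tt N44312 (iv1 F216980)) (tt N44311 F216981) (tt N72938 (iv2 F223634)) (tt N90360 (iv3 F389417)) (tt N38696 F216978) (tt N73552 (iv5 F225014)) (tt N62183 F216979) (tt N38693 (iv7 D134830)))
theorem Q70214 : ∀ i, i < 70214 → P i := stepQ 70213 Q70213 (allL N70213 (tt N70242 F217053) (tt N70243 (iv0 F217055)) (tt N95954 (iv2 F410411)) (tt N60129 F216982) (tt N74011 (iv4 F226573)) (tt N57974 F216983) (tt N38695 (iv6 D134831)) (tt N57974 F216984))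
theorem Q70215 : ∀ i, i < 70215 → P i := stepQ 70214 Q70214 (allL N70214 (tt N57183 (iv1 F216991)) (tt N38697 (iv0 D134832)) (tt N57184 (iv2 F216988)) (tt N57348 F216985) (tt N39283 (iv4 F216992)) (tt N66077 F216987) (tt N66271 F216986) (tt N39450 F216989))
theorem Q70216 : ∀ i, i < 70216 → P i := stepQ 70215 Q70215 (allL N70215 (tt N39450 (iv1 F216998)) (tt N57184 F216999) (tt N57183 F216994) (tt N38702 F216995) (tt N70645 (iv4 F218030)) (tt N68653 F216996) (tt N65451 F216997) (tt N38697 (iv7 D134833)))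
theorem Q70217 : ∀ i, i < 70217 → P i := stepQ 70216 Q70216 (allL N70216 (tt N90228 (iv1 F388999)) (tt N38698 (iv0 D134834)) (tt N90337 (iv2 F389376)) (tt N44318 F217000) (tt N90219 F388964) (tt N85611 (iv5 F373207)) (tt N73175 F365811) (tt N72229 F245780))
theorem Q70218 : ∀ i, i < 70218 → P i := stepQ 70217 Q70217 (allL N70217 (tt N38698 (iv1 D134835)) (tt N90228 F389000) (tt N72229 F385739) (tt N93738 (iv3 F401720)) (tt N89240 (iv4 F385738)) (tt N94612 F405208) (tt N93734 F401713) (tt N90337 (iv7 F389377)))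
theorem Q70219 : ∀ i, i < 70219 → P i := stepQ 70218 Q70218 (allL N70218 (tt N90337 (iv1 F389380)) (tt N72229 F221713) (tt N38698 (iv2 D134836)) (tt N94253 (iv3 F403842)) (tt N104964 (iv4 F448171)) (tt N94550 (iv5 F404929)) (tt N90366 (iv6 F389429)) (tt N90228 F388998))
theorem Q70220 : ∀ i, i < 70220 → P i := stepQ 70219 Q70219 (allL N70219 (tt N90356 F389410) (tt N90354 (iv0 F389406)) (tt N90366 (iv2 F389428)) (tt N38699 F217001) (tt N71411 (iv4 F220034)) (tt N96953 (iv5 F414758)) (tt N38698 (iv6 D134837)) (tt N72937 (iv7 F223632)))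
theorem Q70221 : ∀ i, i < 70221 → P i := stepQ 70220 Q70220 (allL N70220 (tt N74053 (iv1 F226745)) (tt N65858 (iv0 F217014)) (tt N94445 (iv2 F404505)) (tt N97204 (iv3 F415884)) (tt N95096 (iv4 F407016)) (tt N38703 (iv5 D134841)) (tt N95916 (iv6 F410246)) (tt N95273 F407674))
theorem Q70222 : ∀ i, i < 70222 → P i := stepQ 70221 Q70221 (allL N70221 (tt N65925 F217019) (tt N65927 (iv0 F217018)) (tt N97074 (iv2 F415340)) (tt N58839 F217015) (tt N78144 (iv4 F246267)) (tt N58082 F217016) (tt N38704 (iv6 D134842)) (tt N66536 F217017))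
theorem Q70223 : ∀ i, i < 70223 → P i := stepQ 70222 Q70222 (allL N70222 (tt N65456 (iv1 F217025)) (tt N38706 (iv0 D134843)) (tt N65455 (iv2 F217023)) (tt N53530 (iv3 F329706)) (tt N39316 F217020) (tt N66277 F217022) (tt N103327 (iv6 F441149)) (tt N62956 (iv7 F328409)))
theorem Q70224 : ∀ i, i < 70224 → P i := stepQ 70223 Q70223 (allL N70223 (tt N62956 (iv1 F328405)) (tt N65455 F217031) (tt N65456 F217026) (tt N38709 F217027) (tt N70866 (iv4 F218626)) (tt N60364 F217028) (tt N60758 F217029) (tt N38706 (iv7 D134844)))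
theorem Q70225 : ∀ i, i < 70225 → P i := stepQ 70224 Q70224 (allL N70224 (tt N69109 F217034) (tt N94482 (iv0 F404671)) (tt N94310 (iv2 F403994)) (tt N57207 F217032) (tt N64615 (iv4 F344449)) (tt N64605 (iv5 F328732)) (tt N38707 (iv6 D134845)) (tt N96077 (iv7 F410935)))
theorem Q70226 : ∀ i, i < 70226 → P i := stepQ 70225 Q70225 (allL N70225 (tt N38711 (iv1 F217038)) (tt N38710 (iv0 D134846)) (tt N38714 (iv2 F217035)) (tt N73026 (iv3 F345281)) (tt N60142 F217036) (tt N73025 F351255) (tt N73471 (iv6 F345304)) (tt N38712 F217037))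
theorem Q70227 : ∀ i, i < 70227 → P i := stepQ 70226 Q70226 (allL N70226 (tt N38714 F360557) (tt N38712 F360558) (tt N38710 (iv2 D134847)) (tt N105435 D208632) (tt N60332 F360559) (tt N105436 D208633) (tt N105437 D208634) (tt N38711 (iv7 F217039)))
theorem Q70228 : ∀ i, i < 70228 → P i := stepQ 70227 Q70227 (allL N70227 (tt N65343 F366592) (tt N65338 (iv0 F403095)) (tt N94571 (iv2 F405011)) (tt N38710 (iv3 D134848)) (tt N94077 F403094) (tt N105438 D208635) (tt N105439 D208636) (tt N94574 (iv7 F405020)))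
theorem Q70229 : ∀ i, i < 70229 → P i := stepQ 70228 Q70228 (allL N70228 (tt N99706 (iv1 F425835)) (tt N72319 (iv0 F222128)) (tt N60332 (iv2 F360560)) (tt N85273 (iv3 F372122)) (tt N38710 (iv4 D134849)) (tt N87565 (iv5 F379765)) (tt N91373 (iv6 F392895)) (tt N85270 F372107))
theorem Q70230 : ∀ i, i < 70230 → P i := stepQ 70229 Q70229 (allL N70229 (tt N93562 F401144) (tt N72211 (iv0 F398729)) (tt N105436 (iv2 F450260)) (tt N105438 (iv3 F450271)) (tt N97284 (iv4 F416207)) (tt N38710 (iv5 D134850)) (tt N105440 D208637) (tt N105441 D208638))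
theorem Q70231 : ∀ i, i < 70231 → P i := stepQ 70230 Q70230 (allL N70230 (tt N81986 (iv1 F402162)) (tt N78142 (iv0 F402160)) (tt N105437 (iv2 F450267)) (tt N105439 (iv3 F450272)) (tt N91373 (iv4 F392894)) (tt N81972 F345336) (tt N38710 (iv6 D134851)) (tt N91369 (iv7 F392890)))
theorem Q70232 : ∀ i, i < 70232 → P i := stepQ 70231 Q70231 (allL N70231 (tt N38712 F360561) (tt N38714 F360562) (tt N38711 F217040) (tt N94574 (iv3 F405018)) (tt N85270 (iv4 F372104)) (tt N105441 (iv5 F450279)) (tt N85269 F372101) (tt N38710 (iv7 D134852)))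
theorem Q70233 : ∀ i, i < 70233 → P i := stepQ 70232 Q70232 (allL N70232 (tt N89767 (iv1 F387488)) (tt N65268 (iv0 F343132)) (tt N105442 D208639) (tt N38711 (iv3 D134853)) (tt N57612 (iv4 F343128)) (tt N82252 F343130) (tt N77499 F372084) (tt N105435 (iv7 F450256)))
theorem Q70234 : ∀ i, i < 70234 → P i := stepQ 70233 Q70233 (allL N70233 (tt N72319 F343133) (tt N99706 (iv0 F425834)) (tt N85270 (iv2 F372102)) (tt N60336 (iv3 F360555)) (tt N38711 (iv4 D134854)) (tt N87562 (iv5 F379757)) (tt N85266 (iv6 F372081)) (tt N60332 F360556))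
theorem Q70235 : ∀ i, i < 70235 → P i := stepQ 70234 Q70234 (allL N70234 (tt N72211 F343134) (tt N93562 (iv0 F401143)) (tt N105441 (iv2 F450277)) (tt N82252 (iv3 F343131)) (tt N97285 (iv4 F416215)) (tt N38711 (iv5 D134855)) (tt N105443 D208640) (tt N105436 (iv7 F450262)))
theorem Q70236 : ∀ i, i < 70236 → P i := stepQ 70235 Q70235 (allL N70235 (tt N91367 (iv1 F392885)) (tt N91366 F392883) (tt N85269 (iv2 F372099)) (tt N77499 (iv3 F372083)) (tt N85266 F372082) (tt N105444 D208641) (tt N38711 (iv6 D134856)) (tt N91362 (iv7 F392871)))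
theorem Q70237 : ∀ i, i < 70237 → P i := stepQ 70236 Q70236 (allL N70236 (tt N73025 (iv1 F351305)) (tt N38713 (iv0 D134860)) (tt N98343 F420565) (tt N105445 D208642) (tt N61226 F364997) (tt N78061 (iv5 F351306)) (tt N97823 (iv6 F418425)) (tt N94770 F405856))
theorem Q70238 : ∀ i, i < 70238 → P i := stepQ 70237 Q70237 (allL N70237 (tt N38713 (iv1 D134861)) (tt N73025 F351256) (tt N94770 F405854) (tt N82258 (iv3 F366742)) (tt N61227 (iv4 F351257)) (tt N78062 F364953) (tt N93353 (iv6 F400499)) (tt N98343 (iv7 F420567)))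
theorem Q70239 : ∀ i, i < 70239 → P i := stepQ 70238 Q70238 (allL N70238 (tt N74638 (iv1 F340483)) (tt N105446 D208643) (tt N73471 F345301) (tt N38716 F217047) (tt N41085 F331508) (tt N73468 (iv5 F345303)) (tt N38714 (iv6 D134864)) (tt N40683 F217049))
theorem Q70240 : ∀ i, i < 70240 → P i := stepQ 70239 Q70239 (allL N70239 (tt N73021 (iv1 F360007)) (tt N38715 (iv0 D134865)) (tt N50128 F342488) (tt N43597 F342489) (tt N94657 (iv4 F405395)) (tt N58284 F342490) (tt N43592 F342491) (tt N58283 F342492))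
theorem Q70241 : ∀ i, i < 70241 → P i := stepQ 70240 Q70240 (allL N70240 (tt N38715 (iv1 D134866)) (tt N73021 F351196) (tt N58283 (iv2 F351310)) (tt N50129 (iv3 F351311)) (tt N83371 (iv4 F362811)) (tt N50478 F351197) (tt N57928 (iv6 F351312)) (tt N50128 (iv7 F351313)))
theorem Q70242 : ∀ i, i < 70242 → P i := stepQ 70241 Q70241 (allL N70241 (tt N74013 (iv1 F226583)) (tt N99464 F424700) (tt N62335 (iv2 F345292)) (tt N73468 (iv3 F345307)) (tt N105447 D208644) (tt N38716 (iv5 D134868)) (tt N62334 F345310) (tt N40684 F217050))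
theorem Q70243 : ∀ i, i < 70243 → P i := stepQ 70242 Q70242 (allL N70242 (tt N94667 F405452) (tt N70213 (iv0 F217053)) (tt N74016 (iv2 F226608)) (tt N41296 F217051) (tt N99299 (iv4 F423987)) (tt N38717 (iv5 D134869)) (tt N41100 F217052) (tt N74015 (iv7 F226606)))
theorem Q70244 : ∀ i, i < 70244 → P i := stepQ 70243 Q70243 (allL N70243 (tt N70213 F217055) (tt N94667 (iv0 F405451)) (tt N74015 (iv2 F226604)) (tt N72122 (iv3 F221372)) (tt N99339 (iv4 F424168)) (tt N38718 (iv5 D134870)) (tt N70205 F217054) (tt N74016 (iv7 F226610)))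
theorem Q70245 : ∀ i, i < 70245 → P i := stepQ 70244 Q70244 (allL N70244 (tt N71928 (iv1 F365743)) (tt N38719 (iv0 D134871)) (tt N73842 (iv2 F361803)) (tt N104159 (iv3 F444477)) (tt N73798 F361804) (tt N105417 (iv5 F450165)) (tt N73797 F361805) (tt N103287 (iv7 F440997)))
theorem Q70246 : ∀ i, i < 70246 → P i := stepQ 70245 Q70245 (allL N70245 (tt N38719 (iv1 D134872)) (tt N71928 F365748) (tt N103287 F440995) (tt N105448 D208645) (tt N73846 (iv4 F361800)) (tt N105416 (iv5 F450159)) (tt N105449 D208646) (tt N73842 F361801))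
theorem Q70247 : ∀ i, i < 70247 → P i := stepQ 70246 Q70246 (allL N70246 (tt N73842 (iv1 F365742)) (tt N103287 F440996) (tt N38719 (iv2 D134873)) (tt N68216 F217056) (tt N69785 F217057) (tt N85138 F371718) (tt N105450 D208647) (tt N71928 F365741))
theorem Q70248 : ∀ i, i < 70248 → P i := stepQ 70247 Q70247 (allL N70247 (tt N70178 F361802) (tt N70183 F355352) (tt N85138 (iv2 F371716)) (tt N38720 F217058) (tt N85126 (iv4 F371700)) (tt N38719 (iv5 D134874)) (tt N85125 F371698) (tt N70375 (iv7 F217303)))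
theorem Q70249 : ∀ i, i < 70249 → P i := stepQ 70248 Q70248 (allL N70248 (tt N85041 F371445) (tt N105451 D208648) (tt N105450 (iv2 F450314)) (tt N38721 F217059) (tt N64440 (iv4 F328253)) (tt N105243 (iv5 F449360)) (tt N38719 (iv6 D134875)) (tt N71986 (iv7 F365738)))
theorem Q70250 : ∀ i, i < 70250 → P i := stepQ 70249 Q70249 (allL N70249 (tt N105296 F449616) (tt N89689 (iv0 F387226)) (tt N68219 F217061) (tt N85125 (iv3 F371697)) (tt N72298 (iv4 F221906)) (tt N105244 (iv5 F449366)) (tt N38720 (iv6 D134876)) (tt N102319 (iv7 F436712)))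
theorem Q70251 : ∀ i, i < 70251 → P i := stepQ 70250 Q70250 (allL N70250 (tt N68222 (iv1 F217064)) (tt N38721 (iv0 D134877)) (tt N68220 F217065) (tt N88730 (iv3 F384032)) (tt N68939 F217062) (tt N100870 (iv5 F430827)) (tt N88602 F383565) (tt N64606 (iv7 F328738)))
theorem Q70252 : ∀ i, i < 70252 → P i := stepQ 70251 Q70251 (allL N70251 (tt N38721 (iv1 D134878)) (tt N68222 F217067) (tt N64606 (iv2 F328736)) (tt N85043 (iv3 F371450)) (tt N69817 F217069) (tt N82293 F365580) (tt N64443 (iv6 F328252)) (tt N68220 F217068))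
theorem Q70253 : ∀ i, i < 70253 → P i := stepQ 70252 Q70252 (allL N70252 (tt N64606 (iv1 F328735)) (tt N68220 F217076) (tt N68222 F217072) (tt N71986 F365739) (tt N38724 F217073) (tt N104331 (iv5 F445292)) (tt N68348 F217074) (tt N38721 (iv7 D134879)))
theorem Q70254 : ∀ i, i < 70254 → P i := stepQ 70253 Q70253 (allL N70253 (tt N50919 (iv1 F328197)) (tt N38727 (iv0 F217080)) (tt N68223 F217077) (tt N105452 D208649) (tt N38722 (iv4 D134880)) (tt N100901 (iv5 F430889)) (tt N70439 (iv6 F217405)) (tt N64678 (iv7 F329436)))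
theorem Q70255 : ∀ i, i < 70255 → P i := stepQ 70254 Q70254 (allL N70254 (tt N38727 F217084) (tt N50919 (iv0 F328196)) (tt N64678 (iv2 F329434)) (tt N77300 F329397) (tt N38723 (iv4 D134881)) (tt N46660 F329398) (tt N46663 F329399) (tt N68223 F217083))
theorem Q70256 : ∀ i, i < 70256 → P i := stepQ 70255 Q70255 (allL N70255 (tt N104480 (iv1 F445957)) (tt N38725 (iv0 D134882)) (tt N104479 F445949) (tt N71991 F355790) (tt N105453 D208650) (tt N94653 F405382) (tt N71989 (iv6 F355794)) (tt N104478 F445943))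
theorem Q70257 : ∀ i, i < 70257 → P i := stepQ 70256 Q70256 (allL N70256 (tt N38725 (iv1 D134883)) (tt N104480 F445958) (tt N104478 (iv2 F445951)) (tt N105454 D208651) (tt N104500 (iv4 F446036)) (tt N94654 (iv5 F445952)) (tt N105455 D208652) (tt N104479 F445950))
theorem Q70258 : ∀ i, i < 70258 → P i := stepQ 70257 Q70257 (allL N70257 (tt N104479 F445948) (tt N104478 F445942) (tt N38725 (iv2 D134884)) (tt N84968 (iv3 F371199)) (tt N67679 F217086) (tt N105456 D208653) (tt N84967 F371197) (tt N104480 (iv7 F445956)))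
theorem Q70259 : ∀ i, i < 70259 → P i := stepQ 70258 Q70258 (allL N70258 (tt N94486 (iv1 F404701)) (tt N94490 (iv0 F404700)) (tt N105456 (iv2 F450341)) (tt N38726 F217087) (tt N105457 D208654) (tt N38725 (iv5 D134885)) (tt N105458 D208655) (tt N70339 (iv7 F217227)))
theorem Q70260 : ∀ i, i < 70260 → P i := stepQ 70259 Q70259 (allL N70259 (tt N84965 (iv1 F371193)) (tt N84964 F371196) (tt N84967 (iv2 F371194)) (tt N38727 F217088) (tt N67681 F217089) (tt N105188 (iv5 F449154)) (tt N38725 (iv6 D134886)) (tt N84966 F371192))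
theorem Q70261 : ∀ i, i < 70261 → P i := stepQ 70260 Q70260 (allL N70260 (tt N105459 D208656) (tt N105460 D208657) (tt N70342 (iv2 F217232)) (tt N105458 (iv3 F450345)) (tt N72638 (iv4 F222794)) (tt N105190 (iv5 F449156)) (tt N38726 (iv6 D134887)) (tt N105461 D208658))
theorem Q70262 : ∀ i, i < 70262 → P i := stepQ 70261 Q70261 (allL N70261 (tt N64678 (iv1 F329433)) (tt N68223 F217094) (tt N50919 (iv2 F328198)) (tt N84966 (iv3 F371191)) (tt N67225 F217091) (tt N105074 (iv5 F448662)) (tt N69735 F217092) (tt N38727 (iv7 D134888)))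
theorem Q70263 : ∀ i, i < 70263 → P i := stepQ 70262 Q70262 (allL N70262 (tt N84968 F371203) (tt N38728 (iv0 D134889)) (tt N104819 F447448) (tt N68227 F217095) (tt N70501 (iv4 F217591)) (tt N94587 (iv5 F405077)) (tt N105462 D208659) (tt N103585 (iv7 F442133)))
theorem Q70264 : ∀ i, i < 70264 → P i := stepQ 70263 Q70263 (allL N70263 (tt N38728 (iv1 D134890)) (tt N84968 F371202) (tt N103585 F442137) (tt N105463 D208660) (tt N85048 (iv4 F371455)) (tt N94588 (iv5 F405084)) (tt N105464 D208661) (tt N104819 (iv7 F447443)))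
theorem Q70265 : ∀ i, i < 70265 → P i := stepQ 70264 Q70264 (allL N70264 (tt N104819 (iv1 F447442)) (tt N103585 (iv0 F442134)) (tt N38728 (iv2 D134891)) (tt N104480 (iv3 F445953)) (tt N68308 F217096) (tt N86290 F375711) (tt N39455 F325766) (tt N84968 (iv7 F371201)))
theorem Q70266 : ∀ i, i < 70266 → P i := stepQ 70265 Q70265 (allL N70265 (tt N70509 F361760) (tt N86291 F375717) (tt N86290 (iv2 F375712)) (tt N38729 F217097) (tt N101009 (iv4 F431252)) (tt N38728 (iv5 D134892)) (tt N105465 D208662) (tt N70341 (iv7 F217231)))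
theorem Q70267 : ∀ i, i < 70267 → P i := stepQ 70266 Q70266 (allL N70266 (tt N105466 D208663) (tt N105467 D208664) (tt N70340 (iv2 F217228)) (tt N105465 (iv3 F450368)) (tt N72629 (iv4 F222776)) (tt N105468 D208665) (tt N38729 (iv6 D134894)) (tt N105469 D208666))
theorem Q70268 : ∀ i, i < 70268 → P i := stepQ 70267 Q70267 (allL N70267 (tt N98853 (iv1 F422571)) (tt N98855 (iv0 F422587)) (tt N69834 F217101) (tt N39137 F327701) (tt N102702 (iv4 F438264)) (tt N38730 (iv5 D134895)) (tt N105468 (iv6 F450377)) (tt N39457 (iv7 F328195)))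
theorem Q70269 : ∀ i, i < 70269 → P i := stepQ 70268 Q70268 (allL N70268 (tt N105463 (iv1 F450360)) (tt N87670 F380088) (tt N67265 F352544) (tt N38731 (iv3 D134897)) (tt N67171 F217104) (tt N50590 F345384) (tt N105470 D208667) (tt N67269 F352491))
theorem Q70270 : ∀ i, i < 70270 → P i := stepQ 70269 Q70269 (allL N70269 (tt N103571 F442153) (tt N104910 F447895) (tt N68630 F352542) (tt N105471 D208668) (tt N38731 (iv4 D134898)) (tt N85688 (iv5 F373530)) (tt N105472 D208669) (tt N105391 (iv7 F450024)))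
theorem Q70271 : ∀ i, i < 70271 → P i := stepQ 70270 Q70270 (allL N70270 (tt N70335 F332733) (tt N50579 F332735) (tt N70337 F352487) (tt N50590 F352483) (tt N92824 (iv4 F398389)) (tt N38731 (iv5 D134899)) (tt N92823 F398387) (tt N70336 (iv7 F352484)))
theorem Q70272 : ∀ i, i < 70272 → P i := stepQ 70271 Q70271 (allL N70271 (tt N86928 F377740) (tt N77300 (iv0 F332734)) (tt N105393 (iv2 F450033)) (tt N105470 (iv3 F450382)) (tt N105472 (iv4 F450395)) (tt N105178 (iv5 F449120)) (tt N38731 (iv6 D134900)) (tt N105473 D208670))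
theorem Q70273 : ∀ i, i < 70273 → P i := stepQ 70272 Q70272 (allL N70272 (tt N105474 D208671) (tt N71991 (iv0 F355795)) (tt N73840 F352551) (tt N38732 (iv3 D134902)) (tt N105112 (iv4 F448849)) (tt N105475 D208672) (tt N73124 (iv6 F352552)) (tt N105392 (iv7 F450030)))
theorem Q70274 : ∀ i, i < 70274 → P i := stepQ 70273 Q70273 (allL N70273 (tt N104910 (iv1 F447896)) (tt N103571 (iv0 F442081)) (tt N105391 (iv2 F450021)) (tt N56495 (iv3 F217106)) (tt N38732 (iv4 D134903)) (tt N85689 F373535) (tt N60640 (iv6 F352475)) (tt N68630 F352495))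
theorem Q70275 : ∀ i, i < 70275 → P i := stepQ 70274 Q70274 (allL N70274 (tt N50579 F349651) (tt N70335 (iv0 F349708)) (tt N70336 (iv2 F352488)) (tt N105475 (iv3 F450408)) (tt N105476 D208673) (tt N38732 (iv5 D134904)) (tt N105477 D208674) (tt N70337 F352489))
theorem Q70276 : ∀ i, i < 70276 → P i := stepQ 70275 Q70275 (allL N70275 (tt N69734 F349657) (tt N48640 F349658) (tt N71842 F349659) (tt N73124 F349660) (tt N60640 F349661) (tt N73123 F349662) (tt N38732 (iv6 D134905)) (tt N73836 F349663))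
theorem Q70277 : ∀ i, i < 70277 → P i := stepQ 70276 Q70276 (allL N70276 (tt N96487 F412726) (tt N96485 (iv0 F412719)) (tt N38734 F217107) (tt N105387 (iv3 F450004)) (tt N86146 F376564) (tt N38733 (iv5 D134906)) (tt N85618 F373221) (tt N105394 (iv7 F450040)))
theorem Q70278 : ∀ i, i < 70278 → P i := stepQ 70277 Q70277 (allL N70277 (tt N48660 F332743) (tt N48675 F332744) (tt N38735 F217108) (tt N96598 (iv3 F413129)) (tt N93094 (iv4 F399459)) (tt N85619 (iv5 F373224)) (tt N38733 (iv6 D134907)) (tt N48674 F332725))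
theorem Q70279 : ∀ i, i < 70279 → P i := stepQ 70278 Q70278 (allL N70278 (tt N105394 (iv1 F450041)) (tt N38734 (iv0 D134908)) (tt N96487 (iv2 F412722)) (tt N54289 F332712) (tt N105478 D208675) (tt N38765 F332713) (tt N83381 (iv6 F332715)) (tt N96485 (iv7 F412718)))
theorem Q70280 : ∀ i, i < 70280 → P i := stepQ 70279 Q70279 (allL N70279 (tt N38734 (iv1 D134909)) (tt N105394 (iv0 F450042)) (tt N96485 (iv2 F412716)) (tt N105479 D208676) (tt N105480 D208677) (tt N38766 F332732) (tt N105481 D208678) (tt N96487 (iv7 F412723)))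
theorem Q70281 : ∀ i, i < 70281 → P i := stepQ 70280 Q70280 (allL N70280 (tt N85860 F374244) (tt N105482 D208679) (tt N86146 F376563) (tt N50380 F371971) (tt N38734 (iv4 D134910)) (tt N105483 D208680) (tt N73587 (iv6 F332720)) (tt N105395 (iv7 F450045)))
theorem Q70282 : ∀ i, i < 70282 → P i := stepQ 70281 Q70281 (allL N70281 (tt N88453 F383111) (tt N99360 (iv0 F424272)) (tt N85618 (iv2 F373217)) (tt N38736 F217109) (tt N73587 F332719) (tt N73492 (iv5 F332714)) (tt N38734 (iv6 D134911)) (tt N85620 (iv7 F373230)))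
theorem Q70283 : ∀ i, i < 70283 → P i := stepQ 70282 Q70282 (allL N70282 (tt N38735 (iv1 D134913)) (tt N48674 F332722) (tt N48675 F332723) (tt N84024 (iv3 F367843)) (tt N84026 (iv4 F367847)) (tt N89328 (iv5 F386131)) (tt N83017 (iv6 F332727)) (tt N48660 F332724))
theorem Q70284 : ∀ i, i < 70284 → P i := stepQ 70283 Q70283 (allL N70283 (tt N101259 (iv1 F432438)) (tt N83257 (iv0 F332731)) (tt N85619 (iv2 F373222)) (tt N38739 F217110) (tt N96471 (iv4 F412660)) (tt N38735 (iv5 D134914)) (tt N73492 F332718) (tt N95939 (iv7 F410354)))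
theorem Q70285 : ∀ i, i < 70285 → P i := stepQ 70284 Q70284 (allL N70284 (tt N48675 F332741) (tt N48660 F332742) (tt N48674 F332726) (tt N38740 F217111) (tt N93097 (iv4 F399484)) (tt N95939 (iv5 F410353)) (tt N86373 (iv6 F375994)) (tt N38735 (iv7 D134915)))
theorem Q70286 : ∀ i, i < 70286 → P i := stepQ 70285 Q70285 (allL N70285 (tt N38736 (iv1 D134917)) (tt N95233 (iv0 F407523)) (tt N95238 F407542) (tt N105484 D208681) (tt N58684 F404949) (tt N96673 (iv5 F413390)) (tt N105485 D208682) (tt N63980 F360078))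
theorem Q70287 : ∀ i, i < 70287 → P i := stepQ 70286 Q70286 (allL N70286 (tt N105486 D208683) (tt N105455 (iv0 F450339)) (tt N105487 D208684) (tt N38737 (iv3 D134920)) (tt N96998 (iv4 F414973)) (tt N100331 (iv5 F428449)) (tt N69800 F217113) (tt N96594 (iv7 F413123)))
theorem Q70288 : ∀ i, i < 70288 → P i := stepQ 70287 Q70287 (allL N70287 (tt N105462 (iv1 F450353)) (tt N87665 (iv0 F380035)) (tt N105488 D208685) (tt N38738 (iv3 D134921)) (tt N70605 (iv4 F217932)) (tt N105229 (iv5 F449306)) (tt N105489 D208686) (tt N96593 (iv7 F413120)))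
theorem Q70289 : ∀ i, i < 70289 → P i := stepQ 70288 Q70288 (allL N70288 (tt N64676 (iv1 F363082)) (tt N70439 (iv0 F363081)) (tt N96595 (iv2 F413124)) (tt N105489 (iv3 F450444)) (tt N67233 F217114) (tt N105309 (iv5 F449653)) (tt N38738 (iv6 D134922)) (tt N69802 F217115))
theorem Q70290 : ∀ i, i < 70290 → P i := stepQ 70289 Q70289 (allL N70289 (tt N73885 F356333) (tt N105449 (iv0 F450313)) (tt N105490 D208687) (tt N38741 (iv3 D134927)) (tt N69803 F217125) (tt N105260 (iv5 F449438)) (tt N69803 F217126) (tt N88598 (iv7 F383555)))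
theorem Q70291 : ∀ i, i < 70291 → P i := stepQ 70290 Q70290 (allL N70290 (tt N70566 (iv1 F217841)) (tt N38743 (iv0 D134928)) (tt N70565 (iv2 F417016)) (tt N102584 F437785) (tt N105491 D208688) (tt N102477 (iv5 F437369)) (tt N105492 D208689) (tt N70564 F417017))
theorem Q70292 : ∀ i, i < 70292 → P i := stepQ 70291 Q70291 (allL N70291 (tt N38743 (iv1 D134929)) (tt N70566 F217843) (tt N70564 F417015) (tt N60687 (iv3 F358343)) (tt N103288 (iv4 F440999)) (tt N102478 (iv5 F437372)) (tt N105493 D208690) (tt N70565 (iv7 F417014)))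
theorem Q70293 : ∀ i, i < 70293 → P i := stepQ 70292 Q70292 (allL N70292 (tt N70565 (iv1 F217842)) (tt N70564 F217838) (tt N38743 (iv2 D134930)) (tt N66126 F217127) (tt N38750 F217128) (tt N66124 F217129) (tt N105494 D208691) (tt N70566 (iv7 F217840)))
theorem Q70294 : ∀ i, i < 70294 → P i := stepQ 70293 Q70293 (allL N70293 (tt N105495 D208692) (tt N105496 D208693) (tt N105494 (iv2 F450462)) (tt N38744 F217130) (tt N38752 F217131) (tt N66389 (iv5 F360207)) (tt N38743 (iv6 D134931)) (tt N104488 (iv7 F445991)))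
theorem Q70295 : ∀ i, i < 70295 → P i := stepQ 70294 Q70294 (allL N70294 (tt N56955 (iv1 F217144)) (tt N38746 (iv0 D134933)) (tt N68332 (iv2 F217139)) (tt N56798 F217140) (tt N69036 (iv4 F217146)) (tt N71081 (iv5 F219415)) (tt N72613 F222749) (tt N69434 (iv7 F217141)))
theorem Q70296 : ∀ i, i < 70296 → P i := stepQ 70295 Q70295 (allL N70295 (tt N38746 (iv1 D134934)) (tt N56955 F217132) (tt N69434 F217142) (tt N39034 F217134) (tt N69037 F217137) (tt N70040 (iv5 F217133)) (tt N56946 F217135) (tt N68332 (iv7 F217136)))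
theorem Q70297 : ∀ i, i < 70297 → P i := stepQ 70296 Q70296 (allL N70296 (tt N69434 (iv1 F217151)) (tt N68332 F217152) (tt N56955 F217147) (tt N38761 F217148) (tt N71937 (iv4 F347231)) (tt N38747 F217149) (tt N56944 F217150) (tt N38746 (iv7 D134935)))
theorem Q70298 : ∀ i, i < 70298 → P i := stepQ 70297 Q70297 (allL N70297 (tt N105454 (iv1 F450337)) (tt N100789 (iv0 F430481)) (tt N71800 F365153) (tt N38748 (iv3 D134936)) (tt N74411 (iv4 F362913)) (tt N105497 D208694) (tt N71798 (iv6 F365152)) (tt N105385 (iv7 F449998)))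
theorem Q70299 : ∀ i, i < 70299 → P i := stepQ 70298 Q70298 (allL N70298 (tt N102446 F437265) (tt N66166 F217154) (tt N69007 F217153) (tt N75702 F362912) (tt N38748 (iv4 D134937)) (tt N66081 (iv5 F365160)) (tt N105498 D208695) (tt N102448 (iv7 F437273)))
theorem Q70300 : ∀ i, i < 70300 → P i := stepQ 70299 Q70299 (allL N70299 (tt N70351 F365158) (tt N70167 F365159) (tt N70353 (iv2 F365161)) (tt N105497 (iv3 F450477)) (tt N101401 (iv4 F450742)) (tt N38748 (iv5 D134938)) (tt N105499 D208697) (tt N70352 F365165))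
theorem Q70301 : ∀ i, i < 70301 → P i := stepQ 70300 Q70300 (allL N70300 (tt N69826 F365144) (tt N69831 F365145) (tt N39440 F365146) (tt N71798 F365147) (tt N105498 (iv4 F450479)) (tt N39439 F365148) (tt N38748 (iv6 D134939)) (tt N69830 F365149))
theorem Q70302 : ∀ i, i < 70302 → P i := stepQ 70301 Q70301 (allL N70301 (tt N68225 F217158) (tt N68227 (iv0 F217157)) (tt N69548 (iv2 F217156)) (tt N38749 (iv3 D134940)) (tt N69547 F217155) (tt N70488 (iv5 F217536)) (tt N71797 F330956) (tt N39442 F330957))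
theorem Q70303 : ∀ i, i < 70303 → P i := stepQ 70302 Q70302 (allL N70302 (tt N70167 (iv1 F365166)) (tt N70351 F365168) (tt N70352 F365164) (tt N70488 F217537) (tt N101402 F434128) (tt N38749 (iv5 D134941)) (tt N105500 D208698) (tt N70353 (iv7 F365162)))
theorem Q70304 : ∀ i, i < 70304 → P i := stepQ 70303 Q70303 (allL N70303 (tt N105452 F450327) (tt N105501 D208699) (tt N105386 (iv2 F450000)) (tt N71797 F365151) (tt N103524 (iv4 F441941)) (tt N105502 D208700) (tt N38749 (iv6 D134942)) (tt N71793 (iv7 F365150)))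
theorem Q70305 : ∀ i, i < 70305 → P i := stepQ 70304 Q70304 (allL N70304 (tt N105389 (iv1 F450013)) (tt N105388 F450010) (tt N38751 F217159) (tt N105394 (iv3 F450038)) (tt N105503 D208701) (tt N38750 (iv5 D134943)) (tt N105504 D208702) (tt N105387 (iv7 F450005)))
theorem Q70306 : ∀ i, i < 70306 → P i := stepQ 70305 Q70305 (allL N70305 (tt N105505 D208703) (tt N69823 (iv0 F366218)) (tt N38752 F217160) (tt N86371 (iv3 F375981)) (tt N105494 (iv4 F450464)) (tt N62058 F360203) (tt N38750 (iv6 D134944)) (tt N105506 D208704))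
theorem Q70307 : ∀ i, i < 70307 → P i := stepQ 70306 Q70306 (allL N70306 (tt N105387 (iv1 F450007)) (tt N38751 (iv0 D134945)) (tt N105389 F450016) (tt N105507 D208705) (tt N101380 F432818) (tt N38781 F336996) (tt N105508 D208706) (tt N105388 F450012))
theorem Q70308 : ∀ i, i < 70308 → P i := stepQ 70307 Q70307 (allL N70307 (tt N38751 (iv1 D134946)) (tt N105387 (iv0 F450006)) (tt N105388 F450011) (tt N105509 D208707) (tt N77533 F389035) (tt N38782 F389036) (tt N77532 F389037) (tt N105389 (iv7 F450014)))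
theorem Q70309 : ∀ i, i < 70309 → P i := stepQ 70308 Q70308 (allL N70308 (tt N105510 D208708) (tt N105511 D208709) (tt N105503 (iv2 F450490)) (tt N78068 (iv3 F245663)) (tt N38751 (iv4 D134947)) (tt N83109 (iv5 F350386)) (tt N105512 D208710) (tt N105390 (iv7 F450020)))
theorem Q70310 : ∀ i, i < 70310 → P i := stepQ 70309 Q70309 (allL N70309 (tt N105513 D208711) (tt N105514 D208712) (tt N105504 (iv2 F450492)) (tt N38753 F217161) (tt N105512 (iv4 F450524)) (tt N95949 (iv5 F410385)) (tt N38751 (iv6 D134948)) (tt N95948 F410383))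
theorem Q70311 : ∀ i, i < 70311 → P i := stepQ 70310 Q70310 (allL N70310 (tt N105506 (iv1 F450507)) (tt N38752 (iv0 D134949)) (tt N105505 F450499) (tt N74408 F365493) (tt N75717 (iv4 F365494)) (tt N105515 D208713) (tt N80546 F374826) (tt N69823 (iv7 F366222)))
theorem Q70312 : ∀ i, i < 70312 → P i := stepQ 70311 Q70311 (allL N70311 (tt N38752 (iv1 D134950)) (tt N105506 F450506) (tt N69823 F365405) (tt N71802 F365406) (tt N97928 (iv4 F418831)) (tt N105133 (iv5 F448938)) (tt N69728 (iv6 F365404)) (tt N105505 (iv7 F450500)))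
theorem Q70313 : ∀ i, i < 70313 → P i := stepQ 70312 Q70312 (allL N70312 (tt N73394 F365268) (tt N90184 F423515) (tt N62058 (iv2 F360201)) (tt N38756 F217162) (tt N62043 F360202) (tt N38752 (iv5 D134951)) (tt N95949 (iv6 F410386)) (tt N62040 (iv7 F360206)))
theorem Q70314 : ∀ i, i < 70314 → P i := stepQ 70313 Q70313 (allL N70313 (tt N69823 (iv1 F366219)) (tt N105505 F450501) (tt N105506 (iv2 F450502)) (tt N38757 F217163) (tt N104488 (iv4 F445988)) (tt N62040 F360208) (tt N96600 (iv6 F413136)) (tt N38752 (iv7 D134952)))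
theorem Q70315 : ∀ i, i < 70315 → P i := stepQ 70314 Q70314 (allL N70314 (tt N66415 F336662) (tt N38753 (iv0 D134953)) (tt N88446 (iv2 F383082)) (tt N84057 (iv3 F367957)) (tt N94650 (iv4 F405366)) (tt N39875 F336663) (tt N83375 (iv6 F336664)) (tt N95952 (iv7 F410404)))
theorem Q70316 : ∀ i, i < 70316 → P i := stepQ 70315 Q70315 (allL N70315 (tt N38753 (iv1 D134954)) (tt N66415 F343815) (tt N95952 F410402) (tt N105516 D208714) (tt N94651 (iv4 F405376)) (tt N39877 F343816) (tt N105517 D208715) (tt N88446 F383086))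
theorem Q70317 : ∀ i, i < 70317 → P i := stepQ 70316 Q70316 (allL N70316 (tt N105032 F448478) (tt N105464 (iv0 F450365)) (tt N105518 D208716) (tt N38754 (iv3 D134957)) (tt N68324 F217165) (tt N99425 (iv5 F424518)) (tt N54245 F365362) (tt N69791 F217166))
theorem Q70318 : ∀ i, i < 70318 → P i := stepQ 70317 Q70317 (allL N70317 (tt N71989 F333089) (tt N105519 D208717) (tt N105520 D208718) (tt N38755 (iv3 D134960)) (tt N67524 F217173) (tt N70322 F356550) (tt N67520 F217174) (tt N105396 (iv7 F450050)))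
theorem Q70319 : ∀ i, i < 70319 → P i := stepQ 70318 Q70318 (allL N70318 (tt N73797 (iv1 F333083)) (tt N73843 (iv0 F333068)) (tt N71927 (iv2 F333082)) (tt N38758 (iv3 D134966)) (tt N69837 F217178) (tt N72158 F329460) (tt N68234 F217179) (tt N71985 F333084))
theorem Q70320 : ∀ i, i < 70320 → P i := stepQ 70319 Q70319 (allL N70319 (tt N40577 F329401) (tt N62288 F217184) (tt N68351 F217181) (tt N88773 (iv3 F384099)) (tt N38759 (iv4 D134968)) (tt N70430 (iv5 F329632)) (tt N58122 F217182) (tt N72151 (iv7 F221487)))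
theorem Q70321 : ∀ i, i < 70321 → P i := stepQ 70320 Q70320 (allL N70320 (tt N62291 (iv1 F217193)) (tt N38760 (iv0 D134969)) (tt N72149 F223606) (tt N99251 (iv3 F423842)) (tt N69777 F217194) (tt N73230 (iv5 F342842)) (tt N72621 (iv6 F224314)) (tt N72150 (iv7 F223603)))
theorem Q70322 : ∀ i, i < 70322 → P i := stepQ 70321 Q70321 (allL N70321 (tt N38760 (iv1 D134970)) (tt N62291 F217185) (tt N72150 (iv2 F223600)) (tt N105521 D208719) (tt N67734 F217186) (tt N70006 (iv5 F342845)) (tt N58124 (iv6 F217187)) (tt N72149 F223607))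
theorem Q70323 : ∀ i, i < 70323 → P i := stepQ 70322 Q70322 (allL N70322 (tt N105522 D208720) (tt N105523 D208721) (tt N105524 D208722) (tt N38760 (iv3 D134971)) (tt N94225 (iv4 F403758)) (tt N70317 (iv5 F356550)) (tt N38762 F217188) (tt N101194 (iv7 F432128)))
theorem Q70324 : ∀ i, i < 70324 → P i := stepQ 70323 Q70323 (allL N70323 (tt N72154 (iv1 F221491)) (tt N38762 (iv0 D134974)) (tt N72153 (iv2 F356553)) (tt N105525 D208723) (tt N94206 (iv4 F403703)) (tt N69986 F340092) (tt N72509 (iv6 F372578)) (tt N72152 (iv7 F356562)))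
theorem Q70325 : ∀ i, i < 70325 → P i := stepQ 70324 Q70324 (allL N70324 (tt N72153 (iv1 F221492)) (tt N72152 F221489) (tt N38762 (iv2 D134976)) (tt N72146 (iv3 F221475)) (tt N94223 (iv4 F403751)) (tt N101168 (iv5 F432022)) (tt N105524 (iv6 F450574)) (tt N72154 (iv7 F221490)))
theorem Q70326 : ∀ i, i < 70326 → P i := stepQ 70325 Q70325 (allL N70325 (tt N57724 (iv1 F217201)) (tt N38763 (iv0 D134979)) (tt N57723 F404686) (tt N69761 F217200) (tt N105526 D208724) (tt N105527 D208725) (tt N88779 F384110) (tt N57722 (iv7 F404683)))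
theorem Q70327 : ∀ i, i < 70327 → P i := stepQ 70326 Q70326 (allL N70326 (tt N38763 (iv1 D134980)) (tt N57724 F217205) (tt N57722 F404687) (tt N105528 D208726) (tt N98715 (iv4 F421987)) (tt N92284 F396572) (tt N101013 F431271) (tt N57723 F404688))
theorem Q70328 : ∀ i, i < 70328 → P i := stepQ 70327 Q70327 (allL N70327 (tt N57723 (iv1 F217206)) (tt N57722 F217204) (tt N38763 (iv2 D134981)) (tt N94584 (iv3 F405058)) (tt N67658 F217202) (tt N94655 (iv5 F405388)) (tt N105529 D208727) (tt N57724 F217203))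
theorem Q70329 : ∀ i, i < 70329 → P i := stepQ 70328 Q70328 (allL N70328 (tt N105530 D208728) (tt N105531 D208729) (tt N105529 (iv2 F450601)) (tt N38764 F217207) (tt N67660 F217208) (tt N105532 D208730) (tt N38763 (iv6 D134982)) (tt N69851 F217209))
theorem Q70330 : ∀ i, i < 70330 → P i := stepQ 70329 Q70329 (allL N70329 (tt N105316 (iv1 F449673)) (tt N105311 (iv0 F449659)) (tt N94590 (iv2 F405093)) (tt N105532 (iv3 F450608)) (tt N105533 D208731) (tt N38764 (iv5 D134983)) (tt N94658 (iv6 F405401)) (tt N69852 F217210))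
theorem Q70331 : ∀ i, i < 70331 → P i := stepQ 70330 Q70330 (allL N70330 (tt N51152 (iv1 F332708)) (tt N38873 (iv0 F217213)) (tt N67327 (iv2 F355053)) (tt N38765 (iv3 D134985)) (tt N65615 F217212) (tt N54289 F332709) (tt N105534 D208732) (tt N67330 F355030))
theorem Q70332 : ∀ i, i < 70332 → P i := stepQ 70331 Q70331 (allL N70331 (tt N69254 F217214) (tt N69251 F217215) (tt N68696 (iv2 F355039)) (tt N103267 (iv3 F440884)) (tt N38765 (iv4 D134986)) (tt N68783 (iv5 F359028)) (tt N68786 F359029) (tt N69250 F355031))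
theorem Q70333 : ∀ i, i < 70333 → P i := stepQ 70332 Q70332 (allL N70332 (tt N105535 D208733) (tt N70004 F412733) (tt N96488 (iv2 F412728)) (tt N105534 (iv3 F450613)) (tt N68786 (iv4 F359030)) (tt N83308 (iv5 F358604)) (tt N38765 (iv6 D134988)) (tt N69855 F355002))
theorem Q70334 : ∀ i, i < 70334 → P i := stepQ 70333 Q70333 (allL N70333 (tt N69757 F217219) (tt N69761 F404685) (tt N105170 (iv2 F449089)) (tt N38766 (iv3 D134990)) (tt N105169 F449087) (tt N105479 (iv5 F450418)) (tt N69856 (iv6 F355000)) (tt N96486 (iv7 F412721)))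
theorem Q70335 : ∀ i, i < 70335 → P i := stepQ 70334 Q70334 (allL N70334 (tt N69251 (iv1 F217220)) (tt N69254 (iv0 F217218)) (tt N69250 F355040) (tt N56523 F217217) (tt N38766 (iv4 D134991)) (tt N105536 D208734) (tt N69857 (iv6 F355001)) (tt N68696 F355034))
theorem Q70336 : ∀ i, i < 70336 → P i := stepQ 70335 Q70335 (allL N70335 (tt N70274 F349708) (tt N70270 (iv0 F332733)) (tt N38768 F217221) (tt N105398 (iv3 F450059)) (tt N105537 D208735) (tt N38767 (iv5 D134994)) (tt N49034 F349709) (tt N51163 F349710))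
theorem Q70337 : ∀ i, i < 70337 → P i := stepQ 70336 Q70336 (allL N70336 (tt N51163 F349692) (tt N38768 (iv0 D134996)) (tt N70274 F352488) (tt N51151 (iv3 F349691)) (tt N105538 D208736) (tt N70157 F349690) (tt N105539 D208737) (tt N70270 F352484))
theorem Q70338 : ∀ i, i < 70338 → P i := stepQ 70337 Q70337 (allL N70337 (tt N38768 (iv1 D134997)) (tt N51163 F349717) (tt N70270 (iv2 F352487)) (tt N105540 D208738) (tt N103032 (iv4 F439756)) (tt N70158 (iv5 F352493)) (tt N103031 F439748) (tt N70274 (iv7 F352489)))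
theorem Q70339 : ∀ i, i < 70339 → P i := stepQ 70338 Q70338 (allL N70338 (tt N105541 D208739) (tt N105542 D208740) (tt N105537 (iv2 F450632)) (tt N85092 (iv3 F371606)) (tt N38768 (iv4 D134998)) (tt N87615 (iv5 F379893)) (tt N85163 (iv6 F371766)) (tt N85540 (iv7 F373004)))
theorem Q70340 : ∀ i, i < 70340 → P i := stepQ 70339 Q70339 (allL N70339 (tt N105527 (iv1 F450594)) (tt N92284 (iv0 F396573)) (tt N105543 D208741) (tt N38770 (iv3 D135004)) (tt N105544 D208742) (tt N68880 F217226) (tt N105545 D208743) (tt N70258 F217227))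
theorem Q70341 : ∀ i, i < 70341 → P i := stepQ 70340 Q70340 (allL N70340 (tt N105546 D208744) (tt N95218 (iv0 F407462)) (tt N70266 F217228) (tt N105545 (iv3 F450670)) (tt N69848 F217229) (tt N105147 (iv5 F448991)) (tt N38770 (iv6 D135005)) (tt N105547 D208745))
theorem Q70342 : ∀ i, i < 70342 → P i := stepQ 70341 Q70341 (allL N70341 (tt N94585 (iv1 F405069)) (tt N51146 (iv0 F358067)) (tt N105548 D208746) (tt N38771 (iv3 D135006)) (tt N64831 F357924) (tt N69360 F217230) (tt N105549 D208747) (tt N70265 F217231))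
theorem Q70343 : ∀ i, i < 70343 → P i := stepQ 70342 Q70342 (allL N70342 (tt N105550 D208748) (tt N105551 D208749) (tt N70260 F217232) (tt N105549 (iv3 F450688)) (tt N72201 (iv4 F221646)) (tt N105552 D208750) (tt N38771 (iv6 D135007)) (tt N105553 D208751))
theorem Q70344 : ∀ i, i < 70344 → P i := stepQ 70343 Q70343 (allL N70343 (tt N89157 F385384) (tt N101013 (iv0 F431270)) (tt N68282 (iv2 F358467)) (tt N38772 (iv3 D135012)) (tt N104671 (iv4 F446800)) (tt N63449 F358458) (tt N69906 F217234) (tt N100820 (iv7 F430626)))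
theorem Q70345 : ∀ i, i < 70345 → P i := stepQ 70344 Q70344 (allL N70344 (tt N62362 (iv1 F345486)) (tt N62368 (iv0 F217238)) (tt N100821 (iv2 F430628)) (tt N70933 (iv3 F345488)) (tt N60889 (iv4 F336153)) (tt N69835 (iv5 F217237)) (tt N38773 (iv6 D135016)) (tt N69905 F217236))
theorem Q70346 : ∀ i, i < 70346 → P i := stepQ 70345 Q70345 (allL N70345 (tt N72057 (iv1 F356306)) (tt N72056 F357370) (tt N72055 F356301) (tt N38774 (iv3 D135020)) (tt N69876 F217241) (tt N100639 (iv5 F429794)) (tt N69911 F217242) (tt N71961 (iv7 F356300)))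
theorem Q70347 : ∀ i, i < 70347 → P i := stepQ 70346 Q70346 (allL N70346 (tt N61956 F217254) (tt N61955 (iv0 F217255)) (tt N70040 F217250) (tt N57021 F217251) (tt N69156 F217252) (tt N69434 F217253) (tt N38778 (iv6 D135025)) (tt N71081 (iv7 F219414)))
theorem Q70348 : ∀ i, i < 70348 → P i := stepQ 70347 Q70347 (allL N70347 (tt N105528 (iv1 F450600)) (tt N105554 D208752) (tt N81463 (iv2 F364848)) (tt N38781 (iv3 D135026)) (tt N61734 F217258) (tt N105507 (iv5 F450509)) (tt N69887 F347107) (tt N98734 (iv7 F422078)))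
theorem Q70349 : ∀ i, i < 70349 → P i := stepQ 70348 Q70348 (allL N70348 (tt N102432 F437206) (tt N66156 (iv0 F217260)) (tt N69146 F217259) (tt N75698 F363272) (tt N38781 (iv4 D135027)) (tt N66163 (iv5 F336995)) (tt N69888 F347106) (tt N102434 (iv7 F437219)))
theorem Q70350 : ∀ i, i < 70350 → P i := stepQ 70349 Q70349 (allL N70349 (tt N38876 (iv1 F217265)) (tt N38866 F217266) (tt N38871 (iv2 F217264)) (tt N38782 (iv3 D135030)) (tt N69214 F217261) (tt N105509 (iv5 F450516)) (tt N70914 (iv6 F347100)) (tt N38872 F217262))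
theorem Q70351 : ∀ i, i < 70351 → P i := stepQ 70350 Q70350 (allL N70350 (tt N70009 F389776) (tt N105555 D208753) (tt N105397 (iv2 F450053)) (tt N70914 (iv3 F347098)) (tt N103768 (iv4 F442741)) (tt N105556 D208754) (tt N38782 (iv6 D135032)) (tt N69890 (iv7 F347102)))
theorem Q70352 : ∀ i, i < 70352 → P i := stepQ 70351 Q70351 (allL N70351 (tt N70302 (iv1 F365168)) (tt N70299 (iv0 F365158)) (tt N38784 F217267) (tt N51163 F364233) (tt N105557 D208755) (tt N38783 (iv5 D135033)) (tt N51161 (iv6 F364232)) (tt N105398 (iv7 F450061)))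
theorem Q70353 : ∀ i, i < 70353 → P i := stepQ 70352 Q70352 (allL N70352 (tt N105398 (iv1 F450063)) (tt N38784 (iv0 D135035)) (tt N70302 (iv2 F365164)) (tt N105558 D208756) (tt N105559 D208757) (tt N70153 F365167) (tt N105560 D208758) (tt N70299 (iv7 F365165)))
theorem Q70354 : ∀ i, i < 70354 → P i := stepQ 70353 Q70353 (allL N70353 (tt N38784 (iv1 D135036)) (tt N105398 (iv0 F450062)) (tt N70299 F365161) (tt N71433 F361061) (tt N105561 D208759) (tt N70154 (iv5 F365142)) (tt N71431 F361062) (tt N70302 F365162))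
theorem Q70355 : ∀ i, i < 70355 → P i := stepQ 70354 Q70354 (allL N70354 (tt N105562 D208760) (tt N105563 D208761) (tt N105557 (iv2 F450724)) (tt N78137 (iv3 F246248)) (tt N38784 (iv4 D135037)) (tt N105564 D208762) (tt N105565 D208763) (tt N105399 (iv7 F450066)))
theorem Q70356 : ∀ i, i < 70356 → P i := stepQ 70355 Q70355 (allL N70355 (tt N84110 (iv1 F368140)) (tt N84109 F368136) (tt N51161 F364230) (tt N38786 F217269) (tt N105565 (iv4 F450748)) (tt N49359 F364231) (tt N38784 (iv6 D135038)) (tt N84102 (iv7 F368117)))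
theorem Q70357 : ∀ i, i < 70357 → P i := stepQ 70356 Q70356 (allL N70356 (tt N48565 F328104) (tt N38785 (iv0 D135039)) (tt N82799 F361059) (tt N105566 D208764) (tt N105567 D208765) (tt N48636 F361056) (tt N105568 D208766) (tt N82800 F361057))
theorem Q70358 : ∀ i, i < 70358 → P i := stepQ 70357 Q70357 (allL N70357 (tt N38785 (iv1 D135040)) (tt N48565 F328105) (tt N82800 (iv2 F361058)) (tt N84081 F368040) (tt N105569 D208767) (tt N48635 F328106) (tt N105570 D208768) (tt N82799 F361048))
theorem Q70359 : ∀ i, i < 70359 → P i := stepQ 70358 Q70358 (allL N70358 (tt N82800 F327069) (tt N82799 F327070) (tt N48565 F327071) (tt N38790 F217271) (tt N102484 (iv4 F437396)) (tt N46695 F327072) (tt N46697 F327073) (tt N38785 (iv7 D135042)))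
theorem Q70360 : ∀ i, i < 70360 → P i := stepQ 70359 Q70359 (allL N70359 (tt N88779 F384109) (tt N88075 (iv0 F381693)) (tt N105571 D208769) (tt N38788 (iv3 D135050)) (tt N67893 F217279) (tt N84704 (iv5 F370276)) (tt N69868 F217280) (tt N96484 (iv7 F412709)))
theorem Q70361 : ∀ i, i < 70361 → P i := stepQ 70360 Q70360 (allL N70360 (tt N69998 (iv1 F350274)) (tt N71004 F350309) (tt N40553 F329877) (tt N71012 (iv3 F360525)) (tt N38792 F217288) (tt N40517 F329878) (tt N38791 (iv6 D135055)) (tt N40556 F329879))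
theorem Q70362 : ∀ i, i < 70362 → P i := stepQ 70361 Q70361 (allL N70361 (tt N72044 (iv1 F356313)) (tt N72043 F356316) (tt N72046 F356308) (tt N38793 (iv3 D135056)) (tt N69911 F217290) (tt N84753 (iv5 F370489)) (tt N69876 F217291) (tt N52923 (iv7 F356312)))
theorem Q70363 : ∀ i, i < 70363 → P i := stepQ 70362 Q70362 (allL N70362 (tt N105572 D208770) (tt N84939 (iv0 F371137)) (tt N98727 (iv2 F422036)) (tt N88199 (iv3 F382140)) (tt N38794 (iv4 D135059)) (tt N45209 F363108) (tt N75668 F363109) (tt N100786 (iv7 F430468)))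
theorem Q70364 : ∀ i, i < 70364 → P i := stepQ 70363 Q70363 (allL N70363 (tt N105425 (iv1 F450208)) (tt N38818 F384463) (tt N105401 (iv2 F450072)) (tt N104388 (iv3 F445542)) (tt N105573 D208771) (tt N38794 (iv5 D135060)) (tt N105574 D208772) (tt N105400 (iv7 F450069)))
theorem Q70365 : ∀ i, i < 70365 → P i := stepQ 70364 Q70364 (allL N70364 (tt N92153 (iv1 F395990)) (tt N69996 F363111) (tt N92151 F396006) (tt N72071 (iv3 F419228)) (tt N75668 (iv4 F363110)) (tt N105575 D208773) (tt N38794 (iv6 D135061)) (tt N69914 F363969))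
theorem Q70366 : ∀ i, i < 70366 → P i := stepQ 70365 Q70365 (allL N70365 (tt N68316 F217588) (tt N102426 (iv0 F437193)) (tt N104386 (iv2 F445533)) (tt N38795 (iv3 D135063)) (tt N67935 (iv4 F217587)) (tt N105576 D208774) (tt N69915 (iv6 F364331)) (tt N104759 (iv7 F447142)))
theorem Q70367 : ∀ i, i < 70367 → P i := stepQ 70366 Q70366 (allL N70366 (tt N84939 F371138) (tt N105572 F450791) (tt N100786 (iv2 F430466)) (tt N61723 F217296) (tt N38795 (iv4 D135064)) (tt N45208 F335192) (tt N69916 (iv6 F335886)) (tt N98727 (iv7 F422038)))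
theorem Q70368 : ∀ i, i < 70368 → P i := stepQ 70367 Q70367 (allL N70367 (tt N38818 F364857) (tt N105425 F450209) (tt N105400 (iv2 F450067)) (tt N105576 (iv3 F450810)) (tt N105577 D208775) (tt N38795 (iv5 D135065)) (tt N72769 F359694) (tt N105401 (iv7 F450074)))
theorem Q70369 : ∀ i, i < 70369 → P i := stepQ 70368 Q70368 (allL N70368 (tt N105403 (iv1 F450085)) (tt N105402 F450080) (tt N38797 F217297) (tt N50502 F332674) (tt N105578 D208776) (tt N38796 (iv5 D135067)) (tt N53096 F332664) (tt N50499 (iv7 F332673)))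
theorem Q70370 : ∀ i, i < 70370 → P i := stepQ 70369 Q70369 (allL N70369 (tt N88897 (iv1 F384471)) (tt N82974 (iv0 F349513)) (tt N38798 F217298) (tt N49513 F332663) (tt N50935 F332661) (tt N49496 (iv5 F332662)) (tt N38796 (iv6 D135068)) (tt N49495 F332665))
theorem Q70371 : ∀ i, i < 70371 → P i := stepQ 70370 Q70370 (allL N70370 (tt N50499 (iv1 F364852)) (tt N38797 (iv0 D135069)) (tt N105403 F450088) (tt N82926 F405047) (tt N105579 D208777) (tt N94582 (iv5 F405045)) (tt N105580 D208778) (tt N105402 F450083))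
theorem Q70372 : ∀ i, i < 70372 → P i := stepQ 70371 Q70371 (allL N70371 (tt N38797 (iv1 D135070)) (tt N50499 F332675) (tt N105402 F450081) (tt N101399 F432853) (tt N105581 D208779) (tt N94583 F405054) (tt N105582 D208780) (tt N105403 (iv7 F450086)))
theorem Q70373 : ∀ i, i < 70373 → P i := stepQ 70372 Q70372 (allL N70372 (tt N105583 D208781) (tt N105584 D208782) (tt N105578 (iv2 F450821)) (tt N83103 F338901) (tt N38797 (iv4 D135071)) (tt N105585 D208783) (tt N53710 (iv6 F338920)) (tt N105404 (iv7 F450092)))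
theorem Q70374 : ∀ i, i < 70374 → P i := stepQ 70373 Q70373 (allL N70373 (tt N49495 (iv1 F365767)) (tt N38798 (iv0 D135073)) (tt N88897 (iv2 F384467)) (tt N82629 F365708) (tt N84936 (iv4 F371133)) (tt N89649 (iv5 F387091)) (tt N88842 (iv6 F384307)) (tt N82974 (iv7 F365709)))
theorem Q70375 : ∀ i, i < 70375 → P i := stepQ 70374 Q70374 (allL N70374 (tt N38798 (iv1 D135074)) (tt N49495 F332667) (tt N82974 (iv2 F365768)) (tt N105586 D208784) (tt N84937 (iv4 F371134)) (tt N89670 (iv5 F387174)) (tt N105587 D208785) (tt N88897 (iv7 F384472)))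
theorem Q70376 : ∀ i, i < 70376 → P i := stepQ 70375 Q70375 (allL N70375 (tt N105412 (iv1 F450142)) (tt N104207 F444697) (tt N105411 F450132) (tt N38799 (iv3 D135077)) (tt N105588 D208786) (tt N67226 F217302) (tt N105589 D208787) (tt N70247 F217303))
theorem Q70377 : ∀ i, i < 70377 → P i := stepQ 70376 Q70376 (allL N70376 (tt N105590 D208788) (tt N95687 (iv0 F409144)) (tt N69387 F217304) (tt N105589 (iv3 F450866)) (tt N72212 (iv4 F221657)) (tt N71387 (iv5 F365139)) (tt N38799 (iv6 D135078)) (tt N105591 D208789))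
theorem Q70378 : ∀ i, i < 70378 → P i := stepQ 70377 Q70377 (allL N70377 (tt N105406 F450107) (tt N102538 (iv0 F437561)) (tt N102579 (iv2 F437752)) (tt N38800 (iv3 D135087)) (tt N66106 F217311) (tt N105592 D208790) (tt N69934 (iv6 F354753)) (tt N102581 (iv7 F437772)))
theorem Q70379 : ∀ i, i < 70379 → P i := stepQ 70378 Q70378 (allL N70378 (tt N90445 (iv1 F389671)) (tt N38820 F332682) (tt N53116 (iv2 F354661)) (tt N105592 (iv3 F450888)) (tt N49463 F354660) (tt N38800 (iv5 D135088)) (tt N105593 D208791) (tt N53128 (iv7 F354662)))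
theorem Q70380 : ∀ i, i < 70380 → P i := stepQ 70379 Q70379 (allL N70379 (tt N82760 (iv1 F363948)) (tt N38804 F218461) (tt N105594 D208792) (tt N38801 (iv3 D135091)) (tt N103394 (iv4 F441421)) (tt N105595 D208793) (tt N105596 D208794) (tt N103356 (iv7 F441256)))
theorem Q70381 : ∀ i, i < 70381 → P i := stepQ 70380 Q70380 (allL N70380 (tt N38820 F352563) (tt N90445 (iv0 F389670)) (tt N53128 (iv2 F354664)) (tt N105595 (iv3 F450904)) (tt N49466 F332680) (tt N38801 (iv5 D135092)) (tt N50800 (iv6 F366185)) (tt N53116 F354663))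
theorem Q70382 : ∀ i, i < 70382 → P i := stepQ 70381 Q70381 (allL N70381 (tt N69999 F392050) (tt N92147 (iv0 F395965)) (tt N103355 (iv2 F441251)) (tt N105596 (iv3 F450908)) (tt N103391 (iv4 F441409)) (tt N105597 D208795) (tt N38801 (iv6 D135093)) (tt N69938 (iv7 F354755)))
theorem Q70383 : ∀ i, i < 70383 → P i := stepQ 70382 Q70382 (allL N70382 (tt N38813 F217323) (tt N38812 F217324) (tt N38816 F217321) (tt N105405 (iv3 F450096)) (tt N105598 D208796) (tt N38803 (iv5 D135110)) (tt N105599 D208797) (tt N38811 F217322))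
theorem Q70384 : ∀ i, i < 70384 → P i := stepQ 70383 Q70383 (allL N70383 (tt N38804 (iv1 D135113)) (tt N82760 F363951) (tt N103356 (iv2 F441253)) (tt N102579 (iv3 F437750)) (tt N104625 (iv4 F446594)) (tt N75749 F363952) (tt N44871 F363953) (tt N105594 (iv7 F450901)))
theorem Q70385 : ∀ i, i < 70385 → P i := stepQ 70384 Q70384 (allL N70384 (tt N105594 (iv1 F450902)) (tt N103356 (iv0 F441257)) (tt N38804 (iv2 D135114)) (tt N82763 F363949) (tt N55848 F217331) (tt N105600 D208798) (tt N82961 F363950) (tt N82760 (iv7 F363947)))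
theorem Q70386 : ∀ i, i < 70386 → P i := stepQ 70385 Q70385 (allL N70385 (tt N86277 F375655) (tt N105601 D208799) (tt N105600 (iv2 F450923)) (tt N38805 F217332) (tt N103718 (iv4 F442570)) (tt N38804 (iv5 D135115)) (tt N101842 (iv6 F434613)) (tt N105602 D208800))
theorem Q70387 : ∀ i, i < 70387 → P i := stepQ 70386 Q70386 (allL N70386 (tt N52975 F338464) (tt N71934 (iv0 F365465)) (tt N82961 (iv2 F363943)) (tt N38806 F217333) (tt N103628 (iv4 F442301)) (tt N52962 F337827) (tt N38804 (iv6 D135116)) (tt N72114 F363942))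
theorem Q70388 : ∀ i, i < 70388 → P i := stepQ 70387 Q70387 (allL N70387 (tt N103356 F441258) (tt N105594 F450903) (tt N82760 F363945) (tt N38807 F217334) (tt N55849 F217335) (tt N105602 (iv5 F450935)) (tt N52996 (iv6 F363944)) (tt N38804 (iv7 D135117)))
theorem Q70389 : ∀ i, i < 70389 → P i := stepQ 70388 Q70388 (allL N70388 (tt N38809 (iv1 F217340)) (tt N38805 (iv0 D135118)) (tt N67618 (iv2 F217337)) (tt N105411 (iv3 F450133)) (tt N105603 D208801) (tt N39723 F327501) (tt N58533 F327502) (tt N104096 (iv7 F444158)))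
theorem Q70390 : ∀ i, i < 70390 → P i := stepQ 70389 Q70389 (allL N70389 (tt N105604 D208802) (tt N105605 D208803) (tt N104782 (iv2 F447241)) (tt N105606 D208804) (tt N38805 (iv4 D135119)) (tt N88909 (iv5 F384506)) (tt N101843 (iv6 F434618)) (tt N105607 D208805))
theorem Q70391 : ∀ i, i < 70391 → P i := stepQ 70390 Q70390 (allL N70390 (tt N104096 (iv1 F444160)) (tt N67618 F217341) (tt N38809 F217338) (tt N105602 (iv3 F450934)) (tt N105607 (iv4 F450958)) (tt N38807 F217339) (tt N82852 F337820) (tt N38805 (iv7 D135121)))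
theorem Q70392 : ∀ i, i < 70392 → P i := stepQ 70391 Q70391 (allL N70391 (tt N72038 (iv1 F341226)) (tt N52922 F337812) (tt N38810 F217342) (tt N52996 F337813) (tt N104774 (iv4 F447201)) (tt N48663 F337814) (tt N38807 (iv6 D135126)) (tt N72116 (iv7 F338417)))
theorem Q70393 : ∀ i, i < 70393 → P i := stepQ 70392 Q70392 (allL N70392 (tt N105605 (iv1 F450949)) (tt N105604 F450947) (tt N105607 (iv2 F450957)) (tt N105608 D208806) (tt N38809 (iv4 D135131)) (tt N105609 D208807) (tt N82868 F364106) (tt N104782 (iv7 F447243)))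
theorem Q70394 : ∀ i, i < 70394 → P i := stepQ 70393 Q70393 (allL N70393 (tt N38816 (iv1 F217347)) (tt N38811 (iv0 D135137)) (tt N38812 F217695) (tt N105610 D208808) (tt N105611 D208809) (tt N68215 F217346) (tt N95244 F407560) (tt N38813 F217696))
theorem Q70395 : ∀ i, i < 70395 → P i := stepQ 70394 Q70394 (allL N70394 (tt N38811 (iv1 D135138)) (tt N38816 F217348) (tt N38813 F217699) (tt N105612 D208810) (tt N105613 D208811) (tt N68214 F217349) (tt N105614 D208812) (tt N38812 F217700))
theorem Q70396 : ∀ i, i < 70396 → P i := stepQ 70395 Q70395 (allL N70395 (tt N95263 F407626) (tt N101847 (iv0 F434644)) (tt N38814 F217350) (tt N105615 D208813) (tt N38811 (iv4 D135139)) (tt N76505 (iv5 F239070)) (tt N94875 (iv6 F406214)) (tt N105598 (iv7 F450916)))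
theorem Q70397 : ∀ i, i < 70397 → P i := stepQ 70396 Q70396 (allL N70396 (tt N99855 (iv1 F426563)) (tt N99887 F426688) (tt N38815 F217351) (tt N100195 (iv3 F427937)) (tt N94875 (iv4 F406212)) (tt N69970 F217352) (tt N38811 (iv6 D135140)) (tt N99885 (iv7 F426679)))
theorem Q70398 : ∀ i, i < 70398 → P i := stepQ 70397 Q70397 (allL N70397 (tt N105595 (iv1 F450989)) (tt N75749 (iv0 F442322)) (tt N105616 D208815) (tt N38812 (iv3 D135142)) (tt N105617 D208816) (tt N103588 (iv5 F442149)) (tt N105618 D208817) (tt N105612 (iv7 F450972)))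
theorem Q70399 : ∀ i, i < 70399 → P i := stepQ 70398 Q70398 (allL N70398 (tt N105619 D208818) (tt N105620 D208819) (tt N105611 (iv2 F450967)) (tt N105621 D208820) (tt N38812 (iv4 D135143)) (tt N105622 D208821) (tt N105623 D208822) (tt N105613 (iv7 F450977)))
theorem Q70400 : ∀ i, i < 70400 → P i := stepQ 70399 Q70399 (allL N70399 (tt N95245 (iv1 F407566)) (tt N70139 (iv0 F365865)) (tt N95244 (iv2 F407561)) (tt N105618 (iv3 F450990)) (tt N105623 (iv4 F451006)) (tt N71326 (iv5 F365864)) (tt N38812 (iv6 D135144)) (tt N95243 (iv7 F449911)))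
theorem Q70401 : ∀ i, i < 70401 → P i := stepQ 70400 Q70400 (allL N70400 (tt N104387 (iv1 F445541)) (tt N104388 (iv0 F445602)) (tt N105624 D208823) (tt N38813 (iv3 D135146)) (tt N105625 D208824) (tt N103589 (iv5 F442151)) (tt N82897 F442155) (tt N105610 (iv7 F450965)))
theorem Q70402 : ∀ i, i < 70402 → P i := stepQ 70401 Q70401 (allL N70401 (tt N105620 (iv1 F450995)) (tt N105619 F450992) (tt N105613 (iv2 F450976)) (tt N105626 D208825) (tt N38813 (iv4 D135147)) (tt N105627 D208826) (tt N105628 D208827) (tt N105611 (iv7 F450970)))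
theorem Q70403 : ∀ i, i < 70403 → P i := stepQ 70402 Q70402 (allL N70402 (tt N82857 F411400) (tt N105629 D208828) (tt N105614 (iv2 F450979)) (tt N82897 (iv3 F442156)) (tt N105628 (iv4 F451024)) (tt N95979 (iv5 F410505)) (tt N38813 (iv6 D135148)) (tt N95978 F410506))
theorem Q70404 : ∀ i, i < 70404 → P i := stepQ 70403 Q70403 (allL N70403 (tt N105598 (iv1 F450918)) (tt N38814 (iv0 D135149)) (tt N95263 (iv2 F407624)) (tt N48189 F351247) (tt N103584 (iv4 F442129)) (tt N101395 (iv5 F432841)) (tt N70137 F362326) (tt N101847 (iv7 F434643)))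
theorem Q70405 : ∀ i, i < 70405 → P i := stepQ 70404 Q70404 (allL N70404 (tt N38814 (iv1 D135150)) (tt N105598 (iv0 F450917)) (tt N101847 (iv2 F434640)) (tt N83105 (iv3 F351244)) (tt N103586 F442142) (tt N105630 D208829) (tt N105631 D208830) (tt N95263 F407627))
theorem Q70406 : ∀ i, i < 70406 → P i := stepQ 70405 Q70405 (allL N70405 (tt N100853 F430787) (tt N105632 D208831) (tt N76505 (iv2 F239068)) (tt N59447 (iv3 F356115)) (tt N76502 (iv4 F239062)) (tt N38814 (iv5 D135152)) (tt N59446 F356117) (tt N105633 D208832))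
theorem Q70407 : ∀ i, i < 70407 → P i := stepQ 70406 Q70406 (allL N70406 (tt N101847 F434645) (tt N95263 (iv0 F407628)) (tt N105598 (iv2 F450914)) (tt N93345 F400478) (tt N38816 F217357) (tt N105633 (iv5 F451047)) (tt N105634 D208833) (tt N38814 (iv7 D135154)))
theorem Q70408 : ∀ i, i < 70408 → P i := stepQ 70407 Q70407 (allL N70407 (tt N38815 (iv1 D135156)) (tt N99885 F426680) (tt N99887 (iv2 F426684)) (tt N76932 (iv3 F337790)) (tt N105635 D208834) (tt N64423 F337788) (tt N48178 F337789) (tt N99855 (iv7 F426561)))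
theorem Q70409 : ∀ i, i < 70409 → P i := stepQ 70408 Q70408 (allL N70408 (tt N99887 (iv1 F426689)) (tt N99855 (iv0 F426564)) (tt N99885 F426677) (tt N38826 F217358) (tt N72888 F356120) (tt N69979 F217359) (tt N105636 D208835) (tt N38815 (iv7 D135157)))
theorem Q70410 : ∀ i, i < 70410 → P i := stepQ 70409 Q70409 (allL N70409 (tt N105637 D208836) (tt N85700 (iv0 F373575)) (tt N105599 (iv2 F450919)) (tt N38827 F217360) (tt N105634 (iv4 F451049)) (tt N105638 D208837) (tt N38816 (iv6 D135158)) (tt N105636 (iv7 F451057)))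
theorem Q70411 : ∀ i, i < 70411 → P i := stepQ 70410 Q70410 (allL N70410 (tt N75879 F431868) (tt N105639 D208838) (tt N72074 F347118) (tt N38830 F217364) (tt N76599 F347119) (tt N38817 (iv5 D135161)) (tt N105638 (iv6 F451061)) (tt N69981 F217365))
theorem Q70412 : ∀ i, i < 70412 → P i := stepQ 70411 Q70411 (allL N70411 (tt N105401 (iv1 F450077)) (tt N105400 (iv0 F450070)) (tt N38818 (iv2 D135164)) (tt N90445 F389673) (tt N99417 (iv4 F424477)) (tt N94479 (iv5 F404651)) (tt N99416 F424474) (tt N105425 (iv7 F450207)))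
theorem Q70413 : ∀ i, i < 70413 → P i := stepQ 70412 Q70412 (allL N70412 (tt N105640 D208839) (tt N96703 (iv0 F450510)) (tt N99417 (iv2 F424476)) (tt N94551 (iv3 F404931)) (tt N38818 (iv4 D135165)) (tt N105641 D208840) (tt N40123 F350365) (tt N105426 (iv7 F450211)))
theorem Q70414 : ∀ i, i < 70414 → P i := stepQ 70413 Q70413 (allL N70413 (tt N105642 D208841) (tt N105643 D208842) (tt N99416 (iv2 F424471)) (tt N38819 F217366) (tt N40123 F350364) (tt N88894 (iv5 F384460)) (tt N38818 (iv6 D135166)) (tt N95242 (iv7 F407557)))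
theorem Q70415 : ∀ i, i < 70415 → P i := stepQ 70414 Q70414 (allL N70414 (tt N53116 (iv1 F357792)) (tt N53128 F357791) (tt N38820 (iv2 D135173)) (tt N105425 (iv3 F450204)) (tt N84069 (iv4 F367984)) (tt N94480 (iv5 F404655)) (tt N53144 (iv6 F359446)) (tt N90445 (iv7 F389669)))
theorem Q70416 : ∀ i, i < 70416 → P i := stepQ 70415 Q70415 (allL N70415 (tt N49345 F359433) (tt N53145 F359436) (tt N53144 F359440) (tt N38821 F217367) (tt N51186 F359434) (tt N95959 (iv5 F410438)) (tt N38820 (iv6 D135175)) (tt N53143 (iv7 F350408)))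
theorem Q70417 : ∀ i, i < 70417 → P i := stepQ 70416 Q70416 (allL N70416 (tt N73020 (iv1 F349751)) (tt N38823 (iv0 D135184)) (tt N72960 (iv2 F349746)) (tt N105644 D208843) (tt N63962 (iv4 F349750)) (tt N62184 F349747) (tt N105645 D208844) (tt N63961 F349748))
theorem Q70418 : ∀ i, i < 70418 → P i := stepQ 70417 Q70417 (allL N70417 (tt N38823 (iv1 D135185)) (tt N73020 F345320) (tt N63961 (iv2 F349739)) (tt N105646 D208845) (tt N63896 F349737) (tt N62185 F349736) (tt N48191 F349738) (tt N72960 (iv7 F349742)))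
theorem Q70419 : ∀ i, i < 70419 → P i := stepQ 70418 Q70418 (allL N70418 (tt N72797 F360239) (tt N72769 F360240) (tt N100000 (iv2 F427123)) (tt N38824 (iv3 D135189)) (tt N105647 D208846) (tt N40983 F360241) (tt N105648 D208847) (tt N79103 (iv7 F360243)))
theorem Q70420 : ∀ i, i < 70420 → P i := stepQ 70419 Q70419 (allL N70419 (tt N94563 F404980) (tt N57859 F360242) (tt N94564 F404982) (tt N99348 (iv3 F424210)) (tt N38824 (iv4 D135190)) (tt N99347 F424207) (tt N105649 D208848) (tt N94565 (iv7 F404986)))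
theorem Q70421 : ∀ i, i < 70421 → P i := stepQ 70420 Q70420 (allL N70420 (tt N99523 F424977) (tt N84756 (iv0 F375644)) (tt N101849 (iv2 F434651)) (tt N105648 (iv3 F451099)) (tt N105649 (iv4 F451104)) (tt N101636 (iv5 F433641)) (tt N38824 (iv6 D135192)) (tt N48187 F360249))
theorem Q70422 : ∀ i, i < 70422 → P i := stepQ 70421 Q70421 (allL N70421 (tt N105593 F450896) (tt N84763 (iv0 F370529)) (tt N105650 D208849) (tt N38825 (iv3 D135194)) (tt N90449 (iv4 F389687)) (tt N64374 F350736) (tt N48188 F350737) (tt N105427 (iv7 F450216)))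
theorem Q70423 : ∀ i, i < 70423 → P i := stepQ 70422 Q70422 (allL N70422 (tt N57859 F360244) (tt N94563 F404979) (tt N94565 (iv2 F404989)) (tt N70137 (iv3 F362325)) (tt N38825 (iv4 D135195)) (tt N99302 (iv5 F424001)) (tt N48189 F350738) (tt N94564 F404983))
theorem Q70424 : ∀ i, i < 70424 → P i := stepQ 70423 Q70423 (allL N70423 (tt N84755 (iv1 F370503)) (tt N84758 F370523) (tt N63321 F351277) (tt N105636 (iv3 F451056)) (tt N73021 (iv4 F351194)) (tt N101319 (iv5 F432638)) (tt N38826 (iv6 D135198)) (tt N38827 F217372))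
theorem Q70425 : ∀ i, i < 70425 → P i := stepQ 70424 Q70424 (allL N70424 (tt N63321 (iv1 F351304)) (tt N38827 (iv0 D135199)) (tt N84758 (iv2 F370519)) (tt N105651 D208850) (tt N57856 F370505) (tt N105652 D208851) (tt N48194 F370506) (tt N84755 F370507))
theorem Q70426 : ∀ i, i < 70426 → P i := stepQ 70425 Q70425 (allL N70425 (tt N105653 D208852) (tt N105654 D208853) (tt N105428 (iv2 F450219)) (tt N105638 (iv3 F451060)) (tt N105655 D208854) (tt N38827 (iv5 D135201)) (tt N38830 F217373) (tt N101319 (iv7 F432639)))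
theorem Q70427 : ∀ i, i < 70427 → P i := stepQ 70426 Q70426 (allL N70426 (tt N69914 (iv1 F396009)) (tt N92151 F395988) (tt N92153 (iv2 F395986)) (tt N38828 (iv3 D135202)) (tt N70711 (iv4 F218156)) (tt N105656 D208855) (tt N71000 (iv6 F350323)) (tt N69996 F217374))
theorem Q70428 : ∀ i, i < 70428 → P i := stepQ 70427 Q70427 (allL N70427 (tt N105657 D208856) (tt N91118 (iv0 F392010)) (tt N70000 F217375) (tt N105656 (iv3 F451126)) (tt N105658 D208857) (tt N38828 (iv5 D135203)) (tt N105659 D208858) (tt N69997 F217376))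
theorem Q70429 : ∀ i, i < 70429 → P i := stepQ 70428 Q70428 (allL N70428 (tt N103355 F441252) (tt N69938 (iv0 F392040)) (tt N92147 (iv2 F395962)) (tt N38829 (iv3 D135205)) (tt N68841 F217378) (tt N91132 F392037) (tt N53024 (iv6 F383740)) (tt N69999 F217379))
theorem Q70430 : ∀ i, i < 70430 → P i := stepQ 70429 Q70429 (allL N70429 (tt N91118 (iv1 F392011)) (tt N105657 F451130) (tt N69997 F217380) (tt N91132 (iv3 F392038)) (tt N105660 D208859) (tt N38829 (iv5 D135206)) (tt N95004 (iv6 F406616)) (tt N70000 F217381))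
theorem Q70431 : ∀ i, i < 70431 → P i := stepQ 70430 Q70430 (allL N70430 (tt N40556 (iv1 F329772)) (tt N40553 (iv0 F329773)) (tt N69998 F217382) (tt N53024 (iv3 F383739)) (tt N59003 F217383) (tt N70319 F329632) (tt N38829 (iv6 D135207)) (tt N71004 (iv7 F350310)))
theorem Q70432 : ∀ i, i < 70432 → P i := stepQ 70431 Q70431 (allL N70431 (tt N38830 (iv1 D135209)) (tt N69772 F217386) (tt N70001 (iv2 F350269)) (tt N88729 (iv3 F384031)) (tt N105661 D208860) (tt N88602 (iv5 F383563)) (tt N81927 (iv6 F341431)) (tt N70002 (iv7 F350268)))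
theorem Q70433 : ∀ i, i < 70433 → P i := stepQ 70432 Q70432 (allL N70432 (tt N81930 F432198) (tt N105662 D208861) (tt N105308 (iv2 F449645)) (tt N105663 D208862) (tt N38830 (iv4 D135210)) (tt N105101 (iv5 F448796)) (tt N105655 (iv6 F451125)) (tt N70003 F217387))
theorem Q70434 : ∀ i, i < 70434 → P i := stepQ 70433 Q70433 (allL N70433 (tt N69855 (iv1 F358578)) (tt N96488 (iv0 F412731)) (tt N105535 F450622) (tt N38831 (iv3 D135211)) (tt N67498 F217388) (tt N83343 (iv5 F358579)) (tt N102349 (iv6 F436847)) (tt N70004 F217389))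
theorem Q70435 : ∀ i, i < 70435 → P i := stepQ 70434 Q70434 (allL N70434 (tt N105664 D208863) (tt N83364 (iv0 F363286)) (tt N70010 F217390) (tt N83343 F358580) (tt N105665 D208864) (tt N38831 (iv5 D135212)) (tt N105666 D208865) (tt N70005 F217391))
theorem Q70436 : ∀ i, i < 70436 → P i := stepQ 70435 Q70435 (allL N70435 (tt N100821 F430633) (tt N69905 F331027) (tt N62368 F217392) (tt N102349 (iv3 F436846)) (tt N38833 F217393) (tt N71468 F365676) (tt N38831 (iv6 D135213)) (tt N62362 F217394))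
theorem Q70437 : ∀ i, i < 70437 → P i := stepQ 70436 Q70436 (allL N70436 (tt N70579 F217885) (tt N95106 (iv0 F407070)) (tt N70574 (iv2 F217862)) (tt N38836 F217398) (tt N103496 (iv4 F441860)) (tt N38834 (iv5 D135215)) (tt N69353 F217399) (tt N70008 F217400))
theorem Q70438 : ∀ i, i < 70438 → P i := stepQ 70437 Q70437 (allL N70437 (tt N105397 (iv1 F450057)) (tt N69890 (iv0 F347114)) (tt N105555 (iv2 F450721)) (tt N38835 (iv3 D135216)) (tt N102624 (iv4 F437938)) (tt N105667 D208866) (tt N73311 (iv6 F224337)) (tt N70009 F217401))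
theorem Q70439 : ∀ i, i < 70439 → P i := stepQ 70438 Q70438 (allL N70438 (tt N83364 (iv1 F363288)) (tt N105664 F451153) (tt N70005 F217402) (tt N105667 (iv3 F451167)) (tt N105668 D208867) (tt N38835 (iv5 D135217)) (tt N72479 (iv6 F349422)) (tt N70010 F217403))
theorem Q70440 : ∀ i, i < 70440 → P i := stepQ 70439 Q70439 (allL N70439 (tt N70288 F363081) (tt N95137 F407195) (tt N70007 F217404) (tt N105669 D208868) (tt N38836 (iv4 D135218)) (tt N105165 (iv5 F449072)) (tt N70253 F217405) (tt N70011 F217406))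
theorem Q70441 : ∀ i, i < 70441 → P i := stepQ 70440 Q70440 (allL N70440 (tt N75056 F363750) (tt N81401 (iv0 F353311)) (tt N92621 (iv2 F397662)) (tt N38838 F217407) (tt N71481 F353312) (tt N81404 (iv5 F339586)) (tt N38837 (iv6 D135219)) (tt N70014 F217408))
theorem Q70442 : ∀ i, i < 70442 → P i := stepQ 70441 Q70441 (allL N70441 (tt N63465 (iv1 F339562)) (tt N85807 (iv0 F374044)) (tt N70030 F217409) (tt N81404 F339584) (tt N75480 (iv4 F338678)) (tt N38838 (iv5 D135220)) (tt N63410 (iv6 F347597)) (tt N70015 F217410))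
theorem Q70443 : ∀ i, i < 70443 → P i := stepQ 70442 Q70442 (allL N70442 (tt N70632 (iv1 F217987)) (tt N38839 (iv0 D135221)) (tt N70629 (iv2 F371312)) (tt N104076 (iv3 F444053)) (tt N102588 (iv4 F437813)) (tt N105670 D208869) (tt N105671 D208870) (tt N70630 F371311))
theorem Q70444 : ∀ i, i < 70444 → P i := stepQ 70443 Q70443 (allL N70443 (tt N38839 (iv1 D135222)) (tt N70632 F217986) (tt N70630 F371309) (tt N97790 (iv3 F418316)) (tt N102589 (iv4 F437809)) (tt N105672 D208871) (tt N75080 (iv6 F371308)) (tt N70629 (iv7 F371310)))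
theorem Q70445 : ∀ i, i < 70445 → P i := stepQ 70444 Q70444 (allL N70444 (tt N89873 F387818) (tt N105673 D208872) (tt N70631 (iv2 F217981)) (tt N96688 (iv3 F413467)) (tt N101365 (iv4 F432791)) (tt N38839 (iv5 D135223)) (tt N38842 F217411) (tt N101361 (iv7 F432783)))
theorem Q70446 : ∀ i, i < 70446 → P i := stepQ 70445 Q70445 (allL N70445 (tt N70630 (iv1 F217980)) (tt N70629 F217985) (tt N70632 (iv2 F217983)) (tt N104172 (iv3 F444527)) (tt N102561 (iv4 F437661)) (tt N101361 (iv5 F432782)) (tt N70034 F217412) (tt N38839 (iv7 D135224)))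
theorem Q70447 : ∀ i, i < 70447 → P i := stepQ 70446 Q70446 (allL N70446 (tt N104165 (iv1 F444506)) (tt N104163 (iv0 F444497)) (tt N90405 (iv2 F389535)) (tt N38840 (iv3 D135225)) (tt N90393 (iv4 F389498)) (tt N85306 F374722) (tt N85978 F374717) (tt N70635 (iv7 F217994)))
theorem Q70448 : ∀ i, i < 70448 → P i := stepQ 70447 Q70447 (allL N70447 (tt N85353 (iv1 F372328)) (tt N104844 (iv0 F447570)) (tt N70634 (iv2 F217991)) (tt N85306 (iv3 F374723)) (tt N105674 D208873) (tt N38840 (iv5 D135226)) (tt N105675 D208874) (tt N70636 (iv7 F217996)))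
theorem Q70449 : ∀ i, i < 70449 → P i := stepQ 70448 Q70448 (allL N70448 (tt N104844 (iv1 F447571)) (tt N85353 (iv0 F372327)) (tt N70636 (iv2 F217995)) (tt N56348 F352125) (tt N105676 D208875) (tt N38841 (iv5 D135228)) (tt N56347 (iv6 F352120)) (tt N70634 (iv7 F217992)))
theorem Q70450 : ∀ i, i < 70450 → P i := stepQ 70449 Q70449 (allL N70449 (tt N38842 (iv1 D135230)) (tt N70639 F218007) (tt N70637 F218003) (tt N105677 D208876) (tt N105678 D208877) (tt N69530 F217414) (tt N100333 F428454) (tt N69529 F217413))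
theorem Q70451 : ∀ i, i < 70451 → P i := stepQ 70450 Q70450 (allL N70450 (tt N104060 (iv1 F443975)) (tt N104202 F444671) (tt N70638 (iv2 F218004)) (tt N101065 (iv3 F431509)) (tt N38842 (iv4 D135231)) (tt N105679 D208878) (tt N101365 (iv6 F432792)) (tt N100311 F428383))
theorem Q70452 : ∀ i, i < 70452 → P i := stepQ 70451 Q70451 (allL N70451 (tt N70637 (iv1 F218000)) (tt N69529 (iv0 F217416)) (tt N70639 (iv2 F218005)) (tt N104768 (iv3 F447175)) (tt N100311 (iv4 F428382)) (tt N38843 F217415) (tt N69586 (iv6 F352118)) (tt N38842 (iv7 D135232)))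
theorem Q70453 : ∀ i, i < 70453 → P i := stepQ 70452 Q70452 (allL N70452 (tt N94569 F405006) (tt N39612 (iv0 F217420)) (tt N70572 (iv2 F217853)) (tt N38846 F217417) (tt N77608 F332364) (tt N38844 (iv5 D135233)) (tt N58602 F217418) (tt N39847 F217419))
theorem Q70454 : ∀ i, i < 70454 → P i := stepQ 70453 Q70453 (allL N70453 (tt N70687 F363815) (tt N39003 F363816) (tt N70685 F339347) (tt N38845 (iv3 D135234)) (tt N102436 (iv4 F437222)) (tt N98451 (iv5 F420947)) (tt N97962 (iv6 F418980)) (tt N70643 (iv7 F218017)))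
theorem Q70455 : ∀ i, i < 70455 → P i := stepQ 70454 Q70454 (allL N70454 (tt N97955 (iv1 F418955)) (tt N97954 F418954) (tt N70641 (iv2 F218012)) (tt N98451 (iv3 F420946)) (tt N105680 D208879) (tt N38845 (iv5 D135235)) (tt N105681 D208880) (tt N70644 (iv7 F218019)))
theorem Q70456 : ∀ i, i < 70456 → P i := stepQ 70455 Q70455 (allL N70455 (tt N98990 F422949) (tt N39647 F336167) (tt N70642 (iv2 F218014)) (tt N90492 (iv3 F389820)) (tt N38846 (iv4 D135236)) (tt N71455 (iv5 F220066)) (tt N58607 F217421) (tt N39850 F217422))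
theorem Q70457 : ∀ i, i < 70457 → P i := stepQ 70456 Q70456 (allL N70456 (tt N39647 F336168) (tt N98990 (iv0 F422947)) (tt N39850 F217424) (tt N53370 (iv3 F365731)) (tt N38848 (iv4 D135240)) (tt N71456 F220067) (tt N39210 F217425) (tt N70642 (iv7 F218015)))
theorem Q70458 : ∀ i, i < 70458 → P i := stepQ 70457 Q70457 (allL N70457 (tt N82293 F365581) (tt N100870 F430828) (tt N69877 F217426) (tt N100939 F431035) (tt N100940 (iv4 F431036)) (tt N38849 (iv5 D135241)) (tt N84978 (iv6 F371249)) (tt N69878 F217427))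
theorem Q70459 : ∀ i, i < 70459 → P i := stepQ 70458 Q70458 (allL N70458 (tt N53531 (iv1 F329710)) (tt N40557 F217431) (tt N64565 (iv2 F332937)) (tt N77690 F348153) (tt N38850 (iv4 D135242)) (tt N64328 (iv5 F356531)) (tt N58618 F217429) (tt N41060 F217430))
theorem Q70460 : ∀ i, i < 70460 → P i := stepQ 70459 Q70459 (allL N70459 (tt N42913 F312220) (tt N40629 F342382) (tt N81692 F366296) (tt N38851 (iv3 D135243)) (tt N77690 F312221) (tt N72750 (iv5 F223132)) (tt N58619 F217432) (tt N41063 F217433))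
theorem Q70461 : ∀ i, i < 70461 → P i := stepQ 70460 Q70460 (allL N70460 (tt N38852 (iv1 D135245)) (tt N70013 F217440) (tt N70012 F336950) (tt N105682 D208881) (tt N105087 (iv4 F448730)) (tt N85823 (iv5 F374124)) (tt N85979 (iv6 F374712)) (tt N50189 F332262))
theorem Q70462 : ∀ i, i < 70462 → P i := stepQ 70461 Q70461 (allL N70461 (tt N50189 (iv1 F336944)) (tt N70012 F217439) (tt N38852 (iv2 D135246)) (tt N60984 (iv3 F332585)) (tt N58958 F217436) (tt N60983 (iv5 F336942)) (tt N66079 F217437) (tt N70013 F217438))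
theorem Q70463 : ∀ i, i < 70463 → P i := stepQ 70462 Q70462 (allL N70462 (tt N60984 (iv1 F332583)) (tt N38853 (iv0 D135247)) (tt N66071 F358367) (tt N56687 F217442) (tt N104741 (iv4 F447070)) (tt N61563 (iv5 F358366)) (tt N75738 F358368) (tt N66070 F358369))
theorem Q70464 : ∀ i, i < 70464 → P i := stepQ 70463 Q70463 (allL N70463 (tt N85807 F374045) (tt N63465 (iv0 F339560)) (tt N70015 F217453) (tt N90776 (iv3 F390800)) (tt N75475 (iv4 F338675)) (tt N38854 (iv5 D135251)) (tt N75473 F346153) (tt N70030 F217454))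
theorem Q70465 : ∀ i, i < 70465 → P i := stepQ 70464 Q70464 (allL N70464 (tt N105683 D208882) (tt N101837 (iv0 F434588)) (tt N105684 D208883) (tt N38855 (iv3 D135252)) (tt N47009 F323564) (tt N39286 F217455) (tt N105685 D208884) (tt N47498 F323565))
theorem Q70466 : ∀ i, i < 70466 → P i := stepQ 70465 Q70465 (allL N70465 (tt N41019 F330325) (tt N41694 F330326) (tt N41692 F330327) (tt N105685 (iv3 F451240)) (tt N38856 F217458) (tt N62492 F330328) (tt N38855 (iv6 D135253)) (tt N41693 F330329))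
theorem Q70467 : ∀ i, i < 70467 → P i := stepQ 70466 Q70466 (allL N70466 (tt N85800 (iv1 F374010)) (tt N38856 (iv0 D135254)) (tt N92854 (iv2 F398521)) (tt N74434 F392175) (tt N94091 (iv4 F403159)) (tt N105686 D208885) (tt N105687 D208886) (tt N92850 F398509))
theorem Q70468 : ∀ i, i < 70468 → P i := stepQ 70467 Q70467 (allL N70467 (tt N50192 F364212) (tt N85979 F374714) (tt N75736 F364211) (tt N38857 (iv3 D135258)) (tt N69903 F217461) (tt N88816 (iv5 F384238)) (tt N61035 (iv6 F364210)) (tt N85978 (iv7 F374715)))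
theorem Q70469 : ∀ i, i < 70469 → P i := stepQ 70468 Q70468 (allL N70468 (tt N75738 F328780) (tt N60786 (iv0 F331438)) (tt N75739 F328782) (tt N38858 (iv3 D135260)) (tt N102569 (iv4 F437701)) (tt N69476 F328783) (tt N70633 (iv6 F217989)) (tt N45184 F328784))
theorem Q70470 : ∀ i, i < 70470 → P i := stepQ 70469 Q70469 (allL N70469 (tt N83794 (iv1 F359558)) (tt N38859 (iv0 D135261)) (tt N69375 (iv2 F217464)) (tt N83806 (iv3 F367061)) (tt N105688 D208887) (tt N38957 F217463) (tt N97185 F415807) (tt N69373 (iv7 F217465)))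
theorem Q70471 : ∀ i, i < 70471 → P i := stepQ 70470 Q70470 (allL N70470 (tt N38859 (iv1 D135262)) (tt N83794 (iv0 F359557)) (tt N69373 (iv2 F217468)) (tt N97201 (iv3 F415872)) (tt N96766 F413837) (tt N38956 F217467) (tt N96765 (iv6 F413838)) (tt N69375 F217466))
theorem Q70472 : ∀ i, i < 70472 → P i := stepQ 70471 Q70471 (allL N70471 (tt N105689 D208888) (tt N105690 D208889) (tt N73674 F357486) (tt N105691 D208890) (tt N38859 (iv4 D135263)) (tt N105692 D208891) (tt N41148 F357487) (tt N105693 D208892))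
theorem Q70473 : ∀ i, i < 70473 → P i := stepQ 70472 Q70472 (allL N70472 (tt N69373 (iv1 F217470)) (tt N69375 F217471) (tt N83794 (iv2 F359555)) (tt N85952 (iv3 F374587)) (tt N105693 (iv4 F451285)) (tt N38860 F217469) (tt N51587 F359563) (tt N38859 (iv7 D135264)))
theorem Q70474 : ∀ i, i < 70474 → P i := stepQ 70473 Q70473 (allL N70473 (tt N98002 F419131) (tt N83651 (iv0 F366119)) (tt N98768 F422230) (tt N38862 (iv3 D135269)) (tt N68744 F217478) (tt N105694 D208893) (tt N70640 (iv6 F218010)) (tt N97947 (iv7 F418919)))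
theorem Q70475 : ∀ i, i < 70475 → P i := stepQ 70474 Q70474 (allL N70474 (tt N97964 (iv1 F418985)) (tt N92959 F398924) (tt N97966 (iv2 F418997)) (tt N105694 (iv3 F451290)) (tt N98285 (iv4 F420331)) (tt N38862 (iv5 D135270)) (tt N98284 F420326) (tt N58908 F365688))
theorem Q70476 : ∀ i, i < 70476 → P i := stepQ 70475 Q70475 (allL N70475 (tt N64830 F354627) (tt N64659 (iv0 F357807)) (tt N65222 F357806) (tt N38867 F217486) (tt N65226 (iv4 F354629)) (tt N38865 (iv5 D135273)) (tt N88852 (iv6 F384346)) (tt N38888 F217487))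
theorem Q70477 : ∀ i, i < 70477 → P i := stepQ 70476 Q70476 (allL N70476 (tt N103809 (iv1 F442920)) (tt N103805 F442899) (tt N103424 (iv2 F441563)) (tt N38868 F217488) (tt N103891 (iv4 F443237)) (tt N48391 F354971) (tt N38865 (iv6 D135274)) (tt N66491 F355082))
theorem Q70478 : ∀ i, i < 70478 → P i := stepQ 70477 Q70477 (allL N70477 (tt N71433 F338471) (tt N85558 F373062) (tt N38874 F217489) (tt N94585 (iv3 F405064)) (tt N105695 D208894) (tt N38866 (iv5 D135275)) (tt N48212 F347398) (tt N38891 F217490))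
theorem Q70479 : ∀ i, i < 70479 → P i := stepQ 70478 Q70478 (allL N70478 (tt N61413 (iv1 F334120)) (tt N103181 (iv0 F440446)) (tt N38882 F217497) (tt N48391 F354968) (tt N46013 F337846) (tt N38868 (iv5 D135281)) (tt N101036 (iv6 F431395)) (tt N46021 F337847))
theorem Q70480 : ∀ i, i < 70480 → P i := stepQ 70479 Q70479 (allL N70479 (tt N103425 (iv1 F441574)) (tt N38870 (iv0 D135287)) (tt N83635 (iv2 F337858)) (tt N69121 F354293) (tt N67989 (iv4 F354288)) (tt N75494 F354285) (tt N69170 (iv6 F354292)) (tt N69128 (iv7 F354297)))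
theorem Q70481 : ∀ i, i < 70481 → P i := stepQ 70480 Q70480 (allL N70480 (tt N38870 (iv1 D135288)) (tt N103425 F441573) (tt N69128 F354298) (tt N49267 F337856) (tt N67990 (iv4 F354349)) (tt N80497 (iv5 F337898)) (tt N66448 F355501) (tt N83635 F337857))
theorem Q70482 : ∀ i, i < 70482 → P i := stepQ 70481 Q70481 (allL N70481 (tt N65120 (iv1 F337899)) (tt N43859 F337892) (tt N82560 F337893) (tt N38882 F217526) (tt N65103 F337894) (tt N38870 (iv5 D135289)) (tt N88474 (iv6 F383196)) (tt N41978 F337895))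
theorem Q70483 : ∀ i, i < 70483 → P i := stepQ 70482 Q70482 (allL N70482 (tt N69128 (iv1 F354302)) (tt N83635 (iv0 F342192)) (tt N103425 (iv2 F441569)) (tt N38883 F217527) (tt N79743 F342193) (tt N41978 F342196) (tt N84088 (iv6 F368055)) (tt N38870 (iv7 D135290)))
theorem Q70484 : ∀ i, i < 70484 → P i := stepQ 70483 Q70483 (allL N70483 (tt N105554 (iv1 F450713)) (tt N105528 (iv0 F450599)) (tt N98734 (iv2 F422076)) (tt N38871 (iv3 D135291)) (tt N61733 F217528) (tt N105696 D208895) (tt N71502 (iv6 F339483)) (tt N81463 (iv7 F364850)))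
theorem Q70485 : ∀ i, i < 70485 → P i := stepQ 70484 Q70484 (allL N70484 (tt N103586 (iv1 F442141)) (tt N103584 (iv0 F442130)) (tt N105509 F450520) (tt N105696 (iv3 F451298)) (tt N105697 D208896) (tt N38871 (iv5 D135292)) (tt N105698 D208897) (tt N103887 (iv7 F443218)))
theorem Q70486 : ∀ i, i < 70486 → P i := stepQ 70485 Q70485 (allL N70485 (tt N103584 (iv1 F442131)) (tt N103586 (iv0 F442140)) (tt N103887 (iv2 F443216)) (tt N105389 F450017) (tt N105699 D208898) (tt N38872 (iv5 D135294)) (tt N105700 D208899) (tt N105509 (iv7 F450517)))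
theorem Q70487 : ∀ i, i < 70487 → P i := stepQ 70486 Q70486 (allL N70486 (tt N38873 (iv1 D135296)) (tt N51152 F332683) (tt N67330 (iv2 F355054)) (tt N105170 (iv3 F449090)) (tt N65614 (iv4 F217531)) (tt N54286 (iv5 F352564)) (tt N70054 (iv6 F355062)) (tt N67327 (iv7 F355045)))
theorem Q70488 : ∀ i, i < 70488 → P i := stepQ 70487 Q70487 (allL N70487 (tt N38891 (iv1 F217540)) (tt N38874 (iv0 D135300)) (tt N71433 F330935) (tt N105701 D208900) (tt N105702 D208901) (tt N39640 F330936) (tt N70897 F330937) (tt N85558 (iv7 F373063)))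
theorem Q70489 : ∀ i, i < 70489 → P i := stepQ 70488 Q70488 (allL N70488 (tt N38874 (iv1 D135301)) (tt N38891 F217535) (tt N85558 F373061) (tt N70302 (iv3 F217537)) (tt N105703 D208902) (tt N70301 F217536) (tt N105704 D208903) (tt N71433 F365163))
theorem Q70490 : ∀ i, i < 70490 → P i := stepQ 70489 Q70489 (allL N70489 (tt N105603 (iv1 F450943)) (tt N104097 (iv0 F444167)) (tt N105695 (iv2 F451292)) (tt N48173 F347400) (tt N38874 (iv4 D135302)) (tt N100853 (iv5 F430783)) (tt N57833 F347399) (tt N85557 (iv7 F373059)))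
theorem Q70491 : ∀ i, i < 70491 → P i := stepQ 70490 Q70490 (allL N70490 (tt N42536 F332698) (tt N38875 (iv0 D135305)) (tt N71496 (iv2 F346158)) (tt N83624 (iv3 F337853)) (tt N69242 (iv4 F338550)) (tt N54003 F332699) (tt N70078 F342185) (tt N70913 F338567))
theorem Q70492 : ∀ i, i < 70492 → P i := stepQ 70491 Q70491 (allL N70491 (tt N63893 F319772) (tt N105705 D208904) (tt N100835 (iv2 F430696)) (tt N90429 (iv3 F389618)) (tt N105632 (iv4 F451040)) (tt N38878 (iv5 D135315)) (tt N105706 D208905) (tt N90435 (iv7 F389644)))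
theorem Q70493 : ∀ i, i < 70493 → P i := stepQ 70492 Q70492 (allL N70492 (tt N100669 (iv1 F429929)) (tt N38879 (iv0 D135318)) (tt N68408 (iv2 F357815)) (tt N47028 F357811) (tt N80864 F357812) (tt N79898 F357813) (tt N88608 (iv6 F383583)) (tt N47074 F357814))
theorem Q70494 : ∀ i, i < 70494 → P i := stepQ 70493 Q70493 (allL N70493 (tt N105707 D208906) (tt N100806 (iv0 F430562)) (tt N101036 (iv2 F431393)) (tt N88474 (iv3 F383194)) (tt N46025 F337849) (tt N38879 (iv5 D135320)) (tt N38882 F217556) (tt N101039 (iv7 F431410)))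
theorem Q70495 : ∀ i, i < 70495 → P i := stepQ 70494 Q70494 (allL N70494 (tt N65417 F345831) (tt N63045 (iv0 F348590)) (tt N38894 F217557) (tt N79491 (iv3 F348588)) (tt N90247 (iv4 F389087)) (tt N79831 (iv5 F339510)) (tt N38880 (iv6 D135322)) (tt N65418 (iv7 F357869)))
theorem Q70496 : ∀ i, i < 70496 → P i := stepQ 70495 Q70495 (allL N70495 (tt N57403 F338697) (tt N57402 F338702) (tt N57404 (iv2 F338699)) (tt N70067 (iv3 F361225)) (tt N88440 (iv4 F383058)) (tt N38881 (iv5 D135326)) (tt N80203 (iv6 F338700)) (tt N57315 F338698))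
theorem Q70497 : ∀ i, i < 70497 → P i := stepQ 70496 Q70496 (allL N70496 (tt N46021 F337844) (tt N38882 (iv0 D135333)) (tt N61413 (iv2 F334121)) (tt N70068 F217562) (tt N61399 F334118) (tt N67605 F217560) (tt N43228 F334119) (tt N103181 (iv7 F440445)))
theorem Q70498 : ∀ i, i < 70498 → P i := stepQ 70497 Q70497 (allL N70497 (tt N103181 (iv1 F440447)) (tt N61413 (iv0 F338149)) (tt N46021 F337850) (tt N41978 F346129) (tt N46012 F337851) (tt N38883 F217563) (tt N41976 F346130) (tt N38882 (iv7 D135335)))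
theorem Q70499 : ∀ i, i < 70499 → P i := stepQ 70498 Q70498 (allL N70498 (tt N76527 (iv1 F239239)) (tt N38903 F217573) (tt N69052 F217571) (tt N70045 F217572) (tt N53259 (iv4 F315095)) (tt N38885 (iv5 D135340)) (tt N47050 F357876) (tt N53257 (iv7 F313639)))
theorem Q70500 : ∀ i, i < 70500 → P i := stepQ 70499 Q70499 (allL N70499 (tt N69168 (iv1 F366468)) (tt N83636 (iv0 F366373)) (tt N38889 F217581) (tt N103140 (iv3 F440259)) (tt N70811 (iv4 F218478)) (tt N80076 F377699) (tt N38886 (iv6 D135343)) (tt N105708 D208907))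
theorem Q70501 : ∀ i, i < 70501 → P i := stepQ 70500 Q70500 (allL N70500 (tt N67935 F217585) (tt N60964 (iv0 F326350)) (tt N70799 (iv2 F218446)) (tt N38887 (iv3 D135344)) (tt N38890 F217582) (tt N68341 (iv5 F217584)) (tt N86587 (iv6 F376540)) (tt N70796 F218433))
theorem Q70502 : ∀ i, i < 70502 → P i := stepQ 70501 Q70501 (allL N70501 (tt N50268 (iv1 F317739)) (tt N55710 (iv0 F321198)) (tt N70810 (iv2 F218472)) (tt N68341 F217589) (tt N70262 F217591) (tt N38887 (iv5 D135345)) (tt N105709 D208908) (tt N86030 (iv7 F374957)))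
theorem Q70503 : ∀ i, i < 70503 → P i := stepQ 70502 Q70502 (allL N70502 (tt N83627 F362717) (tt N49266 F362718) (tt N70811 (iv2 F218476)) (tt N86587 (iv3 F376542)) (tt N38889 F217594) (tt N105710 D208909) (tt N38887 (iv6 D135346)) (tt N83626 (iv7 F351701)))
theorem Q70504 : ∀ i, i < 70504 → P i := stepQ 70503 Q70503 (allL N70503 (tt N65176 (iv1 F312100)) (tt N64897 (iv0 F314445)) (tt N65214 F354631) (tt N64530 F354632) (tt N38888 (iv4 D135348)) (tt N89672 (iv5 F387182)) (tt N105711 D208910) (tt N65226 (iv7 F354630)))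
theorem Q70505 : ∀ i, i < 70505 → P i := stepQ 70504 Q70504 (allL N70504 (tt N54337 (iv1 F357879)) (tt N80916 (iv0 F357878)) (tt N100690 F430034) (tt N38894 F217601) (tt N105711 (iv4 F451368)) (tt N105712 D208911) (tt N38888 (iv6 D135349)) (tt N100691 (iv7 F430037)))
theorem Q70506 : ∀ i, i < 70506 → P i := stepQ 70505 Q70505 (allL N70505 (tt N105708 (iv1 F451356)) (tt N38889 (iv0 D135350)) (tt N69168 (iv2 F366466)) (tt N104794 (iv3 F447304)) (tt N67947 F369294) (tt N100678 (iv5 F429974)) (tt N105713 D208912) (tt N83636 (iv7 F366467)))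
theorem Q70507 : ∀ i, i < 70507 → P i := stepQ 70506 Q70506 (allL N70506 (tt N38889 (iv1 D135351)) (tt N105708 F451355) (tt N83636 F366460) (tt N69127 F366461) (tt N51594 F366462) (tt N82454 F366463) (tt N49268 F366464) (tt N69168 F366465))
theorem Q70508 : ∀ i, i < 70508 → P i := stepQ 70507 Q70507 (allL N70507 (tt N80077 (iv1 F362640)) (tt N79777 (iv0 F362638)) (tt N80076 (iv2 F377700)) (tt N38896 F217602) (tt N94883 (iv4 F406237)) (tt N38889 (iv5 D135352)) (tt N105712 (iv6 F451372)) (tt N79832 F363809))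
theorem Q70509 : ∀ i, i < 70509 → P i := stepQ 70508 Q70508 (allL N70508 (tt N83636 (iv1 F366375)) (tt N69168 F366376) (tt N105708 (iv2 F451352)) (tt N38897 F217603) (tt N83626 F351700) (tt N79832 (iv5 F363808)) (tt N66491 (iv6 F355105)) (tt N38889 (iv7 D135353)))
theorem Q70510 : ∀ i, i < 70510 → P i := stepQ 70509 Q70509 (allL N70509 (tt N105548 (iv1 F450686)) (tt N70265 (iv0 F361760)) (tt N51146 (iv2 F347392)) (tt N38891 F217604) (tt N83100 F338858) (tt N38890 (iv5 D135355)) (tt N51139 F347396) (tt N94585 (iv7 F405067)))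
theorem Q70511 : ∀ i, i < 70511 → P i := stepQ 70510 Q70510 (allL N70510 (tt N80687 F357391) (tt N80686 F361752) (tt N51149 F347389) (tt N38892 F217605) (tt N86587 (iv4 F376539)) (tt N51140 F339513) (tt N38890 (iv6 D135356)) (tt N80679 F357392))
theorem Q70512 : ∀ i, i < 70512 → P i := stepQ 70511 Q70511 (allL N70511 (tt N104097 (iv1 F444168)) (tt N105603 (iv0 F450942)) (tt N85557 (iv2 F373056)) (tt N64740 (iv3 F338873)) (tt N38891 (iv4 D135357)) (tt N105632 (iv5 F451039)) (tt N85556 (iv6 F373053)) (tt N105695 (iv7 F451295)))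
theorem Q70513 : ∀ i, i < 70513 → P i := stepQ 70512 Q70512 (allL N70512 (tt N77247 F354633) (tt N57449 (iv0 F217607)) (tt N65240 F319767) (tt N38893 (iv3 D135363)) (tt N64530 F319768) (tt N89650 (iv5 F387096)) (tt N105714 D208913) (tt N88848 (iv7 F384333)))
theorem Q70514 : ∀ i, i < 70514 → P i := stepQ 70513 Q70513 (allL N70513 (tt N105705 (iv1 F451335)) (tt N63893 (iv0 F366443)) (tt N90435 (iv2 F389642)) (tt N89650 F387097) (tt N100853 (iv4 F430782)) (tt N38893 (iv5 D135364)) (tt N89657 (iv6 F387125)) (tt N100835 (iv7 F430698)))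
theorem Q70515 : ∀ i, i < 70515 → P i := stepQ 70514 Q70514 (allL N70514 (tt N90250 (iv1 F389108)) (tt N48210 F357880) (tt N90247 (iv2 F389092)) (tt N105714 (iv3 F451385)) (tt N38894 F217608) (tt N105715 D208914) (tt N38893 (iv6 D135365)) (tt N90248 (iv7 F389094)))
theorem Q70516 : ∀ i, i < 70516 → P i := stepQ 70515 Q70515 (allL N70515 (tt N38894 (iv1 D135367)) (tt N65418 (iv0 F357868)) (tt N63045 F341217) (tt N70081 F341218) (tt N88910 F384507) (tt N65399 F341219) (tt N73990 (iv6 F341216)) (tt N65417 F341220))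
theorem Q70517 : ∀ i, i < 70517 → P i := stepQ 70516 Q70516 (allL N70516 (tt N65400 F353953) (tt N80045 (iv0 F353876)) (tt N79831 (iv2 F339509)) (tt N105712 (iv3 F451371)) (tt N105716 D208915) (tt N38894 (iv5 D135368)) (tt N38896 F217609) (tt N80044 (iv7 F348594)))
theorem Q70518 : ∀ i, i < 70518 → P i := stepQ 70517 Q70517 (allL N70517 (tt N63045 (iv1 F348591)) (tt N65417 F348592) (tt N65418 F357870) (tt N100691 F430038) (tt N90248 F389095) (tt N80044 F348593) (tt N100669 F429933) (tt N38894 (iv7 D135369)))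
theorem Q70519 : ∀ i, i < 70519 → P i := stepQ 70518 Q70518 (allL N70518 (tt N80274 (iv1 F344360)) (tt N105717 D208916) (tt N79830 F348607) (tt N82409 (iv3 F363802)) (tt N38896 (iv4 D135382)) (tt N48711 F339515) (tt N105716 (iv6 F451391)) (tt N79833 F348606))
theorem Q70520 : ∀ i, i < 70520 → P i := stepQ 70519 Q70519 (allL N70519 (tt N76334 (iv1 F238371)) (tt N76333 F238368) (tt N57465 F217613) (tt N38898 (iv3 D135384)) (tt N70085 F217614) (tt N105718 D208917) (tt N105719 D208918) (tt N43477 F312970))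
theorem Q70521 : ∀ i, i < 70521 → P i := stepQ 70520 Q70520 (allL N70520 (tt N76504 (iv1 F239066)) (tt N76503 F239065) (tt N38908 F217615) (tt N105718 (iv3 F451399)) (tt N105633 (iv4 F451046)) (tt N38898 (iv5 D135385)) (tt N88960 F384600) (tt N76502 (iv7 F239061)))
theorem Q70522 : ∀ i, i < 70522 → P i := stepQ 70521 Q70521 (allL N70521 (tt N89744 (iv1 F387391)) (tt N89736 (iv0 F387362)) (tt N38909 F217616) (tt N105719 (iv3 F451404)) (tt N38899 F217617) (tt N105720 D208919) (tt N38898 (iv6 D135386)) (tt N80697 (iv7 F363860)))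
theorem Q70523 : ∀ i, i < 70523 → P i := stepQ 70522 Q70522 (allL N70522 (tt N38912 (iv1 F217622)) (tt N38899 (iv0 D135387)) (tt N38910 F340187) (tt N47052 F340188) (tt N76915 (iv4 F351822)) (tt N47043 F340189) (tt N99617 (iv6 F425437)) (tt N38911 F340190))
theorem Q70524 : ∀ i, i < 70524 → P i := stepQ 70523 Q70523 (allL N70523 (tt N38899 (iv1 D135388)) (tt N38912 F217618) (tt N38911 F330227) (tt N52813 (iv3 F351812)) (tt N76914 (iv4 F351817)) (tt N47040 F330228) (tt N76635 F330229) (tt N38910 F330230))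
theorem Q70525 : ∀ i, i < 70525 → P i := stepQ 70524 Q70524 (allL N70524 (tt N38901 (iv1 D135392)) (tt N38904 F217629) (tt N63894 (iv2 F316615)) (tt N63937 (iv3 F314764)) (tt N69238 (iv4 F217630)) (tt N105705 (iv5 F451337)) (tt N76917 F366612) (tt N63891 (iv7 F315466)))
theorem Q70526 : ∀ i, i < 70526 → P i := stepQ 70525 Q70525 (allL N70525 (tt N49646 F312668) (tt N57687 F217633) (tt N76066 F312669) (tt N38901 (iv3 D135393)) (tt N69655 F217631) (tt N54281 F312670) (tt N42507 F312671) (tt N76107 (iv7 F315125)))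
theorem Q70527 : ∀ i, i < 70527 → P i := stepQ 70526 Q70526 (allL N70526 (tt N64292 (iv1 F357828)) (tt N82243 (iv0 F357826)) (tt N76531 (iv2 F239247)) (tt N54281 (iv3 F366744)) (tt N105630 (iv4 F451032)) (tt N38901 (iv5 D135394)) (tt N105721 D208920) (tt N76523 (iv7 F239221)))
theorem Q70528 : ∀ i, i < 70528 → P i := stepQ 70527 Q70527 (allL N70527 (tt N76534 (iv1 F239257)) (tt N38902 (iv0 D135396)) (tt N68358 F357454) (tt N70093 (iv3 F357455)) (tt N89003 F384778) (tt N100804 (iv5 F430551)) (tt N89733 (iv6 F387349)) (tt N76532 F357453))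
theorem Q70529 : ∀ i, i < 70529 → P i := stepQ 70528 Q70528 (allL N70528 (tt N76532 (iv1 F239251)) (tt N68358 (iv0 F345833)) (tt N76534 (iv2 F239253)) (tt N66832 (iv3 F351957)) (tt N64305 F351956) (tt N78739 (iv5 F345829)) (tt N76526 (iv6 F239227)) (tt N38902 (iv7 D135399)))
theorem Q70530 : ∀ i, i < 70530 → P i := stepQ 70529 Q70529 (allL N70529 (tt N69052 (iv1 F217637)) (tt N53257 (iv0 F313636)) (tt N38903 (iv2 D135400)) (tt N69653 F217635) (tt N48872 F311279) (tt N69041 F217636) (tt N105722 D208921) (tt N76527 (iv7 F239238)))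
theorem Q70531 : ∀ i, i < 70531 → P i := stepQ 70530 Q70530 (allL N70530 (tt N105723 D208922) (tt N105724 D208923) (tt N105722 (iv2 F451411)) (tt N38905 F217640) (tt N89665 (iv4 F387159)) (tt N90399 F389512) (tt N38903 (iv6 D135402)) (tt N105725 D208924))
theorem Q70532 : ∀ i, i < 70532 → P i := stepQ 70531 Q70531 (allL N70531 (tt N82243 (iv1 F357827)) (tt N64292 F357829) (tt N76523 (iv2 F239220)) (tt N89667 (iv3 F387164)) (tt N101395 (iv4 F432840)) (tt N38904 (iv5 D135404)) (tt N105726 D208925) (tt N76531 (iv7 F239248)))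
theorem Q70533 : ∀ i, i < 70533 → P i := stepQ 70532 Q70532 (allL N70532 (tt N77081 F388324) (tt N105727 D208926) (tt N76524 (iv2 F239222)) (tt N89668 (iv3 F387167)) (tt N38905 F217641) (tt N77144 F366444) (tt N38904 (iv6 D135405)) (tt N90177 (iv7 F388788)))
theorem Q70534 : ∀ i, i < 70534 → P i := stepQ 70533 Q70533 (allL N70533 (tt N38905 (iv1 D135407)) (tt N76526 F239229) (tt N68297 F358556) (tt N66472 (iv3 F358557)) (tt N105728 D208927) (tt N94066 (iv5 F403045)) (tt N105729 D208928) (tt N76525 F358555))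
theorem Q70535 : ∀ i, i < 70535 → P i := stepQ 70534 Q70534 (allL N70534 (tt N79378 F353997) (tt N66434 F383588) (tt N66255 (iv2 F359091)) (tt N90399 (iv3 F389513)) (tt N105730 D208929) (tt N38905 (iv5 D135408)) (tt N66252 (iv6 F359110)) (tt N105731 D208930))
theorem Q70536 : ∀ i, i < 70536 → P i := stepQ 70535 Q70535 (allL N70535 (tt N68297 (iv1 F353872)) (tt N76525 F239228) (tt N76526 (iv2 F239226)) (tt N105725 (iv3 F451428)) (tt N90177 (iv4 F388787)) (tt N105731 (iv5 F451453)) (tt N76534 (iv6 F239254)) (tt N38905 (iv7 D135409)))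
theorem Q70537 : ∀ i, i < 70537 → P i := stepQ 70536 Q70536 (allL N70536 (tt N89420 (iv1 F386434)) (tt N100531 (iv0 F429356)) (tt N88999 (iv2 F384741)) (tt N38906 (iv3 D135411)) (tt N80456 F359867) (tt N105732 D208931) (tt N48921 F359868) (tt N76499 (iv7 F239050)))
theorem Q70538 : ∀ i, i < 70538 → P i := stepQ 70537 Q70537 (allL N70537 (tt N105733 D208932) (tt N103592 (iv0 F442168)) (tt N53135 (iv2 F321744)) (tt N105732 (iv3 F451458)) (tt N105627 (iv4 F451020)) (tt N38906 (iv5 D135413)) (tt N105734 D208933) (tt N76500 (iv7 F239052)))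
theorem Q70539 : ∀ i, i < 70539 → P i := stepQ 70538 Q70538 (allL N70538 (tt N103592 (iv1 F442169)) (tt N105733 F451467) (tt N76500 (iv2 F239051)) (tt N49468 F366173) (tt N105622 (iv4 F451002)) (tt N38907 (iv5 D135416)) (tt N105735 D208934) (tt N53135 (iv7 F321746)))
theorem Q70540 : ∀ i, i < 70540 → P i := stepQ 70539 Q70539 (allL N70539 (tt N89398 F386369) (tt N105728 (iv0 F451441)) (tt N76501 (iv2 F239053)) (tt N89011 (iv3 F384805)) (tt N68578 F217749) (tt N105736 D208935) (tt N38907 (iv6 D135417)) (tt N89007 (iv7 F384791)))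
theorem Q70541 : ∀ i, i < 70541 → P i := stepQ 70540 Q70540 (allL N70540 (tt N76502 (iv1 F239064)) (tt N38908 (iv0 D135418)) (tt N76504 F354651) (tt N88899 (iv3 F384479)) (tt N105609 (iv4 F450962)) (tt N80866 (iv5 F354649)) (tt N105737 D208936) (tt N76503 F354652))
theorem Q70542 : ∀ i, i < 70542 → P i := stepQ 70541 Q70541 (allL N70541 (tt N105632 (iv1 F451038)) (tt N100853 (iv0 F430786)) (tt N105633 (iv2 F451044)) (tt N86140 (iv3 F413489)) (tt N38908 (iv4 D135420)) (tt N105598 (iv5 F450915)) (tt N105738 D208937) (tt N76505 (iv7 F239069)))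
theorem Q70543 : ∀ i, i < 70543 → P i := stepQ 70542 Q70542 (allL N70542 (tt N88951 (iv1 F384604)) (tt N88961 (iv0 F384603)) (tt N88960 (iv2 F384601)) (tt N76513 (iv3 F239074)) (tt N105738 (iv4 F451477)) (tt N105739 D208938) (tt N38908 (iv6 D135421)) (tt N88959 (iv7 F464324)))
theorem Q70544 : ∀ i, i < 70544 → P i := stepQ 70543 Q70543 (allL N70543 (tt N80697 (iv1 F366863)) (tt N38909 (iv0 D135422)) (tt N89744 (iv2 F387386)) (tt N71936 (iv3 F371285)) (tt N100304 F428343) (tt N71932 F371284) (tt N105740 D208940) (tt N89736 F387363))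
theorem Q70545 : ∀ i, i < 70545 → P i := stepQ 70544 Q70544 (allL N70544 (tt N105741 D208941) (tt N83916 (iv0 F367484)) (tt N105720 (iv2 F451409)) (tt N76514 (iv3 F239076)) (tt N81665 F348200) (tt N38909 (iv5 D135424)) (tt N105739 (iv6 F451479)) (tt N100949 (iv7 F431078)))
theorem Q70546 : ∀ i, i < 70546 → P i := stepQ 70545 Q70545 (allL N70545 (tt N52812 F334187) (tt N52815 F334188) (tt N52814 F334181) (tt N38910 (iv3 D135427)) (tt N63732 (iv4 F334180)) (tt N76026 F334186) (tt N67023 F334184) (tt N52813 F334185))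
theorem Q70547 : ∀ i, i < 70547 → P i := stepQ 70546 Q70546 (allL N70546 (tt N45333 F330217) (tt N76917 F330218) (tt N76915 F351821) (tt N39618 F334182) (tt N38910 (iv4 D135428)) (tt N39617 F334183) (tt N105742 D208942) (tt N76914 (iv7 F351820)))
theorem Q70548 : ∀ i, i < 70548 → P i := stepQ 70547 Q70547 (allL N70547 (tt N47042 F328945) (tt N47041 F328946) (tt N47043 F328947) (tt N76026 F328948) (tt N47079 F328949) (tt N38910 (iv5 D135429)) (tt N43961 F309523) (tt N47040 F328950))
theorem Q70549 : ∀ i, i < 70549 → P i := stepQ 70548 Q70548 (allL N70548 (tt N105729 (iv1 F451447)) (tt N102791 (iv0 F438669)) (tt N99617 (iv2 F425435)) (tt N67023 F332330) (tt N105742 (iv4 F451486)) (tt N67021 (iv5 F332336)) (tt N38910 (iv6 D135430)) (tt N69428 (iv7 F332329)))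
theorem Q70550 : ∀ i, i < 70550 → P i := stepQ 70549 Q70549 (allL N70549 (tt N76917 F331997) (tt N45333 F331998) (tt N76914 (iv2 F351815)) (tt N88993 (iv3 F384708)) (tt N38911 (iv4 D135433)) (tt N105743 D208943) (tt N48980 F351811) (tt N76915 F351823))
theorem Q70551 : ∀ i, i < 70551 → P i := stepQ 70550 Q70550 (allL N70550 (tt N75997 F341209) (tt N89733 (iv0 F387352)) (tt N76635 F330212) (tt N47046 F330213) (tt N48980 F332320) (tt N46001 F330214) (tt N38911 (iv6 D135435)) (tt N80606 F332321))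
theorem Q70552 : ∀ i, i < 70552 → P i := stepQ 70551 Q70551 (allL N70551 (tt N69165 F347125) (tt N80691 (iv0 F344414)) (tt N90518 (iv2 F389928)) (tt N38913 (iv3 D135437)) (tt N68813 F217754) (tt N77599 (iv5 F347126)) (tt N66261 F347128) (tt N70109 (iv7 F366773)))
theorem Q70553 : ∀ i, i < 70553 → P i := stepQ 70552 Q70552 (allL N70552 (tt N80695 F344092) (tt N47095 F344093) (tt N80694 F344094) (tt N38914 (iv3 D135442)) (tt N78611 F344095) (tt N80720 F344096) (tt N72091 F344105) (tt N66485 (iv7 F344104)))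
theorem Q70554 : ∀ i, i < 70554 → P i := stepQ 70553 Q70553 (allL N70553 (tt N65317 F308620) (tt N65309 F308621) (tt N65314 F308622) (tt N80720 (iv3 F344090)) (tt N48226 F308623) (tt N38914 (iv5 D135444)) (tt N63749 F308624) (tt N65315 F308625))
theorem Q70555 : ∀ i, i < 70555 → P i := stepQ 70554 Q70554 (allL N70554 (tt N47048 F332082) (tt N77281 F332083) (tt N63864 F332080) (tt N38916 F217771) (tt N90251 (iv4 F389114)) (tt N38915 (iv5 D135453)) (tt N45591 F307027) (tt N63861 (iv7 F314484)))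
theorem Q70556 : ∀ i, i < 70556 → P i := stepQ 70555 Q70555 (allL N70555 (tt N77744 (iv1 F353048)) (tt N63481 (iv0 F353053)) (tt N63865 (iv2 F315908)) (tt N38917 F217773) (tt N63377 (iv4 F311189)) (tt N82049 F359349) (tt N38915 (iv6 D135454)) (tt N78212 (iv7 F247131)))
theorem Q70557 : ∀ i, i < 70557 → P i := stepQ 70556 Q70556 (allL N70556 (tt N38917 (iv1 D135458)) (tt N70114 F217783) (tt N70112 F217786) (tt N102791 (iv3 F438666)) (tt N68298 F217784) (tt N63791 F319829) (tt N48273 F319830) (tt N63790 (iv7 F320670)))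
theorem Q70558 : ∀ i, i < 70558 → P i := stepQ 70557 Q70557 (allL N70557 (tt N40664 F217790) (tt N72239 F341146) (tt N70113 F217789) (tt N82049 F359348) (tt N44071 F322447) (tt N38917 (iv5 D135459)) (tt N42878 F322448) (tt N48056 F322449))
theorem Q70559 : ∀ i, i < 70559 → P i := stepQ 70558 Q70558 (allL N70558 (tt N70112 (iv1 F217794)) (tt N63790 (iv0 F320666)) (tt N70114 F217791) (tt N78212 (iv3 F247129)) (tt N67102 F217792) (tt N48056 F319096) (tt N70115 F217793) (tt N38917 (iv7 D135460)))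
theorem Q70560 : ∀ i, i < 70560 → P i := stepQ 70559 Q70559 (allL N70559 (tt N70115 (iv1 F217808)) (tt N38920 (iv0 D135463)) (tt N41702 (iv2 F311997)) (tt N75997 (iv3 F361335)) (tt N68361 F217804) (tt N41607 (iv5 F312526)) (tt N41610 F310244) (tt N68359 F217807))
theorem Q70561 : ∀ i, i < 70561 → P i := stepQ 70560 Q70560 (allL N70560 (tt N64063 (iv1 F305924)) (tt N64225 (iv0 F306878)) (tt N64224 (iv2 F306876)) (tt N63235 F217810) (tt N42279 F313209) (tt N38920 (iv5 D135464)) (tt N41608 F313443) (tt N64223 (iv7 F349374)))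
theorem Q70562 : ∀ i, i < 70562 → P i := stepQ 70561 Q70561 (allL N70561 (tt N68359 (iv1 F217817)) (tt N41702 F314391) (tt N70115 F217813) (tt N63208 F217814) (tt N64028 (iv4 F307139)) (tt N64223 (iv5 F349372)) (tt N70114 F217816) (tt N38920 (iv7 D135465)))
theorem Q70563 : ∀ i, i < 70563 → P i := stepQ 70562 Q70562 (allL N70562 (tt N98726 (iv1 F422035)) (tt N69376 (iv0 F338689)) (tt N70714 (iv2 F218169)) (tt N78605 (iv3 F340916)) (tt N38922 (iv4 D135470)) (tt N74493 F338690) (tt N69386 F217827) (tt N70116 F217828))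
theorem Q70564 : ∀ i, i < 70564 → P i := stepQ 70563 Q70563 (allL N70563 (tt N69355 (iv1 F217836)) (tt N38924 (iv0 D135472)) (tt N69353 (iv2 F217835)) (tt N56573 F217832) (tt N68996 F217833) (tt N61957 F217834) (tt N70574 (iv6 F217864)) (tt N69354 F217837))
theorem Q70565 : ∀ i, i < 70565 → P i := stepQ 70564 Q70564 (allL N70564 (tt N70292 (iv1 F217838)) (tt N38925 (iv0 D135473)) (tt N70291 (iv2 F417015)) (tt N102477 F437370) (tt N105744 D208944) (tt N102584 (iv5 F437787)) (tt N105745 D208945) (tt N70290 (iv7 F417017)))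
theorem Q70566 : ∀ i, i < 70566 → P i := stepQ 70565 Q70565 (allL N70565 (tt N38925 (iv1 D135474)) (tt N70292 F217842) (tt N70290 F417016) (tt N97478 (iv3 F417013)) (tt N105746 D208946) (tt N102585 (iv5 F437795)) (tt N105130 F448924) (tt N70291 F417014))
theorem Q70567 : ∀ i, i < 70567 → P i := stepQ 70566 Q70566 (allL N70566 (tt N70291 (iv1 F217843)) (tt N70290 F217841) (tt N38925 (iv2 D135475)) (tt N70575 (iv3 F217866)) (tt N70155 F217839) (tt N102495 (iv5 F437433)) (tt N105747 D208947) (tt N70292 F217840))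
theorem Q70568 : ∀ i, i < 70568 → P i := stepQ 70567 Q70567 (allL N70567 (tt N105748 D208948) (tt N105749 D208949) (tt N105747 (iv2 F451511)) (tt N38926 F217844) (tt N59563 F217845) (tt N102607 (iv5 F437878)) (tt N38925 (iv6 D135476)) (tt N102606 F437874))
theorem Q70569 : ∀ i, i < 70569 → P i := stepQ 70568 Q70568 (allL N70568 (tt N103830 (iv1 F443001)) (tt N103793 (iv0 F442842)) (tt N70577 (iv2 F217875)) (tt N102607 (iv3 F437876)) (tt N80279 F334308) (tt N38926 (iv5 D135477)) (tt N102510 (iv6 F437476)) (tt N102603 F437861))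
theorem Q70570 : ∀ i, i < 70570 → P i := stepQ 70569 Q70569 (allL N70569 (tt N70008 F217848) (tt N70574 (iv0 F217865)) (tt N70579 (iv2 F217883)) (tt N38962 F217846) (tt N67563 F217847) (tt N95106 (iv5 F407068)) (tt N38928 (iv6 D135478)) (tt N95106 (iv7 F407069)))
theorem Q70571 : ∀ i, i < 70571 → P i := stepQ 70570 Q70570 (allL N70570 (tt N105750 D208950) (tt N105751 D208951) (tt N102501 (iv2 F437450)) (tt N38931 F217850) (tt N56589 F217851) (tt N105752 D208952) (tt N38930 (iv6 D135479)) (tt N103667 (iv7 F442425)))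
theorem Q70572 : ∀ i, i < 70572 → P i := stepQ 70571 Q70571 (allL N70571 (tt N75723 F329378) (tt N102550 (iv0 F437617)) (tt N39740 F329379) (tt N105752 (iv3 F451535)) (tt N39733 F329380) (tt N38931 (iv5 D135480)) (tt N82793 (iv6 F365379)) (tt N103668 (iv7 F442429)))
theorem Q70573 : ∀ i, i < 70573 → P i := stepQ 70572 Q70572 (allL N70572 (tt N71753 (iv1 F220489)) (tt N62365 (iv0 F217854)) (tt N70452 F217853) (tt N70715 (iv3 F218172)) (tt N101019 (iv4 F431301)) (tt N38933 (iv5 D135481)) (tt N79766 (iv6 F347062)) (tt N70580 (iv7 F217888)))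
theorem Q70574 : ∀ i, i < 70574 → P i := stepQ 70573 Q70573 (allL N70573 (tt N39609 (iv1 F217860)) (tt N39611 F217861) (tt N70581 (iv2 F217893)) (tt N38976 F217856) (tt N67795 F217857) (tt N68054 F217858) (tt N38934 (iv6 D135482)) (tt N60885 (iv7 F326876)))
theorem Q70575 : ∀ i, i < 70575 → P i := stepQ 70574 Q70574 (allL N70574 (tt N70569 F217865) (tt N71076 (iv0 F219401)) (tt N70436 F217862) (tt N56729 F217863) (tt N104555 (iv4 F446234)) (tt N38938 (iv5 D135483)) (tt N70563 F217864) (tt N70586 (iv7 F217908)))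
theorem Q70576 : ∀ i, i < 70576 → P i := stepQ 70575 Q70575 (allL N70575 (tt N68992 (iv1 F217871)) (tt N67629 F217870) (tt N38939 (iv2 D135484)) (tt N70566 F217866) (tt N56402 F217867) (tt N66120 F217868) (tt N105753 D208953) (tt N66126 F217869))
theorem Q70577 : ∀ i, i < 70577 → P i := stepQ 70576 Q70576 (allL N70576 (tt N105754 D208954) (tt N105755 D208955) (tt N105753 (iv2 F451538)) (tt N38940 F217873) (tt N56403 F217874) (tt N105756 D208956) (tt N38939 (iv6 D135485)) (tt N105757 D208957))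
theorem Q70578 : ∀ i, i < 70578 → P i := stepQ 70577 Q70577 (allL N70577 (tt N67891 F217876) (tt N67894 F217877) (tt N70568 F217875) (tt N105756 (iv3 F451547)) (tt N68006 (iv4 F334307)) (tt N38940 (iv5 D135486)) (tt N102612 (iv6 F437888)) (tt N68002 F334309))
theorem Q70579 : ∀ i, i < 70579 → P i := stepQ 70578 Q70578 (allL N70578 (tt N58822 (iv1 F217881)) (tt N58827 F217882) (tt N67568 F217878) (tt N105757 (iv3 F451551)) (tt N38942 F217879) (tt N68002 (iv5 F334306)) (tt N67675 F217880) (tt N38940 (iv7 D135487)))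
theorem Q70580 : ∀ i, i < 70580 → P i := stepQ 70579 Q70579 (allL N70579 (tt N70586 F217909) (tt N70436 (iv0 F217885)) (tt N70569 F217883) (tt N69776 F217884) (tt N102440 (iv4 F437244)) (tt N71076 (iv5 F219399)) (tt N38941 (iv6 D135488)) (tt N71076 (iv7 F219400)))
theorem Q70581 : ∀ i, i < 70581 → P i := stepQ 70580 Q70580 (allL N70580 (tt N39612 (iv1 F217891)) (tt N94569 (iv0 F405005)) (tt N39847 F217886) (tt N60315 F217887) (tt N66494 (iv4 F217890)) (tt N38943 (iv5 D135489)) (tt N39367 F217889) (tt N70572 F217888))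
theorem Q70582 : ∀ i, i < 70582 → P i := stepQ 70581 Q70581 (allL N70581 (tt N57018 F217897) (tt N62364 F217898) (tt N70573 F217893) (tt N69439 F217894) (tt N102461 (iv4 F437304)) (tt N69422 F217896) (tt N38943 (iv6 D135490)) (tt N69886 F217895))
theorem Q70583 : ∀ i, i < 70583 → P i := stepQ 70582 Q70582 (allL N70582 (tt N69147 F217901) (tt N75698 (iv0 F363273)) (tt N102422 (iv2 F437168)) (tt N38945 (iv3 D135492)) (tt N61019 (iv4 F332598)) (tt N103517 (iv5 F441916)) (tt N84914 (iv6 F371079)) (tt N102423 (iv7 F437173)))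
theorem Q70584 : ∀ i, i < 70584 → P i := stepQ 70583 Q70583 (allL N70583 (tt N85058 F371484) (tt N102459 (iv0 F437299)) (tt N103763 (iv2 F442724)) (tt N84914 F371081) (tt N102251 (iv4 F436374)) (tt N105758 D208958) (tt N38945 (iv6 D135495)) (tt N103782 (iv7 F442790)))
theorem Q70585 : ∀ i, i < 70585 → P i := stepQ 70584 Q70584 (allL N70584 (tt N93055 (iv1 F399307)) (tt N93057 (iv0 F399317)) (tt N93209 (iv2 F399976)) (tt N38946 (iv3 D135497)) (tt N93185 (iv4 F399857)) (tt N45046 F362915) (tt N105759 D208959) (tt N93184 F399855))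
theorem Q70586 : ∀ i, i < 70586 → P i := stepQ 70585 Q70585 (allL N70585 (tt N69155 F384038) (tt N105760 D208960) (tt N103762 (iv2 F442720)) (tt N105759 (iv3 F451565)) (tt N88743 F384037) (tt N105761 D208961) (tt N38946 (iv6 D135499)) (tt N105762 D208962))
theorem Q70587 : ∀ i, i < 70587 → P i := stepQ 70586 Q70586 (allL N70586 (tt N95106 F407071) (tt N70579 (iv0 F217909)) (tt N70008 F217905) (tt N56695 F217906) (tt N103566 (iv4 F442060)) (tt N38949 (iv5 D135500)) (tt N69429 F217907) (tt N70574 F217908))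
theorem Q70588 : ∀ i, i < 70588 → P i := stepQ 70587 Q70587 (allL N70587 (tt N70620 F218362) (tt N39043 F218363) (tt N70622 F359573) (tt N38950 (iv3 D135502)) (tt N95902 (iv4 F410165)) (tt N38950 F359574) (tt N85970 (iv6 F374668)) (tt N56041 F359575))
theorem Q70589 : ∀ i, i < 70589 → P i := stepQ 70588 Q70588 (allL N70588 (tt N45076 (iv1 F333171)) (tt N74905 F333170) (tt N70730 (iv2 F359586)) (tt N97932 F418848) (tt N38950 (iv4 D135503)) (tt N98483 (iv5 F421080)) (tt N91029 (iv6 F391656)) (tt N70728 F359584))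
theorem Q70590 : ∀ i, i < 70590 → P i := stepQ 70589 Q70589 (allL N70589 (tt N60809 F359585) (tt N104161 (iv0 F444486)) (tt N56243 (iv2 F361068)) (tt N38951 (iv3 D135507)) (tt N105763 D208963) (tt N56243 (iv5 F364324)) (tt N56240 F335895) (tt N70729 F349104))
theorem Q70591 : ∀ i, i < 70591 → P i := stepQ 70590 Q70590 (allL N70590 (tt N74905 F359576) (tt N45076 F359577) (tt N70728 F355833) (tt N60718 (iv3 F328469)) (tt N38951 (iv4 D135508)) (tt N66661 F359578) (tt N74855 F335896) (tt N70730 F349105))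
theorem Q70592 : ∀ i, i < 70592 → P i := stepQ 70591 Q70591 (allL N70591 (tt N39043 F359571) (tt N70620 F359572) (tt N56041 F335890) (tt N56243 F335891) (tt N87048 (iv4 F378175)) (tt N38951 (iv5 D135509)) (tt N45213 F335892) (tt N70622 (iv7 F349126)))
theorem Q70593 : ∀ i, i < 70593 → P i := stepQ 70592 Q70592 (allL N70592 (tt N70733 (iv1 F218204)) (tt N70615 F217968) (tt N38953 F217913) (tt N66078 F217914) (tt N105209 (iv4 F449216)) (tt N38952 (iv5 D135511)) (tt N105764 D208964) (tt N70732 (iv7 F218199)))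
theorem Q70594 : ∀ i, i < 70594 → P i := stepQ 70593 Q70593 (allL N70593 (tt N105765 D208965) (tt N105766 D208966) (tt N38954 F217915) (tt N69361 F217916) (tt N98722 (iv4 F422018)) (tt N105767 D208967) (tt N38952 (iv6 D135512)) (tt N74912 (iv7 F364328)))
theorem Q70595 : ∀ i, i < 70595 → P i := stepQ 70594 Q70594 (allL N70594 (tt N70661 F218060) (tt N70664 (iv0 F218070)) (tt N105209 F449217) (tt N58947 F217917) (tt N38953 (iv4 D135514)) (tt N78684 (iv5 F359676)) (tt N105768 D208968) (tt N70734 (iv7 F218206)))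
theorem Q70596 : ∀ i, i < 70596 → P i := stepQ 70595 Q70595 (allL N70595 (tt N105769 D208969) (tt N105770 D208970) (tt N105764 (iv2 F451589)) (tt N38955 F217919) (tt N105768 (iv4 F451617)) (tt N105771 D208971) (tt N38953 (iv6 D135515)) (tt N105772 D208972))
theorem Q70597 : ∀ i, i < 70597 → P i := stepQ 70596 Q70596 (allL N70596 (tt N74912 (iv1 F364330)) (tt N38954 (iv0 D135516)) (tt N105765 F451599) (tt N83966 F391773) (tt N74908 F364743) (tt N105773 D208973) (tt N98723 F451602) (tt N105766 (iv7 F451604)))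
theorem Q70598 : ∀ i, i < 70598 → P i := stepQ 70597 Q70597 (allL N70597 (tt N38954 (iv1 D135517)) (tt N74912 (iv0 F364327)) (tt N105766 (iv2 F451608)) (tt N105774 D208974) (tt N74379 F364326) (tt N105775 D208975) (tt N76302 (iv6 F364325)) (tt N105765 F451601))
theorem Q70599 : ∀ i, i < 70599 → P i := stepQ 70598 Q70598 (allL N70598 (tt N94127 F403342) (tt N105776 D208976) (tt N105767 (iv2 F451609)) (tt N38958 F217920) (tt N68159 (iv4 F364269)) (tt N38954 (iv5 D135518)) (tt N105771 (iv6 F451635)) (tt N105777 D208977))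
theorem Q70600 : ∀ i, i < 70600 → P i := stepQ 70599 Q70599 (allL N70599 (tt N105766 (iv1 F451603)) (tt N105765 F451598) (tt N74912 F364329) (tt N38959 F217921) (tt N66580 F365704) (tt N105777 (iv5 F451661)) (tt N62805 (iv6 F327882)) (tt N38954 (iv7 D135519)))
theorem Q70601 : ∀ i, i < 70601 → P i := stepQ 70600 Q70600 (allL N70600 (tt N69371 (iv1 F217927)) (tt N38955 (iv0 D135520)) (tt N69368 F371150) (tt N92637 F398245) (tt N102512 (iv4 F437900)) (tt N97183 F415796) (tt N75067 (iv6 F415798)) (tt N69369 F371148))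
theorem Q70602 : ∀ i, i < 70602 → P i := stepQ 70601 Q70601 (allL N70601 (tt N38955 (iv1 D135521)) (tt N69371 F217922) (tt N69369 (iv2 F371147)) (tt N51594 F359565) (tt N102513 F437483) (tt N51589 (iv5 F359564)) (tt N51591 F359566) (tt N69368 (iv7 F371149)))
theorem Q70603 : ∀ i, i < 70603 → P i := stepQ 70602 Q70602 (allL N70602 (tt N105778 D208978) (tt N105779 D208979) (tt N69370 F217923) (tt N105771 (iv3 F451634)) (tt N74169 F364264) (tt N38955 (iv5 D135522)) (tt N38958 F217924) (tt N87511 (iv7 F379613)))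
theorem Q70604 : ∀ i, i < 70604 → P i := stepQ 70603 Q70603 (allL N70603 (tt N69369 (iv1 F217928)) (tt N69368 F217929) (tt N69371 F217925) (tt N105772 (iv3 F451641)) (tt N69023 F217926) (tt N87511 (iv5 F379614)) (tt N60735 (iv6 F366030)) (tt N38955 (iv7 D135523)))
theorem Q70605 : ∀ i, i < 70605 → P i := stepQ 70604 Q70604 (allL N70604 (tt N104912 F447907) (tt N104162 (iv0 F444495)) (tt N105780 D208980) (tt N38956 (iv3 D135524)) (tt N68926 F217930) (tt N97201 F415871) (tt N93199 F399938) (tt N69374 F217931))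
theorem Q70606 : ∀ i, i < 70606 → P i := stepQ 70605 Q70605 (allL N70605 (tt N67946 F419536) (tt N105781 D208981) (tt N105782 D208982) (tt N38957 (iv3 D135525)) (tt N70287 F217932) (tt N83806 F367060) (tt N85985 (iv6 F374747)) (tt N69372 F217933))
theorem Q70607 : ∀ i, i < 70607 → P i := stepQ 70606 Q70606 (allL N70606 (tt N70714 (iv1 F339558)) (tt N70116 (iv0 F339556)) (tt N69376 F217934) (tt N85985 F374748) (tt N102425 (iv4 F437186)) (tt N61425 F338686) (tt N38957 (iv6 D135526)) (tt N98726 (iv7 F422033)))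
theorem Q70608 : ∀ i, i < 70608 → P i := stepQ 70607 Q70607 (allL N70607 (tt N38958 (iv1 D135528)) (tt N69379 F217939) (tt N69377 (iv2 F217942)) (tt N105783 D208983) (tt N105784 D208984) (tt N61730 F217941) (tt N97349 F416453) (tt N63820 (iv7 F327997)))
theorem Q70609 : ∀ i, i < 70609 → P i := stepQ 70608 Q70608 (allL N70608 (tt N95866 F410013) (tt N97348 (iv0 F416449)) (tt N69378 F217943) (tt N68160 F364268) (tt N38958 (iv4 D135529)) (tt N87374 (iv5 F379152)) (tt N74169 (iv6 F364266)) (tt N95658 (iv7 F409027)))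
theorem Q70610 : ∀ i, i < 70610 → P i := stepQ 70609 Q70609 (allL N70609 (tt N69377 (iv1 F217946)) (tt N63820 (iv0 F327994)) (tt N69379 F217944) (tt N105777 (iv3 F451659)) (tt N95658 (iv4 F409028)) (tt N38959 F217945) (tt N105785 D208985) (tt N38958 (iv7 D135530)))
theorem Q70611 : ∀ i, i < 70611 → P i := stepQ 70610 Q70610 (allL N70610 (tt N38961 (iv1 F217950)) (tt N38960 (iv0 D135531)) (tt N69380 (iv2 F217949)) (tt N91053 (iv3 F391771)) (tt N66076 F217948) (tt N95867 (iv5 F410014)) (tt N62000 (iv6 F217952)) (tt N66074 F217951))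
theorem Q70612 : ∀ i, i < 70612 → P i := stepQ 70611 Q70611 (allL N70611 (tt N105786 D208986) (tt N104158 (iv0 F444471)) (tt N87552 (iv2 F379742)) (tt N38960 (iv3 D135532)) (tt N60712 (iv4 F332784)) (tt N87139 F378515) (tt N96782 (iv6 F413909)) (tt N69383 F217954))
theorem Q70613 : ∀ i, i < 70613 → P i := stepQ 70612 Q70612 (allL N70612 (tt N61706 F217957) (tt N97963 (iv0 F418983)) (tt N69382 F217955) (tt N87139 (iv3 F378512)) (tt N105690 (iv4 F451271)) (tt N38960 (iv5 D135533)) (tt N87138 F378510) (tt N69384 F217956))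
theorem Q70614 : ∀ i, i < 70614 → P i := stepQ 70613 Q70613 (allL N70613 (tt N39065 F344975) (tt N70678 F344976) (tt N70676 F370292) (tt N38961 (iv3 D135534)) (tt N67561 F217958) (tt N104922 (iv5 F447955)) (tt N98397 (iv6 F420781)) (tt N69381 F217959))
theorem Q70615 : ∀ i, i < 70615 → P i := stepQ 70614 Q70614 (allL N70614 (tt N97963 (iv1 F418984)) (tt N61706 F217962) (tt N69384 F217960) (tt N104922 (iv3 F447953)) (tt N105689 (iv4 F451263)) (tt N38961 (iv5 D135535)) (tt N58925 F365419) (tt N69382 F217961))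
theorem Q70616 : ∀ i, i < 70616 → P i := stepQ 70615 Q70615 (allL N70615 (tt N70592 (iv1 F217968)) (tt N39026 (iv0 F217967)) (tt N69912 (iv2 F336859)) (tt N38963 (iv3 D135538)) (tt N69747 F217966) (tt N39040 (iv5 F218273)) (tt N105787 D208987) (tt N69916 (iv7 F333492)))
theorem Q70617 : ∀ i, i < 70617 → P i := stepQ 70616 Q70616 (allL N70616 (tt N70690 F218119) (tt N98737 (iv0 F422091)) (tt N60954 (iv2 F333506)) (tt N55406 (iv3 F355337)) (tt N38963 (iv4 D135539)) (tt N45075 F333164) (tt N60951 F349027) (tt N70754 (iv7 F333493)))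
theorem Q70618 : ∀ i, i < 70618 → P i := stepQ 70617 Q70617 (allL N70617 (tt N41734 F335888) (tt N70835 (iv0 F349034)) (tt N60952 F349023) (tt N105787 (iv3 F451714)) (tt N60951 (iv4 F349026)) (tt N79076 F335889) (tt N38963 (iv6 D135541)) (tt N98728 (iv7 F422042)))
theorem Q70619 : ∀ i, i < 70619 → P i := stepQ 70618 Q70618 (allL N70618 (tt N70717 F218184) (tt N70720 (iv0 F333483)) (tt N79707 F333487) (tt N38964 (iv3 D135543)) (tt N67428 F217970) (tt N103414 (iv5 F441515)) (tt N88256 (iv6 F382377)) (tt N70755 F333484))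
theorem Q70620 : ∀ i, i < 70620 → P i := stepQ 70619 Q70619 (allL N70619 (tt N98737 F422092) (tt N70690 (iv0 F218118)) (tt N70754 (iv2 F333496)) (tt N60961 (iv3 F333236)) (tt N38964 (iv4 D135544)) (tt N45074 F333165) (tt N70665 F333233) (tt N60954 (iv7 F333508)))
theorem Q70621 : ∀ i, i < 70621 → P i := stepQ 70620 Q70620 (allL N70620 (tt N70591 (iv1 F359572)) (tt N70587 (iv0 F218362)) (tt N38966 F217972) (tt N68307 F217973) (tt N105141 (iv4 F448963)) (tt N38965 (iv5 D135547)) (tt N105788 D208988) (tt N70756 (iv7 F218281)))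
theorem Q70622 : ∀ i, i < 70622 → P i := stepQ 70621 Q70621 (allL N70621 (tt N105789 D208989) (tt N79059 F359569) (tt N38967 F217974) (tt N69189 F217975) (tt N50885 F359570) (tt N105790 D208990) (tt N38965 (iv6 D135548)) (tt N54744 (iv7 F349130)))
theorem Q70623 : ∀ i, i < 70623 → P i := stepQ 70622 Q70622 (allL N70622 (tt N38966 (iv1 D135550)) (tt N70756 F218282) (tt N70587 (iv2 F359573)) (tt N92721 (iv3 F397969)) (tt N87855 (iv4 F380869)) (tt N39024 F349125) (tt N84933 (iv6 F371125)) (tt N70591 F349126))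
theorem Q70624 : ∀ i, i < 70624 → P i := stepQ 70623 Q70623 (allL N70623 (tt N99828 F426420) (tt N105064 F448627) (tt N105141 (iv2 F448966)) (tt N69150 F217976) (tt N38966 (iv4 D135551)) (tt N78689 (iv5 F359470)) (tt N71445 (iv6 F347285)) (tt N70758 (iv7 F218289)))
theorem Q70625 : ∀ i, i < 70625 → P i := stepQ 70624 Q70624 (allL N70624 (tt N99800 F426283) (tt N105791 D208991) (tt N105788 (iv2 F451718)) (tt N38968 F217977) (tt N71445 F347274) (tt N105792 D208992) (tt N38966 (iv6 D135552)) (tt N105793 D208993))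
theorem Q70626 : ∀ i, i < 70626 → P i := stepQ 70625 Q70625 (allL N70625 (tt N54744 (iv1 F349131)) (tt N38967 (iv0 D135553)) (tt N105789 F451725) (tt N105794 D208994) (tt N55396 (iv4 F349132)) (tt N105795 D208995) (tt N105796 D208996) (tt N79059 F349133))
theorem Q70627 : ∀ i, i < 70627 → P i := stepQ 70626 Q70626 (allL N70626 (tt N38967 (iv1 D135554)) (tt N54744 F361065) (tt N79059 F349102) (tt N92725 (iv3 F397988)) (tt N91794 (iv4 F394456)) (tt N100232 (iv5 F428088)) (tt N41720 F349103) (tt N105789 (iv7 F451727)))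
theorem Q70628 : ∀ i, i < 70628 → P i := stepQ 70627 Q70627 (allL N70627 (tt N105797 D208997) (tt N85923 F374483) (tt N105790 (iv2 F451728)) (tt N38971 F217978) (tt N54772 (iv4 F349116)) (tt N38967 (iv5 D135555)) (tt N105792 (iv6 F451739)) (tt N105798 D208998))
theorem Q70629 : ∀ i, i < 70629 → P i := stepQ 70628 Q70628 (allL N70628 (tt N79059 F359567) (tt N105789 F451726) (tt N54744 F349128) (tt N38972 F217979) (tt N54740 (iv4 F349129)) (tt N105798 (iv5 F451767)) (tt N70763 (iv6 F218293)) (tt N38967 (iv7 D135556)))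
theorem Q70630 : ∀ i, i < 70630 → P i := stepQ 70629 Q70629 (allL N70629 (tt N70445 (iv1 F217985)) (tt N38968 (iv0 D135557)) (tt N70442 F371312) (tt N97889 (iv3 F418677)) (tt N78950 (iv4 F437666)) (tt N100328 (iv5 F432784)) (tt N105799 D208999) (tt N70443 F371310))
theorem Q70631 : ∀ i, i < 70631 → P i := stepQ 70630 Q70630 (allL N70630 (tt N38968 (iv1 D135558)) (tt N70445 F217980) (tt N70443 (iv2 F371309)) (tt N68195 (iv3 F367913)) (tt N78951 (iv4 F367914)) (tt N100329 F428443) (tt N68194 F367912) (tt N70442 (iv7 F371311)))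
theorem Q70632 : ∀ i, i < 70632 → P i := stepQ 70631 Q70631 (allL N70631 (tt N105800 D209000) (tt N105801 D209001) (tt N70444 F217981) (tt N105792 (iv3 F451738)) (tt N105010 (iv4 F448350)) (tt N38968 (iv5 D135559)) (tt N38971 F217982) (tt N105007 (iv7 F448340)))
theorem Q70633 : ∀ i, i < 70633 → P i := stepQ 70632 Q70632 (allL N70632 (tt N70443 (iv1 F217986)) (tt N70442 F217987) (tt N70445 F217983) (tt N105793 (iv3 F451743)) (tt N69154 F217984) (tt N105007 (iv5 F448339)) (tt N70767 (iv6 F218299)) (tt N38968 (iv7 D135560)))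
theorem Q70634 : ∀ i, i < 70634 → P i := stepQ 70633 Q70633 (allL N70633 (tt N79055 F328381) (tt N79054 F328382) (tt N79056 F328383) (tt N38969 (iv3 D135561)) (tt N69106 F217988) (tt N92864 (iv5 F398571)) (tt N70468 F217989) (tt N42388 F328384))
theorem Q70635 : ∀ i, i < 70635 → P i := stepQ 70634 Q70634 (allL N70634 (tt N86199 F375354) (tt N100323 (iv0 F428424)) (tt N70447 F217991) (tt N92864 (iv3 F398570)) (tt N71310 F362776) (tt N38969 (iv5 D135562)) (tt N71309 (iv6 F362775)) (tt N70448 F217992))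
theorem Q70636 : ∀ i, i < 70636 → P i := stepQ 70635 Q70635 (allL N70635 (tt N68317 (iv1 F358069)) (tt N105802 D209002) (tt N79052 F362199) (tt N38970 (iv3 D135563)) (tt N54250 (iv4 F328115)) (tt N89864 (iv5 F387782)) (tt N79051 (iv6 F345493)) (tt N70446 F217994))
theorem Q70637 : ∀ i, i < 70637 → P i := stepQ 70636 Q70636 (allL N70636 (tt N100323 F428425) (tt N86199 (iv0 F375353)) (tt N70448 F217995) (tt N89864 F387785) (tt N89773 (iv4 F387509)) (tt N38970 (iv5 D135564)) (tt N43241 F352119) (tt N70447 F217996))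
theorem Q70638 : ∀ i, i < 70638 → P i := stepQ 70637 Q70637 (allL N70637 (tt N38971 (iv1 D135566)) (tt N70451 F218000) (tt N70449 (iv2 F218003)) (tt N105803 D209003) (tt N105804 D209004) (tt N68189 F218002) (tt N105805 D209005) (tt N68188 F218001))
theorem Q70639 : ∀ i, i < 70639 → P i := stepQ 70638 Q70638 (allL N70638 (tt N75652 F339351) (tt N105806 D209006) (tt N70450 F218004) (tt N105807 D209007) (tt N38971 (iv4 D135567)) (tt N105808 D209008) (tt N105010 (iv6 F448351)) (tt N68395 (iv7 F352116)))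
theorem Q70640 : ∀ i, i < 70640 → P i := stepQ 70639 Q70639 (allL N70639 (tt N70449 (iv1 F218007)) (tt N68188 F218008) (tt N70451 F218005) (tt N105798 (iv3 F451765)) (tt N68395 (iv4 F352115)) (tt N38972 F218006) (tt N68394 F352117) (tt N38971 (iv7 D135568)))
theorem Q70641 : ∀ i, i < 70641 → P i := stepQ 70640 Q70640 (allL N70640 (tt N70808 F361249) (tt N70795 (iv0 F361749)) (tt N70806 F371510) (tt N38973 (iv3 D135569)) (tt N67341 F218009) (tt N105809 D209009) (tt N70473 F218010) (tt N60879 (iv7 F327990)))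
theorem Q70642 : ∀ i, i < 70642 → P i := stepQ 70641 Q70641 (allL N70641 (tt N104059 (iv1 F443969)) (tt N104057 (iv0 F443959)) (tt N70454 F218012) (tt N105809 (iv3 F451827)) (tt N105810 D209010) (tt N38973 (iv5 D135570)) (tt N105811 D209011) (tt N60881 (iv7 F327992)))
theorem Q70643 : ∀ i, i < 70643 → P i := stepQ 70642 Q70642 (allL N70642 (tt N71216 (iv1 F219632)) (tt N70962 F218937) (tt N70455 F218014) (tt N89201 (iv3 F385557)) (tt N38974 (iv4 D135571)) (tt N105812 D209012) (tt N71860 F220761) (tt N70456 F218015))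
theorem Q70644 : ∀ i, i < 70644 → P i := stepQ 70643 Q70643 (allL N70643 (tt N38997 F339344) (tt N70704 F339345) (tt N70702 (iv2 F363817)) (tt N38975 (iv3 D135572)) (tt N67556 (iv4 F363936)) (tt N61462 F339340) (tt N60870 (iv6 F339341)) (tt N70453 F218017))
theorem Q70645 : ∀ i, i < 70645 → P i := stepQ 70644 Q70644 (allL N70644 (tt N104057 (iv1 F443960)) (tt N104059 (iv0 F443968)) (tt N60881 (iv2 F327991)) (tt N61462 (iv3 F339339)) (tt N105813 D209013) (tt N38975 (iv5 D135573)) (tt N61230 F339338) (tt N70454 F218019))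
theorem Q70646 : ∀ i, i < 70646 → P i := stepQ 70645 Q70645 (allL N70645 (tt N38978 (iv1 D135576)) (tt N39285 F218028) (tt N39435 (iv2 F218031)) (tt N82727 (iv3 F352695)) (tt N70215 F218030) (tt N82716 F352700) (tt N78090 F245935) (tt N39434 F218029))
theorem Q70647 : ∀ i, i < 70647 → P i := stepQ 70646 Q70646 (allL N70646 (tt N105814 D209014) (tt N101616 (iv0 F433570)) (tt N105815 D209015) (tt N38978 (iv3 D135577)) (tt N77911 (iv4 F245277)) (tt N100876 (iv5 F430846)) (tt N39116 F218032) (tt N105816 D209016))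
theorem Q70648 : ∀ i, i < 70648 → P i := stepQ 70647 Q70647 (allL N70647 (tt N105817 D209017) (tt N72124 (iv0 F221388)) (tt N39436 F218033) (tt N100876 F430848) (tt N105818 D209018) (tt N38978 (iv5 D135578)) (tt N71926 (iv6 F220955)) (tt N105819 D209019))
theorem Q70649 : ∀ i, i < 70649 → P i := stepQ 70648 Q70648 (allL N70648 (tt N39435 (iv1 F218037)) (tt N39434 F218038) (tt N39285 F218034) (tt N105816 (iv3 F451853)) (tt N38979 F218035) (tt N105819 (iv5 F451873)) (tt N39424 F218036) (tt N38978 (iv7 D135579)))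
theorem Q70650 : ∀ i, i < 70650 → P i := stepQ 70649 Q70649 (allL N70649 (tt N38998 (iv1 F218112)) (tt N70700 F218137) (tt N70662 (iv2 F218061)) (tt N38980 (iv3 D135580)) (tt N61724 F218039) (tt N39054 F218043) (tt N55758 (iv6 F333517)) (tt N70665 (iv7 F218073)))
theorem Q70651 : ∀ i, i < 70651 → P i := stepQ 70650 Q70650 (allL N70650 (tt N93072 (iv1 F399363)) (tt N93059 F399327) (tt N60966 (iv2 F326354)) (tt N88257 (iv3 F382382)) (tt N38980 (iv4 D135581)) (tt N88254 (iv5 F382367)) (tt N55759 F365812) (tt N70785 (iv7 F218387)))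
theorem Q70652 : ∀ i, i < 70652 → P i := stepQ 70651 Q70651 (allL N70651 (tt N70683 (iv1 F218103)) (tt N39000 F218042) (tt N60968 F326367) (tt N39054 (iv3 F218041)) (tt N104684 (iv4 F446857)) (tt N38980 (iv5 D135582)) (tt N42361 F326368) (tt N70663 (iv7 F218065)))
theorem Q70653 : ∀ i, i < 70653 → P i := stepQ 70652 Q70652 (allL N70652 (tt N42380 F322885) (tt N60843 F322886) (tt N38983 F218044) (tt N41764 F323480) (tt N68868 (iv4 F218045)) (tt N38982 (iv5 D135585)) (tt N74903 (iv6 F363920)) (tt N60841 (iv7 F321193)))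
theorem Q70654 : ∀ i, i < 70654 → P i := stepQ 70653 Q70653 (allL N70653 (tt N76242 F405875) (tt N76245 (iv0 F365711)) (tt N74903 F363921) (tt N38985 F218049) (tt N103661 (iv4 F442404)) (tt N94771 (iv5 F405872)) (tt N38983 (iv6 D135588)) (tt N105820 D209020))
theorem Q70655 : ∀ i, i < 70655 → P i := stepQ 70654 Q70654 (allL N70654 (tt N105821 D209021) (tt N98338 (iv0 F420544)) (tt N60916 (iv2 F365923)) (tt N38986 F218050) (tt N105822 D209022) (tt N38984 (iv5 D135591)) (tt N94771 F405874) (tt N60917 F365727))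
theorem Q70656 : ∀ i, i < 70656 → P i := stepQ 70655 Q70655 (allL N70655 (tt N70781 (iv1 F218376)) (tt N38985 (iv0 D135593)) (tt N68330 (iv2 F364477)) (tt N105823 D209023) (tt N69152 (iv4 F347277)) (tt N76226 (iv5 F420748)) (tt N105824 D209024) (tt N70779 F364476))
theorem Q70657 : ∀ i, i < 70657 → P i := stepQ 70656 Q70656 (allL N70656 (tt N105825 D209025) (tt N105826 D209026) (tt N70780 (iv2 F218370)) (tt N94771 F405873) (tt N105827 D209027) (tt N38985 (iv5 D135595)) (tt N38986 F218052) (tt N105828 D209028))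
theorem Q70658 : ∀ i, i < 70658 → P i := stepQ 70657 Q70657 (allL N70657 (tt N70779 (iv1 F218369)) (tt N68330 (iv0 F355295)) (tt N70781 (iv2 F218372)) (tt N105820 (iv3 F451877)) (tt N102591 (iv4 F437824)) (tt N105828 (iv5 F451909)) (tt N70792 (iv6 F218420)) (tt N38985 (iv7 D135596)))
theorem Q70659 : ∀ i, i < 70659 → P i := stepQ 70658 Q70658 (allL N70658 (tt N38986 (iv1 D135597)) (tt N70784 F218384) (tt N70782 F218380) (tt N105829 D209029) (tt N105806 (iv4 F451812)) (tt N68174 (iv5 F218054)) (tt N98332 F420527) (tt N68173 F218053))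
theorem Q70660 : ∀ i, i < 70660 → P i := stepQ 70659 Q70659 (allL N70659 (tt N104071 (iv1 F444034)) (tt N105678 (iv0 F451219)) (tt N70783 (iv2 F218381)) (tt N89758 (iv3 F387448)) (tt N38986 (iv4 D135598)) (tt N105830 D209030) (tt N105827 (iv6 F451906)) (tt N89752 F387434))
theorem Q70661 : ∀ i, i < 70661 → P i := stepQ 70660 Q70660 (allL N70660 (tt N70782 (iv1 F218377)) (tt N68173 (iv0 F218056)) (tt N70784 (iv2 F218382)) (tt N60917 (iv3 F365726)) (tt N89752 (iv4 F387433)) (tt N38987 F218055) (tt N89751 (iv6 F387424)) (tt N38986 (iv7 D135599)))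
theorem Q70662 : ∀ i, i < 70662 → P i := stepQ 70661 Q70661 (allL N70661 (tt N105408 F450118) (tt N70594 (iv0 F218060)) (tt N69887 F218057) (tt N69184 F218058) (tt N38988 (iv4 D135600)) (tt N99542 F425071) (tt N81463 (iv6 F364849)) (tt N70051 F218059))
theorem Q70663 : ∀ i, i < 70663 → P i := stepQ 70662 Q70662 (allL N70662 (tt N70689 (iv1 F218114)) (tt N39002 (iv0 F218081)) (tt N70649 F218061) (tt N69186 F218062) (tt N61684 (iv4 F218078)) (tt N38988 (iv5 D135601)) (tt N74899 F336806) (tt N70688 F218110))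
theorem Q70664 : ∀ i, i < 70664 → P i := stepQ 70663 Q70663 (allL N70663 (tt N60838 (iv1 F326362)) (tt N38996 F218067) (tt N69179 F218064) (tt N38989 (iv3 D135603)) (tt N103836 (iv4 F443021)) (tt N39061 (iv5 F218066)) (tt N100778 F430428) (tt N70651 F218065))
theorem Q70665 : ∀ i, i < 70665 → P i := stepQ 70664 Q70664 (allL N70664 (tt N70594 F218070) (tt N105408 (iv0 F450117)) (tt N70051 F218068) (tt N69736 (iv3 F218071)) (tt N38989 (iv4 D135604)) (tt N105831 D209031) (tt N105832 D209032) (tt N69887 F218069))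
theorem Q70666 : ∀ i, i < 70666 → P i := stepQ 70665 Q70665 (allL N70665 (tt N39002 (iv1 F218082)) (tt N70689 F218115) (tt N70688 F218109) (tt N39061 F218072) (tt N61685 (iv4 F218074)) (tt N38989 (iv5 D135605)) (tt N70619 (iv6 F333233)) (tt N70649 F218073))
theorem Q70667 : ∀ i, i < 70667 → P i := stepQ 70666 Q70666 (allL N70666 (tt N55719 F333242) (tt N55733 F333244) (tt N55732 (iv2 F339444)) (tt N100778 (iv3 F430430)) (tt N105832 (iv4 F451927)) (tt N72775 (iv5 F334968)) (tt N38989 (iv6 D135606)) (tt N55731 (iv7 F336804)))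
theorem Q70668 : ∀ i, i < 70668 → P i := stepQ 70667 Q70667 (allL N70667 (tt N41766 (iv1 F339426)) (tt N41740 F339423) (tt N38991 F218083) (tt N60841 (iv3 F321190)) (tt N74905 (iv4 F333169)) (tt N38990 (iv5 D135607)) (tt N105833 D209033) (tt N41764 F323482))
theorem Q70669 : ∀ i, i < 70669 → P i := stepQ 70668 Q70668 (allL N70668 (tt N105834 D209034) (tt N83625 F363182) (tt N38992 F218084) (tt N70786 (iv3 F218406)) (tt N105078 (iv4 F448678)) (tt N105835 D209035) (tt N38990 (iv6 D135608)) (tt N105836 D209036))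
theorem Q70670 : ∀ i, i < 70670 → P i := stepQ 70669 Q70669 (allL N70669 (tt N41764 (iv1 F321769)) (tt N38991 (iv0 D135609)) (tt N41766 F319933) (tt N50268 F319934) (tt N61676 F218085) (tt N68343 F218087) (tt N50255 F319935) (tt N41740 F319936))
theorem Q70671 : ∀ i, i < 70671 → P i := stepQ 70670 Q70670 (allL N70670 (tt N70730 (iv1 F355831)) (tt N70728 (iv0 F218194)) (tt N74905 F333174) (tt N45086 F333175) (tt N38991 (iv4 D135611)) (tt N45077 F333176) (tt N74909 F333177) (tt N45076 F333178))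
theorem Q70672 : ∀ i, i < 70672 → P i := stepQ 70671 Q70671 (allL N70671 (tt N105837 D209037) (tt N61552 (iv0 F336809)) (tt N105833 (iv2 F451929)) (tt N38993 F218088) (tt N74909 (iv4 F364744)) (tt N104213 F444726) (tt N38991 (iv6 D135612)) (tt N74907 F364742))
theorem Q70673 : ∀ i, i < 70673 → P i := stepQ 70672 Q70672 (allL N70672 (tt N105836 (iv1 F451954)) (tt N38992 (iv0 D135613)) (tt N105834 F451938) (tt N83627 F331843) (tt N71499 F363979) (tt N76412 (iv5 F369358)) (tt N71498 (iv6 F363978)) (tt N83625 (iv7 F331844)))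
theorem Q70674 : ∀ i, i < 70674 → P i := stepQ 70673 Q70673 (allL N70673 (tt N38992 (iv1 D135614)) (tt N105836 F451953) (tt N83625 F373766) (tt N95895 (iv3 F410133)) (tt N105838 D209038) (tt N86529 (iv5 F376440)) (tt N83623 (iv6 F373765)) (tt N105834 (iv7 F451941)))
theorem Q70675 : ∀ i, i < 70675 → P i := stepQ 70674 Q70674 (allL N70674 (tt N86534 (iv1 F376449)) (tt N86532 (iv0 F376446)) (tt N105835 (iv2 F451943)) (tt N38994 F218089) (tt N53054 F376441) (tt N38992 (iv5 D135615)) (tt N104213 F444727) (tt N105839 D209039))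
theorem Q70676 : ∀ i, i < 70676 → P i := stepQ 70675 Q70675 (allL N70675 (tt N83625 F363181) (tt N105834 F451942) (tt N105836 (iv2 F451948)) (tt N38995 F218090) (tt N105082 (iv4 F448704)) (tt N105839 (iv5 F451969)) (tt N70778 (iv6 F218368)) (tt N38992 (iv7 D135616)))
theorem Q70677 : ∀ i, i < 70677 → P i := stepQ 70676 Q70676 (allL N70676 (tt N38993 (iv1 D135618)) (tt N70792 F218422) (tt N70613 (iv2 F370292)) (tt N104841 (iv3 F447550)) (tt N102455 F437284) (tt N105840 D209040) (tt N76544 (iv6 F363794)) (tt N70790 F370291))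
theorem Q70678 : ∀ i, i < 70678 → P i := stepQ 70677 Q70677 (allL N70677 (tt N68144 F363793) (tt N104187 F444591) (tt N70791 (iv2 F218417)) (tt N104213 F444725) (tt N83747 (iv4 F344974)) (tt N38993 (iv5 D135619)) (tt N38994 F218091) (tt N85797 (iv7 F373991)))
theorem Q70679 : ∀ i, i < 70679 → P i := stepQ 70678 Q70678 (allL N70678 (tt N70613 (iv1 F344976)) (tt N70790 F218421) (tt N70792 (iv2 F218419)) (tt N74907 (iv3 F364741)) (tt N102577 (iv4 F437738)) (tt N85797 F373992) (tt N70781 (iv6 F218373)) (tt N38993 (iv7 D135620)))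
theorem Q70680 : ∀ i, i < 70680 → P i := stepQ 70679 Q70679 (allL N70679 (tt N70794 (iv1 F218428)) (tt N38994 (iv0 D135621)) (tt N41649 F329184) (tt N52044 F364632) (tt N52052 (iv4 F333584)) (tt N59739 F218092) (tt N41623 F329186) (tt N68212 (iv7 F218094)))
theorem Q70681 : ∀ i, i < 70681 → P i := stepQ 70680 Q70680 (allL N70680 (tt N38994 (iv1 D135622)) (tt N70794 F218427) (tt N68212 (iv2 F218097)) (tt N87134 (iv3 F378487)) (tt N104091 (iv4 F444133)) (tt N59745 F218096) (tt N69588 F364667) (tt N41649 F329187))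
theorem Q70682 : ∀ i, i < 70682 → P i := stepQ 70681 Q70681 (allL N70681 (tt N100299 (iv1 F428318)) (tt N100298 F428316) (tt N70793 (iv2 F218424)) (tt N105841 D209041) (tt N38994 (iv4 D135623)) (tt N83788 F345004) (tt N83747 (iv6 F344972)) (tt N68477 (iv7 F344965)))
theorem Q70683 : ∀ i, i < 70683 → P i := stepQ 70682 Q70682 (allL N70682 (tt N68212 (iv1 F218099)) (tt N41649 F329182) (tt N70794 (iv2 F218425)) (tt N105839 (iv3 F451967)) (tt N68477 (iv4 F344964)) (tt N38995 F218098) (tt N68476 (iv6 F362433)) (tt N38994 (iv7 D135624)))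
theorem Q70684 : ∀ i, i < 70684 → P i := stepQ 70683 Q70683 (allL N70683 (tt N69179 (iv1 F218104)) (tt N70651 F218103) (tt N38996 (iv2 D135625)) (tt N70700 (iv3 F218134)) (tt N55841 F218101) (tt N55712 (iv5 F333521)) (tt N75709 (iv6 F364691)) (tt N60838 (iv7 F326366)))
theorem Q70685 : ∀ i, i < 70685 → P i := stepQ 70684 Q70684 (allL N70684 (tt N75711 F325506) (tt N45058 F325507) (tt N75709 F364692) (tt N38997 F218105) (tt N104440 (iv4 F445776)) (tt N98605 F421542) (tt N38996 (iv6 D135626)) (tt N75710 (iv7 F364721)))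
theorem Q70686 : ∀ i, i < 70686 → P i := stepQ 70685 Q70685 (allL N70685 (tt N70704 (iv1 F218147)) (tt N38997 (iv0 D135627)) (tt N70453 (iv2 F339347)) (tt N70806 (iv3 F371511)) (tt N67555 (iv4 F418948)) (tt N105842 D209042) (tt N98747 F422134) (tt N70702 (iv7 F363819)))
theorem Q70687 : ∀ i, i < 70687 → P i := stepQ 70686 Q70686 (allL N70686 (tt N98421 F420880) (tt N105829 (iv0 F451913)) (tt N70703 (iv2 F218142)) (tt N98605 (iv3 F421545)) (tt N101032 F431371) (tt N38997 (iv5 D135629)) (tt N68652 F218106) (tt N105843 D209043))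
theorem Q70688 : ∀ i, i < 70688 → P i := stepQ 70687 Q70687 (allL N70687 (tt N70702 (iv1 F218141)) (tt N70453 (iv0 F363815)) (tt N70704 (iv2 F218143)) (tt N75710 F364724) (tt N102511 (iv4 F437478)) (tt N105843 (iv5 F451990)) (tt N70699 (iv6 F218130)) (tt N38997 (iv7 D135630)))
theorem Q70689 : ∀ i, i < 70689 → P i := stepQ 70688 Q70688 (allL N70688 (tt N70700 (iv1 F218136)) (tt N38998 (iv0 D135631)) (tt N70665 (iv2 F218109)) (tt N67935 F218107) (tt N61723 F218108) (tt N39053 F218111) (tt N70754 F333497) (tt N70662 (iv7 F218110)))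
theorem Q70690 : ∀ i, i < 70690 → P i := stepQ 70689 Q70689 (allL N70689 (tt N70665 (iv1 F218115)) (tt N70662 F218114) (tt N38998 (iv2 D135632)) (tt N60838 (iv3 F326364)) (tt N61713 F218116) (tt N60837 F363645) (tt N105844 D209044) (tt N70700 (iv7 F218135)))
theorem Q70691 : ∀ i, i < 70691 → P i := stepQ 70690 Q70690 (allL N70690 (tt N70619 F218118) (tt N70616 (iv0 F218119)) (tt N61713 F218117) (tt N78942 (iv3 F349084)) (tt N38998 (iv4 D135633)) (tt N62826 F335173) (tt N92169 F396070) (tt N70701 (iv7 F218139)))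
theorem Q70692 : ∀ i, i < 70692 → P i := stepQ 70691 Q70691 (allL N70691 (tt N105845 D209045) (tt N104046 (iv0 F443923)) (tt N105844 (iv2 F451992)) (tt N38999 F218120) (tt N92169 (iv4 F396069)) (tt N105846 D209046) (tt N38998 (iv6 D135634)) (tt N105847 D209047))
theorem Q70693 : ∀ i, i < 70693 → P i := stepQ 70692 Q70692 (allL N70692 (tt N38999 (iv1 D135636)) (tt N70699 F218132) (tt N70697 (iv2 F378534)) (tt N70815 F378535) (tt N88761 (iv4 F384068)) (tt N87538 (iv5 F379690)) (tt N98741 (iv6 F422104)) (tt N70696 F378533))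
theorem Q70694 : ∀ i, i < 70694 → P i := stepQ 70693 Q70693 (allL N70693 (tt N52044 F379674) (tt N87530 F379675) (tt N70698 (iv2 F218128)) (tt N105846 (iv3 F452005)) (tt N87645 (iv4 F379985)) (tt N38999 (iv5 D135637)) (tt N97964 F418988) (tt N105848 D209048))
theorem Q70695 : ∀ i, i < 70695 → P i := stepQ 70694 Q70694 (allL N70694 (tt N70697 (iv1 F218127)) (tt N70696 F218131) (tt N70699 (iv2 F218129)) (tt N105847 (iv3 F452009)) (tt N87847 F380820) (tt N105848 (iv5 F452015)) (tt N70704 (iv6 F218144)) (tt N38999 (iv7 D135638)))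
theorem Q70696 : ∀ i, i < 70696 → P i := stepQ 70695 Q70695 (allL N70695 (tt N94022 F402849) (tt N83669 (iv0 F360350)) (tt N97917 (iv2 F418795)) (tt N39001 F218126) (tt N92267 (iv4 F396522)) (tt N93119 (iv5 F399575)) (tt N39000 (iv6 D135640)) (tt N105849 D209049))
theorem Q70697 : ∀ i, i < 70697 → P i := stepQ 70696 Q70696 (allL N70696 (tt N70694 (iv1 F218131)) (tt N39001 (iv0 D135641)) (tt N70041 (iv2 F365390)) (tt N105850 D209050) (tt N69020 F384124) (tt N105851 D209051) (tt N99756 (iv6 F426083)) (tt N70692 (iv7 F378533)))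
theorem Q70698 : ∀ i, i < 70698 → P i := stepQ 70697 Q70697 (allL N70697 (tt N39001 (iv1 D135642)) (tt N70694 F218127) (tt N70692 F378534) (tt N39052 F365385) (tt N69021 (iv4 F384120)) (tt N52072 F365387) (tt N70020 F365388) (tt N70041 F365389))
theorem Q70699 : ∀ i, i < 70699 → P i := stepQ 70698 Q70698 (allL N70698 (tt N74167 (iv1 F366985)) (tt N87133 (iv0 F378484)) (tt N70693 F218128) (tt N93119 (iv3 F399573)) (tt N52242 F365384) (tt N39001 (iv5 D135643)) (tt N93012 (iv6 F399115)) (tt N87514 F379618))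
theorem Q70700 : ∀ i, i < 70700 → P i := stepQ 70699 Q70699 (allL N70699 (tt N70692 (iv1 F218132)) (tt N70041 (iv0 F378531)) (tt N70694 F218129) (tt N105849 (iv3 F452018)) (tt N102616 (iv4 F437907)) (tt N87514 F379619) (tt N70687 F218130) (tt N39001 (iv7 D135644)))
theorem Q70701 : ∀ i, i < 70701 → P i := stepQ 70700 Q70700 (allL N70700 (tt N70649 (iv1 F218137)) (tt N70688 F218136) (tt N39002 (iv2 D135645)) (tt N70683 F218134) (tt N98737 (iv4 F422088)) (tt N74918 (iv5 F335882)) (tt N97979 (iv6 F419046)) (tt N70689 F218135))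
theorem Q70702 : ∀ i, i < 70702 → P i := stepQ 70701 Q70701 (allL N70701 (tt N60954 (iv1 F333505)) (tt N70754 (iv0 F218271)) (tt N98737 (iv2 F422087)) (tt N66121 F218138) (tt N39002 (iv4 D135646)) (tt N78888 (iv5 F335167)) (tt N50248 F363811) (tt N70690 F218139))
theorem Q70703 : ∀ i, i < 70703 → P i := stepQ 70702 Q70702 (allL N70702 (tt N39003 (iv1 D135649)) (tt N70687 F218141) (tt N70643 F363817) (tt N97949 (iv3 F418927)) (tt N102437 F437231) (tt N97974 (iv5 F419031)) (tt N41855 F363818) (tt N70685 F363819))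
theorem Q70704 : ∀ i, i < 70704 → P i := stepQ 70703 Q70703 (allL N70703 (tt N104055 (iv1 F443951)) (tt N105852 D209052) (tt N70686 F218142) (tt N97981 (iv3 F419059)) (tt N105853 D209053) (tt N39003 (iv5 D135650)) (tt N102527 (iv6 F437512)) (tt N105854 D209054))
theorem Q70705 : ∀ i, i < 70705 → P i := stepQ 70704 Q70704 (allL N70704 (tt N70643 (iv1 F339345)) (tt N70685 F218147) (tt N70687 F218143) (tt N97980 (iv3 F419057)) (tt N97809 (iv4 F418384)) (tt N105854 (iv5 F452046)) (tt N70694 F218144) (tt N39003 (iv7 D135651)))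
theorem Q70706 : ∀ i, i < 70706 → P i := stepQ 70705 Q70705 (allL N70705 (tt N70829 (iv1 F218516)) (tt N39004 (iv0 D135652)) (tt N70826 (iv2 F359191)) (tt N105855 D209055) (tt N60730 (iv4 F359185)) (tt N105856 D209056) (tt N60729 F359194) (tt N70827 (iv7 F359193)))
theorem Q70707 : ∀ i, i < 70707 → P i := stepQ 70706 Q70706 (allL N70706 (tt N39004 (iv1 D135653)) (tt N70829 F218515) (tt N70827 F359192) (tt N105857 D209057) (tt N75063 (iv4 F359189)) (tt N105858 D209058) (tt N105859 D209059) (tt N70826 F359190))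
theorem Q70708 : ∀ i, i < 70708 → P i := stepQ 70707 Q70707 (allL N70707 (tt N105860 D209060) (tt N105861 D209061) (tt N70828 (iv2 F218509)) (tt N69145 F218148) (tt N91988 (iv4 F395269)) (tt N39004 (iv5 D135654)) (tt N69145 F218149) (tt N103833 (iv7 F443015)))
theorem Q70709 : ∀ i, i < 70709 → P i := stepQ 70708 Q70708 (allL N70708 (tt N102620 F437929) (tt N66137 F364262) (tt N70830 F364258) (tt N105862 D209062) (tt N39005 (iv4 D135657)) (tt N91992 (iv5 F395286)) (tt N41856 F329784) (tt N70832 F364257))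
theorem Q70710 : ∀ i, i < 70710 → P i := stepQ 70709 Q70709 (allL N70709 (tt N66137 F364215) (tt N102620 F437930) (tt N70832 F364260) (tt N100779 (iv3 F430433)) (tt N39006 (iv4 D135662)) (tt N105863 D209063) (tt N105864 D209064) (tt N70830 (iv7 F364261)))
theorem Q70711 : ∀ i, i < 70711 → P i := stepQ 70710 Q70710 (allL N70710 (tt N97972 F419026) (tt N99756 F426081) (tt N70833 F362732) (tt N41753 F335972) (tt N105864 (iv4 F452064)) (tt N98390 (iv5 F420740)) (tt N39006 (iv6 D135664)) (tt N41864 F335973))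
theorem Q70712 : ∀ i, i < 70712 → P i := stepQ 70711 Q70711 (allL N70711 (tt N55732 F339448) (tt N55731 F355710) (tt N55733 F355709) (tt N39008 (iv3 D135668)) (tt N70426 F218156) (tt N55803 (iv5 F355708)) (tt N105865 D209065) (tt N55719 (iv7 F327838)))
theorem Q70713 : ∀ i, i < 70713 → P i := stepQ 70712 Q70712 (allL N70712 (tt N60902 (iv1 F363779)) (tt N60901 (iv0 F363757)) (tt N60900 (iv2 F327848)) (tt N105865 (iv3 F452068)) (tt N66376 F218157) (tt N76809 (iv5 F363770)) (tt N39008 (iv6 D135670)) (tt N60858 F363771))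
theorem Q70714 : ∀ i, i < 70714 → P i := stepQ 70713 Q70713 (allL N70713 (tt N60899 (iv1 F328635)) (tt N39009 (iv0 D135671)) (tt N61384 (iv2 F338668)) (tt N44611 F338633) (tt N75479 F338637) (tt N74804 F338630) (tt N44609 F338634) (tt N70834 (iv7 F338654)))
theorem Q70715 : ∀ i, i < 70715 → P i := stepQ 70714 Q70714 (allL N70714 (tt N68205 (iv1 F362424)) (tt N70606 F339558) (tt N70562 F218169) (tt N105866 D209066) (tt N39011 (iv4 D135677)) (tt N63465 F339559) (tt N68175 F218170) (tt N70837 (iv7 F218546)))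
theorem Q70716 : ∀ i, i < 70716 → P i := stepQ 70715 Q70715 (allL N70715 (tt N60294 F218175) (tt N93090 (iv0 F399440)) (tt N60543 F218171) (tt N70572 F218172) (tt N105867 D209067) (tt N39013 (iv5 D135678)) (tt N55641 F218173) (tt N60315 F218174))
theorem Q70717 : ∀ i, i < 70717 → P i := stepQ 70716 Q70716 (allL N70716 (tt N102079 F435628) (tt N103365 F441300) (tt N56551 F330444) (tt N39018 (iv3 D135681)) (tt N56549 (iv4 F330443)) (tt N102212 (iv5 F436211)) (tt N105868 D209068) (tt N56556 F330440))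
theorem Q70718 : ∀ i, i < 70718 → P i := stepQ 70717 Q70717 (allL N70717 (tt N103414 (iv1 F441517)) (tt N70618 (iv0 F218184)) (tt N102528 (iv2 F437517)) (tt N60742 (iv3 F342935)) (tt N39018 (iv4 D135682)) (tt N104161 (iv5 F444483)) (tt N60739 F342937) (tt N103357 (iv7 F441262)))
theorem Q70719 : ∀ i, i < 70719 → P i := stepQ 70718 Q70718 (allL N70718 (tt N103369 (iv1 F441319)) (tt N97951 (iv0 F418943)) (tt N103360 (iv2 F441275)) (tt N105868 (iv3 F452090)) (tt N60739 (iv4 F342938)) (tt N105869 D209069) (tt N39018 (iv6 D135684)) (tt N103368 (iv7 F441315)))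
theorem Q70720 : ∀ i, i < 70720 → P i := stepQ 70719 Q70719 (allL N70719 (tt N103379 (iv1 F441365)) (tt N98015 (iv0 F436371)) (tt N103378 F441360) (tt N39019 (iv3 D135686)) (tt N103392 (iv4 F441412)) (tt N102211 (iv5 F436208)) (tt N105870 D209070) (tt N103359 (iv7 F441271)))
theorem Q70721 : ∀ i, i < 70721 → P i := stepQ 70720 Q70720 (allL N70720 (tt N70618 F333483) (tt N103414 (iv0 F441516)) (tt N103357 (iv2 F441259)) (tt N60811 (iv3 F349620)) (tt N39019 (iv4 D135687)) (tt N60809 F349621) (tt N105871 D209071) (tt N102528 (iv7 F437520)))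
theorem Q70722 : ∀ i, i < 70722 → P i := stepQ 70721 Q70721 (allL N70721 (tt N98009 F419155) (tt N103387 F441394) (tt N103358 (iv2 F441265)) (tt N105870 (iv3 F452106)) (tt N105871 (iv4 F452114)) (tt N68011 F354365) (tt N39019 (iv6 D135689)) (tt N68010 (iv7 F354366)))
theorem Q70723 : ∀ i, i < 70723 → P i := stepQ 70722 Q70722 (allL N70722 (tt N45842 F330383) (tt N45844 F330384) (tt N39021 F218188) (tt N60024 (iv3 F343608)) (tt N45989 F330385) (tt N39020 (iv5 D135690)) (tt N45494 F330386) (tt N48286 (iv7 F330393)))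
theorem Q70724 : ∀ i, i < 70724 → P i := stepQ 70723 Q70723 (allL N70723 (tt N48286 (iv1 F330392)) (tt N39021 (iv0 D135691)) (tt N45842 F330375) (tt N105872 D209072) (tt N45820 F330376) (tt N97881 (iv5 F418652)) (tt N46463 F330377) (tt N45844 F330378))
theorem Q70725 : ∀ i, i < 70725 → P i := stepQ 70724 Q70724 (allL N70724 (tt N39021 (iv1 D135692)) (tt N48286 (iv0 F330391)) (tt N45844 F330379) (tt N105873 D209073) (tt N45727 F330380) (tt N102303 (iv5 F436621)) (tt N45726 F330381) (tt N45842 F330382))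
theorem Q70726 : ∀ i, i < 70726 → P i := stepQ 70725 Q70725 (allL N70725 (tt N65611 (iv1 F362864)) (tt N39022 (iv0 D135695)) (tt N93232 F400058) (tt N105874 D209074) (tt N67492 F354466) (tt N105875 D209075) (tt N65556 (iv6 F405919)) (tt N93233 (iv7 F400060)))
theorem Q70727 : ∀ i, i < 70727 → P i := stepQ 70726 Q70726 (allL N70726 (tt N39022 (iv1 D135696)) (tt N65611 F362860) (tt N93233 (iv2 F400062)) (tt N105876 D209076) (tt N67493 F362861) (tt N105877 D209077) (tt N105878 D209078) (tt N93232 (iv7 F400054)))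
theorem Q70728 : ∀ i, i < 70728 → P i := stepQ 70727 Q70727 (allL N70727 (tt N93233 (iv1 F400059)) (tt N93232 F400052) (tt N65611 (iv2 F343666)) (tt N45495 F330372) (tt N48287 F330373) (tt N56693 F218192) (tt N48287 F330374) (tt N39022 (iv7 D135697)))
theorem Q70729 : ∀ i, i < 70729 → P i := stepQ 70728 Q70728 (allL N70728 (tt N70670 F218194) (tt N41757 F333180) (tt N70590 (iv2 F355833)) (tt N105879 D209079) (tt N39023 (iv4 D135700)) (tt N99812 (iv5 F426344)) (tt N74902 F355834) (tt N70588 (iv7 F359584)))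
theorem Q70730 : ∀ i, i < 70730 → P i := stepQ 70729 Q70729 (allL N70729 (tt N92130 F395887) (tt N92720 F397971) (tt N92721 (iv2 F397968)) (tt N39024 (iv3 D135704)) (tt N105880 D209080) (tt N92721 (iv5 F397970)) (tt N92724 (iv6 F397985)) (tt N70589 (iv7 F349104)))
theorem Q70731 : ∀ i, i < 70731 → P i := stepQ 70730 Q70730 (allL N70730 (tt N41757 F355830) (tt N70670 F355831) (tt N70588 F359586) (tt N60835 F364859) (tt N39024 (iv4 D135705)) (tt N61506 F355832) (tt N105881 D209081) (tt N70590 (iv7 F349105)))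
theorem Q70732 : ∀ i, i < 70732 → P i := stepQ 70731 Q70731 (allL N70731 (tt N85005 (iv1 F371348)) (tt N50891 F367372) (tt N54739 (iv2 F349109)) (tt N92724 (iv3 F397983)) (tt N105881 (iv4 F452161)) (tt N50883 F349108) (tt N39024 (iv6 D135707)) (tt N53661 (iv7 F349107)))
theorem Q70733 : ∀ i, i < 70733 → P i := stepQ 70732 Q70732 (allL N70732 (tt N69912 (iv1 F218200)) (tt N69916 F218201) (tt N39026 F218197) (tt N68314 F218198) (tt N105408 (iv4 F450115)) (tt N39025 (iv5 D135708)) (tt N105882 D209082) (tt N70592 F218199))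
theorem Q70734 : ∀ i, i < 70734 → P i := stepQ 70733 Q70733 (allL N70733 (tt N39026 (iv1 D135710)) (tt N70592 F218204) (tt N69916 (iv2 F336853)) (tt N79707 F333486) (tt N69746 (iv4 F218207)) (tt N39041 F218209) (tt N100786 (iv6 F430467)) (tt N69912 F336860))
theorem Q70735 : ∀ i, i < 70735 → P i := stepQ 70734 Q70734 (allL N70734 (tt N70051 F218208) (tt N69887 (iv0 F218210)) (tt N105408 (iv2 F450114)) (tt N67550 F218205) (tt N39026 (iv4 D135711)) (tt N73927 F336885) (tt N105883 D209083) (tt N70594 F218206))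
theorem Q70736 : ∀ i, i < 70736 → P i := stepQ 70735 Q70735 (allL N70735 (tt N105794 F451748) (tt N92735 (iv0 F398031)) (tt N105882 (iv2 F452166)) (tt N39028 F218211) (tt N105883 (iv4 F452171)) (tt N105884 D209084) (tt N39026 (iv6 D135712)) (tt N97811 (iv7 F418388)))
theorem Q70737 : ∀ i, i < 70737 → P i := stepQ 70736 Q70736 (allL N70736 (tt N63017 F327876) (tt N75529 F327877) (tt N75543 F327878) (tt N39030 F218212) (tt N41778 F327879) (tt N39027 (iv5 D135715)) (tt N105884 (iv6 F452174)) (tt N75544 F327880))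
theorem Q70738 : ∀ i, i < 70738 → P i := stepQ 70737 Q70737 (allL N70737 (tt N105885 D209085) (tt N105886 D209086) (tt N68322 F218216) (tt N105884 (iv3 F452173)) (tt N103817 (iv4 F442947)) (tt N39028 (iv5 D135719)) (tt N39030 F218217) (tt N97812 (iv7 F418389)))
theorem Q70739 : ∀ i, i < 70739 → P i := stepQ 70738 Q70738 (allL N70738 (tt N105887 D209087) (tt N97886 (iv0 F418703)) (tt N98231 (iv2 F420072)) (tt N39029 (iv3 D135721)) (tt N67730 F218224) (tt N66799 F354429) (tt N104956 (iv6 F448133)) (tt N68190 F218225))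
theorem Q70740 : ∀ i, i < 70740 → P i := stepQ 70739 Q70739 (allL N70739 (tt N99105 (iv1 F423358)) (tt N43281 F365662) (tt N68325 F218226) (tt N66799 (iv3 F354428)) (tt N99158 (iv4 F423510)) (tt N39029 (iv5 D135722)) (tt N105888 D209088) (tt N68192 F218227))
theorem Q70741 : ∀ i, i < 70741 → P i := stepQ 70740 Q70740 (allL N70740 (tt N68329 (iv1 F218235)) (tt N39030 (iv0 D135723)) (tt N68326 F218316) (tt N103049 (iv3 F439842)) (tt N83252 F354432) (tt N70018 F218228) (tt N76706 F354421) (tt N68327 (iv7 F218314)))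
theorem Q70742 : ∀ i, i < 70742 → P i := stepQ 70741 Q70741 (allL N70741 (tt N39030 (iv1 D135724)) (tt N68329 F218229) (tt N68327 (iv2 F218313)) (tt N59639 (iv3 F354329)) (tt N58994 F354328) (tt N70036 (iv5 F218230)) (tt N105889 D209089) (tt N68326 F218317))
theorem Q70743 : ∀ i, i < 70743 → P i := stepQ 70742 Q70742 (allL N70742 (tt N89789 F442948) (tt N105890 D209090) (tt N68328 F218232) (tt N98384 (iv3 F420713)) (tt N39030 (iv4 D135725)) (tt N98798 (iv5 F422368)) (tt N103817 (iv6 F442946)) (tt N99153 (iv7 F423493)))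
theorem Q70744 : ∀ i, i < 70744 → P i := stepQ 70743 Q70743 (allL N70743 (tt N68327 (iv1 F218236)) (tt N68326 F218237) (tt N68329 F218233) (tt N75544 F365706) (tt N99153 (iv4 F423492)) (tt N39031 F218234) (tt N76721 F354440) (tt N39030 (iv7 D135726)))
theorem Q70745 : ∀ i, i < 70745 → P i := stepQ 70744 Q70744 (allL N70744 (tt N97634 F417708) (tt N70805 (iv0 F401538)) (tt N105823 (iv2 F451890)) (tt N39032 (iv3 D135727)) (tt N93679 (iv4 F401536)) (tt N82908 (iv5 F416547)) (tt N104948 (iv6 F448089)) (tt N68181 F218238))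
theorem Q70746 : ∀ i, i < 70746 → P i := stepQ 70745 Q70745 (allL N70745 (tt N76809 (iv1 F363769)) (tt N60903 (iv0 F363766)) (tt N68331 F218239) (tt N82908 F416554) (tt N99093 (iv4 F423311)) (tt N39032 (iv5 D135728)) (tt N82907 (iv6 F416555)) (tt N68184 F218240))
theorem Q70747 : ∀ i, i < 70747 → P i := stepQ 70746 Q70746 (allL N70746 (tt N61938 F218243) (tt N44193 (iv0 F218244)) (tt N68333 F218241) (tt N99482 (iv3 F424783)) (tt N39033 (iv4 D135729)) (tt N99002 (iv5 F423002)) (tt N78056 (iv6 F245619)) (tt N68334 F218242))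
theorem Q70748 : ∀ i, i < 70748 → P i := stepQ 70747 Q70747 (allL N70747 (tt N44193 F218248) (tt N61938 F218249) (tt N68334 F218245) (tt N94396 (iv3 F404263)) (tt N39034 (iv4 D135730)) (tt N98885 (iv5 F422692)) (tt N61838 F218246) (tt N68333 F218247))
theorem Q70749 : ∀ i, i < 70749 → P i := stepQ 70748 Q70748 (allL N70748 (tt N79154 F422827) (tt N98824 F429664) (tt N82087 (iv2 F366514)) (tt N39035 (iv3 D135733)) (tt N71105 (iv4 F219453)) (tt N98799 (iv5 F422372)) (tt N39037 F218251) (tt N99157 (iv7 F423507)))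
theorem Q70750 : ∀ i, i < 70750 → P i := stepQ 70749 Q70749 (allL N70749 (tt N82072 (iv1 F359215)) (tt N39037 (iv0 D135735)) (tt N82084 F404208) (tt N94387 F404206) (tt N101408 (iv4 F432872)) (tt N94387 (iv5 F404202)) (tt N105891 D209091) (tt N82085 (iv7 F404207)))
theorem Q70751 : ∀ i, i < 70751 → P i := stepQ 70750 Q70750 (allL N70750 (tt N39037 (iv1 D135736)) (tt N82072 F366516) (tt N82085 (iv2 F404209)) (tt N105892 D209092) (tt N101410 (iv4 F432887)) (tt N94388 (iv5 F404213)) (tt N89375 F404210) (tt N82084 F404211))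
theorem Q70752 : ∀ i, i < 70752 → P i := stepQ 70751 Q70751 (allL N70751 (tt N77838 F349772) (tt N77843 (iv0 F332972)) (tt N82086 (iv2 F359218)) (tt N39038 F218265) (tt N58340 (iv4 F332966)) (tt N39037 (iv5 D135738)) (tt N72849 F332968) (tt N77968 (iv7 F245444)))
theorem Q70753 : ∀ i, i < 70753 → P i := stepQ 70752 Q70752 (allL N70752 (tt N82085 (iv1 F366515)) (tt N82084 F359216) (tt N82072 F359213) (tt N39039 F218266) (tt N68865 F218267) (tt N77968 (iv5 F245443)) (tt N61947 (iv6 F218268)) (tt N39037 (iv7 D135739)))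
theorem Q70754 : ∀ i, i < 70754 → P i := stepQ 70753 Q70753 (allL N70753 (tt N99272 F423893) (tt N105893 D209093) (tt N68338 F218269) (tt N72849 (iv3 F364778)) (tt N94220 (iv4 F403749)) (tt N98800 (iv5 F422379)) (tt N39038 (iv6 D135740)) (tt N105894 D209094))
theorem Q70755 : ∀ i, i < 70755 → P i := stepQ 70754 Q70754 (allL N70754 (tt N70701 F218271) (tt N61713 (iv0 F218272)) (tt N70619 F333496) (tt N84971 F371215) (tt N39040 (iv4 D135742)) (tt N78934 (iv5 F336847)) (tt N70688 (iv6 F333497)) (tt N70616 F333493))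
theorem Q70756 : ∀ i, i < 70756 → P i := stepQ 70755 Q70755 (allL N70755 (tt N103357 (iv1 F441264)) (tt N102528 (iv0 F437521)) (tt N103414 (iv2 F441511)) (tt N39041 (iv3 D135745)) (tt N70800 (iv4 F218452)) (tt N79707 (iv5 F333485)) (tt N56264 F349024) (tt N70618 (iv7 F333484)))
theorem Q70757 : ∀ i, i < 70757 → P i := stepQ 70756 Q70756 (allL N70756 (tt N70622 (iv1 F218282)) (tt N56041 (iv0 F349090)) (tt N39043 F218279) (tt N67937 F218280) (tt N105895 D209095) (tt N39042 (iv5 D135748)) (tt N105896 D209096) (tt N70620 F218281))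
theorem Q70758 : ∀ i, i < 70758 → P i := stepQ 70757 Q70757 (allL N70757 (tt N92168 F396066) (tt N91034 (iv0 F391684)) (tt N39044 F218284) (tt N67938 F218285) (tt N91039 (iv4 F391714)) (tt N105897 D209097) (tt N39042 (iv6 D135749)) (tt N91037 (iv7 F391709)))
theorem Q70759 : ∀ i, i < 70759 → P i := stepQ 70758 Q70758 (allL N70758 (tt N71803 F359677) (tt N69820 (iv0 F366214)) (tt N105895 (iv2 F452228)) (tt N67781 F218288) (tt N39043 (iv4 D135752)) (tt N105898 D209098) (tt N105899 D209099) (tt N70623 F218289))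
theorem Q70760 : ∀ i, i < 70760 → P i := stepQ 70759 Q70759 (allL N70759 (tt N83966 F391772) (tt N83968 F391774) (tt N105896 (iv2 F452236)) (tt N39045 F218290) (tt N105899 (iv4 F452252)) (tt N94129 F403354) (tt N39043 (iv6 D135753)) (tt N105900 D209100))
theorem Q70761 : ∀ i, i < 70761 → P i := stepQ 70760 Q70760 (allL N70760 (tt N91037 F391710) (tt N39044 (iv0 D135754)) (tt N92168 (iv2 F396063)) (tt N105769 F451624) (tt N74893 (iv4 F359588)) (tt N105901 D209101) (tt N74859 F359587) (tt N91034 (iv7 F391683)))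
theorem Q70762 : ∀ i, i < 70762 → P i := stepQ 70761 Q70761 (allL N70761 (tt N39044 (iv1 D135755)) (tt N91037 F391711) (tt N91034 (iv2 F391680)) (tt N105902 D209102) (tt N92170 (iv4 F396074)) (tt N105903 D209103) (tt N85949 (iv6 F374571)) (tt N92168 (iv7 F396065)))
theorem Q70763 : ∀ i, i < 70763 → P i := stepQ 70762 Q70762 (allL N70762 (tt N105904 D209104) (tt N105905 D209105) (tt N105897 (iv2 F452241)) (tt N39048 F218291) (tt N105773 (iv4 F451647)) (tt N39044 (iv5 D135756)) (tt N94129 (iv6 F403357)) (tt N105906 D209106))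
theorem Q70764 : ∀ i, i < 70764 → P i := stepQ 70763 Q70763 (allL N70763 (tt N91034 (iv1 F391685)) (tt N92168 F396067) (tt N91037 (iv2 F391706)) (tt N39049 F218292) (tt N91030 (iv4 F391662)) (tt N105906 (iv5 F452284)) (tt N70628 F218293) (tt N39044 (iv7 D135757)))
theorem Q70765 : ∀ i, i < 70765 → P i := stepQ 70764 Q70764 (allL N70764 (tt N70034 (iv1 F218300)) (tt N39045 (iv0 D135758)) (tt N70031 (iv2 F364871)) (tt N92665 (iv3 F397804)) (tt N88694 (iv4 F383900)) (tt N86711 F376871) (tt N75076 F398517) (tt N70032 F364870))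
theorem Q70766 : ∀ i, i < 70766 → P i := stepQ 70765 Q70765 (allL N70765 (tt N39045 (iv1 D135759)) (tt N70034 F218294) (tt N70032 F364866) (tt N69365 (iv3 F371360)) (tt N102576 (iv4 F437732)) (tt N86451 (iv5 F376250)) (tt N76619 (iv6 F364865)) (tt N70031 (iv7 F364869)))
theorem Q70767 : ∀ i, i < 70767 → P i := stepQ 70766 Q70766 (allL N70766 (tt N56438 F364867) (tt N92031 (iv0 F395442)) (tt N70033 F218295) (tt N94129 F403355) (tt N88685 (iv4 F383888)) (tt N39045 (iv5 D135760)) (tt N39048 F218296) (tt N98360 (iv7 F420638)))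
theorem Q70768 : ∀ i, i < 70768 → P i := stepQ 70767 Q70767 (allL N70767 (tt N70032 (iv1 F218301)) (tt N70031 F218302) (tt N70034 F218297) (tt N105900 (iv3 F452256)) (tt N67790 F218298) (tt N98360 (iv5 F420639)) (tt N70632 F218299) (tt N39045 (iv7 D135761)))
theorem Q70769 : ∀ i, i < 70769 → P i := stepQ 70768 Q70768 (allL N70768 (tt N105907 D209107) (tt N102530 (iv0 F437532)) (tt N93010 (iv2 F399107)) (tt N39046 (iv3 D135762)) (tt N67890 F218303) (tt N56674 F365950) (tt N92624 (iv6 F397672)) (tt N70037 F218304))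
theorem Q70770 : ∀ i, i < 70770 → P i := stepQ 70769 Q70769 (allL N70769 (tt N68209 F218307) (tt N61682 F218308) (tt N68206 F218305) (tt N56674 F365949) (tt N87590 F379827) (tt N39046 (iv5 D135763)) (tt N93005 (iv6 F399098)) (tt N68207 F218306))
theorem Q70771 : ∀ i, i < 70771 → P i := stepQ 70770 Q70770 (allL N70770 (tt N61999 F218319) (tt N61995 (iv0 F218315)) (tt N70036 F218309) (tt N92624 (iv3 F397671)) (tt N67888 F218310) (tt N68327 F218312) (tt N39046 (iv6 D135764)) (tt N70018 F218311))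
theorem Q70772 : ∀ i, i < 70772 → P i := stepQ 70771 Q70771 (allL N70771 (tt N69589 (iv1 F333576)) (tt N69588 F364659) (tt N69591 (iv2 F333563)) (tt N91213 (iv3 F392284)) (tt N39048 (iv4 D135767)) (tt N78534 F333566) (tt N88685 (iv6 F383890)) (tt N69584 F333574))
theorem Q70773 : ∀ i, i < 70773 → P i := stepQ 70772 Q70772 (allL N70772 (tt N70039 (iv1 F218329)) (tt N70038 F218330) (tt N69587 (iv2 F333560)) (tt N105906 (iv3 F452283)) (tt N69584 (iv4 F333575)) (tt N39049 F218328) (tt N69583 F333580) (tt N39048 (iv7 D135768)))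
theorem Q70774 : ∀ i, i < 70774 → P i := stepQ 70773 Q70773 (allL N70773 (tt N103430 (iv1 F441598)) (tt N39077 F366374) (tt N105850 (iv2 F452022)) (tt N39050 (iv3 D135769)) (tt N98009 (iv4 F419153)) (tt N105908 D209108) (tt N97970 (iv6 F419022)) (tt N70043 F218331))
theorem Q70775 : ∀ i, i < 70775 → P i := stepQ 70774 Q70774 (allL N70774 (tt N61358 (iv1 F363755)) (tt N68150 F363756) (tt N68149 (iv2 F363782)) (tt N105908 (iv3 F452291)) (tt N105909 D209109) (tt N39050 (iv5 D135770)) (tt N105910 D209110) (tt N68148 (iv7 F363787)))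
theorem Q70776 : ∀ i, i < 70776 → P i := stepQ 70775 Q70775 (allL N70775 (tt N68150 (iv1 F363788)) (tt N61358 (iv0 F363753)) (tt N68148 (iv2 F363785)) (tt N52072 (iv3 F363789)) (tt N52076 F363790) (tt N39052 (iv5 D135773)) (tt N105911 D209111) (tt N68149 (iv7 F363784)))
theorem Q70777 : ∀ i, i < 70777 → P i := stepQ 70776 Q70776 (allL N70776 (tt N92143 (iv1 F395938)) (tt N39057 (iv0 D135782)) (tt N92144 (iv2 F395943)) (tt N83676 F342157) (tt N105331 (iv4 F449742)) (tt N105912 D209112) (tt N83674 (iv6 F342158)) (tt N78955 F342159))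
theorem Q70778 : ∀ i, i < 70778 → P i := stepQ 70777 Q70777 (allL N70777 (tt N105913 D209113) (tt N98517 (iv0 F428267)) (tt N97987 (iv2 F419075)) (tt N39059 F218365) (tt N75539 (iv4 F363823)) (tt N39057 (iv5 D135784)) (tt N75538 F363821) (tt N105914 D209114))
theorem Q70779 : ∀ i, i < 70779 → P i := stepQ 70778 Q70778 (allL N70778 (tt N78955 F342163) (tt N92144 F395946) (tt N92143 F395940) (tt N39060 F218366) (tt N69925 F218367) (tt N105914 (iv5 F452322)) (tt N70675 F218368) (tt N39057 (iv7 D135785)))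
theorem Q70780 : ∀ i, i < 70780 → P i := stepQ 70779 Q70779 (allL N70779 (tt N39058 (iv1 D135787)) (tt N70657 F218369) (tt N62001 F355294) (tt N104063 (iv3 F443997)) (tt N102559 (iv4 F437653)) (tt N98389 F420736) (tt N69510 (iv6 F355277)) (tt N70655 (iv7 F364476)))
theorem Q70781 : ∀ i, i < 70781 → P i := stepQ 70780 Q70780 (allL N70780 (tt N105915 D209115) (tt N105916 D209116) (tt N70656 F218370) (tt N75538 (iv3 F363822)) (tt N105917 D209117) (tt N39058 (iv5 D135788)) (tt N39059 F218371) (tt N105918 D209118))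
theorem Q70782 : ∀ i, i < 70782 → P i := stepQ 70781 Q70781 (allL N70781 (tt N62001 (iv1 F364475)) (tt N70655 F218376) (tt N70657 F218372) (tt N41758 F333185) (tt N75727 F333186) (tt N105918 (iv5 F452344)) (tt N70678 F218373) (tt N39058 (iv7 D135789)))
theorem Q70783 : ∀ i, i < 70783 → P i := stepQ 70782 Q70782 (allL N70782 (tt N39059 (iv1 D135790)) (tt N70660 F218377) (tt N70658 (iv2 F218380)) (tt N82900 (iv3 F416559)) (tt N104202 (iv4 F444670)) (tt N69520 F218379) (tt N82899 F416558) (tt N69519 F218378))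
theorem Q70784 : ∀ i, i < 70784 → P i := stepQ 70783 Q70783 (allL N70783 (tt N104957 (iv1 F448136)) (tt N105804 (iv0 F451802)) (tt N70659 F218381) (tt N105919 D209119) (tt N39059 (iv4 D135791)) (tt N105920 D209120) (tt N105917 (iv6 F452339)) (tt N105921 D209121))
theorem Q70785 : ∀ i, i < 70785 → P i := stepQ 70784 Q70784 (allL N70784 (tt N70658 (iv1 F218384)) (tt N69519 F218385) (tt N70660 F218382) (tt N105914 (iv3 F452321)) (tt N105921 (iv4 F452356)) (tt N39060 F218383) (tt N98368 (iv6 F420669)) (tt N39059 (iv7 D135792)))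
theorem Q70786 : ∀ i, i < 70786 → P i := stepQ 70785 Q70785 (allL N70785 (tt N97554 F417364) (tt N56555 (iv0 F377470)) (tt N68761 F218386) (tt N52623 (iv3 F356956)) (tt N39061 (iv4 D135793)) (tt N52622 F356954) (tt N98034 (iv6 F419250)) (tt N70650 F218387))
theorem Q70787 : ∀ i, i < 70787 → P i := stepQ 70786 Q70786 (allL N70786 (tt N68163 F364710) (tt N68161 F364713) (tt N39064 F218405) (tt N70668 F218406) (tt N68734 F218407) (tt N98591 F421479) (tt N39062 (iv6 D135798)) (tt N92165 (iv7 F396049)))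
theorem Q70788 : ∀ i, i < 70788 → P i := stepQ 70787 Q70787 (allL N70787 (tt N105922 D209122) (tt N104940 (iv0 F448036)) (tt N97921 (iv2 F418810)) (tt N39065 F218411) (tt N104465 (iv4 F445883)) (tt N68378 (iv5 F364693)) (tt N39063 (iv6 D135800)) (tt N104020 (iv7 F443813)))
theorem Q70789 : ∀ i, i < 70789 → P i := stepQ 70788 Q70788 (allL N70788 (tt N39064 (iv1 D135802)) (tt N92165 F396050) (tt N68161 F364697) (tt N51360 F364698) (tt N80422 F364701) (tt N51352 (iv5 F364696)) (tt N51354 F364699) (tt N68163 F364700))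
theorem Q70790 : ∀ i, i < 70790 → P i := stepQ 70789 Q70789 (allL N70789 (tt N74381 F364718) (tt N74384 F364719) (tt N98591 (iv2 F421480)) (tt N39066 F218412) (tt N105923 D209123) (tt N39064 (iv5 D135803)) (tt N68378 F364695) (tt N97993 (iv7 F419093)))
theorem Q70791 : ∀ i, i < 70791 → P i := stepQ 70790 Q70790 (allL N70790 (tt N70678 (iv1 F218421)) (tt N39065 (iv0 D135805)) (tt N69381 (iv2 F344977)) (tt N87552 (iv3 F379743)) (tt N67788 (iv4 F437238)) (tt N87550 F379736) (tt N102936 F439334) (tt N70676 (iv7 F370291)))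
theorem Q70792 : ∀ i, i < 70792 → P i := stepQ 70791 Q70791 (allL N70791 (tt N68367 F363754) (tt N104027 F443860) (tt N70677 F218417) (tt N68378 F364694) (tt N49335 F344973) (tt N39065 (iv5 D135807)) (tt N39066 F218418) (tt N84706 (iv7 F370287)))
theorem Q70793 : ∀ i, i < 70793 → P i := stepQ 70792 Q70792 (allL N70792 (tt N70676 (iv1 F218422)) (tt N69381 (iv0 F370289)) (tt N70678 F218419) (tt N104020 (iv3 F443812)) (tt N102485 (iv4 F437401)) (tt N84706 (iv5 F370288)) (tt N70657 F218420) (tt N39065 (iv7 D135808)))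
theorem Q70794 : ∀ i, i < 70794 → P i := stepQ 70793 Q70793 (allL N70793 (tt N75236 (iv1 F345026)) (tt N104228 F444811) (tt N70681 F218424) (tt N49336 F344968) (tt N39066 (iv4 D135809)) (tt N86902 (iv5 F377644)) (tt N49335 F344969) (tt N63419 F344966))
theorem Q70795 : ∀ i, i < 70795 → P i := stepQ 70794 Q70794 (allL N70794 (tt N70680 (iv1 F218427)) (tt N70679 F218428) (tt N70682 F218425) (tt N97993 (iv3 F419091)) (tt N63419 (iv4 F344967)) (tt N39067 F218426) (tt N63418 F362432) (tt N39066 (iv7 D135810)))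
theorem Q70796 : ∀ i, i < 70796 → P i := stepQ 70795 Q70795 (allL N70795 (tt N70640 F361749) (tt N97949 (iv0 F418929)) (tt N39072 F218429) (tt N104757 (iv3 F447127)) (tt N67429 F218430) (tt N86745 (iv5 F448080)) (tt N39068 (iv6 D135811)) (tt N97952 (iv7 F418945)))
theorem Q70797 : ∀ i, i < 70797 → P i := stepQ 70796 Q70796 (allL N70796 (tt N69186 (iv1 F218436)) (tt N69180 (iv0 F218435)) (tt N39069 (iv2 D135812)) (tt N67931 F218431) (tt N57796 F218434) (tt N69390 F218432) (tt N92162 (iv6 F396032)) (tt N70500 (iv7 F218433)))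
theorem Q70798 : ∀ i, i < 70798 → P i := stepQ 70797 Q70797 (allL N70797 (tt N57800 F218438) (tt N57798 F218439) (tt N57796 F218437) (tt N54271 (iv3 F332692)) (tt N39069 (iv4 D135813)) (tt N86291 (iv5 F375715)) (tt N54253 F347385) (tt N57797 (iv7 F218442)))
theorem Q70799 : ∀ i, i < 70799 → P i := stepQ 70798 Q70798 (allL N70798 (tt N92163 (iv1 F396043)) (tt N92160 (iv0 F396024)) (tt N92162 F396033) (tt N39072 F218445) (tt N54253 (iv4 F347387)) (tt N105924 D209124) (tt N39069 (iv6 D135814)) (tt N54252 F361250))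
theorem Q70800 : ∀ i, i < 70800 → P i := stepQ 70799 Q70799 (allL N70799 (tt N69180 (iv1 F218450)) (tt N69186 F218451) (tt N70500 F218446) (tt N39073 F218447) (tt N57797 F218448) (tt N69391 F218449) (tt N86295 (iv6 F375731)) (tt N39069 (iv7 D135815)))
theorem Q70801 : ∀ i, i < 70801 → P i := stepQ 70800 Q70800 (allL N70800 (tt N39075 F218453) (tt N39070 (iv0 D135816)) (tt N67407 (iv2 F355005)) (tt N60957 F347552) (tt N70755 F218452) (tt N48290 F330404) (tt N60955 (iv6 F347554)) (tt N67428 F333482))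
theorem Q70802 : ∀ i, i < 70802 → P i := stepQ 70801 Q70801 (allL N70801 (tt N67374 F218457) (tt N67438 (iv0 F218458)) (tt N67425 F218455) (tt N39070 (iv3 D135818)) (tt N54271 (iv4 F332693)) (tt N60659 F332707) (tt N54270 (iv6 F361251)) (tt N67439 (iv7 F218459)))
theorem Q70803 : ∀ i, i < 70803 → P i := stepQ 70802 Q70802 (allL N70802 (tt N105925 D209125) (tt N92740 (iv0 F406142)) (tt N67429 F218463) (tt N54270 F361246) (tt N39072 F218464) (tt N82354 F359333) (tt N39070 (iv6 D135820)) (tt N54268 (iv7 F361245)))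
theorem Q70804 : ∀ i, i < 70804 → P i := stepQ 70803 Q70803 (allL N70803 (tt N67428 (iv1 F218468)) (tt N67407 (iv0 F355003)) (tt N39075 F218465) (tt N67439 F218466) (tt N39073 F218467) (tt N65910 (iv5 F333457)) (tt N84099 (iv6 F368098)) (tt N39070 (iv7 D135821)))
theorem Q70805 : ∀ i, i < 70805 → P i := stepQ 70804 Q70804 (allL N70804 (tt N92719 (iv1 F397964)) (tt N105880 (iv0 F452157)) (tt N79888 (iv2 F333455)) (tt N68932 F218470) (tt N39071 (iv4 D135822)) (tt N45839 F333454) (tt N60559 F358955) (tt N103304 (iv7 F441058)))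
theorem Q70806 : ∀ i, i < 70806 → P i := stepQ 70805 Q70805 (allL N70805 (tt N70744 F401538) (tt N104063 (iv0 F443999)) (tt N97535 (iv2 F417292)) (tt N104118 F444267) (tt N60559 (iv4 F359051)) (tt N105926 D209126) (tt N39071 (iv6 D135823)) (tt N97529 (iv7 F417272)))
theorem Q70807 : ∀ i, i < 70807 → P i := stepQ 70806 Q70806 (allL N70806 (tt N97952 (iv1 F418944)) (tt N39072 (iv0 D135824)) (tt N70640 (iv2 F371510)) (tt N70685 F371511) (tt N103369 (iv4 F441316)) (tt N105927 D209127) (tt N98768 (iv6 F422235)) (tt N97949 (iv7 F418931)))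
theorem Q70808 : ∀ i, i < 70808 → P i := stepQ 70807 Q70807 (allL N70807 (tt N105928 D209128) (tt N82900 (iv0 F448091)) (tt N86745 F448079) (tt N105924 (iv3 F452367)) (tt N86733 (iv4 F448078)) (tt N39072 (iv5 D135826)) (tt N105926 (iv6 F452377)) (tt N86748 F448077))
theorem Q70809 : ∀ i, i < 70809 → P i := stepQ 70808 Q70808 (allL N70808 (tt N97949 (iv1 F418930)) (tt N70640 (iv0 F361249)) (tt N97952 (iv2 F418947)) (tt N54252 (iv3 F361248)) (tt N54268 F361247) (tt N86748 (iv5 F448075)) (tt N103430 (iv6 F441595)) (tt N39072 (iv7 D135827)))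
theorem Q70810 : ∀ i, i < 70810 → P i := stepQ 70809 Q70809 (allL N70809 (tt N105850 F452026) (tt N70043 (iv0 F364361)) (tt N39077 F218471) (tt N86295 (iv3 F375730)) (tt N84099 F368101) (tt N87652 (iv5 F379996)) (tt N39073 (iv6 D135828)) (tt N103430 (iv7 F441596)))
theorem Q70811 : ∀ i, i < 70811 → P i := stepQ 70810 Q70810 (allL N70810 (tt N50965 (iv1 F319150)) (tt N69397 F218475) (tt N70501 F218472) (tt N39076 F218473) (tt N104819 (iv4 F447445)) (tt N39074 (iv5 D135829)) (tt N105929 D209129) (tt N85048 (iv7 F371457)))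
theorem Q70812 : ∀ i, i < 70812 → P i := stepQ 70811 Q70811 (allL N70811 (tt N67956 F351702) (tt N49236 F351703) (tt N70502 F218476) (tt N39077 F218477) (tt N70499 F218478) (tt N105930 D209130) (tt N39074 (iv6 D135830)) (tt N83670 (iv7 F362719)))
theorem Q70813 : ∀ i, i < 70813 → P i := stepQ 70812 Q70812 (allL N70812 (tt N102376 (iv1 F436975)) (tt N102380 F436990) (tt N84099 (iv2 F368096)) (tt N67437 F218481) (tt N39077 F218482) (tt N84098 F368095) (tt N39075 (iv6 D135832)) (tt N102379 (iv7 F436986)))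
theorem Q70814 : ∀ i, i < 70814 → P i := stepQ 70813 Q70813 (allL N70813 (tt N105880 (iv1 F452158)) (tt N92719 (iv0 F397963)) (tt N103304 F441060) (tt N105931 D209131) (tt N39076 (iv4 D135833)) (tt N45838 F333449) (tt N105932 D209132) (tt N79888 (iv7 F333450)))
theorem Q70815 : ∀ i, i < 70815 → P i := stepQ 70814 Q70814 (allL N70814 (tt N87552 F379745) (tt N69383 (iv0 F365420)) (tt N104158 (iv2 F444470)) (tt N105929 (iv3 F452390)) (tt N105932 (iv4 F452406)) (tt N105933 D209133) (tt N39076 (iv6 D135834)) (tt N105786 (iv7 F451711)))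
theorem Q70816 : ∀ i, i < 70816 → P i := stepQ 70815 Q70815 (allL N70815 (tt N39077 (iv1 D135836)) (tt N103430 F441599) (tt N70043 F364367) (tt N70692 (iv3 F378535)) (tt N103387 (iv4 F441392)) (tt N86769 (iv5 F377116)) (tt N83649 (iv6 F364366)) (tt N105850 (iv7 F452024)))
theorem Q70817 : ∀ i, i < 70817 → P i := stepQ 70816 Q70816 (allL N70816 (tt N73784 F374938) (tt N52065 F379683) (tt N87652 (iv2 F379994)) (tt N105930 (iv3 F452395)) (tt N87165 F378608) (tt N39077 (iv5 D135837)) (tt N105933 (iv6 F452411)) (tt N87655 (iv7 F380001)))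
theorem Q70818 : ∀ i, i < 70818 → P i := stepQ 70817 Q70817 (allL N70817 (tt N70043 (iv1 F364362)) (tt N105850 (iv0 F452025)) (tt N103430 (iv2 F441593)) (tt N83670 F362721) (tt N102379 (iv4 F436981)) (tt N87655 (iv5 F380002)) (tt N97952 F418949) (tt N39077 (iv7 D135838)))
theorem Q70819 : ∀ i, i < 70819 → P i := stepQ 70818 Q70818 (allL N70818 (tt N56702 (iv1 F218488)) (tt N56701 (iv0 F218486)) (tt N56705 F218483) (tt N39078 (iv3 D135839)) (tt N39081 F218484) (tt N58848 (iv5 F330396)) (tt N93053 (iv6 F399294)) (tt N56703 F218485))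
theorem Q70820 : ∀ i, i < 70820 → P i := stepQ 70819 Q70819 (allL N70819 (tt N92731 F398008) (tt N92764 F398125) (tt N67324 F218494) (tt N93053 (iv3 F399291)) (tt N39079 F218495) (tt N49037 F330397) (tt N39078 (iv6 D135841)) (tt N92763 (iv7 F398120)))
theorem Q70821 : ∀ i, i < 70821 → P i := stepQ 70820 Q70820 (allL N70820 (tt N60898 (iv1 F328628)) (tt N39079 (iv0 D135842)) (tt N70823 (iv2 F363731)) (tt N78612 (iv3 F339461)) (tt N98030 (iv4 F419223)) (tt N61335 F363730) (tt N60859 (iv6 F335836)) (tt N70824 (iv7 F363732)))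
theorem Q70822 : ∀ i, i < 70822 → P i := stepQ 70821 Q70821 (allL N70821 (tt N39079 (iv1 D135843)) (tt N60898 (iv0 F328627)) (tt N70824 (iv2 F363733)) (tt N60962 (iv3 F363736)) (tt N97546 (iv4 F417335)) (tt N61433 F363734) (tt N97545 F417333) (tt N70823 F363735))
theorem Q70823 : ∀ i, i < 70823 → P i := stepQ 70822 Q70822 (allL N70822 (tt N70824 (iv1 F218502)) (tt N70823 F218501) (tt N60898 (iv2 F328629)) (tt N39085 F218498) (tt N92763 (iv4 F398116)) (tt N43673 F339636) (tt N61743 F218499) (tt N39079 (iv7 D135844)))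
theorem Q70824 : ∀ i, i < 70824 → P i := stepQ 70823 Q70823 (allL N70823 (tt N70822 (iv1 F218501)) (tt N39080 (iv0 D135845)) (tt N70820 F363731) (tt N78887 F363728) (tt N105934 D209134) (tt N73785 (iv5 F339639)) (tt N85029 (iv6 F371413)) (tt N70821 (iv7 F363735)))
theorem Q70825 : ∀ i, i < 70825 → P i := stepQ 70824 Q70824 (allL N70824 (tt N39080 (iv1 D135846)) (tt N70822 F218502) (tt N70821 F363733) (tt N104758 F447135) (tt N77304 F335844) (tt N73786 (iv5 F335843)) (tt N102329 (iv6 F436756)) (tt N70820 F363732))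
theorem Q70826 : ∀ i, i < 70826 → P i := stepQ 70825 Q70825 (allL N70825 (tt N104384 (iv1 F445525)) (tt N92615 F397656) (tt N67772 F218506) (tt N39082 F218507) (tt N93053 (iv4 F399292)) (tt N74578 F364319) (tt N39081 (iv6 D135848)) (tt N93052 F399289))
theorem Q70827 : ∀ i, i < 70827 → P i := stepQ 70826 Q70826 (allL N70826 (tt N67859 (iv1 F218514)) (tt N39082 (iv0 D135849)) (tt N70705 F359191) (tt N105935 D209135) (tt N41881 F336465) (tt N105936 D209136) (tt N41880 F336466) (tt N70706 (iv7 F359190)))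
theorem Q70828 : ∀ i, i < 70828 → P i := stepQ 70827 Q70827 (allL N70827 (tt N39082 (iv1 D135850)) (tt N67859 F218508) (tt N70706 (iv2 F359192)) (tt N105937 D209137) (tt N92785 F398220) (tt N105938 D209138) (tt N105939 D209139) (tt N70705 F359193))
theorem Q70829 : ∀ i, i < 70829 → P i := stepQ 70828 Q70828 (allL N70828 (tt N105940 D209140) (tt N105941 D209141) (tt N70707 F218509) (tt N74578 (iv3 F335983)) (tt N81151 F335982) (tt N39082 (iv5 D135851)) (tt N67773 F218510) (tt N105942 D209142))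
theorem Q70830 : ∀ i, i < 70830 → P i := stepQ 70829 Q70829 (allL N70829 (tt N70706 (iv1 F218515)) (tt N70705 F218516) (tt N67859 F218511) (tt N93052 (iv3 F399287)) (tt N39085 F218512) (tt N105942 (iv5 F452439)) (tt N67858 F218513) (tt N39082 (iv7 D135852)))
theorem Q70831 : ∀ i, i < 70831 → P i := stepQ 70830 Q70830 (allL N70830 (tt N92633 F397700) (tt N66211 (iv0 F350917)) (tt N70708 (iv2 F364258)) (tt N102505 (iv3 F437459)) (tt N39083 (iv4 D135855)) (tt N105943 D209143) (tt N60732 F364259) (tt N70709 F364261))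
theorem Q70832 : ∀ i, i < 70832 → P i := stepQ 70831 Q70831 (allL N70831 (tt N100778 (iv1 F430425)) (tt N75700 (iv0 F362725)) (tt N90779 (iv2 F390806)) (tt N39084 (iv3 D135859)) (tt N104444 F445796) (tt N75993 F362726) (tt N74843 F362727) (tt N60823 (iv7 F362729)))
theorem Q70833 : ∀ i, i < 70833 → P i := stepQ 70832 Q70832 (allL N70832 (tt N66211 F362724) (tt N92633 (iv0 F397699)) (tt N70709 (iv2 F364260)) (tt N105944 D209144) (tt N39084 (iv4 D135860)) (tt N91897 (iv5 F394855)) (tt N105945 D209145) (tt N70708 (iv7 F364257)))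
theorem Q70834 : ∀ i, i < 70834 → P i := stepQ 70833 Q70833 (allL N70833 (tt N75041 (iv1 F362733)) (tt N75040 F362734) (tt N70710 (iv2 F362732)) (tt N74843 (iv3 F362728)) (tt N105945 (iv4 F452449)) (tt N76228 F362730) (tt N39084 (iv6 D135862)) (tt N62736 F362731))
theorem Q70835 : ∀ i, i < 70835 → P i := stepQ 70834 Q70834 (allL N70834 (tt N39086 (iv1 D135870)) (tt N61719 F218533) (tt N61428 F338652) (tt N61569 F339578) (tt N61401 (iv4 F338651)) (tt N61437 F338655) (tt N81311 F338653) (tt N70713 F338654))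
theorem Q70836 : ∀ i, i < 70836 → P i := stepQ 70835 Q70835 (allL N70835 (tt N70617 F349034) (tt N74881 F349035) (tt N74880 (iv2 F349036)) (tt N39087 (iv3 D135872)) (tt N62783 (iv4 F328366)) (tt N63261 F349037) (tt N62782 F349038) (tt N62783 (iv7 F328367)))
theorem Q70837 : ∀ i, i < 70837 → P i := stepQ 70836 Q70836 (allL N70836 (tt N70018 (iv1 F218542)) (tt N70036 (iv0 F218543)) (tt N61999 F218539) (tt N62782 (iv3 F349039)) (tt N39089 F218540) (tt N76691 (iv5 F354444)) (tt N39087 (iv6 D135874)) (tt N61995 F218541))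
theorem Q70838 : ∀ i, i < 70838 → P i := stepQ 70837 Q70837 (allL N70837 (tt N69376 (iv1 F338688)) (tt N98726 (iv0 F422034)) (tt N70116 F218544) (tt N98547 (iv3 F421286)) (tt N39088 (iv4 D135875)) (tt N74807 (iv5 F338691)) (tt N62872 (iv6 F326337)) (tt N70714 F218546))
theorem Q70839 : ∀ i, i < 70839 → P i := stepQ 70838 Q70838 (allL N70838 (tt N89241 (iv1 F385742)) (tt N39460 F357920) (tt N89242 (iv2 F385747)) (tt N39091 F218553) (tt N81541 (iv4 F357918)) (tt N105946 D209146) (tt N39090 (iv6 D135879)) (tt N81539 F357917))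
theorem Q70840 : ∀ i, i < 70840 → P i := stepQ 70839 Q70839 (allL N70839 (tt N90722 (iv1 F390644)) (tt N90721 F390641) (tt N39284 F218559) (tt N105946 (iv3 F452451)) (tt N105947 D209147) (tt N39091 (iv5 D135881)) (tt N104524 (iv6 F446136)) (tt N90718 (iv7 F390629)))
theorem Q70841 : ∀ i, i < 70841 → P i := stepQ 70840 Q70840 (allL N70840 (tt N39312 (iv1 F218560)) (tt N39092 (iv0 D135882)) (tt N39311 F221980) (tt N78345 F359931) (tt N105948 D209148) (tt N85395 (iv5 F372478)) (tt N53368 F346674) (tt N39310 F221981))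
theorem Q70842 : ∀ i, i < 70842 → P i := stepQ 70841 Q70841 (allL N70841 (tt N39092 (iv1 D135883)) (tt N39312 F218565) (tt N39310 F221977) (tt N40010 F221978) (tt N78192 (iv4 F246876)) (tt N85396 (iv5 F372485)) (tt N39154 F324696) (tt N39311 F221979))
theorem Q70843 : ∀ i, i < 70843 → P i := stepQ 70842 Q70842 (allL N70842 (tt N39311 (iv1 F218566)) (tt N39310 F218564) (tt N39092 (iv2 D135884)) (tt N39296 F218561) (tt N60138 F218562) (tt N85588 (iv5 F373153)) (tt N54469 (iv6 F371052)) (tt N39312 F218563))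
theorem Q70844 : ∀ i, i < 70844 → P i := stepQ 70843 Q70843 (allL N70843 (tt N54521 (iv1 F352854)) (tt N54519 (iv0 F352851)) (tt N85588 (iv2 F373151)) (tt N39093 F218567) (tt N105949 D209149) (tt N39092 (iv5 D135885)) (tt N84905 (iv6 F371045)) (tt N39313 F218568))
theorem Q70845 : ∀ i, i < 70845 → P i := stepQ 70844 Q70844 (allL N70844 (tt N51187 F352853) (tt N54470 F359431) (tt N54469 F371050) (tt N39094 F218569) (tt N60139 F218570) (tt N84906 (iv5 F371049)) (tt N39092 (iv6 D135886)) (tt N54468 F359418))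
theorem Q70846 : ∀ i, i < 70846 → P i := stepQ 70845 Q70845 (allL N70845 (tt N105950 D209150) (tt N90065 (iv0 F388466)) (tt N39301 F218571) (tt N84905 (iv3 F371043)) (tt N67851 F218572) (tt N84904 (iv5 F371034)) (tt N39093 (iv6 D135887)) (tt N85593 (iv7 F373164)))
theorem Q70847 : ∀ i, i < 70847 → P i := stepQ 70846 Q70846 (allL N70846 (tt N39305 (iv1 F218581)) (tt N39094 (iv0 D135888)) (tt N39302 (iv2 F218577)) (tt N105951 D209151) (tt N65454 F218578) (tt N105952 D209152) (tt N39173 F218579) (tt N39303 F218580))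
theorem Q70848 : ∀ i, i < 70848 → P i := stepQ 70847 Q70847 (allL N70847 (tt N39094 (iv1 D135889)) (tt N39305 F218573) (tt N39303 (iv2 F218575)) (tt N105953 D209153) (tt N57415 F218574) (tt N105954 D209154) (tt N105955 D209155) (tt N39302 (iv7 F218576)))
theorem Q70849 : ∀ i, i < 70849 → P i := stepQ 70848 Q70848 (allL N70848 (tt N70897 (iv1 F218698)) (tt N71436 F220056) (tt N39304 F218582) (tt N84906 (iv3 F371048)) (tt N105956 D209156) (tt N39094 (iv5 D135890)) (tt N84904 F371035) (tt N71434 (iv7 F220052)))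
theorem Q70850 : ∀ i, i < 70850 → P i := stepQ 70849 Q70849 (allL N70849 (tt N39303 (iv1 F218586)) (tt N39302 F218587) (tt N39305 F218583) (tt N54468 F359417) (tt N39096 F218584) (tt N71434 (iv5 F220050)) (tt N39319 F218585) (tt N39094 (iv7 D135891)))
theorem Q70851 : ∀ i, i < 70851 → P i := stepQ 70850 Q70850 (allL N70850 (tt N39099 F218590) (tt N39331 (iv0 F218591)) (tt N39308 F218588) (tt N90922 (iv3 F391274)) (tt N39095 (iv4 D135892)) (tt N105957 D209157) (tt N96743 (iv6 F413724)) (tt N39306 F218589))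
theorem Q70852 : ∀ i, i < 70852 → P i := stepQ 70851 Q70851 (allL N70851 (tt N39334 (iv1 F218592)) (tt N39097 (iv0 D135893)) (tt N39333 F391935) (tt N91102 F391936) (tt N105958 D209158) (tt N104243 (iv5 F444895)) (tt N104244 (iv6 F444900)) (tt N39332 F391937))
theorem Q70853 : ∀ i, i < 70853 → P i := stepQ 70852 Q70852 (allL N70852 (tt N39097 (iv1 D135894)) (tt N39334 F218597) (tt N39332 F391938) (tt N101942 F435037) (tt N92468 F397078) (tt N105959 D209159) (tt N39178 F391939) (tt N39333 F391940))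
theorem Q70854 : ∀ i, i < 70854 → P i := stepQ 70853 Q70853 (allL N70853 (tt N39333 (iv1 F218598)) (tt N39332 F218596) (tt N39097 (iv2 D135895)) (tt N39325 F218593) (tt N57568 F218594) (tt N105960 D209160) (tt N105961 D209161) (tt N39334 F218595))
theorem Q70855 : ∀ i, i < 70855 → P i := stepQ 70854 Q70854 (allL N70854 (tt N105962 D209162) (tt N105963 D209163) (tt N105960 (iv2 F452517)) (tt N39098 F218599) (tt N105964 D209164) (tt N39097 (iv5 D135896)) (tt N105965 D209165) (tt N39335 F218600))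
theorem Q70856 : ∀ i, i < 70856 → P i := stepQ 70855 Q70855 (allL N70855 (tt N89278 F390419) (tt N105966 D209166) (tt N105961 (iv2 F452524)) (tt N39099 F218601) (tt N57570 F218602) (tt N105967 D209167) (tt N39097 (iv6 D135897)) (tt N105968 D209168))
theorem Q70857 : ∀ i, i < 70857 → P i := stepQ 70856 Q70856 (allL N70856 (tt N105969 D209169) (tt N82298 F358546) (tt N39329 F218603) (tt N105965 (iv3 F452545)) (tt N92261 (iv4 F396506)) (tt N105970 D209170) (tt N39098 (iv6 D135898)) (tt N105971 D209171))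
theorem Q70858 : ∀ i, i < 70858 → P i := stepQ 70857 Q70857 (allL N70857 (tt N58533 F218605) (tt N71396 F220026) (tt N39330 F218604) (tt N105967 (iv3 F452550)) (tt N105972 D209172) (tt N39099 (iv5 D135899)) (tt N105970 (iv6 F452560)) (tt N71394 (iv7 F220021)))
theorem Q70859 : ∀ i, i < 70859 → P i := stepQ 70858 Q70858 (allL N70858 (tt N39308 (iv1 F218609)) (tt N39306 F218610) (tt N39331 F218606) (tt N105968 (iv3 F452551)) (tt N57563 F218607) (tt N71394 (iv5 F220019)) (tt N39339 F218608) (tt N39099 (iv7 D135900)))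
theorem Q70860 : ∀ i, i < 70860 → P i := stepQ 70859 Q70859 (allL N70859 (tt N39325 (iv1 F218611)) (tt N39100 (iv0 D135901)) (tt N39324 F338916) (tt N97999 (iv3 F419111)) (tt N101827 (iv4 F434538)) (tt N91676 F393998) (tt N39183 F338932) (tt N39323 F338917))
theorem Q70861 : ∀ i, i < 70861 → P i := stepQ 70860 Q70860 (allL N70860 (tt N39100 (iv1 D135902)) (tt N39325 F218616) (tt N39323 F338905) (tt N105585 (iv3 F450843)) (tt N94510 (iv4 F404768)) (tt N83103 F338903) (tt N76922 (iv6 F338904)) (tt N39324 F338906))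
theorem Q70862 : ∀ i, i < 70862 → P i := stepQ 70861 Q70861 (allL N70861 (tt N39324 (iv1 F218617)) (tt N39323 F218615) (tt N39100 (iv2 D135903)) (tt N39334 F218612) (tt N57757 F218613) (tt N105973 D209173) (tt N105974 D209174) (tt N39325 F218614))
theorem Q70863 : ∀ i, i < 70863 → P i := stepQ 70862 Q70862 (allL N70862 (tt N105975 D209175) (tt N94551 F405192) (tt N105973 (iv2 F452569)) (tt N39101 F218618) (tt N95256 (iv4 F407592)) (tt N39100 (iv5 D135904)) (tt N83132 F359643) (tt N39326 F218619))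
theorem Q70864 : ∀ i, i < 70864 → P i := stepQ 70863 Q70863 (allL N70863 (tt N105976 D209176) (tt N89579 (iv0 F386808)) (tt N105974 (iv2 F452576)) (tt N39102 F218620) (tt N57759 F218621) (tt N77435 F338918) (tt N39100 (iv6 D135905)) (tt N105977 D209177))
theorem Q70865 : ∀ i, i < 70865 → P i := stepQ 70864 Q70864 (allL N70864 (tt N83092 F375556) (tt N104701 F446924) (tt N39337 F218622) (tt N83132 (iv3 F359644)) (tt N92255 (iv4 F396486)) (tt N105978 D209178) (tt N39101 (iv6 D135906)) (tt N105979 D209179))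
theorem Q70866 : ∀ i, i < 70866 → P i := stepQ 70865 Q70865 (allL N70865 (tt N70924 (iv1 F218783)) (tt N62247 F218624) (tt N39338 F218623) (tt N77435 (iv3 F338919)) (tt N105980 D209180) (tt N39102 (iv5 D135907)) (tt N105978 (iv6 F452603)) (tt N71535 (iv7 F220146)))
theorem Q70867 : ∀ i, i < 70867 → P i := stepQ 70866 Q70866 (allL N70866 (tt N39322 (iv1 F218628)) (tt N39320 F218629) (tt N39339 F218625) (tt N105977 (iv3 F452595)) (tt N70223 F218626) (tt N71535 (iv5 F220147)) (tt N39331 F218627) (tt N39102 (iv7 D135908)))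
theorem Q70868 : ∀ i, i < 70868 → P i := stepQ 70867 Q70867 (allL N70867 (tt N39104 (iv1 F218633)) (tt N39103 (iv0 D135909)) (tt N39107 (iv2 F218630)) (tt N39340 F218631) (tt N77834 (iv4 F245112)) (tt N78732 F341515) (tt N45356 F341517) (tt N39105 F218632))
theorem Q70869 : ∀ i, i < 70869 → P i := stepQ 70868 Q70868 (allL N70868 (tt N39107 F410578) (tt N39105 F410579) (tt N39103 (iv2 D135910)) (tt N90965 (iv3 F447581)) (tt N97205 (iv4 F415892)) (tt N96002 F410580) (tt N90921 F433556) (tt N39104 (iv7 F218634)))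
theorem Q70870 : ∀ i, i < 70870 → P i := stepQ 70869 Q70869 (allL N70869 (tt N105585 F450846) (tt N91074 (iv0 F391829)) (tt N105981 D209181) (tt N39103 (iv3 D135911)) (tt N72243 F221777) (tt N96703 (iv5 F413533)) (tt N91061 (iv6 F460545)) (tt N105982 D209183))
theorem Q70871 : ∀ i, i < 70871 → P i := stepQ 70870 Q70870 (allL N70870 (tt N82105 F344866) (tt N71570 (iv0 F245115)) (tt N97205 (iv2 F415889)) (tt N44424 (iv3 F247049)) (tt N39103 (iv4 D135912)) (tt N44423 F247050) (tt N105983 D209184) (tt N105984 D209185))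
theorem Q70872 : ∀ i, i < 70872 → P i := stepQ 70871 Q70871 (allL N70871 (tt N89297 F385974) (tt N90922 F391277) (tt N90921 (iv2 F433560)) (tt N91061 (iv3 F460542)) (tt N105983 (iv4 F452619)) (tt N95687 (iv5 F409143)) (tt N39103 (iv6 D135914)) (tt N90920 F450887))
theorem Q70873 : ∀ i, i < 70873 → P i := stepQ 70872 Q70872 (allL N70872 (tt N39105 F410584) (tt N39107 F410585) (tt N39104 F218635) (tt N105982 (iv3 F452615)) (tt N105984 (iv4 F452622)) (tt N96001 F410586) (tt N105985 D209186) (tt N39103 (iv7 D135915)))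
theorem Q70874 : ∀ i, i < 70874 → P i := stepQ 70873 Q70873 (allL N70873 (tt N89306 F386011) (tt N91102 F391934) (tt N91100 F413525) (tt N39104 (iv3 D135916)) (tt N97305 (iv4 F416299)) (tt N96701 (iv5 F413522)) (tt N91008 (iv6 F416303)) (tt N90965 (iv7 F447582)))
theorem Q70875 : ∀ i, i < 70875 → P i := stepQ 70874 Q70874 (allL N70874 (tt N71570 (iv1 F364775)) (tt N82105 (iv0 F344865)) (tt N105984 (iv2 F452620)) (tt N77919 (iv3 F245307)) (tt N39104 (iv4 D135917)) (tt N71560 (iv5 F247038)) (tt N105986 D209187) (tt N97205 (iv7 F415891)))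
theorem Q70876 : ∀ i, i < 70876 → P i := stepQ 70875 Q70875 (allL N70875 (tt N98986 F422931) (tt N78827 (iv0 F357723)) (tt N105985 (iv2 F452625)) (tt N91008 F416304) (tt N105986 (iv4 F452634)) (tt N81942 F341523) (tt N39104 (iv6 D135919)) (tt N105987 D209188))
theorem Q70877 : ∀ i, i < 70877 → P i := stepQ 70876 Q70876 (allL N70876 (tt N78734 (iv1 F341521)) (tt N78733 (iv0 F359225)) (tt N39106 F218638) (tt N39349 F218639) (tt N64861 F363276) (tt N39105 (iv5 D135922)) (tt N73224 F350345) (tt N78732 (iv7 F341518)))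
theorem Q70878 : ∀ i, i < 70878 → P i := stepQ 70877 Q70877 (allL N70877 (tt N78732 (iv1 F366146)) (tt N39106 (iv0 D135923)) (tt N78734 (iv2 F386307)) (tt N105584 F450836) (tt N93346 F400481) (tt N101614 (iv5 F433554)) (tt N89382 F386306) (tt N78733 (iv7 F386308)))
theorem Q70879 : ∀ i, i < 70879 → P i := stepQ 70878 Q70878 (allL N70878 (tt N39106 (iv1 D135924)) (tt N78732 F341520) (tt N78733 (iv2 F386309)) (tt N105988 D209189) (tt N101405 (iv4 F449000)) (tt N104461 (iv5 F445863)) (tt N73274 F386310) (tt N78734 F386311))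
theorem Q70880 : ∀ i, i < 70880 → P i := stepQ 70879 Q70879 (allL N70879 (tt N62202 (iv1 F405904)) (tt N94780 (iv0 F405903)) (tt N64861 (iv2 F363277)) (tt N104516 (iv3 F446109)) (tt N39106 (iv4 D135925)) (tt N96710 (iv5 F413559)) (tt N59619 (iv6 F357730)) (tt N64863 (iv7 F363281)))
theorem Q70881 : ∀ i, i < 70881 → P i := stepQ 70880 Q70880 (allL N70880 (tt N104243 F444894) (tt N105959 (iv0 F452515)) (tt N91675 (iv2 F393988)) (tt N39108 (iv3 D135929)) (tt N76628 F343926) (tt N57516 F218646) (tt N53772 (iv6 F362779)) (tt N39358 F218647))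
theorem Q70882 : ∀ i, i < 70882 → P i := stepQ 70881 Q70881 (allL N70881 (tt N83078 (iv1 F345096)) (tt N83079 F345095) (tt N39357 F218648) (tt N53772 F343923) (tt N61645 (iv4 F343920)) (tt N86244 (iv5 F375552)) (tt N39108 (iv6 D135930)) (tt N83083 (iv7 F338293)))
theorem Q70883 : ∀ i, i < 70883 → P i := stepQ 70882 Q70882 (allL N70882 (tt N91676 (iv1 F393996)) (tt N83103 F394000) (tt N91677 (iv2 F394001)) (tt N39109 (iv3 D135931)) (tt N105989 D209190) (tt N69537 F218649) (tt N91674 (iv6 F393986)) (tt N39356 F218650))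
theorem Q70884 : ∀ i, i < 70884 → P i := stepQ 70883 Q70883 (allL N70883 (tt N104526 F446141) (tt N104530 F446162) (tt N39359 F218651) (tt N91674 (iv3 F393985)) (tt N92273 (iv4 F396548)) (tt N105990 D209191) (tt N39109 (iv6 D135932)) (tt N91671 (iv7 F393978)))
theorem Q70885 : ∀ i, i < 70885 → P i := stepQ 70884 Q70884 (allL N70884 (tt N39364 (iv1 F218655)) (tt N39110 (iv0 D135933)) (tt N39362 F359152) (tt N105991 D209192) (tt N103636 (iv4 F442331)) (tt N104128 (iv5 F444323)) (tt N59032 F338280) (tt N39363 F359153))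
theorem Q70886 : ∀ i, i < 70886 → P i := stepQ 70885 Q70885 (allL N70885 (tt N39110 (iv1 D135934)) (tt N39364 F218652) (tt N39363 F359154) (tt N105992 D209193) (tt N103637 (iv4 F442327)) (tt N104095 (iv5 F444152)) (tt N105993 D209194) (tt N39362 F359155))
theorem Q70887 : ∀ i, i < 70887 → P i := stepQ 70886 Q70886 (allL N70886 (tt N39363 (iv1 F218656)) (tt N39362 F218657) (tt N39364 F218653) (tt N64024 F350358) (tt N104521 (iv4 F446124)) (tt N39206 F218654) (tt N64021 (iv6 F350359)) (tt N39110 (iv7 D135935)))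
theorem Q70888 : ∀ i, i < 70888 → P i := stepQ 70887 Q70887 (allL N70887 (tt N39519 (iv1 F218665)) (tt N39113 (iv0 D135938)) (tt N39518 F218673) (tt N57225 F218664) (tt N105994 D209195) (tt N71820 (iv5 F220898)) (tt N90574 F390147) (tt N39517 (iv7 F218666)))
theorem Q70889 : ∀ i, i < 70889 → P i := stepQ 70888 Q70888 (allL N70888 (tt N39113 (iv1 D135939)) (tt N39519 F218670) (tt N39517 (iv2 F218671)) (tt N105995 D209196) (tt N102749 (iv4 F438479)) (tt N71821 (iv5 F220894)) (tt N89244 (iv6 F385760)) (tt N39518 (iv7 F218672)))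
theorem Q70890 : ∀ i, i < 70890 → P i := stepQ 70889 Q70889 (allL N70889 (tt N39518 (iv1 F218674)) (tt N39517 F218669) (tt N39113 (iv2 D135940)) (tt N48963 F331272) (tt N39123 F218667) (tt N82607 F331273) (tt N48961 F331274) (tt N39519 F218668))
theorem Q70891 : ∀ i, i < 70891 → P i := stepQ 70890 Q70890 (allL N70890 (tt N39419 (iv1 F218677)) (tt N39116 (iv0 D135943)) (tt N39418 F350335) (tt N72528 (iv3 F222637)) (tt N98916 (iv4 F422771)) (tt N39198 F350326) (tt N100185 F427896) (tt N39417 F350336))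
theorem Q70892 : ∀ i, i < 70892 → P i := stepQ 70891 Q70891 (allL N70891 (tt N39116 (iv1 D135944)) (tt N39419 F218681) (tt N39417 F350338) (tt N105996 D209197) (tt N98882 (iv4 F422686)) (tt N39199 F331026) (tt N73242 F332955) (tt N39418 F350339))
theorem Q70893 : ∀ i, i < 70893 → P i := stepQ 70892 Q70892 (allL N70892 (tt N39418 (iv1 F218682)) (tt N39417 F218680) (tt N39116 (iv2 D135945)) (tt N39430 F218678) (tt N93489 (iv4 F400897)) (tt N68348 (iv5 F326701)) (tt N105815 (iv6 F451851)) (tt N39419 F218679))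
theorem Q70894 : ∀ i, i < 70894 → P i := stepQ 70893 Q70893 (allL N70893 (tt N39447 (iv1 F218684)) (tt N39117 (iv0 D135946)) (tt N39446 F218693) (tt N40201 F218683) (tt N72751 (iv4 F223156)) (tt N105997 D209198) (tt N101109 F431716) (tt N39445 (iv7 F218685)))
theorem Q70895 : ∀ i, i < 70895 → P i := stepQ 70894 Q70894 (allL N70894 (tt N39117 (iv1 D135947)) (tt N39447 F218690) (tt N39445 (iv2 F218691)) (tt N102856 (iv3 F438962)) (tt N72498 (iv4 F222622)) (tt N105998 D209199) (tt N89127 (iv6 F385269)) (tt N39446 (iv7 F218692)))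
theorem Q70896 : ∀ i, i < 70896 → P i := stepQ 70895 Q70895 (allL N70895 (tt N39446 (iv1 F218694)) (tt N39445 F218689) (tt N39117 (iv2 D135948)) (tt N39439 F218686) (tt N40100 F218687) (tt N71798 (iv5 F220606)) (tt N105999 D209200) (tt N39447 F218688))
theorem Q70897 : ∀ i, i < 70897 → P i := stepQ 70896 Q70896 (allL N70896 (tt N106000 D209201) (tt N73914 (iv0 F365750)) (tt N105999 (iv2 F452695)) (tt N39118 F218695) (tt N40102 F218696) (tt N106001 D209202) (tt N39117 (iv6 D135949)) (tt N106002 D209203))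
theorem Q70898 : ∀ i, i < 70898 → P i := stepQ 70897 Q70897 (allL N70897 (tt N71194 F219615) (tt N70848 F218698) (tt N39443 F218697) (tt N106001 (iv3 F452699)) (tt N106003 D209204) (tt N39118 (iv5 D135950)) (tt N70487 (iv6 F330937)) (tt N71192 (iv7 F219612)))
theorem Q70899 : ∀ i, i < 70899 → P i := stepQ 70898 Q70898 (allL N70898 (tt N39427 (iv1 F218702)) (tt N39426 F218703) (tt N39444 F218699) (tt N106002 (iv3 F452701)) (tt N66271 F218700) (tt N71192 (iv5 F219613)) (tt N39283 F218701) (tt N39118 (iv7 D135951)))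
theorem Q70900 : ∀ i, i < 70900 → P i := stepQ 70899 Q70899 (allL N70899 (tt N39439 (iv1 F218704)) (tt N39119 (iv0 D135952)) (tt N39438 F359145) (tt N98855 (iv3 F422584)) (tt N96054 (iv4 F410827)) (tt N95856 (iv5 F409972)) (tt N106004 D209205) (tt N39437 F359146))
theorem Q70901 : ∀ i, i < 70901 → P i := stepQ 70900 Q70900 (allL N70900 (tt N39119 (iv1 D135953)) (tt N39439 F218709) (tt N39437 F359143) (tt N106005 D209206) (tt N74580 (iv4 F228392)) (tt N95857 (iv5 F409978)) (tt N106006 D209207) (tt N39438 F359144))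
theorem Q70902 : ∀ i, i < 70902 → P i := stepQ 70901 Q70901 (allL N70901 (tt N39438 (iv1 F218710)) (tt N39437 F218708) (tt N39119 (iv2 D135954)) (tt N39447 F218705) (tt N57187 F218706) (tt N69830 (iv5 F330974)) (tt N106007 D209208) (tt N39439 F218707))
theorem Q70903 : ∀ i, i < 70903 → P i := stepQ 70902 Q70902 (allL N70902 (tt N106008 D209209) (tt N90222 (iv0 F388976)) (tt N106007 (iv2 F452721)) (tt N39120 F218711) (tt N57188 F218712) (tt N106009 D209210) (tt N39119 (iv6 D135955)) (tt N90719 (iv7 F390633)))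
theorem Q70904 : ∀ i, i < 70904 → P i := stepQ 70903 Q70903 (allL N70903 (tt N105812 (iv1 F451841)) (tt N72135 (iv0 F221440)) (tt N39452 F218713) (tt N106009 (iv3 F452724)) (tt N106010 D209211) (tt N39120 (iv5 D135956)) (tt N71796 (iv6 F220598)) (tt N90720 (iv7 F390635)))
theorem Q70905 : ∀ i, i < 70905 → P i := stepQ 70904 Q70904 (allL N70904 (tt N106005 (iv1 F452716)) (tt N90391 (iv0 F389486)) (tt N73123 (iv2 F223844)) (tt N39121 (iv3 D135957)) (tt N58076 F218715) (tt N71842 F220885) (tt N90273 F389177) (tt N39542 F218714))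
theorem Q70906 : ∀ i, i < 70906 → P i := stepQ 70905 Q70905 (allL N70905 (tt N99696 (iv1 F425780)) (tt N90787 F396256) (tt N39546 F218716) (tt N91402 (iv3 F392995)) (tt N39121 (iv4 D135958)) (tt N91094 (iv5 F391898)) (tt N90580 (iv6 F390163)) (tt N39543 F218717))
theorem Q70907 : ∀ i, i < 70907 → P i := stepQ 70906 Q70906 (allL N70906 (tt N40199 (iv1 F218724)) (tt N40201 F218725) (tt N62234 (iv2 F218723)) (tt N39122 (iv3 D135961)) (tt N62233 F218721) (tt N71843 (iv5 F220893)) (tt N89189 (iv6 F385502)) (tt N39545 F218722))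
theorem Q70908 : ∀ i, i < 70908 → P i := stepQ 70907 Q70907 (allL N70907 (tt N39552 (iv1 F218732)) (tt N39551 F218733) (tt N39124 F218729) (tt N39461 F218730) (tt N106011 D209212) (tt N39123 (iv5 D135964)) (tt N106012 D209213) (tt N39549 F218731))
theorem Q70909 : ∀ i, i < 70909 → P i := stepQ 70908 Q70908 (allL N70908 (tt N39549 (iv1 F218736)) (tt N39124 (iv0 D135966)) (tt N39552 F225342) (tt N83297 (iv3 F345437)) (tt N97710 F418013) (tt N39153 F225343) (tt N49593 F345436) (tt N39551 F225344))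
theorem Q70910 : ∀ i, i < 70910 → P i := stepQ 70909 Q70909 (allL N70909 (tt N39124 (iv1 D135967)) (tt N39549 F218737) (tt N39551 F225338) (tt N40915 F225339) (tt N97709 (iv4 F418006)) (tt N39154 F225340) (tt N101886 (iv6 F434823)) (tt N39552 F225341))
theorem Q70911 : ∀ i, i < 70911 → P i := stepQ 70910 Q70910 (allL N70910 (tt N88671 F383808) (tt N91099 (iv0 F391917)) (tt N106011 (iv2 F452729)) (tt N102663 (iv3 F438120)) (tt N39124 (iv4 D135968)) (tt N106013 D209214) (tt N104348 (iv6 F445361)) (tt N39553 F218738))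
theorem Q70912 : ∀ i, i < 70912 → P i := stepQ 70911 Q70911 (allL N70911 (tt N105167 F449078) (tt N103363 (iv0 F445362)) (tt N106012 (iv2 F452733)) (tt N39126 F218739) (tt N104348 (iv4 F445360)) (tt N90793 (iv5 F390892)) (tt N39124 (iv6 D135969)) (tt N105350 (iv7 F449829)))
theorem Q70913 : ∀ i, i < 70913 → P i := stepQ 70912 Q70912 (allL N70912 (tt N105997 F452690) (tt N105998 (iv0 F452693)) (tt N106014 D209215) (tt N39125 (iv3 D135974)) (tt N83663 F363975) (tt N39151 F218743) (tt N83662 (iv6 F363974)) (tt N39472 F218744))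
theorem Q70914 : ∀ i, i < 70914 → P i := stepQ 70913 Q70913 (allL N70913 (tt N67092 (iv1 F338466)) (tt N49579 (iv0 F338461)) (tt N39471 F218745) (tt N83662 F338463) (tt N56356 F218746) (tt N90061 (iv5 F388457)) (tt N39125 (iv6 D135975)) (tt N70490 (iv7 F338567)))
theorem Q70915 : ∀ i, i < 70915 → P i := stepQ 70914 Q70914 (allL N70914 (tt N39126 (iv1 D135977)) (tt N39477 F218747) (tt N39475 F347097) (tt N70350 F347098) (tt N66365 F347099) (tt N106015 D209216) (tt N70349 F347100) (tt N39474 F347101))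
theorem Q70916 : ∀ i, i < 70916 → P i := stepQ 70915 Q70915 (allL N70915 (tt N106016 D209217) (tt N90826 (iv0 F390998)) (tt N39476 F218748) (tt N90793 (iv3 F390891)) (tt N106017 D209218) (tt N39126 (iv5 D135978)) (tt N39129 F218749) (tt N105351 (iv7 F449835)))
theorem Q70917 : ∀ i, i < 70917 → P i := stepQ 70916 Q70916 (allL N70916 (tt N88382 (iv1 F382835)) (tt N89127 F385270) (tt N89124 F385260) (tt N39127 (iv3 D135980)) (tt N40133 F218755) (tt N106018 D209219) (tt N89179 F385470) (tt N39480 F218756))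
theorem Q70918 : ∀ i, i < 70918 → P i := stepQ 70917 Q70917 (allL N70917 (tt N61906 F218759) (tt N71219 F219635) (tt N39479 F218757) (tt N106018 (iv3 F452759)) (tt N99143 (iv4 F423447)) (tt N39127 (iv5 D135981)) (tt N88402 (iv6 F382885)) (tt N39482 F218758))
theorem Q70919 : ∀ i, i < 70919 → P i := stepQ 70918 Q70918 (allL N70918 (tt N106004 F452710) (tt N90387 (iv0 F394265)) (tt N106019 D209220) (tt N39128 (iv3 D135982)) (tt N57204 F218760) (tt N106020 D209221) (tt N90243 F389075) (tt N39478 F218761))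
theorem Q70920 : ∀ i, i < 70920 → P i := stepQ 70919 Q70919 (allL N70919 (tt N71219 (iv1 F219636)) (tt N61906 F218764) (tt N39482 F218762) (tt N106020 (iv3 F452767)) (tt N106021 D209222) (tt N39128 (iv5 D135983)) (tt N90027 (iv6 F388335)) (tt N39479 F218763))
theorem Q70921 : ∀ i, i < 70921 → P i := stepQ 70920 Q70920 (allL N70920 (tt N39487 (iv1 F218770)) (tt N39129 (iv0 D135985)) (tt N39484 (iv2 F218768)) (tt N106022 D209223) (tt N106023 D209224) (tt N39316 F218767) (tt N106024 D209225) (tt N39485 (iv7 F218769)))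
theorem Q70922 : ∀ i, i < 70922 → P i := stepQ 70921 Q70921 (allL N70921 (tt N39129 (iv1 D135986)) (tt N39487 F218771) (tt N39485 (iv2 F218774)) (tt N106025 D209226) (tt N106026 D209227) (tt N39317 F218773) (tt N62907 F365478) (tt N39484 F218772))
theorem Q70923 : ∀ i, i < 70923 → P i := stepQ 70922 Q70922 (allL N70922 (tt N106027 D209228) (tt N106028 D209229) (tt N39486 F218775) (tt N106029 D209230) (tt N39129 (iv4 D135987)) (tt N106030 D209231) (tt N106017 (iv6 F452755)) (tt N106031 D209232))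
theorem Q70924 : ∀ i, i < 70924 → P i := stepQ 70923 Q70923 (allL N70923 (tt N39485 (iv1 F218778)) (tt N39484 F218779) (tt N39487 F218776) (tt N89260 (iv3 F385821)) (tt N106031 (iv4 F452809)) (tt N39130 F218777) (tt N106032 D209233) (tt N39129 (iv7 D135988)))
theorem Q70925 : ∀ i, i < 70925 → P i := stepQ 70924 Q70924 (allL N70924 (tt N71267 (iv1 F219673)) (tt N70865 F218783) (tt N39493 F218781) (tt N47869 F328990) (tt N106033 D209234) (tt N39131 (iv5 D135990)) (tt N42549 F328991) (tt N39490 F218782))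
theorem Q70926 : ∀ i, i < 70926 → P i := stepQ 70925 Q70925 (allL N70925 (tt N39403 (iv1 F218786)) (tt N39133 (iv0 D135992)) (tt N39402 F226664) (tt N68973 (iv3 F350866)) (tt N55042 F367017) (tt N66455 (iv5 F333077)) (tt N66921 (iv6 F347132)) (tt N39401 F226665))
theorem Q70927 : ∀ i, i < 70927 → P i := stepQ 70926 Q70926 (allL N70926 (tt N39133 (iv1 D135993)) (tt N39403 F218790) (tt N39401 F226661) (tt N81118 (iv3 F362965)) (tt N55041 (iv4 F367013)) (tt N66456 F333070) (tt N67004 F347140) (tt N39402 F226662))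
theorem Q70928 : ∀ i, i < 70928 → P i := stepQ 70927 Q70927 (allL N70927 (tt N39402 (iv1 F218791)) (tt N39401 F218789) (tt N39133 (iv2 D135994)) (tt N39531 F218787) (tt N71576 (iv4 F220239)) (tt N97860 (iv5 F418552)) (tt N54347 (iv6 F351795)) (tt N39403 F218788))
theorem Q70929 : ∀ i, i < 70929 → P i := stepQ 70928 Q70928 (allL N70928 (tt N62138 F359937) (tt N81083 (iv0 F363236)) (tt N54347 F351796) (tt N39134 F218792) (tt N71577 (iv4 F220248)) (tt N43964 F321763) (tt N39133 (iv6 D135995)) (tt N55044 (iv7 F364900)))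
theorem Q70930 : ∀ i, i < 70930 → P i := stepQ 70929 Q70929 (allL N70929 (tt N102856 (iv1 F438965)) (tt N95524 (iv0 F408481)) (tt N106034 D209235) (tt N39136 (iv3 D135997)) (tt N55896 F218795) (tt N71778 (iv5 F220569)) (tt N106035 D209236) (tt N39453 F218794))
theorem Q70931 : ∀ i, i < 70931 → P i := stepQ 70930 Q70930 (allL N70930 (tt N89242 (iv1 F385752)) (tt N81539 (iv0 F354160)) (tt N39460 F218798) (tt N106035 (iv3 F452827)) (tt N81483 F337534) (tt N84318 (iv5 F368882)) (tt N39136 (iv6 D135999)) (tt N89241 (iv7 F385743)))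
theorem Q70932 : ∀ i, i < 70932 → P i := stepQ 70931 Q70931 (allL N70931 (tt N90557 F390094) (tt N90564 F390124) (tt N39456 F218800) (tt N105468 (iv3 F450376)) (tt N102700 (iv4 F438254)) (tt N105465 (iv5 F450370)) (tt N39137 (iv6 D136001)) (tt N90563 (iv7 F390118)))
theorem Q70933 : ∀ i, i < 70933 → P i := stepQ 70932 Q70932 (allL N70932 (tt N39461 (iv1 F218805)) (tt N39139 (iv0 D136003)) (tt N39464 (iv2 F218806)) (tt N104644 (iv3 F446664)) (tt N42389 F218804) (tt N39166 F218803) (tt N105226 (iv6 F449292)) (tt N39463 (iv7 F218807)))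
theorem Q70934 : ∀ i, i < 70934 → P i := stepQ 70933 Q70933 (allL N70933 (tt N39139 (iv1 D136004)) (tt N39461 F218830) (tt N39463 (iv2 F218833)) (tt N70344 F345488) (tt N79051 (iv4 F251999)) (tt N39167 F218832) (tt N54250 (iv6 F345491)) (tt N39464 F218831))
theorem Q70935 : ∀ i, i < 70935 → P i := stepQ 70934 Q70934 (allL N70934 (tt N106036 D209237) (tt N91789 (iv0 F394427)) (tt N97930 (iv2 F418838)) (tt N39141 F218834) (tt N85030 (iv4 F371419)) (tt N106037 D209238) (tt N39139 (iv6 D136005)) (tt N106038 D209239))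
theorem Q70936 : ∀ i, i < 70936 → P i := stepQ 70935 Q70935 (allL N70935 (tt N89205 (iv1 F385582)) (tt N39140 (iv0 D136006)) (tt N90479 (iv2 F389790)) (tt N106039 D209240) (tt N81417 F337652) (tt N96216 F411545) (tt N106040 D209241) (tt N90480 (iv7 F389798)))
theorem Q70937 : ∀ i, i < 70937 → P i := stepQ 70936 Q70936 (allL N70936 (tt N39140 (iv1 D136007)) (tt N89205 (iv0 F385581)) (tt N90480 (iv2 F389796)) (tt N40053 F357400) (tt N81418 F357401) (tt N40049 F357402) (tt N39272 F357403) (tt N90479 (iv7 F389791)))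
theorem Q70938 : ∀ i, i < 70938 → P i := stepQ 70937 Q70937 (allL N70937 (tt N89235 F385713) (tt N53920 (iv0 F357161)) (tt N90498 F389832) (tt N39144 F218835) (tt N89209 (iv4 F385605)) (tt N39140 (iv5 D136008)) (tt N106037 (iv6 F452834)) (tt N90499 (iv7 F389836)))
theorem Q70939 : ∀ i, i < 70939 → P i := stepQ 70938 Q70938 (allL N70938 (tt N39562 (iv1 F218843)) (tt N39141 (iv0 D136010)) (tt N39559 F350295) (tt N106041 D209242) (tt N66320 (iv4 F362709)) (tt N106042 D209243) (tt N49586 F350296) (tt N39560 F350297))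
theorem Q70940 : ∀ i, i < 70940 → P i := stepQ 70939 Q70939 (allL N70939 (tt N39141 (iv1 D136011)) (tt N39562 F218838) (tt N39560 F350298) (tt N78954 F350299) (tt N66321 (iv4 F362705)) (tt N106043 D209244) (tt N91791 (iv6 F394441)) (tt N39559 F350300))
theorem Q70941 : ∀ i, i < 70941 → P i := stepQ 70940 Q70940 (allL N70940 (tt N106044 D209245) (tt N106045 D209246) (tt N39561 F218839) (tt N106037 (iv3 F452833)) (tt N106046 D209247) (tt N39141 (iv5 D136012)) (tt N39144 F218840) (tt N106047 D209248))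
theorem Q70942 : ∀ i, i < 70942 → P i := stepQ 70941 Q70941 (allL N70941 (tt N39560 (iv1 F218844)) (tt N39559 F218845) (tt N39562 F218841) (tt N106038 (iv3 F452837)) (tt N39819 F336105) (tt N106047 (iv5 F452891)) (tt N39477 F218842) (tt N39141 (iv7 D136013)))
theorem Q70943 : ∀ i, i < 70943 → P i := stepQ 70942 Q70942 (allL N70942 (tt N106048 D209249) (tt N106006 (iv0 F452719)) (tt N106049 D209250) (tt N39142 (iv3 D136014)) (tt N57238 F218846) (tt N96211 (iv5 F411511)) (tt N80020 F365609) (tt N39567 F218847))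
theorem Q70944 : ∀ i, i < 70944 → P i := stepQ 70943 Q70943 (allL N70943 (tt N72142 (iv1 F221466)) (tt N95600 (iv0 F408847)) (tt N39565 F218848) (tt N96211 (iv3 F411510)) (tt N106050 D209251) (tt N39142 (iv5 D136015)) (tt N80016 (iv6 F365538)) (tt N39568 F218849))
theorem Q70945 : ∀ i, i < 70945 → P i := stepQ 70944 Q70944 (allL N70944 (tt N95600 (iv1 F408848)) (tt N72142 (iv0 F221467)) (tt N39568 F218858) (tt N40600 F361539) (tt N73760 F361540) (tt N39143 (iv5 D136018)) (tt N40598 F361541) (tt N39565 F218859))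
theorem Q70946 : ∀ i, i < 70946 → P i := stepQ 70945 Q70945 (allL N70945 (tt N39572 (iv1 F218865)) (tt N39144 (iv0 D136019)) (tt N39569 F219005) (tt N106051 D209252) (tt N106052 D209253) (tt N105955 (iv5 F452493)) (tt N106053 D209254) (tt N39570 F219003))
theorem Q70947 : ∀ i, i < 70947 → P i := stepQ 70946 Q70946 (allL N70946 (tt N39144 (iv1 D136020)) (tt N39572 F218860) (tt N39570 (iv2 F219001)) (tt N76180 (iv3 F360984)) (tt N106054 D209255) (tt N39683 (iv5 F218861)) (tt N53237 (iv6 F344242)) (tt N39569 (iv7 F219004)))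
theorem Q70948 : ∀ i, i < 70948 → P i := stepQ 70947 Q70947 (allL N70947 (tt N106055 D209256) (tt N106056 D209257) (tt N39571 F218862) (tt N106057 D209258) (tt N39144 (iv4 D136021)) (tt N95597 F408832) (tt N106046 (iv6 F452888)) (tt N106058 D209259))
theorem Q70949 : ∀ i, i < 70949 → P i := stepQ 70948 Q70948 (allL N70948 (tt N39570 (iv1 F218866)) (tt N39569 F218867) (tt N39572 F218863) (tt N90499 F389839) (tt N106058 (iv4 F452940)) (tt N39145 F218864) (tt N106059 D209260) (tt N39144 (iv7 D136022)))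
theorem Q70950 : ∀ i, i < 70950 → P i := stepQ 70949 Q70949 (allL N70949 (tt N73243 F338268) (tt N73242 F338269) (tt N72246 F338270) (tt N39146 (iv3 D136023)) (tt N98782 (iv4 F422300)) (tt N44385 F338271) (tt N99881 (iv6 F426665)) (tt N39577 F218868))
theorem Q70951 : ∀ i, i < 70951 → P i := stepQ 70950 Q70950 (allL N70950 (tt N72130 (iv1 F221409)) (tt N95609 F408870) (tt N39575 F218869) (tt N44385 F338259) (tt N59091 F338260) (tt N39146 (iv5 D136024)) (tt N44384 F338261) (tt N39578 F218870))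
theorem Q70952 : ∀ i, i < 70952 → P i := stepQ 70951 Q70951 (allL N70951 (tt N39151 (iv1 D136026)) (tt N39621 F218882) (tt N39619 (iv2 F218878)) (tt N40917 F218881) (tt N69708 (iv4 F218877)) (tt N71445 F220986) (tt N62950 F359465) (tt N39620 (iv7 F218880)))
theorem Q70953 : ∀ i, i < 70953 → P i := stepQ 70952 Q70952 (allL N70952 (tt N39620 (iv1 F218887)) (tt N39619 F218886) (tt N39151 (iv2 D136027)) (tt N39616 F218883) (tt N40527 F218884) (tt N106014 (iv5 F452741)) (tt N106060 D209261) (tt N39621 F218885))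
theorem Q70954 : ∀ i, i < 70954 → P i := stepQ 70953 Q70953 (allL N70953 (tt N106061 D209262) (tt N106062 D209263) (tt N106060 (iv2 F452948)) (tt N39152 F218888) (tt N40528 F218889) (tt N88996 (iv5 F384730)) (tt N39151 (iv6 D136028)) (tt N98999 (iv7 F422991)))
theorem Q70955 : ∀ i, i < 70955 → P i := stepQ 70954 Q70954 (allL N70954 (tt N72138 (iv1 F221452)) (tt N72143 (iv0 F221473)) (tt N39618 F218890) (tt N88996 (iv3 F384728)) (tt N77254 F338811) (tt N39152 (iv5 D136029)) (tt N90061 (iv6 F388458)) (tt N76086 (iv7 F338812)))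
theorem Q70956 : ∀ i, i < 70956 → P i := stepQ 70955 Q70955 (allL N70955 (tt N54107 F345442) (tt N54200 F345444) (tt N40912 F218891) (tt N39153 (iv3 D136030)) (tt N56764 F218893) (tt N83297 F345439) (tt N54150 (iv6 F345441)) (tt N39668 F218892))
theorem Q70957 : ∀ i, i < 70957 → P i := stepQ 70956 Q70956 (allL N70956 (tt N53459 (iv1 F333111)) (tt N54785 (iv0 F345454)) (tt N39671 F218894) (tt N92208 (iv3 F396259)) (tt N39153 (iv4 D136031)) (tt N92207 (iv5 F396253)) (tt N54357 F365322) (tt N39669 F218895))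
theorem Q70958 : ∀ i, i < 70958 → P i := stepQ 70957 Q70957 (allL N70957 (tt N39675 (iv1 F218907)) (tt N39674 F218908) (tt N39156 F218904) (tt N39627 F218905) (tt N106063 D209264) (tt N39155 (iv5 D136036)) (tt N84263 (iv6 F368732)) (tt N39673 F218906))
theorem Q70959 : ∀ i, i < 70959 → P i := stepQ 70958 Q70958 (allL N70958 (tt N91107 (iv1 F391962)) (tt N91105 (iv0 F391952)) (tt N106063 (iv2 F452959)) (tt N102651 (iv3 F438056)) (tt N39156 (iv4 D136040)) (tt N106064 D209265) (tt N104273 (iv6 F445061)) (tt N39676 F218913))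
theorem Q70960 : ∀ i, i < 70960 → P i := stepQ 70959 Q70959 (allL N70959 (tt N68634 (iv1 F352615)) (tt N68631 (iv0 F352507)) (tt N84263 (iv2 F368729)) (tt N39158 F218914) (tt N104273 (iv4 F445059)) (tt N83870 (iv5 F367298)) (tt N39156 (iv6 D136041)) (tt N52154 F352613))
theorem Q70961 : ∀ i, i < 70961 → P i := stepQ 70960 Q70960 (allL N70960 (tt N62837 F328458) (tt N62879 (iv0 F339490)) (tt N39643 F218919) (tt N83870 (iv3 F367297)) (tt N60868 F328459) (tt N39158 (iv5 D136048)) (tt N39160 F218920) (tt N75169 F328460))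
theorem Q70962 : ∀ i, i < 70962 → P i := stepQ 70961 Q70961 (allL N70961 (tt N95854 (iv1 F409962)) (tt N54176 F365536) (tt N73891 (iv2 F365530)) (tt N39159 (iv3 D136052)) (tt N66511 F218930) (tt N62842 F365529) (tt N106065 D209266) (tt N39645 F218931))
theorem Q70963 : ∀ i, i < 70963 → P i := stepQ 70962 Q70962 (allL N70962 (tt N70642 (iv1 F218937)) (tt N39850 (iv0 F218936)) (tt N39647 F218934) (tt N106065 (iv3 F452965)) (tt N60895 (iv4 F328414)) (tt N90722 (iv5 F390646)) (tt N39159 (iv6 D136054)) (tt N98990 (iv7 F422946)))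
theorem Q70964 : ∀ i, i < 70964 → P i := stepQ 70963 Q70963 (allL N70963 (tt N104713 (iv1 F446958)) (tt N39837 F221380) (tt N39654 F218954) (tt N90943 (iv3 F391321)) (tt N39163 F218955) (tt N106066 D209267) (tt N39162 (iv6 D136061)) (tt N98988 (iv7 F422939)))
theorem Q70965 : ∀ i, i < 70965 → P i := stepQ 70964 Q70964 (allL N70964 (tt N60375 F218958) (tt N58602 (iv0 F218959)) (tt N71616 (iv2 F220306)) (tt N40418 F218956) (tt N92601 (iv4 F397582)) (tt N40416 F218957) (tt N39164 (iv6 D136062)) (tt N71615 (iv7 F220304)))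
theorem Q70966 : ∀ i, i < 70966 → P i := stepQ 70965 Q70965 (allL N70965 (tt N40917 (iv1 F218963)) (tt N40920 (iv0 F218962)) (tt N40916 (iv2 F218967)) (tt N39166 (iv3 D136063)) (tt N55929 F218961) (tt N104644 (iv5 F446665)) (tt N94286 (iv6 F403962)) (tt N39622 F218960))
theorem Q70967 : ∀ i, i < 70967 → P i := stepQ 70966 Q70966 (allL N70966 (tt N39848 F354498) (tt N53375 (iv0 F345501)) (tt N39624 F218971) (tt N45347 F345494) (tt N81808 F345495) (tt N45346 F345496) (tt N39167 (iv6 D136066)) (tt N54338 (iv7 F354496)))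
theorem Q70968 : ∀ i, i < 70968 → P i := stepQ 70967 Q70967 (allL N70967 (tt N39630 F218976) (tt N39629 F218977) (tt N39169 F218972) (tt N39673 F218973) (tt N50259 F218974) (tt N39168 (iv5 D136067)) (tt N52151 F361758) (tt N39627 F218975))
theorem Q70969 : ∀ i, i < 70969 → P i := stepQ 70968 Q70968 (allL N70968 (tt N80684 F345497) (tt N80681 (iv0 F361762)) (tt N52151 (iv2 F361759)) (tt N39171 F218981) (tt N60849 F218982) (tt N53406 F361761) (tt N39169 (iv6 D136069)) (tt N87675 (iv7 F380114)))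
theorem Q70970 : ∀ i, i < 70970 → P i := stepQ 70969 Q70969 (allL N70969 (tt N39678 (iv1 F218993)) (tt N39677 F218994) (tt N39679 F218990) (tt N87675 (iv3 F380111)) (tt N67604 (iv4 F327314)) (tt N54496 (iv5 F338476)) (tt N39644 F218991) (tt N39171 (iv7 D136077)))
theorem Q70971 : ∀ i, i < 70971 → P i := stepQ 70970 Q70970 (allL N70970 (tt N54172 (iv1 F365616)) (tt N54105 (iv0 F365614)) (tt N54174 F362212) (tt N39172 (iv3 D136078)) (tt N92902 (iv4 F398707)) (tt N86753 (iv5 F377058)) (tt N106067 D209268) (tt N39684 F218995))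
theorem Q70972 : ∀ i, i < 70972 → P i := stepQ 70971 Q70971 (allL N70971 (tt N39856 (iv1 F219299)) (tt N58607 (iv0 F219002)) (tt N39683 F218999) (tt N106067 (iv3 F452972)) (tt N71957 (iv4 F221061)) (tt N39570 F219000) (tt N39172 (iv6 D136080)) (tt N105955 (iv7 F452491)))
theorem Q70973 : ∀ i, i < 70973 → P i := stepQ 70972 Q70972 (allL N70972 (tt N40959 F362220) (tt N73916 F362221) (tt N106068 D209269) (tt N39173 (iv3 D136081)) (tt N54770 F362219) (tt N88810 F384225) (tt N105951 (iv6 F452474)) (tt N39680 F219006))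
theorem Q70974 : ∀ i, i < 70974 → P i := stepQ 70973 Q70973 (allL N70973 (tt N82712 (iv1 F335575)) (tt N51463 (iv0 F335567)) (tt N39687 F219024) (tt N49796 (iv3 F343259)) (tt N83478 F346050) (tt N39175 (iv5 D136088)) (tt N55072 F335548) (tt N39690 F219025))
theorem Q70975 : ∀ i, i < 70975 → P i := stepQ 70974 Q70974 (allL N70974 (tt N39841 F221404) (tt N106069 D209270) (tt N39688 F219026) (tt N72603 F363015) (tt N39176 F219027) (tt N72601 (iv5 F335551)) (tt N39175 (iv6 D136089)) (tt N96743 (iv7 F413725)))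
theorem Q70976 : ∀ i, i < 70976 → P i := stepQ 70975 Q70975 (allL N70975 (tt N74730 (iv1 F347273)) (tt N40900 F219047) (tt N39729 F219035) (tt N92321 (iv3 F396690)) (tt N39177 (iv4 D136092)) (tt N61954 F347219) (tt N106070 D209271) (tt N39726 F219036))
theorem Q70977 : ∀ i, i < 70977 → P i := stepQ 70976 Q70976 (allL N70976 (tt N39813 F360510) (tt N39201 F360511) (tt N39730 F219037) (tt N83982 (iv3 F367708)) (tt N67695 (iv4 F360517)) (tt N39177 (iv5 D136093)) (tt N83981 F367704) (tt N39727 F219038))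
theorem Q70978 : ∀ i, i < 70978 → P i := stepQ 70977 Q70977 (allL N70977 (tt N78368 F362508) (tt N39838 F362509) (tt N39731 F219039) (tt N88626 F383637) (tt N106070 (iv4 F452987)) (tt N76926 F362510) (tt N39177 (iv6 D136094)) (tt N104244 (iv7 F444901)))
theorem Q70979 : ∀ i, i < 70979 → P i := stepQ 70978 Q70978 (allL N70978 (tt N39757 (iv1 F219046)) (tt N39760 (iv0 F219044)) (tt N39756 F219211) (tt N39178 (iv3 D136095)) (tt N57100 (iv4 F220500)) (tt N106071 D209272) (tt N101942 (iv6 F435038)) (tt N39728 F219040))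
theorem Q70980 : ∀ i, i < 70980 → P i := stepQ 70979 Q70979 (allL N70979 (tt N39201 F360512) (tt N39813 F360513) (tt N39727 F219048) (tt N106071 (iv3 F452990)) (tt N102546 (iv4 F437596)) (tt N39178 (iv5 D136097)) (tt N106072 D209273) (tt N39730 F219049))
theorem Q70981 : ∀ i, i < 70981 → P i := stepQ 70980 Q70980 (allL N70980 (tt N39739 (iv1 F219054)) (tt N39738 F219055) (tt N39180 F219051) (tt N39707 F219052) (tt N103668 (iv4 F442427)) (tt N39179 (iv5 D136099)) (tt N78693 F360627) (tt N39733 F219053))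
theorem Q70982 : ∀ i, i < 70982 → P i := stepQ 70981 Q70981 (allL N70981 (tt N91006 (iv1 F391547)) (tt N89290 F385948) (tt N39181 F219056) (tt N39708 F219057) (tt N92418 (iv4 F396952)) (tt N78694 (iv5 F360622)) (tt N39179 (iv6 D136100)) (tt N89362 (iv7 F386246)))
theorem Q70983 : ∀ i, i < 70983 → P i := stepQ 70982 Q70982 (allL N70982 (tt N39733 (iv1 F219058)) (tt N39180 (iv0 D136101)) (tt N39739 F386023) (tt N89308 F386024) (tt N102548 (iv4 F437606)) (tt N66349 (iv5 F386031)) (tt N106073 D209274) (tt N39738 F386025))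
theorem Q70984 : ∀ i, i < 70984 → P i := stepQ 70983 Q70983 (allL N70983 (tt N39180 (iv1 D136102)) (tt N39733 F219059) (tt N39738 F386026) (tt N106074 D209275) (tt N102547 (iv4 F437599)) (tt N66350 (iv5 F233573)) (tt N106075 D209276) (tt N39739 F386027))
theorem Q70985 : ∀ i, i < 70985 → P i := stepQ 70984 Q70984 (allL N70984 (tt N102550 F437619) (tt N75723 F233558) (tt N103668 (iv2 F442426)) (tt N99181 (iv3 F423606)) (tt N39180 (iv4 D136103)) (tt N68887 (iv5 F361829)) (tt N67522 (iv6 F361795)) (tt N39740 F219060))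
theorem Q70986 : ∀ i, i < 70986 → P i := stepQ 70985 Q70985 (allL N70985 (tt N87849 (iv1 F380833)) (tt N87848 F380825) (tt N78693 (iv2 F360628)) (tt N39182 F219061) (tt N67522 F347313) (tt N75126 F347314) (tt N39180 (iv6 D136104)) (tt N78690 (iv7 F347311)))
theorem Q70987 : ∀ i, i < 70987 → P i := stepQ 70986 Q70986 (allL N70986 (tt N39181 (iv1 D136106)) (tt N89362 F386247) (tt N89290 F385949) (tt N90996 (iv3 F391506)) (tt N92502 (iv4 F397184)) (tt N63006 (iv5 F360612)) (tt N106076 D209277) (tt N91006 (iv7 F391546)))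
theorem Q70988 : ∀ i, i < 70988 → P i := stepQ 70987 Q70987 (allL N70987 (tt N57107 (iv1 F219091)) (tt N54199 (iv0 F345471)) (tt N39704 F219082) (tt N101829 (iv3 F434548)) (tt N39183 (iv4 D136116)) (tt N106077 D209278) (tt N101827 F434542) (tt N39700 F219083))
theorem Q70989 : ∀ i, i < 70989 → P i := stepQ 70988 Q70988 (allL N70988 (tt N54199 (iv1 F345472)) (tt N57107 (iv0 F219090)) (tt N39700 F219086) (tt N56741 F219089) (tt N39184 (iv4 D136119)) (tt N59438 F219088) (tt N78360 (iv6 F350378)) (tt N39704 F219087))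
theorem Q70990 : ∀ i, i < 70990 → P i := stepQ 70989 Q70989 (allL N70989 (tt N39203 (iv1 F219111)) (tt N39807 F219117) (tt N39701 F219096) (tt N91076 (iv3 F391834)) (tt N66006 F219098) (tt N39184 (iv5 D136120)) (tt N48785 F345942) (tt N39705 F219097))
theorem Q70991 : ∀ i, i < 70991 → P i := stepQ 70990 Q70990 (allL N70990 (tt N39185 (iv1 D136124)) (tt N39707 F219141) (tt N39713 (iv2 F219144)) (tt N91078 F391844) (tt N60521 F219143) (tt N66273 F220880) (tt N86025 (iv6 F374943)) (tt N39714 F219142))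
theorem Q70992 : ∀ i, i < 70992 → P i := stepQ 70991 Q70991 (allL N70991 (tt N39187 (iv1 D136133)) (tt N39750 F219160) (tt N39748 (iv2 F333865)) (tt N105119 (iv3 F448883)) (tt N67646 F328560) (tt N48662 F328561) (tt N104129 (iv6 F444330)) (tt N39747 F333864))
theorem Q70993 : ∀ i, i < 70993 → P i := stepQ 70992 Q70992 (allL N70992 (tt N45609 F325435) (tt N64570 F325436) (tt N39200 F219181) (tt N39752 F219182) (tt N98810 (iv4 F422414)) (tt N45338 F325437) (tt N39188 (iv6 D136140)) (tt N45356 F325438))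
theorem Q70994 : ∀ i, i < 70994 → P i := stepQ 70993 Q70993 (allL N70993 (tt N98783 (iv1 F422307)) (tt N71773 F224170) (tt N39191 F219186) (tt N67145 F224171) (tt N39189 (iv4 D136144)) (tt N93632 (iv5 F401366)) (tt N90941 (iv6 F391316)) (tt N39195 F219187))
theorem Q70995 : ∀ i, i < 70995 → P i := stepQ 70994 Q70994 (allL N70994 (tt N91078 (iv1 F391842)) (tt N91077 (iv0 F391841)) (tt N91080 (iv2 F391849)) (tt N39192 F219194) (tt N102526 (iv4 F437506)) (tt N39190 (iv5 D136150)) (tt N58952 (iv6 F363034)) (tt N91052 (iv7 F391767)))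
theorem Q70996 : ∀ i, i < 70996 → P i := stepQ 70995 Q70995 (allL N70995 (tt N89276 (iv1 F385885)) (tt N89275 F385882) (tt N40936 F343213) (tt N39193 F219195) (tt N73237 (iv4 F224191)) (tt N40893 F343214) (tt N39190 (iv6 D136151)) (tt N40966 F343215))
theorem Q70997 : ∀ i, i < 70997 → P i := stepQ 70996 Q70996 (allL N70996 (tt N39195 F219199) (tt N39191 (iv0 D136153)) (tt N98783 (iv2 F422303)) (tt N66382 (iv3 F219198)) (tt N69835 (iv4 F331003)) (tt N106078 D209279) (tt N79160 F351560) (tt N71773 (iv7 F220547)))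
theorem Q70998 : ∀ i, i < 70998 → P i := stepQ 70997 Q70997 (allL N70997 (tt N61859 (iv1 F391261)) (tt N90940 F391317) (tt N90941 (iv2 F391312)) (tt N93636 (iv3 F401378)) (tt N39193 F219200) (tt N93624 (iv5 F401321)) (tt N39191 (iv6 D136156)) (tt N90916 (iv7 F391260)))
theorem Q70999 : ∀ i, i < 70999 → P i := stepQ 70998 Q70998 (allL N70998 (tt N71773 F224174) (tt N98783 (iv0 F422306)) (tt N39195 F219201) (tt N93641 (iv3 F401402)) (tt N39194 F219202) (tt N93635 (iv5 F401375)) (tt N89294 (iv6 F385959)) (tt N39191 (iv7 D136157)))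
theorem Q71000 : ∀ i, i < 71000 → P i := stepQ 70999 Q70999 (allL N70999 (tt N93634 (iv1 F401371)) (tt N93301 (iv0 F400310)) (tt N93635 (iv2 F401372)) (tt N99060 (iv3 F423182)) (tt N62357 (iv4 F331830)) (tt N39195 (iv5 D136173)) (tt N99116 (iv6 F423395)) (tt N93632 F401367))
theorem Q71001 : ∀ i, i < 71001 → P i := stepQ 71000 Q71000 (allL N71000 (tt N91076 F406302) (tt N91073 (iv0 F391824)) (tt N106079 D209280) (tt N39198 (iv3 D136194)) (tt N105865 (iv4 F452069)) (tt N72528 F350327) (tt N70426 F350323) (tt N102845 (iv7 F438911)))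
theorem Q71002 : ∀ i, i < 71002 → P i := stepQ 71001 Q71001 (allL N71001 (tt N60889 F345487) (tt N93046 (iv0 F399259)) (tt N67503 (iv2 F350329)) (tt N66376 (iv3 F342851)) (tt N39198 (iv4 D136195)) (tt N66375 F350328) (tt N57727 F350324) (tt N95940 (iv7 F410359)))
theorem Q71003 : ∀ i, i < 71003 → P i := stepQ 71002 Q71002 (allL N71002 (tt N88673 F399728) (tt N83982 F399729) (tt N60655 (iv2 F350313)) (tt N39199 (iv3 D136199)) (tt N60649 (iv4 F350314)) (tt N105996 (iv5 F452678)) (tt N60648 F350312) (tt N88672 F383815))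
theorem Q71004 : ∀ i, i < 71004 → P i := stepQ 71003 Q71003 (allL N71003 (tt N93046 F399260) (tt N60889 F364302) (tt N95940 (iv2 F410356)) (tt N56007 (iv3 F360384)) (tt N39199 (iv4 D136200)) (tt N56005 (iv5 F331028)) (tt N66508 (iv6 F360385)) (tt N67503 F360383))
theorem Q71005 : ∀ i, i < 71005 → P i := stepQ 71004 Q71004 (allL N71004 (tt N70360 (iv1 F350309)) (tt N73226 (iv0 F350305)) (tt N73287 (iv2 F350308)) (tt N60648 (iv3 F350311)) (tt N66508 F350306) (tt N72151 (iv5 F332956)) (tt N39199 (iv6 D136202)) (tt N70430 F350310))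
theorem Q71006 : ∀ i, i < 71006 → P i := stepQ 71005 Q71005 (allL N71005 (tt N39730 F347223) (tt N39727 (iv0 F347224)) (tt N39201 (iv2 D136215)) (tt N39807 F219235) (tt N103669 (iv4 F442435)) (tt N92325 (iv5 F396709)) (tt N106080 D209281) (tt N39813 F219236))
theorem Q71007 : ∀ i, i < 71007 → P i := stepQ 71006 Q71006 (allL N71006 (tt N68888 F360514) (tt N69030 F360515) (tt N103669 F442436) (tt N102642 (iv3 F438010)) (tt N39201 (iv4 D136216)) (tt N73303 (iv5 F360509)) (tt N102610 (iv6 F437884)) (tt N39814 F219240))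
theorem Q71008 : ∀ i, i < 71008 → P i := stepQ 71007 Q71007 (allL N71007 (tt N105250 F449389) (tt N106081 D209282) (tt N106080 (iv2 F453033)) (tt N39202 F219241) (tt N102610 F437883) (tt N106082 D209283) (tt N39201 (iv6 D136217)) (tt N105284 (iv7 F449552)))
theorem Q71009 : ∀ i, i < 71009 → P i := stepQ 71008 Q71008 (allL N71008 (tt N106083 D209284) (tt N83476 (iv0 F396722)) (tt N39811 F219243) (tt N106082 (iv3 F453037)) (tt N106084 D209285) (tt N39202 (iv5 D136220)) (tt N92327 (iv6 F396718)) (tt N105285 (iv7 F449555)))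
theorem Q71010 : ∀ i, i < 71010 → P i := stepQ 71009 Q71009 (allL N71009 (tt N39705 (iv1 F219252)) (tt N39701 F219251) (tt N39203 (iv2 D136222)) (tt N39813 F219249) (tt N97703 (iv4 F417975)) (tt N94937 (iv5 F406414)) (tt N87834 (iv6 F380758)) (tt N39807 F219250))
theorem Q71011 : ∀ i, i < 71011 → P i := stepQ 71010 Q71010 (allL N71010 (tt N92171 (iv1 F396082)) (tt N97712 F418030) (tt N97703 (iv2 F417974)) (tt N66591 F219253) (tt N39203 (iv4 D136223)) (tt N59502 F219255) (tt N101888 F434834) (tt N39808 F219254))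
theorem Q71012 : ∀ i, i < 71012 → P i := stepQ 71011 Q71011 (allL N71011 (tt N48802 F365377) (tt N87835 F380762) (tt N87834 F380756) (tt N39204 F219257) (tt N101888 (iv4 F434833)) (tt N106085 D209286) (tt N39203 (iv6 D136224)) (tt N87833 F380750))
theorem Q71013 : ∀ i, i < 71013 → P i := stepQ 71012 Q71012 (allL N71012 (tt N39818 (iv1 F219262)) (tt N39204 (iv0 D136225)) (tt N39796 F360524) (tt N70360 F360525) (tt N39820 F360526) (tt N73225 F360527) (tt N51688 F360528) (tt N39816 (iv7 F362698)))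
theorem Q71014 : ∀ i, i < 71014 → P i := stepQ 71013 Q71013 (allL N71013 (tt N103761 (iv1 F442719)) (tt N106086 D209287) (tt N39817 F219259) (tt N106085 (iv3 F453045)) (tt N106087 D209288) (tt N39204 (iv5 D136227)) (tt N94939 (iv6 F406425)) (tt N106088 D209289))
theorem Q71015 : ∀ i, i < 71015 → P i := stepQ 71014 Q71014 (allL N71014 (tt N39816 (iv1 F219263)) (tt N39796 F362695) (tt N39818 F219260) (tt N87833 F380749) (tt N102637 (iv4 F437985)) (tt N106088 (iv5 F453056)) (tt N39812 F219261) (tt N39204 (iv7 D136228)))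
theorem Q71016 : ∀ i, i < 71016 → P i := stepQ 71015 Q71015 (allL N71015 (tt N88676 F388691) (tt N106072 F452998) (tt N106089 D209290) (tt N39205 (iv3 D136230)) (tt N102607 (iv4 F437877)) (tt N106090 D209291) (tt N105268 (iv6 F449476)) (tt N39827 F359618))
theorem Q71017 : ∀ i, i < 71017 → P i := stepQ 71016 Q71016 (allL N71016 (tt N102287 F436567) (tt N71346 F362716) (tt N39824 F359615) (tt N80279 F334325) (tt N39205 (iv4 D136231)) (tt N80278 F359627) (tt N103911 (iv6 F443332)) (tt N39828 F359616))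
theorem Q71018 : ∀ i, i < 71018 → P i := stepQ 71017 Q71017 (allL N71017 (tt N83095 (iv1 F375558)) (tt N103621 (iv0 F442272)) (tt N39825 F359619) (tt N106090 (iv3 F453064)) (tt N106091 D209292) (tt N39205 (iv5 D136232)) (tt N101478 (iv6 F433092)) (tt N39829 F359620))
theorem Q71019 : ∀ i, i < 71019 → P i := stepQ 71018 Q71018 (allL N71018 (tt N104244 (iv1 F444903)) (tt N39731 F362502) (tt N78368 (iv2 F351834)) (tt N39207 (iv3 D136239)) (tt N92523 (iv4 F397230)) (tt N63096 F351865) (tt N106092 D209293) (tt N39838 F219267))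
theorem Q71020 : ∀ i, i < 71020 → P i := stepQ 71019 Q71019 (allL N71019 (tt N39654 F352703) (tt N98988 (iv0 F422940)) (tt N39837 F219270) (tt N106092 (iv3 F453072)) (tt N92522 (iv4 F397226)) (tt N71416 F220036) (tt N39207 (iv6 D136241)) (tt N104713 (iv7 F446956)))
theorem Q71021 : ∀ i, i < 71021 → P i := stepQ 71020 Q71020 (allL N71020 (tt N39702 F351802) (tt N76922 (iv0 F351801)) (tt N77272 (iv2 F351800)) (tt N39208 (iv3 D136242)) (tt N93362 (iv4 F400526)) (tt N48475 F351799) (tt N91745 (iv6 F394283)) (tt N39834 F219271))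
theorem Q71022 : ∀ i, i < 71022 → P i := stepQ 71021 Q71021 (allL N71021 (tt N96743 (iv1 F413727)) (tt N39688 F220384) (tt N39841 F219274) (tt N91745 F394284) (tt N101925 (iv4 F434965)) (tt N71697 (iv5 F220382)) (tt N39208 (iv6 D136244)) (tt N106069 (iv7 F452981)))
theorem Q71023 : ∀ i, i < 71023 → P i := stepQ 71022 Q71022 (allL N71022 (tt N39209 (iv1 D136246)) (tt N39366 F219276) (tt N39843 F322832) (tt N76896 F319000) (tt N43688 F319001) (tt N95507 (iv5 F408406)) (tt N57689 F319002) (tt N39842 F322833))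
theorem Q71024 : ∀ i, i < 71024 → P i := stepQ 71023 Q71023 (allL N71023 (tt N39409 F219285) (tt N71100 (iv0 F219448)) (tt N71330 (iv2 F219832)) (tt N39214 F219283) (tt N79592 (iv4 F338803)) (tt N39212 (iv5 D136251)) (tt N39394 F219286) (tt N39846 F219284))
theorem Q71025 : ∀ i, i < 71025 → P i := stepQ 71024 Q71024 (allL N71024 (tt N71615 F220305) (tt N71616 (iv0 F220310)) (tt N60375 F219287) (tt N39215 F219288) (tt N66496 F219289) (tt N57891 F219291) (tt N39212 (iv6 D136252)) (tt N58602 F219290))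
theorem Q71026 : ∀ i, i < 71026 → P i := stepQ 71025 Q71025 (allL N71025 (tt N39624 F354501) (tt N54338 F354502) (tt N53375 F354503) (tt N39213 (iv3 D136253)) (tt N66495 F219292) (tt N53374 F354504) (tt N81424 (iv6 F354529)) (tt N39848 F219293))
theorem Q71027 : ∀ i, i < 71027 → P i := stepQ 71026 Q71026 (allL N71026 (tt N105955 F452494) (tt N39683 (iv0 F220372)) (tt N39856 F219296) (tt N81424 (iv3 F357420)) (tt N39215 F219297) (tt N71671 (iv5 F220370)) (tt N39213 (iv6 D136255)) (tt N58607 F219298))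
theorem Q71028 : ∀ i, i < 71028 → P i := stepQ 71027 Q71027 (allL N71027 (tt N54369 (iv1 F327132)) (tt N43686 (iv0 F327137)) (tt N39857 F219300) (tt N54387 F326317) (tt N39214 (iv4 D136256)) (tt N63103 F326318) (tt N58525 F219301) (tt N39852 F219302))
theorem Q71029 : ∀ i, i < 71029 → P i := stepQ 71028 Q71028 (allL N71028 (tt N39216 (iv1 D136258)) (tt N65695 (iv0 F219307)) (tt N65694 F349590) (tt N73691 (iv3 F349588)) (tt N65736 (iv4 F219306)) (tt N56004 F349586) (tt N77786 F355937) (tt N56003 (iv7 F349589)))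
theorem Q71030 : ∀ i, i < 71030 → P i := stepQ 71029 Q71029 (allL N71029 (tt N56003 (iv1 F344597)) (tt N65694 F219311) (tt N39216 (iv2 D136259)) (tt N59573 F219308) (tt N65516 F219309) (tt N68074 F349563) (tt N106093 D209294) (tt N65695 F219310))
theorem Q71031 : ∀ i, i < 71031 → P i := stepQ 71030 Q71030 (allL N71030 (tt N106094 D209295) (tt N106095 D209296) (tt N106093 (iv2 F453075)) (tt N39218 F219315) (tt N65518 F219316) (tt N99709 (iv5 F425848)) (tt N39216 (iv6 D136261)) (tt N95598 (iv7 F408836)))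
theorem Q71032 : ∀ i, i < 71032 → P i := stepQ 71031 Q71031 (allL N71031 (tt N39584 F219317) (tt N55446 F340598) (tt N71050 (iv2 F219351)) (tt N99709 (iv3 F425846)) (tt N106096 D209297) (tt N39218 (iv5 D136263)) (tt N99708 (iv6 F425843)) (tt N95599 (iv7 F408841)))
theorem Q71033 : ∀ i, i < 71033 → P i := stepQ 71032 Q71032 (allL N71032 (tt N39219 (iv1 D136264)) (tt N59573 F219322) (tt N59576 (iv2 F219323)) (tt N81627 (iv3 F349833)) (tt N96322 (iv4 F412025)) (tt N97288 (iv5 F416231)) (tt N106097 D209298) (tt N59577 (iv7 F219324)))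
theorem Q71034 : ∀ i, i < 71034 → P i := stepQ 71033 Q71033 (allL N71033 (tt N59577 (iv1 F219326)) (tt N59576 F219321) (tt N39219 (iv2 D136265)) (tt N65695 F219318) (tt N59370 F219319) (tt N68070 F349530) (tt N78485 (iv6 F365631)) (tt N59573 F219320))
theorem Q71035 : ∀ i, i < 71035 → P i := stepQ 71034 Q71034 (allL N71034 (tt N90591 F390185) (tt N99230 F423772) (tt N68070 (iv2 F349531)) (tt N39220 F219327) (tt N106098 D209299) (tt N39219 (iv5 D136266)) (tt N68068 F349536) (tt N59578 F219328))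
theorem Q71036 : ∀ i, i < 71036 → P i := stepQ 71035 Q71035 (allL N71035 (tt N96739 (iv1 F413704)) (tt N96737 (iv0 F413693)) (tt N65697 F219332) (tt N51568 (iv3 F377567)) (tt N104031 (iv4 F443878)) (tt N39221 (iv5 D136269)) (tt N104190 (iv6 F444607)) (tt N96776 (iv7 F413875)))
theorem Q71037 : ∀ i, i < 71037 → P i := stepQ 71036 Q71036 (allL N71036 (tt N59872 (iv1 F219335)) (tt N59899 F219336) (tt N59927 F219333) (tt N78486 (iv3 F365627)) (tt N65693 F219334) (tt N96776 (iv5 F413876)) (tt N71051 (iv6 F219354)) (tt N39221 (iv7 D136270)))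
theorem Q71038 : ∀ i, i < 71038 → P i := stepQ 71037 Q71037 (allL N71037 (tt N58671 F219338) (tt N75302 F351976) (tt N75413 F351977) (tt N106099 D209300) (tt N39222 (iv4 D136272)) (tt N91327 (iv5 F392752)) (tt N45480 F351978) (tt N75414 F351979))
theorem Q71039 : ∀ i, i < 71039 → P i := stepQ 71038 Q71038 (allL N71038 (tt N91906 (iv1 F394905)) (tt N95541 (iv0 F408564)) (tt N91967 (iv2 F395168)) (tt N81622 F349861) (tt N45480 F349862) (tt N55449 F340607) (tt N39222 (iv6 D136273)) (tt N81618 F349863))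
theorem Q71040 : ∀ i, i < 71040 → P i := stepQ 71039 Q71039 (allL N71039 (tt N92000 (iv1 F395319)) (tt N91946 F395080) (tt N81624 F359862) (tt N39223 (iv3 D136275)) (tt N52561 (iv4 F359863)) (tt N97121 (iv5 F415536)) (tt N55470 (iv6 F361139)) (tt N87456 (iv7 F379388)))
theorem Q71041 : ∀ i, i < 71041 → P i := stepQ 71040 Q71040 (allL N71040 (tt N75302 F336555) (tt N58671 (iv0 F219341)) (tt N75414 (iv2 F336569)) (tt N58750 F219340) (tt N39223 (iv4 D136276)) (tt N92498 (iv5 F397171)) (tt N46123 F336557) (tt N75413 F336558))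
theorem Q71042 : ∀ i, i < 71042 → P i := stepQ 71041 Q71041 (allL N71041 (tt N58406 (iv1 F355466)) (tt N96807 (iv0 F414052)) (tt N95293 (iv2 F407755)) (tt N97121 (iv3 F415535)) (tt N75254 F355467) (tt N39223 (iv5 D136277)) (tt N75259 (iv6 F355468)) (tt N91400 F392992))
theorem Q71043 : ∀ i, i < 71043 → P i := stepQ 71042 Q71042 (allL N71042 (tt N55454 F359855) (tt N81606 F359856) (tt N78665 F359857) (tt N55470 (iv3 F361138)) (tt N46123 F359859) (tt N87571 (iv5 F379781)) (tt N39223 (iv6 D136278)) (tt N80064 F359860))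
theorem Q71044 : ∀ i, i < 71044 → P i := stepQ 71043 Q71043 (allL N71043 (tt N86393 (iv1 F376068)) (tt N39225 (iv0 D136280)) (tt N86394 (iv2 F376073)) (tt N72648 F222809) (tt N58801 (iv4 F222811)) (tt N59779 (iv5 F222812)) (tt N91354 (iv6 F392846)) (tt N83217 (iv7 F353517)))
theorem Q71045 : ∀ i, i < 71045 → P i := stepQ 71044 Q71044 (allL N71044 (tt N103148 (iv1 F440304)) (tt N44094 F347148) (tt N91327 (iv2 F392750)) (tt N73328 (iv3 F224404)) (tt N39225 (iv4 D136282)) (tt N75413 (iv5 F351991)) (tt N91269 (iv6 F392470)) (tt N92498 (iv7 F397173)))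
theorem Q71046 : ∀ i, i < 71046 → P i := stepQ 71045 Q71045 (allL N71045 (tt N106100 D209301) (tt N103149 (iv0 F440306)) (tt N71060 (iv2 F219362)) (tt N96075 (iv3 F410923)) (tt N92295 (iv4 F396612)) (tt N106101 D209302) (tt N39226 (iv6 D136285)) (tt N91347 (iv7 F392827)))
theorem Q71047 : ∀ i, i < 71047 → P i := stepQ 71046 Q71046 (allL N71046 (tt N89289 F385943) (tt N97288 (iv0 F416230)) (tt N73293 F364297) (tt N39227 (iv3 D136286)) (tt N73297 (iv4 F364298)) (tt N59778 F219347) (tt N89908 (iv6 F387959)) (tt N71059 (iv7 F219361)))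
theorem Q71048 : ∀ i, i < 71048 → P i := stepQ 71047 Q71047 (allL N71047 (tt N71064 (iv1 F219372)) (tt N39228 (iv0 D136288)) (tt N71063 (iv2 F382052)) (tt N57070 (iv3 F382053)) (tt N106102 D209303) (tt N106103 D209304) (tt N94438 (iv6 F404482)) (tt N66531 F382051))
theorem Q71049 : ∀ i, i < 71049 → P i := stepQ 71048 Q71048 (allL N71048 (tt N39228 (iv1 D136289)) (tt N71064 F219371) (tt N66531 F382048) (tt N89287 F385932) (tt N74283 F397012) (tt N88180 (iv5 F382047)) (tt N106104 D209305) (tt N71063 (iv7 F382050)))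
theorem Q71050 : ∀ i, i < 71050 → P i := stepQ 71049 Q71049 (allL N71049 (tt N55029 F359251) (tt N74114 (iv0 F361842)) (tt N62662 (iv2 F361843)) (tt N78653 F359252) (tt N55948 F219350) (tt N79499 (iv5 F359250)) (tt N39229 (iv6 D136291)) (tt N103961 (iv7 F443539)))
theorem Q71051 : ∀ i, i < 71051 → P i := stepQ 71050 Q71050 (allL N71050 (tt N59696 F219352) (tt N71716 F220410) (tt N71031 F219351) (tt N45450 F359248) (tt N106105 D209306) (tt N39230 (iv5 D136292)) (tt N79499 F359249) (tt N71713 F220407))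
theorem Q71052 : ∀ i, i < 71052 → P i := stepQ 71051 Q71051 (allL N71051 (tt N58565 (iv1 F219355)) (tt N58564 F219356) (tt N58603 F219353) (tt N81009 (iv3 F353285)) (tt N71669 (iv4 F220359)) (tt N71713 (iv5 F220406)) (tt N71036 F219354) (tt N39230 (iv7 D136293)))
theorem Q71053 : ∀ i, i < 71053 → P i := stepQ 71052 Q71052 (allL N71052 (tt N40801 F349711) (tt N95144 (iv0 F407222)) (tt N95037 (iv2 F406750)) (tt N39231 (iv3 D136294)) (tt N72886 F223507) (tt N96095 (iv5 F411023)) (tt N71707 F349712) (tt N95040 (iv7 F406769)))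
theorem Q71054 : ∀ i, i < 71054 → P i := stepQ 71053 Q71053 (allL N71053 (tt N106106 D209307) (tt N58608 F365913) (tt N79294 F354538) (tt N71707 (iv3 F349713)) (tt N81748 (iv4 F358234)) (tt N71706 F349714) (tt N39231 (iv6 D136296)) (tt N106107 D209308))
theorem Q71055 : ∀ i, i < 71055 → P i := stepQ 71054 Q71054 (allL N71054 (tt N59789 F342872) (tt N93659 (iv0 F401469)) (tt N95351 F407965) (tt N47649 F326185) (tt N57081 F342886) (tt N39232 (iv5 D136297)) (tt N106108 D209309) (tt N57080 (iv7 F342891)))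
theorem Q71056 : ∀ i, i < 71056 → P i := stepQ 71055 Q71055 (allL N71055 (tt N96791 (iv1 F413964)) (tt N96790 F413960) (tt N39234 F219357) (tt N54983 (iv3 F322989)) (tt N66512 F347202) (tt N39233 (iv5 D136299)) (tt N54981 (iv6 F366004)) (tt N93653 (iv7 F401446)))
theorem Q71057 : ∀ i, i < 71057 → P i := stepQ 71056 Q71056 (allL N71056 (tt N93653 (iv1 F401448)) (tt N39234 (iv0 D136300)) (tt N96791 (iv2 F413969)) (tt N40800 F361855) (tt N96086 (iv4 F410978)) (tt N58416 (iv5 F362623)) (tt N106109 D209310) (tt N96790 (iv7 F413963)))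
theorem Q71058 : ∀ i, i < 71058 → P i := stepQ 71057 Q71057 (allL N71057 (tt N39234 (iv1 D136301)) (tt N93653 (iv0 F401447)) (tt N96790 F413961) (tt N54486 F353196) (tt N96085 (iv4 F410969)) (tt N58417 (iv5 F353195)) (tt N55014 (iv6 F376039)) (tt N96791 (iv7 F413965)))
theorem Q71059 : ∀ i, i < 71059 → P i := stepQ 71058 Q71058 (allL N71058 (tt N99575 (iv1 F425243)) (tt N54471 (iv0 F382004)) (tt N54981 F366003) (tt N39237 F219359) (tt N73529 F382002) (tt N54569 (iv5 F325807)) (tt N39234 (iv6 D136303)) (tt N106110 D209311))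
theorem Q71060 : ∀ i, i < 71060 → P i := stepQ 71059 Q71059 (allL N71059 (tt N96616 F413194) (tt N96618 (iv0 F413204)) (tt N92529 (iv2 F397258)) (tt N39235 (iv3 D136304)) (tt N106111 D209312) (tt N55879 F219360) (tt N106112 D209313) (tt N71046 F219361))
theorem Q71061 : ∀ i, i < 71061 → P i := stepQ 71060 Q71060 (allL N71060 (tt N106113 D209314) (tt N106114 D209315) (tt N71045 F219362) (tt N106112 (iv3 F453175)) (tt N55919 F219363) (tt N106115 D209316) (tt N39235 (iv6 D136305)) (tt N106116 D209317))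
theorem Q71062 : ∀ i, i < 71062 → P i := stepQ 71061 Q71061 (allL N71061 (tt N106117 D209318) (tt N106118 D209319) (tt N106119 D209320) (tt N39236 (iv3 D136306)) (tt N93656 (iv4 F401461)) (tt N55873 F219364) (tt N106120 D209321) (tt N55872 F219365))
theorem Q71063 : ∀ i, i < 71063 → P i := stepQ 71062 Q71062 (allL N71062 (tt N90667 F390459) (tt N106121 D209322) (tt N55992 F219366) (tt N106120 (iv3 F453216)) (tt N39237 F219367) (tt N106122 D209323) (tt N39236 (iv6 D136307)) (tt N106123 D209324))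
theorem Q71064 : ∀ i, i < 71064 → P i := stepQ 71063 Q71063 (allL N71063 (tt N54974 (iv1 F319853)) (tt N39237 (iv0 D136308)) (tt N71047 F382052) (tt N54781 F385939) (tt N106124 D209325) (tt N87473 F379517) (tt N97342 (iv6 F416429)) (tt N71048 F382050))
theorem Q71065 : ∀ i, i < 71065 → P i := stepQ 71064 Q71064 (allL N71064 (tt N71048 (iv1 F219371)) (tt N71047 F219372) (tt N54974 (iv2 F319854)) (tt N106110 (iv3 F453162)) (tt N106123 (iv4 F453229)) (tt N54972 (iv5 F319848)) (tt N74017 (iv6 F347197)) (tt N39237 (iv7 D136310)))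
theorem Q71066 : ∀ i, i < 71066 → P i := stepQ 71065 Q71065 (allL N71065 (tt N39238 (iv1 D136312)) (tt N95316 F407833) (tt N56023 (iv2 F364294)) (tt N99204 (iv3 F423690)) (tt N96840 (iv4 F414208)) (tt N97327 (iv5 F416363)) (tt N106125 D209326) (tt N71068 F364293))
theorem Q71067 : ∀ i, i < 71067 → P i := stepQ 71066 Q71066 (allL N71066 (tt N71068 F340502) (tt N56023 F219378) (tt N39238 (iv2 D136313)) (tt N69703 F219375) (tt N60325 F219376) (tt N92544 (iv5 F397321)) (tt N60318 F219377) (tt N95316 (iv7 F407831)))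
theorem Q71068 : ∀ i, i < 71068 → P i := stepQ 71067 Q71067 (allL N71067 (tt N99074 (iv1 F423242)) (tt N99076 (iv0 F423252)) (tt N92544 (iv2 F397319)) (tt N39239 F219379) (tt N62078 (iv4 F219380)) (tt N39238 (iv5 D136314)) (tt N92542 (iv6 F397317)) (tt N95317 (iv7 F407835)))
theorem Q71069 : ∀ i, i < 71069 → P i := stepQ 71068 Q71068 (allL N71068 (tt N58389 F336228) (tt N71066 (iv0 F340502)) (tt N69705 F219381) (tt N92542 (iv3 F397313)) (tt N59814 F219382) (tt N60320 F219383) (tt N39239 (iv6 D136315)) (tt N71065 (iv7 F364293)))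
theorem Q71070 : ∀ i, i < 71070 → P i := stepQ 71069 Q71069 (allL N71069 (tt N39240 (iv1 D136316)) (tt N98713 F421977) (tt N68969 (iv2 F421976)) (tt N103745 (iv3 F442647)) (tt N67291 (iv4 F219384)) (tt N106126 D209327) (tt N105751 (iv6 F451533)) (tt N98712 F421975))
theorem Q71071 : ∀ i, i < 71071 → P i := stepQ 71070 Q71070 (allL N71070 (tt N98712 (iv1 F421973)) (tt N68969 F219386) (tt N39240 (iv2 D136317)) (tt N98711 (iv3 F421956)) (tt N67236 F219385) (tt N106127 D209328) (tt N106128 D209329) (tt N98713 (iv7 F421971)))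
theorem Q71072 : ∀ i, i < 71072 → P i := stepQ 71071 Q71071 (allL N71071 (tt N103401 F441453) (tt N92271 (iv0 F396535)) (tt N106127 (iv2 F453249)) (tt N39241 F219387) (tt N78865 (iv4 F343929)) (tt N39240 (iv5 D136318)) (tt N106129 D209330) (tt N61646 F343928))
theorem Q71073 : ∀ i, i < 71073 → P i := stepQ 71072 Q71072 (allL N71072 (tt N103560 (iv1 F442042)) (tt N106130 D209331) (tt N106128 (iv2 F453255)) (tt N39242 F219388) (tt N67237 F219389) (tt N106131 D209332) (tt N39240 (iv6 D136319)) (tt N106132 D209333))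
theorem Q71074 : ∀ i, i < 71074 → P i := stepQ 71073 Q71073 (allL N71073 (tt N61617 F421856) (tt N106133 D209334) (tt N92273 (iv2 F396547)) (tt N106129 (iv3 F453264)) (tt N39359 F219390) (tt N106134 D209335) (tt N39241 (iv6 D136320)) (tt N106135 D209336))
theorem Q71075 : ∀ i, i < 71075 → P i := stepQ 71074 Q71074 (allL N71074 (tt N69161 F219391) (tt N69164 F219392) (tt N95108 (iv2 F407079)) (tt N106131 (iv3 F453273)) (tt N106136 D209337) (tt N39242 (iv5 D136321)) (tt N106134 (iv6 F453291)) (tt N106137 D209338))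
theorem Q71076 : ∀ i, i < 71076 → P i := stepQ 71075 Q71075 (allL N71075 (tt N60012 (iv1 F219396)) (tt N60018 F219397) (tt N68925 F219393) (tt N106132 (iv3 F453279)) (tt N39244 F219394) (tt N106137 (iv5 F453306)) (tt N66406 F219395) (tt N39242 (iv7 D136322)))
theorem Q71077 : ∀ i, i < 71077 → P i := stepQ 71076 Q71076 (allL N71076 (tt N70574 F219401) (tt N70008 (iv0 F219402)) (tt N95106 (iv2 F407065)) (tt N56582 F219398) (tt N103945 (iv4 F443468)) (tt N70579 F219399) (tt N39243 (iv6 D136323)) (tt N70579 F219400))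
theorem Q71078 : ∀ i, i < 71078 → P i := stepQ 71077 Q71077 (allL N71077 (tt N79032 F421886) (tt N106138 D209339) (tt N92255 (iv2 F396485)) (tt N103406 (iv3 F441473)) (tt N39337 F219403) (tt N78795 (iv5 F421852)) (tt N39245 (iv6 D136324)) (tt N106139 D209340))
theorem Q71079 : ∀ i, i < 71079 → P i := stepQ 71078 Q71078 (allL N71078 (tt N67515 F219404) (tt N104610 F446528) (tt N92256 (iv2 F396488)) (tt N103407 (iv3 F441483)) (tt N106140 D209341) (tt N39246 (iv5 D136325)) (tt N78795 F421853) (tt N104609 (iv7 F446523)))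
theorem Q71080 : ∀ i, i < 71080 → P i := stepQ 71079 Q71079 (allL N71079 (tt N69075 (iv1 F219407)) (tt N69073 F219408) (tt N69105 F219405) (tt N103408 (iv3 F441485)) (tt N39248 F219406) (tt N104609 (iv5 F446520)) (tt N92263 (iv6 F396513)) (tt N39246 (iv7 D136326)))
theorem Q71081 : ∀ i, i < 71081 → P i := stepQ 71080 Q71080 (allL N71080 (tt N61957 F219411) (tt N71345 (iv0 F219889)) (tt N62161 F219409) (tt N56396 F219410) (tt N92517 (iv4 F397210)) (tt N39247 (iv5 D136327)) (tt N56394 F219412) (tt N73304 (iv7 F224331)))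
theorem Q71082 : ∀ i, i < 71082 → P i := stepQ 71081 Q71081 (allL N71081 (tt N92884 (iv1 F398645)) (tt N40569 (iv0 F222751)) (tt N98714 (iv2 F421978)) (tt N56710 F219413) (tt N104639 (iv4 F446646)) (tt N70294 F219415) (tt N39247 (iv6 D136328)) (tt N70346 F219414))
theorem Q71083 : ∀ i, i < 71083 → P i := stepQ 71082 Q71082 (allL N71082 (tt N67862 F219418) (tt N104684 F446861) (tt N98634 (iv2 F421665)) (tt N39249 (iv3 D136330)) (tt N60815 (iv4 F333539)) (tt N78769 (iv5 F343648)) (tt N106141 D209342) (tt N102529 (iv7 F437525)))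
theorem Q71084 : ∀ i, i < 71084 → P i := stepQ 71083 Q71083 (allL N71083 (tt N68716 F396126) (tt N68752 F399219) (tt N56550 F330454) (tt N97554 (iv3 F417360)) (tt N39249 (iv4 D136331)) (tt N106142 D209343) (tt N92178 F396111) (tt N104675 (iv7 F446824)))
theorem Q71085 : ∀ i, i < 71085 → P i := stepQ 71084 Q71084 (allL N71084 (tt N101476 F433088) (tt N67873 (iv0 F377476)) (tt N103694 F442504) (tt N78769 F343649) (tt N106143 D209344) (tt N39249 (iv5 D136332)) (tt N78768 (iv6 F343650)) (tt N103693 (iv7 F442508)))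
theorem Q71086 : ∀ i, i < 71086 → P i := stepQ 71085 Q71085 (allL N71085 (tt N104705 (iv1 F446934)) (tt N104362 (iv0 F445435)) (tt N98020 (iv2 F419190)) (tt N106141 (iv3 F453319)) (tt N92178 (iv4 F396105)) (tt N61612 F360965) (tt N39249 (iv6 D136333)) (tt N98017 (iv7 F419182)))
theorem Q71087 : ∀ i, i < 71087 → P i := stepQ 71086 Q71086 (allL N71086 (tt N103258 F441359) (tt N103260 (iv0 F441357)) (tt N103392 (iv2 F441415)) (tt N39250 (iv3 D136335)) (tt N103378 F441356) (tt N106144 D209345) (tt N106145 D209346) (tt N103393 (iv7 F441417)))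
theorem Q71088 : ∀ i, i < 71088 → P i := stepQ 71087 Q71087 (allL N71087 (tt N68752 (iv1 F399220)) (tt N68716 F398939) (tt N104675 (iv2 F446822)) (tt N56554 (iv3 F330448)) (tt N39250 (iv4 D136336)) (tt N106146 D209347) (tt N106147 D209348) (tt N56550 F330449))
theorem Q71089 : ∀ i, i < 71089 → P i := stepQ 71088 Q71088 (allL N71088 (tt N67873 (iv1 F373566)) (tt N101476 (iv0 F433087)) (tt N103693 F442506) (tt N106144 (iv3 F453334)) (tt N106148 D209349) (tt N39250 (iv5 D136337)) (tt N96391 (iv6 F446020)) (tt N103694 F442505))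
theorem Q71090 : ∀ i, i < 71090 → P i := stepQ 71089 Q71089 (allL N71089 (tt N67881 F453347) (tt N106149 D209350) (tt N104676 (iv2 F446827)) (tt N106145 (iv3 F453337)) (tt N106147 (iv4 F453346)) (tt N106150 D209351) (tt N39250 (iv6 D136338)) (tt N106151 D209352))
theorem Q71091 : ∀ i, i < 71091 → P i := stepQ 71090 Q71090 (allL N71090 (tt N104494 (iv1 F446019)) (tt N104490 (iv0 F446000)) (tt N39252 F219421) (tt N39253 F219422) (tt N64862 (iv4 F366023)) (tt N39251 (iv5 D136339)) (tt N39252 F219423) (tt N104515 (iv7 F446104)))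
theorem Q71092 : ∀ i, i < 71092 → P i := stepQ 71091 Q71091 (allL N71091 (tt N104515 (iv1 F446105)) (tt N39252 (iv0 D136340)) (tt N104494 (iv2 F446016)) (tt N98614 F421584) (tt N106152 D209353) (tt N67689 (iv5 F417741)) (tt N98612 (iv6 F421585)) (tt N104490 (iv7 F445999)))
theorem Q71093 : ∀ i, i < 71093 → P i := stepQ 71092 Q71092 (allL N71092 (tt N39252 (iv1 D136341)) (tt N104515 F446106) (tt N104490 (iv2 F445998)) (tt N78781 (iv3 F341586)) (tt N106153 D209354) (tt N67690 (iv5 F358293)) (tt N78780 F341587) (tt N104494 (iv7 F446017)))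
theorem Q71094 : ∀ i, i < 71094 → P i := stepQ 71093 Q71093 (allL N71093 (tt N106154 D209355) (tt N106155 D209356) (tt N64862 F366024) (tt N64863 (iv3 F366021)) (tt N39252 (iv4 D136342)) (tt N76231 F366020) (tt N64862 F366022) (tt N104516 (iv7 F446110)))
theorem Q71095 : ∀ i, i < 71095 → P i := stepQ 71094 Q71094 (allL N71094 (tt N39360 (iv1 F219427)) (tt N39253 (iv0 D136343)) (tt N98718 F421995) (tt N106156 D209357) (tt N90057 F388442) (tt N67697 F355281) (tt N106157 D209358) (tt N98719 (iv7 F421998)))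
theorem Q71096 : ∀ i, i < 71096 → P i := stepQ 71095 Q71095 (allL N71095 (tt N39253 (iv1 D136344)) (tt N39360 F219424) (tt N98719 F422001) (tt N106158 D209359) (tt N75909 F347619) (tt N67696 (iv5 F355266)) (tt N106159 D209360) (tt N98718 F421996))
theorem Q71097 : ∀ i, i < 71097 → P i := stepQ 71096 Q71096 (allL N71096 (tt N98719 (iv1 F421997)) (tt N98718 F421994) (tt N39360 F219425) (tt N104515 (iv3 F446102)) (tt N64021 (iv4 F338621)) (tt N67858 F219426) (tt N104521 (iv6 F446125)) (tt N39253 (iv7 D136345)))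
theorem Q71098 : ∀ i, i < 71098 → P i := stepQ 71097 Q71097 (allL N71097 (tt N81545 (iv1 F354220)) (tt N39254 (iv0 D136346)) (tt N81543 F354223) (tt N106160 D209361) (tt N106161 D209362) (tt N81435 F354222) (tt N106162 D209363) (tt N81544 F354221))
theorem Q71099 : ∀ i, i < 71099 → P i := stepQ 71098 Q71098 (allL N71098 (tt N39254 (iv1 D136347)) (tt N81545 (iv0 F354148)) (tt N81544 F337655) (tt N78720 F348499) (tt N106163 D209364) (tt N78718 (iv5 F348512)) (tt N71611 (iv6 F337653)) (tt N81543 (iv7 F354224)))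
theorem Q71100 : ∀ i, i < 71100 → P i := stepQ 71099 Q71099 (allL N71099 (tt N39255 (iv1 D136350)) (tt N68062 F219432) (tt N44465 (iv2 F219435)) (tt N106164 D209365) (tt N44464 F219434) (tt N46828 F328955) (tt N82491 (iv6 F338785)) (tt N57345 F219433))
theorem Q71101 : ∀ i, i < 71101 → P i := stepQ 71100 Q71100 (allL N71100 (tt N71023 F219448) (tt N71329 (iv0 F219830)) (tt N68065 F219444) (tt N57164 F219445) (tt N94065 (iv4 F403041)) (tt N39382 F219446) (tt N39257 (iv6 D136353)) (tt N39382 F219447))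
theorem Q71102 : ∀ i, i < 71102 → P i := stepQ 71101 Q71101 (allL N71101 (tt N59650 (iv1 F359221)) (tt N39259 (iv0 D136354)) (tt N104461 F445865) (tt N106165 D209366) (tt N106166 D209367) (tt N78733 (iv5 F359222)) (tt N105814 (iv6 F451848)) (tt N101614 F433561))
theorem Q71103 : ∀ i, i < 71103 → P i := stepQ 71102 Q71102 (allL N71102 (tt N39259 (iv1 D136355)) (tt N59650 (iv0 F343266)) (tt N101614 (iv2 F433552)) (tt N49800 F343227) (tt N106167 D209368) (tt N78734 F343267) (tt N49798 (iv6 F343226)) (tt N104461 (iv7 F445862)))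
theorem Q71104 : ∀ i, i < 71104 → P i := stepQ 71103 Q71103 (allL N71103 (tt N104461 (iv1 F445861)) (tt N101614 (iv0 F433555)) (tt N39259 (iv2 D136356)) (tt N47990 F314470) (tt N48002 (iv4 F316199)) (tt N59651 F337455) (tt N101110 F431722) (tt N59650 (iv7 F332970)))
theorem Q71105 : ∀ i, i < 71105 → P i := stepQ 71104 Q71104 (allL N71104 (tt N59649 (iv1 F332957)) (tt N59648 (iv0 F357721)) (tt N59651 F332963) (tt N39260 F219451) (tt N59397 F332964) (tt N39259 (iv5 D136357)) (tt N59049 F332965) (tt N59050 (iv7 F332962)))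
theorem Q71106 : ∀ i, i < 71106 → P i := stepQ 71105 Q71105 (allL N71105 (tt N64383 F341514) (tt N101112 F431735) (tt N101110 (iv2 F431723)) (tt N39261 F219452) (tt N70748 F219453) (tt N62858 (iv5 F328432)) (tt N39259 (iv6 D136358)) (tt N99881 (iv7 F426666)))
theorem Q71107 : ∀ i, i < 71107 → P i := stepQ 71106 Q71106 (allL N71106 (tt N72112 F221362) (tt N106168 D209369) (tt N69540 F219454) (tt N59049 (iv3 F341508)) (tt N67694 F219455) (tt N62859 (iv5 F328433)) (tt N39260 (iv6 D136359)) (tt N59042 F341509))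
theorem Q71108 : ∀ i, i < 71108 → P i := stepQ 71107 Q71107 (allL N71107 (tt N47990 F313703) (tt N39264 (iv0 D136364)) (tt N65387 (iv2 F314592)) (tt N103348 (iv3 F441211)) (tt N65386 F313704) (tt N39350 (iv5 F219678)) (tt N100177 F427857) (tt N69538 F221563))
theorem Q71109 : ∀ i, i < 71109 → P i := stepQ 71108 Q71108 (allL N71108 (tt N65387 (iv1 F314591)) (tt N69538 F219483) (tt N39264 (iv2 D136366)) (tt N59650 F353360) (tt N39881 F219481) (tt N59647 (iv5 F337459)) (tt N73241 (iv6 F353363)) (tt N47990 F312277))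
theorem Q71110 : ∀ i, i < 71110 → P i := stepQ 71109 Q71109 (allL N71109 (tt N71279 F219762) (tt N71271 (iv0 F219726)) (tt N59647 (iv2 F337458)) (tt N39265 F219485) (tt N64900 F337461) (tt N39264 (iv5 D136367)) (tt N59646 F353378) (tt N69539 F219486))
theorem Q71111 : ∀ i, i < 71111 → P i := stepQ 71110 Q71110 (allL N71110 (tt N59040 (iv1 F338279)) (tt N59039 (iv0 F338278)) (tt N59043 (iv2 F338253)) (tt N59646 (iv3 F338275)) (tt N67701 F219487) (tt N59028 F338274) (tt N39265 (iv6 D136368)) (tt N59038 (iv7 F338276)))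
theorem Q71112 : ∀ i, i < 71112 → P i := stepQ 71111 Q71111 (allL N71111 (tt N90324 (iv1 F389358)) (tt N39266 (iv0 D136369)) (tt N90325 (iv2 F389356)) (tt N106169 D209370) (tt N106170 D209371) (tt N106171 D209372) (tt N106008 (iv6 F453438)) (tt N90319 F389357))
theorem Q71113 : ∀ i, i < 71113 → P i := stepQ 71112 Q71112 (allL N71112 (tt N90325 (iv1 F432884)) (tt N90319 F432883) (tt N39266 (iv2 D136371)) (tt N104464 (iv3 F445871)) (tt N67314 F219488) (tt N106172 D209373) (tt N106173 D209374) (tt N90324 (iv7 F389355)))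
theorem Q71114 : ∀ i, i < 71114 → P i := stepQ 71113 Q71113 (allL N71113 (tt N101915 F434939) (tt N76719 F414315) (tt N106172 (iv2 F453440)) (tt N39267 F219489) (tt N106174 D209375) (tt N39266 (iv5 D136372)) (tt N106175 D209376) (tt N71179 (iv7 F219598)))
theorem Q71115 : ∀ i, i < 71115 → P i := stepQ 71114 Q71114 (allL N71114 (tt N100601 F429661) (tt N106176 D209377) (tt N106173 (iv2 F453444)) (tt N39268 F219490) (tt N67311 F219491) (tt N71809 (iv5 F220641)) (tt N39266 (iv6 D136373)) (tt N80020 (iv7 F365608)))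
theorem Q71116 : ∀ i, i < 71116 → P i := stepQ 71115 Q71115 (allL N71115 (tt N106177 D209378) (tt N106178 D209379) (tt N71182 (iv2 F219603)) (tt N106175 (iv3 F453458)) (tt N67674 F219492) (tt N71810 (iv5 F220643)) (tt N39267 (iv6 D136374)) (tt N106179 D209380))
theorem Q71117 : ∀ i, i < 71117 → P i := stepQ 71116 Q71116 (allL N71116 (tt N104464 (iv1 F445875)) (tt N39269 (iv0 D136375)) (tt N104463 F445877) (tt N69563 F219493) (tt N101801 (iv4 F434401)) (tt N105581 (iv5 F450828)) (tt N89153 (iv6 F385367)) (tt N104462 F445869))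
theorem Q71118 : ∀ i, i < 71118 → P i := stepQ 71117 Q71117 (allL N71117 (tt N39269 (iv1 D136376)) (tt N104464 F445880) (tt N104462 (iv2 F445879)) (tt N106180 D209381) (tt N105525 (iv4 F450580)) (tt N105579 (iv5 F450825)) (tt N106181 D209382) (tt N104463 F445878))
theorem Q71119 : ∀ i, i < 71119 → P i := stepQ 71118 Q71118 (allL N71118 (tt N104463 (iv1 F445876)) (tt N104462 F445868) (tt N39269 (iv2 D136377)) (tt N90324 (iv3 F389360)) (tt N78099 (iv4 F245975)) (tt N99537 F425031) (tt N99539 (iv6 F425045)) (tt N104464 (iv7 F445874)))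
theorem Q71120 : ∀ i, i < 71120 → P i := stepQ 71119 Q71119 (allL N71119 (tt N72381 F431556) (tt N106182 D209383) (tt N99537 (iv2 F425030)) (tt N39270 F219494) (tt N106183 D209384) (tt N39269 (iv5 D136378)) (tt N40599 F361544) (tt N71181 (iv7 F219602)))
theorem Q71121 : ∀ i, i < 71121 → P i := stepQ 71120 Q71120 (allL N71120 (tt N106184 D209385) (tt N54032 (iv0 F344197)) (tt N71180 (iv2 F219599)) (tt N40599 F361545) (tt N67682 F219495) (tt N40598 F361546) (tt N39270 (iv6 D136379)) (tt N99535 (iv7 F425025)))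
theorem Q71122 : ∀ i, i < 71122 → P i := stepQ 71121 Q71121 (allL N71121 (tt N106180 (iv1 F453486)) (tt N89183 (iv0 F385483)) (tt N94230 (iv2 F403785)) (tt N39271 (iv3 D136381)) (tt N94187 F403613) (tt N106185 D209386) (tt N106186 D209387) (tt N90700 (iv7 F390557)))
theorem Q71123 : ∀ i, i < 71123 → P i := stepQ 71122 Q71122 (allL N71122 (tt N48145 F346454) (tt N79243 F346455) (tt N81488 F346476) (tt N106187 D209388) (tt N39271 (iv4 D136382)) (tt N75783 F346456) (tt N81826 F346462) (tt N81489 (iv7 F346457)))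
theorem Q71124 : ∀ i, i < 71124 → P i := stepQ 71123 Q71123 (allL N71123 (tt N71169 (iv1 F357405)) (tt N61913 (iv0 F346458)) (tt N71172 (iv2 F354518)) (tt N106185 (iv3 F453510)) (tt N94151 (iv4 F403447)) (tt N39271 (iv5 D136383)) (tt N106188 D209389) (tt N71171 F354514))
theorem Q71125 : ∀ i, i < 71125 → P i := stepQ 71124 Q71124 (allL N71124 (tt N89219 F385653) (tt N62938 (iv0 F349957)) (tt N90699 (iv2 F390554)) (tt N106186 (iv3 F453514)) (tt N81826 (iv4 F346468)) (tt N71788 F360704) (tt N39271 (iv6 D136384)) (tt N106040 (iv7 F452848)))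
theorem Q71126 : ∀ i, i < 71126 → P i := stepQ 71125 Q71125 (allL N71125 (tt N90216 F388950) (tt N106169 F453430) (tt N99372 (iv2 F424327)) (tt N39272 (iv3 D136386)) (tt N106189 D209390) (tt N40050 F356113) (tt N40053 F356114) (tt N90698 (iv7 F390551)))
theorem Q71127 : ∀ i, i < 71127 → P i := stepQ 71126 Q71126 (allL N71126 (tt N79243 F342682) (tt N48145 F342683) (tt N81489 (iv2 F346461)) (tt N94038 (iv3 F402922)) (tt N39272 (iv4 D136387)) (tt N75782 (iv5 F346441)) (tt N81418 (iv6 F346445)) (tt N81488 (iv7 F346475)))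
theorem Q71128 : ∀ i, i < 71128 → P i := stepQ 71127 Q71127 (allL N71127 (tt N61913 (iv1 F354217)) (tt N71169 (iv0 F357404)) (tt N71171 F354513) (tt N40050 F356108) (tt N76946 (iv4 F346453)) (tt N39272 (iv5 D136388)) (tt N40048 F356109) (tt N71172 (iv7 F354516)))
theorem Q71129 : ∀ i, i < 71129 → P i := stepQ 71128 Q71128 (allL N71128 (tt N90702 (iv1 F390569)) (tt N39273 (iv0 D136392)) (tt N64854 F346571) (tt N69570 F358059) (tt N94156 (iv4 F403467)) (tt N39294 F346572) (tt N64852 F346573) (tt N90701 (iv7 F390560)))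
theorem Q71130 : ∀ i, i < 71130 → P i := stepQ 71129 Q71129 (allL N71129 (tt N39273 (iv1 D136393)) (tt N90702 F390568) (tt N90701 F390562) (tt N64860 F346578) (tt N106190 D209391) (tt N39295 F346579) (tt N105227 (iv6 F449297)) (tt N64854 F346580))
theorem Q71131 : ∀ i, i < 71131 → P i := stepQ 71130 Q71130 (allL N71130 (tt N84054 (iv1 F367953)) (tt N84042 F367937) (tt N84051 F367934) (tt N67715 F219500) (tt N39273 (iv4 D136394)) (tt N100564 (iv5 F429476)) (tt N106191 D209392) (tt N84052 (iv7 F367941)))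
theorem Q71132 : ∀ i, i < 71132 → P i := stepQ 71131 Q71131 (allL N71131 (tt N85382 F372428) (tt N85380 F372416) (tt N55322 F344189) (tt N39276 F219501) (tt N106191 (iv4 F453544)) (tt N88800 (iv5 F384189)) (tt N39273 (iv6 D136395)) (tt N85389 (iv7 F372469)))
theorem Q71133 : ∀ i, i < 71133 → P i := stepQ 71132 Q71132 (allL N71132 (tt N106171 F453439) (tt N85643 (iv0 F388754)) (tt N106192 D209393) (tt N39274 (iv3 D136400)) (tt N106193 D209394) (tt N39291 F219504) (tt N64487 F344179) (tt N65460 F219505))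
theorem Q71134 : ∀ i, i < 71134 → P i := stepQ 71133 Q71133 (allL N71133 (tt N105581 F450829) (tt N105579 (iv0 F450826)) (tt N106194 D209395) (tt N39275 (iv3 D136402)) (tt N106195 D209396) (tt N39293 F219507) (tt N106196 D209397) (tt N92285 (iv7 F396575)))
theorem Q71135 : ∀ i, i < 71135 → P i := stepQ 71134 Q71134 (allL N71134 (tt N106197 D209398) (tt N106198 D209399) (tt N65461 F219508) (tt N106196 (iv3 F453564)) (tt N67661 F219509) (tt N39473 F219510) (tt N39275 (iv6 D136403)) (tt N90059 (iv7 F388449)))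
theorem Q71136 : ∀ i, i < 71136 → P i := stepQ 71135 Q71135 (allL N71135 (tt N54025 F338485) (tt N54021 (iv0 F344180)) (tt N52164 (iv2 F344182)) (tt N88800 (iv3 F384187)) (tt N88944 (iv4 F384571)) (tt N39276 (iv5 D136406)) (tt N39277 F219511) (tt N84077 (iv7 F368029)))
theorem Q71137 : ∀ i, i < 71137 → P i := stepQ 71136 Q71136 (allL N71136 (tt N83478 (iv1 F346048)) (tt N82795 F335558) (tt N48609 F346016) (tt N59824 F346017) (tt N39277 (iv4 D136411)) (tt N75866 F335559) (tt N88944 (iv6 F384572)) (tt N76101 (iv7 F346038)))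
theorem Q71138 : ∀ i, i < 71138 → P i := stepQ 71137 Q71137 (allL N71137 (tt N39279 (iv1 F219521)) (tt N39278 (iv0 D136413)) (tt N78090 F245932) (tt N53508 F365610) (tt N57518 F219520) (tt N82712 (iv5 F335576)) (tt N39435 (iv6 F219523)) (tt N57517 F219522))
theorem Q71139 : ∀ i, i < 71139 → P i := stepQ 71138 Q71138 (allL N71138 (tt N90716 (iv1 F390619)) (tt N90715 (iv0 F390617)) (tt N90717 (iv2 F390623)) (tt N104455 (iv3 F445839)) (tt N39281 (iv4 D136431)) (tt N86079 (iv5 F375066)) (tt N106199 D209400) (tt N85158 F371763))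
theorem Q71140 : ∀ i, i < 71140 → P i := stepQ 71139 Q71139 (allL N71139 (tt N85393 (iv1 F372473)) (tt N85392 F372476) (tt N85394 (iv2 F372474)) (tt N39282 F219533) (tt N106199 (iv4 F453587)) (tt N84301 (iv5 F368845)) (tt N39281 (iv6 D136432)) (tt N55324 F344188))
theorem Q71141 : ∀ i, i < 71141 → P i := stepQ 71140 Q71140 (allL N71140 (tt N90072 (iv1 F388493)) (tt N39282 (iv0 D136437)) (tt N98430 (iv2 F421489)) (tt N106200 D209401) (tt N98622 (iv4 F421622)) (tt N106201 D209402) (tt N98454 F421490) (tt N104523 (iv7 F446131)))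
theorem Q71142 : ∀ i, i < 71142 → P i := stepQ 71141 Q71141 (allL N71141 (tt N39282 (iv1 D136438)) (tt N90072 F388492) (tt N104523 F446134) (tt N98417 (iv3 F421486)) (tt N98593 F421485) (tt N106202 D209403) (tt N106203 D209404) (tt N98430 (iv7 F421487)))
theorem Q71143 : ∀ i, i < 71143 → P i := stepQ 71142 Q71142 (allL N71142 (tt N106204 D209405) (tt N106205 D209406) (tt N104524 (iv2 F446135)) (tt N84301 (iv3 F368844)) (tt N106206 D209407) (tt N39282 (iv5 D136439)) (tt N39284 F219536) (tt N84296 (iv7 F368841)))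
theorem Q71144 : ∀ i, i < 71144 → P i := stepQ 71143 Q71143 (allL N71143 (tt N104523 (iv1 F446130)) (tt N98430 F420901) (tt N90072 (iv2 F388489)) (tt N55324 (iv3 F344187)) (tt N104460 (iv4 F445849)) (tt N84296 (iv5 F368840)) (tt N55323 F344186) (tt N39282 (iv7 D136440)))
theorem Q71145 : ∀ i, i < 71145 → P i := stepQ 71144 Q71144 (allL N71144 (tt N89187 (iv1 F385494)) (tt N106181 F453492) (tt N106207 D209408) (tt N39283 (iv3 D136441)) (tt N78115 (iv4 F246028)) (tt N106208 D209409) (tt N106002 (iv6 F452703)) (tt N39449 F219537))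
theorem Q71146 : ∀ i, i < 71146 → P i := stepQ 71145 Q71145 (allL N71145 (tt N72135 (iv1 F221439)) (tt N105812 (iv0 F451840)) (tt N90720 (iv2 F390634)) (tt N106208 (iv3 F453602)) (tt N105830 (iv4 F451916)) (tt N39283 (iv5 D136442)) (tt N106209 D209410) (tt N39452 F219538))
theorem Q71147 : ∀ i, i < 71147 → P i := stepQ 71146 Q71146 (allL N71146 (tt N90718 (iv1 F390630)) (tt N39284 (iv0 D136443)) (tt N90722 F390647) (tt N73920 F365485) (tt N106210 D209411) (tt N39647 F219539) (tt N62967 (iv6 F365491)) (tt N90721 F390642))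
theorem Q71148 : ∀ i, i < 71148 → P i := stepQ 71147 Q71147 (allL N71147 (tt N39284 (iv1 D136444)) (tt N90718 F390631) (tt N90721 (iv2 F390643)) (tt N106211 D209412) (tt N106212 D209413) (tt N98990 (iv5 F422948)) (tt N106213 D209414) (tt N90722 (iv7 F390645)))
theorem Q71149 : ∀ i, i < 71149 → P i := stepQ 71148 Q71148 (allL N71148 (tt N106214 D209415) (tt N106215 D209416) (tt N105947 (iv2 F452453)) (tt N106216 D209417) (tt N39284 (iv4 D136445)) (tt N105806 F451814) (tt N106206 (iv6 F453597)) (tt N90723 (iv7 F390648)))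
theorem Q71150 : ∀ i, i < 71150 → P i := stepQ 71149 Q71149 (allL N71149 (tt N100230 (iv1 F428081)) (tt N82226 (iv0 F341120)) (tt N106217 D209418) (tt N39285 (iv3 D136447)) (tt N39921 F219541) (tt N106218 D209419) (tt N95513 (iv6 F408425)) (tt N39432 F219542))
theorem Q71151 : ∀ i, i < 71151 → P i := stepQ 71150 Q71150 (allL N71150 (tt N72124 (iv1 F221389)) (tt N105817 F451862) (tt N105819 (iv2 F451871)) (tt N106218 (iv3 F453614)) (tt N105808 (iv4 F451825)) (tt N39285 (iv5 D136448)) (tt N106219 D209420) (tt N39436 F219543))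
theorem Q71152 : ∀ i, i < 71152 → P i := stepQ 71151 Q71151 (allL N71151 (tt N57395 (iv1 F219544)) (tt N39286 (iv0 D136449)) (tt N57394 (iv2 F344842)) (tt N96280 (iv3 F411857)) (tt N106220 D209421) (tt N80327 (iv5 F344830)) (tt N106221 D209422) (tt N57393 (iv7 F346584)))
theorem Q71153 : ∀ i, i < 71153 → P i := stepQ 71152 Q71152 (allL N71152 (tt N57394 (iv1 F219550)) (tt N57393 F219548) (tt N39286 (iv2 D136451)) (tt N57388 F219545) (tt N39296 F219546) (tt N105684 (iv5 F451236)) (tt N98466 F421004) (tt N57395 F219547))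
theorem Q71154 : ∀ i, i < 71154 → P i := stepQ 71153 Q71153 (allL N71153 (tt N46219 F352368) (tt N90514 (iv0 F389908)) (tt N98466 (iv2 F420998)) (tt N39287 F219551) (tt N39298 F219552) (tt N77462 F352361) (tt N39286 (iv6 D136452)) (tt N98469 (iv7 F421015)))
theorem Q71155 : ∀ i, i < 71155 → P i := stepQ 71154 Q71154 (allL N71154 (tt N39287 (iv1 D136453)) (tt N57392 F219553) (tt N57375 (iv2 F219556)) (tt N106222 D209423) (tt N57311 F219555) (tt N42270 F337174) (tt N77583 F337688) (tt N57373 F219554))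
theorem Q71156 : ∀ i, i < 71156 → P i := stepQ 71155 Q71155 (allL N71155 (tt N41212 F219558) (tt N64042 F331701) (tt N57391 F219557) (tt N77462 (iv3 F352362)) (tt N73103 (iv4 F337167)) (tt N39287 (iv5 D136454)) (tt N62492 F337168) (tt N79124 (iv7 F344914)))
theorem Q71157 : ∀ i, i < 71157 → P i := stepQ 71156 Q71156 (allL N71156 (tt N57375 (iv1 F219562)) (tt N57373 F219563) (tt N57392 F219559) (tt N98469 (iv3 F421013)) (tt N39290 F219560) (tt N79124 (iv5 F344913)) (tt N44109 F323327) (tt N39287 (iv7 D136455)))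
theorem Q71158 : ∀ i, i < 71158 → P i := stepQ 71157 Q71157 (allL N71157 (tt N59535 F219566) (tt N71354 (iv0 F219931)) (tt N79774 F363264) (tt N40724 F219564) (tt N106223 D209424) (tt N39288 (iv5 D136456)) (tt N77916 (iv6 F245292)) (tt N59674 F219565))
theorem Q71159 : ∀ i, i < 71159 → P i := stepQ 71158 Q71158 (allL N71158 (tt N58602 F219569) (tt N60375 (iv0 F219840)) (tt N71615 (iv2 F220301)) (tt N60042 F219567) (tt N81240 F343942) (tt N47343 F319910) (tt N39289 (iv6 D136457)) (tt N71616 (iv7 F220309)))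
theorem Q71160 : ∀ i, i < 71160 → P i := stepQ 71159 Q71159 (allL N71159 (tt N65459 (iv1 F219570)) (tt N39291 (iv0 D136458)) (tt N65458 (iv2 F400779)) (tt N77842 (iv3 F245119)) (tt N106224 D209425) (tt N96708 (iv5 F413550)) (tt N106225 D209426) (tt N65457 (iv7 F400782)))
theorem Q71161 : ∀ i, i < 71161 → P i := stepQ 71160 Q71160 (allL N71160 (tt N39291 (iv1 D136459)) (tt N65459 (iv0 F219572)) (tt N65457 F400780) (tt N106226 D209427) (tt N56864 (iv4 F219571)) (tt N106227 D209428) (tt N106228 D209429) (tt N65458 F400778))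
theorem Q71162 : ∀ i, i < 71162 → P i := stepQ 71161 Q71161 (allL N71161 (tt N65458 (iv1 F219576)) (tt N65457 F219575) (tt N39291 (iv2 D136460)) (tt N98998 (iv3 F422984)) (tt N65478 F219573) (tt N106192 (iv5 F453547)) (tt N105743 (iv6 F451496)) (tt N65459 F219574))
theorem Q71163 : ∀ i, i < 71163 → P i := stepQ 71162 Q71162 (allL N71162 (tt N65040 (iv1 F351808)) (tt N54145 (iv0 F351804)) (tt N105743 (iv2 F451491)) (tt N39292 F219577) (tt N59199 F219578) (tt N76914 (iv5 F351818)) (tt N39291 (iv6 D136461)) (tt N39617 F219579))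
theorem Q71164 : ∀ i, i < 71164 → P i := stepQ 71163 Q71163 (allL N71163 (tt N98998 (iv1 F422987)) (tt N39293 (iv0 D136463)) (tt N96286 (iv2 F411881)) (tt N40001 F219581) (tt N82161 (iv4 F360933)) (tt N105577 (iv5 F450817)) (tt N106229 D209430) (tt N40021 (iv7 F219582)))
theorem Q71165 : ∀ i, i < 71165 → P i := stepQ 71164 Q71164 (allL N71164 (tt N39293 (iv1 D136464)) (tt N98998 F422988) (tt N40021 F386800) (tt N106230 D209431) (tt N89575 F386801) (tt N105573 (iv5 F450794)) (tt N89574 F386802) (tt N96286 (iv7 F411882)))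
theorem Q71166 : ∀ i, i < 71166 → P i := stepQ 71165 Q71165 (allL N71165 (tt N96286 (iv1 F411883)) (tt N40021 F219585) (tt N39293 (iv2 D136465)) (tt N65459 F219583) (tt N78166 (iv4 F246445)) (tt N106194 (iv5 F453557)) (tt N39621 F219584) (tt N98998 (iv7 F422986)))
theorem Q71167 : ∀ i, i < 71167 → P i := stepQ 71166 Q71166 (allL N71166 (tt N106230 F453677) (tt N40011 (iv0 F219588)) (tt N94283 (iv2 F403948)) (tt N39294 (iv3 D136467)) (tt N66341 F219587) (tt N69570 (iv5 F358058)) (tt N69572 F358052) (tt N94286 (iv7 F403963)))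
theorem Q71168 : ∀ i, i < 71168 → P i := stepQ 71167 Q71167 (allL N71167 (tt N53375 F346585) (tt N39848 F346588) (tt N54338 (iv2 F354491)) (tt N69572 (iv3 F358051)) (tt N81799 (iv4 F346586)) (tt N69329 F346589) (tt N39294 (iv6 D136470)) (tt N39624 F344847))
theorem Q71169 : ∀ i, i < 71169 → P i := stepQ 71168 Q71168 (allL N71168 (tt N77837 F245117) (tt N77842 (iv0 F362243)) (tt N105148 (iv2 F448992)) (tt N39295 (iv3 D136472)) (tt N106231 D209432) (tt N64860 F344818) (tt N39625 F344819) (tt N64859 F344820))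
theorem Q71170 : ∀ i, i < 71170 → P i := stepQ 71169 Q71169 (allL N71169 (tt N71127 F357404) (tt N71123 F357405) (tt N39297 F219590) (tt N85588 (iv3 F373152)) (tt N47495 F366168) (tt N39296 (iv5 D136476)) (tt N85580 F373108) (tt N99000 (iv7 F422997)))
theorem Q71171 : ∀ i, i < 71171 → P i := stepQ 71170 Q71170 (allL N71170 (tt N54452 F357406) (tt N90500 (iv0 F389844)) (tt N39298 F219591) (tt N54469 (iv3 F371051)) (tt N98466 (iv4 F421001)) (tt N85581 (iv5 F373112)) (tt N39296 (iv6 D136477)) (tt N106232 D209433))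
theorem Q71172 : ∀ i, i < 71172 → P i := stepQ 71171 Q71171 (allL N71171 (tt N99000 (iv1 F422999)) (tt N39297 (iv0 D136478)) (tt N71127 (iv2 F354513)) (tt N106233 D209434) (tt N76335 F354512) (tt N54507 F354511) (tt N72421 (iv6 F356110)) (tt N71123 (iv7 F354514)))
theorem Q71173 : ∀ i, i < 71173 → P i := stepQ 71172 Q71172 (allL N71172 (tt N39297 (iv1 D136479)) (tt N99000 (iv0 F422998)) (tt N71123 F354518) (tt N72430 (iv3 F356116)) (tt N105718 (iv4 F451400)) (tt N54506 (iv5 F354517)) (tt N98109 F419485) (tt N71127 F354516))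
theorem Q71174 : ∀ i, i < 71174 → P i := stepQ 71173 Q71173 (allL N71173 (tt N90444 F389665) (tt N106234 D209435) (tt N47495 F310379) (tt N67868 F219592) (tt N39297 (iv4 D136480)) (tt N47492 F310380) (tt N106235 D209436) (tt N84049 (iv7 F367921)))
theorem Q71175 : ∀ i, i < 71175 → P i := stepQ 71174 Q71174 (allL N71174 (tt N106236 D209437) (tt N101059 (iv0 F431492)) (tt N85580 (iv2 F373106)) (tt N39301 F219594) (tt N106235 (iv4 F453705)) (tt N85578 F373104) (tt N39297 (iv6 D136481)) (tt N106237 D209438))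
theorem Q71176 : ∀ i, i < 71176 → P i := stepQ 71175 Q71175 (allL N71175 (tt N106232 (iv1 F453691)) (tt N39298 (iv0 D136482)) (tt N54452 (iv2 F354520)) (tt N106238 D209439) (tt N80646 (iv4 F354521)) (tt N84060 (iv5 F367962)) (tt N53407 F354519) (tt N90500 (iv7 F389843)))
theorem Q71177 : ∀ i, i < 71177 → P i := stepQ 71176 Q71176 (allL N71176 (tt N39298 (iv1 D136483)) (tt N106232 F453690) (tt N90500 (iv2 F389841)) (tt N106239 D209440) (tt N81413 (iv4 F354523)) (tt N106240 D209441) (tt N81414 (iv6 F354524)) (tt N54452 F354522))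
theorem Q71178 : ∀ i, i < 71178 → P i := stepQ 71177 Q71177 (allL N71177 (tt N71466 F362467) (tt N106241 D209442) (tt N85581 (iv2 F373110)) (tt N39304 F219595) (tt N98103 (iv4 F419464)) (tt N39298 (iv5 D136484)) (tt N85578 F373105) (tt N106242 D209443))
theorem Q71179 : ∀ i, i < 71179 → P i := stepQ 71178 Q71178 (allL N71178 (tt N90500 (iv1 F389845)) (tt N54452 F389846) (tt N106232 (iv2 F453686)) (tt N39305 F219596) (tt N98469 (iv4 F421018)) (tt N106242 (iv5 F453726)) (tt N98995 (iv6 F422978)) (tt N39298 (iv7 D136485)))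
theorem Q71180 : ∀ i, i < 71180 → P i := stepQ 71179 Q71179 (allL N71179 (tt N96708 F413551) (tt N106227 (iv0 F453658)) (tt N106243 D209444) (tt N39299 (iv3 D136486)) (tt N98438 (iv4 F420919)) (tt N68867 F219597) (tt N95936 F410341) (tt N71113 F219598))
theorem Q71181 : ∀ i, i < 71181 → P i := stepQ 71180 Q71180 (allL N71180 (tt N90068 F388478) (tt N90044 (iv0 F388399)) (tt N71120 F219599) (tt N95936 F410340) (tt N68873 F219600) (tt N71679 (iv5 F220375)) (tt N39299 (iv6 D136487)) (tt N90116 (iv7 F388588)))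
theorem Q71182 : ∀ i, i < 71182 → P i := stepQ 71181 Q71181 (allL N71181 (tt N105577 F450819) (tt N105573 F450796) (tt N106244 D209445) (tt N39300 (iv3 D136488)) (tt N106245 D209446) (tt N68866 F219601) (tt N106246 D209447) (tt N71119 F219602))
theorem Q71183 : ∀ i, i < 71183 → P i := stepQ 71182 Q71182 (allL N71182 (tt N105340 (iv1 F449778)) (tt N106247 D209448) (tt N71115 F219603) (tt N106246 (iv3 F453743)) (tt N68886 F219604) (tt N41313 F365607) (tt N39300 (iv6 D136489)) (tt N106248 D209449))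
theorem Q71184 : ∀ i, i < 71184 → P i := stepQ 71183 Q71183 (allL N71183 (tt N85593 (iv1 F373168)) (tt N39301 (iv0 D136490)) (tt N105950 F452469) (tt N106249 D209450) (tt N106250 D209451) (tt N106251 D209452) (tt N106252 D209453) (tt N90065 F388468))
theorem Q71185 : ∀ i, i < 71185 → P i := stepQ 71184 Q71184 (allL N71184 (tt N39301 (iv1 D136491)) (tt N85593 F373167) (tt N90065 (iv2 F388464)) (tt N72819 (iv3 F413433)) (tt N75585 F413434) (tt N90434 (iv5 F389641)) (tt N76088 (iv6 F388443)) (tt N105950 (iv7 F452471)))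
theorem Q71186 : ∀ i, i < 71186 → P i := stepQ 71185 Q71185 (allL N71185 (tt N85591 (iv1 F373159)) (tt N85493 (iv0 F372824)) (tt N84904 (iv2 F371032)) (tt N85578 (iv3 F373103)) (tt N70134 (iv4 F361152)) (tt N39301 (iv5 D136492)) (tt N39304 F219605) (tt N85592 (iv7 F373158)))
theorem Q71187 : ∀ i, i < 71187 → P i := stepQ 71186 Q71186 (allL N71186 (tt N90065 (iv1 F388467)) (tt N105950 F452470) (tt N85593 (iv2 F373161)) (tt N106237 (iv3 F453708)) (tt N67880 F219606) (tt N85592 F373160) (tt N90090 (iv6 F388533)) (tt N39301 (iv7 D136493)))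
theorem Q71188 : ∀ i, i < 71188 → P i := stepQ 71187 Q71187 (allL N71187 (tt N106253 D209454) (tt N106228 (iv0 F453669)) (tt N106254 D209455) (tt N39302 (iv3 D136494)) (tt N93411 (iv4 F400662)) (tt N106255 D209456) (tt N39684 F219607) (tt N105953 (iv7 F452483)))
theorem Q71189 : ∀ i, i < 71189 → P i := stepQ 71188 Q71188 (allL N71188 (tt N86325 (iv1 F375834)) (tt N95502 (iv0 F408383)) (tt N105952 (iv2 F452477)) (tt N106255 (iv3 F453777)) (tt N106256 D209457) (tt N39302 (iv5 D136495)) (tt N50552 (iv6 F356801)) (tt N105954 (iv7 F452485)))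
theorem Q71190 : ∀ i, i < 71190 → P i := stepQ 71189 Q71189 (allL N71189 (tt N106229 F453672) (tt N106257 D209458) (tt N106258 D209459) (tt N39303 (iv3 D136496)) (tt N96200 (iv4 F411461)) (tt N106259 D209460) (tt N106260 D209461) (tt N105951 (iv7 F452475)))
theorem Q71191 : ∀ i, i < 71191 → P i := stepQ 71190 Q71190 (allL N71190 (tt N95502 (iv1 F408382)) (tt N86325 (iv0 F390638)) (tt N105954 (iv2 F452484)) (tt N106259 (iv3 F453781)) (tt N106261 D209462) (tt N39303 (iv5 D136497)) (tt N106262 D209463) (tt N105952 (iv7 F452479)))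
theorem Q71192 : ∀ i, i < 71192 → P i := stepQ 71191 Q71191 (allL N71191 (tt N58607 (iv1 F219611)) (tt N39856 F219610) (tt N105955 (iv2 F452489)) (tt N106260 (iv3 F453782)) (tt N94277 (iv4 F403927)) (tt N39569 (iv5 F219609)) (tt N39303 (iv6 D136498)) (tt N39683 F219608))
theorem Q71193 : ∀ i, i < 71193 → P i := stepQ 71192 Q71192 (allL N71192 (tt N39304 (iv1 D136499)) (tt N71434 F220053) (tt N71436 (iv2 F220054)) (tt N106263 D209464) (tt N106264 D209465) (tt N70898 F219613) (tt N106265 D209466) (tt N70897 F219612))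
theorem Q71194 : ∀ i, i < 71194 → P i := stepQ 71193 Q71193 (allL N71193 (tt N71395 (iv1 F220023)) (tt N106266 D209467) (tt N105956 (iv2 F452495)) (tt N106267 D209468) (tt N39304 (iv4 D136500)) (tt N106268 D209469) (tt N70134 F361157) (tt N106269 D209470))
theorem Q71195 : ∀ i, i < 71195 → P i := stepQ 71194 Q71194 (allL N71194 (tt N71436 (iv1 F220057)) (tt N70897 (iv0 F219615)) (tt N71434 F220051) (tt N106242 (iv3 F453724)) (tt N106269 (iv4 F453819)) (tt N39305 F219614) (tt N106270 D209471) (tt N39304 (iv7 D136501)))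
theorem Q71196 : ∀ i, i < 71196 → P i := stepQ 71195 Q71195 (allL N71195 (tt N95509 F408416) (tt N95506 (iv0 F408400)) (tt N78162 (iv2 F246401)) (tt N84756 (iv3 F370512)) (tt N94878 F406227) (tt N39306 (iv5 D136503)) (tt N82848 (iv6 F337823)) (tt N105957 (iv7 F452503)))
theorem Q71197 : ∀ i, i < 71197 → P i := stepQ 71196 Q71196 (allL N71196 (tt N95494 (iv1 F408363)) (tt N95490 (iv0 F408352)) (tt N78163 (iv2 F246405)) (tt N52231 F340608) (tt N39307 (iv4 D136504)) (tt N87247 (iv5 F378869)) (tt N52230 (iv6 F340580)) (tt N83523 (iv7 F340609)))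
theorem Q71198 : ∀ i, i < 71198 → P i := stepQ 71197 Q71197 (allL N71197 (tt N39345 F359419) (tt N78835 F359420) (tt N106271 D209472) (tt N39308 (iv3 D136505)) (tt N39957 F219617) (tt N106272 D209473) (tt N106273 D209474) (tt N76257 (iv7 F320469)))
theorem Q71199 : ∀ i, i < 71199 → P i := stepQ 71198 Q71198 (allL N71198 (tt N95506 (iv1 F408401)) (tt N95509 (iv0 F408415)) (tt N105957 (iv2 F452501)) (tt N106272 (iv3 F453832)) (tt N106274 D209475) (tt N39308 (iv5 D136506)) (tt N105629 F451030) (tt N78162 (iv7 F246402)))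
theorem Q71200 : ∀ i, i < 71200 → P i := stepQ 71199 Q71199 (allL N71199 (tt N106069 (iv1 F452980)) (tt N39841 (iv0 F221405)) (tt N96743 (iv2 F413723)) (tt N106273 (iv3 F453838)) (tt N39309 F219618) (tt N102757 (iv5 F438498)) (tt N39308 (iv6 D136507)) (tt N39688 F219619))
theorem Q71201 : ∀ i, i < 71201 → P i := stepQ 71200 Q71200 (allL N71200 (tt N106226 F453654) (tt N106275 D209476) (tt N82580 (iv2 F366310)) (tt N39310 (iv3 D136509)) (tt N57823 F219621) (tt N85645 F373349) (tt N39668 F326613) (tt N78345 (iv7 F359933)))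
theorem Q71202 : ∀ i, i < 71202 → P i := stepQ 71201 Q71201 (allL N71201 (tt N106276 D209477) (tt N60302 F385122) (tt N78192 F246878) (tt N97333 F416390) (tt N39310 (iv4 D136510)) (tt N90746 F390717) (tt N39669 F326614) (tt N105948 (iv7 F452458)))
theorem Q71203 : ∀ i, i < 71203 → P i := stepQ 71202 Q71202 (allL N71202 (tt N60302 F385121) (tt N106276 F453850) (tt N105948 (iv2 F452455)) (tt N39982 F219623) (tt N39311 (iv4 D136515)) (tt N90745 (iv5 F390713)) (tt N54356 F346675) (tt N78192 (iv7 F246877)))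
theorem Q71204 : ∀ i, i < 71204 → P i := stepQ 71203 Q71203 (allL N71203 (tt N54519 (iv1 F352860)) (tt N54521 F352855) (tt N39313 F219624) (tt N99000 (iv3 F422995)) (tt N106277 D209478) (tt N39312 (iv5 D136518)) (tt N89111 F385199) (tt N85588 (iv7 F373156)))
theorem Q71205 : ∀ i, i < 71205 → P i := stepQ 71204 Q71204 (allL N71204 (tt N106278 D209479) (tt N54488 (iv0 F352862)) (tt N39314 F219625) (tt N98993 (iv3 F422962)) (tt N54930 (iv4 F352866)) (tt N54584 F352863) (tt N39312 (iv6 D136519)) (tt N55087 F352869))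
theorem Q71206 : ∀ i, i < 71206 → P i := stepQ 71205 Q71205 (allL N71205 (tt N85588 (iv1 F373155)) (tt N39313 (iv0 D136520)) (tt N54519 (iv2 F352826)) (tt N101241 (iv3 F432362)) (tt N94779 F405899) (tt N53411 F352825) (tt N101236 (iv6 F432344)) (tt N54521 (iv7 F352827)))
theorem Q71207 : ∀ i, i < 71207 → P i := stepQ 71206 Q71206 (allL N71206 (tt N39313 (iv1 D136521)) (tt N85588 (iv0 F373154)) (tt N54521 F352829) (tt N82579 F352831) (tt N86205 (iv4 F375368)) (tt N53412 (iv5 F352830)) (tt N85387 (iv6 F372448)) (tt N54519 F352828))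
theorem Q71208 : ∀ i, i < 71208 → P i := stepQ 71207 Q71207 (allL N71207 (tt N106279 D209480) (tt N106280 D209481) (tt N106277 (iv2 F453853)) (tt N104665 (iv3 F446769)) (tt N39313 (iv4 D136522)) (tt N106281 D209482) (tt N90136 (iv6 F388653)) (tt N105949 (iv7 F452465)))
theorem Q71209 : ∀ i, i < 71209 → P i := stepQ 71208 Q71208 (allL N71208 (tt N55087 (iv1 F352877)) (tt N39314 (iv0 D136524)) (tt N106278 F453862) (tt N106282 D209483) (tt N106283 D209484) (tt N90791 (iv5 F390886)) (tt N54364 F368834) (tt N54488 F352878))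
theorem Q71210 : ∀ i, i < 71210 → P i := stepQ 71209 Q71209 (allL N71209 (tt N39314 (iv1 D136525)) (tt N55087 F352871) (tt N54488 (iv2 F352875)) (tt N44990 F352872) (tt N76247 F352873) (tt N90790 (iv5 F390879)) (tt N53403 F352874) (tt N106278 (iv7 F453864)))
theorem Q71211 : ∀ i, i < 71211 → P i := stepQ 71210 Q71210 (allL N71210 (tt N54423 (iv1 F346671)) (tt N52740 (iv0 F346670)) (tt N54584 (iv2 F352865)) (tt N39318 F219627) (tt N106284 D209485) (tt N39314 (iv5 D136526)) (tt N90137 (iv6 F388658)) (tt N54585 (iv7 F359413)))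
theorem Q71212 : ∀ i, i < 71212 → P i := stepQ 71211 Q71211 (allL N71211 (tt N54488 (iv1 F352864)) (tt N106278 F453863) (tt N55087 (iv2 F352870)) (tt N39319 F219628) (tt N55083 F352876) (tt N54585 F359415) (tt N54468 (iv6 F359416)) (tt N39314 (iv7 D136527)))
theorem Q71213 : ∀ i, i < 71213 → P i := stepQ 71212 Q71212 (allL N71212 (tt N39315 (iv1 D136529)) (tt N90090 F388537) (tt N90092 (iv2 F388540)) (tt N43289 F388381) (tt N98628 (iv4 F421641)) (tt N106285 D209486) (tt N90099 (iv6 F388559)) (tt N90038 F388382))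
theorem Q71214 : ∀ i, i < 71214 → P i := stepQ 71213 Q71213 (allL N71213 (tt N106286 D209487) (tt N98455 (iv0 F420950)) (tt N98997 (iv2 F422982)) (tt N90137 (iv3 F388657)) (tt N106287 D209488) (tt N39315 (iv5 D136530)) (tt N39318 F219629) (tt N106288 D209489))
theorem Q71215 : ∀ i, i < 71215 → P i := stepQ 71214 Q71214 (allL N71214 (tt N90092 (iv1 F388542)) (tt N90038 (iv0 F388377)) (tt N90090 F388534) (tt N85597 (iv3 F373175)) (tt N103724 (iv4 F442589)) (tt N106288 (iv5 F453902)) (tt N85593 F373166) (tt N39315 (iv7 D136531)))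
theorem Q71216 : ∀ i, i < 71216 → P i := stepQ 71215 Q71215 (allL N71215 (tt N63350 F352999) (tt N89574 (iv0 F386793)) (tt N106289 D209490) (tt N39316 (iv3 D136532)) (tt N53527 (iv4 F329701)) (tt N106022 (iv5 F452775)) (tt N73921 (iv6 F365487)) (tt N62951 F365488))
theorem Q71217 : ∀ i, i < 71217 → P i := stepQ 71216 Q71216 (allL N71216 (tt N39850 (iv1 F219631)) (tt N70642 F219632) (tt N98990 (iv2 F422944)) (tt N73921 F365486) (tt N103327 (iv4 F441152)) (tt N90721 (iv5 F390640)) (tt N39316 (iv6 D136533)) (tt N39647 F219630))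
theorem Q71218 : ∀ i, i < 71218 → P i := stepQ 71217 Q71217 (allL N71217 (tt N106225 F453650) (tt N106290 D209491) (tt N106291 D209492) (tt N39317 (iv3 D136534)) (tt N74212 (iv4 F227007)) (tt N106025 (iv5 F452788)) (tt N39645 F219633) (tt N98989 (iv7 F422943)))
theorem Q71219 : ∀ i, i < 71219 → P i := stepQ 71218 Q71218 (allL N71218 (tt N71540 (iv1 F220160)) (tt N71536 (iv0 F220149)) (tt N98996 (iv2 F422981)) (tt N106292 D209493) (tt N39318 (iv4 D136535)) (tt N98976 (iv5 F422888)) (tt N106287 (iv6 F453901)) (tt N98975 F422886))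
theorem Q71220 : ∀ i, i < 71220 → P i := stepQ 71219 Q71219 (allL N71219 (tt N70917 (iv1 F219635)) (tt N70919 F219636) (tt N71511 F220132) (tt N54585 F359414) (tt N98975 (iv4 F422878)) (tt N39319 F219634) (tt N106293 D209494) (tt N39318 (iv7 D136536)))
theorem Q71221 : ∀ i, i < 71221 → P i := stepQ 71220 Q71220 (allL N71220 (tt N99362 (iv1 F424289)) (tt N92327 (iv0 F396720)) (tt N98987 (iv2 F422932)) (tt N76219 F366459) (tt N106027 (iv4 F452795)) (tt N39320 (iv5 D136538)) (tt N83481 F365613) (tt N78179 (iv7 F246602)))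
theorem Q71222 : ∀ i, i < 71222 → P i := stepQ 71221 Q71221 (allL N71221 (tt N39837 F221379) (tt N104713 (iv0 F446957)) (tt N98988 (iv2 F422937)) (tt N76220 (iv3 F366471)) (tt N39321 F219638) (tt N106294 D209495) (tt N39320 (iv6 D136539)) (tt N39654 F219639))
theorem Q71223 : ∀ i, i < 71223 → P i := stepQ 71222 Q71222 (allL N71222 (tt N105985 F452627) (tt N105987 F452638) (tt N78827 F353568) (tt N39322 (iv3 D136540)) (tt N77957 (iv4 F245430)) (tt N106295 D209496) (tt N39651 F219640) (tt N98986 (iv7 F422930)))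
theorem Q71224 : ∀ i, i < 71224 → P i := stepQ 71223 Q71223 (allL N71223 (tt N92327 (iv1 F396721)) (tt N99362 (iv0 F424288)) (tt N78179 (iv2 F246601)) (tt N106295 (iv3 F453919)) (tt N106028 (iv4 F452801)) (tt N39322 (iv5 D136541)) (tt N99876 (iv6 F426643)) (tt N98987 (iv7 F422934)))
theorem Q71225 : ∀ i, i < 71225 → P i := stepQ 71224 Q71224 (allL N71224 (tt N39347 F352331) (tt N101943 (iv0 F435042)) (tt N106220 (iv2 F453616)) (tt N39323 (iv3 D136543)) (tt N57394 F219642) (tt N106296 D209497) (tt N78355 (iv6 F338913)) (tt N97999 (iv7 F419113)))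
theorem Q71226 : ∀ i, i < 71226 → P i := stepQ 71225 Q71225 (allL N71225 (tt N106297 D209498) (tt N106298 D209499) (tt N94510 F404770) (tt N101830 (iv3 F434553)) (tt N39323 (iv4 D136544)) (tt N71234 F219648) (tt N78356 (iv6 F338914)) (tt N101827 (iv7 F434540)))
theorem Q71227 : ∀ i, i < 71227 → P i := stepQ 71226 Q71226 (allL N71226 (tt N91677 (iv1 F394004)) (tt N39356 F343910) (tt N83103 F338907) (tt N106296 (iv3 F453923)) (tt N94531 (iv4 F404864)) (tt N39323 (iv5 D136545)) (tt N55354 (iv6 F338908)) (tt N91676 (iv7 F393997)))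
theorem Q71228 : ∀ i, i < 71228 → P i := stepQ 71227 Q71227 (allL N71227 (tt N105981 F452613) (tt N105982 F452617) (tt N91074 (iv2 F391826)) (tt N39324 (iv3 D136548)) (tt N96285 (iv4 F411876)) (tt N105404 (iv5 F450093)) (tt N39703 F338933) (tt N105585 (iv7 F450845)))
theorem Q71229 : ∀ i, i < 71229 → P i := stepQ 71228 Q71228 (allL N71228 (tt N106298 (iv1 F453934)) (tt N106297 F453930) (tt N101827 (iv2 F434537)) (tt N57811 F219644) (tt N39324 (iv4 D136549)) (tt N85241 (iv5 F372016)) (tt N39704 F338934) (tt N94510 (iv7 F404767)))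
theorem Q71230 : ∀ i, i < 71230 → P i := stepQ 71229 Q71229 (allL N71229 (tt N39356 F343911) (tt N91677 F394003) (tt N91676 (iv2 F393999)) (tt N105404 (iv3 F450090)) (tt N57825 F219645) (tt N39324 (iv5 D136550)) (tt N106299 D209500) (tt N83103 F338902))
theorem Q71231 : ∀ i, i < 71231 → P i := stepQ 71230 Q71230 (allL N71230 (tt N94551 F404933) (tt N105975 F452589) (tt N39326 F219646) (tt N105960 (iv3 F452518)) (tt N73004 F358548) (tt N39325 (iv5 D136552)) (tt N73003 (iv6 F358547)) (tt N105973 (iv7 F452572)))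
theorem Q71232 : ∀ i, i < 71232 → P i := stepQ 71231 Q71231 (allL N71231 (tt N82903 (iv1 F405228)) (tt N91744 F405230) (tt N39327 F219647) (tt N105961 (iv3 F452525)) (tt N94611 (iv4 F405204)) (tt N106300 D209501) (tt N39325 (iv6 D136553)) (tt N91743 (iv7 F394279)))
theorem Q71233 : ∀ i, i < 71233 → P i := stepQ 71232 Q71232 (allL N71232 (tt N105973 (iv1 F452573)) (tt N39326 (iv0 D136554)) (tt N94551 (iv2 F404934)) (tt N106301 D209502) (tt N94550 F404935) (tt N104962 (iv5 F448159)) (tt N83144 F404937) (tt N105975 (iv7 F452590)))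
theorem Q71234 : ∀ i, i < 71234 → P i := stepQ 71233 Q71233 (allL N71233 (tt N39326 (iv1 D136555)) (tt N105973 (iv0 F452574)) (tt N105975 F452588) (tt N105426 (iv3 F450210)) (tt N57850 F404865) (tt N104963 (iv5 F448167)) (tt N103118 (iv6 F440156)) (tt N94551 (iv7 F404932)))
theorem Q71235 : ∀ i, i < 71235 → P i := stepQ 71234 Q71234 (allL N71234 (tt N89763 F387462) (tt N95258 F407610) (tt N73004 (iv2 F358549)) (tt N105204 (iv3 F449197)) (tt N39326 (iv4 D136556)) (tt N71225 (iv5 F219648)) (tt N62198 F338954) (tt N95256 (iv7 F407595)))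
theorem Q71236 : ∀ i, i < 71236 → P i := stepQ 71235 Q71235 (allL N71235 (tt N101768 (iv1 F434259)) (tt N83108 (iv0 F338911)) (tt N73003 F358532) (tt N39329 F219649) (tt N62198 (iv4 F358531)) (tt N82914 F358534) (tt N39326 (iv6 D136557)) (tt N73000 F358533))
theorem Q71237 : ∀ i, i < 71237 → P i := stepQ 71236 Q71236 (allL N71236 (tt N39327 (iv1 D136559)) (tt N91743 F394280) (tt N91744 (iv2 F394281)) (tt N91062 (iv3 F391803)) (tt N106302 D209503) (tt N82904 (iv5 F358542)) (tt N91747 (iv6 F394286)) (tt N82903 F358541))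
theorem Q71238 : ∀ i, i < 71238 → P i := stepQ 71237 Q71237 (allL N71237 (tt N106303 D209504) (tt N106304 D209505) (tt N106300 (iv2 F453944)) (tt N39330 F219650) (tt N97826 F418433) (tt N39327 (iv5 D136560)) (tt N82914 (iv6 F358539)) (tt N106305 D209506))
theorem Q71239 : ∀ i, i < 71239 → P i := stepQ 71238 Q71238 (allL N71238 (tt N91744 (iv1 F405229)) (tt N82903 (iv0 F405227)) (tt N91743 F394278) (tt N39331 F219651) (tt N94616 (iv4 F405223)) (tt N106305 (iv5 F453953)) (tt N105977 (iv6 F452598)) (tt N39327 (iv7 D136561)))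
theorem Q71240 : ∀ i, i < 71240 → P i := stepQ 71239 Q71239 (allL N71239 (tt N105971 (iv1 F452565)) (tt N39329 (iv0 D136564)) (tt N105969 F452556) (tt N82302 (iv3 F358536)) (tt N67877 (iv4 F373165)) (tt N70139 F358535) (tt N101481 (iv6 F433098)) (tt N82298 (iv7 F358537)))
theorem Q71241 : ∀ i, i < 71241 → P i := stepQ 71240 Q71240 (allL N71240 (tt N39329 (iv1 D136565)) (tt N105971 F452564) (tt N82298 F366379) (tt N96685 (iv3 F413441)) (tt N67878 F366380) (tt N95245 (iv5 F407564)) (tt N76095 (iv6 F366378)) (tt N105969 (iv7 F452557)))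
theorem Q71242 : ∀ i, i < 71242 → P i := stepQ 71241 Q71241 (allL N71241 (tt N72945 F358543) (tt N82864 (iv0 F384563)) (tt N105970 (iv2 F452559)) (tt N82914 (iv3 F358538)) (tt N98211 (iv4 F420009)) (tt N39329 (iv5 D136566)) (tt N39330 F219656) (tt N106306 D209507))
theorem Q71243 : ∀ i, i < 71243 → P i := stepQ 71242 Q71242 (allL N71242 (tt N82298 F358545) (tt N105969 F452558) (tt N105971 (iv2 F452562)) (tt N73000 (iv3 F358544)) (tt N105208 (iv4 F449212)) (tt N106306 (iv5 F453956)) (tt N105979 (iv6 F452606)) (tt N39329 (iv7 D136567)))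
theorem Q71244 : ∀ i, i < 71244 → P i := stepQ 71243 Q71243 (allL N71243 (tt N39330 (iv1 D136568)) (tt N71394 F220022) (tt N71396 (iv2 F220024)) (tt N106307 D209508) (tt N106266 (iv4 F453802)) (tt N58534 F219658) (tt N106308 D209509) (tt N58533 F219657))
theorem Q71245 : ∀ i, i < 71245 → P i := stepQ 71244 Q71244 (allL N71244 (tt N106003 (iv1 F452707)) (tt N106309 D209510) (tt N105972 (iv2 F452566)) (tt N97827 (iv3 F418434)) (tt N39330 (iv4 D136569)) (tt N106310 D209511) (tt N98211 (iv6 F420011)) (tt N106311 D209512))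
theorem Q71246 : ∀ i, i < 71246 → P i := stepQ 71245 Q71245 (allL N71245 (tt N71396 (iv1 F220027)) (tt N58533 (iv0 F219660)) (tt N71394 F220020) (tt N106305 (iv3 F453952)) (tt N106311 (iv4 F453978)) (tt N39331 F219659) (tt N106312 D209513) (tt N39330 (iv7 D136570)))
theorem Q71247 : ∀ i, i < 71247 → P i := stepQ 71246 Q71246 (allL N71246 (tt N96288 F411892) (tt N57611 (iv0 F394185)) (tt N92468 (iv2 F397076)) (tt N92512 (iv3 F397200)) (tt N39332 (iv4 D136573)) (tt N59914 F352946) (tt N39726 F352947) (tt N105958 (iv7 F452508)))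
theorem Q71248 : ∀ i, i < 71248 → P i := stepQ 71247 Q71247 (allL N71247 (tt N91675 F393992) (tt N39358 F393993) (tt N105959 (iv2 F452513)) (tt N91101 (iv3 F391922)) (tt N106313 D209514) (tt N39332 (iv5 D136574)) (tt N106314 D209515) (tt N104243 F444897))
theorem Q71249 : ∀ i, i < 71249 → P i := stepQ 71248 Q71248 (allL N71248 (tt N101945 (iv1 F435055)) (tt N39342 F366314) (tt N101941 (iv2 F435032)) (tt N39333 (iv3 D136577)) (tt N106315 D209516) (tt N106316 D209517) (tt N106317 D209518) (tt N101942 (iv7 F435035)))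
theorem Q71250 : ∀ i, i < 71250 → P i := stepQ 71249 Q71249 (allL N71249 (tt N57611 F366313) (tt N96288 (iv0 F411890)) (tt N105958 (iv2 F452506)) (tt N57595 (iv3 F219664)) (tt N39333 (iv4 D136578)) (tt N92469 (iv5 F397098)) (tt N106318 D209519) (tt N92468 (iv7 F397079)))
theorem Q71251 : ∀ i, i < 71251 → P i := stepQ 71250 Q71250 (allL N71250 (tt N39358 F393995) (tt N91675 (iv0 F393991)) (tt N104243 (iv2 F444892)) (tt N106316 (iv3 F453995)) (tt N106319 D209520) (tt N39333 (iv5 D136579)) (tt N63453 (iv6 F362507)) (tt N105959 (iv7 F452514)))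
theorem Q71252 : ∀ i, i < 71252 → P i := stepQ 71251 Q71251 (allL N71251 (tt N39838 F362497) (tt N78368 F362498) (tt N104244 (iv2 F444898)) (tt N106317 (iv3 F453999)) (tt N106318 (iv4 F454004)) (tt N63454 F362499) (tt N39333 (iv6 D136580)) (tt N39731 F352949))
theorem Q71253 : ∀ i, i < 71253 → P i := stepQ 71252 Q71252 (allL N71252 (tt N105963 (iv1 F452535)) (tt N105962 F452528) (tt N39335 F219665) (tt N105973 (iv3 F452570)) (tt N53846 (iv4 F367389)) (tt N39334 (iv5 D136581)) (tt N53845 F367391) (tt N105960 (iv7 F452520)))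
theorem Q71254 : ∀ i, i < 71254 → P i := stepQ 71253 Q71253 (allL N71253 (tt N106320 D209521) (tt N91007 F391551) (tt N39336 F219666) (tt N105974 (iv3 F452577)) (tt N102737 (iv4 F438425)) (tt N106321 D209522) (tt N39334 (iv6 D136582)) (tt N106322 D209523))
theorem Q71255 : ∀ i, i < 71255 → P i := stepQ 71254 Q71254 (allL N71254 (tt N105960 (iv1 F452521)) (tt N39335 (iv0 D136583)) (tt N105963 (iv2 F452539)) (tt N106323 D209524) (tt N106324 D209525) (tt N94214 F414638) (tt N77652 (iv6 F414640)) (tt N105962 F452534))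
theorem Q71256 : ∀ i, i < 71256 → P i := stepQ 71255 Q71255 (allL N71255 (tt N39335 (iv1 D136584)) (tt N105960 F452522) (tt N105962 F452533) (tt N106325 D209526) (tt N106326 D209527) (tt N94215 F434917) (tt N106327 D209528) (tt N105963 (iv7 F452536)))
theorem Q71257 : ∀ i, i < 71257 → P i := stepQ 71256 Q71256 (allL N71256 (tt N106328 D209529) (tt N97350 (iv0 F416458)) (tt N53846 F367390) (tt N103405 (iv3 F441468)) (tt N39335 (iv4 D136585)) (tt N83791 F367396) (tt N53844 (iv6 F367394)) (tt N105964 (iv7 F452541)))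
theorem Q71258 : ∀ i, i < 71258 → P i := stepQ 71257 Q71257 (allL N71257 (tt N53795 F367395) (tt N106329 D209530) (tt N53845 (iv2 F367392)) (tt N39337 F219667) (tt N53844 F367393) (tt N106330 D209531) (tt N39335 (iv6 D136586)) (tt N106331 D209532))
theorem Q71259 : ∀ i, i < 71259 → P i := stepQ 71258 Q71258 (allL N71258 (tt N106322 (iv1 F454024)) (tt N39336 (iv0 D136587)) (tt N106320 F454013) (tt N91010 F391554) (tt N106332 D209533) (tt N106333 D209534) (tt N106334 D209535) (tt N91007 (iv7 F391555)))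
theorem Q71260 : ∀ i, i < 71260 → P i := stepQ 71259 Q71259 (allL N71259 (tt N39336 (iv1 D136588)) (tt N106322 F454023) (tt N91007 (iv2 F454015)) (tt N106335 D209536) (tt N106336 D209537) (tt N106337 D209538) (tt N91006 F454017) (tt N106320 F454014))
theorem Q71261 : ∀ i, i < 71261 → P i := stepQ 71260 Q71260 (allL N71260 (tt N106338 D209539) (tt N106339 D209540) (tt N106321 (iv2 F454018)) (tt N39338 F219668) (tt N106340 D209541) (tt N39336 (iv5 D136589)) (tt N106330 (iv6 F454059)) (tt N106341 D209542))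
theorem Q71262 : ∀ i, i < 71262 → P i := stepQ 71261 Q71261 (allL N71261 (tt N91007 F391550) (tt N106320 F454016) (tt N106322 (iv2 F454022)) (tt N39339 F219669) (tt N102739 (iv4 F438433)) (tt N106341 (iv5 F454084)) (tt N105968 (iv6 F452553)) (tt N39336 (iv7 D136590)))
theorem Q71263 : ∀ i, i < 71263 → P i := stepQ 71262 Q71262 (allL N71262 (tt N105979 (iv1 F452608)) (tt N39337 (iv0 D136591)) (tt N83092 (iv2 F375577)) (tt N89143 F420693) (tt N90100 (iv4 F441478)) (tt N83479 F365612) (tt N83080 F375576) (tt N104701 (iv7 F446922)))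
theorem Q71264 : ∀ i, i < 71264 → P i := stepQ 71263 Q71263 (allL N71263 (tt N39337 (iv1 D136592)) (tt N105979 F452607) (tt N104701 (iv2 F446921)) (tt N104858 (iv3 F447656)) (tt N104668 F446789) (tt N106342 D209543) (tt N103621 (iv6 F442273)) (tt N83092 F375578))
theorem Q71265 : ∀ i, i < 71265 → P i := stepQ 71264 Q71264 (allL N71264 (tt N106343 D209544) (tt N106344 D209545) (tt N105978 (iv2 F452601)) (tt N106330 (iv3 F454058)) (tt N106345 D209546) (tt N39337 (iv5 D136593)) (tt N39338 F219670) (tt N106346 D209547))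
theorem Q71266 : ∀ i, i < 71266 → P i := stepQ 71265 Q71265 (allL N71265 (tt N104701 (iv1 F446925)) (tt N83092 F446926) (tt N105979 (iv2 F452604)) (tt N106331 (iv3 F454062)) (tt N106139 (iv4 F453313)) (tt N106346 (iv5 F454092)) (tt N105971 (iv6 F452563)) (tt N39337 (iv7 D136594)))
theorem Q71267 : ∀ i, i < 71267 → P i := stepQ 71266 Q71266 (allL N71266 (tt N106021 (iv1 F452774)) (tt N99143 F423452) (tt N105980 (iv2 F452609)) (tt N106347 D209548) (tt N39338 (iv4 D136595)) (tt N106348 D209549) (tt N106345 (iv6 F454091)) (tt N106349 D209550))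
theorem Q71268 : ∀ i, i < 71268 → P i := stepQ 71267 Q71267 (allL N71267 (tt N62247 (iv1 F219672)) (tt N70924 F219673) (tt N71535 F220148) (tt N106341 (iv3 F454083)) (tt N106349 (iv4 F454096)) (tt N39339 F219671) (tt N106350 D209551) (tt N39338 (iv7 D136596)))
theorem Q71269 : ∀ i, i < 71269 → P i := stepQ 71268 Q71268 (allL N71268 (tt N39351 (iv1 F219676)) (tt N39350 F219677) (tt N39354 F219674) (tt N78732 (iv3 F341516)) (tt N78731 F341528) (tt N39340 (iv5 D136597)) (tt N78731 F341526) (tt N39349 F219675))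
theorem Q71270 : ∀ i, i < 71270 → P i := stepQ 71269 Q71269 (allL N71269 (tt N39805 (iv1 F219682)) (tt N39804 F219683) (tt N39355 F219679) (tt N45356 F339057) (tt N40000 F219680) (tt N45355 F339058) (tt N39340 (iv6 D136598)) (tt N39752 F219681))
theorem Q71271 : ∀ i, i < 71271 → P i := stepQ 71270 Q71270 (allL N71270 (tt N106220 (iv1 F453618)) (tt N97999 (iv0 F419115)) (tt N101943 (iv2 F435040)) (tt N39341 (iv3 D136601)) (tt N48140 (iv4 F316895)) (tt N106351 D209552) (tt N106352 D209553) (tt N39347 F219686))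
theorem Q71272 : ∀ i, i < 71272 → P i := stepQ 71271 Q71271 (allL N71271 (tt N71109 F219726) (tt N82073 F314610) (tt N39344 F219690) (tt N106351 (iv3 F454100)) (tt N89141 (iv4 F385328)) (tt N39341 (iv5 D136603)) (tt N96683 (iv6 F413438)) (tt N39348 F219691))
theorem Q71273 : ∀ i, i < 71273 → P i := stepQ 71272 Q71272 (allL N71272 (tt N76257 F314611) (tt N106271 F453829) (tt N39345 F219693) (tt N106352 (iv3 F454103)) (tt N48139 F314612) (tt N106353 D209554) (tt N39341 (iv6 D136604)) (tt N78835 F314613))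
theorem Q71274 : ∀ i, i < 71274 → P i := stepQ 71273 Q71273 (allL N71273 (tt N39342 (iv1 D136606)) (tt N101945 F435054) (tt N101942 F435036) (tt N89306 F386012) (tt N96019 (iv4 F410657)) (tt N106354 D209555) (tt N39756 F386013) (tt N101941 F435029))
theorem Q71275 : ∀ i, i < 71275 → P i := stepQ 71274 Q71274 (allL N71274 (tt N106325 (iv1 F454033)) (tt N106355 D209556) (tt N101944 (iv2 F435045)) (tt N39344 F219694) (tt N98366 (iv4 F420659)) (tt N39342 (iv5 D136608)) (tt N106356 D209557) (tt N101952 (iv7 F435075)))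
theorem Q71276 : ∀ i, i < 71276 → P i := stepQ 71275 Q71275 (allL N71275 (tt N90950 (iv1 F391386)) (tt N90956 (iv0 F391385)) (tt N90955 (iv2 F473669)) (tt N39345 F219695) (tt N101938 (iv4 F435019)) (tt N106357 D209558) (tt N39342 (iv6 D136609)) (tt N90954 F391363))
theorem Q71277 : ∀ i, i < 71277 → P i := stepQ 71276 Q71276 (allL N71276 (tt N78836 F312161) (tt N74971 (iv0 F330040)) (tt N48139 (iv2 F312268)) (tt N91536 F393540) (tt N39345 F219739) (tt N92562 (iv5 F397390)) (tt N39343 (iv6 D136615)) (tt N78812 F312163))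
theorem Q71278 : ∀ i, i < 71278 → P i := stepQ 71277 Q71277 (allL N71277 (tt N76479 F238999) (tt N89109 (iv0 F385192)) (tt N89141 (iv2 F385326)) (tt N69567 F219758) (tt N39344 (iv4 D136618)) (tt N48467 F309082) (tt N106358 D209559) (tt N88378 (iv7 F382811)))
theorem Q71279 : ∀ i, i < 71279 → P i := stepQ 71278 Q71278 (allL N71278 (tt N95723 F454124) (tt N96685 (iv0 F413445)) (tt N96683 F413439) (tt N106356 (iv3 F454118)) (tt N106358 (iv4 F454129)) (tt N106359 D209560) (tt N39344 (iv6 D136619)) (tt N96684 (iv7 F413440)))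
theorem Q71280 : ∀ i, i < 71280 → P i := stepQ 71279 Q71279 (allL N71279 (tt N82073 F312159) (tt N71109 (iv0 F219762)) (tt N39348 F219759) (tt N101952 (iv3 F435073)) (tt N88378 (iv4 F382812)) (tt N39346 F219760) (tt N88379 (iv6 F382817)) (tt N39344 (iv7 D136620)))
theorem Q71281 : ∀ i, i < 71281 → P i := stepQ 71280 Q71280 (allL N71280 (tt N78835 F359425) (tt N39345 (iv0 D136621)) (tt N76257 (iv2 F359421)) (tt N89297 (iv3 F385972)) (tt N40017 F359422) (tt N106360 D209561) (tt N39782 F359423) (tt N106271 (iv7 F453827)))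
theorem Q71282 : ∀ i, i < 71282 → P i := stepQ 71281 Q71281 (allL N71281 (tt N105589 F450870) (tt N106307 F453963) (tt N106353 (iv2 F454107)) (tt N106357 (iv3 F454125)) (tt N74958 (iv4 F359429)) (tt N39345 (iv5 D136623)) (tt N106359 (iv6 F454133)) (tt N106361 D209562))
theorem Q71283 : ∀ i, i < 71283 → P i := stepQ 71282 Q71282 (allL N71282 (tt N106271 (iv1 F453828)) (tt N76257 F359430) (tt N78835 F359426) (tt N90954 (iv3 F391362)) (tt N78812 (iv4 F359427)) (tt N106361 (iv5 F454144)) (tt N76218 (iv6 F359428)) (tt N39345 (iv7 D136624)))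
theorem Q71284 : ∀ i, i < 71284 → P i := stepQ 71283 Q71283 (allL N71283 (tt N101943 F435043) (tt N39347 (iv0 D136626)) (tt N97999 (iv2 F419110)) (tt N91074 (iv3 F391827)) (tt N57393 F219764) (tt N84053 (iv5 F367947)) (tt N39774 F346583) (tt N106220 (iv7 F453617)))
theorem Q71285 : ∀ i, i < 71285 → P i := stepQ 71284 Q71284 (allL N71284 (tt N97999 F419114) (tt N106220 (iv0 F453619)) (tt N39347 (iv2 D136628)) (tt N101945 (iv3 F435051)) (tt N48512 F314604) (tt N106362 D209563) (tt N78831 F314605) (tt N101943 (iv7 F435044)))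
theorem Q71286 : ∀ i, i < 71286 → P i := stepQ 71285 Q71285 (allL N71285 (tt N106363 D209564) (tt N106301 (iv0 F453947)) (tt N106362 (iv2 F454148)) (tt N39348 F219769) (tt N106364 D209565) (tt N39347 (iv5 D136630)) (tt N89145 (iv6 F385337)) (tt N106351 (iv7 F454101)))
theorem Q71287 : ∀ i, i < 71287 → P i := stepQ 71286 Q71286 (allL N71286 (tt N39354 (iv1 F219785)) (tt N39349 (iv0 D136640)) (tt N39350 F221559) (tt N106365 D209566) (tt N90119 (iv4 F388600)) (tt N65387 (iv5 F314593)) (tt N106366 D209567) (tt N39351 F221560))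
theorem Q71288 : ∀ i, i < 71288 → P i := stepQ 71287 Q71287 (allL N71287 (tt N39349 (iv1 D136641)) (tt N39354 F219787) (tt N39351 F221564) (tt N106367 D209568) (tt N77309 (iv4 F342614)) (tt N69538 F219788) (tt N106368 D209569) (tt N39350 F221565))
theorem Q71289 : ∀ i, i < 71289 → P i := stepQ 71288 Q71288 (allL N71288 (tt N64899 F342611) (tt N64538 F342612) (tt N39352 F219789) (tt N63988 (iv3 F341531)) (tt N39349 (iv4 D136642)) (tt N63987 (iv5 F315991)) (tt N73284 F357734) (tt N78731 F341530))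
theorem Q71290 : ∀ i, i < 71290 → P i := stepQ 71289 Q71289 (allL N71289 (tt N106369 D209570) (tt N106370 D209571) (tt N39353 F219790) (tt N73224 F350344) (tt N73284 (iv4 F357736)) (tt N39788 F219791) (tt N39349 (iv6 D136643)) (tt N73284 (iv7 F357731)))
theorem Q71291 : ∀ i, i < 71291 → P i := stepQ 71290 Q71290 (allL N71290 (tt N106316 F453996) (tt N106354 (iv0 F454114)) (tt N106371 D209572) (tt N39350 (iv3 D136645)) (tt N106372 D209573) (tt N103348 F441212) (tt N53784 F427863) (tt N106367 (iv7 F454171)))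
theorem Q71292 : ∀ i, i < 71292 → P i := stepQ 71291 Q71291 (allL N71291 (tt N64737 (iv1 F351902)) (tt N89103 (iv0 F385165)) (tt N90119 F388602) (tt N64817 (iv3 F314233)) (tt N39350 (iv4 D136646)) (tt N64727 (iv5 F316793)) (tt N106373 D209574) (tt N77309 F342616))
theorem Q71293 : ∀ i, i < 71293 → P i := stepQ 71292 Q71292 (allL N71292 (tt N89137 F427859) (tt N83086 F427860) (tt N106366 (iv2 F454163)) (tt N53784 F427861) (tt N106373 (iv4 F454199)) (tt N88790 F427862) (tt N39350 (iv6 D136647)) (tt N106374 D209575))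
theorem Q71294 : ∀ i, i < 71294 → P i := stepQ 71293 Q71293 (allL N71293 (tt N84053 F367948) (tt N106296 (iv0 F453926)) (tt N106375 D209576) (tt N39351 (iv3 D136649)) (tt N106376 D209577) (tt N82225 (iv5 F366635)) (tt N106377 D209578) (tt N106365 (iv7 F454161)))
theorem Q71295 : ∀ i, i < 71295 → P i := stepQ 71294 Q71294 (allL N71294 (tt N89103 (iv1 F385166)) (tt N64737 (iv0 F351901)) (tt N77309 F342615) (tt N106378 D209579) (tt N39351 (iv4 D136650)) (tt N64690 F342018) (tt N89846 F387710) (tt N90119 (iv7 F388598)))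
theorem Q71296 : ∀ i, i < 71296 → P i := stepQ 71295 Q71295 (allL N71295 (tt N106379 D209580) (tt N73273 (iv0 F387712)) (tt N106368 (iv2 F454174)) (tt N106377 (iv3 F454212)) (tt N89846 (iv4 F387711)) (tt N106380 D209581) (tt N39351 (iv6 D136651)) (tt N106381 D209582))
theorem Q71297 : ∀ i, i < 71297 → P i := stepQ 71296 Q71296 (allL N71296 (tt N78731 F337497) (tt N39352 (iv0 D136652)) (tt N64899 F337495) (tt N106382 D209583) (tt N89184 (iv4 F385485)) (tt N64511 (iv5 F337494)) (tt N89837 (iv6 F387690)) (tt N64538 F337496))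
theorem Q71298 : ∀ i, i < 71298 → P i := stepQ 71297 Q71297 (allL N71297 (tt N39352 (iv1 D136653)) (tt N78731 F341532) (tt N64538 F309896) (tt N77201 F309897) (tt N106383 D209584) (tt N45107 F309898) (tt N45110 F309899) (tt N64899 (iv7 F342620)))
theorem Q71299 : ∀ i, i < 71299 → P i := stepQ 71298 Q71298 (allL N71298 (tt N64907 F314222) (tt N64589 F314223) (tt N64021 F314224) (tt N39352 (iv3 D136654)) (tt N39360 F219796) (tt N42491 F314225) (tt N39364 F219799) (tt N39365 (iv7 F219797)))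
theorem Q71300 : ∀ i, i < 71300 → P i := stepQ 71299 Q71299 (allL N71299 (tt N78730 F313527) (tt N64294 (iv0 F323355)) (tt N63987 (iv2 F315989)) (tt N42491 F313529) (tt N48466 F309085) (tt N39352 (iv5 D136655)) (tt N106384 D209585) (tt N76091 F313530))
theorem Q71301 : ∀ i, i < 71301 → P i := stepQ 71300 Q71300 (allL N71300 (tt N106370 (iv1 F454185)) (tt N106369 F454180) (tt N73284 F357732) (tt N39364 F219801) (tt N39353 F219802) (tt N39802 (iv5 F219803)) (tt N39352 (iv6 D136656)) (tt N39353 (iv7 F219804)))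
theorem Q71302 : ∀ i, i < 71302 → P i := stepQ 71301 Q71301 (allL N71301 (tt N64538 (iv1 F342619)) (tt N64899 F342613) (tt N78731 (iv2 F341527)) (tt N39365 F219805) (tt N39354 F219806) (tt N76091 F341529) (tt N39354 F219807) (tt N39352 (iv7 D136657)))
theorem Q71303 : ∀ i, i < 71303 → P i := stepQ 71302 Q71302 (allL N71302 (tt N73284 (iv1 F357737)) (tt N39353 (iv0 D136658)) (tt N106369 F454183) (tt N106385 D209586) (tt N106386 D209587) (tt N88781 (iv5 F384127)) (tt N73236 F364131) (tt N106370 (iv7 F454186)))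
theorem Q71304 : ∀ i, i < 71304 → P i := stepQ 71303 Q71303 (allL N71303 (tt N39353 (iv1 D136659)) (tt N73284 F357735) (tt N106370 (iv2 F454188)) (tt N84067 (iv3 F372637)) (tt N106387 D209588) (tt N88783 (iv5 F384134)) (tt N106388 D209589) (tt N106369 F454184))
theorem Q71305 : ∀ i, i < 71305 → P i := stepQ 71304 Q71304 (allL N71304 (tt N39752 (iv1 F219808)) (tt N39355 (iv0 D136660)) (tt N39805 F363373) (tt N96167 (iv3 F411318)) (tt N80349 F339088) (tt N64552 (iv5 F339089)) (tt N106389 D209590) (tt N39804 F363374))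
theorem Q71306 : ∀ i, i < 71306 → P i := stepQ 71305 Q71305 (allL N71305 (tt N39355 (iv1 D136661)) (tt N39752 F219809) (tt N39804 F363376) (tt N106390 D209591) (tt N66567 (iv4 F219810)) (tt N65002 F339092) (tt N103182 (iv6 F440449)) (tt N39805 F363377))
theorem Q71307 : ∀ i, i < 71307 → P i := stepQ 71306 Q71306 (allL N71306 (tt N43142 F339031) (tt N43044 F339032) (tt N45355 F319006) (tt N39366 F219811) (tt N57705 F339033) (tt N39355 (iv5 D136662)) (tt N76091 F342608) (tt N39806 F219812))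
theorem Q71308 : ∀ i, i < 71308 → P i := stepQ 71307 Q71307 (allL N71307 (tt N90120 F388605) (tt N106391 D209592) (tt N85616 (iv2 F373215)) (tt N105127 (iv3 F448913)) (tt N39356 (iv4 D136666)) (tt N90333 F405200) (tt N50650 (iv6 F362783)) (tt N105989 (iv7 F452646)))
theorem Q71309 : ∀ i, i < 71309 → P i := stepQ 71308 Q71308 (allL N71308 (tt N105959 F452516) (tt N104243 F444896) (tt N39358 (iv2 D136674)) (tt N91677 (iv3 F394002)) (tt N105675 (iv4 F451200)) (tt N101911 (iv5 F434913)) (tt N105674 F451198) (tt N91675 F393994))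
theorem Q71310 : ∀ i, i < 71310 → P i := stepQ 71309 Q71309 (allL N71309 (tt N106392 D209593) (tt N104973 (iv0 F448220)) (tt N105675 (iv2 F451199)) (tt N78865 F362771) (tt N39358 (iv4 D136675)) (tt N76430 (iv5 F238578)) (tt N70634 F362775) (tt N76628 (iv7 F362773)))
theorem Q71311 : ∀ i, i < 71311 → P i := stepQ 71310 Q71310 (allL N71310 (tt N106393 D209594) (tt N106394 D209595) (tt N105674 (iv2 F451196)) (tt N39359 F219814) (tt N70634 (iv4 F362776)) (tt N106395 D209596) (tt N39358 (iv6 D136676)) (tt N105676 (iv7 F451206)))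
theorem Q71312 : ∀ i, i < 71312 → P i := stepQ 71311 Q71311 (allL N71311 (tt N91671 (iv1 F393980)) (tt N39359 (iv0 D136677)) (tt N104526 (iv2 F446145)) (tt N106379 F454220) (tt N104457 F446146) (tt N106396 D209597) (tt N106397 D209598) (tt N104530 (iv7 F446161)))
theorem Q71313 : ∀ i, i < 71313 → P i := stepQ 71312 Q71312 (allL N71312 (tt N39359 (iv1 D136678)) (tt N91671 (iv0 F393979)) (tt N104530 (iv2 F446160)) (tt N40111 F364001) (tt N104458 (iv4 F446144)) (tt N106398 D209599) (tt N40109 F364002) (tt N104526 F446143))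
theorem Q71314 : ∀ i, i < 71314 → P i := stepQ 71313 Q71313 (allL N71313 (tt N106399 D209600) (tt N106400 D209601) (tt N105990 (iv2 F452647)) (tt N106395 (iv3 F454275)) (tt N106401 D209602) (tt N39359 (iv5 D136679)) (tt N101913 (iv6 F434924)) (tt N106402 D209603))
theorem Q71315 : ∀ i, i < 71315 → P i := stepQ 71314 Q71314 (allL N71314 (tt N104530 (iv1 F446163)) (tt N104526 F446142) (tt N91671 (iv2 F393975)) (tt N105676 F451207) (tt N106135 (iv4 F453294)) (tt N106402 (iv5 F454306)) (tt N83083 F338295) (tt N39359 (iv7 D136680)))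
theorem Q71316 : ∀ i, i < 71316 → P i := stepQ 71315 Q71315 (allL N71315 (tt N104519 (iv1 F446119)) (tt N104518 (iv0 F446118)) (tt N104521 (iv2 F446123)) (tt N39361 F219815) (tt N39364 F219816) (tt N106403 D209604) (tt N39360 (iv6 D136681)) (tt N39361 F219817))
theorem Q71317 : ∀ i, i < 71317 → P i := stepQ 71316 Q71316 (allL N71316 (tt N104521 (iv1 F446127)) (tt N39361 (iv0 D136682)) (tt N104518 F453579) (tt N106404 D209605) (tt N106197 (iv4 F453571)) (tt N106405 D209606) (tt N106406 D209607) (tt N104519 F453577))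
theorem Q71318 : ∀ i, i < 71318 → P i := stepQ 71317 Q71317 (allL N71317 (tt N39361 (iv1 D136683)) (tt N104521 F446126) (tt N104519 (iv2 F453578)) (tt N106407 D209608) (tt N106198 (iv4 F453586)) (tt N106408 D209609) (tt N106409 D209610) (tt N104518 (iv7 F453580)))
theorem Q71319 : ∀ i, i < 71319 → P i := stepQ 71318 Q71318 (allL N71318 (tt N106410 D209611) (tt N106411 D209612) (tt N104520 (iv2 F446121)) (tt N106403 (iv3 F454309)) (tt N106412 D209613) (tt N39361 (iv5 D136684)) (tt N67860 F219818) (tt N106403 (iv7 F454311)))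
theorem Q71320 : ∀ i, i < 71320 → P i := stepQ 71319 Q71319 (allL N71319 (tt N83102 F407349) (tt N106299 (iv0 F453943)) (tt N106413 D209614) (tt N39362 (iv3 D136686)) (tt N95187 (iv4 F407344)) (tt N82984 (iv5 F407347)) (tt N95186 F407343) (tt N105992 (iv7 F452655)))
theorem Q71321 : ∀ i, i < 71321 → P i := stepQ 71320 Q71320 (allL N71320 (tt N103639 (iv1 F442338)) (tt N68854 (iv0 F434959)) (tt N103636 F442330) (tt N106414 D209615) (tt N39362 (iv4 D136687)) (tt N106415 D209616) (tt N106416 D209617) (tt N103637 F442329))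
theorem Q71322 : ∀ i, i < 71322 → P i := stepQ 71321 Q71321 (allL N71321 (tt N67649 F407350) (tt N104129 F444333) (tt N104128 F444325) (tt N82984 F407348) (tt N103622 (iv4 F442275)) (tt N39362 (iv5 D136688)) (tt N73313 F364601) (tt N104095 (iv7 F444150)))
theorem Q71323 : ∀ i, i < 71323 → P i := stepQ 71322 Q71322 (allL N71322 (tt N40109 F359147) (tt N73278 F359148) (tt N59032 F359149) (tt N95186 (iv3 F407342)) (tt N106416 (iv4 F454339)) (tt N59029 F359150) (tt N39362 (iv6 D136689)) (tt N59036 F359151))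
theorem Q71324 : ∀ i, i < 71324 → P i := stepQ 71323 Q71323 (allL N71323 (tt N106314 (iv1 F454353)) (tt N106417 D209619) (tt N106418 D209620) (tt N39363 (iv3 D136691)) (tt N106419 D209621) (tt N106420 D209622) (tt N106421 D209623) (tt N105991 (iv7 F452652)))
theorem Q71325 : ∀ i, i < 71325 → P i := stepQ 71324 Q71324 (allL N71324 (tt N68854 F351699) (tt N103639 F442337) (tt N103637 F442328) (tt N106422 D209624) (tt N39363 (iv4 D136692)) (tt N106423 D209625) (tt N106424 D209626) (tt N103636 (iv7 F442332)))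
theorem Q71326 : ∀ i, i < 71326 → P i := stepQ 71325 Q71325 (allL N71325 (tt N104129 (iv1 F444332)) (tt N67649 (iv0 F359076)) (tt N104095 (iv2 F444149)) (tt N106420 (iv3 F454349)) (tt N104117 (iv4 F444260)) (tt N39363 (iv5 D136693)) (tt N67616 (iv6 F326904)) (tt N104128 (iv7 F444327)))
theorem Q71327 : ∀ i, i < 71327 → P i := stepQ 71326 Q71326 (allL N71326 (tt N106425 D209627) (tt N83084 (iv0 F407567)) (tt N105993 (iv2 F452659)) (tt N106421 (iv3 F454357)) (tt N106424 (iv4 F454370)) (tt N70399 F365864) (tt N39363 (iv6 D136694)) (tt N106426 D209628))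
theorem Q71328 : ∀ i, i < 71328 → P i := stepQ 71327 Q71327 (allL N71327 (tt N64021 F318989) (tt N39365 (iv0 D136695)) (tt N64589 F318990) (tt N65175 (iv3 F366497)) (tt N92274 (iv4 F396549)) (tt N48205 F318991) (tt N106427 D209629) (tt N64907 F318992))
theorem Q71329 : ∀ i, i < 71329 → P i := stepQ 71328 Q71328 (allL N71328 (tt N39365 (iv1 D136696)) (tt N64021 F318993) (tt N64907 F318994) (tt N68271 (iv3 F366495)) (tt N92275 (iv4 F396553)) (tt N48204 F318995) (tt N106428 D209630) (tt N64589 F318996))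
theorem Q71330 : ∀ i, i < 71330 → P i := stepQ 71329 Q71329 (allL N71329 (tt N71100 F219830) (tt N39409 (iv0 F219831)) (tt N39846 F219827) (tt N60314 F219828) (tt N48373 F336484) (tt N39367 (iv5 D136699)) (tt N69422 F219829) (tt N71330 (iv7 F219835)))
theorem Q71331 : ∀ i, i < 71331 → P i := stepQ 71330 Q71330 (allL N71330 (tt N39382 (iv1 F219836)) (tt N68065 F219837) (tt N71023 F219832) (tt N60349 F219833) (tt N74244 (iv4 F227084)) (tt N39388 F219834) (tt N39368 (iv6 D136700)) (tt N71329 F219835))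
theorem Q71332 : ∀ i, i < 71332 → P i := stepQ 71331 Q71331 (allL N71331 (tt N66281 (iv1 F219842)) (tt N39371 (iv0 D136701)) (tt N66280 F338736) (tt N57125 F219841) (tt N106429 D209631) (tt N39378 F338737) (tt N39380 F338738) (tt N66279 F336112))
theorem Q71333 : ∀ i, i < 71333 → P i := stepQ 71332 Q71332 (allL N71332 (tt N39371 (iv1 D136702)) (tt N66281 F219846) (tt N66279 (iv2 F338734)) (tt N106430 D209632) (tt N106431 D209633) (tt N66257 F338729) (tt N78364 (iv6 F350971)) (tt N66280 (iv7 F338735)))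
theorem Q71334 : ∀ i, i < 71334 → P i := stepQ 71333 Q71333 (allL N71333 (tt N79451 F359090) (tt N105349 (iv0 F449825)) (tt N73424 (iv2 F363878)) (tt N39372 F219848) (tt N74264 (iv4 F227194)) (tt N46927 F338740) (tt N39371 (iv6 D136704)) (tt N104862 (iv7 F447678)))
theorem Q71335 : ∀ i, i < 71335 → P i := stepQ 71334 Q71334 (allL N71334 (tt N106430 F454401) (tt N86354 (iv0 F375914)) (tt N95927 (iv2 F410299)) (tt N39373 (iv3 D136706)) (tt N66345 F219851) (tt N60589 F219850) (tt N43858 F352356) (tt N71605 (iv7 F220263)))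
theorem Q71336 : ∀ i, i < 71336 → P i := stepQ 71335 Q71335 (allL N71335 (tt N96127 (iv1 F411175)) (tt N95516 (iv0 F408436)) (tt N71608 (iv2 F220275)) (tt N106432 D209634) (tt N39373 (iv4 D136707)) (tt N72000 (iv5 F221203)) (tt N106433 D209635) (tt N71606 (iv7 F220270)))
theorem Q71337 : ∀ i, i < 71337 → P i := stepQ 71336 Q71336 (allL N71336 (tt N90561 F390111) (tt N74245 F352357) (tt N71609 (iv2 F220280)) (tt N43858 F352358) (tt N106433 (iv4 F454411)) (tt N43857 F352359) (tt N39373 (iv6 D136708)) (tt N106434 D209636))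
theorem Q71338 : ∀ i, i < 71338 → P i := stepQ 71337 Q71337 (allL N71337 (tt N81541 (iv1 F357882)) (tt N80649 (iv0 F357877)) (tt N71607 (iv2 F220273)) (tt N47970 F354153) (tt N97935 (iv4 F418858)) (tt N47969 F354154) (tt N39374 (iv6 D136710)) (tt N81540 (iv7 F354151)))
theorem Q71339 : ∀ i, i < 71339 → P i := stepQ 71338 Q71338 (allL N71338 (tt N60776 (iv1 F219857)) (tt N55698 F219856) (tt N39376 F219852) (tt N66482 F219853) (tt N50279 F219854) (tt N39375 (iv5 D136711)) (tt N106435 D209637) (tt N60783 F219855))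
theorem Q71340 : ∀ i, i < 71340 → P i := stepQ 71339 Q71339 (allL N71339 (tt N39376 (iv1 D136713)) (tt N60783 F219860) (tt N55698 (iv2 F219864)) (tt N101833 (iv3 F434570)) (tt N55697 F219863) (tt N39600 F219862) (tt N103805 (iv6 F442895)) (tt N60776 F219861))
theorem Q71341 : ∀ i, i < 71341 → P i := stepQ 71340 Q71340 (allL N71340 (tt N105713 F451380) (tt N83637 (iv0 F288118)) (tt N106435 (iv2 F454418)) (tt N39378 F219865) (tt N83632 F288115) (tt N57125 (iv5 F336045)) (tt N39376 (iv6 D136714)) (tt N72091 (iv7 F336102)))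
theorem Q71342 : ∀ i, i < 71342 → P i := stepQ 71341 Q71341 (allL N71341 (tt N89206 F385590) (tt N39377 (iv0 D136715)) (tt N81126 F343447) (tt N48945 F343448) (tt N100267 (iv4 F428173)) (tt N80803 F343449) (tt N80380 F343450) (tt N90195 (iv7 F388846)))
theorem Q71343 : ∀ i, i < 71343 → P i := stepQ 71342 Q71342 (allL N71342 (tt N39377 (iv1 D136716)) (tt N89206 F385591) (tt N90195 (iv2 F388844)) (tt N76155 (iv3 F362970)) (tt N100268 (iv4 F428179)) (tt N77751 (iv5 F362971)) (tt N90558 (iv6 F390100)) (tt N81126 F362969))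
theorem Q71344 : ∀ i, i < 71344 → P i := stepQ 71343 Q71343 (allL N71343 (tt N72133 (iv1 F221428)) (tt N74244 F247414) (tt N45783 F323016) (tt N77777 F353969) (tt N62592 F219882) (tt N47784 F323017) (tt N39379 (iv6 D136725)) (tt N82491 (iv7 F338786)))
theorem Q71345 : ∀ i, i < 71345 → P i := stepQ 71344 Q71344 (allL N71344 (tt N102727 (iv1 F438382)) (tt N102729 (iv0 F438388)) (tt N71366 (iv2 F219968)) (tt N106436 D209638) (tt N39380 (iv4 D136728)) (tt N106437 D209639) (tt N106429 (iv6 F454391)) (tt N77776 (iv7 F365106)))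
theorem Q71346 : ∀ i, i < 71346 → P i := stepQ 71345 Q71345 (allL N71345 (tt N71080 F219889) (tt N70019 (iv0 F219890)) (tt N71372 (iv2 F219983)) (tt N40575 F219886) (tt N102734 (iv4 F438410)) (tt N68224 F219888) (tt N39383 (iv6 D136730)) (tt N40570 F219887))
theorem Q71347 : ∀ i, i < 71347 → P i := stepQ 71346 Q71346 (allL N71346 (tt N71016 (iv1 F362716)) (tt N67976 (iv0 F362715)) (tt N66319 F219891) (tt N67939 F336032) (tt N39473 F219892) (tt N101680 (iv5 F433837)) (tt N39386 (iv6 D136731)) (tt N67958 (iv7 F342179)))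
theorem Q71348 : ∀ i, i < 71348 → P i := stepQ 71347 Q71347 (allL N71347 (tt N39389 (iv1 D136733)) (tt N71576 F220246) (tt N41280 (iv2 F220245)) (tt N99718 (iv3 F425893)) (tt N66354 (iv4 F219894)) (tt N103200 (iv5 F440539)) (tt N69454 F379194) (tt N71575 F220244))
theorem Q71349 : ∀ i, i < 71349 → P i := stepQ 71348 Q71348 (allL N71348 (tt N41098 (iv1 F219904)) (tt N41097 F219905) (tt N41180 F219901) (tt N49973 (iv3 F359400)) (tt N39391 F219902) (tt N49972 F345191) (tt N60548 F219903) (tt N39390 (iv7 D136737)))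
theorem Q71350 : ∀ i, i < 71350 → P i := stepQ 71349 Q71349 (allL N71349 (tt N65143 (iv1 F330919)) (tt N39392 (iv0 D136738)) (tt N66299 F219916) (tt N40239 F219906) (tt N93319 (iv4 F400383)) (tt N62398 (iv5 F336043)) (tt N40491 F322684) (tt N66298 (iv7 F219908)))
theorem Q71351 : ∀ i, i < 71351 → P i := stepQ 71350 Q71350 (allL N71350 (tt N39392 (iv1 D136739)) (tt N65143 (iv0 F330918)) (tt N66298 (iv2 F219914)) (tt N71463 (iv3 F223082)) (tt N93331 (iv4 F400438)) (tt N73414 (iv5 F361997)) (tt N76154 (iv6 F337553)) (tt N66299 (iv7 F219915)))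
theorem Q71352 : ∀ i, i < 71352 → P i := stepQ 71351 Q71351 (allL N71351 (tt N81147 (iv1 F346557)) (tt N81146 F346555) (tt N81148 F346553) (tt N39393 F219919) (tt N56900 F219920) (tt N80537 F346556) (tt N39392 (iv6 D136741)) (tt N80536 (iv7 F346554)))
theorem Q71353 : ∀ i, i < 71353 → P i := stepQ 71352 Q71352 (allL N71352 (tt N94093 (iv1 F403176)) (tt N74354 (iv0 F331699)) (tt N66296 F219921) (tt N80537 (iv3 F346561)) (tt N80477 (iv4 F344131)) (tt N39393 (iv5 D136742)) (tt N100664 (iv6 F429906)) (tt N80533 F346275))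
theorem Q71354 : ∀ i, i < 71354 → P i := stepQ 71353 Q71353 (allL N71353 (tt N66289 (iv1 F219925)) (tt N42127 F332103) (tt N66297 F219922) (tt N80536 F346274) (tt N39396 F219923) (tt N80533 (iv5 F346273)) (tt N57353 F219924) (tt N39393 (iv7 D136743)))
theorem Q71355 : ∀ i, i < 71355 → P i := stepQ 71354 Q71354 (allL N71354 (tt N71157 F219931) (tt N60405 (iv0 F219932)) (tt N60376 F219927) (tt N58526 F219928) (tt N45915 F327660) (tt N39394 (iv5 D136744)) (tt N57891 F219929) (tt N45910 F327661))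
theorem Q71356 : ∀ i, i < 71356 → P i := stepQ 71355 Q71355 (allL N71355 (tt N66292 (iv1 F219934)) (tt N39397 (iv0 D136745)) (tt N66291 (iv2 F367021)) (tt N66322 (iv3 F347032)) (tt N106438 D209640) (tt N66313 F347031) (tt N66316 (iv6 F347033)) (tt N66290 (iv7 F367023)))
theorem Q71357 : ∀ i, i < 71357 → P i := stepQ 71356 Q71356 (allL N71356 (tt N39397 (iv1 D136746)) (tt N66292 F219939) (tt N66290 F367024) (tt N91405 (iv3 F393005)) (tt N72966 (iv4 F223666)) (tt N104808 (iv5 F447393)) (tt N106439 D209641) (tt N66291 F367022))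
theorem Q71358 : ∀ i, i < 71358 → P i := stepQ 71357 Q71357 (allL N71357 (tt N66291 (iv1 F219940)) (tt N66290 F219938) (tt N39397 (iv2 D136747)) (tt N65143 (iv3 F330921)) (tt N62180 F219936) (tt N69542 (iv5 F361154)) (tt N63545 (iv6 F330965)) (tt N66292 F219937))
theorem Q71359 : ∀ i, i < 71359 → P i := stepQ 71358 Q71358 (allL N71358 (tt N39398 (iv1 D136749)) (tt N57353 F219943) (tt N57355 (iv2 F219946)) (tt N100360 (iv3 F428588)) (tt N44482 F219945) (tt N80746 (iv5 F348183)) (tt N57344 (iv6 F219947)) (tt N57307 F219944))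
theorem Q71360 : ∀ i, i < 71360 → P i := stepQ 71359 Q71359 (allL N71359 (tt N57355 (iv1 F219952)) (tt N57307 F219953) (tt N57353 F219949) (tt N63543 F341404) (tt N39400 F219950) (tt N54120 (iv5 F332362)) (tt N66297 F219951) (tt N39398 (iv7 D136751)))
theorem Q71361 : ∀ i, i < 71361 → P i := stepQ 71360 Q71360 (allL N71360 (tt N72748 (iv1 F350877)) (tt N103749 F442663) (tt N69056 (iv2 F359754)) (tt N39401 (iv3 D136753)) (tt N94923 (iv4 F406356)) (tt N68974 (iv5 F350864)) (tt N97063 (iv6 F415278)) (tt N68973 F350865))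
theorem Q71362 : ∀ i, i < 71362 → P i := stepQ 71361 Q71361 (allL N71361 (tt N55043 (iv1 F367020)) (tt N52640 F367009) (tt N55041 (iv2 F367011)) (tt N106440 D209642) (tt N39401 (iv4 D136754)) (tt N106441 D209643) (tt N106442 D209644) (tt N55042 (iv7 F367019)))
theorem Q71363 : ∀ i, i < 71363 → P i := stepQ 71362 Q71362 (allL N71362 (tt N66450 (iv1 F333078)) (tt N66245 F333079) (tt N66456 (iv2 F333071)) (tt N68974 F350863) (tt N106443 D209645) (tt N39401 (iv5 D136755)) (tt N77343 (iv6 F347133)) (tt N66455 F333076))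
theorem Q71364 : ∀ i, i < 71364 → P i := stepQ 71363 Q71363 (allL N71363 (tt N67002 (iv1 F347139)) (tt N67001 F347141) (tt N67004 (iv2 F347136)) (tt N97063 (iv3 F415280)) (tt N106442 (iv4 F454459)) (tt N64714 F347134) (tt N39401 (iv6 D136756)) (tt N64713 (iv7 F347137)))
theorem Q71365 : ∀ i, i < 71365 → P i := stepQ 71364 Q71364 (allL N71364 (tt N52640 (iv1 F367008)) (tt N55043 (iv0 F367007)) (tt N55042 (iv2 F367018)) (tt N57213 (iv3 F219956)) (tt N39402 (iv4 D136759)) (tt N106444 D209646) (tt N67031 F362964) (tt N55041 (iv7 F367014)))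
theorem Q71366 : ∀ i, i < 71366 → P i := stepQ 71365 Q71365 (allL N71365 (tt N66245 (iv1 F333080)) (tt N66450 (iv0 F226676)) (tt N66455 F333075) (tt N78624 F361872) (tt N104315 (iv4 F445200)) (tt N39402 (iv5 D136760)) (tt N65369 (iv6 F347131)) (tt N66456 (iv7 F333072)))
theorem Q71367 : ∀ i, i < 71367 → P i := stepQ 71366 Q71366 (allL N71366 (tt N106445 D209647) (tt N106446 D209648) (tt N71344 F219968) (tt N83183 (iv3 F365107)) (tt N39405 (iv4 D136769)) (tt N106447 D209649) (tt N102678 (iv6 F438172)) (tt N83181 F365105))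
theorem Q71368 : ∀ i, i < 71368 → P i := stepQ 71367 Q71367 (allL N71367 (tt N44062 F349895) (tt N76154 F349896) (tt N76153 (iv2 F346534)) (tt N39407 (iv3 D136771)) (tt N56930 F219973) (tt N67115 (iv5 F349893)) (tt N101198 (iv6 F432149)) (tt N66326 F219974))
theorem Q71369 : ∀ i, i < 71369 → P i := stepQ 71368 Q71368 (allL N71368 (tt N92379 (iv1 F396878)) (tt N55006 F354578) (tt N66325 F219975) (tt N67115 (iv3 F349892)) (tt N106448 D209650) (tt N39407 (iv5 D136772)) (tt N106449 D209651) (tt N66327 F219976))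
theorem Q71370 : ∀ i, i < 71370 → P i := stepQ 71369 Q71369 (allL N71369 (tt N66316 F349889) (tt N90200 (iv0 F388869)) (tt N91403 (iv2 F393000)) (tt N39408 (iv3 D136773)) (tt N62211 F219977) (tt N58775 (iv5 F349887)) (tt N58778 F349888) (tt N66324 F219978))
theorem Q71371 : ∀ i, i < 71371 → P i := stepQ 71370 Q71370 (allL N71370 (tt N55006 F354576) (tt N92379 (iv0 F396877)) (tt N66327 F219979) (tt N58775 F349884) (tt N106450 D209652) (tt N39408 (iv5 D136774)) (tt N58773 (iv6 F349878)) (tt N66325 F219980))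
theorem Q71372 : ∀ i, i < 71372 → P i := stepQ 71371 Q71371 (allL N71371 (tt N94113 (iv1 F403273)) (tt N74250 (iv0 F227098)) (tt N66328 F219981) (tt N58778 (iv3 F349877)) (tt N39409 F219982) (tt N58774 F349875) (tt N39408 (iv6 D136775)) (tt N102850 (iv7 F438940)))
theorem Q71373 : ∀ i, i < 71373 → P i := stepQ 71372 Q71372 (allL N71372 (tt N62161 F219987) (tt N73304 F224330) (tt N71345 F219983) (tt N56936 F219984) (tt N94322 (iv4 F404027)) (tt N69354 F219986) (tt N39410 (iv6 D136776)) (tt N61957 F219985))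
theorem Q71374 : ∀ i, i < 71374 → P i := stepQ 71373 Q71373 (allL N71373 (tt N106451 D209653) (tt N92500 (iv0 F397181)) (tt N106452 D209654) (tt N39412 (iv3 D136777)) (tt N56844 F219988) (tt N106453 D209655) (tt N39415 F219989) (tt N106454 D209656))
theorem Q71375 : ∀ i, i < 71375 → P i := stepQ 71374 Q71374 (allL N71374 (tt N74360 (iv1 F227544)) (tt N62591 F219991) (tt N57604 F219990) (tt N106453 (iv3 F454516)) (tt N106455 D209657) (tt N39412 (iv5 D136778)) (tt N106456 D209658) (tt N74364 F227561))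
theorem Q71376 : ∀ i, i < 71376 → P i := stepQ 71375 Q71375 (allL N71375 (tt N57594 (iv1 F219995)) (tt N41298 F219996) (tt N57605 F219992) (tt N106454 (iv3 F454517)) (tt N39413 F219993) (tt N74364 (iv5 F227560)) (tt N57602 F219994) (tt N39412 (iv7 D136779)))
theorem Q71377 : ∀ i, i < 71377 → P i := stepQ 71376 Q71376 (allL N71376 (tt N106457 D209659) (tt N106458 D209660) (tt N106459 D209661) (tt N39414 (iv3 D136780)) (tt N39862 F219997) (tt N94293 (iv5 F403973)) (tt N64655 F365422) (tt N57530 F219998))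
theorem Q71378 : ∀ i, i < 71378 → P i := stepQ 71377 Q71377 (allL N71377 (tt N57597 (iv1 F219999)) (tt N39415 (iv0 D136781)) (tt N57596 F397088) (tt N92468 (iv3 F397082)) (tt N106460 D209662) (tt N92464 F397083) (tt N57035 F397084) (tt N57595 F397085))
theorem Q71379 : ∀ i, i < 71379 → P i := stepQ 71378 Q71378 (allL N71378 (tt N39415 (iv1 D136782)) (tt N57597 F220004) (tt N57595 (iv2 F397087)) (tt N106461 D209663) (tt N96018 (iv4 F410654)) (tt N93391 (iv5 F400625)) (tt N106462 D209664) (tt N57596 (iv7 F397091)))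
theorem Q71380 : ∀ i, i < 71380 → P i := stepQ 71379 Q71379 (allL N71379 (tt N57596 (iv1 F220006)) (tt N57595 F220003) (tt N39415 (iv2 D136783)) (tt N39416 F220000) (tt N56842 F220001) (tt N39415 (iv5 F220005)) (tt N106452 (iv6 F454515)) (tt N57597 F220002))
theorem Q71381 : ∀ i, i < 71381 → P i := stepQ 71380 Q71380 (allL N71380 (tt N106463 D209665) (tt N106464 D209666) (tt N57603 F220007) (tt N106452 (iv3 F454513)) (tt N71551 (iv4 F220168)) (tt N106456 (iv5 F454526)) (tt N39416 (iv6 D136784)) (tt N106465 D209667))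
theorem Q71382 : ∀ i, i < 71382 → P i := stepQ 71381 Q71381 (allL N71381 (tt N102671 F438150) (tt N106432 (iv0 F454409)) (tt N72526 (iv2 F360382)) (tt N39417 (iv3 D136786)) (tt N62264 F220009) (tt N102845 (iv5 F438909)) (tt N106466 D209668) (tt N72528 F350337))
theorem Q71383 : ∀ i, i < 71383 → P i := stepQ 71382 Q71382 (allL N71382 (tt N71470 F220083) (tt N98775 (iv0 F422270)) (tt N98882 F422687) (tt N99002 F423003) (tt N39417 (iv4 D136787)) (tt N99482 (iv5 F424784)) (tt N106467 D209669) (tt N98916 (iv7 F422773)))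
theorem Q71384 : ∀ i, i < 71384 → P i := stepQ 71383 Q71383 (allL N71383 (tt N72246 F360369) (tt N39577 F360370) (tt N73242 F360371) (tt N106466 (iv3 F454567)) (tt N106467 (iv4 F454573)) (tt N41062 F360372) (tt N39417 (iv6 D136789)) (tt N73243 F360373))
theorem Q71385 : ∀ i, i < 71385 → P i := stepQ 71384 Q71384 (allL N71384 (tt N105994 (iv1 F452669)) (tt N102749 F438482) (tt N106468 D209670) (tt N39418 (iv3 D136791)) (tt N71621 (iv4 F220321)) (tt N88672 F383812) (tt N54658 F372068) (tt N105996 (iv7 F452679)))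
theorem Q71386 : ∀ i, i < 71386 → P i := stepQ 71385 Q71385 (allL N71385 (tt N98775 (iv1 F422275)) (tt N71470 F400312) (tt N98916 F422772) (tt N74079 (iv3 F226782)) (tt N39418 (iv4 D136792)) (tt N99479 (iv5 F424769)) (tt N106469 D209671) (tt N98882 (iv7 F422685)))
theorem Q71387 : ∀ i, i < 71387 → P i := stepQ 71386 Q71386 (allL N71386 (tt N39489 F350342) (tt N100186 F427903) (tt N100185 (iv2 F427897)) (tt N54658 (iv3 F372066)) (tt N106469 (iv4 F454586)) (tt N105301 (iv5 F449626)) (tt N39418 (iv6 D136794)) (tt N100184 F427891))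
theorem Q71388 : ∀ i, i < 71388 → P i := stepQ 71387 Q71387 (allL N71387 (tt N101607 F433526) (tt N101636 F433643) (tt N39420 F220012) (tt N95511 (iv3 F408419)) (tt N98858 (iv4 F422601)) (tt N70376 F365139) (tt N39419 (iv6 D136796)) (tt N101635 (iv7 F433637)))
theorem Q71389 : ∀ i, i < 71389 → P i := stepQ 71388 Q71388 (allL N71388 (tt N39420 (iv1 D136802)) (tt N101635 F433638) (tt N101636 (iv2 F433639)) (tt N106470 D209672) (tt N106471 D209673) (tt N101849 (iv5 F434653)) (tt N101112 (iv6 F431738)) (tt N101607 (iv7 F433525)))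
theorem Q71390 : ∀ i, i < 71390 → P i := stepQ 71389 Q71389 (allL N71389 (tt N101636 (iv1 F433644)) (tt N101607 (iv0 F433527)) (tt N101635 F433636) (tt N39424 F220015) (tt N98862 (iv4 F422605)) (tt N104847 (iv5 F447585)) (tt N105816 (iv6 F451854)) (tt N39420 (iv7 D136804)))
theorem Q71391 : ∀ i, i < 71391 → P i := stepQ 71390 Q71390 (allL N71390 (tt N106472 D209674) (tt N102752 (iv0 F438490)) (tt N106473 D209675) (tt N39421 (iv3 D136809)) (tt N97102 (iv4 F415479)) (tt N106474 D209676) (tt N100029 (iv6 F427283)) (tt N95508 (iv7 F408411)))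
theorem Q71392 : ∀ i, i < 71392 → P i := stepQ 71391 Q71391 (allL N71391 (tt N78162 (iv1 F246403)) (tt N105957 (iv0 F452504)) (tt N95506 (iv2 F408397)) (tt N106474 (iv3 F454595)) (tt N106475 D209677) (tt N39421 (iv5 D136810)) (tt N48177 F337822) (tt N95509 (iv7 F408414)))
theorem Q71393 : ∀ i, i < 71393 → P i := stepQ 71392 Q71392 (allL N71392 (tt N102670 F438148) (tt N106476 D209678) (tt N106477 D209679) (tt N39422 (iv3 D136812)) (tt N99300 (iv4 F423991)) (tt N82901 (iv5 F426546)) (tt N99853 F426544) (tt N95505 (iv7 F408394)))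
theorem Q71394 : ∀ i, i < 71394 → P i := stepQ 71393 Q71393 (allL N71393 (tt N105957 (iv1 F452505)) (tt N78162 (iv0 F246404)) (tt N95509 (iv2 F408412)) (tt N82901 F426547) (tt N106478 D209680) (tt N39422 (iv5 D136813)) (tt N99855 (iv6 F426560)) (tt N95506 (iv7 F408399)))
theorem Q71395 : ∀ i, i < 71395 → P i := stepQ 71394 Q71394 (allL N71394 (tt N71243 (iv1 F220022)) (tt N39423 (iv0 D136814)) (tt N71245 (iv2 F220020)) (tt N106479 D209681) (tt N106480 D209682) (tt N70858 F220019) (tt N106481 D209683) (tt N70857 F220021))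
theorem Q71396 : ∀ i, i < 71396 → P i := stepQ 71395 Q71395 (allL N71395 (tt N106482 D209684) (tt N71193 F220023) (tt N95514 (iv2 F408426)) (tt N105361 F449887) (tt N39423 (iv4 D136815)) (tt N81179 (iv5 F365448)) (tt N103591 (iv6 F442163)) (tt N95498 (iv7 F408367)))
theorem Q71397 : ∀ i, i < 71397 → P i := stepQ 71396 Q71396 (allL N71396 (tt N70857 (iv1 F220026)) (tt N71245 F220027) (tt N71243 F220024) (tt N104847 (iv3 F447583)) (tt N95498 (iv4 F408368)) (tt N39424 F220025) (tt N106483 D209685) (tt N39423 (iv7 D136816)))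
theorem Q71398 : ∀ i, i < 71398 → P i := stepQ 71397 Q71397 (allL N71397 (tt N105952 (iv1 F452481)) (tt N105954 (iv0 F452486)) (tt N95502 (iv2 F408379)) (tt N51186 F365827) (tt N94546 (iv4 F404919)) (tt N39426 (iv5 D136818)) (tt N90433 F389640) (tt N86325 (iv7 F375831)))
theorem Q71399 : ∀ i, i < 71399 → P i := stepQ 71398 Q71398 (allL N71398 (tt N39456 F360694) (tt N90563 F390120) (tt N90564 (iv2 F390121)) (tt N39427 (iv3 D136819)) (tt N74245 (iv4 F227085)) (tt N106484 D209686) (tt N62938 F360695) (tt N90557 F390095))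
theorem Q71400 : ∀ i, i < 71400 → P i := stepQ 71399 Q71399 (allL N71399 (tt N105954 (iv1 F452487)) (tt N105952 (iv0 F452480)) (tt N86325 (iv2 F375833)) (tt N106484 (iv3 F454629)) (tt N106485 D209687) (tt N39427 (iv5 D136820)) (tt N62941 (iv6 F365687)) (tt N95502 (iv7 F408381)))
theorem Q71401 : ∀ i, i < 71401 → P i := stepQ 71400 Q71400 (allL N71400 (tt N71606 (iv1 F220272)) (tt N71608 (iv0 F220278)) (tt N96127 (iv2 F411171)) (tt N39429 (iv3 D136822)) (tt N54319 (iv4 F322563)) (tt N39792 F220028) (tt N54318 F353387) (tt N95516 (iv7 F408435)))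
theorem Q71402 : ∀ i, i < 71402 → P i := stepQ 71401 Q71401 (allL N71401 (tt N82226 F341143) (tt N100230 (iv0 F428080)) (tt N39432 F220029) (tt N105815 (iv3 F451850)) (tt N40203 F220030) (tt N106486 D209688) (tt N39430 (iv6 D136824)) (tt N106217 (iv7 F453611)))
theorem Q71403 : ∀ i, i < 71403 → P i := stepQ 71402 Q71402 (allL N71402 (tt N73843 F225957) (tt N73797 (iv0 F225844)) (tt N71985 (iv2 F221165)) (tt N102680 (iv3 F438177)) (tt N39431 (iv4 D136827)) (tt N106487 D209689) (tt N106488 D209690) (tt N71927 (iv7 F220978)))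
theorem Q71404 : ∀ i, i < 71404 → P i := stepQ 71403 Q71403 (allL N71403 (tt N105451 (iv1 F450321)) (tt N85041 (iv0 F371444)) (tt N71986 (iv2 F221168)) (tt N39433 F220031) (tt N106488 (iv4 F454645)) (tt N106489 D209691) (tt N39431 (iv6 D136828)) (tt N105450 (iv7 F450317)))
theorem Q71405 : ∀ i, i < 71405 → P i := stepQ 71404 Q71404 (allL N71404 (tt N106217 (iv1 F453612)) (tt N39432 (iv0 D136829)) (tt N82226 (iv2 F366631)) (tt N106490 D209692) (tt N56127 F366632) (tt N106491 D209693) (tt N69538 F220977) (tt N100230 (iv7 F428079)))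
theorem Q71406 : ∀ i, i < 71406 → P i := stepQ 71405 Q71405 (allL N71405 (tt N39432 (iv1 D136830)) (tt N106217 F453613) (tt N100230 (iv2 F428076)) (tt N106492 D209694) (tt N75959 (iv4 F366628)) (tt N106493 D209695) (tt N76146 F366629) (tt N82226 F366630))
theorem Q71407 : ∀ i, i < 71407 → P i := stepQ 71406 Q71406 (allL N71406 (tt N106494 D209696) (tt N100965 (iv0 F440453)) (tt N106486 (iv2 F454634)) (tt N39436 F220032) (tt N106495 D209697) (tt N39432 (iv5 D136831)) (tt N106489 (iv6 F454652)) (tt N106218 (iv7 F453615)))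
theorem Q71408 : ∀ i, i < 71408 → P i := stepQ 71407 Q71407 (allL N71407 (tt N68218 (iv1 F326705)) (tt N39433 (iv0 D136832)) (tt N71924 F397623) (tt N77232 F364103) (tt N102696 (iv4 F438231)) (tt N100053 (iv5 F427375)) (tt N64597 (iv6 F364102)) (tt N71925 (iv7 F397624)))
theorem Q71409 : ∀ i, i < 71409 → P i := stepQ 71408 Q71408 (allL N71408 (tt N39433 (iv1 D136833)) (tt N68218 (iv0 F326704)) (tt N71925 (iv2 F397626)) (tt N106496 D209698) (tt N76771 F371528) (tt N106497 D209699) (tt N76770 (iv6 F371529)) (tt N71924 F397625))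
theorem Q71410 : ∀ i, i < 71410 → P i := stepQ 71409 Q71409 (allL N71409 (tt N103912 (iv1 F443339)) (tt N105272 F449494) (tt N71926 (iv2 F220954)) (tt N106489 (iv3 F454651)) (tt N68397 F352111) (tt N39433 (iv5 D136834)) (tt N39436 F220033) (tt N105271 (iv7 F449490)))
theorem Q71411 : ∀ i, i < 71411 → P i := stepQ 71410 Q71410 (allL N71410 (tt N71925 (iv1 F220953)) (tt N71924 F220958) (tt N68218 (iv2 F326706)) (tt N105450 (iv3 F450315)) (tt N68229 F334127) (tt N105271 (iv5 F449486)) (tt N68216 (iv6 F327503)) (tt N39433 (iv7 D136835)))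
theorem Q71412 : ∀ i, i < 71412 → P i := stepQ 71411 Q71411 (allL N71411 (tt N106498 D209700) (tt N102672 (iv0 F438152)) (tt N106499 D209701) (tt N39434 (iv3 D136836)) (tt N70219 F220034) (tt N82728 (iv5 F352697)) (tt N69537 F220035) (tt N82727 F352694))
theorem Q71413 : ∀ i, i < 71413 → P i := stepQ 71412 Q71412 (allL N71412 (tt N106066 (iv1 F452970)) (tt N106294 (iv0 F453917)) (tt N101913 (iv2 F434922)) (tt N82728 F352698) (tt N106500 D209702) (tt N39434 (iv5 D136837)) (tt N105990 (iv6 F452648)) (tt N82716 (iv7 F352699)))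
theorem Q71414 : ∀ i, i < 71414 → P i := stepQ 71413 Q71413 (allL N71413 (tt N102751 F438489) (tt N106501 D209703) (tt N106502 D209704) (tt N39435 (iv3 D136838)) (tt N106503 D209705) (tt N106504 D209706) (tt N53508 (iv6 F365611)) (tt N101912 (iv7 F434920)))
theorem Q71415 : ∀ i, i < 71415 → P i := stepQ 71414 Q71414 (allL N71414 (tt N106294 (iv1 F453918)) (tt N106066 (iv0 F452969)) (tt N82716 (iv2 F352701)) (tt N106504 (iv3 F454687)) (tt N106505 D209707) (tt N39435 (iv5 D136839)) (tt N82711 (iv6 F335589)) (tt N101913 (iv7 F434925)))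
theorem Q71416 : ∀ i, i < 71416 → P i := stepQ 71415 Q71415 (allL N71415 (tt N105819 (iv1 F451875)) (tt N39436 (iv0 D136840)) (tt N105817 F451857) (tt N106506 D209708) (tt N88546 F451209) (tt N71814 F399183) (tt N88545 (iv6 F451210)) (tt N72124 (iv7 F399186)))
theorem Q71417 : ∀ i, i < 71417 → P i := stepQ 71416 Q71416 (allL N71416 (tt N39436 (iv1 D136841)) (tt N105819 F451874) (tt N72124 (iv2 F221387)) (tt N100052 F427378) (tt N106507 D209709) (tt N71019 (iv5 F220036)) (tt N100027 (iv6 F427271)) (tt N105817 (iv7 F451860)))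
theorem Q71418 : ∀ i, i < 71418 → P i := stepQ 71417 Q71417 (allL N71417 (tt N106508 D209710) (tt N106509 D209711) (tt N105818 (iv2 F451865)) (tt N106510 D209712) (tt N39436 (iv4 D136842)) (tt N68395 F352114) (tt N68397 (iv6 F352113)) (tt N105808 (iv7 F451824)))
theorem Q71419 : ∀ i, i < 71419 → P i := stepQ 71418 Q71418 (allL N71418 (tt N39457 F365679) (tt N69834 F365680) (tt N98853 (iv2 F422566)) (tt N39437 (iv3 D136844)) (tt N93488 (iv4 F400892)) (tt N93278 (iv5 F400270)) (tt N96247 F411730) (tt N98855 (iv7 F422586)))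
theorem Q71420 : ∀ i, i < 71420 → P i := stepQ 71419 Q71419 (allL N71419 (tt N96055 (iv1 F410835)) (tt N57224 (iv0 F228376)) (tt N74580 F359142) (tt N74592 F228403) (tt N39437 (iv4 D136845)) (tt N59031 F220038) (tt N106511 D209713) (tt N96054 (iv7 F410831)))
theorem Q71421 : ∀ i, i < 71421 → P i := stepQ 71420 Q71420 (allL N71420 (tt N95855 (iv1 F409967)) (tt N39470 F220495) (tt N95857 F409979) (tt N93278 F400272) (tt N106512 D209714) (tt N39437 (iv5 D136846)) (tt N106513 D209715) (tt N95856 F409974))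
theorem Q71422 : ∀ i, i < 71422 → P i := stepQ 71421 Q71421 (allL N71421 (tt N106049 F453660) (tt N39567 F453661) (tt N106006 (iv2 F452717)) (tt N96247 (iv3 F411731)) (tt N106511 (iv4 F454716)) (tt N106514 D209716) (tt N39437 (iv6 D136847)) (tt N106048 (iv7 F452896)))
theorem Q71423 : ∀ i, i < 71423 → P i := stepQ 71422 Q71422 (allL N71422 (tt N73123 F401347) (tt N39542 F401348) (tt N90391 (iv2 F422574)) (tt N39438 (iv3 D136849)) (tt N106515 D209717) (tt N97506 (iv5 F417148)) (tt N90230 F417152) (tt N106005 (iv7 F452714)))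
theorem Q71424 : ∀ i, i < 71424 → P i := stepQ 71423 Q71423 (allL N71423 (tt N57224 F336151) (tt N96055 F410836) (tt N96054 F410829) (tt N56907 F220041) (tt N39438 (iv4 D136850)) (tt N57132 F220040) (tt N106516 D209718) (tt N74580 (iv7 F359130)))
theorem Q71425 : ∀ i, i < 71425 → P i := stepQ 71424 Q71424 (allL N71424 (tt N39470 F220043) (tt N95855 (iv0 F409966)) (tt N95856 F409973) (tt N97506 (iv3 F417151)) (tt N106517 D209719) (tt N39438 (iv5 D136851)) (tt N105211 F449221) (tt N95857 (iv7 F409977)))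
theorem Q71426 : ∀ i, i < 71426 → P i := stepQ 71425 Q71425 (allL N71425 (tt N39478 F409968) (tt N106019 F452766) (tt N106004 (iv2 F452708)) (tt N90230 (iv3 F417153)) (tt N106516 (iv4 F454739)) (tt N106518 D209720) (tt N39438 (iv6 D136852)) (tt N90387 (iv7 F422577)))
theorem Q71427 : ∀ i, i < 71427 → P i := stepQ 71426 Q71426 (allL N71426 (tt N90269 F389172) (tt N106519 D209721) (tt N39441 F220045) (tt N105999 (iv3 F452696)) (tt N74554 (iv4 F228354)) (tt N105499 (iv5 F450485)) (tt N39439 (iv6 D136854)) (tt N106520 D209722))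
theorem Q71428 : ∀ i, i < 71428 → P i := stepQ 71427 Q71427 (allL N71427 (tt N39440 (iv1 D136856)) (tt N69830 (iv0 F330971)) (tt N69831 F336143) (tt N48640 F345450) (tt N106521 D209723) (tt N58898 (iv5 F220821)) (tt N48639 F345451) (tt N69826 (iv7 F336147)))
theorem Q71429 : ∀ i, i < 71429 → P i := stepQ 71428 Q71428 (allL N71428 (tt N97865 F418583) (tt N106522 D209724) (tt N105498 (iv2 F450478)) (tt N69009 (iv3 F330969)) (tt N39440 (iv4 D136857)) (tt N104531 (iv5 F446167)) (tt N69007 F365140) (tt N71792 (iv7 F220594)))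
theorem Q71430 : ∀ i, i < 71430 → P i := stepQ 71429 Q71429 (allL N71429 (tt N106520 (iv1 F454752)) (tt N39441 (iv0 D136859)) (tt N90269 (iv2 F389170)) (tt N106523 D209725) (tt N106524 D209726) (tt N106525 D209727) (tt N90267 F389168) (tt N106519 (iv7 F454746)))
theorem Q71431 : ∀ i, i < 71431 → P i := stepQ 71430 Q71430 (allL N71430 (tt N39441 (iv1 D136860)) (tt N106520 F454751) (tt N106519 (iv2 F454748)) (tt N86746 (iv3 F389174)) (tt N106526 D209728) (tt N86744 F389175) (tt N106176 (iv6 F453466)) (tt N90269 F389173))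
theorem Q71432 : ∀ i, i < 71432 → P i := stepQ 71431 Q71431 (allL N71431 (tt N106527 D209729) (tt N106528 D209730) (tt N105499 (iv2 F450484)) (tt N39443 F220047) (tt N106529 D209731) (tt N39441 (iv5 D136861)) (tt N70353 (iv6 F361062)) (tt N106530 D209732))
theorem Q71433 : ∀ i, i < 71433 → P i := stepQ 71432 Q71432 (allL N71432 (tt N106519 (iv1 F454745)) (tt N90269 F454749) (tt N106520 (iv2 F454750)) (tt N39444 F220048) (tt N74558 (iv4 F228357)) (tt N106530 (iv5 F454783)) (tt N90719 (iv6 F390632)) (tt N39441 (iv7 D136862)))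
theorem Q71434 : ∀ i, i < 71434 → P i := stepQ 71433 Q71433 (allL N71433 (tt N50589 F347401) (tt N70477 (iv0 F338471)) (tt N70487 (iv2 F330935)) (tt N70353 (iv3 F361061)) (tt N105604 (iv4 F450944)) (tt N39442 (iv5 D136865)) (tt N39443 F220049) (tt N70488 (iv7 F365163)))
theorem Q71435 : ∀ i, i < 71435 → P i := stepQ 71434 Q71434 (allL N71434 (tt N71192 (iv1 F220053)) (tt N39443 (iv0 D136867)) (tt N71194 (iv2 F220051)) (tt N90656 (iv3 F390421)) (tt N106482 (iv4 F454617)) (tt N70849 F220050) (tt N106531 D209733) (tt N70848 F220052))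
theorem Q71436 : ∀ i, i < 71436 → P i := stepQ 71435 Q71435 (allL N71435 (tt N106311 (iv1 F453982)) (tt N105972 (iv0 F452568)) (tt N106003 (iv2 F452705)) (tt N106532 D209734) (tt N39443 (iv4 D136868)) (tt N106533 D209735) (tt N105604 F450945) (tt N106309 (iv7 F453970)))
theorem Q71437 : ∀ i, i < 71437 → P i := stepQ 71436 Q71436 (allL N71436 (tt N70848 (iv1 F220056)) (tt N71194 F220057) (tt N71192 F220054) (tt N106530 (iv3 F454782)) (tt N106309 (iv4 F453971)) (tt N39444 F220055) (tt N106534 D209736) (tt N39443 (iv7 D136869)))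
theorem Q71438 : ∀ i, i < 71438 → P i := stepQ 71437 Q71437 (allL N71437 (tt N90019 F388314) (tt N95928 (iv0 F410304)) (tt N72498 (iv2 F222620)) (tt N62294 F220058) (tt N39445 (iv4 D136870)) (tt N89147 (iv5 F385339)) (tt N79104 (iv6 F349992)) (tt N72751 (iv7 F223157)))
theorem Q71439 : ∀ i, i < 71439 → P i := stepQ 71438 Q71438 (allL N71438 (tt N106014 (iv1 F452743)) (tt N39472 F408500) (tt N105998 (iv2 F452691)) (tt N95527 (iv3 F408495)) (tt N106535 D209737) (tt N39445 (iv5 D136871)) (tt N106536 D209738) (tt N105997 (iv7 F452686)))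
theorem Q71440 : ∀ i, i < 71440 → P i := stepQ 71439 Q71439 (allL N71439 (tt N106034 (iv1 F452825)) (tt N39453 F406656) (tt N95524 (iv2 F408478)) (tt N39446 (iv3 D136873)) (tt N92428 F406657) (tt N106537 D209739) (tt N106538 D209740) (tt N102856 (iv7 F438963)))
theorem Q71441 : ∀ i, i < 71441 → P i := stepQ 71440 Q71440 (allL N71440 (tt N95928 (iv1 F410305)) (tt N90019 (iv0 F388313)) (tt N72751 (iv2 F223155)) (tt N58128 (iv3 F220060)) (tt N39446 (iv4 D136874)) (tt N106358 (iv5 F454130)) (tt N89121 (iv6 F385242)) (tt N72498 (iv7 F222621)))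
theorem Q71442 : ∀ i, i < 71442 → P i := stepQ 71441 Q71441 (allL N71441 (tt N39472 F401849) (tt N106014 F452744) (tt N105997 (iv2 F452684)) (tt N106537 (iv3 F454801)) (tt N74973 (iv4 F395953)) (tt N39446 (iv5 D136875)) (tt N74972 F395952) (tt N105998 (iv7 F452692)))
theorem Q71443 : ∀ i, i < 71443 → P i := stepQ 71442 Q71442 (allL N71442 (tt N39563 F385245) (tt N99539 (iv0 F425047)) (tt N101109 F431713) (tt N106538 (iv3 F454810)) (tt N89121 F385246) (tt N77681 F385247) (tt N39446 (iv6 D136876)) (tt N89120 F385248))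
theorem Q71444 : ∀ i, i < 71444 → P i := stepQ 71443 Q71443 (allL N71443 (tt N71766 (iv1 F225848)) (tt N71763 (iv0 F225845)) (tt N39448 F220061) (tt N69830 (iv3 F330973)) (tt N106539 D209741) (tt N39447 (iv5 D136877)) (tt N106540 D209742) (tt N71798 (iv7 F220607)))
theorem Q71445 : ∀ i, i < 71445 → P i := stepQ 71444 Q71444 (allL N71444 (tt N106181 F453488) (tt N89187 (iv0 F385493)) (tt N39449 F220062) (tt N106007 (iv3 F452722)) (tt N99392 (iv4 F424397)) (tt N106541 D209743) (tt N39447 (iv6 D136878)) (tt N106207 (iv7 F453599)))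
theorem Q71446 : ∀ i, i < 71446 → P i := stepQ 71445 Q71445 (allL N71445 (tt N39448 (iv1 D136880)) (tt N71798 F220610) (tt N71763 (iv2 F220985)) (tt N73830 (iv3 F225934)) (tt N70624 (iv4 F347274)) (tt N70951 (iv5 F220986)) (tt N70623 F347285) (tt N71766 F220984))
theorem Q71447 : ∀ i, i < 71447 → P i := stepQ 71446 Q71446 (allL N71446 (tt N91079 (iv1 F391848)) (tt N102526 F437509) (tt N106539 (iv2 F454812)) (tt N102780 (iv3 F438611)) (tt N39448 (iv4 D136881)) (tt N106542 D209744) (tt N106543 D209745) (tt N71799 (iv7 F220611)))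
theorem Q71448 : ∀ i, i < 71448 → P i := stepQ 71447 Q71447 (allL N71447 (tt N106544 D209746) (tt N106545 D209747) (tt N106540 (iv2 F454816)) (tt N39451 F220063) (tt N106543 (iv4 F454824)) (tt N106546 D209748) (tt N39448 (iv6 D136882)) (tt N106547 D209749))
theorem Q71449 : ∀ i, i < 71449 → P i := stepQ 71448 Q71448 (allL N71448 (tt N106207 (iv1 F453600)) (tt N39449 (iv0 D136883)) (tt N106181 (iv2 F453487)) (tt N89192 F385515) (tt N106548 D209750) (tt N106549 D209751) (tt N104462 (iv6 F445870)) (tt N89187 (iv7 F385516)))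
theorem Q71450 : ∀ i, i < 71450 → P i := stepQ 71449 Q71449 (allL N71449 (tt N39449 (iv1 D136884)) (tt N106207 F453601) (tt N89187 F453490) (tt N106550 D209752) (tt N106551 D209753) (tt N106552 D209754) (tt N89185 (iv6 F453491)) (tt N106181 F453489))
theorem Q71451 : ∀ i, i < 71451 → P i := stepQ 71450 Q71450 (allL N71450 (tt N106553 D209755) (tt N106554 D209756) (tt N106541 (iv2 F454818)) (tt N39452 F220064) (tt N106555 D209757) (tt N39449 (iv5 D136885)) (tt N106546 (iv6 F454831)) (tt N106208 (iv7 F453603)))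
theorem Q71452 : ∀ i, i < 71452 → P i := stepQ 71451 Q71451 (allL N71451 (tt N71797 (iv1 F220603)) (tt N39451 (iv0 D136886)) (tt N71794 (iv2 F352090)) (tt N50917 (iv3 F348578)) (tt N68231 F348577) (tt N100075 F427446) (tt N100076 (iv6 F427449)) (tt N71795 (iv7 F352096)))
theorem Q71453 : ∀ i, i < 71453 → P i := stepQ 71452 Q71452 (allL N71452 (tt N39451 (iv1 D136887)) (tt N71797 F220602) (tt N71795 F352097) (tt N106556 D209758) (tt N68230 F352100) (tt N106557 D209759) (tt N76758 (iv6 F352104)) (tt N71794 F352095))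
theorem Q71454 : ∀ i, i < 71454 → P i := stepQ 71453 Q71453 (allL N71453 (tt N83696 (iv1 F367186)) (tt N105336 F449764) (tt N71796 (iv2 F220597)) (tt N106546 (iv3 F454830)) (tt N106558 D209760) (tt N39451 (iv5 D136888)) (tt N39452 F220065) (tt N105334 F449753))
theorem Q71455 : ∀ i, i < 71455 → P i := stepQ 71454 Q71454 (allL N71454 (tt N71795 (iv1 F220596)) (tt N71794 F220601) (tt N71797 (iv2 F220599)) (tt N106547 (iv3 F454833)) (tt N69549 F347094) (tt N105334 (iv5 F449752)) (tt N69548 (iv6 F330938)) (tt N39451 (iv7 D136889)))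
theorem Q71456 : ∀ i, i < 71456 → P i := stepQ 71455 Q71455 (allL N71455 (tt N90720 F390637) (tt N39452 (iv0 D136890)) (tt N105812 (iv2 F451837)) (tt N106559 D209761) (tt N106508 (iv4 F454705)) (tt N70455 F220066) (tt N106560 D209762) (tt N72135 (iv7 F221438)))
theorem Q71457 : ∀ i, i < 71457 → P i := stepQ 71456 Q71456 (allL N71456 (tt N39452 (iv1 D136891)) (tt N90720 (iv0 F390636)) (tt N72135 (iv2 F221437)) (tt N84170 (iv3 F368409)) (tt N106509 (iv4 F454711)) (tt N70456 (iv5 F220067)) (tt N76998 (iv6 F365825)) (tt N105812 (iv7 F451839)))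
theorem Q71458 : ∀ i, i < 71458 → P i := stepQ 71457 Q71457 (allL N71457 (tt N82734 F387511) (tt N106395 (iv0 F454279)) (tt N106010 (iv2 F452725)) (tt N89757 (iv3 F387443)) (tt N39452 (iv4 D136892)) (tt N89752 F387435) (tt N106558 (iv6 F454855)) (tt N105830 (iv7 F451915)))
theorem Q71459 : ∀ i, i < 71459 → P i := stepQ 71458 Q71458 (allL N71458 (tt N39453 (iv1 D136894)) (tt N106034 F452826) (tt N102856 (iv2 F438961)) (tt N40199 (iv3 F220070)) (tt N72724 (iv4 F223026)) (tt N106561 D209763) (tt N79101 F366346) (tt N95524 (iv7 F408480)))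
theorem Q71460 : ∀ i, i < 71460 → P i := stepQ 71459 Q71459 (allL N71459 (tt N95524 F408482) (tt N102856 (iv0 F438964)) (tt N39453 (iv2 D136895)) (tt N69834 F347271) (tt N55895 (iv4 F220072)) (tt N69833 (iv5 F347251)) (tt N106562 D209764) (tt N106034 (iv7 F452824)))
theorem Q71461 : ∀ i, i < 71461 → P i := stepQ 71460 Q71460 (allL N71460 (tt N55857 F220069) (tt N55897 F360503) (tt N55895 F220071) (tt N106563 D209765) (tt N39453 (iv4 D136896)) (tt N69035 (iv5 F360505)) (tt N106564 D209766) (tt N55896 F220068))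
theorem Q71462 : ∀ i, i < 71462 → P i := stepQ 71461 Q71461 (allL N71461 (tt N73830 (iv1 F225959)) (tt N69028 (iv0 F345907)) (tt N69833 (iv2 F347250)) (tt N39455 F220073) (tt N75723 (iv4 F233555)) (tt N39453 (iv5 D136897)) (tt N104480 (iv6 F445955)) (tt N71778 (iv7 F220571)))
theorem Q71463 : ∀ i, i < 71463 → P i := stepQ 71462 Q71462 (allL N71462 (tt N106565 D209767) (tt N106566 D209768) (tt N106562 (iv2 F454867)) (tt N39456 F220074) (tt N106564 (iv4 F454879)) (tt N106567 D209769) (tt N39453 (iv6 D136898)) (tt N106568 D209770))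
theorem Q71464 : ∀ i, i < 71464 → P i := stepQ 71463 Q71463 (allL N71463 (tt N39454 (iv1 D136900)) (tt N39458 F220078) (tt N72746 (iv2 F223081)) (tt N71350 F223082) (tt N106569 D209771) (tt N85001 (iv5 F371327)) (tt N75981 F337552) (tt N81420 (iv7 F337551)))
theorem Q71465 : ∀ i, i < 71465 → P i := stepQ 71464 Q71464 (allL N71464 (tt N90467 F389762) (tt N102636 (iv0 F437979)) (tt N102640 (iv2 F438000)) (tt N39454 (iv3 D136901)) (tt N106563 (iv4 F454873)) (tt N86006 (iv5 F374852)) (tt N98078 F419366) (tt N102704 (iv7 F438274)))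
theorem Q71466 : ∀ i, i < 71466 → P i := stepQ 71465 Q71465 (allL N71465 (tt N81471 F347644) (tt N81468 F364025) (tt N102700 (iv2 F438252)) (tt N98078 (iv3 F419364)) (tt N39456 F220079) (tt N61474 F220080) (tt N39454 (iv6 D136902)) (tt N61473 (iv7 F220081)))
theorem Q71467 : ∀ i, i < 71467 → P i := stepQ 71466 Q71466 (allL N71466 (tt N106570 D209772) (tt N71177 (iv0 F362467)) (tt N105465 (iv2 F450367)) (tt N106567 (iv3 F454882)) (tt N101195 (iv4 F432133)) (tt N39456 (iv5 D136906)) (tt N86290 (iv6 F375713)) (tt N106571 D209773))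
theorem Q71468 : ∀ i, i < 71468 → P i := stepQ 71467 Q71467 (allL N71467 (tt N90564 (iv1 F390125)) (tt N90557 F390119) (tt N90563 F390116) (tt N106568 (iv3 F454890)) (tt N61473 F220082) (tt N106571 (iv5 F454906)) (tt N89241 F385746) (tt N39456 (iv7 D136907)))
theorem Q71469 : ∀ i, i < 71469 → P i := stepQ 71468 Q71468 (allL N71468 (tt N69834 (iv1 F365675)) (tt N39457 (iv0 D136908)) (tt N98855 (iv2 F422583)) (tt N90391 F400887) (tt N93487 (iv4 F400886)) (tt N70435 (iv5 F365676)) (tt N90389 (iv6 F400889)) (tt N98853 (iv7 F422568)))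
theorem Q71470 : ∀ i, i < 71470 → P i := stepQ 71469 Q71469 (allL N71469 (tt N98855 (iv1 F422588)) (tt N98853 (iv0 F422570)) (tt N39457 (iv2 D136910)) (tt N106034 (iv3 F452821)) (tt N61867 F422273) (tt N69735 F365677) (tt N90345 (iv6 F389394)) (tt N69834 (iv7 F365674)))
theorem Q71471 : ∀ i, i < 71471 → P i := stepQ 71470 Q71470 (allL N71470 (tt N71385 (iv1 F400312)) (tt N71382 (iv0 F220083)) (tt N61867 (iv2 F422272)) (tt N102638 (iv3 F437990)) (tt N39457 (iv4 D136911)) (tt N93301 (iv5 F400309)) (tt N106572 D209774) (tt N102702 (iv7 F438265)))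
theorem Q71472 : ∀ i, i < 71472 → P i := stepQ 71471 Q71471 (allL N71471 (tt N90347 F448998) (tt N90341 (iv0 F389391)) (tt N90345 F389395) (tt N39460 F220086) (tt N106572 (iv4 F454910)) (tt N105192 (iv5 F449160)) (tt N39457 (iv6 D136913)) (tt N90346 (iv7 F389396)))
theorem Q71473 : ∀ i, i < 71473 → P i := stepQ 71472 Q71472 (allL N71472 (tt N81485 (iv1 F353793)) (tt N80125 F353792) (tt N81483 F337531) (tt N102639 (iv3 F437995)) (tt N39460 F220100) (tt N46952 F337532) (tt N39458 (iv6 D136915)) (tt N81484 F337533))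
theorem Q71474 : ∀ i, i < 71474 → P i := stepQ 71473 Q71473 (allL N71473 (tt N106559 F454861) (tt N90508 (iv0 F389884)) (tt N84318 (iv2 F368880)) (tt N105192 (iv3 F449159)) (tt N54818 F363625) (tt N39460 (iv5 D136918)) (tt N50920 F220101) (tt N106573 D209775))
theorem Q71475 : ∀ i, i < 71475 → P i := stepQ 71474 Q71474 (allL N71474 (tt N81539 (iv1 F354161)) (tt N89242 F385751) (tt N89241 F385745) (tt N90346 F389397) (tt N81484 (iv4 F354162)) (tt N106573 (iv5 F454912)) (tt N90563 (iv6 F390117)) (tt N39460 (iv7 D136919)))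
theorem Q71476 : ∀ i, i < 71476 → P i := stepQ 71475 Q71475 (allL N71475 (tt N94917 F406327) (tt N106574 D209776) (tt N39465 F220102) (tt N106012 (iv3 F452734)) (tt N78887 F251210) (tt N81380 (iv5 F354881)) (tt N39461 (iv6 D136920)) (tt N90609 (iv7 F390259)))
theorem Q71477 : ∀ i, i < 71477 → P i := stepQ 71476 Q71476 (allL N71476 (tt N39462 (iv1 D136922)) (tt N39469 F220103) (tt N39467 F362160) (tt N100250 (iv3 F428130)) (tt N67111 (iv4 F346519)) (tt N106575 D209777) (tt N81823 F346520) (tt N39466 F362161))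
theorem Q71478 : ∀ i, i < 71478 → P i := stepQ 71477 Q71477 (allL N71477 (tt N106576 D209778) (tt N90817 (iv0 F390963)) (tt N39468 F220104) (tt N89261 (iv3 F385824)) (tt N81381 (iv4 F354886)) (tt N39462 (iv5 D136923)) (tt N81380 F354885) (tt N90788 (iv7 F390870)))
theorem Q71479 : ∀ i, i < 71479 → P i := stepQ 71478 Q71478 (allL N71478 (tt N106537 (iv1 F454804)) (tt N106561 (iv0 F454864)) (tt N104489 (iv2 F445993)) (tt N39463 (iv3 D136925)) (tt N67676 (iv4 F328625)) (tt N39622 F220109) (tt N104150 F444430) (tt N104644 (iv7 F446666)))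
theorem Q71480 : ∀ i, i < 71480 → P i := stepQ 71479 Q71479 (allL N71479 (tt N54253 F347384) (tt N54236 (iv0 F365870)) (tt N54250 F345492) (tt N104150 (iv3 F444425)) (tt N79052 (iv4 F252003)) (tt N103937 (iv5 F443454)) (tt N39463 (iv6 D136926)) (tt N54251 (iv7 F362200)))
theorem Q71481 : ∀ i, i < 71481 → P i := stepQ 71480 Q71480 (allL N71480 (tt N90609 (iv1 F390260)) (tt N39465 (iv0 D136929)) (tt N94917 (iv2 F406322)) (tt N105161 (iv3 F449064)) (tt N105318 (iv4 F449685)) (tt N52931 F368482) (tt N91792 (iv6 F394447)) (tt N106574 (iv7 F454914)))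
theorem Q71482 : ∀ i, i < 71482 → P i := stepQ 71481 Q71481 (allL N71481 (tt N39465 (iv1 D136930)) (tt N90609 F390261) (tt N106574 (iv2 F454918)) (tt N57802 F353313) (tt N70440 (iv4 F353312)) (tt N90618 (iv5 F390291)) (tt N57800 F353314) (tt N94917 (iv7 F406326)))
theorem Q71483 : ∀ i, i < 71483 → P i := stepQ 71482 Q71482 (allL N71482 (tt N106574 (iv1 F454913)) (tt N94917 F406328) (tt N90609 (iv2 F390257)) (tt N39477 F220114) (tt N81409 (iv4 F354877)) (tt N81376 F354880) (tt N106038 (iv6 F452839)) (tt N39465 (iv7 D136932)))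
theorem Q71484 : ∀ i, i < 71484 → P i := stepQ 71483 Q71483 (allL N71483 (tt N89125 (iv1 F385265)) (tt N79101 (iv0 F362178)) (tt N100251 (iv2 F454932)) (tt N39466 (iv3 D136934)) (tt N106577 D209780) (tt N106578 D209781) (tt N89170 F385432) (tt N100250 F428132))
theorem Q71485 : ∀ i, i < 71485 → P i := stepQ 71484 Q71484 (allL N71484 (tt N42883 F362171) (tt N75981 F362172) (tt N67108 F362173) (tt N94096 (iv3 F403182)) (tt N39466 (iv4 D136935)) (tt N66766 F362174) (tt N79244 F362175) (tt N67111 F362176))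
theorem Q71486 : ∀ i, i < 71486 → P i := stepQ 71485 Q71485 (allL N71485 (tt N90794 F422970) (tt N106579 D209782) (tt N89900 (iv2 F387913)) (tt N106578 (iv3 F454933)) (tt N106580 D209783) (tt N39466 (iv5 D136936)) (tt N84195 F368479) (tt N106575 (iv7 F454921)))
theorem Q71487 : ∀ i, i < 71487 → P i := stepQ 71486 Q71486 (allL N71486 (tt N90389 F389482) (tt N106581 D209784) (tt N101446 (iv2 F432987)) (tt N39467 (iv3 D136939)) (tt N106582 D209785) (tt N100907 (iv5 F430916)) (tt N45350 F362162) (tt N90312 (iv7 F389321)))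
theorem Q71488 : ∀ i, i < 71488 → P i := stepQ 71487 Q71487 (allL N71487 (tt N75981 F362163) (tt N42883 F362164) (tt N67111 F362165) (tt N102713 F438335) (tt N39467 (iv4 D136940)) (tt N66765 F362166) (tt N81818 F362167) (tt N67108 F362168))
theorem Q71489 : ∀ i, i < 71489 → P i := stepQ 71488 Q71488 (allL N71488 (tt N106579 (iv1 F454936)) (tt N90794 F422971) (tt N106575 (iv2 F454920)) (tt N100907 (iv3 F430915)) (tt N106583 D209786) (tt N39467 (iv5 D136941)) (tt N89891 F387887) (tt N89900 (iv7 F387916)))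
theorem Q71490 : ∀ i, i < 71490 → P i := stepQ 71489 Q71489 (allL N71489 (tt N90788 (iv1 F390872)) (tt N39468 (iv0 D136943)) (tt N106576 F454925) (tt N106584 D209787) (tt N106585 D209788) (tt N98991 (iv5 F422950)) (tt N90810 F392035) (tt N90817 F390965))
theorem Q71491 : ∀ i, i < 71491 → P i := stepQ 71490 Q71490 (allL N71490 (tt N39468 (iv1 D136944)) (tt N90788 F390871) (tt N90817 (iv2 F390960)) (tt N101353 (iv3 F432752)) (tt N53799 F368481) (tt N98992 (iv5 F422960)) (tt N54813 (iv6 F368480)) (tt N106576 (iv7 F454927)))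
theorem Q71492 : ∀ i, i < 71492 → P i := stepQ 71491 Q71491 (allL N71491 (tt N90817 (iv1 F390964)) (tt N106576 F454926) (tt N90788 (iv2 F390868)) (tt N39487 F220117) (tt N90138 F388661) (tt N39469 F220118) (tt N106586 D209789) (tt N39468 (iv7 D136946)))
theorem Q71493 : ∀ i, i < 71493 → P i := stepQ 71492 Q71492 (allL N71492 (tt N95857 (iv1 F409976)) (tt N95856 F409971) (tt N39470 (iv2 D136948)) (tt N106014 (iv3 F452740)) (tt N103785 (iv4 F442803)) (tt N39616 F220119) (tt N80547 (iv6 F346169)) (tt N95855 (iv7 F409965)))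
theorem Q71494 : ∀ i, i < 71494 → P i := stepQ 71493 Q71493 (allL N71493 (tt N97796 (iv1 F418341)) (tt N72019 (iv0 F221246)) (tt N103785 (iv2 F442801)) (tt N103864 (iv3 F443138)) (tt N39470 (iv4 D136949)) (tt N67701 F338277) (tt N67702 F346165) (tt N95858 (iv7 F409980)))
theorem Q71495 : ∀ i, i < 71495 → P i := stepQ 71494 Q71494 (allL N71494 (tt N64607 F346167) (tt N54123 (iv0 F362232)) (tt N80547 F346162) (tt N39471 F220120) (tt N67702 (iv4 F346164)) (tt N105742 (iv5 F451487)) (tt N39470 (iv6 D136950)) (tt N80548 (iv7 F346161)))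
theorem Q71496 : ∀ i, i < 71496 → P i := stepQ 71495 Q71495 (allL N71495 (tt N90060 (iv1 F388450)) (tt N63145 F363923) (tt N90061 (iv2 F388455)) (tt N105742 (iv3 F451485)) (tt N106587 D209790) (tt N39471 (iv5 D136953)) (tt N39618 F220121) (tt N76083 F338568))
theorem Q71497 : ∀ i, i < 71497 → P i := stepQ 71496 Q71496 (allL N71496 (tt N49579 (iv1 F338465)) (tt N67092 F346160) (tt N70490 F346158) (tt N80548 F346159) (tt N104781 (iv4 F447235)) (tt N76083 (iv5 F346157)) (tt N95861 (iv6 F409996)) (tt N39471 (iv7 D136954)))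
theorem Q71498 : ∀ i, i < 71498 → P i := stepQ 71497 Q71497 (allL N71497 (tt N105998 (iv1 F452694)) (tt N105997 (iv0 F452688)) (tt N39472 (iv2 D136957)) (tt N95855 (iv3 F409964)) (tt N92158 (iv4 F396013)) (tt N39621 F220122) (tt N105219 (iv6 F449255)) (tt N106014 (iv7 F452742)))
theorem Q71499 : ∀ i, i < 71499 → P i := stepQ 71498 Q71498 (allL N71498 (tt N92157 F396012) (tt N74921 (iv0 F369360)) (tt N92158 F396014) (tt N83666 F363977) (tt N39472 (iv4 D136958)) (tt N85203 (iv5 F371878)) (tt N70672 F363978) (tt N83663 (iv7 F363976)))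
theorem Q71500 : ∀ i, i < 71500 → P i := stepQ 71499 Q71499 (allL N71499 (tt N106588 D209791) (tt N105768 (iv0 F451619)) (tt N105219 (iv2 F449254)) (tt N39473 F220123) (tt N70672 (iv4 F363979)) (tt N106196 (iv5 F453566)) (tt N39472 (iv6 D136959)) (tt N105341 (iv7 F449783)))
theorem Q71501 : ∀ i, i < 71501 → P i := stepQ 71500 Q71500 (allL N71500 (tt N66366 (iv1 F347109)) (tt N66229 F347047) (tt N66364 (iv2 F347083)) (tt N104681 (iv3 F446844)) (tt N39474 (iv4 D136965)) (tt N46083 F347049) (tt N67934 F339489) (tt N66365 (iv7 F347080)))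
theorem Q71502 : ∀ i, i < 71502 → P i := stepQ 71501 Q71501 (allL N71501 (tt N106589 D209792) (tt N90623 (iv0 F390310)) (tt N105329 (iv2 F449735)) (tt N105212 (iv3 F449223)) (tt N99595 (iv4 F431869)) (tt N39474 (iv5 D136966)) (tt N90846 F391042) (tt N106015 (iv7 F452748)))
theorem Q71503 : ∀ i, i < 71503 → P i := stepQ 71502 Q71502 (allL N71502 (tt N106536 F454800) (tt N106590 D209793) (tt N92155 (iv2 F395999)) (tt N39475 (iv3 D136969)) (tt N92140 (iv4 F395927)) (tt N106591 D209794) (tt N70483 F339483) (tt N92156 (iv7 F396002)))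
theorem Q71504 : ∀ i, i < 71504 → P i := stepQ 71503 Q71503 (allL N71503 (tt N90623 F390309) (tt N106589 F454972) (tt N106015 (iv2 F452746)) (tt N106591 (iv3 F454978)) (tt N99596 (iv4 F425326)) (tt N39475 (iv5 D136971)) (tt N106592 D209795) (tt N105329 (iv7 F449737)))
theorem Q71505 : ∀ i, i < 71505 → P i := stepQ 71504 Q71504 (allL N71504 (tt N105351 (iv1 F449837)) (tt N39476 (iv0 D136973)) (tt N106016 F452751) (tt N106593 D209796) (tt N106594 D209797) (tt N106595 D209798) (tt N106285 F453899) (tt N90826 F449838))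
theorem Q71506 : ∀ i, i < 71506 → P i := stepQ 71505 Q71505 (allL N71505 (tt N39476 (iv1 D136974)) (tt N105351 (iv0 F449836)) (tt N90826 (iv2 F390995)) (tt N106596 D209799) (tt N106597 D209800) (tt N71850 (iv5 F220749)) (tt N88404 F382900) (tt N106016 (iv7 F452753)))
theorem Q71507 : ∀ i, i < 71507 → P i := stepQ 71506 Q71506 (allL N71506 (tt N99213 (iv1 F423706)) (tt N99146 (iv0 F423460)) (tt N106017 (iv2 F452754)) (tt N90615 (iv3 F390281)) (tt N39476 (iv4 D136975)) (tt N43351 F363881) (tt N39486 F220126) (tt N106598 D209801))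
theorem Q71508 : ∀ i, i < 71508 → P i := stepQ 71507 Q71507 (allL N71507 (tt N90826 (iv1 F391000)) (tt N106016 F452752) (tt N105351 (iv2 F449832)) (tt N81376 F354888) (tt N106598 (iv4 F455001)) (tt N39477 F220127) (tt N106599 D209802) (tt N39476 (iv7 D136976)))
theorem Q71509 : ∀ i, i < 71509 → P i := stepQ 71508 Q71508 (allL N71508 (tt N106019 (iv1 F452765)) (tt N39478 (iv0 D136977)) (tt N90387 (iv2 F422580)) (tt N106581 (iv3 F455010)) (tt N106600 D209804) (tt N106601 D209805) (tt N106048 F452897) (tt N106004 (iv7 F452711)))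
theorem Q71510 : ∀ i, i < 71510 → P i := stepQ 71509 Q71509 (allL N71509 (tt N90387 F389477) (tt N106004 (iv0 F452709)) (tt N39478 (iv2 D136979)) (tt N89124 (iv3 F385261)) (tt N77110 F385262) (tt N106602 D209806) (tt N90171 F388771) (tt N106019 (iv7 F452764)))
theorem Q71511 : ∀ i, i < 71511 → P i := stepQ 71510 Q71510 (allL N71510 (tt N76857 F365539) (tt N106603 D209807) (tt N106602 (iv2 F455014)) (tt N39479 F220128) (tt N106604 D209808) (tt N39478 (iv5 D136980)) (tt N49058 F365540) (tt N106020 (iv7 F452769)))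
theorem Q71512 : ∀ i, i < 71512 → P i := stepQ 71511 Q71511 (allL N71511 (tt N39479 (iv1 D136981)) (tt N39482 F220129) (tt N71219 (iv2 F220132)) (tt N106579 F454939) (tt N106605 D209809) (tt N61907 F220131) (tt N106606 D209810) (tt N61906 F220130))
theorem Q71513 : ∀ i, i < 71513 → P i := stepQ 71512 Q71512 (allL N71512 (tt N105980 (iv1 F452611)) (tt N106349 F454097) (tt N99143 (iv2 F423445)) (tt N106607 D209811) (tt N39479 (iv4 D136982)) (tt N106608 D209812) (tt N71876 F346061) (tt N106021 (iv7 F452773)))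
theorem Q71514 : ∀ i, i < 71514 → P i := stepQ 71513 Q71513 (allL N71513 (tt N89127 (iv1 F385271)) (tt N88382 F382836) (tt N39480 (iv2 D136986)) (tt N106019 (iv3 F452762)) (tt N89117 (iv4 F385222)) (tt N106609 D209813) (tt N106610 D209814) (tt N89124 (iv7 F385258)))
theorem Q71515 : ∀ i, i < 71515 → P i := stepQ 71514 Q71514 (allL N71514 (tt N89119 (iv1 F385232)) (tt N88380 (iv0 F382822)) (tt N89117 F385221) (tt N40063 F220133) (tt N39480 (iv4 D136987)) (tt N106611 D209815) (tt N106612 D209816) (tt N40133 F220134))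
theorem Q71516 : ∀ i, i < 71516 → P i := stepQ 71515 Q71515 (allL N71515 (tt N100247 (iv1 F428122)) (tt N106613 D209817) (tt N106609 (iv2 F455041)) (tt N39482 F220135) (tt N106018 (iv4 F452761)) (tt N39480 (iv5 D136988)) (tt N106614 D209818) (tt N106018 (iv7 F452760)))
theorem Q71517 : ∀ i, i < 71517 → P i := stepQ 71516 Q71516 (allL N71516 (tt N73913 F365830) (tt N106615 D209819) (tt N106610 (iv2 F455042)) (tt N39483 F220136) (tt N106612 (iv4 F455050)) (tt N77252 F365828) (tt N39480 (iv6 D136989)) (tt N77251 (iv7 F365829)))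
theorem Q71518 : ∀ i, i < 71518 → P i := stepQ 71517 Q71517 (allL N71517 (tt N74369 F227572) (tt N74553 F228351) (tt N57203 F220137) (tt N94808 (iv3 F406035)) (tt N39483 F220138) (tt N77253 F365572) (tt N39481 (iv6 D136990)) (tt N77253 (iv7 F365574)))
theorem Q71519 : ∀ i, i < 71519 → P i := stepQ 71518 Q71518 (allL N71518 (tt N106349 (iv1 F454098)) (tt N105980 (iv0 F452610)) (tt N106021 (iv2 F452771)) (tt N99143 (iv3 F423446)) (tt N39482 (iv4 D136991)) (tt N106616 D209820) (tt N99142 (iv6 F423444)) (tt N99143 F423451))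
theorem Q71520 : ∀ i, i < 71520 → P i := stepQ 71519 Q71519 (allL N71519 (tt N90025 (iv1 F388327)) (tt N81382 F365482) (tt N90027 (iv2 F388332)) (tt N106614 (iv3 F455055)) (tt N99142 F423443) (tt N42554 F365483) (tt N39482 (iv6 D136992)) (tt N65192 F365484))
theorem Q71521 : ∀ i, i < 71521 → P i := stepQ 71520 Q71520 (allL N71520 (tt N106601 F455013) (tt N106518 (iv0 F454744)) (tt N106617 D209821) (tt N39484 (iv3 D136996)) (tt N106618 D209822) (tt N98989 (iv5 F422942)) (tt N83376 F455017) (tt N106025 (iv7 F452790)))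
theorem Q71522 : ∀ i, i < 71522 → P i := stepQ 71521 Q71521 (allL N71521 (tt N106619 D209823) (tt N106620 D209824) (tt N106023 (iv2 F452779)) (tt N106621 D209825) (tt N39484 (iv4 D136997)) (tt N98970 (iv5 F422875)) (tt N106622 D209826) (tt N106026 (iv7 F452793)))
theorem Q71523 : ∀ i, i < 71523 → P i := stepQ 71522 Q71522 (allL N71522 (tt N88407 F382914) (tt N106623 D209827) (tt N106024 (iv2 F452784)) (tt N83376 (iv3 F455018)) (tt N106622 (iv4 F455077)) (tt N106213 (iv5 F453605)) (tt N39484 (iv6 D136998)) (tt N106624 D209828))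
theorem Q71524 : ∀ i, i < 71524 → P i := stepQ 71523 Q71523 (allL N71523 (tt N100259 (iv1 F428155)) (tt N89126 (iv0 F385266)) (tt N106625 D209829) (tt N39485 (iv3 D136999)) (tt N106022 F452777) (tt N62951 (iv5 F365481)) (tt N62954 F365479) (tt N106022 (iv7 F452776)))
theorem Q71525 : ∀ i, i < 71525 → P i := stepQ 71524 Q71524 (allL N71524 (tt N106620 (iv1 F455072)) (tt N106619 F455070) (tt N106026 (iv2 F452791)) (tt N106023 (iv3 F452780)) (tt N39485 (iv4 D137000)) (tt N98967 (iv5 F422872)) (tt N62962 F365480) (tt N106023 (iv7 F452781)))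
theorem Q71526 : ∀ i, i < 71526 → P i := stepQ 71525 Q71525 (allL N71525 (tt N106031 (iv1 F452812)) (tt N39486 (iv0 D137002)) (tt N106027 F452796) (tt N106626 D209830) (tt N98987 (iv4 F422933)) (tt N98973 F422879) (tt N106627 D209831) (tt N106028 (iv7 F452800)))
theorem Q71527 : ∀ i, i < 71527 → P i := stepQ 71526 Q71526 (allL N71526 (tt N39486 (iv1 D137003)) (tt N106031 F452811) (tt N106028 F452802) (tt N106628 D209832) (tt N78179 F246605) (tt N98972 (iv5 F422876)) (tt N99187 (iv6 F423621)) (tt N106027 F452797))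
theorem Q71528 : ∀ i, i < 71528 → P i := stepQ 71527 Q71527 (allL N71527 (tt N106629 D209833) (tt N99149 (iv0 F467234)) (tt N106630 D209835) (tt N39486 (iv3 D137004)) (tt N90616 (iv4 F390287)) (tt N106631 D209836) (tt N90615 F390284) (tt N106632 D209837))
theorem Q71529 : ∀ i, i < 71529 → P i := stepQ 71528 Q71528 (allL N71528 (tt N72831 (iv1 F245415)) (tt N106633 D209838) (tt N106030 (iv2 F452803)) (tt N106631 (iv3 F455097)) (tt N77954 (iv4 F245417)) (tt N39486 (iv5 D137005)) (tt N106634 D209839) (tt N77953 F245414))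
theorem Q71530 : ∀ i, i < 71530 → P i := stepQ 71529 Q71529 (allL N71529 (tt N106028 (iv1 F452799)) (tt N106027 F452798) (tt N106031 (iv2 F452808)) (tt N106632 (iv3 F455098)) (tt N39487 F220143) (tt N77953 (iv5 F245413)) (tt N106635 D209840) (tt N39486 (iv7 D137006)))
theorem Q71531 : ∀ i, i < 71531 → P i := stepQ 71530 Q71530 (allL N71530 (tt N106636 D209841) (tt N106637 D209842) (tt N106032 (iv2 F452813)) (tt N106586 (iv3 F454955)) (tt N106635 (iv4 F455113)) (tt N106059 (iv5 F452946)) (tt N39487 (iv6 D137007)) (tt N106599 (iv7 F455004)))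
theorem Q71532 : ∀ i, i < 71532 → P i := stepQ 71531 Q71531 (allL N71531 (tt N106638 D209843) (tt N106639 D209844) (tt N106640 D209845) (tt N39488 (iv3 D137008)) (tt N92364 (iv4 F396822)) (tt N106641 D209846) (tt N95607 (iv6 F408864)) (tt N92326 F396716))
theorem Q71533 : ∀ i, i < 71533 → P i := stepQ 71532 Q71532 (allL N71532 (tt N78179 (iv1 F246604)) (tt N98987 (iv0 F422935)) (tt N99362 (iv2 F424286)) (tt N106641 (iv3 F455123)) (tt N106642 D209847) (tt N39488 (iv5 D137009)) (tt N106643 D209848) (tt N92327 (iv7 F396719)))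
theorem Q71534 : ∀ i, i < 71534 → P i := stepQ 71533 Q71533 (allL N71533 (tt N100186 (iv1 F427904)) (tt N39489 (iv0 D137010)) (tt N100184 F427890) (tt N89993 F388235) (tt N106644 D209849) (tt N106645 D209850) (tt N73243 F343873) (tt N100185 (iv7 F427894)))
theorem Q71535 : ∀ i, i < 71535 → P i := stepQ 71534 Q71534 (allL N71534 (tt N101506 (iv1 F433193)) (tt N101505 F433192) (tt N90912 (iv2 F391247)) (tt N39490 F220144) (tt N106646 D209851) (tt N39489 (iv5 D137013)) (tt N47849 F328988) (tt N47869 F328989))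
theorem Q71536 : ∀ i, i < 71536 → P i := stepQ 71535 Q71535 (allL N71535 (tt N39490 (iv1 D137014)) (tt N39493 F220145) (tt N71267 (iv2 F220148)) (tt N83472 F452585) (tt N106647 D209852) (tt N70866 F220147) (tt N106648 D209853) (tt N70865 F220146))
theorem Q71537 : ∀ i, i < 71537 → P i := stepQ 71536 Q71536 (allL N71536 (tt N71218 F220149) (tt N106605 (iv0 F455028)) (tt N99363 (iv2 F424290)) (tt N106649 D209854) (tt N39490 (iv4 D137015)) (tt N72831 (iv5 F223387)) (tt N62068 F362128) (tt N106033 (iv7 F452818)))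
theorem Q71538 : ∀ i, i < 71538 → P i := stepQ 71537 Q71537 (allL N71537 (tt N76609 (iv1 F366080)) (tt N76608 F366081) (tt N63665 (iv2 F366079)) (tt N39491 (iv3 D137017)) (tt N65031 (iv4 F357241)) (tt N106650 D209855) (tt N65030 F357238) (tt N61898 F220151))
theorem Q71539 : ∀ i, i < 71539 → P i := stepQ 71538 Q71538 (allL N71538 (tt N72830 (iv1 F223384)) (tt N72829 F223382) (tt N61900 F220152) (tt N106650 (iv3 F455145)) (tt N106633 (iv4 F455106)) (tt N39491 (iv5 D137018)) (tt N106651 D209856) (tt N61899 F220153))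
theorem Q71540 : ∀ i, i < 71540 → P i := stepQ 71539 Q71539 (allL N71539 (tt N98838 F422523) (tt N72660 F245344) (tt N61901 F220154) (tt N65030 (iv3 F357239)) (tt N39492 F220155) (tt N99229 (iv5 F423765)) (tt N39491 (iv6 D137019)) (tt N65028 (iv7 F357246)))
theorem Q71541 : ∀ i, i < 71541 → P i := stepQ 71540 Q71540 (allL N71540 (tt N106605 (iv1 F455029)) (tt N71218 F220160) (tt N106033 (iv2 F452815)) (tt N106652 D209857) (tt N39493 (iv4 D137025)) (tt N106633 (iv5 F455105)) (tt N106653 D209858) (tt N99363 (iv7 F424292)))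
theorem Q71542 : ∀ i, i < 71542 → P i := stepQ 71541 Q71541 (allL N71541 (tt N42547 F363007) (tt N42546 F363008) (tt N42549 F363009) (tt N100278 (iv3 F428222)) (tt N106653 (iv4 F455157)) (tt N42522 F363010) (tt N39493 (iv6 D137026)) (tt N42521 F363011))
theorem Q71543 : ∀ i, i < 71543 → P i := stepQ 71542 Q71542 (allL N71542 (tt N106654 D209859) (tt N77844 F433191) (tt N63672 (iv2 F366538)) (tt N39495 (iv3 D137030)) (tt N98986 (iv4 F422929)) (tt N106655 D209860) (tt N106656 D209861) (tt N77957 (iv7 F245432)))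
theorem Q71544 : ∀ i, i < 71544 → P i := stepQ 71543 Q71543 (allL N71543 (tt N98978 (iv1 F422892)) (tt N97371 (iv0 F416568)) (tt N77955 (iv2 F245423)) (tt N106655 (iv3 F455176)) (tt N98972 (iv4 F422877)) (tt N39495 (iv5 D137031)) (tt N106657 D209862) (tt N77958 (iv7 F245434)))
theorem Q71545 : ∀ i, i < 71545 → P i := stepQ 71544 Q71544 (allL N71544 (tt N78046 F245596) (tt N99104 F423351) (tt N77956 (iv2 F245427)) (tt N106656 (iv3 F455180)) (tt N39496 F220165) (tt N83050 F359541) (tt N39495 (iv6 D137032)) (tt N83389 F359550))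
theorem Q71546 : ∀ i, i < 71546 → P i := stepQ 71545 Q71545 (allL N71545 (tt N97371 (iv1 F416569)) (tt N98978 (iv0 F422891)) (tt N77958 (iv2 F245433)) (tt N63678 (iv3 F366399)) (tt N98973 (iv4 F422881)) (tt N39497 (iv5 D137034)) (tt N106658 D209863) (tt N77955 (iv7 F245424)))
theorem Q71547 : ∀ i, i < 71547 → P i := stepQ 71546 Q71546 (allL N71546 (tt N91260 F401172) (tt N91256 (iv0 F401173)) (tt N106659 D209864) (tt N39498 (iv3 D137035)) (tt N93568 (iv4 F401168)) (tt N98966 (iv5 F422871)) (tt N106660 D209865) (tt N77951 (iv7 F245407)))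
theorem Q71548 : ∀ i, i < 71548 → P i := stepQ 71547 Q71547 (allL N71547 (tt N70026 (iv1 F245266)) (tt N70022 (iv0 F245265)) (tt N77950 (iv2 F245403)) (tt N106660 (iv3 F455191)) (tt N96067 (iv4 F410886)) (tt N77906 F245264) (tt N39498 (iv6 D137036)) (tt N93640 (iv7 F401398)))
theorem Q71549 : ∀ i, i < 71549 → P i := stepQ 71548 Q71548 (allL N71548 (tt N63383 F366541) (tt N76812 (iv0 F350661)) (tt N76810 F366403) (tt N39499 (iv3 D137037)) (tt N94604 (iv4 F405155)) (tt N98969 (iv5 F422873)) (tt N61917 F365193) (tt N76811 (iv7 F366402)))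
theorem Q71550 : ∀ i, i < 71550 → P i := stepQ 71549 Q71549 (allL N71549 (tt N106661 D209866) (tt N39500 (iv0 D137038)) (tt N106662 D209867) (tt N63684 F415365) (tt N102745 F438460) (tt N98939 (iv5 F503967)) (tt N106663 D209869) (tt N99075 F423249))
theorem Q71551 : ∀ i, i < 71551 → P i := stepQ 71550 Q71550 (allL N71550 (tt N39500 (iv1 D137039)) (tt N106661 F455195) (tt N99075 (iv2 F423244)) (tt N106664 D209870) (tt N102746 (iv4 F438467)) (tt N98940 F423234) (tt N99071 (iv6 F423233)) (tt N106662 (iv7 F455200)))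
theorem Q71552 : ∀ i, i < 71552 → P i := stepQ 71551 Q71551 (allL N71551 (tt N106662 (iv1 F455201)) (tt N99075 F423248) (tt N39500 (iv2 D137040)) (tt N77940 (iv3 F245385)) (tt N71380 F220168) (tt N106665 D209871) (tt N39509 F220169) (tt N106661 (iv7 F455196)))
theorem Q71553 : ∀ i, i < 71553 → P i := stepQ 71552 Q71552 (allL N71552 (tt N106666 D209872) (tt N106667 D209873) (tt N106665 (iv2 F455210)) (tt N39501 F220170) (tt N106339 (iv4 F454081)) (tt N39500 (iv5 D137041)) (tt N44226 F220171) (tt N106668 D209874))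
theorem Q71554 : ∀ i, i < 71554 → P i := stepQ 71553 Q71553 (allL N71553 (tt N99075 F423247) (tt N106662 F455202) (tt N106661 F455194) (tt N39502 F220172) (tt N94349 (iv4 F404092)) (tt N106668 (iv5 F455226)) (tt N71574 (iv6 F220237)) (tt N39500 (iv7 D137042)))
theorem Q71555 : ∀ i, i < 71555 → P i := stepQ 71554 Q71554 (allL N71554 (tt N77954 (iv1 F245420)) (tt N39501 (iv0 D137043)) (tt N61891 (iv2 F220174)) (tt N106669 D209875) (tt N106616 (iv4 F455064)) (tt N41182 F220173) (tt N106669 F455232) (tt N61889 (iv7 F220175)))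
theorem Q71556 : ∀ i, i < 71556 → P i := stepQ 71555 Q71555 (allL N71555 (tt N39501 (iv1 D137044)) (tt N77954 F245419) (tt N61889 (iv2 F220178)) (tt N106670 D209876) (tt N106608 (iv4 F455039)) (tt N56896 F220177) (tt N106608 (iv6 F455037)) (tt N61891 F220176))
theorem Q71557 : ∀ i, i < 71557 → P i := stepQ 71556 Q71556 (allL N71556 (tt N106633 (iv1 F455103)) (tt N72831 (iv0 F223388)) (tt N77953 (iv2 F245412)) (tt N106671 D209877) (tt N39501 (iv4 D137045)) (tt N106031 (iv5 F452810)) (tt N106672 D209878) (tt N106030 (iv7 F452805)))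
theorem Q71558 : ∀ i, i < 71558 → P i := stepQ 71557 Q71557 (allL N71557 (tt N98914 F422768) (tt N106673 D209879) (tt N77947 (iv2 F245391)) (tt N44226 F220179) (tt N106672 (iv4 F455236)) (tt N39513 F220180) (tt N39501 (iv6 D137046)) (tt N106674 D209880))
theorem Q71559 : ∀ i, i < 71559 → P i := stepQ 71558 Q71558 (allL N71558 (tt N61889 (iv1 F220182)) (tt N61891 F220183) (tt N77954 (iv2 F245416)) (tt N106668 (iv3 F455225)) (tt N106030 (iv4 F452804)) (tt N39502 F220181) (tt N106675 D209881) (tt N39501 (iv7 D137047)))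
theorem Q71560 : ∀ i, i < 71560 → P i := stepQ 71559 Q71559 (allL N71559 (tt N62072 F339868) (tt N62091 F360871) (tt N62090 (iv2 F360873)) (tt N61789 F360867) (tt N61950 (iv4 F360862)) (tt N73205 (iv5 F224074)) (tt N39503 (iv6 D137052)) (tt N62030 (iv7 F360882)))
theorem Q71561 : ∀ i, i < 71561 → P i := stepQ 71560 Q71560 (allL N71560 (tt N39504 (iv1 D137053)) (tt N77923 F245329) (tt N77921 (iv2 F246663)) (tt N78203 (iv3 F247026)) (tt N57839 (iv4 F220220)) (tt N70874 F247038) (tt N101442 F432983) (tt N77922 F246664))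
theorem Q71562 : ∀ i, i < 71562 → P i := stepQ 71561 Q71561 (allL N71561 (tt N77922 (iv1 F245328)) (tt N77921 F245322) (tt N39504 (iv2 D137054)) (tt N77920 (iv3 F245311)) (tt N73026 (iv4 F345282)) (tt N106676 D209882) (tt N73474 (iv6 F345300)) (tt N77923 (iv7 F245326)))
theorem Q71563 : ∀ i, i < 71563 → P i := stepQ 71562 Q71562 (allL N71562 (tt N106166 (iv1 F453416)) (tt N106167 (iv0 F453419)) (tt N106676 (iv2 F455239)) (tt N39505 F220221) (tt N101326 (iv4 F432665)) (tt N39504 (iv5 D137055)) (tt N101327 (iv6 F432670)) (tt N77875 (iv7 F245195)))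
theorem Q71564 : ∀ i, i < 71564 → P i := stepQ 71563 Q71563 (allL N71563 (tt N99025 F423077) (tt N106677 D209883) (tt N73474 F345299) (tt N39506 F220222) (tt N62336 (iv4 F345296)) (tt N105447 (iv5 F450306)) (tt N39504 (iv6 D137056)) (tt N93626 (iv7 F401330)))
theorem Q71565 : ∀ i, i < 71565 → P i := stepQ 71564 Q71564 (allL N71564 (tt N103215 (iv1 F440607)) (tt N103214 F440604) (tt N61880 (iv2 F336194)) (tt N101327 (iv3 F432668)) (tt N60320 F220223) (tt N61960 (iv5 F336217)) (tt N39505 (iv6 D137057)) (tt N103213 (iv7 F440598)))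
theorem Q71566 : ∀ i, i < 71566 → P i := stepQ 71565 Q71565 (allL N71565 (tt N99064 (iv1 F423200)) (tt N99063 F423197) (tt N61961 (iv2 F336201)) (tt N105447 (iv3 F450303)) (tt N97247 (iv4 F416061)) (tt N39506 (iv5 D137058)) (tt N61960 F336218) (tt N93627 (iv7 F401335)))
theorem Q71567 : ∀ i, i < 71567 → P i := stepQ 71566 Q71566 (allL N71566 (tt N105984 F452624) (tt N97205 (iv0 F415893)) (tt N82105 F344867) (tt N39508 (iv3 D137061)) (tt N79157 (iv4 F344868)) (tt N77807 (iv5 F245025)) (tt N79156 F344869) (tt N71570 (iv7 F220231)))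
theorem Q71568 : ∀ i, i < 71568 → P i := stepQ 71567 Q71567 (allL N71567 (tt N78051 F346600) (tt N99070 F423227) (tt N71569 (iv2 F220229)) (tt N79156 (iv3 F344871)) (tt N94228 (iv4 F403782)) (tt N106678 D209884) (tt N39508 (iv6 D137062)) (tt N98784 (iv7 F422309)))
theorem Q71569 : ∀ i, i < 71569 → P i := stepQ 71568 Q71568 (allL N71568 (tt N48026 F320433) (tt N44420 (iv0 F220228)) (tt N48025 F320577) (tt N39510 (iv3 D137063)) (tt N77979 F245461) (tt N44192 F220226) (tt N99580 (iv6 F425269)) (tt N48024 F320578))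
theorem Q71570 : ∀ i, i < 71570 → P i := stepQ 71569 Q71569 (allL N71569 (tt N106679 D209885) (tt N62162 F433595) (tt N71567 F220229) (tt N99580 (iv3 F425268)) (tt N94294 (iv4 F403979)) (tt N99092 (iv5 F423309)) (tt N39510 (iv6 D137064)) (tt N61968 F336216))
theorem Q71571 : ∀ i, i < 71571 → P i := stepQ 71570 Q71570 (allL N71570 (tt N70870 F245115) (tt N70874 F364775) (tt N106231 (iv2 F453679)) (tt N39511 (iv3 D137065)) (tt N105148 (iv4 F448994)) (tt N44194 F220230) (tt N61969 (iv6 F336209)) (tt N71566 F220231))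
theorem Q71572 : ∀ i, i < 71572 → P i := stepQ 71571 Q71571 (allL N71571 (tt N106680 D209886) (tt N106681 D209887) (tt N57600 F220233) (tt N44217 F220234) (tt N39513 F220235) (tt N106682 D209888) (tt N39512 (iv6 D137067)) (tt N106683 D209889))
theorem Q71573 : ∀ i, i < 71573 → P i := stepQ 71572 Q71572 (allL N71572 (tt N77948 (iv1 F245396)) (tt N39513 (iv0 D137068)) (tt N77945 (iv2 F455282)) (tt N106684 D209891) (tt N94295 (iv4 F472459)) (tt N106685 D209893) (tt N106686 D209894) (tt N77946 F455287))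
theorem Q71574 : ∀ i, i < 71574 → P i := stepQ 71573 Q71573 (allL N71573 (tt N39513 (iv1 D137069)) (tt N77948 F245395) (tt N77946 F455286) (tt N106687 D209895) (tt N94296 (iv4 F472240)) (tt N106688 D209897) (tt N106689 D209898) (tt N77945 (iv7 F455285)))
theorem Q71575 : ∀ i, i < 71575 → P i := stepQ 71574 Q71574 (allL N71574 (tt N77946 (iv1 F245390)) (tt N77945 F245394) (tt N77948 (iv2 F245393)) (tt N44227 F220236) (tt N106683 (iv4 F455263)) (tt N106674 (iv5 F455238)) (tt N71553 F220237) (tt N39513 (iv7 D137070)))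
theorem Q71576 : ∀ i, i < 71576 → P i := stepQ 71575 Q71575 (allL N71575 (tt N39514 (iv1 D137071)) (tt N48963 F331270) (tt N62680 (iv2 F220243)) (tt N74325 (iv3 F227343)) (tt N102633 (iv4 F437959)) (tt N102823 (iv5 F438810)) (tt N106690 D209899) (tt N71347 (iv7 F220244)))
theorem Q71577 : ∀ i, i < 71577 → P i := stepQ 71576 Q71576 (allL N71576 (tt N71347 (iv1 F220246)) (tt N62680 F220241) (tt N39514 (iv2 D137072)) (tt N39519 F220238) (tt N70927 F220239) (tt N82610 F331275) (tt N90516 (iv6 F389919)) (tt N48963 F331276))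
theorem Q71578 : ∀ i, i < 71578 → P i := stepQ 71577 Q71577 (allL N71577 (tt N104871 (iv1 F447736)) (tt N68101 (iv0 F380015)) (tt N90516 (iv2 F389917)) (tt N39515 F220247) (tt N70928 F220248) (tt N78506 (iv5 F358118)) (tt N39514 (iv6 D137073)) (tt N84655 (iv7 F370067)))
theorem Q71579 : ∀ i, i < 71579 → P i := stepQ 71578 Q71578 (allL N71578 (tt N106691 D209900) (tt N106692 D209901) (tt N39524 F220249) (tt N78506 F358386) (tt N106693 D209902) (tt N39515 (iv5 D137074)) (tt N78503 (iv6 F358387)) (tt N97623 (iv7 F417647)))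
theorem Q71580 : ∀ i, i < 71580 → P i := stepQ 71579 Q71579 (allL N71579 (tt N106468 (iv1 F454582)) (tt N105996 (iv0 F452680)) (tt N102749 F438480) (tt N96056 (iv3 F410837)) (tt N39517 (iv4 D137075)) (tt N54793 F364746) (tt N90725 (iv6 F390652)) (tt N105994 (iv7 F452666)))
theorem Q71581 : ∀ i, i < 71581 → P i := stepQ 71580 Q71580 (allL N71580 (tt N71819 (iv1 F220923)) (tt N67126 F220922) (tt N71821 F220895) (tt N96058 (iv3 F410844)) (tt N106694 D209903) (tt N39517 (iv5 D137076)) (tt N106695 D209904) (tt N71820 (iv7 F220899)))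
theorem Q71582 : ∀ i, i < 71582 → P i := stepQ 71581 Q71581 (allL N71581 (tt N74323 (iv1 F410803)) (tt N74086 F410802) (tt N96049 (iv2 F410797)) (tt N39518 (iv3 D137078)) (tt N94397 (iv4 F410804)) (tt N106696 D209905) (tt N95386 (iv6 F455318)) (tt N105995 (iv7 F452673)))
theorem Q71583 : ∀ i, i < 71583 → P i := stepQ 71582 Q71582 (allL N71582 (tt N105996 (iv1 F452682)) (tt N106468 F454583) (tt N105994 (iv2 F452664)) (tt N71947 (iv3 F361812)) (tt N39518 (iv4 D137079)) (tt N54792 F361813) (tt N106697 D209906) (tt N102749 (iv7 F438478)))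
theorem Q71584 : ∀ i, i < 71584 → P i := stepQ 71583 Q71583 (allL N71583 (tt N67126 (iv1 F220921)) (tt N71819 F220924) (tt N71820 F220897) (tt N106696 (iv3 F455314)) (tt N106698 D209907) (tt N39518 (iv5 D137080)) (tt N106699 D209908) (tt N71821 F220896))
theorem Q71585 : ∀ i, i < 71585 → P i := stepQ 71584 Q71584 (allL N71584 (tt N74068 F389959) (tt N90576 F390152) (tt N90574 (iv2 F390148)) (tt N95386 F455320) (tt N106697 (iv4 F455327)) (tt N106700 D209909) (tt N39518 (iv6 D137081)) (tt N90573 F390146))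
theorem Q71586 : ∀ i, i < 71586 → P i := stepQ 71585 Q71585 (allL N71585 (tt N91098 F391913) (tt N91104 (iv0 F391949)) (tt N39520 F220250) (tt N82610 F340526) (tt N106701 D209910) (tt N39519 (iv5 D137082)) (tt N88369 (iv6 F382767)) (tt N82607 (iv7 F340525)))
theorem Q71587 : ∀ i, i < 71587 → P i := stepQ 71586 Q71586 (allL N71586 (tt N58580 (iv1 F390602)) (tt N90710 F390601) (tt N39521 F220251) (tt N90516 (iv3 F389918)) (tt N39550 F220252) (tt N106702 D209911) (tt N39519 (iv6 D137083)) (tt N90789 (iv7 F390876)))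
theorem Q71588 : ∀ i, i < 71588 → P i := stepQ 71587 Q71587 (allL N71587 (tt N82607 F340521) (tt N39520 (iv0 D137084)) (tt N91098 (iv2 F391909)) (tt N52126 F340519) (tt N106703 D209912) (tt N39658 F340520) (tt N93113 (iv6 F399541)) (tt N91104 (iv7 F391948)))
theorem Q71589 : ∀ i, i < 71589 → P i := stepQ 71588 Q71588 (allL N71588 (tt N39520 (iv1 D137085)) (tt N82607 F340527) (tt N91104 (iv2 F391946)) (tt N106704 D209913) (tt N106705 D209914) (tt N39659 F221261) (tt N106706 D209915) (tt N91098 (iv7 F391911)))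
theorem Q71590 : ∀ i, i < 71590 → P i := stepQ 71589 Q71589 (allL N71589 (tt N106707 D209916) (tt N106708 D209917) (tt N106701 (iv2 F455332)) (tt N103206 (iv3 F440570)) (tt N39520 (iv4 D137086)) (tt N106709 D209918) (tt N106710 D209919) (tt N103206 (iv7 F440571)))
theorem Q71591 : ∀ i, i < 71591 → P i := stepQ 71590 Q71590 (allL N71590 (tt N88368 (iv1 F382761)) (tt N88367 F382768) (tt N88369 (iv2 F382765)) (tt N39522 F220253) (tt N106710 (iv4 F455350)) (tt N106711 D209920) (tt N39520 (iv6 D137087)) (tt N88360 (iv7 F382736)))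
theorem Q71592 : ∀ i, i < 71592 → P i := stepQ 71591 Q71591 (allL N71591 (tt N90789 F390878) (tt N39521 (iv0 D137088)) (tt N58580 (iv2 F352924)) (tt N106712 D209921) (tt N106713 D209922) (tt N81038 (iv5 F352925)) (tt N58576 F352923) (tt N90710 (iv7 F390599)))
theorem Q71593 : ∀ i, i < 71593 → P i := stepQ 71592 Q71592 (allL N71592 (tt N39521 (iv1 D137089)) (tt N90789 (iv0 F390877)) (tt N90710 (iv2 F390598)) (tt N58589 (iv3 F352927)) (tt N106714 D209923) (tt N93819 F402034) (tt N60162 (iv6 F352894)) (tt N58580 F352926))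
theorem Q71594 : ∀ i, i < 71594 → P i := stepQ 71593 Q71593 (allL N71593 (tt N106715 D209924) (tt N90982 (iv0 F391461)) (tt N106702 (iv2 F455333)) (tt N39524 F220254) (tt N58248 F407246) (tt N39521 (iv5 D137090)) (tt N106711 (iv6 F455353)) (tt N106716 D209925))
theorem Q71595 : ∀ i, i < 71595 → P i := stepQ 71594 Q71594 (allL N71594 (tt N90710 F390600) (tt N58580 (iv0 F352907)) (tt N90789 (iv2 F390873)) (tt N39525 F220255) (tt N39558 F220256) (tt N106716 (iv5 F455380)) (tt N74197 (iv6 F226961)) (tt N39521 (iv7 D137091)))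
theorem Q71596 : ∀ i, i < 71596 → P i := stepQ 71595 Q71595 (allL N71595 (tt N84674 (iv1 F370161)) (tt N39522 (iv0 D137092)) (tt N88340 F382649) (tt N79875 (iv3 F377362)) (tt N41165 F350535) (tt N79874 F377361) (tt N106717 D209926) (tt N88341 (iv7 F382652)))
theorem Q71597 : ∀ i, i < 71597 → P i := stepQ 71596 Q71596 (allL N71596 (tt N39522 (iv1 D137093)) (tt N84674 (iv0 F370160)) (tt N88341 F382656) (tt N106718 D209927) (tt N41166 F365052) (tt N106719 D209928) (tt N106720 D209929) (tt N88340 F382650))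
theorem Q71598 : ∀ i, i < 71598 → P i := stepQ 71597 Q71597 (allL N71597 (tt N78754 (iv1 F360298)) (tt N82475 F379232) (tt N78503 F358388) (tt N106711 (iv3 F455352)) (tt N79352 F360299) (tt N39522 (iv5 D137094)) (tt N39524 F220257) (tt N82474 (iv7 F358389)))
theorem Q71599 : ∀ i, i < 71599 → P i := stepQ 71598 Q71598 (allL N71598 (tt N88341 (iv1 F382651)) (tt N88340 F382648) (tt N84674 (iv2 F370157)) (tt N88360 (iv3 F382735)) (tt N84672 (iv4 F370145)) (tt N82474 F358390) (tt N84672 F370151) (tt N39522 (iv7 D137095)))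
theorem Q71600 : ∀ i, i < 71600 → P i := stepQ 71599 Q71599 (allL N71599 (tt N99236 F423802) (tt N74089 (iv0 F408077)) (tt N97038 (iv2 F415145)) (tt N39523 (iv3 D137096)) (tt N98778 (iv4 F422282)) (tt N106721 D209930) (tt N95383 (iv6 F408076)) (tt N62670 F220258))
theorem Q71601 : ∀ i, i < 71601 → P i := stepQ 71600 Q71600 (allL N71600 (tt N97622 (iv1 F417643)) (tt N97617 (iv0 F417616)) (tt N62668 F220259) (tt N106721 (iv3 F455399)) (tt N97041 F415180) (tt N39523 (iv5 D137097)) (tt N106722 D209931) (tt N62671 F220260))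
theorem Q71602 : ∀ i, i < 71602 → P i := stepQ 71601 Q71601 (allL N71601 (tt N97623 (iv1 F417649)) (tt N39524 (iv0 D137098)) (tt N106691 (iv2 F455297)) (tt N78746 F407250) (tt N106723 D209932) (tt N94452 F404525) (tt N106724 D209933) (tt N106692 (iv7 F455299)))
theorem Q71603 : ∀ i, i < 71603 → P i := stepQ 71602 Q71602 (allL N71602 (tt N39524 (iv1 D137099)) (tt N97623 (iv0 F417648)) (tt N106692 F455304) (tt N106725 D209934) (tt N92039 (iv4 F395486)) (tt N66539 (iv5 F220261)) (tt N92037 F395481) (tt N106691 F455296))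
theorem Q71604 : ∀ i, i < 71604 → P i := stepQ 71603 Q71603 (allL N71603 (tt N99711 (iv1 F425861)) (tt N65757 (iv0 F394723)) (tt N106693 (iv2 F455305)) (tt N102353 (iv3 F436861)) (tt N39524 (iv4 D137100)) (tt N97611 F417596) (tt N79352 (iv6 F360301)) (tt N106726 D209935))
theorem Q71605 : ∀ i, i < 71605 → P i := stepQ 71604 Q71604 (allL N71604 (tt N106692 (iv1 F455298)) (tt N106691 F455295) (tt N97623 (iv2 F417644)) (tt N106716 (iv3 F455378)) (tt N106726 (iv4 F455427)) (tt N39525 F220262) (tt N91804 F394493) (tt N39524 (iv7 D137101)))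
theorem Q71606 : ∀ i, i < 71606 → P i := stepQ 71605 Q71605 (allL N71605 (tt N83210 F358794) (tt N93771 (iv0 F401844)) (tt N81067 (iv2 F354164)) (tt N39529 (iv3 D137102)) (tt N58986 F220264) (tt N92077 (iv5 F395652)) (tt N81054 F354163) (tt N71334 F220263))
theorem Q71607 : ∀ i, i < 71607 → P i := stepQ 71606 Q71606 (allL N71606 (tt N106569 (iv1 F454898)) (tt N71400 F220272) (tt N60853 F220269) (tt N106727 D209936) (tt N39529 (iv4 D137103)) (tt N50260 F220271) (tt N106728 D209937) (tt N71335 F220270))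
theorem Q71608 : ∀ i, i < 71608 → P i := stepQ 71607 Q71607 (allL N71607 (tt N67024 F354149) (tt N47603 F354150) (tt N71337 F220273) (tt N81054 (iv3 F354155)) (tt N106728 (iv4 F455438)) (tt N67016 F354152) (tt N39529 (iv6 D137104)) (tt N81062 (iv7 F354156)))
theorem Q71609 : ∀ i, i < 71609 → P i := stepQ 71608 Q71608 (allL N71608 (tt N71400 F220278) (tt N106569 (iv0 F454897)) (tt N71335 F220275) (tt N66272 (iv3 F220279)) (tt N39530 (iv4 D137106)) (tt N55709 F220276) (tt N106729 D209938) (tt N60853 F220277))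
theorem Q71610 : ∀ i, i < 71610 → P i := stepQ 71609 Q71609 (allL N71609 (tt N102685 F438199) (tt N106730 D209939) (tt N71336 F220280) (tt N103760 (iv3 F442708)) (tt N106729 (iv4 F455443)) (tt N77463 (iv5 F352360)) (tt N39530 (iv6 D137107)) (tt N98118 (iv7 F419530)))
theorem Q71611 : ∀ i, i < 71611 → P i := stepQ 71610 Q71610 (allL N71610 (tt N53377 (iv1 F337642)) (tt N39532 (iv0 D137109)) (tt N54349 (iv2 F337640)) (tt N77327 (iv3 F337641)) (tt N90481 (iv4 F389802)) (tt N53752 F337639) (tt N106731 D209940) (tt N54350 (iv7 F337646)))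
theorem Q71612 : ∀ i, i < 71612 → P i := stepQ 71611 Q71611 (allL N71611 (tt N39532 (iv1 D137110)) (tt N53377 F337649) (tt N54350 F337648) (tt N82045 F337651) (tt N90482 (iv4 F389805)) (tt N80969 (iv5 F337650)) (tt N71098 F337653) (tt N54349 F337647))
theorem Q71613 : ∀ i, i < 71613 → P i := stepQ 71612 Q71612 (allL N71612 (tt N100398 (iv1 F428799)) (tt N106439 (iv0 F454444)) (tt N68536 (iv2 F364726)) (tt N39535 (iv3 D137117)) (tt N72884 (iv4 F223502)) (tt N63575 F333407) (tt N106732 D209941) (tt N66370 F220288))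
theorem Q71614 : ∀ i, i < 71614 → P i := stepQ 71613 Q71613 (allL N71613 (tt N47957 F331939) (tt N43985 F331940) (tt N66368 F220289) (tt N63575 (iv3 F333406)) (tt N76103 F331941) (tt N39535 (iv5 D137118)) (tt N46094 F331942) (tt N66371 F220290))
theorem Q71615 : ∀ i, i < 71615 → P i := stepQ 71614 Q71614 (allL N71614 (tt N67735 (iv1 F220294)) (tt N67733 (iv0 F220295)) (tt N66369 F220291) (tt N106732 (iv3 F455460)) (tt N39537 F220292) (tt N94024 (iv5 F402855)) (tt N39535 (iv6 D137119)) (tt N57335 F220293))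
theorem Q71616 : ∀ i, i < 71616 → P i := stepQ 71615 Q71615 (allL N71615 (tt N79766 F347060) (tt N71024 (iv0 F220305)) (tt N71158 F220301) (tt N44365 F220302) (tt N77610 F347059) (tt N39539 (iv5 D137122)) (tt N44363 F220303) (tt N70964 F220304))
theorem Q71617 : ∀ i, i < 71617 → P i := stepQ 71616 Q71616 (allL N71616 (tt N71024 F220310) (tt N79766 F347064) (tt N70964 F220306) (tt N56387 F220307) (tt N66427 (iv4 F220311)) (tt N39540 (iv5 D137123)) (tt N56350 F220308) (tt N71158 F220309))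
theorem Q71618 : ∀ i, i < 71618 → P i := stepQ 71617 Q71617 (allL N71617 (tt N39542 (iv1 D137125)) (tt N73123 F223847) (tt N106005 (iv2 F452712)) (tt N98853 (iv3 F422567)) (tt N72958 F223848) (tt N82790 F360192) (tt N106733 D209942) (tt N90391 (iv7 F422573)))
theorem Q71619 : ∀ i, i < 71619 → P i := stepQ 71618 Q71618 (allL N71618 (tt N90391 (iv1 F389487)) (tt N106005 (iv0 F452715)) (tt N39542 (iv2 D137126)) (tt N62234 F220312) (tt N58075 (iv4 F220313)) (tt N73836 (iv5 F225943)) (tt N90225 (iv6 F388981)) (tt N73123 (iv7 F223846)))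
theorem Q71620 : ∀ i, i < 71620 → P i := stepQ 71619 Q71619 (allL N71619 (tt N57865 F220316) (tt N58077 F220318) (tt N58075 F220314) (tt N73111 (iv3 F223827)) (tt N39542 (iv4 D137127)) (tt N93306 F400336) (tt N90354 (iv6 F389405)) (tt N58076 F220315))
theorem Q71621 : ∀ i, i < 71621 → P i := stepQ 71620 Q71620 (allL N71620 (tt N48640 F360827) (tt N69734 F349665) (tt N73836 (iv2 F225942)) (tt N39544 F220319) (tt N66051 F220911) (tt N39542 (iv5 D137128)) (tt N105473 (iv6 F450399)) (tt N71842 (iv7 F220892)))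
theorem Q71622 : ∀ i, i < 71622 → P i := stepQ 71621 Q71621 (allL N71621 (tt N39546 (iv1 F220322)) (tt N39543 (iv0 D137130)) (tt N90787 (iv2 F390865)) (tt N91266 (iv3 F392454)) (tt N71384 F220321) (tt N106734 D209943) (tt N84272 (iv6 F372069)) (tt N99696 (iv7 F425781)))
theorem Q71623 : ∀ i, i < 71623 → P i := stepQ 71622 Q71622 (allL N71622 (tt N39543 (iv1 D137131)) (tt N39546 F220323) (tt N99696 (iv2 F425783)) (tt N41141 F390837) (tt N97715 (iv4 F418039)) (tt N54898 F390838) (tt N106735 D209944) (tt N90787 F390867))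
theorem Q71624 : ∀ i, i < 71624 → P i := stepQ 71623 Q71623 (allL N71623 (tt N72969 F223670) (tt N72967 F223668) (tt N41150 F220324) (tt N39543 (iv3 D137132)) (tt N73111 (iv4 F223828)) (tt N98155 (iv5 F419750)) (tt N90729 (iv6 F390668)) (tt N91402 (iv7 F392998)))
theorem Q71625 : ∀ i, i < 71625 → P i := stepQ 71624 Q71624 (allL N71624 (tt N89305 F386006) (tt N91096 F391904) (tt N73669 F225391) (tt N98155 (iv3 F419754)) (tt N106736 D209945) (tt N39543 (iv5 D137133)) (tt N105000 (iv6 F448309)) (tt N91094 (iv7 F391901)))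
theorem Q71626 : ∀ i, i < 71626 → P i := stepQ 71625 Q71625 (allL N71625 (tt N87662 (iv1 F380033)) (tt N91111 F391975) (tt N71844 F220903) (tt N66055 (iv3 F220916)) (tt N39544 (iv4 D137137)) (tt N97463 (iv5 F416967)) (tt N106737 D209946) (tt N67271 (iv7 F333064)))
theorem Q71627 : ∀ i, i < 71627 → P i := stepQ 71626 Q71626 (allL N71626 (tt N84961 F374929) (tt N106556 (iv0 F454847)) (tt N71845 F220904) (tt N105473 (iv3 F450397)) (tt N106737 (iv4 F455483)) (tt N84320 F368890) (tt N39544 (iv6 D137138)) (tt N105470 (iv7 F450384)))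
theorem Q71628 : ∀ i, i < 71628 → P i := stepQ 71627 Q71627 (allL N71627 (tt N89168 F385423) (tt N95522 (iv0 F408470)) (tt N73125 (iv2 F223855)) (tt N39548 F220328) (tt N73122 (iv4 F223843)) (tt N98499 (iv5 F421134)) (tt N39545 (iv6 D137143)) (tt N90577 (iv7 F390154)))
theorem Q71629 : ∀ i, i < 71629 → P i := stepQ 71628 Q71628 (allL N71628 (tt N91096 (iv1 F391905)) (tt N89305 (iv0 F386004)) (tt N91094 F391899) (tt N41148 F220329) (tt N106738 D209947) (tt N39546 (iv5 D137144)) (tt N105691 (iv6 F451277)) (tt N73669 (iv7 F225390)))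
theorem Q71630 : ∀ i, i < 71630 → P i := stepQ 71629 Q71629 (allL N71629 (tt N89226 F386005) (tt N90590 F390180) (tt N90580 (iv2 F390162)) (tt N41149 F220330) (tt N39548 F220331) (tt N106739 D209948) (tt N39546 (iv6 D137145)) (tt N90578 (iv7 F390156)))
theorem Q71631 : ∀ i, i < 71631 → P i := stepQ 71630 Q71630 (allL N71630 (tt N91111 (iv1 F391976)) (tt N87662 (iv0 F380032)) (tt N67271 (iv2 F333062)) (tt N105113 (iv3 F448856)) (tt N39547 (iv4 D137146)) (tt N97464 F416968) (tt N67170 (iv6 F352547)) (tt N71844 F220902))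
theorem Q71632 : ∀ i, i < 71632 → P i := stepQ 71631 Q71631 (allL N71631 (tt N87670 F380086) (tt N105463 (iv0 F450358)) (tt N67269 (iv2 F333059)) (tt N73840 (iv3 F225953)) (tt N67170 F352543) (tt N50591 F352555) (tt N39547 (iv6 D137147)) (tt N67265 (iv7 F352545)))
theorem Q71633 : ∀ i, i < 71633 → P i := stepQ 71632 Q71632 (allL N71632 (tt N90656 (iv1 F390424)) (tt N50604 (iv0 F371053)) (tt N86298 (iv2 F375739)) (tt N98499 F421135) (tt N84075 (iv4 F368024)) (tt N39548 (iv5 D137150)) (tt N50591 (iv6 F352558)) (tt N90579 (iv7 F390159)))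
theorem Q71634 : ∀ i, i < 71634 → P i := stepQ 71633 Q71633 (allL N71633 (tt N91099 (iv1 F391916)) (tt N88671 (iv0 F383810)) (tt N39553 F220332) (tt N92736 F398034) (tt N39549 (iv4 D137152)) (tt N106740 D209949) (tt N88770 (iv6 F384092)) (tt N106011 (iv7 F452730)))
theorem Q71635 : ∀ i, i < 71635 → P i := stepQ 71634 Q71634 (allL N71634 (tt N49599 (iv1 F352448)) (tt N82777 F352447) (tt N39554 F220333) (tt N97930 (iv3 F418839)) (tt N88770 F384090) (tt N106741 D209950) (tt N39549 (iv6 D137153)) (tt N82776 (iv7 F346642)))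
theorem Q71636 : ∀ i, i < 71636 → P i := stepQ 71635 Q71635 (allL N71635 (tt N39558 (iv1 F220337)) (tt N39550 (iv0 D137154)) (tt N39555 F352858) (tt N100257 F428151) (tt N99702 (iv4 F425809)) (tt N90550 F390060) (tt N89222 (iv6 F385661)) (tt N39556 F352859))
theorem Q71637 : ∀ i, i < 71637 → P i := stepQ 71636 Q71636 (allL N71636 (tt N53964 (iv1 F361951)) (tt N51124 F361950) (tt N39557 F220335) (tt N90498 (iv3 F389834)) (tt N89551 (iv4 F390045)) (tt N39550 (iv5 D137156)) (tt N106741 (iv6 F455497)) (tt N53963 F346635))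
theorem Q71638 : ∀ i, i < 71638 → P i := stepQ 71637 Q71637 (allL N71637 (tt N97506 (iv1 F417150)) (tt N82790 (iv0 F360191)) (tt N106742 D209951) (tt N39551 (iv3 D137159)) (tt N72068 F221306) (tt N39668 F221251) (tt N94914 (iv6 F406312)) (tt N83297 F345440))
theorem Q71639 : ∀ i, i < 71639 → P i := stepQ 71638 Q71638 (allL N71638 (tt N90149 F388697) (tt N90147 (iv0 F388688)) (tt N101886 (iv2 F434821)) (tt N94914 F406315) (tt N97449 (iv4 F416938)) (tt N82420 F345434) (tt N39551 (iv6 D137162)) (tt N54265 (iv7 F345435)))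
theorem Q71640 : ∀ i, i < 71640 → P i := stepQ 71639 Q71639 (allL N71639 (tt N95525 (iv1 F408486)) (tt N95527 (iv0 F408497)) (tt N40913 F221255) (tt N39552 (iv3 D137164)) (tt N72021 F221256) (tt N39670 F221257) (tt N54263 (iv6 F349702)) (tt N40915 F221258))
theorem Q71641 : ∀ i, i < 71641 → P i := stepQ 71640 Q71640 (allL N71640 (tt N106011 (iv1 F452732)) (tt N39553 (iv0 D137168)) (tt N91099 (iv2 F391914)) (tt N92704 (iv3 F418044)) (tt N88673 F383838) (tt N106743 D209952) (tt N82494 F383840) (tt N88671 (iv7 F383842)))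
theorem Q71642 : ∀ i, i < 71642 → P i := stepQ 71641 Q71641 (allL N71641 (tt N39553 (iv1 D137169)) (tt N106011 (iv0 F452731)) (tt N88671 (iv2 F383806)) (tt N102040 (iv3 F435472)) (tt N83982 (iv4 F367711)) (tt N102038 (iv5 F435467)) (tt N54266 F367712) (tt N91099 (iv7 F391915)))
theorem Q71643 : ∀ i, i < 71643 → P i := stepQ 71642 Q71642 (allL N71642 (tt N106744 D209953) (tt N106745 D209954) (tt N106740 (iv2 F455492)) (tt N102844 (iv3 F438903)) (tt N106746 D209955) (tt N39553 (iv5 D137170)) (tt N106747 D209956) (tt N106013 (iv7 F452738)))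
theorem Q71644 : ∀ i, i < 71644 → P i := stepQ 71643 Q71643 (allL N71643 (tt N84020 (iv1 F384097)) (tt N88772 (iv0 F384096)) (tt N88770 (iv2 F384091)) (tt N95177 (iv3 F407317)) (tt N39554 F220342) (tt N92679 (iv5 F397860)) (tt N39553 (iv6 D137171)) (tt N88769 F384087))
theorem Q71645 : ∀ i, i < 71645 → P i := stepQ 71644 Q71644 (allL N71644 (tt N53954 (iv1 F352527)) (tt N97704 (iv0 F417984)) (tt N106741 (iv2 F455496)) (tt N39561 F220343) (tt N106748 D209957) (tt N39554 (iv5 D137174)) (tt N39557 F220344) (tt N106749 D209958))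
theorem Q71646 : ∀ i, i < 71646 → P i := stepQ 71645 Q71645 (allL N71645 (tt N82777 F352445) (tt N49599 F352446) (tt N82776 F346641) (tt N39562 F220345) (tt N88769 (iv4 F384086)) (tt N106749 (iv5 F455528)) (tt N105350 (iv6 F449828)) (tt N39554 (iv7 D137175)))
theorem Q71647 : ∀ i, i < 71647 → P i := stepQ 71646 Q71646 (allL N71646 (tt N90388 F389479) (tt N106733 (iv0 F455466)) (tt N106750 D209959) (tt N39555 (iv3 D137177)) (tt N57230 (iv4 F360844)) (tt N96207 (iv5 F411494)) (tt N78340 F368240) (tt N90339 F389385))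
theorem Q71648 : ∀ i, i < 71648 → P i := stepQ 71647 Q71647 (allL N71647 (tt N90784 F390852) (tt N106735 (iv0 F455476)) (tt N99702 (iv2 F425806)) (tt N57233 F360843) (tt N39555 (iv4 D137178)) (tt N106751 D209960) (tt N81616 (iv6 F349521)) (tt N90714 (iv7 F390612)))
theorem Q71649 : ∀ i, i < 71649 → P i := stepQ 71648 Q71648 (allL N71648 (tt N89212 F385619) (tt N90552 F390068) (tt N90550 (iv2 F390061)) (tt N96207 (iv3 F411493)) (tt N94600 (iv4 F405132)) (tt N39555 (iv5 D137179)) (tt N86240 F375528) (tt N90549 F390057))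
theorem Q71650 : ∀ i, i < 71650 → P i := stepQ 71649 Q71649 (allL N71649 (tt N95526 F408492) (tt N95614 F408895) (tt N73174 (iv2 F353385)) (tt N39556 (iv3 D137182)) (tt N48505 F352808) (tt N106752 D209961) (tt N48504 F352809) (tt N100257 (iv7 F428148)))
theorem Q71651 : ∀ i, i < 71651 → P i := stepQ 71650 Q71650 (allL N71650 (tt N106735 F455477) (tt N90784 F390853) (tt N90714 (iv2 F390610)) (tt N78256 (iv3 F352807)) (tt N39556 (iv4 D137183)) (tt N96820 (iv5 F414114)) (tt N78255 F352810) (tt N99702 (iv7 F425808)))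
theorem Q71652 : ∀ i, i < 71652 → P i := stepQ 71651 Q71651 (allL N71651 (tt N90552 (iv1 F390069)) (tt N89212 (iv0 F385618)) (tt N90549 F390056) (tt N106752 (iv3 F455539)) (tt N93264 (iv4 F400192)) (tt N39556 (iv5 D137184)) (tt N93263 (iv6 F400189)) (tt N90550 (iv7 F390059)))
theorem Q71653 : ∀ i, i < 71653 → P i := stepQ 71652 Q71652 (allL N71652 (tt N53963 (iv1 F346651)) (tt N39557 (iv0 D137186)) (tt N53964 (iv2 F346638)) (tt N83280 (iv3 F346648)) (tt N106753 D209962) (tt N54382 (iv5 F346652)) (tt N51123 (iv6 F346650)) (tt N51124 F346647))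
theorem Q71654 : ∀ i, i < 71654 → P i := stepQ 71653 Q71653 (allL N71653 (tt N89554 F391233) (tt N53966 F391234) (tt N89551 F390046) (tt N106754 D209963) (tt N39557 (iv4 D137188)) (tt N93340 F402517) (tt N106748 (iv6 F455524)) (tt N89552 (iv7 F390038)))
theorem Q71655 : ∀ i, i < 71655 → P i := stepQ 71654 Q71654 (allL N71654 (tt N51124 F361948) (tt N53964 F361949) (tt N53963 (iv2 F346636)) (tt N39572 F220348) (tt N89552 F390036) (tt N39558 F220349) (tt N106755 D209964) (tt N39557 (iv7 D137189)))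
theorem Q71656 : ∀ i, i < 71656 → P i := stepQ 71655 Q71655 (allL N71655 (tt N66323 F360532) (tt N66222 (iv0 F360533)) (tt N66320 F362708) (tt N71771 F345851) (tt N39559 (iv4 D137192)) (tt N71770 (iv5 F362158)) (tt N104775 (iv6 F447208)) (tt N66321 (iv7 F362707)))
theorem Q71657 : ∀ i, i < 71657 → P i := stepQ 71656 Q71656 (allL N71656 (tt N106756 D209965) (tt N59171 (iv0 F411140)) (tt N106042 (iv2 F452858)) (tt N40626 F350286) (tt N103174 (iv4 F440412)) (tt N39559 (iv5 D137193)) (tt N53235 (iv6 F350288)) (tt N106043 (iv7 F452870)))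
theorem Q71658 : ∀ i, i < 71658 → P i := stepQ 71657 Q71657 (allL N71657 (tt N49577 (iv1 F350293)) (tt N49588 (iv0 F350292)) (tt N49586 (iv2 F350290)) (tt N92145 (iv3 F395948)) (tt N104775 (iv4 F447206)) (tt N50543 F350289) (tt N39559 (iv6 D137194)) (tt N49585 (iv7 F350291)))
theorem Q71659 : ∀ i, i < 71659 → P i := stepQ 71658 Q71658 (allL N71658 (tt N106513 F454728) (tt N82786 (iv0 F398044)) (tt N92141 (iv2 F395933)) (tt N39560 (iv3 D137196)) (tt N103713 (iv4 F442557)) (tt N99164 (iv5 F423548)) (tt N105071 F448652) (tt N106041 (iv7 F452854)))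
theorem Q71660 : ∀ i, i < 71660 → P i := stepQ 71659 Q71659 (allL N71659 (tt N66222 (iv1 F362712)) (tt N66323 F362713) (tt N66321 (iv2 F362711)) (tt N66311 F364306) (tt N39560 (iv4 D137197)) (tt N66384 (iv5 F364307)) (tt N67973 F394435) (tt N66320 F362710))
theorem Q71661 : ∀ i, i < 71661 → P i := stepQ 71660 Q71660 (allL N71660 (tt N59171 F386817) (tt N106756 F455559) (tt N106043 (iv2 F452867)) (tt N99164 F423549) (tt N106757 D209966) (tt N39560 (iv5 D137198)) (tt N106758 D209967) (tt N106042 (iv7 F452861)))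
theorem Q71662 : ∀ i, i < 71662 → P i := stepQ 71661 Q71661 (allL N71661 (tt N106047 (iv1 F452893)) (tt N39561 (iv0 D137200)) (tt N106044 F452877) (tt N74979 (iv3 F390013)) (tt N106759 D209968) (tt N92136 (iv5 F395905)) (tt N75833 F390012) (tt N106045 (iv7 F452881)))
theorem Q71663 : ∀ i, i < 71663 → P i := stepQ 71662 Q71662 (allL N71662 (tt N39561 (iv1 D137201)) (tt N106047 F452892) (tt N106045 (iv2 F452885)) (tt N105133 (iv3 F448936)) (tt N106760 D209969) (tt N71802 (iv5 F220622)) (tt N105132 F448934) (tt N106044 (iv7 F452879)))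
theorem Q71664 : ∀ i, i < 71664 → P i := stepQ 71663 Q71663 (allL N71663 (tt N106761 D209970) (tt N74223 (iv0 F408545)) (tt N106046 (iv2 F452887)) (tt N106762 D209971) (tt N39561 (iv4 D137202)) (tt N106763 D209972) (tt N39571 F220352) (tt N106764 D209973))
theorem Q71665 : ∀ i, i < 71665 → P i := stepQ 71664 Q71664 (allL N71664 (tt N106045 (iv1 F452880)) (tt N106044 F452886) (tt N106047 (iv2 F452890)) (tt N106749 (iv3 F455527)) (tt N106764 (iv4 F455586)) (tt N39562 F220353) (tt N106765 D209974) (tt N39561 (iv7 D137203)))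
theorem Q71666 : ∀ i, i < 71666 → P i := stepQ 71665 Q71665 (allL N71665 (tt N99539 (iv1 F425048)) (tt N39563 (iv0 D137204)) (tt N89120 (iv2 F385233)) (tt N95614 (iv3 F408892)) (tt N88381 F382829) (tt N77682 (iv5 F382830)) (tt N88382 (iv6 F382833)) (tt N101109 (iv7 F431715)))
theorem Q71667 : ∀ i, i < 71667 → P i := stepQ 71666 Q71666 (allL N71666 (tt N89120 (iv1 F385236)) (tt N101109 F431714) (tt N39563 (iv2 D137206)) (tt N106049 (iv3 F452898)) (tt N99423 (iv4 F424505)) (tt N78178 (iv5 F361591)) (tt N73912 F361592) (tt N99539 (iv7 F425046)))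
theorem Q71668 : ∀ i, i < 71668 → P i := stepQ 71667 Q71667 (allL N71667 (tt N73949 F361533) (tt N99538 F425034) (tt N78178 F361534) (tt N39565 F220354) (tt N39941 F361535) (tt N39563 (iv5 D137207)) (tt N39940 F361536) (tt N40600 F361537))
theorem Q71669 : ∀ i, i < 71669 → P i := stepQ 71668 Q71668 (allL N71668 (tt N62944 F328184) (tt N62946 F328185) (tt N73912 F328186) (tt N39566 F220355) (tt N99424 (iv4 F424512)) (tt N40827 (iv5 F328574)) (tt N39563 (iv6 D137208)) (tt N72698 F328187))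
theorem Q71670 : ∀ i, i < 71670 → P i := stepQ 71669 Q71669 (allL N71669 (tt N58595 F220360) (tt N58591 (iv0 F220362)) (tt N57236 F220356) (tt N59590 F220357) (tt N71051 F220359) (tt N39564 (iv5 D137209)) (tt N65693 F220361) (tt N59588 F220358))
theorem Q71671 : ∀ i, i < 71671 → P i := stepQ 71670 Q71670 (allL N71670 (tt N60893 (iv1 F328269)) (tt N60891 (iv0 F328474)) (tt N57237 F220363) (tt N66348 F220364) (tt N39566 F220365) (tt N66064 F220366) (tt N39564 (iv6 D137210)) (tt N58828 F220367))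
theorem Q71672 : ∀ i, i < 71672 → P i := stepQ 71671 Q71671 (allL N71671 (tt N39568 (iv1 F220371)) (tt N39565 (iv0 D137211)) (tt N72142 (iv2 F221464)) (tt N96235 (iv3 F411640)) (tt N59201 F361572) (tt N71026 F220370) (tt N90539 (iv6 F390009)) (tt N95600 (iv7 F408846)))
theorem Q71673 : ∀ i, i < 71673 → P i := stepQ 71672 Q71672 (allL N71672 (tt N39565 (iv1 D137212)) (tt N39568 F220373) (tt N95600 (iv2 F408844)) (tt N90552 (iv3 F390065)) (tt N59200 (iv4 F361562)) (tt N71860 F220762) (tt N106766 D209975) (tt N72142 (iv7 F221465)))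
theorem Q71674 : ∀ i, i < 71674 → P i := stepQ 71673 Q71673 (allL N71673 (tt N95080 F406969) (tt N93811 F408873) (tt N106050 (iv2 F452904)) (tt N47730 F361560) (tt N39565 (iv4 D137213)) (tt N106096 (iv5 F453091)) (tt N72341 F361561) (tt N73760 (iv7 F361559)))
theorem Q71675 : ∀ i, i < 71675 → P i := stepQ 71674 Q71674 (allL N71674 (tt N59085 F338225) (tt N59080 F338226) (tt N80016 F329016) (tt N39940 F338227) (tt N72341 F338228) (tt N41811 F329017) (tt N39565 (iv6 D137214)) (tt N78174 F338229))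
theorem Q71676 : ∀ i, i < 71676 → P i := stepQ 71675 Q71675 (allL N71675 (tt N39567 (iv1 D137216)) (tt N106049 F452903) (tt N106048 (iv2 F453664)) (tt N90388 F453666) (tt N106767 D209976) (tt N106768 D209977) (tt N90387 (iv6 F453665)) (tt N106006 F453663))
theorem Q71677 : ∀ i, i < 71677 → P i := stepQ 71676 Q71676 (allL N71676 (tt N106006 F452720) (tt N106048 F452895) (tt N39567 (iv2 D137217)) (tt N99539 (iv3 F425043)) (tt N74640 (iv4 F228455)) (tt N99160 F423528) (tt N90324 (iv6 F389362)) (tt N106049 (iv7 F452901)))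
theorem Q71678 : ∀ i, i < 71678 → P i := stepQ 71677 Q71677 (allL N71677 (tt N96243 F411713) (tt N106769 D209978) (tt N99160 (iv2 F423522)) (tt N39568 F220374) (tt N106678 (iv4 F455249)) (tt N39567 (iv5 D137218)) (tt N59007 (iv6 F361556)) (tt N96211 (iv7 F411512)))
theorem Q71679 : ∀ i, i < 71679 → P i := stepQ 71678 Q71678 (allL N71678 (tt N93811 F408874) (tt N95080 F406970) (tt N73760 F361554) (tt N79182 (iv3 F361555)) (tt N39568 (iv4 D137219)) (tt N101649 (iv5 F433692)) (tt N73759 (iv6 F361553)) (tt N106050 (iv7 F452905)))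
theorem Q71680 : ∀ i, i < 71680 → P i := stepQ 71679 Q71679 (allL N71679 (tt N59172 F361547) (tt N59164 F361548) (tt N40598 F361549) (tt N59007 F361550) (tt N73759 F361551) (tt N71180 F220375) (tt N39568 (iv6 D137220)) (tt N59168 F361552))
theorem Q71681 : ∀ i, i < 71681 → P i := stepQ 71680 Q71680 (allL N71680 (tt N77682 (iv1 F360993)) (tt N77681 (iv0 F360992)) (tt N106770 D209979) (tt N39569 (iv3 D137221)) (tt N42468 F360988) (tt N106260 F453785) (tt N76162 (iv6 F360989)) (tt N76180 F360987))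
theorem Q71682 : ∀ i, i < 71682 → P i := stepQ 71681 Q71681 (allL N71681 (tt N106771 D209980) (tt N106772 D209981) (tt N106052 (iv2 F452908)) (tt N46458 F360991) (tt N39569 (iv4 D137222)) (tt N106773 D209982) (tt N106774 D209983) (tt N106054 (iv7 F452920)))
theorem Q71683 : ∀ i, i < 71683 → P i := stepQ 71682 Q71682 (allL N71682 (tt N106775 D209984) (tt N106776 D209985) (tt N106053 (iv2 F452913)) (tt N76162 F360990) (tt N106774 (iv4 F455626)) (tt N106262 (iv5 F453787)) (tt N39569 (iv6 D137223)) (tt N106777 D209986))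
theorem Q71684 : ∀ i, i < 71684 → P i := stepQ 71683 Q71683 (allL N71683 (tt N106514 F454733) (tt N106768 (iv0 F455600)) (tt N106778 D209987) (tt N39570 (iv3 D137224)) (tt N106779 D209988) (tt N106067 (iv5 F452973)) (tt N54089 F363689) (tt N106051 (iv7 F452907)))
theorem Q71685 : ∀ i, i < 71685 → P i := stepQ 71684 Q71684 (allL N71684 (tt N106772 (iv1 F455613)) (tt N106771 F455610) (tt N106054 (iv2 F452916)) (tt N80570 F354544) (tt N39570 (iv4 D137225)) (tt N80568 (iv5 F354543)) (tt N106780 D209989) (tt N106052 (iv7 F452909)))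
theorem Q71686 : ∀ i, i < 71686 → P i := stepQ 71685 Q71685 (allL N71685 (tt N51117 (iv1 F357576)) (tt N53232 F357578) (tt N53237 F344243) (tt N54089 (iv3 F363688)) (tt N106780 (iv4 F455651)) (tt N51107 F357587) (tt N39570 (iv6 D137226)) (tt N53238 (iv7 F344244)))
theorem Q71687 : ∀ i, i < 71687 → P i := stepQ 71686 Q71686 (allL N71686 (tt N106058 (iv1 F452943)) (tt N39571 (iv0 D137227)) (tt N106055 (iv2 F452928)) (tt N106781 D209990) (tt N102757 F438501) (tt N106782 D209991) (tt N106783 D209992) (tt N106056 (iv7 F452930)))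
theorem Q71688 : ∀ i, i < 71688 → P i := stepQ 71687 Q71687 (allL N71687 (tt N39571 (iv1 D137228)) (tt N106058 F452942) (tt N106056 (iv2 F452933)) (tt N56926 F364415) (tt N72601 (iv4 F364414)) (tt N106784 D209993) (tt N56924 F364416) (tt N106055 (iv7 F452927)))
theorem Q71689 : ∀ i, i < 71689 → P i := stepQ 71688 Q71688 (allL N71688 (tt N58250 F455552) (tt N106785 D209994) (tt N106786 D209995) (tt N39571 (iv3 D137229)) (tt N106754 (iv4 F455549)) (tt N106787 D209996) (tt N106762 (iv6 F455582)) (tt N106788 D209997))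
theorem Q71690 : ∀ i, i < 71690 → P i := stepQ 71689 Q71689 (allL N71689 (tt N95537 (iv1 F408544)) (tt N59202 (iv0 F361570)) (tt N95597 F408830) (tt N106787 (iv3 F455680)) (tt N55446 (iv4 F340596)) (tt N39571 (iv5 D137230)) (tt N55445 F340597) (tt N95596 F408827))
theorem Q71691 : ∀ i, i < 71691 → P i := stepQ 71690 Q71690 (allL N71690 (tt N106056 (iv1 F452929)) (tt N106055 F452925) (tt N106058 (iv2 F452938)) (tt N106788 (iv3 F455685)) (tt N39572 F220376) (tt N95596 F408828) (tt N93859 (iv6 F411091)) (tt N39571 (iv7 D137231)))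
theorem Q71692 : ∀ i, i < 71692 → P i := stepQ 71691 Q71691 (allL N71691 (tt N106789 D209998) (tt N106790 D209999) (tt N106059 (iv2 F452944)) (tt N106755 (iv3 F455554)) (tt N93859 F411092) (tt N106032 (iv5 F452814)) (tt N39572 (iv6 D137232)) (tt N106765 (iv7 F455588)))
theorem Q71693 : ∀ i, i < 71693 → P i := stepQ 71692 Q71692 (allL N71692 (tt N106791 D210000) (tt N106792 D210001) (tt N106793 D210002) (tt N39573 (iv3 D137233)) (tt N93940 (iv4 F402493)) (tt N91719 F424278) (tt N99361 (iv6 F424275)) (tt N94938 F406422))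
theorem Q71694 : ∀ i, i < 71694 → P i := stepQ 71693 Q71693 (allL N71693 (tt N72601 F364413) (tt N102757 F438499) (tt N95608 (iv2 F408866)) (tt N91719 (iv3 F424280)) (tt N106794 D210003) (tt N39573 (iv5 D137234)) (tt N106795 D210004) (tt N94939 (iv7 F406426)))
theorem Q71695 : ∀ i, i < 71695 → P i := stepQ 71694 Q71694 (allL N71694 (tt N76151 (iv1 F353371)) (tt N95515 F408431) (tt N39574 (iv2 D137237)) (tt N72246 F353369) (tt N40492 F220377) (tt N72245 F353370) (tt N106796 D210005) (tt N73241 (iv7 F353368)))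
theorem Q71696 : ∀ i, i < 71696 → P i := stepQ 71695 Q71695 (allL N71695 (tt N73240 (iv1 F353377)) (tt N73239 F353375) (tt N72245 (iv2 F353372)) (tt N39575 F220378) (tt N106797 D210006) (tt N39574 (iv5 D137238)) (tt N72244 F353373) (tt N73238 F353374))
theorem Q71697 : ∀ i, i < 71697 → P i := stepQ 71696 Q71696 (allL N71696 (tt N106798 D210007) (tt N43047 F355816) (tt N106796 (iv2 F455711)) (tt N39576 F220379) (tt N40494 F220380) (tt N62856 (iv5 F329161)) (tt N39574 (iv6 D137239)) (tt N69536 F220381))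
theorem Q71698 : ∀ i, i < 71698 → P i := stepQ 71697 Q71697 (allL N71697 (tt N39578 (iv1 F220383)) (tt N39575 (iv0 D137240)) (tt N72130 (iv2 F221406)) (tt N101747 (iv3 F434154)) (tt N106799 D210008) (tt N71021 F220382) (tt N100028 (iv6 F427276)) (tt N95609 (iv7 F408871)))
theorem Q71699 : ∀ i, i < 71699 → P i := stepQ 71698 Q71698 (allL N71698 (tt N39575 (iv1 D137241)) (tt N39578 F220385) (tt N95609 F408869) (tt N106800 D210009) (tt N106801 D210010) (tt N71869 (iv5 F220780)) (tt N106802 D210011) (tt N72130 (iv7 F221407)))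
theorem Q71700 : ∀ i, i < 71700 → P i := stepQ 71699 Q71699 (allL N71699 (tt N59201 (iv1 F361573)) (tt N59200 F361563) (tt N59091 (iv2 F361564)) (tt N96156 (iv3 F411271)) (tt N39575 (iv4 D137242)) (tt N95537 (iv5 F408542)) (tt N59077 F361565) (tt N59162 F361566))
theorem Q71701 : ∀ i, i < 71701 → P i := stepQ 71700 Q71700 (allL N71700 (tt N58975 F338242) (tt N58974 F338243) (tt N44384 F338244) (tt N72244 F338245) (tt N59077 F338246) (tt N62857 (iv5 F329163)) (tt N39575 (iv6 D137243)) (tt N58976 F338247))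
theorem Q71702 : ∀ i, i < 71702 → P i := stepQ 71701 Q71701 (allL N71701 (tt N39577 (iv1 D137245)) (tt N72246 F360377) (tt N73243 (iv2 F360375)) (tt N89556 (iv3 F390043)) (tt N106803 D210012) (tt N72485 (iv5 F360376)) (tt N100184 (iv6 F427889)) (tt N73242 F360374))
theorem Q71703 : ∀ i, i < 71703 → P i := stepQ 71702 Q71702 (allL N71702 (tt N58592 F220390) (tt N58596 F220389) (tt N95585 F408768) (tt N81019 F365883) (tt N106784 (iv4 F455667)) (tt N39579 (iv5 D137251)) (tt N106804 D210013) (tt N95548 F408602))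
theorem Q71704 : ∀ i, i < 71704 → P i := stepQ 71703 Q71703 (allL N71703 (tt N58596 (iv1 F221403)) (tt N58592 F220392) (tt N95548 (iv2 F408598)) (tt N79297 (iv3 F362533)) (tt N106782 (iv4 F455659)) (tt N39580 (iv5 D137253)) (tt N59900 (iv6 F408271)) (tt N95585 (iv7 F408770)))
theorem Q71705 : ∀ i, i < 71705 → P i := stepQ 71704 Q71704 (allL N71704 (tt N58769 F220397) (tt N55686 F220395) (tt N57244 F220393) (tt N58865 F220396) (tt N39581 (iv4 D137255)) (tt N94277 (iv5 F403930)) (tt N95745 (iv6 F409419)) (tt N58768 F220394))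
theorem Q71706 : ∀ i, i < 71706 → P i := stepQ 71705 Q71705 (allL N71705 (tt N95740 (iv1 F409396)) (tt N58470 (iv0 F220399)) (tt N96742 (iv2 F413717)) (tt N81601 (iv3 F354548)) (tt N95745 (iv4 F409421)) (tt N81597 F354547) (tt N39581 (iv6 D137257)) (tt N96780 (iv7 F413902)))
theorem Q71707 : ∀ i, i < 71707 → P i := stepQ 71706 Q71706 (allL N71706 (tt N91960 F395141) (tt N91951 (iv0 F395101)) (tt N91958 F395131) (tt N39582 (iv3 D137258)) (tt N74647 (iv4 F228470)) (tt N71053 (iv5 F349714)) (tt N74628 F349715) (tt N91959 (iv7 F395135)))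
theorem Q71708 : ∀ i, i < 71708 → P i := stepQ 71707 Q71707 (allL N71707 (tt N58609 F220400) (tt N58605 (iv0 F220401)) (tt N81598 (iv2 F354537)) (tt N71053 F349713) (tt N106773 (iv4 F455620)) (tt N39582 (iv5 D137259)) (tt N71052 (iv6 F349712)) (tt N81593 F354540))
theorem Q71709 : ∀ i, i < 71709 → P i := stepQ 71708 Q71708 (allL N71708 (tt N91523 (iv1 F393473)) (tt N39583 (iv0 D137260)) (tt N79292 (iv2 F365886)) (tt N95599 (iv3 F408840)) (tt N97843 F418473) (tt N95598 F408838) (tt N106805 D210014) (tt N99709 (iv7 F425851)))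
theorem Q71710 : ∀ i, i < 71710 → P i := stepQ 71709 Q71709 (allL N71709 (tt N39583 (iv1 D137261)) (tt N91523 F393472) (tt N99709 (iv2 F425845)) (tt N47132 F365884) (tt N100683 (iv4 F429994)) (tt N106093 (iv5 F453078)) (tt N93912 (iv6 F402409)) (tt N79292 (iv7 F365885)))
theorem Q71711 : ∀ i, i < 71711 → P i := stepQ 71710 Q71710 (allL N71710 (tt N79292 F357680) (tt N99709 (iv0 F425849)) (tt N39583 (iv2 D137262)) (tt N66690 F220402) (tt N102033 (iv4 F435457)) (tt N91960 (iv5 F395139)) (tt N39594 F220403) (tt N91523 (iv7 F393471)))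
theorem Q71712 : ∀ i, i < 71712 → P i := stepQ 71711 Q71711 (allL N71711 (tt N91959 (iv1 F395134)) (tt N91958 (iv0 F395133)) (tt N91960 (iv2 F395137)) (tt N39584 F220404) (tt N97494 (iv4 F417096)) (tt N39583 (iv5 D137263)) (tt N60753 (iv6 F357981)) (tt N91951 (iv7 F395100)))
theorem Q71713 : ∀ i, i < 71713 → P i := stepQ 71712 Q71712 (allL N71712 (tt N99709 F425850) (tt N79292 (iv0 F365841)) (tt N91523 (iv2 F393468)) (tt N39585 F220405) (tt N102036 (iv4 F435463)) (tt N91951 (iv5 F395099)) (tt N91517 (iv6 F393447)) (tt N39583 (iv7 D137264)))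
theorem Q71714 : ∀ i, i < 71714 → P i := stepQ 71713 Q71713 (allL N71713 (tt N55446 (iv1 F340595)) (tt N39584 (iv0 D137265)) (tt N95599 (iv2 F408839)) (tt N47133 F353287) (tt N101649 (iv4 F433691)) (tt N71051 F220406) (tt N100730 (iv6 F430194)) (tt N71050 (iv7 F220407)))
theorem Q71715 : ∀ i, i < 71715 → P i := stepQ 71714 Q71714 (allL N71714 (tt N59202 (iv1 F361571)) (tt N95537 (iv0 F408543)) (tt N95596 F408826) (tt N97497 (iv3 F417108)) (tt N39584 (iv4 D137266)) (tt N106058 (iv5 F452941)) (tt N97496 F417107) (tt N95597 (iv7 F408829)))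
theorem Q71716 : ∀ i, i < 71716 → P i := stepQ 71715 Q71715 (allL N71715 (tt N88182 (iv1 F382055)) (tt N88181 F382063) (tt N88184 (iv2 F382070)) (tt N60753 (iv3 F357980)) (tt N97496 (iv4 F417104)) (tt N39597 F220408) (tt N39584 (iv6 D137267)) (tt N88172 (iv7 F382010)))
theorem Q71717 : ∀ i, i < 71717 → P i := stepQ 71716 Q71716 (allL N71716 (tt N71050 (iv1 F220410)) (tt N95599 (iv0 F408842)) (tt N55446 F340592) (tt N91951 (iv3 F395098)) (tt N95597 F408831) (tt N39585 F220409) (tt N55442 (iv6 F340585)) (tt N39584 (iv7 D137268)))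
theorem Q71718 : ∀ i, i < 71718 → P i := stepQ 71717 Q71717 (allL N71717 (tt N39586 (iv1 D137269)) (tt N96740 F413710) (tt N58540 F351018) (tt N66692 F351019) (tt N94670 (iv4 F405457)) (tt N66691 F351020) (tt N47139 F351021) (tt N94952 (iv7 F406476)))
theorem Q71719 : ∀ i, i < 71719 → P i := stepQ 71718 Q71718 (allL N71718 (tt N94952 (iv1 F406477)) (tt N58540 F220412) (tt N39586 (iv2 D137270)) (tt N60754 F220411) (tt N72856 (iv4 F223458)) (tt N106806 D210015) (tt N106807 D210016) (tt N96740 (iv7 F413708)))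
theorem Q71720 : ∀ i, i < 71720 → P i := stepQ 71719 Q71719 (allL N71719 (tt N91012 F391562) (tt N106808 D210017) (tt N106806 (iv2 F455757)) (tt N39587 F220413) (tt N77347 (iv4 F361977)) (tt N39586 (iv5 D137271)) (tt N77346 F361976) (tt N77805 (iv7 F245015)))
theorem Q71721 : ∀ i, i < 71721 → P i := stepQ 71720 Q71720 (allL N71720 (tt N47242 F365989) (tt N106809 D210018) (tt N106807 (iv2 F455762)) (tt N39588 F220414) (tt N72857 (iv4 F223460)) (tt N106810 D210019) (tt N39586 (iv6 D137272)) (tt N96813 (iv7 F414077)))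
theorem Q71722 : ∀ i, i < 71722 → P i := stepQ 71721 Q71721 (allL N71721 (tt N52506 F361972) (tt N52494 (iv0 F361971)) (tt N52503 (iv2 F354599)) (tt N77346 (iv3 F361970)) (tt N77348 F361969) (tt N106811 D210020) (tt N39587 (iv6 D137273)) (tt N52504 (iv7 F357958)))
theorem Q71723 : ∀ i, i < 71723 → P i := stepQ 71722 Q71722 (allL N71722 (tt N106812 D210021) (tt N106813 D210022) (tt N60757 F220416) (tt N106810 (iv3 F455778)) (tt N106814 D210023) (tt N39588 (iv5 D137274)) (tt N106811 (iv6 F455781)) (tt N96814 (iv7 F414084)))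
theorem Q71724 : ∀ i, i < 71724 → P i := stepQ 71723 Q71723 (allL N71723 (tt N60754 (iv1 F220417)) (tt N39589 (iv0 D137275)) (tt N60753 (iv2 F357979)) (tt N51990 F357963) (tt N97492 (iv4 F417083)) (tt N51981 (iv5 F357962)) (tt N91960 (iv6 F395140)) (tt N51980 F357964))
theorem Q71725 : ∀ i, i < 71725 → P i := stepQ 71724 Q71724 (allL N71724 (tt N39589 (iv1 D137276)) (tt N60754 F220421) (tt N51980 F357985) (tt N88172 (iv3 F382008)) (tt N92053 (iv4 F395563)) (tt N51977 F357961) (tt N54952 (iv6 F357986)) (tt N60753 (iv7 F357982)))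
theorem Q71726 : ∀ i, i < 71726 → P i := stepQ 71725 Q71725 (allL N71725 (tt N60753 (iv1 F220422)) (tt N51980 (iv0 F354592)) (tt N39589 (iv2 D137277)) (tt N96740 (iv3 F413705)) (tt N55692 F220418) (tt N91557 (iv5 F393636)) (tt N106815 D210024) (tt N60754 F220419))
theorem Q71727 : ∀ i, i < 71727 → P i := stepQ 71726 Q71726 (allL N71726 (tt N91558 (iv1 F393643)) (tt N91554 F393624) (tt N91557 F393637) (tt N39590 F220423) (tt N98480 (iv4 F421069)) (tt N39589 (iv5 D137278)) (tt N106816 D210025) (tt N60755 F220424))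
theorem Q71728 : ∀ i, i < 71728 → P i := stepQ 71727 Q71727 (allL N71727 (tt N106817 D210026) (tt N106818 D210027) (tt N106815 (iv2 F455800)) (tt N39591 F220425) (tt N55693 F220426) (tt N88297 F382489) (tt N39589 (iv6 D137279)) (tt N96773 (iv7 F413863)))
theorem Q71729 : ∀ i, i < 71729 → P i := stepQ 71728 Q71728 (allL N71728 (tt N81505 F346720) (tt N87500 (iv0 F379570)) (tt N77806 (iv2 F245016)) (tt N106816 (iv3 F455806)) (tt N59463 F220427) (tt N60173 F344961) (tt N39590 (iv6 D137280)) (tt N91549 (iv7 F393610)))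
theorem Q71730 : ∀ i, i < 71730 → P i := stepQ 71729 Q71729 (allL N71729 (tt N87527 F379664) (tt N96890 (iv0 F414465)) (tt N96741 (iv2 F413711)) (tt N88297 (iv3 F382490)) (tt N60174 F344963) (tt N39591 (iv5 D137281)) (tt N60173 (iv6 F344962)) (tt N96774 (iv7 F413865)))
theorem Q71731 : ∀ i, i < 71731 → P i := stepQ 71730 Q71730 (allL N71730 (tt N88172 (iv1 F382011)) (tt N88184 F382074) (tt N88182 (iv2 F382057)) (tt N39592 (iv3 D137282)) (tt N59420 F220428) (tt N87357 F379117) (tt N87081 F378316) (tt N88181 F382061))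
theorem Q71732 : ∀ i, i < 71732 → P i := stepQ 71731 Q71731 (allL N71731 (tt N87720 (iv1 F380253)) (tt N102087 F435661) (tt N65799 (iv2 F356050)) (tt N106819 D210028) (tt N39592 (iv4 D137283)) (tt N60411 (iv5 F356060)) (tt N60412 F356059) (tt N96746 (iv7 F413748)))
theorem Q71733 : ∀ i, i < 71733 → P i := stepQ 71732 Q71732 (allL N71732 (tt N41962 F364559) (tt N58488 F364560) (tt N77804 F364561) (tt N87357 (iv3 F379116)) (tt N86481 (iv4 F376343)) (tt N39592 (iv5 D137284)) (tt N85779 (iv6 F373898)) (tt N77803 F364558))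
theorem Q71734 : ∀ i, i < 71734 → P i := stepQ 71733 Q71733 (allL N71733 (tt N83770 (iv1 F356057)) (tt N58420 (iv0 F364565)) (tt N83772 F356052) (tt N87081 (iv3 F378315)) (tt N60412 (iv4 F356053)) (tt N106820 D210029) (tt N39592 (iv6 D137285)) (tt N83771 (iv7 F356054)))
theorem Q71735 : ∀ i, i < 71735 → P i := stepQ 71734 Q71734 (allL N71734 (tt N102087 (iv1 F435662)) (tt N87720 (iv0 F380254)) (tt N96746 (iv2 F413746)) (tt N45824 F325717) (tt N39593 (iv4 D137286)) (tt N65771 (iv5 F220430)) (tt N45822 F325718) (tt N65799 (iv7 F356048)))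
theorem Q71736 : ∀ i, i < 71736 → P i := stepQ 71735 Q71735 (allL N71735 (tt N58488 F359232) (tt N41962 F359233) (tt N77803 F364557) (tt N54851 F359234) (tt N93099 (iv4 F399494)) (tt N39593 (iv5 D137287)) (tt N102867 F439011) (tt N77804 (iv7 F364563)))
theorem Q71737 : ∀ i, i < 71737 → P i := stepQ 71736 Q71736 (allL N71736 (tt N51979 (iv1 F354586)) (tt N51978 (iv0 F357976)) (tt N51981 (iv2 F317126)) (tt N39597 F220435) (tt N56183 F357975) (tt N60753 F357978) (tt N39595 (iv6 D137292)) (tt N51977 (iv7 F357973)))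
theorem Q71738 : ∀ i, i < 71738 → P i := stepQ 71737 Q71737 (allL N71737 (tt N88207 F382180) (tt N76886 F356239) (tt N77789 (iv2 F244974)) (tt N49684 F353330) (tt N60551 F220436) (tt N62489 (iv5 F356234)) (tt N39596 (iv6 D137293)) (tt N88206 (iv7 F382172)))
theorem Q71739 : ∀ i, i < 71739 → P i := stepQ 71738 Q71738 (allL N71738 (tt N66253 (iv1 F401935)) (tt N92910 (iv0 F398741)) (tt N95937 (iv2 F410342)) (tt N39599 (iv3 D137297)) (tt N66410 F220439) (tt N60663 F220437) (tt N106821 D210030) (tt N66466 F220438))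
theorem Q71740 : ∀ i, i < 71740 → P i := stepQ 71739 Q71739 (allL N71739 (tt N39775 (iv1 F220447)) (tt N39753 (iv0 F220446)) (tt N39699 F220444) (tt N91051 F391760) (tt N39599 (iv4 D137298)) (tt N92159 (iv5 F396016)) (tt N106822 D210031) (tt N39774 F220445))
theorem Q71741 : ∀ i, i < 71741 → P i := stepQ 71740 Q71740 (allL N71740 (tt N54339 F357887) (tt N66495 F354781) (tt N66468 F220448) (tt N106821 (iv3 F455829)) (tt N106822 (iv4 F455834)) (tt N102262 (iv5 F436436)) (tt N39599 (iv6 D137299)) (tt N106221 (iv7 F453622)))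
theorem Q71742 : ∀ i, i < 71742 → P i := stepQ 71741 Q71741 (allL N71741 (tt N106823 D210032) (tt N106824 D210033) (tt N39603 F220453) (tt N66451 F220454) (tt N39628 F220455) (tt N102274 (iv5 F436494)) (tt N39601 (iv6 D137302)) (tt N54456 (iv7 F365455)))
theorem Q71743 : ∀ i, i < 71743 → P i := stepQ 71742 Q71742 (allL N71742 (tt N78632 (iv1 F365900)) (tt N68981 F365899) (tt N78634 F365897) (tt N39604 F220456) (tt N85061 (iv4 F371499)) (tt N100677 (iv5 F429970)) (tt N39602 (iv6 D137303)) (tt N78550 (iv7 F365898)))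
theorem Q71744 : ∀ i, i < 71744 → P i := stepQ 71743 Q71743 (allL N71743 (tt N54456 (iv1 F365458)) (tt N39603 (iv0 D137304)) (tt N106823 F455842) (tt N86359 (iv3 F375934)) (tt N98182 (iv4 F419885)) (tt N106825 D210034) (tt N86358 F375932) (tt N106824 (iv7 F455846)))
theorem Q71745 : ∀ i, i < 71745 → P i := stepQ 71744 Q71744 (allL N71744 (tt N39603 (iv1 D137305)) (tt N54456 F365457) (tt N106824 F455847) (tt N82057 (iv3 F394296)) (tt N91749 (iv4 F394294)) (tt N95756 (iv5 F409481)) (tt N82054 F394297) (tt N106823 F455844))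
theorem Q71746 : ∀ i, i < 71746 → P i := stepQ 71745 Q71745 (allL N71745 (tt N106826 D210035) (tt N80967 (iv0 F352289)) (tt N102274 (iv2 F436492)) (tt N39607 F220457) (tt N59491 F330496) (tt N39603 (iv5 D137306)) (tt N100677 (iv6 F429971)) (tt N79288 F360747))
theorem Q71747 : ∀ i, i < 71747 → P i := stepQ 71746 Q71746 (allL N71746 (tt N106824 (iv1 F455845)) (tt N106823 F455841) (tt N54456 F365456) (tt N39608 F220458) (tt N39636 F220459) (tt N79288 F328244) (tt N46217 F328245) (tt N39603 (iv7 D137307)))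
theorem Q71748 : ∀ i, i < 71748 → P i := stepQ 71747 Q71747 (allL N71747 (tt N66251 (iv1 F359112)) (tt N100511 F429253) (tt N95795 (iv2 F409691)) (tt N39606 (iv3 D137313)) (tt N55981 F364300) (tt N85731 (iv5 F373708)) (tt N80794 (iv6 F346331)) (tt N66400 F220472))
theorem Q71749 : ∀ i, i < 71749 → P i := stepQ 71748 Q71748 (allL N71748 (tt N77608 (iv1 F332369)) (tt N66494 F344999) (tt N66404 F220475) (tt N80794 (iv3 F331743)) (tt N66236 F220476) (tt N104863 (iv5 F447681)) (tt N39606 (iv6 D137315)) (tt N100507 (iv7 F429236)))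
theorem Q71750 : ∀ i, i < 71750 → P i := stepQ 71749 Q71749 (allL N71749 (tt N39607 (iv1 D137316)) (tt N66465 F220477) (tt N58201 (iv2 F325256)) (tt N96946 (iv3 F414724)) (tt N57892 (iv4 F330497)) (tt N94050 (iv5 F402986)) (tt N80011 F341239) (tt N58199 (iv7 F325253)))
theorem Q71751 : ∀ i, i < 71751 → P i := stepQ 71750 Q71750 (allL N71750 (tt N58201 (iv1 F325255)) (tt N58199 (iv0 F325250)) (tt N66465 F220481) (tt N79288 (iv3 F360746)) (tt N94746 (iv4 F405790)) (tt N39608 F220482) (tt N45392 F331732) (tt N39607 (iv7 D137318)))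
theorem Q71752 : ∀ i, i < 71752 → P i := stepQ 71751 Q71751 (allL N71751 (tt N102789 (iv1 F438665)) (tt N102469 F437345) (tt N93665 (iv2 F401488)) (tt N106512 (iv3 F454718)) (tt N39609 (iv4 D137319)) (tt N95119 F407122) (tt N72082 F360487) (tt N99489 (iv7 F424821)))
theorem Q71753 : ∀ i, i < 71753 → P i := stepQ 71752 Q71752 (allL N71752 (tt N102469 F437344) (tt N102789 (iv0 F438664)) (tt N99489 (iv2 F424819)) (tt N102914 (iv3 F439246)) (tt N39611 (iv4 D137320)) (tt N95118 (iv5 F407119)) (tt N66212 F220485) (tt N93665 (iv7 F401489)))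
theorem Q71754 : ∀ i, i < 71754 → P i := stepQ 71753 Q71753 (allL N71753 (tt N39847 (iv1 F220488)) (tt N70572 F220489) (tt N94569 (iv2 F405001)) (tt N77936 (iv3 F245355)) (tt N80834 (iv4 F332380)) (tt N68166 F220486) (tt N58402 F220487) (tt N39612 (iv7 D137321)))
theorem Q71755 : ∀ i, i < 71755 → P i := stepQ 71754 Q71754 (allL N71754 (tt N57100 (iv1 F220498)) (tt N57084 F220493) (tt N57104 F220492) (tt N57118 (iv3 F220496)) (tt N39614 (iv4 D137323)) (tt N72548 (iv5 F222653)) (tt N90951 (iv6 F391360)) (tt N57101 (iv7 F220497)))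
theorem Q71756 : ∀ i, i < 71756 → P i := stepQ 71755 Q71755 (allL N71755 (tt N54174 (iv1 F362211)) (tt N39684 F362208) (tt N54105 F362206) (tt N54193 (iv3 F362207)) (tt N90951 (iv4 F391356)) (tt N54074 F362209) (tt N39614 (iv6 D137325)) (tt N54172 (iv7 F362210)))
theorem Q71757 : ∀ i, i < 71757 → P i := stepQ 71756 Q71756 (allL N71756 (tt N40912 F220509) (tt N39668 F220510) (tt N54200 F345464) (tt N39615 (iv3 D137327)) (tt N57107 F220508) (tt N82771 F345466) (tt N54190 F345467) (tt N54107 (iv7 F345453)))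
theorem Q71758 : ∀ i, i < 71758 → P i := stepQ 71757 Q71757 (allL N71757 (tt N39645 F360688) (tt N73891 F365534) (tt N95854 (iv2 F409956)) (tt N54190 (iv3 F357299)) (tt N57103 F220512) (tt N105144 (iv5 F448983)) (tt N39615 (iv6 D137329)) (tt N54176 F357301))
theorem Q71759 : ∀ i, i < 71759 → P i := stepQ 71758 Q71758 (allL N71758 (tt N54145 (iv1 F351826)) (tt N65040 (iv0 F351825)) (tt N39617 F220513) (tt N106060 (iv3 F452949)) (tt N59191 F220514) (tt N76915 F351824) (tt N39616 (iv6 D137330)) (tt N105743 (iv7 F451492)))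
theorem Q71760 : ∀ i, i < 71760 → P i := stepQ 71759 Q71759 (allL N71759 (tt N105743 (iv1 F451494)) (tt N39617 (iv0 D137331)) (tt N54145 F351617) (tt N65006 (iv3 F351611)) (tt N79180 F351463) (tt N54143 (iv5 F351621)) (tt N106827 D210036) (tt N65040 (iv7 F351612)))
theorem Q71761 : ∀ i, i < 71761 → P i := stepQ 71760 Q71760 (allL N71760 (tt N39617 (iv1 D137332)) (tt N105743 (iv0 F451493)) (tt N65040 F351626) (tt N54101 F351627) (tt N106828 D210037) (tt N54100 (iv5 F351625)) (tt N106829 D210038) (tt N54145 F351624))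
theorem Q71762 : ∀ i, i < 71762 → P i := stepQ 71761 Q71761 (allL N71761 (tt N43091 F324300) (tt N63723 F324301) (tt N77254 F324302) (tt N63732 F324303) (tt N39618 (iv4 D137336)) (tt N64003 F324304) (tt N106587 (iv6 F454961)) (tt N77255 F324305))
theorem Q71763 : ∀ i, i < 71763 → P i := stepQ 71762 Q71762 (allL N71762 (tt N91075 F391833) (tt N91072 (iv0 F391820)) (tt N69708 F220518) (tt N40887 F220519) (tt N39619 (iv4 D137337)) (tt N106830 D210039) (tt N72006 (iv6 F365749)) (tt N40949 F220520))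
theorem Q71764 : ∀ i, i < 71764 → P i := stepQ 71763 Q71763 (allL N71763 (tt N71443 F225845) (tt N39639 F225846) (tt N71445 F220985) (tt N40891 F220524) (tt N105788 (iv4 F451720)) (tt N39619 (iv5 D137338)) (tt N105141 F448965) (tt N40958 F220525))
theorem Q71765 : ∀ i, i < 71765 → P i := stepQ 71764 Q71764 (allL N71764 (tt N40916 (iv1 F220529)) (tt N39622 F220530) (tt N40920 F220527) (tt N39620 (iv3 D137340)) (tt N74730 F347243) (tt N102549 (iv5 F437609)) (tt N91833 F394610) (tt N40917 F220528))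
theorem Q71766 : ∀ i, i < 71766 → P i := stepQ 71765 Q71765 (allL N71765 (tt N91072 F391821) (tt N91075 (iv0 F391832)) (tt N40949 F220531) (tt N62248 (iv3 F220533)) (tt N39620 (iv4 D137341)) (tt N106831 D210040) (tt N91055 (iv6 F391784)) (tt N69708 F220532))
theorem Q71767 : ∀ i, i < 71767 → P i := stepQ 71766 Q71766 (allL N71766 (tt N39639 F225847) (tt N71443 F225848) (tt N40958 F220534) (tt N102549 (iv3 F437611)) (tt N105793 (iv4 F451744)) (tt N39620 (iv5 D137342)) (tt N91210 (iv6 F392274)) (tt N71445 (iv7 F220984)))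
theorem Q71768 : ∀ i, i < 71768 → P i := stepQ 71767 Q71767 (allL N71767 (tt N39680 F365513) (tt N106068 F452979) (tt N40959 F220535) (tt N91833 (iv3 F394607)) (tt N91055 F391783) (tt N53354 (iv5 F362224)) (tt N39620 (iv6 D137343)) (tt N73916 (iv7 F359471)))
theorem Q71769 : ∀ i, i < 71769 → P i := stepQ 71768 Q71768 (allL N71768 (tt N40920 (iv1 F220539)) (tt N40917 F220538) (tt N39622 (iv2 D137344)) (tt N98815 (iv3 F422440)) (tt N55928 F220536) (tt N104489 (iv5 F445997)) (tt N106832 D210041) (tt N40916 F220537))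
theorem Q71770 : ∀ i, i < 71770 → P i := stepQ 71769 Q71769 (allL N71769 (tt N106833 D210042) (tt N106834 D210043) (tt N106832 (iv2 F455881)) (tt N39624 F220540) (tt N71940 (iv4 F221044)) (tt N69573 (iv5 F358056)) (tt N39622 (iv6 D137345)) (tt N69572 F358053))
theorem Q71771 : ∀ i, i < 71771 → P i := stepQ 71770 Q71770 (allL N71770 (tt N92312 (iv1 F396677)) (tt N92309 (iv0 F396669)) (tt N99178 (iv2 F423592)) (tt N39623 (iv3 D137346)) (tt N71938 (iv4 F221043)) (tt N71655 F362158) (tt N81813 (iv6 F345847)) (tt N102724 (iv7 F438369)))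
theorem Q71772 : ∀ i, i < 71772 → P i := stepQ 71771 Q71771 (allL N71771 (tt N40656 F345850) (tt N85001 (iv0 F371328)) (tt N69226 (iv2 F324724)) (tt N71655 (iv3 F345851)) (tt N55722 F220541) (tt N39623 (iv5 D137347)) (tt N69217 (iv6 F345848)) (tt N69206 (iv7 F342168)))
theorem Q71773 : ∀ i, i < 71773 → P i := stepQ 71772 Q71772 (allL N71772 (tt N49641 F354483) (tt N90556 (iv0 F390090)) (tt N45346 F345498) (tt N69573 (iv3 F354485)) (tt N69332 F345499) (tt N39624 (iv5 D137351)) (tt N103937 (iv6 F443455)) (tt N69329 (iv7 F346590)))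
theorem Q71774 : ∀ i, i < 71774 → P i := stepQ 71773 Q71773 (allL N71773 (tt N70993 (iv1 F224170)) (tt N70998 (iv0 F224174)) (tt N61969 F220545) (tt N61981 (iv3 F326815)) (tt N39625 (iv4 D137355)) (tt N99030 (iv5 F423092)) (tt N106231 (iv6 F453681)) (tt N70996 F220547))
theorem Q71775 : ∀ i, i < 71775 → P i := stepQ 71774 Q71774 (allL N71774 (tt N85001 (iv1 F371329)) (tt N40656 F331832) (tt N69206 (iv2 F342166)) (tt N99177 (iv3 F423583)) (tt N45056 F220552) (tt N39626 (iv5 D137357)) (tt N69191 (iv6 F330897)) (tt N69226 (iv7 F324728)))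
theorem Q71776 : ∀ i, i < 71776 → P i := stepQ 71775 Q71775 (allL N71775 (tt N39636 (iv1 F220566)) (tt N39628 (iv0 D137364)) (tt N39633 F349938) (tt N98902 (iv3 F422734)) (tt N60076 F344624) (tt N61150 F349939) (tt N98992 F422958) (tt N39634 F349940))
theorem Q71777 : ∀ i, i < 71777 → P i := stepQ 71776 Q71776 (allL N71776 (tt N39628 (iv1 D137365)) (tt N39636 F220563) (tt N39634 F349935) (tt N106835 D210044) (tt N81492 F349936) (tt N61151 F349949) (tt N106836 D210045) (tt N39633 F349937))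
theorem Q71778 : ∀ i, i < 71778 → P i := stepQ 71777 Q71777 (allL N71777 (tt N98110 F419491) (tt N106837 D210046) (tt N39635 F220564) (tt N54492 F356508) (tt N106838 D210047) (tt N39628 (iv5 D137366)) (tt N84254 (iv6 F368710)) (tt N54457 (iv7 F356507)))
theorem Q71779 : ∀ i, i < 71779 → P i := stepQ 71778 Q71778 (allL N71778 (tt N102549 (iv1 F437613)) (tt N40918 (iv0 F220981)) (tt N104643 (iv2 F446661)) (tt N39629 (iv3 D137368)) (tt N71952 (iv4 F221048)) (tt N70929 F220569) (tt N50201 F220570) (tt N71461 F220571))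
theorem Q71780 : ∀ i, i < 71780 → P i := stepQ 71779 Q71779 (allL N71779 (tt N105879 F452152) (tt N97786 (iv0 F418300)) (tt N60851 F220577) (tt N44819 F324636) (tt N39632 F220579) (tt N47535 F324637) (tt N39631 (iv6 D137371)) (tt N104966 (iv7 F448183)))
theorem Q71781 : ∀ i, i < 71781 → P i := stepQ 71780 Q71780 (allL N71780 (tt N75137 F347383) (tt N84252 (iv0 F368695)) (tt N84254 (iv2 F368706)) (tt N39643 F220581) (tt N86784 (iv4 F377181)) (tt N39632 (iv5 D137374)) (tt N39635 F220582) (tt N84247 (iv7 F368671)))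
theorem Q71782 : ∀ i, i < 71782 → P i := stepQ 71781 Q71781 (allL N71781 (tt N73915 (iv1 F359469)) (tt N40919 F349479) (tt N106839 D210048) (tt N39633 (iv3 D137377)) (tt N106840 D210049) (tt N63004 (iv5 F349478)) (tt N106841 D210050) (tt N106835 (iv7 F455900)))
theorem Q71783 : ∀ i, i < 71783 → P i := stepQ 71782 Q71782 (allL N71782 (tt N80645 F349928) (tt N81493 F360710) (tt N60076 F349929) (tt N92497 (iv3 F397168)) (tt N39633 (iv4 D137378)) (tt N60075 F349930) (tt N44998 F349931) (tt N81492 F349932))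
theorem Q71784 : ∀ i, i < 71784 → P i := stepQ 71783 Q71783 (allL N71783 (tt N62936 (iv1 F338501)) (tt N62898 (iv0 F338497)) (tt N61150 (iv2 F347717)) (tt N63004 F349476) (tt N50029 F338498) (tt N39633 (iv5 D137379)) (tt N50028 F347716) (tt N61151 (iv7 F349946)))
theorem Q71785 : ∀ i, i < 71785 → P i := stepQ 71784 Q71784 (allL N71784 (tt N98993 F422967) (tt N98995 F422979) (tt N98992 (iv2 F422959)) (tt N106841 (iv3 F455934)) (tt N44998 F360743) (tt N90817 (iv5 F390962)) (tt N39633 (iv6 D137380)) (tt N98991 F422954))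
theorem Q71786 : ∀ i, i < 71786 → P i := stepQ 71785 Q71785 (allL N71785 (tt N98816 F422450) (tt N101290 (iv0 F432554)) (tt N100602 (iv2 F429650)) (tt N39634 (iv3 D137382)) (tt N61979 F355558) (tt N45342 F355559) (tt N106842 D210051) (tt N98902 (iv7 F422735)))
theorem Q71787 : ∀ i, i < 71787 → P i := stepQ 71786 Q71786 (allL N71786 (tt N62898 (iv1 F347721)) (tt N62936 F349950) (tt N61151 F349947) (tt N45342 F350751) (tt N61129 F347720) (tt N39634 (iv5 D137384)) (tt N106843 D210052) (tt N61150 (iv7 F347719)))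
theorem Q71788 : ∀ i, i < 71788 → P i := stepQ 71787 Q71787 (allL N71787 (tt N90492 F409612) (tt N54340 F409613) (tt N106836 (iv2 F455903)) (tt N106842 (iv3 F455940)) (tt N80828 (iv4 F349902)) (tt N106844 D210053) (tt N39634 (iv6 D137385)) (tt N106845 D210054))
theorem Q71789 : ∀ i, i < 71789 → P i := stepQ 71788 Q71788 (allL N71788 (tt N54457 (iv1 F360703)) (tt N39635 (iv0 D137386)) (tt N98110 (iv2 F419486)) (tt N77658 (iv3 F360706)) (tt N98093 (iv4 F419431)) (tt N71124 (iv5 F360704)) (tt N77655 F360705) (tt N106837 (iv7 F455909)))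
theorem Q71790 : ∀ i, i < 71790 → P i := stepQ 71789 Q71789 (allL N71789 (tt N39635 (iv1 D137387)) (tt N54457 (iv0 F356506)) (tt N106837 (iv2 F455913)) (tt N59272 (iv3 F356501)) (tt N98113 (iv4 F419506)) (tt N97059 (iv5 F415264)) (tt N59266 F356505) (tt N98110 (iv7 F419490)))
theorem Q71791 : ∀ i, i < 71791 → P i := stepQ 71790 Q71790 (allL N71790 (tt N73591 F356502) (tt N106846 D210055) (tt N106838 (iv2 F455914)) (tt N62813 (iv3 F356503)) (tt N39635 (iv4 D137388)) (tt N86071 F377186) (tt N86784 F377185) (tt N74923 F356504))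
theorem Q71792 : ∀ i, i < 71792 → P i := stepQ 71791 Q71791 (allL N71791 (tt N106837 (iv1 F455908)) (tt N98110 (iv0 F419492)) (tt N54457 (iv2 F349943)) (tt N39650 F220586) (tt N74923 F328479) (tt N39636 F220587) (tt N54448 F349942) (tt N39635 (iv7 D137389)))
theorem Q71793 : ∀ i, i < 71793 → P i := stepQ 71792 Q71792 (allL N71792 (tt N75072 F411284) (tt N71971 (iv0 F221113)) (tt N105145 (iv2 F448987)) (tt N67717 (iv3 F354193)) (tt N39637 (iv4 D137391)) (tt N106847 D210056) (tt N106848 D210057) (tt N71428 F220594))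
theorem Q71794 : ∀ i, i < 71794 → P i := stepQ 71793 Q71793 (allL N71793 (tt N101208 F432205) (tt N106849 D210058) (tt N105146 (iv2 F448990)) (tt N39638 F220595) (tt N106848 (iv4 F455972)) (tt N106850 D210059) (tt N39637 (iv6 D137392)) (tt N70303 F365150))
theorem Q71795 : ∀ i, i < 71795 → P i := stepQ 71794 Q71794 (allL N71794 (tt N71454 (iv1 F220601)) (tt N39638 (iv0 D137393)) (tt N71451 F352090) (tt N90412 (iv3 F389554)) (tt N74240 (iv4 F347095)) (tt N106851 D210060) (tt N77456 (iv6 F373064)) (tt N71452 (iv7 F352095)))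
theorem Q71796 : ∀ i, i < 71796 → P i := stepQ 71795 Q71795 (allL N71795 (tt N39638 (iv1 D137394)) (tt N71454 F220596) (tt N71452 (iv2 F352097)) (tt N50200 (iv3 F352098)) (tt N74241 (iv4 F352099)) (tt N106852 D210061) (tt N106853 D210062) (tt N71451 F352096))
theorem Q71797 : ∀ i, i < 71797 → P i := stepQ 71796 Q71796 (allL N71796 (tt N70063 F352101) (tt N91797 (iv0 F394468)) (tt N71453 F220597) (tt N106850 (iv3 F455981)) (tt N106854 D210063) (tt N39638 (iv5 D137395)) (tt N70903 F220598) (tt N106855 D210064))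
theorem Q71798 : ∀ i, i < 71798 → P i := stepQ 71797 Q71797 (allL N71797 (tt N71452 (iv1 F220602)) (tt N71451 F220603) (tt N71454 F220599) (tt N70303 (iv3 F365151)) (tt N102698 (iv4 F438242)) (tt N106855 (iv5 F456010)) (tt N70301 (iv6 F330956)) (tt N39638 (iv7 D137396)))
theorem Q71799 : ∀ i, i < 71799 → P i := stepQ 71798 Q71798 (allL N71798 (tt N71445 (iv1 F220610)) (tt N40958 (iv0 F220982)) (tt N39639 (iv2 D137399)) (tt N70300 (iv3 F365147)) (tt N106856 D210065) (tt N70895 F220606) (tt N70297 F365152) (tt N71443 F220607))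
theorem Q71800 : ∀ i, i < 71800 → P i := stepQ 71799 Q71799 (allL N71799 (tt N106857 D210066) (tt N99106 (iv0 F423361)) (tt N106856 (iv2 F456013)) (tt N68246 F365157) (tt N39639 (iv4 D137400)) (tt N100214 F428023) (tt N68244 (iv6 F365155)) (tt N71446 F220611))
theorem Q71801 : ∀ i, i < 71801 → P i := stepQ 71800 Q71800 (allL N71800 (tt N106858 D210067) (tt N79080 (iv0 F365156)) (tt N70297 (iv2 F365153)) (tt N39640 F220612) (tt N68244 F365154) (tt N105701 (iv5 F451320)) (tt N39639 (iv6 D137401)) (tt N104967 (iv7 F448187)))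
theorem Q71802 : ∀ i, i < 71802 → P i := stepQ 71801 Q71801 (allL N71801 (tt N70060 (iv1 F352624)) (tt N70044 F352623) (tt N70058 F352626) (tt N69894 (iv3 F365398)) (tt N100488 (iv4 F429135)) (tt N39641 (iv5 D137409)) (tt N81347 F359668) (tt N70059 F352622))
theorem Q71803 : ∀ i, i < 71803 → P i := stepQ 71802 Q71802 (allL N71802 (tt N73420 F438289) (tt N73422 F364963) (tt N99827 (iv2 F426410)) (tt N70311 (iv3 F365406)) (tt N102706 (iv4 F438287)) (tt N71662 F220622) (tt N39641 (iv6 D137410)) (tt N106859 D210068))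
theorem Q71804 : ∀ i, i < 71804 → P i := stepQ 71803 Q71803 (allL N71803 (tt N105141 (iv1 F448962)) (tt N70758 (iv0 F359677)) (tt N105064 (iv2 F448623)) (tt N39642 (iv3 D137412)) (tt N68343 (iv4 F359675)) (tt N62832 F352603) (tt N77454 (iv6 F359674)) (tt N99828 (iv7 F426419)))
theorem Q71805 : ∀ i, i < 71805 → P i := stepQ 71804 Q71804 (allL N71804 (tt N70044 (iv1 F352590)) (tt N70060 (iv0 F352588)) (tt N70059 (iv2 F352606)) (tt N62832 (iv3 F352592)) (tt N62840 (iv4 F339498)) (tt N39642 (iv5 D137414)) (tt N62834 F352604) (tt N70058 (iv7 F352627)))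
theorem Q71806 : ∀ i, i < 71806 → P i := stepQ 71805 Q71805 (allL N71805 (tt N62879 (iv1 F339494)) (tt N62837 F352616) (tt N75169 (iv2 F352608)) (tt N84247 (iv3 F368670)) (tt N105276 (iv4 F449512)) (tt N39644 F220625) (tt N74992 F337256) (tt N39643 (iv7 D137419)))
theorem Q71807 : ∀ i, i < 71807 → P i := stepQ 71806 Q71806 (allL N71806 (tt N73891 (iv1 F365532)) (tt N39645 (iv0 D137420)) (tt N54176 (iv2 F360690)) (tt N101290 (iv3 F432551)) (tt N105152 (iv4 F449020)) (tt N101289 (iv5 F432546)) (tt N54172 F360691) (tt N95854 (iv7 F409960)))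
theorem Q71808 : ∀ i, i < 71808 → P i := stepQ 71807 Q71807 (allL N71807 (tt N54176 F365535) (tt N95854 F409961) (tt N39645 (iv2 D137422)) (tt N62947 (iv3 F365533)) (tt N93650 (iv4 F401434)) (tt N62903 F365528) (tt N106291 (iv6 F453909)) (tt N73891 F365531))
theorem Q71809 : ∀ i, i < 71809 → P i := stepQ 71808 Q71808 (allL N71808 (tt N69104 (iv1 F390639)) (tt N72123 (iv0 F336166)) (tt N60895 (iv2 F328412)) (tt N95906 (iv3 F410188)) (tt N39647 F220640) (tt N101209 (iv5 F432206)) (tt N39646 (iv6 D137435)) (tt N103327 (iv7 F441150)))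
theorem Q71810 : ∀ i, i < 71810 → P i := stepQ 71809 Q71809 (allL N71809 (tt N101289 (iv1 F432549)) (tt N105144 (iv0 F448985)) (tt N73854 F328576) (tt N39648 (iv3 D137440)) (tt N74987 F328577) (tt N71114 F220641) (tt N101021 (iv6 F431313)) (tt N46101 F328578))
theorem Q71811 : ∀ i, i < 71811 → P i := stepQ 71810 Q71810 (allL N71810 (tt N106860 D210069) (tt N79117 (iv0 F337902)) (tt N41313 F328580) (tt N101021 (iv3 F431312)) (tt N41311 F328581) (tt N71115 F220643) (tt N39648 (iv6 D137442)) (tt N101031 (iv7 F431366)))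
theorem Q71812 : ∀ i, i < 71812 → P i := stepQ 71811 Q71811 (allL N71811 (tt N39653 (iv1 D137465)) (tt N39770 (iv0 F343283)) (tt N39772 F343279) (tt N106861 D210070) (tt N66551 F343280) (tt N92245 (iv5 F396447)) (tt N39784 F343281) (tt N39755 F343282))
theorem Q71813 : ∀ i, i < 71813 → P i := stepQ 71812 Q71812 (allL N71812 (tt N39755 F341540) (tt N39772 F341541) (tt N39653 (iv2 D137466)) (tt N90917 (iv3 F391264)) (tt N40654 F220669) (tt N43046 F353556) (tt N106862 D210071) (tt N39770 F343285))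
theorem Q71814 : ∀ i, i < 71814 → P i := stepQ 71813 Q71813 (allL N71813 (tt N106863 D210072) (tt N103182 (iv0 F440450)) (tt N106862 (iv2 F456053)) (tt N39654 F220671) (tt N40655 F220672) (tt N106864 D210073) (tt N39653 (iv6 D137468)) (tt N76220 F366472))
theorem Q71815 : ∀ i, i < 71815 → P i := stepQ 71814 Q71814 (allL N71814 (tt N98988 (iv1 F422941)) (tt N39654 (iv0 D137471)) (tt N104713 (iv2 F446954)) (tt N106865 D210074) (tt N93031 (iv4 F399182)) (tt N71415 (iv5 F399183)) (tt N106069 F452984) (tt N39837 F399185))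
theorem Q71816 : ∀ i, i < 71816 → P i := stepQ 71815 Q71815 (allL N71815 (tt N82716 F352702) (tt N101913 (iv0 F434926)) (tt N106066 (iv2 F452968)) (tt N106864 (iv3 F456062)) (tt N106214 (iv4 F453606)) (tt N39654 (iv5 D137473)) (tt N99874 (iv6 F426637)) (tt N106294 (iv7 F453916)))
theorem Q71817 : ∀ i, i < 71817 → P i := stepQ 71816 Q71816 (allL N71816 (tt N59739 (iv1 F220679)) (tt N59745 F220680) (tt N41304 (iv2 F328038)) (tt N78956 F327580) (tt N57326 F220677) (tt N61358 F327581) (tt N39655 (iv6 D137478)) (tt N57324 F220678))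
theorem Q71818 : ∀ i, i < 71818 → P i := stepQ 71817 Q71817 (allL N71817 (tt N73622 F345457) (tt N59814 (iv0 F397316)) (tt N92509 (iv2 F397196)) (tt N39659 (iv3 D137487)) (tt N92321 (iv4 F396689)) (tt N106704 (iv5 F455340)) (tt N106866 D210075) (tt N91097 (iv7 F391907)))
theorem Q71819 : ∀ i, i < 71819 → P i := stepQ 71818 Q71818 (allL N71818 (tt N53369 F383640) (tt N53379 F383641) (tt N54359 F361824) (tt N106866 (iv3 F456066)) (tt N88626 (iv4 F383639)) (tt N90570 (iv5 F390133)) (tt N39659 (iv6 D137489)) (tt N54358 (iv7 F361825)))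
theorem Q71820 : ∀ i, i < 71820 → P i := stepQ 71819 Q71819 (allL N71819 (tt N71583 (iv1 F220924)) (tt N71580 F220923) (tt N39661 F220684) (tt N103199 (iv3 F440531)) (tt N106867 D210076) (tt N39660 (iv5 D137490)) (tt N106868 D210077) (tt N103195 (iv7 F440514)))
theorem Q71821 : ∀ i, i < 71821 → P i := stepQ 71820 Q71820 (allL N71820 (tt N103195 (iv1 F440516)) (tt N39661 (iv0 D137492)) (tt N71583 (iv2 F220897)) (tt N93925 (iv3 F402446)) (tt N106869 D210078) (tt N70887 F220898) (tt N106870 D210079) (tt N71580 F220899))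
theorem Q71822 : ∀ i, i < 71822 → P i := stepQ 71821 Q71821 (allL N71821 (tt N39661 (iv1 D137493)) (tt N103195 (iv0 F440515)) (tt N71580 (iv2 F220895)) (tt N103221 (iv3 F440646)) (tt N106871 D210080) (tt N70888 F220894) (tt N106872 D210081) (tt N71583 (iv7 F220896)))
theorem Q71823 : ∀ i, i < 71823 → P i := stepQ 71822 Q71822 (allL N71822 (tt N106873 D210082) (tt N106874 D210083) (tt N106867 (iv2 F456069)) (tt N103196 (iv3 F440517)) (tt N39661 (iv4 D137494)) (tt N106875 D210084) (tt N106876 D210085) (tt N103196 (iv7 F440518)))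
theorem Q71824 : ∀ i, i < 71824 → P i := stepQ 71823 Q71823 (allL N71823 (tt N86989 (iv1 F377974)) (tt N106877 D210086) (tt N106868 (iv2 F456072)) (tt N39662 F220687) (tt N106876 (iv4 F456097)) (tt N49719 F365325) (tt N39661 (iv6 D137495)) (tt N106878 D210087))
theorem Q71825 : ∀ i, i < 71825 → P i := stepQ 71824 Q71824 (allL N71824 (tt N102962 (iv1 F439461)) (tt N39662 (iv0 D137500)) (tt N78891 (iv2 F365071)) (tt N106879 D210088) (tt N92525 (iv4 F397237)) (tt N52198 F365070) (tt N52400 (iv6 F365072)) (tt N103202 (iv7 F440549)))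
theorem Q71826 : ∀ i, i < 71826 → P i := stepQ 71825 Q71825 (allL N71825 (tt N39662 (iv1 D137501)) (tt N102962 (iv0 F439460)) (tt N103202 F440551) (tt N106880 D210089) (tt N92526 F397243) (tt N78892 (iv5 F365074)) (tt N106881 D210090) (tt N78891 F365073))
theorem Q71827 : ∀ i, i < 71827 → P i := stepQ 71826 Q71826 (allL N71826 (tt N87175 (iv1 F419245)) (tt N102961 F439456) (tt N102963 (iv2 F439462)) (tt N49719 (iv3 F365324)) (tt N97787 (iv4 F418304)) (tt N39662 (iv5 D137502)) (tt N39665 F220691) (tt N102959 (iv7 F439447)))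
theorem Q71828 : ∀ i, i < 71828 → P i := stepQ 71827 Q71827 (allL N71827 (tt N103202 (iv1 F440548)) (tt N78891 (iv0 F439449)) (tt N102962 (iv2 F439457)) (tt N106878 (iv3 F456102)) (tt N103197 (iv4 F440520)) (tt N102959 F439448) (tt N103197 (iv6 F440522)) (tt N39662 (iv7 D137503)))
theorem Q71829 : ∀ i, i < 71829 → P i := stepQ 71828 Q71828 (allL N71828 (tt N95398 F408121) (tt N67155 F408126) (tt N106882 D210091) (tt N39663 (iv3 D137504)) (tt N90934 F391299) (tt N75899 F353147) (tt N106883 D210092) (tt N66540 F220692))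
theorem Q71830 : ∀ i, i < 71830 → P i := stepQ 71829 Q71829 (allL N71829 (tt N68118 F220695) (tt N60163 F220696) (tt N66538 F220693) (tt N75899 (iv3 F353146)) (tt N79938 F353121) (tt N39663 (iv5 D137505)) (tt N52200 (iv6 F359245)) (tt N66541 F220694))
theorem Q71831 : ∀ i, i < 71831 → P i := stepQ 71830 Q71830 (allL N71830 (tt N60547 (iv1 F220700)) (tt N60542 (iv0 F220699)) (tt N66539 F220697) (tt N106883 (iv3 F456119)) (tt N58842 F220698) (tt N106692 (iv5 F455300)) (tt N39663 (iv6 D137506)) (tt N94452 (iv7 F404524)))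
theorem Q71832 : ∀ i, i < 71832 → P i := stepQ 71831 Q71831 (allL N71831 (tt N74022 (iv1 F397736)) (tt N92644 (iv0 F397735)) (tt N103205 (iv2 F440568)) (tt N39664 (iv3 D137507)) (tt N40709 F220701) (tt N106884 D210093) (tt N94446 (iv6 F404512)) (tt N66537 F220702))
theorem Q71833 : ∀ i, i < 71833 → P i := stepQ 71832 Q71832 (allL N71832 (tt N60163 F220705) (tt N68118 F220706) (tt N66541 F220703) (tt N106884 (iv3 F456122)) (tt N61070 F353123) (tt N39664 (iv5 D137508)) (tt N61069 (iv6 F353125)) (tt N66538 F220704))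
theorem Q71834 : ∀ i, i < 71834 → P i := stepQ 71833 Q71833 (allL N71833 (tt N64200 F335530) (tt N56285 F350594) (tt N61504 F357128) (tt N49716 (iv3 F355677)) (tt N39665 (iv4 D137509)) (tt N98327 (iv5 F420515)) (tt N97787 (iv6 F418306)) (tt N64199 (iv7 F357126)))
theorem Q71835 : ∀ i, i < 71835 → P i := stepQ 71834 Q71834 (allL N71834 (tt N54200 (iv1 F345468)) (tt N54107 F345445) (tt N39668 (iv2 D137512)) (tt N40890 F220708) (tt N56763 F220709) (tt N106742 (iv5 F455504)) (tt N82580 F366309) (tt N40912 F220710))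
theorem Q71836 : ∀ i, i < 71836 → P i := stepQ 71835 Q71835 (allL N71835 (tt N39671 (iv1 F220715)) (tt N39669 (iv0 D137515)) (tt N54785 F345456) (tt N103211 (iv3 F440583)) (tt N53463 (iv4 F333092)) (tt N106885 D210094) (tt N54706 F362579) (tt N53459 (iv7 F333112)))
theorem Q71837 : ∀ i, i < 71837 → P i := stepQ 71836 Q71836 (allL N71836 (tt N73467 F224906) (tt N73464 (iv0 F224901)) (tt N40793 F220718) (tt N39669 (iv3 D137517)) (tt N61192 (iv4 F340004)) (tt N92209 (iv5 F396267)) (tt N97333 (iv6 F416393)) (tt N92208 (iv7 F396261)))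
theorem Q71838 : ∀ i, i < 71838 → P i := stepQ 71837 Q71837 (allL N71837 (tt N106734 (iv1 F455472)) (tt N54898 (iv0 F390836)) (tt N99573 (iv2 F425230)) (tt N92209 (iv3 F396265)) (tt N106707 (iv4 F455347)) (tt N39669 (iv5 D137518)) (tt N86815 F390719) (tt N92207 F396257))
theorem Q71839 : ∀ i, i < 71839 → P i := stepQ 71838 Q71838 (allL N71838 (tt N41006 (iv1 F346693)) (tt N41010 F346692) (tt N40914 F220725) (tt N39672 F220726) (tt N71977 (iv4 F221128)) (tt N76516 (iv5 F339099)) (tt N39670 (iv6 D137529)) (tt N54355 (iv7 F339115)))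
theorem Q71840 : ∀ i, i < 71840 → P i := stepQ 71839 Q71839 (allL N71839 (tt N54898 F396288) (tt N106734 (iv0 F455471)) (tt N92207 (iv2 F396250)) (tt N40791 F220727) (tt N106708 F455349) (tt N39671 (iv5 D137530)) (tt N92212 (iv6 F396284)) (tt N99573 (iv7 F425232)))
theorem Q71841 : ∀ i, i < 71841 → P i := stepQ 71840 Q71840 (allL N71840 (tt N106886 D210095) (tt N101627 (iv0 F433609)) (tt N54357 (iv2 F365320)) (tt N40792 F220728) (tt N39672 F220729) (tt N90587 (iv5 F390173)) (tt N39671 (iv6 D137531)) (tt N54356 F359926))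
theorem Q71842 : ∀ i, i < 71842 → P i := stepQ 71841 Q71841 (allL N71841 (tt N91105 (iv1 F391953)) (tt N91107 (iv0 F391961)) (tt N39676 F220730) (tt N106887 D210096) (tt N39673 (iv4 D137538)) (tt N106888 D210097) (tt N52152 (iv6 F365316)) (tt N106063 (iv7 F452961)))
theorem Q71843 : ∀ i, i < 71843 → P i := stepQ 71842 Q71842 (allL N71842 (tt N82771 (iv1 F349685)) (tt N50007 F349666) (tt N70275 (iv2 F349659)) (tt N39674 (iv3 D137545)) (tt N71915 F220884) (tt N70904 (iv5 F220885)) (tt N70157 F333061) (tt N71620 F220892))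
theorem Q71844 : ∀ i, i < 71844 → P i := stepQ 71843 Q71843 (allL N71843 (tt N40925 (iv1 F220975)) (tt N40891 F220976) (tt N40921 (iv2 F220900)) (tt N39675 (iv3 D137550)) (tt N71987 (iv4 F221169)) (tt N70906 F220893) (tt N106889 D210098) (tt N40922 (iv7 F220901)))
theorem Q71845 : ∀ i, i < 71845 → P i := stepQ 71844 Q71844 (allL N71844 (tt N54794 (iv1 F364750)) (tt N56499 F333067) (tt N71625 (iv2 F220903)) (tt N106890 D210099) (tt N39675 (iv4 D137551)) (tt N106891 D210100) (tt N103318 (iv6 F441120)) (tt N71630 (iv7 F220902)))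
theorem Q71846 : ∀ i, i < 71846 → P i := stepQ 71845 Q71845 (allL N71845 (tt N90412 F389556) (tt N85989 F389557) (tt N71626 (iv2 F220904)) (tt N106889 (iv3 F456146)) (tt N103318 (iv4 F441119)) (tt N106892 D210101) (tt N39675 (iv6 D137553)) (tt N103316 (iv7 F441111)))
theorem Q71847 : ∀ i, i < 71847 → P i := stepQ 71846 Q71846 (allL N71846 (tt N106063 (iv1 F452963)) (tt N39676 (iv0 D137554)) (tt N91105 (iv2 F391954)) (tt N97471 (iv3 F416996)) (tt N89307 F391955) (tt N97466 (iv5 F416983)) (tt N97468 F416982) (tt N91107 (iv7 F391960)))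
theorem Q71848 : ∀ i, i < 71848 → P i := stepQ 71847 Q71847 (allL N71847 (tt N39676 (iv1 D137555)) (tt N106063 (iv0 F452962)) (tt N91107 (iv2 F391959)) (tt N93106 (iv3 F399513)) (tt N89308 F386022) (tt N106893 D210102) (tt N103485 (iv6 F441825)) (tt N91105 (iv7 F391951)))
theorem Q71849 : ∀ i, i < 71849 → P i := stepQ 71848 Q71848 (allL N71848 (tt N106743 (iv1 F455510)) (tt N102038 (iv0 F435468)) (tt N106888 (iv2 F456143)) (tt N102829 (iv3 F438835)) (tt N106894 D210103) (tt N39676 (iv5 D137556)) (tt N106888 (iv6 F456144)) (tt N106064 (iv7 F452964)))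
theorem Q71850 : ∀ i, i < 71850 → P i := stepQ 71849 Q71849 (allL N71849 (tt N88782 F384132) (tt N91210 (iv0 F392275)) (tt N106895 D210104) (tt N39677 (iv3 D137577)) (tt N104856 (iv4 F447647)) (tt N83827 F344343) (tt N106896 D210105) (tt N84082 (iv7 F368042)))
theorem Q71851 : ∀ i, i < 71851 → P i := stepQ 71850 Q71850 (allL N71850 (tt N106853 F456003) (tt N87688 (iv0 F421420)) (tt N84085 (iv2 F368046)) (tt N106896 (iv3 F456176)) (tt N76769 (iv4 F347057)) (tt N71505 F220749) (tt N39677 (iv6 D137580)) (tt N106897 D210106))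
theorem Q71852 : ∀ i, i < 71852 → P i := stepQ 71851 Q71851 (allL N71851 (tt N82767 F338482) (tt N51597 (iv0 F338479)) (tt N82769 (iv2 F362417)) (tt N39678 (iv3 D137582)) (tt N103870 (iv4 F443152)) (tt N48563 F338483) (tt N106898 D210107) (tt N82768 (iv7 F344336)))
theorem Q71853 : ∀ i, i < 71853 → P i := stepQ 71852 Q71852 (allL N71852 (tt N66234 F338477) (tt N66396 F338480) (tt N66395 F362654) (tt N79780 (iv3 F348611)) (tt N39678 (iv4 D137583)) (tt N79779 F348609) (tt N96992 (iv6 F414954)) (tt N66394 (iv7 F344357)))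
theorem Q71854 : ∀ i, i < 71854 → P i := stepQ 71853 Q71853 (allL N71853 (tt N88793 F411148) (tt N104110 (iv0 F444226)) (tt N84084 (iv2 F368045)) (tt N106898 (iv3 F456190)) (tt N96992 (iv4 F414955)) (tt N54026 F338484) (tt N39678 (iv6 D137585)) (tt N106899 D210108))
theorem Q71855 : ∀ i, i < 71855 → P i := stepQ 71854 Q71854 (allL N71854 (tt N106068 (iv1 F452978)) (tt N39680 (iv0 D137590)) (tt N73916 F365514) (tt N40964 F365515) (tt N91054 (iv4 F391776)) (tt N53313 F365516) (tt N62949 F365517) (tt N40959 F365518))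
theorem Q71856 : ∀ i, i < 71856 → P i := stepQ 71855 Q71855 (allL N71855 (tt N73916 F362225) (tt N40959 F362226) (tt N39680 (iv2 D137592)) (tt N54174 (iv3 F362213)) (tt N54769 (iv4 F362215)) (tt N106900 D210109) (tt N94162 (iv6 F403487)) (tt N106068 (iv7 F452977)))
theorem Q71857 : ∀ i, i < 71857 → P i := stepQ 71856 Q71856 (allL N71856 (tt N88988 F384681) (tt N106901 D210110) (tt N106900 (iv2 F456204)) (tt N39682 F220753) (tt N84395 F369135) (tt N39680 (iv5 D137593)) (tt N76179 (iv6 F349211)) (tt N88810 (iv7 F384224)))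
theorem Q71858 : ∀ i, i < 71858 → P i := stepQ 71857 Q71857 (allL N71857 (tt N106902 D210111) (tt N106903 D210112) (tt N94162 (iv2 F403486)) (tt N39683 F220754) (tt N80599 (iv4 F360985)) (tt N76180 F360983) (tt N39680 (iv6 D137594)) (tt N106260 (iv7 F453784)))
theorem Q71859 : ∀ i, i < 71859 → P i := stepQ 71858 Q71858 (allL N71858 (tt N72128 F221402) (tt N95587 (iv0 F408783)) (tt N71957 (iv2 F221059)) (tt N66416 F220755) (tt N39683 F220756) (tt N58768 F220757) (tt N39681 (iv6 D137595)) (tt N94277 (iv7 F403928)))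
theorem Q71860 : ∀ i, i < 71860 → P i := stepQ 71859 Q71859 (allL N71859 (tt N83848 (iv1 F356793)) (tt N51111 F356794) (tt N83853 F357616) (tt N106904 D210113) (tt N39682 (iv4 D137596)) (tt N54602 F357612) (tt N54021 (iv6 F344246)) (tt N83852 F346014))
theorem Q71861 : ∀ i, i < 71861 → P i := stepQ 71860 Q71860 (allL N71860 (tt N39683 (iv1 D137598)) (tt N105955 (iv0 F452492)) (tt N58607 (iv2 F220760)) (tt N54384 F365729) (tt N39689 F220759) (tt N71672 (iv5 F220762)) (tt N70642 (iv6 F220761)) (tt N39856 F220758))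
theorem Q71862 : ∀ i, i < 71862 → P i := stepQ 71861 Q71861 (allL N71861 (tt N54105 (iv1 F365615)) (tt N54172 F365617) (tt N39684 (iv2 D137601)) (tt N106068 (iv3 F452975)) (tt N93715 (iv4 F401648)) (tt N84108 (iv5 F368134)) (tt N106254 (iv6 F453774)) (tt N54174 (iv7 F362214)))
theorem Q71863 : ∀ i, i < 71863 → P i := stepQ 71862 Q71862 (allL N71862 (tt N86754 (iv1 F377067)) (tt N48574 F335761) (tt N84108 (iv2 F368133)) (tt N39685 F220763) (tt N105322 (iv4 F449710)) (tt N39684 (iv5 D137602)) (tt N51155 F339535) (tt N86753 (iv7 F377063)))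
theorem Q71864 : ∀ i, i < 71864 → P i := stepQ 71863 Q71863 (allL N71863 (tt N39782 F325057) (tt N39686 (iv0 D137617)) (tt N39784 F325058) (tt N84986 (iv3 F371273)) (tt N63330 F334864) (tt N53314 (iv5 F356217)) (tt N39772 F325059) (tt N39773 F325060))
theorem Q71865 : ∀ i, i < 71865 → P i := stepQ 71864 Q71864 (allL N71864 (tt N88989 (iv1 F384687)) (tt N88987 (iv0 F384675)) (tt N90923 (iv2 F391278)) (tt N39687 F220772) (tt N90923 (iv4 F391280)) (tt N39686 (iv5 D137620)) (tt N106905 D210114) (tt N82859 F356219))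
theorem Q71866 : ∀ i, i < 71866 → P i := stepQ 71865 Q71865 (allL N71865 (tt N106389 F454254) (tt N106906 D210115) (tt N90924 (iv2 F391284)) (tt N39688 F220773) (tt N40763 F220774) (tt N106907 D210116) (tt N39686 (iv6 D137621)) (tt N106273 (iv7 F453840)))
theorem Q71867 : ∀ i, i < 71867 → P i := stepQ 71866 Q71866 (allL N71866 (tt N39687 (iv1 D137623)) (tt N39690 F220776) (tt N51463 (iv2 F335569)) (tt N90974 F391433) (tt N86246 (iv4 F375567)) (tt N57517 F220777) (tt N86244 (iv6 F375555)) (tt N82712 (iv7 F335577)))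
theorem Q71868 : ∀ i, i < 71868 → P i := stepQ 71867 Q71867 (allL N71867 (tt N76101 (iv1 F346040)) (tt N48609 F335581) (tt N83478 (iv2 F346045)) (tt N80626 F346043) (tt N39687 (iv4 D137624)) (tt N54499 (iv5 F346041)) (tt N55301 (iv6 F346042)) (tt N82795 F346044))
theorem Q71869 : ∀ i, i < 71869 → P i := stepQ 71868 Q71868 (allL N71868 (tt N54935 F343894) (tt N55074 F343891) (tt N55072 (iv2 F335549)) (tt N106905 (iv3 F456221)) (tt N55301 (iv4 F343895)) (tt N72600 F364422) (tt N39687 (iv6 D137625)) (tt N55073 (iv7 F343901)))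
theorem Q71870 : ∀ i, i < 71870 → P i := stepQ 71869 Q71869 (allL N71869 (tt N39688 (iv1 D137626)) (tt N96743 (iv0 F413726)) (tt N106069 (iv2 F452985)) (tt N90976 F391440) (tt N65852 (iv4 F220779)) (tt N71698 F220780) (tt N104713 (iv6 F446955)) (tt N39841 F220778))
theorem Q71871 : ∀ i, i < 71871 → P i := stepQ 71870 Q71870 (allL N71870 (tt N94939 (iv1 F406427)) (tt N95608 (iv0 F408868)) (tt N72601 F364412) (tt N106907 (iv3 F456232)) (tt N106056 (iv4 F452931)) (tt N39688 (iv5 D137627)) (tt N72600 (iv6 F364421)) (tt N102757 (iv7 F438500)))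
theorem Q71872 : ∀ i, i < 71872 → P i := stepQ 71871 Q71871 (allL N71871 (tt N48609 F335580) (tt N76101 F346046) (tt N82795 F329308) (tt N88597 (iv3 F383551)) (tt N39690 (iv4 D137632)) (tt N54500 F329309) (tt N48547 F329310) (tt N83478 F329311))
theorem Q71873 : ∀ i, i < 71873 → P i := stepQ 71872 Q71872 (allL N71872 (tt N39692 (iv1 F220783)) (tt N39691 (iv0 D137634)) (tt N77886 F245227) (tt N106908 D210117) (tt N57525 F220782) (tt N90028 (iv5 F388338)) (tt N77908 F245272) (tt N57522 F220784))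
theorem Q71874 : ∀ i, i < 71874 → P i := stepQ 71873 Q71873 (allL N71873 (tt N61794 F220789) (tt N62069 F220790) (tt N62068 F220787) (tt N43353 F322252) (tt N54498 (iv4 F346029)) (tt N39691 (iv5 D137636)) (tt N99363 (iv6 F424291)) (tt N62067 F220788))
theorem Q71875 : ∀ i, i < 71875 → P i := stepQ 71874 Q71874 (allL N71874 (tt N62069 F220793) (tt N61794 F220794) (tt N62067 F220791) (tt N101617 (iv3 F433572)) (tt N42541 F346023) (tt N39692 (iv5 D137638)) (tt N42548 F346024) (tt N62068 F220792))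
theorem Q71876 : ∀ i, i < 71876 → P i := stepQ 71875 Q71875 (allL N71875 (tt N106909 D210118) (tt N100435 (iv0 F428966)) (tt N106910 D210119) (tt N39694 (iv3 D137640)) (tt N78074 (iv4 F245673)) (tt N106911 D210120) (tt N93513 (iv6 F400990)) (tt N77882 (iv7 F245204)))
theorem Q71877 : ∀ i, i < 71877 → P i := stepQ 71876 Q71876 (allL N71876 (tt N61781 F220799) (tt N62025 F220800) (tt N62023 F220797) (tt N106911 (iv3 F456246)) (tt N53986 F346060) (tt N39694 (iv5 D137641)) (tt N71512 (iv6 F346061)) (tt N53985 (iv7 F346059)))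
theorem Q71878 : ∀ i, i < 71878 → P i := stepQ 71877 Q71877 (allL N71877 (tt N54547 F365376) (tt N106912 D210121) (tt N106913 D210122) (tt N39695 (iv3 D137642)) (tt N68114 F220801) (tt N101752 (iv5 F434184)) (tt N106914 D210123) (tt N77881 (iv7 F245203)))
theorem Q71879 : ∀ i, i < 71879 → P i := stepQ 71878 Q71878 (allL N71878 (tt N62025 F220804) (tt N61781 F220805) (tt N53985 (iv2 F346057)) (tt N101752 (iv3 F434180)) (tt N53228 (iv4 F346031)) (tt N39695 (iv5 D137643)) (tt N101752 (iv6 F434181)) (tt N62023 F220803))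
theorem Q71880 : ∀ i, i < 71880 → P i := stepQ 71879 Q71879 (allL N71879 (tt N62168 (iv1 F226987)) (tt N62165 (iv0 F226986)) (tt N77883 (iv2 F245205)) (tt N106914 (iv3 F456263)) (tt N74203 F226984) (tt N106914 (iv5 F456265)) (tt N39695 (iv6 D137644)) (tt N74200 (iv7 F226972)))
theorem Q71881 : ∀ i, i < 71881 → P i := stepQ 71880 Q71880 (allL N71880 (tt N106915 D210124) (tt N39696 (iv0 D137645)) (tt N106916 D210125) (tt N106917 D210126) (tt N106918 D210127) (tt N106919 D210128) (tt N93503 (iv6 F456274)) (tt N106920 D210129))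
theorem Q71882 : ∀ i, i < 71882 → P i := stepQ 71881 Q71881 (allL N71881 (tt N39696 (iv1 D137646)) (tt N106915 F456271) (tt N106920 (iv2 F456282)) (tt N106921 D210130) (tt N95690 (iv4 F409156)) (tt N106922 D210131) (tt N95693 (iv6 F409164)) (tt N106916 F456272))
theorem Q71883 : ∀ i, i < 71883 → P i := stepQ 71882 Q71882 (allL N71882 (tt N106916 F456277) (tt N106920 F456283) (tt N39696 (iv2 D137647)) (tt N77812 (iv3 F245042)) (tt N93381 (iv4 F400592)) (tt N106923 D210132) (tt N77811 (iv6 F245035)) (tt N106915 (iv7 F456270)))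
theorem Q71884 : ∀ i, i < 71884 → P i := stepQ 71883 Q71883 (allL N71883 (tt N99123 (iv1 F500498)) (tt N99125 F424800) (tt N106923 (iv2 F456300)) (tt N39697 F220806) (tt N106924 D210134) (tt N39696 (iv5 D137648)) (tt N106923 (iv6 F456302)) (tt N106925 D210135))
theorem Q71885 : ∀ i, i < 71885 → P i := stepQ 71884 Q71884 (allL N71884 (tt N106920 (iv1 F456284)) (tt N106916 F456280) (tt N106915 F456269) (tt N39698 F220807) (tt N93385 (iv4 F400603)) (tt N106925 (iv5 F456304)) (tt N77897 (iv6 F245254)) (tt N39696 (iv7 D137649)))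
theorem Q71886 : ∀ i, i < 71886 → P i := stepQ 71885 Q71885 (allL N71885 (tt N100417 F428877) (tt N99933 F426883) (tt N77879 (iv2 F245198)) (tt N106923 (iv3 F456301)) (tt N83473 F365328) (tt N77812 (iv5 F245043)) (tt N39697 (iv6 D137651)) (tt N106926 D210136))
theorem Q71887 : ∀ i, i < 71887 → P i := stepQ 71886 Q71886 (allL N71886 (tt N77885 (iv1 F245213)) (tt N77884 F245212) (tt N54501 (iv2 F328983)) (tt N106925 (iv3 F456303)) (tt N54495 F357613) (tt N39698 F220808) (tt N106927 D210137) (tt N39697 (iv7 D137652)))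
theorem Q71888 : ∀ i, i < 71888 → P i := stepQ 71887 Q71887 (allL N71887 (tt N39699 (iv1 D137653)) (tt N39774 F220809) (tt N39753 F220813) (tt N39757 (iv3 F220812)) (tt N66554 F220814) (tt N60852 F220811) (tt N106928 D210138) (tt N39775 F220810))
theorem Q71889 : ∀ i, i < 71889 → P i := stepQ 71888 Q71888 (allL N71888 (tt N106390 F454259) (tt N106929 D210139) (tt N106822 (iv2 F455832)) (tt N39702 F220823) (tt N66468 F220824) (tt N76923 F355887) (tt N39699 (iv6 D137654)) (tt N78355 F338936))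
theorem Q71890 : ∀ i, i < 71890 → P i := stepQ 71889 Q71889 (allL N71889 (tt N39704 (iv1 F220825)) (tt N39700 (iv0 D137655)) (tt N54199 (iv2 F349721)) (tt N57110 (iv3 F336131)) (tt N54107 F345447) (tt N96538 (iv5 F412905)) (tt N54106 F357298) (tt N57107 (iv7 F345465)))
theorem Q71891 : ∀ i, i < 71891 → P i := stepQ 71890 Q71890 (allL N71890 (tt N39700 (iv1 D137656)) (tt N39704 F220827) (tt N57107 F349718) (tt N62333 F349719) (tt N54200 (iv4 F349707)) (tt N96537 (iv5 F412899)) (tt N106930 D210140) (tt N54199 F349720))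
theorem Q71892 : ∀ i, i < 71892 → P i := stepQ 71891 Q71891 (allL N71891 (tt N73463 F224900) (tt N105353 (iv0 F449847)) (tt N73429 (iv2 F224829)) (tt N39700 (iv3 D137657)) (tt N66467 F220828) (tt N106931 D210141) (tt N102263 (iv6 F436443)) (tt N101829 F434550))
theorem Q71893 : ∀ i, i < 71893 → P i := stepQ 71892 Q71892 (allL N71892 (tt N106932 D210142) (tt N105646 (iv0 F451093)) (tt N59438 F220829) (tt N106931 (iv3 F456327)) (tt N59434 F220830) (tt N39700 (iv5 D137658)) (tt N65269 (iv6 F350376)) (tt N106077 (iv7 F453017)))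
theorem Q71894 : ∀ i, i < 71894 → P i := stepQ 71893 Q71893 (allL N71893 (tt N54151 F350156) (tt N54158 (iv0 F351571)) (tt N78360 F338956) (tt N102263 (iv3 F436442)) (tt N39702 F220831) (tt N65270 F338941) (tt N39700 (iv6 D137659)) (tt N78356 F338937))
theorem Q71895 : ∀ i, i < 71895 → P i := stepQ 71894 Q71894 (allL N71894 (tt N48788 F339700) (tt N48549 F339701) (tt N48785 F345930) (tt N92161 (iv3 F396026)) (tt N66007 F220832) (tt N76876 F345931) (tt N39701 (iv6 D137660)) (tt N48786 F345932))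
theorem Q71896 : ∀ i, i < 71896 → P i := stepQ 71895 Q71895 (allL N71895 (tt N76922 F338927) (tt N39702 (iv0 D137661)) (tt N39834 F351805) (tt N78368 (iv3 F351835)) (tt N106933 D210143) (tt N48472 F338928) (tt N106934 D210144) (tt N77272 (iv7 F351806)))
theorem Q71897 : ∀ i, i < 71897 → P i := stepQ 71896 Q71896 (allL N71896 (tt N69708 F220833) (tt N40949 (iv0 F220834)) (tt N91072 (iv2 F391817)) (tt N73428 (iv3 F224823)) (tt N39703 (iv4 D137667)) (tt N90165 (iv5 F388747)) (tt N96285 (iv6 F411877)) (tt N91075 (iv7 F391831)))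
theorem Q71898 : ∀ i, i < 71898 → P i := stepQ 71897 Q71897 (allL N71897 (tt N106079 (iv1 F453031)) (tt N102845 (iv0 F438912)) (tt N91073 (iv2 F391822)) (tt N39705 F220835) (tt N106935 D210145) (tt N39703 (iv5 D137668)) (tt N105081 (iv6 F448698)) (tt N91076 (iv7 F391836)))
theorem Q71899 : ∀ i, i < 71899 → P i := stepQ 71898 Q71898 (allL N71898 (tt N105646 F451095) (tt N106932 F456333) (tt N106077 (iv2 F453014)) (tt N72452 (iv3 F222514)) (tt N59333 F220837) (tt N39704 (iv5 D137670)) (tt N50387 (iv6 F350372)) (tt N59438 F220838))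
theorem Q71900 : ∀ i, i < 71900 → P i := stepQ 71899 Q71899 (allL N71899 (tt N39823 F380786) (tt N105273 (iv0 F449500)) (tt N97508 (iv2 F417158)) (tt N105081 (iv3 F448697)) (tt N97501 (iv4 F417129)) (tt N106299 (iv5 F453941)) (tt N39705 (iv6 D137672)) (tt N103419 (iv7 F441543)))
theorem Q71901 : ∀ i, i < 71901 → P i := stepQ 71900 Q71900 (allL N71900 (tt N93306 (iv1 F400334)) (tt N73130 (iv0 F223866)) (tt N39711 F220840) (tt N93287 (iv3 F400289)) (tt N59432 F220841) (tt N39706 (iv5 D137677)) (tt N67076 (iv6 F350043)) (tt N91759 (iv7 F394326)))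
theorem Q71902 : ∀ i, i < 71902 → P i := stepQ 71901 Q71901 (allL N71901 (tt N90307 (iv1 F389301)) (tt N90306 F389297) (tt N39712 F220842) (tt N93288 (iv3 F400291)) (tt N39708 F220843) (tt N67077 F350042) (tt N39706 (iv6 D137678)) (tt N88019 (iv7 F381492)))
theorem Q71903 : ∀ i, i < 71903 → P i := stepQ 71902 Q71902 (allL N71902 (tt N66051 (iv1 F220882)) (tt N60640 F220846) (tt N39715 F220844) (tt N102393 (iv3 F437035)) (tt N39707 (iv4 D137679)) (tt N59427 F220845) (tt N87854 (iv6 F380862)) (tt N51623 (iv7 F349687)))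
theorem Q71904 : ∀ i, i < 71904 → P i := stepQ 71903 Q71903 (allL N71903 (tt N93348 (iv1 F400489)) (tt N70141 (iv0 F223822)) (tt N93305 (iv2 F400329)) (tt N40732 F220855) (tt N95722 (iv4 F409312)) (tt N39709 (iv5 D137685)) (tt N65276 (iv6 F351891)) (tt N93303 (iv7 F400317)))
theorem Q71905 : ∀ i, i < 71905 → P i := stepQ 71904 Q71904 (allL N71904 (tt N106933 (iv1 F456339)) (tt N93362 (iv0 F400528)) (tt N90252 (iv2 F389117)) (tt N40733 F220856) (tt N44569 F339063) (tt N65277 F345681) (tt N39709 (iv6 D137686)) (tt N73575 F351594))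
theorem Q71906 : ∀ i, i < 71906 → P i := stepQ 71905 Q71905 (allL N71905 (tt N91759 (iv1 F394327)) (tt N39711 (iv0 D137690)) (tt N93306 (iv2 F400337)) (tt N62236 F220865) (tt N59628 F220863) (tt N58075 (iv5 F220864)) (tt N106936 D210146) (tt N73130 (iv7 F223865)))
theorem Q71907 : ∀ i, i < 71907 → P i := stepQ 71906 Q71906 (allL N71906 (tt N39711 (iv1 D137691)) (tt N91759 F394329) (tt N73130 (iv2 F394330)) (tt N98208 (iv3 F419998)) (tt N106937 D210147) (tt N58076 (iv5 F394331)) (tt N58004 F394332) (tt N93306 (iv7 F400335)))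
theorem Q71908 : ∀ i, i < 71908 → P i := stepQ 71907 Q71907 (allL N71907 (tt N43583 F350046) (tt N43404 F350047) (tt N67076 F350048) (tt N70121 F220866) (tt N75522 F350049) (tt N63196 F350050) (tt N39711 (iv6 D137692)) (tt N67070 F350051))
theorem Q71909 : ∀ i, i < 71909 → P i := stepQ 71908 Q71908 (allL N71908 (tt N88019 F381495) (tt N39712 (iv0 D137693)) (tt N90307 (iv2 F389298)) (tt N43891 F335443) (tt N73847 F335444) (tt N75349 (iv5 F357258)) (tt N43889 F335445) (tt N90306 (iv7 F389295)))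
theorem Q71910 : ∀ i, i < 71910 → P i := stepQ 71909 Q71909 (allL N71909 (tt N39712 (iv1 D137694)) (tt N88019 F381493) (tt N90306 (iv2 F389292)) (tt N93667 F401498) (tt N89238 (iv4 F385727)) (tt N75352 (iv5 F381494)) (tt N106938 D210148) (tt N90307 (iv7 F389299)))
theorem Q71911 : ∀ i, i < 71911 → P i := stepQ 71910 Q71910 (allL N71910 (tt N66274 (iv1 F220874)) (tt N58073 (iv0 F220872)) (tt N66273 (iv2 F220879)) (tt N60853 F220870) (tt N106939 D210149) (tt N39713 (iv5 D137697)) (tt N106940 D210150) (tt N66272 F220871))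
theorem Q71912 : ∀ i, i < 71912 → P i := stepQ 71911 Q71911 (allL N71911 (tt N91080 (iv1 F391853)) (tt N91052 (iv0 F391769)) (tt N91077 F391838) (tt N39714 (iv3 D137698)) (tt N105791 (iv4 F451734)) (tt N106941 D210151) (tt N94582 F405048) (tt N91078 (iv7 F391843)))
theorem Q71913 : ∀ i, i < 71913 → P i := stepQ 71912 Q71912 (allL N71912 (tt N58073 (iv1 F220881)) (tt N66274 F220877) (tt N66272 F220876) (tt N106941 (iv3 F456372)) (tt N93256 (iv4 F400154)) (tt N39714 (iv5 D137699)) (tt N106942 D210152) (tt N66273 (iv7 F220878)))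
theorem Q71914 : ∀ i, i < 71914 → P i := stepQ 71913 Q71913 (allL N71913 (tt N104094 (iv1 F444148)) (tt N106943 D210153) (tt N92937 (iv2 F398835)) (tt N94582 (iv3 F405044)) (tt N56577 F349654) (tt N82926 F364105) (tt N39714 (iv6 D137700)) (tt N92939 (iv7 F398843)))
theorem Q71915 : ∀ i, i < 71915 → P i := stepQ 71914 Q71914 (allL N71914 (tt N51623 F349684) (tt N39715 (iv0 D137701)) (tt N66051 (iv2 F220912)) (tt N60626 F220913) (tt N73836 F225944) (tt N60624 F220914) (tt N90414 (iv6 F389563)) (tt N60640 F220915))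
theorem Q71916 : ∀ i, i < 71916 → P i := stepQ 71915 Q71915 (allL N71915 (tt N39715 (iv1 D137702)) (tt N51623 F349686) (tt N60640 (iv2 F220908)) (tt N65905 (iv3 F220909)) (tt N71842 (iv4 F220884)) (tt N59627 F220883) (tt N105391 (iv6 F450023)) (tt N66051 (iv7 F220910)))
theorem Q71917 : ∀ i, i < 71917 → P i := stepQ 71916 Q71916 (allL N71916 (tt N69794 F359790) (tt N69792 (iv0 F352614)) (tt N87854 (iv2 F380858)) (tt N68943 F359787) (tt N39716 F220925) (tt N106944 D210154) (tt N39715 (iv6 D137703)) (tt N51696 (iv7 F359789)))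
theorem Q71918 : ∀ i, i < 71918 → P i := stepQ 71917 Q71917 (allL N71917 (tt N106861 F456052) (tt N106928 F456314) (tt N98182 (iv2 F419883)) (tt N39717 (iv3 D137709)) (tt N106823 (iv4 F455839)) (tt N84492 F369534) (tt N78830 (iv6 F386860)) (tt N91749 (iv7 F394293)))
theorem Q71919 : ∀ i, i < 71919 → P i := stepQ 71918 Q71918 (allL N71918 (tt N54186 F365537) (tt N106930 F456325) (tt N89590 (iv2 F386861)) (tt N106945 D210155) (tt N39717 (iv4 D137710)) (tt N106946 D210156) (tt N89589 F386855) (tt N91750 (iv7 F394300)))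
theorem Q71920 : ∀ i, i < 71920 → P i := stepQ 71919 Q71919 (allL N71919 (tt N105974 F452580) (tt N105977 F452599) (tt N89579 F386809) (tt N78830 F386854) (tt N89589 (iv4 F386852)) (tt N106947 D210157) (tt N39717 (iv6 D137712)) (tt N105976 F452594))
theorem Q71921 : ∀ i, i < 71921 → P i := stepQ 71920 Q71920 (allL N71920 (tt N40936 F357291) (tt N40966 F357292) (tt N89275 F385883) (tt N39718 (iv3 D137714)) (tt N89581 (iv4 F386811)) (tt N40980 F357293) (tt N106948 D210158) (tt N89276 (iv7 F385886)))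
theorem Q71922 : ∀ i, i < 71922 → P i := stepQ 71921 Q71921 (allL N71921 (tt N106930 (iv1 F456326)) (tt N54186 F357289) (tt N91750 (iv2 F394299)) (tt N89592 (iv3 F386870)) (tt N39718 (iv4 D137715)) (tt N81731 F355523) (tt N106949 D210159) (tt N89590 F386864))
theorem Q71923 : ∀ i, i < 71923 → P i := stepQ 71922 Q71922 (allL N71922 (tt N106865 (iv1 F470238)) (tt N106934 (iv0 F456342)) (tt N91751 (iv2 F394303)) (tt N106948 (iv3 F456405)) (tt N106949 (iv4 F456407)) (tt N82726 F365472) (tt N39718 (iv6 D137717)) (tt N106950 D210161))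
theorem Q71924 : ∀ i, i < 71924 → P i := stepQ 71923 Q71923 (allL N71923 (tt N59127 (iv1 F220938)) (tt N62352 F220939) (tt N67123 F220933) (tt N39720 F220934) (tt N70123 F220935) (tt N58953 F220936) (tt N67124 F220937) (tt N39719 (iv7 D137722)))
theorem Q71925 : ∀ i, i < 71925 → P i := stepQ 71924 Q71924 (allL N71924 (tt N71410 (iv1 F220958)) (tt N39721 (iv0 D137729)) (tt N71407 (iv2 F397623)) (tt N106951 D210162) (tt N102781 F438620) (tt N106952 D210163) (tt N92607 F397622) (tt N71408 (iv7 F397625)))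
theorem Q71926 : ∀ i, i < 71926 → P i := stepQ 71925 Q71925 (allL N71925 (tt N39721 (iv1 D137730)) (tt N71410 F220953) (tt N71408 F397626) (tt N86024 (iv3 F397627)) (tt N102782 (iv4 F438628)) (tt N106953 D210164) (tt N106954 D210165) (tt N71407 F397624))
theorem Q71927 : ∀ i, i < 71927 → P i := stepQ 71926 Q71926 (allL N71926 (tt N69962 F365450) (tt N72106 (iv0 F221357)) (tt N71409 F220954) (tt N69931 F365882) (tt N80505 (iv4 F334126)) (tt N39721 (iv5 D137731)) (tt N70647 F220955) (tt N104099 (iv7 F444176)))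
theorem Q71928 : ∀ i, i < 71928 → P i := stepQ 71927 Q71927 (allL N71927 (tt N40923 F220979) (tt N40960 F220980) (tt N70318 F333082) (tt N73314 (iv3 F333090)) (tt N39722 (iv4 D137734)) (tt N106955 D210166) (tt N104113 (iv6 F444247)) (tt N71402 F220978))
theorem Q71929 : ∀ i, i < 71929 → P i := stepQ 71928 Q71928 (allL N71928 (tt N70245 (iv1 F365748)) (tt N70244 F365743) (tt N67226 F365740) (tt N39723 F220987) (tt N104113 (iv4 F444245)) (tt N105411 (iv5 F450129)) (tt N39722 (iv6 D137735)) (tt N70246 (iv7 F365741)))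
theorem Q71930 : ∀ i, i < 71930 → P i := stepQ 71929 Q71929 (allL N71929 (tt N106089 (iv1 F453062)) (tt N39827 F441953) (tt N106072 (iv2 F452994)) (tt N88679 (iv3 F383858)) (tt N104638 (iv4 F446638)) (tt N106314 (iv5 F453986)) (tt N39727 (iv6 D137774)) (tt N88676 (iv7 F383847)))
theorem Q71931 : ∀ i, i < 71931 → P i := stepQ 71930 Q71930 (allL N71930 (tt N57104 (iv1 F336128)) (tt N57101 (iv0 F336150)) (tt N57084 F221026) (tt N92456 (iv3 F397058)) (tt N39728 (iv4 D137780)) (tt N92907 (iv5 F398732)) (tt N106956 D210167) (tt N57100 F221027))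
theorem Q71932 : ∀ i, i < 71932 → P i := stepQ 71931 Q71931 (allL N71931 (tt N96128 (iv1 F411181)) (tt N39789 F383804) (tt N88669 (iv2 F383799)) (tt N39730 F221029) (tt N103682 (iv4 F442471)) (tt N39728 (iv5 D137781)) (tt N88667 F383797) (tt N106071 (iv7 F452991)))
theorem Q71933 : ∀ i, i < 71933 → P i := stepQ 71932 Q71932 (allL N71932 (tt N96164 F411313) (tt N96167 F411321) (tt N91103 (iv2 F391941)) (tt N39731 F221030) (tt N106956 (iv4 F456437)) (tt N70543 (iv5 F371284)) (tt N39728 (iv6 D137782)) (tt N106317 (iv7 F454001)))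
theorem Q71934 : ∀ i, i < 71934 → P i := stepQ 71933 Q71933 (allL N71933 (tt N106957 D210168) (tt N106958 D210169) (tt N106070 (iv2 F452986)) (tt N92458 (iv3 F397066)) (tt N39731 F221031) (tt N76749 F362494) (tt N39729 (iv6 D137784)) (tt N106318 (iv7 F454005)))
theorem Q71935 : ∀ i, i < 71935 → P i := stepQ 71934 Q71934 (allL N71934 (tt N70386 F365465) (tt N48777 F365466) (tt N83981 (iv2 F367703)) (tt N88667 (iv3 F383795)) (tt N103859 F443115) (tt N106959 D210170) (tt N39730 (iv6 D137786)) (tt N88674 (iv7 F383843)))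
theorem Q71936 : ∀ i, i < 71936 → P i := stepQ 71935 Q71935 (allL N71935 (tt N39731 (iv1 D137788)) (tt N104244 (iv0 F444902)) (tt N39838 F362503) (tt N77272 F362504) (tt N106960 D210171) (tt N63868 F362505) (tt N90975 (iv6 F391437)) (tt N78368 F362506))
theorem Q71937 : ∀ i, i < 71937 → P i := stepQ 71936 Q71936 (allL N71936 (tt N64421 (iv1 F362500)) (tt N63847 F362501) (tt N76926 (iv2 F362496)) (tt N70543 F371285) (tt N87924 (iv4 F381154)) (tt N39731 (iv5 D137789)) (tt N106959 (iv6 F456449)) (tt N63454 F362495))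
theorem Q71938 : ∀ i, i < 71938 → P i := stepQ 71937 Q71937 (allL N71937 (tt N69035 F360506) (tt N69032 F360507) (tt N39736 F221032) (tt N92431 (iv3 F396995)) (tt N70296 F347231) (tt N39732 (iv5 D137791)) (tt N92296 (iv6 F396614)) (tt N57532 F360508))
theorem Q71939 : ∀ i, i < 71939 → P i := stepQ 71938 Q71938 (allL N71938 (tt N102656 F438090) (tt N102653 (iv0 F438071)) (tt N99067 (iv2 F423214)) (tt N39735 (iv3 D137801)) (tt N71770 F221043) (tt N106961 D210172) (tt N106962 D210173) (tt N92417 (iv7 F396949)))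
theorem Q71940 : ∀ i, i < 71940 → P i := stepQ 71939 Q71939 (allL N71939 (tt N55936 F347221) (tt N55935 F347226) (tt N55937 (iv2 F347228)) (tt N106961 (iv3 F456458)) (tt N55864 (iv4 F344621)) (tt N39735 (iv5 D137802)) (tt N55952 (iv6 F347229)) (tt N55862 F347227))
theorem Q71941 : ∀ i, i < 71941 → P i := stepQ 71940 Q71940 (allL N71940 (tt N92523 F397232) (tt N106960 (iv0 F456455)) (tt N92416 (iv2 F396945)) (tt N106962 (iv3 F456462)) (tt N71769 F221044) (tt N76739 F358057) (tt N39735 (iv6 D137803)) (tt N102744 (iv7 F438457)))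
theorem Q71942 : ∀ i, i < 71942 → P i := stepQ 71941 Q71941 (allL N71941 (tt N57532 F347232) (tt N39736 (iv0 D137804)) (tt N69035 F347233) (tt N99880 (iv3 F426658)) (tt N41574 F347234) (tt N55895 (iv5 F347237)) (tt N92342 (iv6 F396765)) (tt N69032 F347235))
theorem Q71943 : ∀ i, i < 71943 → P i := stepQ 71942 Q71942 (allL N71942 (tt N39736 (iv1 D137805)) (tt N57532 F344614) (tt N69032 F344615) (tt N106963 D210174) (tt N41575 F344616) (tt N55896 (iv5 F347236)) (tt N94410 (iv6 F404350)) (tt N69035 F344617))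
theorem Q71944 : ∀ i, i < 71944 → P i := stepQ 71943 Q71943 (allL N71943 (tt N89361 F386242) (tt N39737 (iv0 D137808)) (tt N90636 (iv2 F390340)) (tt N106964 D210175) (tt N89174 F385447) (tt N106965 D210176) (tt N106966 D210177) (tt N91754 (iv7 F394316)))
theorem Q71945 : ∀ i, i < 71945 → P i := stepQ 71944 Q71944 (allL N71944 (tt N39737 (iv1 D137809)) (tt N89361 (iv0 F386241)) (tt N91754 F394317) (tt N106967 D210178) (tt N89173 (iv4 F385443)) (tt N106968 D210179) (tt N106969 D210180) (tt N90636 (iv7 F390343)))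
theorem Q71946 : ∀ i, i < 71946 → P i := stepQ 71945 Q71945 (allL N71945 (tt N106970 D210181) (tt N106971 D210182) (tt N91756 (iv2 F394321)) (tt N92306 (iv3 F396653)) (tt N106972 D210183) (tt N39737 (iv5 D137810)) (tt N92402 (iv6 F396914)) (tt N106973 D210184))
theorem Q71947 : ∀ i, i < 71947 → P i := stepQ 71946 Q71946 (allL N71946 (tt N91754 (iv1 F394315)) (tt N90636 (iv0 F390344)) (tt N89361 (iv2 F386239)) (tt N92307 (iv3 F396658)) (tt N39743 F221045) (tt N106973 (iv5 F456490)) (tt N92421 (iv6 F396959)) (tt N39737 (iv7 D137811)))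
theorem Q71948 : ∀ i, i < 71948 → P i := stepQ 71947 Q71947 (allL N71947 (tt N66351 (iv1 F361811)) (tt N55876 F361810) (tt N66350 (iv2 F386029)) (tt N71582 F361812) (tt N104647 (iv4 F446675)) (tt N39738 (iv5 D137815)) (tt N106974 D210185) (tt N66349 (iv7 F386032)))
theorem Q71949 : ∀ i, i < 71949 → P i := stepQ 71948 Q71948 (allL N71948 (tt N104482 (iv1 F445964)) (tt N104093 (iv0 F444144)) (tt N106075 (iv2 F453008)) (tt N67228 F347282) (tt N104640 (iv4 F446651)) (tt N86277 (iv5 F375653)) (tt N39738 (iv6 D137816)) (tt N106975 D210186))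
theorem Q71950 : ∀ i, i < 71950 → P i := stepQ 71949 Q71949 (allL N71949 (tt N96158 F411285) (tt N39758 F345912) (tt N91106 (iv2 F391957)) (tt N39739 (iv3 D137818)) (tt N105129 (iv4 F448922)) (tt N106976 D210187) (tt N106977 D210188) (tt N106074 (iv7 F453002)))
theorem Q71951 : ∀ i, i < 71951 → P i := stepQ 71950 Q71950 (allL N71950 (tt N55876 F347248) (tt N66351 (iv0 F360520)) (tt N66349 F386030) (tt N106976 (iv3 F456500)) (tt N93571 (iv4 F401183)) (tt N39739 (iv5 D137820)) (tt N106978 D210189) (tt N66350 F386028))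
theorem Q71952 : ∀ i, i < 71952 → P i := stepQ 71951 Q71951 (allL N71951 (tt N106951 F456412) (tt N106979 D210190) (tt N106073 (iv2 F452999)) (tt N106977 (iv3 F456505)) (tt N104642 (iv4 F446656)) (tt N106980 D210191) (tt N39739 (iv6 D137821)) (tt N106981 D210192))
theorem Q71953 : ∀ i, i < 71953 → P i := stepQ 71952 Q71952 (allL N71952 (tt N39740 (iv1 D137823)) (tt N103668 (iv0 F442430)) (tt N102550 (iv2 F437615)) (tt N45087 (iv3 F221049)) (tt N71778 F221048) (tt N69162 (iv5 F328662)) (tt N84926 (iv6 F371107)) (tt N75723 (iv7 F233556)))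
theorem Q71954 : ∀ i, i < 71954 → P i := stepQ 71953 Q71953 (allL N71953 (tt N67572 (iv1 F380815)) (tt N87845 F380816) (tt N82793 F365381) (tt N95105 (iv3 F407063)) (tt N39741 F221051) (tt N66206 F365383) (tt N39740 (iv6 D137825)) (tt N87844 (iv7 F380814)))
theorem Q71955 : ∀ i, i < 71955 → P i := stepQ 71954 Q71954 (allL N71954 (tt N90970 (iv1 F391419)) (tt N90969 F391415) (tt N89277 (iv2 F385892)) (tt N106982 D210193) (tt N39742 (iv4 D137837)) (tt N94263 (iv5 F403897)) (tt N106983 D210194) (tt N90966 (iv7 F391402)))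
theorem Q71956 : ∀ i, i < 71956 → P i := stepQ 71955 Q71955 (allL N71955 (tt N90974 (iv1 F391430)) (tt N51465 F365471) (tt N49473 F365468) (tt N53149 (iv3 F365469)) (tt N84648 (iv4 F370020)) (tt N39742 (iv5 D137838)) (tt N49471 (iv6 F365470)) (tt N90967 (iv7 F391406)))
theorem Q71957 : ∀ i, i < 71957 → P i := stepQ 71956 Q71956 (allL N71956 (tt N105968 F454086) (tt N105961 (iv0 F452527)) (tt N89278 (iv2 F385895)) (tt N90950 (iv3 F391354)) (tt N106983 (iv4 F456515)) (tt N106984 D210195) (tt N39742 (iv6 D137839)) (tt N105966 (iv7 F452549)))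
theorem Q71958 : ∀ i, i < 71958 → P i := stepQ 71957 Q71957 (allL N71957 (tt N101925 F434969) (tt N65852 (iv0 F221063)) (tt N71858 F221059) (tt N41515 F221060) (tt N70971 F221061) (tt N41513 F221062) (tt N39744 (iv6 D137844)) (tt N93962 (iv7 F402616)))
theorem Q71959 : ∀ i, i < 71959 → P i := stepQ 71958 Q71958 (allL N71958 (tt N105107 F448827) (tt N39781 F356279) (tt N52918 F356280) (tt N39747 (iv3 D137846)) (tt N106985 D210196) (tt N52917 F356281) (tt N106986 D210197) (tt N105119 (iv7 F448885)))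
theorem Q71960 : ∀ i, i < 71960 → P i := stepQ 71959 Q71959 (allL N71959 (tt N106954 F456426) (tt N101136 (iv0 F431867)) (tt N104132 (iv2 F444344)) (tt N106986 (iv3 F456527)) (tt N102832 (iv4 F438850)) (tt N72076 F221312) (tt N39747 (iv6 D137849)) (tt N106987 D210198))
theorem Q71961 : ∀ i, i < 71961 → P i := stepQ 71960 Q71960 (allL N71960 (tt N39794 F355781) (tt N39795 F221085) (tt N39799 F221081) (tt N73226 (iv3 F350304)) (tt N39751 (iv4 D137869)) (tt N40993 F221082) (tt N104329 (iv6 F445281)) (tt N39787 F221083))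
theorem Q71962 : ∀ i, i < 71962 → P i := stepQ 71961 Q71961 (allL N71961 (tt N70179 (iv1 F411679)) (tt N81833 (iv0 F356282)) (tt N39803 F221086) (tt N64599 (iv3 F356299)) (tt N104329 (iv4 F445280)) (tt N80522 F356283) (tt N39751 (iv6 D137870)) (tt N70345 F356300))
theorem Q71963 : ∀ i, i < 71963 → P i := stepQ 71962 Q71962 (allL N71962 (tt N43044 F339036) (tt N43142 F339037) (tt N39806 F221087) (tt N45338 F339038) (tt N46454 F339039) (tt N39752 (iv5 D137871)) (tt N80522 F339040) (tt N45355 F339041))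
theorem Q71964 : ∀ i, i < 71964 → P i := stepQ 71963 Q71963 (allL N71963 (tt N50260 F221092) (tt N55709 F221093) (tt N60852 F221088) (tt N39754 F221089) (tt N50902 F221091) (tt N39753 (iv5 D137872)) (tt N98175 (iv6 F419855)) (tt N39776 F221090))
theorem Q71965 : ∀ i, i < 71965 → P i := stepQ 71964 Q71964 (allL N71964 (tt N98182 F419887) (tt N91749 (iv0 F394295)) (tt N106928 (iv2 F456310)) (tt N39755 F221094) (tt N66555 F221095) (tt N106988 D210199) (tt N39753 (iv6 D137873)) (tt N106861 (iv7 F456051)))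
theorem Q71966 : ∀ i, i < 71966 → P i := stepQ 71965 Q71965 (allL N71965 (tt N73837 (iv1 F225948)) (tt N73839 (iv0 F225951)) (tt N39767 F221096) (tt N64212 F221097) (tt N39754 (iv4 D137874)) (tt N99913 (iv5 F426794)) (tt N105104 (iv6 F448810)) (tt N39780 F221098))
theorem Q71967 : ∀ i, i < 71967 → P i := stepQ 71966 Q71966 (allL N71966 (tt N74783 F341538) (tt N99834 F426447) (tt N39771 F221101) (tt N106988 (iv3 F456534)) (tt N78985 (iv4 F341539)) (tt N39755 (iv5 D137878)) (tt N96239 F411661) (tt N92245 F396448))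
theorem Q71968 : ∀ i, i < 71968 → P i := stepQ 71967 Q71967 (allL N71967 (tt N39789 F221108) (tt N96128 (iv0 F411180)) (tt N106071 (iv2 F452989)) (tt N88673 (iv3 F383835)) (tt N106989 D210200) (tt N39756 (iv5 D137880)) (tt N105256 (iv6 F449412)) (tt N88669 F383802))
theorem Q71969 : ∀ i, i < 71969 → P i := stepQ 71968 Q71968 (allL N71968 (tt N91106 F391963) (tt N106074 (iv0 F453003)) (tt N39758 F221109) (tt N60852 F221110) (tt N97865 (iv4 F418580)) (tt N39757 (iv5 D137882)) (tt N106990 D210201) (tt N96158 (iv7 F411281)))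
theorem Q71970 : ∀ i, i < 71970 → P i := stepQ 71969 Q71969 (allL N71969 (tt N89292 (iv1 F391208)) (tt N90996 F391509) (tt N39759 F221111) (tt N106928 (iv3 F456311)) (tt N58903 F221112) (tt N106991 D210202) (tt N39757 (iv6 D137883)) (tt N90897 (iv7 F391206)))
theorem Q71971 : ∀ i, i < 71971 → P i := stepQ 71970 Q71970 (allL N71970 (tt N39758 (iv1 D137885)) (tt N96158 (iv0 F411282)) (tt N106074 (iv2 F453000)) (tt N89307 (iv3 F391956)) (tt N105130 (iv4 F448923)) (tt N93923 F402443) (tt N105746 (iv6 F451506)) (tt N91106 (iv7 F391958)))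
theorem Q71972 : ∀ i, i < 71972 → P i := stepQ 71971 Q71971 (allL N71971 (tt N71792 F221113) (tt N105498 (iv0 F450481)) (tt N97865 F418582) (tt N106992 D210203) (tt N39758 (iv4 D137886)) (tt N90115 F388585) (tt N103711 (iv6 F442554)) (tt N106522 (iv7 F454761)))
theorem Q71973 : ∀ i, i < 71973 → P i := stepQ 71972 Q71972 (allL N71972 (tt N105120 (iv1 F448890)) (tt N104265 (iv0 F445024)) (tt N106990 (iv2 F456539)) (tt N39768 F221114) (tt N103711 F442553) (tt N78696 F411692) (tt N39758 (iv6 D137887)) (tt N105105 (iv7 F448814)))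
theorem Q71974 : ∀ i, i < 71974 → P i := stepQ 71973 Q71973 (allL N71973 (tt N106074 F453005) (tt N91106 (iv0 F391964)) (tt N96158 (iv2 F411278)) (tt N39769 F221115) (tt N106522 (iv4 F454763)) (tt N39760 F221116) (tt N52985 (iv6 F357369)) (tt N39758 (iv7 D137888)))
theorem Q71975 : ∀ i, i < 71975 → P i := stepQ 71974 Q71974 (allL N71974 (tt N90897 (iv1 F391209)) (tt N39759 (iv0 D137889)) (tt N89292 (iv2 F385955)) (tt N91006 (iv3 F391544)) (tt N105365 (iv4 F449900)) (tt N99877 (iv5 F426648)) (tt N106335 (iv6 F454073)) (tt N90996 (iv7 F391507)))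
theorem Q71976 : ∀ i, i < 71976 → P i := stepQ 71975 Q71975 (allL N71975 (tt N99836 F426457) (tt N82096 (iv0 F353845)) (tt N106991 (iv2 F456544)) (tt N39771 F221117) (tt N81341 (iv4 F354815)) (tt N39759 (iv5 D137891)) (tt N78696 F411693) (tt N106993 D210204))
theorem Q71977 : ∀ i, i < 71977 → P i := stepQ 71976 Q71976 (allL N71976 (tt N90996 (iv1 F391508)) (tt N89292 (iv0 F385954)) (tt N90897 (iv2 F391203)) (tt N39772 F221118) (tt N96162 (iv4 F411298)) (tt N106993 (iv5 F456557)) (tt N84986 F371277) (tt N39759 (iv7 D137892)))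
theorem Q71978 : ∀ i, i < 71978 → P i := stepQ 71977 Q71977 (allL N71977 (tt N66567 F333282) (tt N80349 (iv0 F339091)) (tt N40731 F221127) (tt N73662 (iv3 F225382)) (tt N71838 F221128) (tt N47674 F333283) (tt N39761 (iv6 D137895)) (tt N48509 F346607))
theorem Q71979 : ∀ i, i < 71979 → P i := stepQ 71978 Q71978 (allL N71978 (tt N40613 F221132) (tt N66561 F221134) (tt N66543 F221129) (tt N39763 F221130) (tt N74677 (iv4 F228532)) (tt N39762 (iv5 D137896)) (tt N73140 (iv6 F339618)) (tt N66556 F221131))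
theorem Q71980 : ∀ i, i < 71980 → P i := stepQ 71979 Q71979 (allL N71979 (tt N39778 (iv1 F221140)) (tt N39763 (iv0 D137898)) (tt N40743 (iv2 F221138)) (tt N73100 (iv3 F223808)) (tt N73802 (iv4 F225864)) (tt N62233 F221137) (tt N44047 F350257) (tt N66545 F221139))
theorem Q71981 : ∀ i, i < 71981 → P i := stepQ 71980 Q71980 (allL N71980 (tt N40931 F221143) (tt N40827 F221144) (tt N66546 F221141) (tt N73801 (iv3 F341549)) (tt N39763 (iv4 D137899)) (tt N40991 F221142) (tt N106994 D210205) (tt N72697 (iv7 F222937)))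
theorem Q71982 : ∀ i, i < 71982 → P i := stepQ 71981 Q71981 (allL N71981 (tt N40618 F336866) (tt N72771 F336867) (tt N66547 F221149) (tt N73140 (iv3 F360540)) (tt N106994 (iv4 F456562)) (tt N66662 (iv5 F339434)) (tt N39763 (iv6 D137900)) (tt N72770 (iv7 F334139)))
theorem Q71983 : ∀ i, i < 71983 → P i := stepQ 71982 Q71982 (allL N71982 (tt N66545 (iv1 F221153)) (tt N40743 F221154) (tt N39778 F221150) (tt N66556 F221151) (tt N72697 (iv4 F222934)) (tt N39765 F221152) (tt N75977 (iv6 F350227)) (tt N39763 (iv7 D137901)))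
theorem Q71984 : ∀ i, i < 71984 → P i := stepQ 71983 Q71983 (allL N71983 (tt N76127 F339797) (tt N81704 F348030) (tt N66550 F221156) (tt N103175 (iv3 F440417)) (tt N98755 (iv4 F422170)) (tt N39764 (iv5 D137904)) (tt N66662 (iv6 F339798)) (tt N106995 D210206))
theorem Q71985 : ∀ i, i < 71985 → P i := stepQ 71984 Q71984 (allL N71984 (tt N66549 (iv1 F221160)) (tt N66548 F221161) (tt N66551 F221157) (tt N102997 (iv3 F439599)) (tt N39772 F221158) (tt N106995 (iv5 F456570)) (tt N63330 (iv6 F334862)) (tt N39764 (iv7 D137905)))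
theorem Q71986 : ∀ i, i < 71986 → P i := stepQ 71985 Q71985 (allL N71985 (tt N40960 F221166) (tt N40923 F221167) (tt N71402 F221165) (tt N69555 F333085) (tt N39766 (iv4 D137907)) (tt N99424 (iv5 F424514)) (tt N100823 (iv6 F430642)) (tt N70318 (iv7 F333084)))
theorem Q71987 : ∀ i, i < 71987 → P i := stepQ 71986 Q71986 (allL N71986 (tt N84951 F371167) (tt N106996 D210207) (tt N71403 F221168) (tt N70252 (iv3 F365739)) (tt N100823 F430644) (tt N88575 F411704) (tt N39766 (iv6 D137908)) (tt N70248 F365738))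
theorem Q71988 : ∀ i, i < 71988 → P i := stepQ 71987 Q71987 (allL N71987 (tt N39780 (iv1 F221170)) (tt N39767 (iv0 D137909)) (tt N73837 (iv2 F225945)) (tt N90238 (iv3 F389043)) (tt N71843 F221169) (tt N106997 D210208) (tt N89159 (iv6 F385394)) (tt N73839 (iv7 F225950)))
theorem Q71989 : ∀ i, i < 71989 → P i := stepQ 71988 Q71988 (allL N71988 (tt N39767 (iv1 D137910)) (tt N39780 F221171) (tt N73839 (iv2 F225949)) (tt N60644 (iv3 F345914)) (tt N73124 (iv4 F223854)) (tt N106998 D210209) (tt N105112 (iv6 F448851)) (tt N73837 (iv7 F225946)))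
theorem Q71990 : ∀ i, i < 71990 → P i := stepQ 71989 Q71989 (allL N71989 (tt N106999 D210210) (tt N70317 (iv0 F333089)) (tt N79082 (iv2 F252188)) (tt N39767 (iv3 D137911)) (tt N106992 (iv4 F456551)) (tt N105055 (iv5 F448584)) (tt N70255 F355794) (tt N105054 F448581))
theorem Q71991 : ∀ i, i < 71991 → P i := stepQ 71990 Q71990 (allL N71990 (tt N107000 D210211) (tt N53643 (iv0 F350424)) (tt N99913 (iv2 F426790)) (tt N105055 (iv3 F448583)) (tt N40992 (iv4 F221172)) (tt N39767 (iv5 D137912)) (tt N107001 D210212) (tt N99914 (iv7 F426800)))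
theorem Q71992 : ∀ i, i < 71992 → P i := stepQ 71991 Q71991 (allL N71991 (tt N70272 F355795) (tt N103315 (iv0 F441107)) (tt N105104 (iv2 F448808)) (tt N70255 (iv3 F355790)) (tt N39768 F221173) (tt N107002 D210213) (tt N39767 (iv6 D137913)) (tt N105106 (iv7 F448817)))
theorem Q71993 : ∀ i, i < 71993 → P i := stepQ 71992 Q71992 (allL N71992 (tt N73839 (iv1 F225952)) (tt N73837 (iv0 F225947)) (tt N39780 F221174) (tt N105054 (iv3 F448580)) (tt N39769 F221175) (tt N99914 (iv5 F426798)) (tt N88787 F384147) (tt N39767 (iv7 D137914)))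
theorem Q71994 : ∀ i, i < 71994 → P i := stepQ 71993 Q71993 (allL N71993 (tt N52918 (iv1 F376086)) (tt N105119 F448887) (tt N39781 F221177) (tt N52985 F357368) (tt N88787 (iv4 F384144)) (tt N53356 (iv5 F357367)) (tt N39769 (iv6 D137919)) (tt N105107 (iv7 F448825)))
theorem Q71995 : ∀ i, i < 71995 → P i := stepQ 71994 Q71994 (allL N71994 (tt N43048 F343288) (tt N43001 F343289) (tt N43045 F347768) (tt N64381 F350753) (tt N74473 (iv4 F343297)) (tt N39770 (iv5 D137923)) (tt N107003 D210214) (tt N43046 F347769))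
theorem Q71996 : ∀ i, i < 71996 → P i := stepQ 71995 Q71995 (allL N71995 (tt N92245 F396450) (tt N39771 (iv0 D137930)) (tt N74783 (iv2 F354833)) (tt N90945 F391327) (tt N74789 F354832) (tt N76377 F354836) (tt N78964 F354834) (tt N99834 (iv7 F426445)))
theorem Q71997 : ∀ i, i < 71997 → P i := stepQ 71996 Q71996 (allL N71996 (tt N76399 (iv1 F354838)) (tt N76396 F354840) (tt N78985 F353849) (tt N81444 (iv3 F353844)) (tt N39771 (iv4 D137932)) (tt N107004 D210215) (tt N98541 (iv6 F421247)) (tt N76353 F353850))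
theorem Q71998 : ∀ i, i < 71998 → P i := stepQ 71997 Q71997 (allL N71997 (tt N99834 (iv1 F426446)) (tt N74783 (iv0 F359062)) (tt N92245 (iv2 F396445)) (tt N106993 (iv3 F456555)) (tt N76353 F353549) (tt N39772 F221180) (tt N76299 F353553) (tt N39771 (iv7 D137933)))
theorem Q71999 : ∀ i, i < 71999 → P i := stepQ 71998 Q71998 (allL N71998 (tt N55709 F221198) (tt N50260 F221199) (tt N39776 F221195) (tt N96158 (iv3 F411279)) (tt N41884 F221196) (tt N39775 (iv5 D137940)) (tt N82992 (iv6 F367054)) (tt N60852 F221197))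
theorem Q72000 : ∀ i, i < 72000 → P i := stepQ 71999 Q71999 (allL N71999 (tt N52782 F325112) (tt N46218 F325113) (tt N39777 F221200) (tt N84987 (iv3 F371279)) (tt N44802 F325114) (tt N48849 F331216) (tt N39775 (iv6 D137941)) (tt N47549 F325115))
theorem Q72001 : ∀ i, i < 72001 → P i := stepQ 72000 Q72000 (allL N72000 (tt N60852 (iv1 F221206)) (tt N39776 (iv0 D137943)) (tt N55709 (iv2 F221205)) (tt N91077 (iv3 F391837)) (tt N41738 F221204) (tt N71335 F221203) (tt N103896 F443260) (tt N50260 F221207))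
theorem Q72002 : ∀ i, i < 72002 → P i := stepQ 72001 Q72001 (allL N72001 (tt N82989 F356272) (tt N51692 F356273) (tt N82992 (iv2 F367053)) (tt N39781 F221208) (tt N84932 (iv4 F371123)) (tt N51685 F350435) (tt N39776 (iv6 D137944)) (tt N82991 (iv7 F367648)))
theorem Q72003 : ∀ i, i < 72003 → P i := stepQ 72002 Q72002 (allL N72002 (tt N46218 F325117) (tt N52782 F325118) (tt N47549 F325119) (tt N39784 F221210) (tt N46771 F325120) (tt N48848 F331215) (tt N106861 (iv6 F456050)) (tt N39777 (iv7 D137948)))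
theorem Q72004 : ∀ i, i < 72004 → P i := stepQ 72003 Q72003 (allL N72003 (tt N40827 F221213) (tt N40931 F221214) (tt N72697 F222936) (tt N99562 (iv3 F425171)) (tt N39778 (iv4 D137949)) (tt N40992 F221212) (tt N43929 F320781) (tt N66546 F221211))
theorem Q72005 : ∀ i, i < 72005 → P i := stepQ 72004 Q72004 (allL N72004 (tt N63330 (iv1 F334892)) (tt N39779 (iv0 D137951)) (tt N73886 F342521) (tt N40738 F321320) (tt N73853 (iv4 F342528)) (tt N67063 F319303) (tt N76202 F319304) (tt N40754 F321321))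
theorem Q72006 : ∀ i, i < 72006 → P i := stepQ 72005 Q72005 (allL N72005 (tt N41768 (iv1 F221222)) (tt N55717 F221223) (tt N79084 (iv2 F252191)) (tt N39780 (iv3 D137955)) (tt N64213 F221220) (tt N73795 (iv5 F326863)) (tt N107005 D210216) (tt N64212 F221221))
theorem Q72007 : ∀ i, i < 72007 → P i := stepQ 72006 Q72006 (allL N72006 (tt N53643 (iv1 F350428)) (tt N107000 F456595) (tt N99914 (iv2 F426797)) (tt N73795 (iv3 F326862)) (tt N40991 F221224) (tt N39780 (iv5 D137956)) (tt N71762 F365749) (tt N99913 (iv7 F426793)))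
theorem Q72008 : ∀ i, i < 72008 → P i := stepQ 72007 Q72007 (allL N72007 (tt N83013 F356274) (tt N53037 (iv0 F350429)) (tt N88787 F384146) (tt N107005 (iv3 F456618)) (tt N39781 F221225) (tt N106387 (iv5 F454248)) (tt N39780 (iv6 D137957)) (tt N88788 (iv7 F384150)))
theorem Q72009 : ∀ i, i < 72009 → P i := stepQ 72008 Q72008 (allL N72008 (tt N51689 F370104) (tt N86395 (iv0 F376085)) (tt N53356 (iv2 F350431)) (tt N51685 (iv3 F350434)) (tt N52298 F350430) (tt N39781 (iv5 D137960)) (tt N39783 F221226) (tt N82751 (iv7 F350432)))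
theorem Q72010 : ∀ i, i < 72010 → P i := stepQ 72009 Q72009 (allL N72009 (tt N105119 (iv1 F448886)) (tt N52918 (iv0 F360354)) (tt N105107 (iv2 F448821)) (tt N82991 F367651) (tt N88788 (iv4 F384151)) (tt N82751 F360353) (tt N98544 (iv6 F421266)) (tt N39781 (iv7 D137961)))
theorem Q72011 : ∀ i, i < 72011 → P i := stepQ 72010 Q72010 (allL N72010 (tt N88987 (iv1 F384676)) (tt N88989 (iv0 F384686)) (tt N82859 (iv2 F356214)) (tt N49452 F356213) (tt N82859 (iv4 F356215)) (tt N39782 (iv5 D137970)) (tt N49450 (iv6 F356216)) (tt N90923 (iv7 F391281)))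
theorem Q72012 : ∀ i, i < 72012 → P i := stepQ 72011 Q72011 (allL N72011 (tt N73825 (iv1 F225926)) (tt N73827 (iv0 F225930)) (tt N39790 F221230) (tt N74875 (iv3 F229690)) (tt N39785 (iv4 D137976)) (tt N99903 (iv5 F426753)) (tt N107006 D210217) (tt N39793 F221231))
theorem Q72013 : ∀ i, i < 72013 → P i := stepQ 72012 Q72012 (allL N72012 (tt N105084 F448718) (tt N70191 (iv0 F406329)) (tt N39791 F221232) (tt N90634 (iv3 F390331)) (tt N107006 (iv4 F456623)) (tt N88390 F382861) (tt N39785 (iv6 D137977)) (tt N105099 (iv7 F448785)))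
theorem Q72014 : ∀ i, i < 72014 → P i := stepQ 72013 Q72013 (allL N72013 (tt N106071 (iv1 F452993)) (tt N88669 (iv0 F383809)) (tt N96128 (iv2 F411177)) (tt N39786 (iv3 D137978)) (tt N107007 D210218) (tt N93871 (iv5 F402231)) (tt N107008 D210219) (tt N39789 F221233))
theorem Q72015 : ∀ i, i < 72015 → P i := stepQ 72014 Q72014 (allL N72014 (tt N73827 (iv1 F225931)) (tt N73825 (iv0 F225925)) (tt N39793 F221234) (tt N107009 D210220) (tt N39786 (iv4 D137979)) (tt N99906 (iv5 F426760)) (tt N95525 (iv6 F408488)) (tt N39790 F221235))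
theorem Q72016 : ∀ i, i < 72016 → P i := stepQ 72015 Q72015 (allL N72015 (tt N39787 F365744) (tt N39799 F365745) (tt N39794 F221236) (tt N107008 (iv3 F456629)) (tt N95525 (iv4 F408487)) (tt N100001 (iv5 F427130)) (tt N39786 (iv6 D137980)) (tt N39795 F355782))
theorem Q72017 : ∀ i, i < 72017 → P i := stepQ 72016 Q72016 (allL N72016 (tt N39799 (iv1 F221237)) (tt N39787 (iv0 D137981)) (tt N39795 F365746) (tt N107010 D210221) (tt N95527 (iv4 F408499)) (tt N99998 (iv5 F427116)) (tt N105099 F448787) (tt N39794 F365747))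
theorem Q72018 : ∀ i, i < 72018 → P i := stepQ 72017 Q72017 (allL N72017 (tt N39802 (iv1 F221243)) (tt N39788 (iv0 D137985)) (tt N39800 F357340) (tt N85977 (iv3 F374704)) (tt N49382 F356318) (tt N107011 D210222) (tt N85976 F374699) (tt N39801 F357341))
theorem Q72019 : ∀ i, i < 72019 → P i := stepQ 72018 Q72018 (allL N72018 (tt N88669 F383803) (tt N106071 (iv0 F452992)) (tt N39789 (iv2 D137989)) (tt N75055 F230215) (tt N75060 (iv4 F230237)) (tt N93869 F402219) (tt N107012 D210223) (tt N96128 (iv7 F411179)))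
theorem Q72020 : ∀ i, i < 72020 → P i := stepQ 72019 Q72019 (allL N72019 (tt N71493 F221246) (tt N95987 F410528) (tt N75060 F230238) (tt N107013 D210224) (tt N39789 (iv4 D137990)) (tt N96121 (iv5 F411143)) (tt N107014 D210225) (tt N107007 (iv7 F456626)))
theorem Q72021 : ∀ i, i < 72021 → P i := stepQ 72020 Q72020 (allL N72020 (tt N107015 D210226) (tt N107016 D210227) (tt N107012 (iv2 F456642)) (tt N39791 F221247) (tt N107014 (iv4 F456647)) (tt N107017 D210228) (tt N39789 (iv6 D137991)) (tt N107018 D210229))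
theorem Q72022 : ∀ i, i < 72022 → P i := stepQ 72021 Q72021 (allL N72021 (tt N39793 (iv1 F221260)) (tt N39790 (iv0 D137992)) (tt N73825 (iv2 F225923)) (tt N82755 (iv3 F352442)) (tt N71639 (iv4 F221256)) (tt N107000 (iv5 F456592)) (tt N90417 (iv6 F389570)) (tt N73827 (iv7 F225929)))
theorem Q72023 : ∀ i, i < 72023 → P i := stepQ 72022 Q72022 (allL N72022 (tt N39790 (iv1 D137993)) (tt N39793 F221262) (tt N73827 (iv2 F225928)) (tt N49599 (iv3 F350426)) (tt N73796 (iv4 F225839)) (tt N53643 F350425) (tt N49598 (iv6 F350427)) (tt N73825 (iv7 F225924)))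
theorem Q72024 : ∀ i, i < 72024 → P i := stepQ 72023 Q72023 (allL N72023 (tt N107019 D210230) (tt N107020 D210231) (tt N107021 D210232) (tt N39790 (iv3 D137994)) (tt N107013 (iv4 F456645)) (tt N107022 D210233) (tt N105162 F449068) (tt N107009 (iv7 F456633)))
theorem Q72025 : ∀ i, i < 72025 → P i := stepQ 72024 Q72024 (allL N72024 (tt N107023 D210234) (tt N107024 D210235) (tt N99903 (iv2 F426751)) (tt N107022 (iv3 F456673)) (tt N40990 F221263) (tt N39790 (iv5 D137995)) (tt N107025 D210236) (tt N99906 (iv7 F426761)))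
theorem Q72026 : ∀ i, i < 72026 → P i := stepQ 72025 Q72025 (allL N72025 (tt N107026 D210237) (tt N83039 (iv0 F445318)) (tt N107006 (iv2 F456622)) (tt N105162 (iv3 F449067)) (tt N39791 F221264) (tt N107027 D210238) (tt N39790 (iv6 D137996)) (tt N107028 D210239))
theorem Q72027 : ∀ i, i < 72027 → P i := stepQ 72026 Q72026 (allL N72026 (tt N39791 (iv1 D137998)) (tt N105099 F448784) (tt N70191 F428202) (tt N39810 F428203) (tt N105084 (iv4 F448715)) (tt N100275 (iv5 F428201)) (tt N70174 F428204) (tt N105084 (iv7 F448716)))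
theorem Q72028 : ∀ i, i < 72028 → P i := stepQ 72027 Q72027 (allL N72027 (tt N107029 D210240) (tt N107030 D210241) (tt N88390 F382862) (tt N107017 (iv3 F456653)) (tt N48814 F382863) (tt N39791 (iv5 D137999)) (tt N100183 (iv6 F427884)) (tt N88387 F382864))
theorem Q72029 : ∀ i, i < 72029 → P i := stepQ 72028 Q72028 (allL N72028 (tt N70191 (iv1 F406330)) (tt N105084 (iv0 F448717)) (tt N105099 F448783) (tt N107018 (iv3 F456655)) (tt N107028 (iv4 F456700)) (tt N88387 (iv5 F382865)) (tt N39795 F355796) (tt N39791 (iv7 D138000)))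
theorem Q72030 : ∀ i, i < 72030 → P i := stepQ 72029 Q72029 (allL N72029 (tt N107031 D210242) (tt N91785 (iv0 F394411)) (tt N97998 (iv2 F419106)) (tt N39794 F221265) (tt N85960 (iv4 F374628)) (tt N107032 D210243) (tt N39792 (iv6 D138001)) (tt N107010 (iv7 F456635)))
theorem Q72031 : ∀ i, i < 72031 → P i := stepQ 72030 Q72030 (allL N72030 (tt N75750 (iv1 F233633)) (tt N78954 (iv0 F251539)) (tt N74972 (iv2 F229929)) (tt N39793 (iv3 D138002)) (tt N56037 F221266) (tt N107033 D210244) (tt N105997 (iv6 F452689)) (tt N74875 (iv7 F229691)))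
theorem Q72032 : ∀ i, i < 72032 → P i := stepQ 72031 Q72031 (allL N72031 (tt N107024 (iv1 F456683)) (tt N107023 F456679) (tt N99906 (iv2 F426759)) (tt N107033 (iv3 F456719)) (tt N40988 F221267) (tt N39793 (iv5 D138003)) (tt N107034 D210245) (tt N99903 (iv7 F426752)))
theorem Q72033 : ∀ i, i < 72033 → P i := stepQ 72032 Q72032 (allL N72032 (tt N40915 F355783) (tt N40913 F355784) (tt N95525 (iv2 F408483)) (tt N105997 (iv3 F452685)) (tt N39794 F221268) (tt N40201 F355785) (tt N39793 (iv6 D138004)) (tt N95527 (iv7 F408496)))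
theorem Q72034 : ∀ i, i < 72034 → P i := stepQ 72033 Q72033 (allL N72033 (tt N106487 (iv1 F454640)) (tt N72158 F355786) (tt N100001 (iv2 F427129)) (tt N107032 (iv3 F456715)) (tt N40982 F355787) (tt N39794 (iv5 D138007)) (tt N99462 (iv6 F424690)) (tt N99998 (iv7 F427115)))
theorem Q72035 : ∀ i, i < 72035 → P i := stepQ 72034 Q72034 (allL N72034 (tt N107035 D210246) (tt N84018 (iv0 F384098)) (tt N107036 D210247) (tt N39795 (iv3 D138010)) (tt N107037 D210248) (tt N107038 D210249) (tt N107018 (iv6 F456656)) (tt N107008 F456630))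
theorem Q72036 : ∀ i, i < 72036 → P i := stepQ 72035 Q72035 (allL N72035 (tt N40913 (iv1 F221272)) (tt N40915 F221271) (tt N95527 (iv2 F408494)) (tt N106561 (iv3 F454862)) (tt N39795 (iv4 D138011)) (tt N40199 F221270) (tt N107028 (iv6 F456701)) (tt N95525 (iv7 F408484)))
theorem Q72037 : ∀ i, i < 72037 → P i := stepQ 72036 Q72036 (allL N72036 (tt N72158 (iv1 F333088)) (tt N106487 (iv0 F454639)) (tt N99998 (iv2 F427114)) (tt N107038 (iv3 F456737)) (tt N40985 F221273) (tt N39795 (iv5 D138012)) (tt N72537 F353582) (tt N100001 (iv7 F427131)))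
theorem Q72038 : ∀ i, i < 72038 → P i := stepQ 72037 Q72037 (allL N72037 (tt N73288 (iv1 F357365)) (tt N59033 (iv0 F362374)) (tt N73225 (iv2 F357360)) (tt N39797 F221280) (tt N59175 (iv4 F386813)) (tt N39796 (iv5 D138022)) (tt N83082 F357359) (tt N73289 F357361))
theorem Q72039 : ∀ i, i < 72039 → P i := stepQ 72038 Q72038 (allL N72038 (tt N48548 F341225) (tt N70391 F341226) (tt N51688 F341227) (tt N39798 F221281) (tt N39821 F221282) (tt N48628 F341228) (tt N39796 (iv6 D138023)) (tt N51690 F341229))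
theorem Q72040 : ∀ i, i < 72040 → P i := stepQ 72039 Q72039 (allL N72039 (tt N40993 (iv1 F221285)) (tt N39797 (iv0 D138024)) (tt N73285 F353574) (tt N89496 (iv3 F386814)) (tt N40966 F221284) (tt N40923 F221283) (tt N89268 (iv6 F385857)) (tt N73237 (iv7 F353573)))
theorem Q72041 : ∀ i, i < 72041 → P i := stepQ 72040 Q72040 (allL N72040 (tt N39797 (iv1 D138025)) (tt N40993 F221286) (tt N73237 (iv2 F353572)) (tt N107039 D210250) (tt N40936 (iv4 F221288)) (tt N40960 F221287) (tt N58964 F353580) (tt N73285 F353576))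
theorem Q72042 : ∀ i, i < 72042 → P i := stepQ 72041 Q72041 (allL N72041 (tt N89385 (iv1 F386316)) (tt N89384 F386315) (tt N73286 F357358) (tt N83082 (iv3 F357354)) (tt N99908 (iv4 F426768)) (tt N53285 F356323) (tt N39797 (iv6 D138026)) (tt N89383 (iv7 F386314)))
theorem Q72043 : ∀ i, i < 72043 → P i := stepQ 72042 Q72042 (allL N72042 (tt N73237 (iv1 F353571)) (tt N73285 F353578) (tt N40993 F221289) (tt N73289 (iv3 F357363)) (tt N40973 F221290) (tt N39799 F221291) (tt N107040 D210251) (tt N39797 (iv7 D138027)))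
theorem Q72044 : ∀ i, i < 72044 → P i := stepQ 72043 Q72043 (allL N72043 (tt N70361 (iv1 F356316)) (tt N39798 (iv0 D138028)) (tt N88581 (iv2 F383521)) (tt N83892 (iv3 F367413)) (tt N107041 D210252) (tt N49381 F356325) (tt N81833 F356326) (tt N70184 (iv7 F411673)))
theorem Q72045 : ∀ i, i < 72045 → P i := stepQ 72044 Q72044 (allL N72044 (tt N39798 (iv1 D138029)) (tt N70361 F356313) (tt N70184 (iv2 F411670)) (tt N87837 F380774) (tt N107042 D210253) (tt N53033 (iv5 F357353)) (tt N70180 F411676) (tt N88581 (iv7 F383524)))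
theorem Q72046 : ∀ i, i < 72046 → P i := stepQ 72045 Q72045 (allL N72045 (tt N53356 F356319) (tt N82751 (iv0 F356327)) (tt N86395 (iv2 F376080)) (tt N48628 F356320) (tt N86395 (iv4 F376081)) (tt N39798 (iv5 D138030)) (tt N53285 (iv6 F356322)) (tt N51689 F356321))
theorem Q72047 : ∀ i, i < 72047 → P i := stepQ 72046 Q72046 (allL N72046 (tt N70184 (iv1 F411669)) (tt N88581 (iv0 F383525)) (tt N70361 (iv2 F356308)) (tt N51690 F356315) (tt N39802 F221292) (tt N51689 (iv5 F356317)) (tt N105090 F448751) (tt N39798 (iv7 D138031)))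
theorem Q72048 : ∀ i, i < 72048 → P i := stepQ 72047 Q72047 (allL N72047 (tt N105086 F448727) (tt N85976 (iv0 F374701)) (tt N104329 (iv2 F445279)) (tt N102662 (iv3 F438115)) (tt N39803 F221293) (tt N107043 D210254) (tt N39799 (iv6 D138032)) (tt N105090 (iv7 F448750)))
theorem Q72049 : ∀ i, i < 72049 → P i := stepQ 72048 Q72048 (allL N72048 (tt N107044 D210255) (tt N105256 (iv0 F449413)) (tt N107045 D210256) (tt N39800 (iv3 D138034)) (tt N107046 D210257) (tt N107047 D210258) (tt N88740 F384002) (tt N105093 F448761))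
theorem Q72050 : ∀ i, i < 72050 → P i := stepQ 72049 Q72049 (allL N72049 (tt N52299 F357346) (tt N49598 F357347) (tt N49382 F357348) (tt N87349 (iv3 F379093)) (tt N39800 (iv4 D138035)) (tt N48658 F357349) (tt N53326 F357350) (tt N53034 F357351))
theorem Q72051 : ∀ i, i < 72051 → P i := stepQ 72050 Q72050 (allL N72050 (tt N105260 (iv1 F449442)) (tt N107048 D210259) (tt N107011 (iv2 F456638)) (tt N107047 (iv3 F456763)) (tt N90144 F450153) (tt N39800 (iv5 D138036)) (tt N107049 D210260) (tt N105095 (iv7 F448767)))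
theorem Q72052 : ∀ i, i < 72052 → P i := stepQ 72051 Q72051 (allL N72051 (tt N104329 F445284) (tt N105090 F448749) (tt N85976 (iv2 F374700)) (tt N88740 (iv3 F384001)) (tt N53326 (iv4 F357352)) (tt N107050 D210261) (tt N39800 (iv6 D138037)) (tt N105086 (iv7 F448725)))
theorem Q72053 : ∀ i, i < 72053 → P i := stepQ 72052 Q72052 (allL N72052 (tt N84068 F367980) (tt N98001 F419126) (tt N98000 (iv2 F419120)) (tt N39801 (iv3 D138039)) (tt N85979 (iv4 F374710)) (tt N107051 D210262) (tt N105087 (iv6 F448732)) (tt N85977 F374708))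
theorem Q72054 : ∀ i, i < 72054 → P i := stepQ 72053 Q72053 (allL N72053 (tt N49598 F356328) (tt N52299 F356329) (tt N53034 F356330) (tt N107052 D210263) (tt N39801 (iv4 D138040)) (tt N48657 F356331) (tt N105089 (iv6 F448741)) (tt N49382 F356332))
theorem Q72055 : ∀ i, i < 72055 → P i := stepQ 72054 Q72054 (allL N72054 (tt N107048 (iv1 F456769)) (tt N105260 (iv0 F449440)) (tt N105095 (iv2 F448765)) (tt N107051 (iv3 F456778)) (tt N90145 F449441) (tt N39801 (iv5 D138041)) (tt N107053 D210264) (tt N107011 (iv7 F456640)))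
theorem Q72056 : ∀ i, i < 72056 → P i := stepQ 72055 Q72055 (allL N72055 (tt N81833 (iv1 F356284)) (tt N70179 F411678) (tt N70345 (iv2 F356301)) (tt N39830 F221296) (tt N105090 (iv4 F448746)) (tt N106384 (iv5 F454237)) (tt N39802 (iv6 D138043)) (tt N39803 F221297))
theorem Q72057 : ∀ i, i < 72057 → P i := stepQ 72056 Q72056 (allL N72056 (tt N70345 (iv1 F357370)) (tt N39803 (iv0 D138044)) (tt N70179 F411667) (tt N88635 (iv3 F383662)) (tt N107054 D210265) (tt N64439 F361492) (tt N70175 (iv6 F411665)) (tt N81833 F363154))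
theorem Q72058 : ∀ i, i < 72058 → P i := stepQ 72057 Q72057 (allL N72057 (tt N39803 (iv1 D138045)) (tt N70345 F356306) (tt N81833 (iv2 F363152)) (tt N77210 (iv3 F363153)) (tt N107055 D210266) (tt N64438 F342385) (tt N88581 (iv6 F383523)) (tt N70179 (iv7 F411677)))
theorem Q72059 : ∀ i, i < 72059 → P i := stepQ 72058 Q72058 (allL N72058 (tt N104156 F444462) (tt N64394 (iv0 F361491)) (tt N80522 (iv2 F356298)) (tt N39833 F221298) (tt N72750 F339043) (tt N39803 (iv5 D138046)) (tt N39806 F221299) (tt N106384 (iv7 F454238)))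
theorem Q72060 : ∀ i, i < 72060 → P i := stepQ 72059 Q72059 (allL N72059 (tt N106317 F454002) (tt N91103 F391945) (tt N96164 (iv2 F411310)) (tt N39804 (iv3 D138048)) (tt N96154 (iv4 F411262)) (tt N73955 F363871) (tt N107056 D210267) (tt N96167 (iv7 F411319)))
theorem Q72061 : ∀ i, i < 72061 → P i := stepQ 72060 Q72060 (allL N72060 (tt N48509 F339045) (tt N40731 F346608) (tt N66567 F339046) (tt N47725 F339123) (tt N39804 (iv4 D138049)) (tt N57463 F339047) (tt N72397 F339048) (tt N80349 F363375))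
theorem Q72062 : ∀ i, i < 72062 → P i := stepQ 72061 Q72061 (allL N72061 (tt N106862 F456057) (tt N76220 F363873) (tt N103182 (iv2 F440448)) (tt N107056 (iv3 F456795)) (tt N72397 (iv4 F363872)) (tt N107057 D210268) (tt N39804 (iv6 D138051)) (tt N106863 (iv7 F456060)))
theorem Q72063 : ∀ i, i < 72063 → P i := stepQ 72062 Q72062 (allL N72062 (tt N106822 (iv1 F455837)) (tt N78355 (iv0 F351926)) (tt N106929 F456318) (tt N39805 (iv3 D138053)) (tt N54325 F346593) (tt N47279 F346594) (tt N54324 (iv6 F346596)) (tt N106390 (iv7 F454258)))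
theorem Q72064 : ∀ i, i < 72064 → P i := stepQ 72063 Q72063 (allL N72063 (tt N40731 F346598) (tt N48509 F316239) (tt N80349 F339093) (tt N44486 F316240) (tt N39805 (iv4 D138054)) (tt N44485 F316241) (tt N74737 F342376) (tt N66567 F333281))
theorem Q72065 : ∀ i, i < 72065 → P i := stepQ 72064 Q72064 (allL N72064 (tt N63093 F339051) (tt N64929 F339052) (tt N64552 (iv2 F341196)) (tt N47279 F339053) (tt N72344 (iv4 F339050)) (tt N39805 (iv5 D138055)) (tt N64540 (iv6 F356168)) (tt N65002 F339054))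
theorem Q72066 : ∀ i, i < 72066 → P i := stepQ 72065 Q72065 (allL N72065 (tt N106273 F453841) (tt N90924 (iv0 F391287)) (tt N106389 (iv2 F454252)) (tt N54324 F361965) (tt N74737 (iv4 F342377)) (tt N107058 D210269) (tt N39805 (iv6 D138056)) (tt N106906 (iv7 F456227)))
theorem Q72067 : ∀ i, i < 72067 → P i := stepQ 72066 Q72066 (allL N72066 (tt N97712 (iv1 F418029)) (tt N92171 (iv0 F396081)) (tt N39808 F221303) (tt N98005 F419143) (tt N39807 (iv4 D138060)) (tt N59499 F221304) (tt N104560 (iv6 F446265)) (tt N97703 (iv7 F417976)))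
theorem Q72068 : ∀ i, i < 72068 → P i := stepQ 72067 Q72067 (allL N72067 (tt N103415 F441523) (tt N98035 F419256) (tt N39809 F221305) (tt N106080 (iv3 F453034)) (tt N104560 (iv4 F446268)) (tt N83488 (iv5 F365543)) (tt N39807 (iv6 D138061)) (tt N107059 D210270))
theorem Q72069 : ∀ i, i < 72069 → P i := stepQ 72068 Q72068 (allL N72068 (tt N39808 (iv1 D138063)) (tt N97703 (iv0 F417977)) (tt N92171 (iv2 F396078)) (tt N87829 (iv3 F380728)) (tt N71637 (iv4 F221306)) (tt N87828 (iv5 F380721)) (tt N107060 D210271) (tt N97712 (iv7 F418028)))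
theorem Q72070 : ∀ i, i < 72070 → P i := stepQ 72069 Q72069 (allL N72069 (tt N103361 F441282) (tt N68786 (iv0 F412734)) (tt N104560 (iv2 F446263)) (tt N69321 F347121) (tt N39809 F221307) (tt N104558 (iv5 F446253)) (tt N39808 (iv6 D138064)) (tt N103929 (iv7 F443410)))
theorem Q72071 : ∀ i, i < 72071 → P i := stepQ 72070 Q72070 (allL N72070 (tt N107059 (iv1 F456814)) (tt N39809 (iv0 D138065)) (tt N103415 (iv2 F441518)) (tt N81391 F354898) (tt N92183 (iv4 F396136)) (tt N77359 (iv5 F354901)) (tt N103244 (iv6 F440751)) (tt N98035 (iv7 F419254)))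
theorem Q72072 : ∀ i, i < 72072 → P i := stepQ 72071 Q72071 (allL N72071 (tt N39809 (iv1 D138066)) (tt N107059 F456813) (tt N98035 (iv2 F419252)) (tt N70364 F419228) (tt N68767 (iv4 F419227)) (tt N77351 F419230) (tt N68765 F419229) (tt N103415 (iv7 F441521)))
theorem Q72073 : ∀ i, i < 72073 → P i := stepQ 72072 Q72072 (allL N72072 (tt N77365 F431646) (tt N77362 (iv0 F353693)) (tt N83488 F365544) (tt N39811 F221308) (tt N100436 (iv4 F428969)) (tt N39809 (iv5 D138067)) (tt N102674 (iv6 F438160)) (tt N83489 (iv7 F365550)))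
theorem Q72074 : ∀ i, i < 72074 → P i := stepQ 72073 Q72073 (allL N72073 (tt N98035 F419255) (tt N103415 (iv0 F441522)) (tt N107059 (iv2 F456810)) (tt N39812 F221309) (tt N103929 (iv4 F443408)) (tt N83489 F365552) (tt N87833 (iv6 F380748)) (tt N39809 (iv7 D138068)))
theorem Q72075 : ∀ i, i < 72075 → P i := stepQ 72074 Q72074 (allL N72074 (tt N105287 (iv1 F449562)) (tt N105286 F449559) (tt N70410 (iv2 F347118)) (tt N100275 (iv3 F428199)) (tt N43353 F347117) (tt N39810 (iv5 D138077)) (tt N100274 F428198) (tt N105264 (iv7 F449462)))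
theorem Q72076 : ∀ i, i < 72076 → P i := stepQ 72075 Q72075 (allL N72075 (tt N105285 (iv1 F449557)) (tt N39811 (iv0 D138079)) (tt N106083 F453038) (tt N104859 (iv3 F447660)) (tt N99213 (iv4 F423707)) (tt N101816 (iv5 F434482)) (tt N106342 (iv6 F454088)) (tt N83476 F434483))
theorem Q72077 : ∀ i, i < 72077 → P i := stepQ 72076 Q72076 (allL N72076 (tt N39811 (iv1 D138080)) (tt N105285 (iv0 F449556)) (tt N83476 F362121) (tt N107030 F456707) (tt N99146 F423463) (tt N71959 (iv5 F221312)) (tt N54500 (iv6 F362120)) (tt N106083 (iv7 F453040)))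
theorem Q72078 : ∀ i, i < 72078 → P i := stepQ 72077 Q72077 (allL N72077 (tt N99594 (iv1 F425324)) (tt N99139 F423436) (tt N106084 (iv2 F453042)) (tt N99932 F426880) (tt N39811 (iv4 D138081)) (tt N43347 F364903) (tt N102675 (iv6 F438162)) (tt N107061 D210272))
theorem Q72079 : ∀ i, i < 72079 → P i := stepQ 72078 Q72078 (allL N72078 (tt N83476 (iv1 F396723)) (tt N106083 F453039) (tt N105285 (iv2 F449553)) (tt N83489 F365551) (tt N107061 (iv4 F456823)) (tt N39812 F221313) (tt N107062 D210273) (tt N39811 (iv7 D138082)))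
theorem Q72080 : ∀ i, i < 72080 → P i := stepQ 72079 Q72079 (allL N72079 (tt N69030 F361830) (tt N68888 F360516) (tt N39814 F221316) (tt N107063 D210274) (tt N39813 (iv4 D138093)) (tt N104724 (iv5 F446992)) (tt N107064 D210275) (tt N103669 (iv7 F442433)))
theorem Q72081 : ∀ i, i < 72081 → P i := stepQ 72080 Q72080 (allL N72080 (tt N87843 F380810) (tt N88765 F384082) (tt N39815 F221317) (tt N87834 (iv3 F380757)) (tt N107064 (iv4 F456830)) (tt N107065 D210276) (tt N39813 (iv6 D138094)) (tt N88763 (iv7 F384074)))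
theorem Q72082 : ∀ i, i < 72082 → P i := stepQ 72081 Q72081 (allL N72081 (tt N103669 (iv1 F442432)) (tt N39814 (iv0 D138095)) (tt N69030 (iv2 F328421)) (tt N102568 (iv3 F437695)) (tt N73829 F344612) (tt N66162 (iv5 F344613)) (tt N102566 F437688) (tt N68888 (iv7 F361831)))
theorem Q72083 : ∀ i, i < 72083 → P i := stepQ 72082 Q72082 (allL N72082 (tt N102568 F437699) (tt N75733 (iv0 F233572)) (tt N104724 F446995) (tt N102718 (iv3 F438345)) (tt N61955 F360486) (tt N39814 (iv5 D138097)) (tt N71751 (iv6 F360487)) (tt N73303 (iv7 F360488)))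
theorem Q72084 : ∀ i, i < 72084 → P i := stepQ 72083 Q72083 (allL N72083 (tt N107066 D210277) (tt N107067 D210278) (tt N107064 (iv2 F456829)) (tt N102719 (iv3 F438346)) (tt N39815 F221321) (tt N107068 D210279) (tt N39814 (iv6 D138098)) (tt N107069 D210280))
theorem Q72085 : ∀ i, i < 72085 → P i := stepQ 72084 Q72084 (allL N72084 (tt N39815 (iv1 D138100)) (tt N88763 F384076) (tt N88765 (iv2 F384080)) (tt N107035 (iv3 F456731)) (tt N107070 D210281) (tt N107071 D210282) (tt N105266 F449470) (tt N87843 F380811))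
theorem Q72086 : ∀ i, i < 72086 → P i := stepQ 72085 Q72085 (allL N72085 (tt N89473 (iv1 F487102)) (tt N107072 D210284) (tt N107065 (iv2 F456832)) (tt N39817 F221322) (tt N92386 F432129) (tt N39815 (iv5 D138101)) (tt N102756 (iv6 F438496)) (tt N107073 D210285))
theorem Q72087 : ∀ i, i < 72087 → P i := stepQ 72086 Q72086 (allL N72086 (tt N88765 (iv1 F384083)) (tt N87843 F384075) (tt N88763 F384072) (tt N39818 F221323) (tt N107069 (iv4 F456845)) (tt N107073 (iv5 F456853)) (tt N105284 (iv6 F449551)) (tt N39815 (iv7 D138102)))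
theorem Q72088 : ∀ i, i < 72088 → P i := stepQ 72087 Q72087 (allL N72087 (tt N106088 (iv1 F453058)) (tt N39817 (iv0 D138113)) (tt N103761 (iv2 F442713)) (tt N106487 (iv3 F454637)) (tt N106761 (iv4 F455579)) (tt N102680 (iv5 F438179)) (tt N90045 F427280) (tt N106086 (iv7 F453050)))
theorem Q72089 : ∀ i, i < 72089 → P i := stepQ 72088 Q72088 (allL N72088 (tt N39817 (iv1 D138114)) (tt N106088 F453057) (tt N106086 (iv2 F453053)) (tt N40577 F329080) (tt N74223 F329404) (tt N40576 F329081) (tt N44330 F329405) (tt N103761 (iv7 F442716)))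
theorem Q72090 : ∀ i, i < 72090 → P i := stepQ 72089 Q72089 (allL N72089 (tt N107074 D210286) (tt N107075 D210287) (tt N106087 (iv2 F453054)) (tt N95089 F406987) (tt N39817 (iv4 D138115)) (tt N93294 (iv5 F424762)) (tt N95087 (iv6 F406986)) (tt N107076 D210288))
theorem Q72091 : ∀ i, i < 72091 → P i := stepQ 72090 Q72090 (allL N72090 (tt N106086 (iv1 F453049)) (tt N103761 (iv0 F442718)) (tt N106088 (iv2 F453055)) (tt N107073 (iv3 F456851)) (tt N107076 (iv4 F456862)) (tt N39818 F221327) (tt N107077 D210289) (tt N39817 (iv7 D138116)))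
theorem Q72092 : ∀ i, i < 72092 → P i := stepQ 72091 Q72091 (allL N72091 (tt N83671 F362738) (tt N104754 (iv0 F447113)) (tt N93772 (iv2 F401845)) (tt N39819 (iv3 D138118)) (tt N83665 (iv4 F336101)) (tt N74571 F336103) (tt N70552 (iv6 F344105)) (tt N71340 F336102))
theorem Q72093 : ∀ i, i < 72093 → P i := stepQ 72092 Q72092 (allL N72092 (tt N64077 (iv1 F333846)) (tt N64076 (iv0 F341230)) (tt N64057 (iv2 F333844)) (tt N39822 F221331) (tt N78434 (iv4 F333845)) (tt N39821 (iv5 D138130)) (tt N64105 (iv6 F353962)) (tt N64078 F333843))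
theorem Q72094 : ∀ i, i < 72094 → P i := stepQ 72093 Q72093 (allL N72093 (tt N46352 F323886) (tt N39822 (iv0 D138142)) (tt N64073 (iv2 F359103)) (tt N97394 (iv3 F416690)) (tt N96865 (iv4 F414336)) (tt N67647 F359102) (tt N95671 F409073) (tt N64074 (iv7 F359104)))
theorem Q72095 : ∀ i, i < 72095 → P i := stepQ 72094 Q72094 (allL N72094 (tt N39822 (iv1 D138143)) (tt N46352 F323887) (tt N64074 F359070) (tt N107078 D210290) (tt N107079 D210291) (tt N67612 F359071) (tt N44942 F359072) (tt N64073 F359080))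
theorem Q72096 : ∀ i, i < 72096 → P i := stepQ 72095 Q72095 (allL N72095 (tt N102969 F439498) (tt N79347 F366247) (tt N64075 F366246) (tt N101674 (iv3 F433800)) (tt N39822 (iv4 D138144)) (tt N107080 D210292) (tt N79593 (iv6 F366245)) (tt N91989 (iv7 F395274)))
theorem Q72097 : ∀ i, i < 72097 → P i := stepQ 72096 Q72096 (allL N72096 (tt N105273 F449502) (tt N39823 (iv0 D138152)) (tt N103419 (iv2 F441541)) (tt N98001 (iv3 F419122)) (tt N97510 (iv4 F417173)) (tt N83102 F412614) (tt N48786 F412615) (tt N97508 (iv7 F417161)))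
theorem Q72098 : ∀ i, i < 72098 → P i := stepQ 72097 Q72097 (allL N72097 (tt N103419 (iv1 F441546)) (tt N97508 (iv0 F417162)) (tt N39823 (iv2 D138154)) (tt N106089 (iv3 F453060)) (tt N107081 D210293) (tt N83137 F380789) (tt N87838 (iv6 F380788)) (tt N105273 (iv7 F449499)))
theorem Q72099 : ∀ i, i < 72099 → P i := stepQ 72098 Q72098 (allL N72098 (tt N53027 F395401) (tt N107060 (iv0 F456820)) (tt N107081 (iv2 F456887)) (tt N97726 (iv3 F418083)) (tt N39823 (iv4 D138155)) (tt N88778 F395402) (tt N92021 F395403) (tt N103916 (iv7 F443359)))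
theorem Q72100 : ∀ i, i < 72100 → P i := stepQ 72099 Q72099 (allL N72099 (tt N55361 F380785) (tt N83138 F380787) (tt N83137 (iv2 F380790)) (tt N39825 F221344) (tt N107082 D210294) (tt N39823 (iv5 D138156)) (tt N101784 (iv6 F434332)) (tt N83136 F339699))
theorem Q72101 : ∀ i, i < 72101 → P i := stepQ 72100 Q72100 (allL N72100 (tt N87840 (iv1 F380796)) (tt N48799 F380783) (tt N87838 F380781) (tt N39826 F221345) (tt N92021 (iv4 F395399)) (tt N107083 D210295) (tt N39823 (iv6 D138157)) (tt N87839 (iv7 F380780)))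
theorem Q72102 : ∀ i, i < 72102 → P i := stepQ 72101 Q72101 (allL N72101 (tt N78474 F359634) (tt N95415 (iv0 F408143)) (tt N80278 (iv2 F359629)) (tt N64070 (iv3 F334277)) (tt N85718 F373648) (tt N39824 (iv5 D138162)) (tt N58859 F359630) (tt N79664 F359631))
theorem Q72103 : ∀ i, i < 72103 → P i := stepQ 72102 Q72102 (allL N72102 (tt N39829 (iv1 F221356)) (tt N39825 (iv0 D138165)) (tt N83095 F364603) (tt N68259 (iv3 F350363)) (tt N90104 (iv4 F388570)) (tt N68258 (iv5 F333870)) (tt N83081 (iv6 F333872)) (tt N103621 (iv7 F442270)))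
theorem Q72104 : ∀ i, i < 72104 → P i := stepQ 72103 Q72103 (allL N72103 (tt N39825 (iv1 D138166)) (tt N39829 F221353) (tt N103621 (iv2 F442268)) (tt N107048 F456771) (tt N104703 (iv4 F446927)) (tt N103620 (iv5 F442267)) (tt N104701 F446923) (tt N83095 F364604))
theorem Q72105 : ∀ i, i < 72105 → P i := stepQ 72104 Q72104 (allL N72104 (tt N107084 D210296) (tt N107085 D210297) (tt N106091 (iv2 F453069)) (tt N107086 D210298) (tt N39825 (iv4 D138167)) (tt N107087 D210299) (tt N107088 D210300) (tt N105275 (iv7 F449510)))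
theorem Q72106 : ∀ i, i < 72106 → P i := stepQ 72105 Q72105 (allL N72105 (tt N101481 F433099) (tt N101474 (iv0 F433077)) (tt N101478 F433093) (tt N101784 F434333) (tt N107088 (iv4 F456912)) (tt N107089 D210301) (tt N39825 (iv6 D138168)) (tt N101479 (iv7 F433094)))
theorem Q72107 : ∀ i, i < 72107 → P i := stepQ 72106 Q72106 (allL N72106 (tt N71926 F221357) (tt N105271 F449491) (tt N105272 (iv2 F449492)) (tt N107083 (iv3 F456897)) (tt N88539 (iv4 F383464)) (tt N39826 (iv5 D138172)) (tt N107089 (iv6 F456914)) (tt N103912 (iv7 F443337)))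
theorem Q72108 : ∀ i, i < 72108 → P i := stepQ 72107 Q72107 (allL N72107 (tt N39827 (iv1 D138176)) (tt N106089 F453063) (tt N88676 F437871) (tt N107044 (iv3 F456922)) (tt N107090 D210303) (tt N106417 (iv5 F454356)) (tt N88674 (iv6 F437870)) (tt N106072 (iv7 F452996)))
theorem Q72109 : ∀ i, i < 72109 → P i := stepQ 72108 Q72108 (allL N72108 (tt N106072 F452997) (tt N88676 F388692) (tt N39827 (iv2 D138177)) (tt N105273 (iv3 F449497)) (tt N102602 (iv4 F437856)) (tt N107091 D210304) (tt N78699 (iv6 F364182)) (tt N106089 (iv7 F453061)))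
theorem Q72110 : ∀ i, i < 72110 → P i := stepQ 72109 Q72109 (allL N72109 (tt N107092 D210305) (tt N107093 D210306) (tt N107091 (iv2 F456924)) (tt N39829 F221359) (tt N98585 (iv4 F421462)) (tt N39827 (iv5 D138179)) (tt N98584 (iv6 F421460)) (tt N106090 (iv7 F453065)))
theorem Q72111 : ∀ i, i < 72111 → P i := stepQ 72110 Q72110 (allL N72110 (tt N95415 F408145) (tt N78474 F359635) (tt N79664 (iv2 F359625)) (tt N79778 F359614) (tt N85717 (iv4 F373639)) (tt N39828 (iv5 D138182)) (tt N91524 (iv6 F393476)) (tt N80278 (iv7 F359626)))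
theorem Q72112 : ∀ i, i < 72112 → P i := stepQ 72111 Q72111 (allL N72111 (tt N107085 (iv1 F456904)) (tt N107084 F456901) (tt N105275 (iv2 F449508)) (tt N98587 (iv3 F421466)) (tt N39829 (iv4 D138184)) (tt N107094 D210307) (tt N98586 F421465) (tt N106091 (iv7 F453070)))
theorem Q72113 : ∀ i, i < 72113 → P i := stepQ 72112 Q72112 (allL N72112 (tt N95982 F410517) (tt N71106 (iv0 F221362)) (tt N95990 (iv2 F410536)) (tt N98584 F421459) (tt N98586 (iv4 F421464)) (tt N104151 (iv5 F444434)) (tt N39829 (iv6 D138185)) (tt N95989 (iv7 F410538)))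
theorem Q72114 : ∀ i, i < 72114 → P i := stepQ 72113 Q72113 (allL N72113 (tt N63132 F314226) (tt N101135 (iv0 F431860)) (tt N64022 F314227) (tt N106384 (iv3 F454235)) (tt N42493 F314228) (tt N39830 (iv5 D138190)) (tt N42491 F314229) (tt N39833 F221365))
theorem Q72115 : ∀ i, i < 72115 → P i := stepQ 72114 Q72114 (allL N72114 (tt N83981 F367705) (tt N88674 F383845) (tt N48777 F338408) (tt N39832 (iv3 D138197)) (tt N104722 (iv4 F446987)) (tt N48772 F338409) (tt N48773 F338410) (tt N70386 (iv7 F363942)))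
theorem Q72116 : ∀ i, i < 72116 → P i := stepQ 72115 Q72115 (allL N72115 (tt N69243 (iv1 F338562)) (tt N69242 F342190) (tt N69244 (iv2 F338560)) (tt N107095 D210308) (tt N39832 (iv4 D138198)) (tt N46016 F338552) (tt N107096 D210309) (tt N69239 F338559))
theorem Q72117 : ∀ i, i < 72117 → P i := stepQ 72116 Q72116 (allL N72116 (tt N51690 F338412) (tt N51688 F338413) (tt N48548 F338414) (tt N48773 F338415) (tt N107096 (iv4 F456946)) (tt N48546 F338416) (tt N39832 (iv6 D138200)) (tt N70391 F338417))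
theorem Q72118 : ∀ i, i < 72118 → P i := stepQ 72117 Q72117 (allL N72117 (tt N64022 F363926) (tt N39833 (iv0 D138201)) (tt N101135 (iv2 F431856)) (tt N77065 (iv3 F363927)) (tt N75478 (iv4 F363924)) (tt N92608 (iv5 F397630)) (tt N107097 D210310) (tt N63132 F363925))
theorem Q72119 : ∀ i, i < 72119 → P i := stepQ 72118 Q72118 (allL N72118 (tt N39833 (iv1 D138202)) (tt N64022 (iv0 F361079)) (tt N63132 (iv2 F361081)) (tt N68285 (iv3 F361075)) (tt N75477 F361080) (tt N92607 (iv5 F397616)) (tt N63115 F361078) (tt N101135 (iv7 F431859)))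
theorem Q72120 : ∀ i, i < 72120 → P i := stepQ 72119 Q72119 (allL N72119 (tt N63147 F322853) (tt N63118 F322854) (tt N46511 F322855) (tt N42717 F322856) (tt N39833 (iv4 D138203)) (tt N44926 F322857) (tt N39844 F221368) (tt N42493 F322858))
theorem Q72121 : ∀ i, i < 72121 → P i := stepQ 72120 Q72120 (allL N72120 (tt N73575 F351595) (tt N90252 (iv0 F389121)) (tt N106933 (iv2 F456336)) (tt N40297 F221369) (tt N39834 (iv4 D138207)) (tt N90282 (iv5 F389211)) (tt N107098 D210311) (tt N93362 (iv7 F400527)))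
theorem Q72122 : ∀ i, i < 72122 → P i := stepQ 72121 Q72121 (allL N72121 (tt N91751 F394304) (tt N106950 F456408) (tt N106934 (iv2 F456341)) (tt N39837 F221371) (tt N107098 (iv4 F456959)) (tt N77071 F351876) (tt N39834 (iv6 D138209)) (tt N106865 (iv7 F456064)))
theorem Q72123 : ∀ i, i < 72123 → P i := stepQ 72122 Q72122 (allL N72122 (tt N77253 F365571) (tt N57203 (iv0 F221375)) (tt N74369 (iv2 F227568)) (tt N70243 F221372) (tt N62934 (iv4 F328825)) (tt N39835 (iv5 D138210)) (tt N60891 (iv6 F328478)) (tt N74553 F228350))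
theorem Q72124 : ∀ i, i < 72124 → P i := stepQ 72123 Q72123 (allL N72123 (tt N71808 F336166) (tt N97967 F419006) (tt N92522 (iv2 F397224)) (tt N67321 F221376) (tt N39837 F221377) (tt N60892 (iv5 F336161)) (tt N39835 (iv6 D138211)) (tt N93031 (iv7 F399181)))
theorem Q72125 : ∀ i, i < 72125 → P i := stepQ 72124 Q72124 (allL N72124 (tt N70647 F221388) (tt N71150 F221389) (tt N71416 F221387) (tt N77071 (iv3 F351877)) (tt N106395 (iv4 F454276)) (tt N39837 (iv5 D138216)) (tt N63134 (iv6 F351880)) (tt N71415 F399186))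
theorem Q72126 : ∀ i, i < 72126 → P i := stepQ 72125 Q72125 (allL N72125 (tt N92416 F396947) (tt N102744 F438458) (tt N106960 (iv2 F456453)) (tt N57631 F221390) (tt N39838 (iv4 D138221)) (tt N78365 F351837) (tt N107099 D210312) (tt N92523 (iv7 F397231)))
theorem Q72127 : ∀ i, i < 72127 → P i := stepQ 72126 Q72126 (allL N72126 (tt N90977 F391467) (tt N90968 (iv0 F391413)) (tt N90975 F391438) (tt N39841 F221392) (tt N107099 (iv4 F456963)) (tt N107100 D210313) (tt N39838 (iv6 D138223)) (tt N90976 (iv7 F391439)))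
theorem Q72128 : ∀ i, i < 72128 → P i := stepQ 72127 Q72127 (allL N72127 (tt N57203 F221395) (tt N77253 (iv0 F365575)) (tt N74553 (iv2 F228347)) (tt N57632 F221393) (tt N63099 (iv4 F322836)) (tt N39839 (iv5 D138224)) (tt N60107 F221396) (tt N74369 (iv7 F227571)))
theorem Q72129 : ∀ i, i < 72129 → P i := stepQ 72128 Q72128 (allL N72128 (tt N93962 F402617) (tt N71858 (iv0 F221402)) (tt N101925 (iv2 F434963)) (tt N57633 F221398) (tt N39841 F221399) (tt N58595 F221400) (tt N39839 (iv6 D138225)) (tt N65852 (iv7 F221401)))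
theorem Q72130 : ∀ i, i < 72130 → P i := stepQ 72129 Q72129 (allL N72129 (tt N64429 F361451) (tt N56147 F361456) (tt N63098 (iv2 F361458)) (tt N77268 (iv3 F361455)) (tt N77169 (iv4 F361454)) (tt N107101 D210314) (tt N39840 (iv6 D138227)) (tt N64431 F361457))
theorem Q72131 : ∀ i, i < 72131 → P i := stepQ 72130 Q72130 (allL N72130 (tt N58613 F221408) (tt N70950 F221409) (tt N71697 F221406) (tt N107100 (iv3 F456966)) (tt N95080 (iv4 F406968)) (tt N39841 (iv5 D138228)) (tt N107101 (iv6 F456971)) (tt N71698 F221407))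
theorem Q72132 : ∀ i, i < 72132 → P i := stepQ 72131 Q72131 (allL N72131 (tt N106221 (iv1 F453624)) (tt N66468 (iv0 F351803)) (tt N54339 F357888) (tt N39845 (iv3 D138241)) (tt N39848 F221421) (tt N80731 F349883) (tt N107102 D210315) (tt N66495 F221422))
theorem Q72133 : ∀ i, i < 72133 → P i := stepQ 72132 Q72132 (allL N72132 (tt N66404 (iv1 F221427)) (tt N100507 (iv0 F429237)) (tt N66494 F221425) (tt N107102 (iv3 F456976)) (tt N39847 F221426) (tt N67010 F332392) (tt N39845 (iv6 D138243)) (tt N77608 (iv7 F332365)))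
theorem Q72134 : ∀ i, i < 72134 → P i := stepQ 72133 Q72133 (allL N72133 (tt N64116 (iv1 F323019)) (tt N71343 F221428) (tt N48373 F336485) (tt N107103 D210316) (tt N39846 (iv4 D138244)) (tt N44952 F336486) (tt N79828 F336487) (tt N79592 (iv7 F338804)))
theorem Q72135 : ∀ i, i < 72135 → P i := stepQ 72134 Q72134 (allL N72134 (tt N106836 F455907) (tt N106845 F455959) (tt N54340 F365730) (tt N39850 F221430) (tt N107102 (iv4 F456977)) (tt N107104 D210317) (tt N39848 (iv6 D138249)) (tt N90492 (iv7 F389821)))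
theorem Q72136 : ∀ i, i < 72136 → P i := stepQ 72135 Q72135 (allL N72135 (tt N70903 F221440) (tt N71145 F221439) (tt N71456 F221437) (tt N107104 (iv3 F456989)) (tt N107105 D210318) (tt N39850 (iv5 D138254)) (tt N82321 F365826) (tt N71455 F221438))
theorem Q72137 : ∀ i, i < 72137 → P i := stepQ 72136 Q72136 (allL N72136 (tt N39857 (iv1 F221448)) (tt N39852 (iv0 D138256)) (tt N43686 (iv2 F327138)) (tt N80544 F326319) (tt N78245 (iv4 F247353)) (tt N43679 F326320) (tt N53229 (iv6 F327144)) (tt N54369 (iv7 F327136)))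
theorem Q72138 : ∀ i, i < 72138 → P i := stepQ 72137 Q72137 (allL N72137 (tt N53872 (iv1 F356076)) (tt N54333 F356077) (tt N53387 (iv2 F356079)) (tt N39852 (iv3 D138257)) (tt N107103 (iv4 F456982)) (tt N64418 F356074) (tt N99860 (iv6 F426586)) (tt N54387 F356078))
theorem Q72139 : ∀ i, i < 72139 → P i := stepQ 72138 Q72138 (allL N72138 (tt N54005 (iv1 F325448)) (tt N70954 F221452) (tt N42799 (iv2 F325455)) (tt N64418 (iv3 F355878)) (tt N42757 F324309) (tt N39852 (iv5 D138258)) (tt N42755 F324310) (tt N63103 (iv7 F325453)))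
theorem Q72140 : ∀ i, i < 72140 → P i := stepQ 72139 Q72139 (allL N72139 (tt N103997 (iv1 F443710)) (tt N91630 (iv0 F393838)) (tt N74031 (iv2 F226651)) (tt N54380 (iv3 F365681)) (tt N96094 (iv4 F411017)) (tt N39853 (iv5 D138260)) (tt N96093 (iv6 F411013)) (tt N74028 (iv7 F226649)))
theorem Q72141 : ∀ i, i < 72141 → P i := stepQ 72140 Q72140 (allL N72140 (tt N94452 (iv1 F404527)) (tt N66539 (iv0 F221459)) (tt N60547 F221456) (tt N54381 (iv3 F365682)) (tt N39855 F221457) (tt N99713 (iv5 F425867)) (tt N39853 (iv6 D138261)) (tt N60542 (iv7 F221458)))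
theorem Q72142 : ∀ i, i < 72142 → P i := stepQ 72141 Q72141 (allL N72141 (tt N41186 F226995) (tt N97125 (iv0 F415568)) (tt N97360 (iv2 F416490)) (tt N53384 F357415) (tt N39854 (iv4 D138262)) (tt N74026 F365015) (tt N41109 F221460) (tt N54400 (iv7 F357413)))
theorem Q72143 : ∀ i, i < 72143 → P i := stepQ 72142 Q72142 (allL N72142 (tt N70944 F221467) (tt N70943 F221466) (tt N71671 F221464) (tt N54383 (iv3 F357625)) (tt N96045 (iv4 F410778)) (tt N39856 (iv5 D138270)) (tt N54374 F357624) (tt N71672 F221465))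
theorem Q72144 : ∀ i, i < 72144 → P i := stepQ 72143 Q72143 (allL N72143 (tt N70954 F221473) (tt N54005 (iv0 F325447)) (tt N63103 (iv2 F325452)) (tt N53385 F324306) (tt N42804 F324307) (tt N39857 (iv5 D138272)) (tt N57484 F324308) (tt N42799 (iv7 F325456)))
theorem Q72145 : ∀ i, i < 72145 → P i := stepQ 72144 Q72144 (allL N72144 (tt N78096 (iv1 F245966)) (tt N39858 (iv0 D138273)) (tt N78095 (iv2 F411592)) (tt N107106 D210319) (tt N104872 (iv4 F447737)) (tt N96226 (iv5 F411586)) (tt N99378 (iv6 F424349)) (tt N78094 (iv7 F411589)))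
theorem Q72146 : ∀ i, i < 72146 → P i := stepQ 72145 Q72145 (allL N72145 (tt N39858 (iv1 D138274)) (tt N78096 F245968) (tt N78094 (iv2 F411595)) (tt N107107 D210320) (tt N104867 (iv4 F447711)) (tt N96225 (iv5 F411581)) (tt N107108 D210321) (tt N78095 F411594))
theorem Q72147 : ∀ i, i < 72147 → P i := stepQ 72146 Q72146 (allL N72146 (tt N78095 (iv1 F245967)) (tt N78094 F245962) (tt N39858 (iv2 D138275)) (tt N70324 F221475) (tt N68068 F221476) (tt N98176 (iv5 F419860)) (tt N106098 (iv6 F453102)) (tt N78096 (iv7 F245965)))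
theorem Q72148 : ∀ i, i < 72148 → P i := stepQ 72147 Q72147 (allL N72147 (tt N59257 (iv1 F352981)) (tt N59261 (iv0 F361679)) (tt N98176 (iv2 F419858)) (tt N39859 F221477) (tt N61029 (iv4 F336380)) (tt N39858 (iv5 D138276)) (tt N64671 F336381) (tt N61026 (iv7 F329103)))
theorem Q72149 : ∀ i, i < 72149 → P i := stepQ 72148 Q72148 (allL N72148 (tt N106037 (iv1 F452836)) (tt N107109 D210322) (tt N106098 (iv2 F453099)) (tt N39860 F221478) (tt N68070 F221479) (tt N69791 (iv5 F336382)) (tt N39858 (iv6 D138277)) (tt N99425 (iv7 F424519)))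
theorem Q72150 : ∀ i, i < 72150 → P i := stepQ 72149 Q72149 (allL N72149 (tt N64657 (iv1 F329231)) (tt N39860 (iv0 D138279)) (tt N70320 (iv2 F223606)) (tt N82789 (iv3 F360187)) (tt N74218 (iv4 F227018)) (tt N40567 F329662) (tt N96004 (iv6 F410596)) (tt N70321 (iv7 F223607)))
theorem Q72151 : ∀ i, i < 72151 → P i := stepQ 72150 Q72150 (allL N72150 (tt N39860 (iv1 D138280)) (tt N64657 (iv0 F329230)) (tt N70321 F223600) (tt N107110 D210323) (tt N72922 F223601) (tt N40574 F329663) (tt N40076 F223602) (tt N70320 F223603))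
theorem Q72152 : ∀ i, i < 72152 → P i := stepQ 72151 Q72151 (allL N72151 (tt N69556 (iv1 F328655)) (tt N39864 (iv0 F221488)) (tt N69557 F221486) (tt N97708 (iv3 F418001)) (tt N39861 (iv4 D138282)) (tt N71004 F332956) (tt N72441 (iv6 F222507)) (tt N70319 F221487))
theorem Q72153 : ∀ i, i < 72153 → P i := stepQ 72152 Q72152 (allL N72152 (tt N70324 (iv1 F221489)) (tt N39862 (iv0 D138283)) (tt N41920 F356559) (tt N107111 D210324) (tt N78028 F356560) (tt N41872 F356561) (tt N107112 D210325) (tt N70323 F356562))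
theorem Q72154 : ∀ i, i < 72154 → P i := stepQ 72153 Q72153 (allL N72153 (tt N39862 (iv1 D138284)) (tt N70324 F221492) (tt N70323 F356553) (tt N65288 (iv3 F314742)) (tt N78029 F332266) (tt N41921 F356554) (tt N107113 D210326) (tt N41920 F356555))
theorem Q72155 : ∀ i, i < 72155 → P i := stepQ 72154 Q72154 (allL N72154 (tt N41920 F356547) (tt N70323 F221491) (tt N39862 (iv2 D138285)) (tt N78096 (iv3 F245963)) (tt N106459 (iv4 F454539)) (tt N64632 F356543) (tt N64635 (iv6 F356545)) (tt N70324 F221490))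
theorem Q72156 : ∀ i, i < 72156 → P i := stepQ 72155 Q72155 (allL N72155 (tt N78099 (iv1 F245977)) (tt N39863 (iv0 D138288)) (tt N78098 F447699) (tt N104865 F447697) (tt N107114 D210327) (tt N98595 (iv5 F421495)) (tt N99393 F454843) (tt N78097 (iv7 F447698)))
theorem Q72157 : ∀ i, i < 72157 → P i := stepQ 72156 Q72156 (allL N72156 (tt N39863 (iv1 D138289)) (tt N78099 F245979) (tt N78097 (iv2 F447700)) (tt N107115 D210328) (tt N89637 (iv4 F433558)) (tt N107116 D210329) (tt N89636 F433559) (tt N78098 F447701))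
theorem Q72158 : ∀ i, i < 72158 → P i := stepQ 72157 Q72157 (allL N72157 (tt N78098 (iv1 F245978)) (tt N78097 F245973) (tt N39863 (iv2 D138290)) (tt N78102 (iv3 F245986)) (tt N104464 (iv4 F445872)) (tt N79074 F365415) (tt N106955 (iv6 F456431)) (tt N78099 (iv7 F245976)))
theorem Q72159 : ∀ i, i < 72159 → P i := stepQ 72158 Q72158 (allL N72158 (tt N72033 (iv1 F355786)) (tt N72036 F333088) (tt N106955 (iv2 F456428)) (tt N39864 F221498) (tt N72698 (iv4 F333086)) (tt N70318 (iv5 F329460)) (tt N39863 (iv6 D138292)) (tt N99424 (iv7 F424513)))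
theorem Q72160 : ∀ i, i < 72160 → P i := stepQ 72159 Q72159 (allL N72159 (tt N78102 (iv1 F245989)) (tt N39865 (iv0 D138294)) (tt N78101 (iv2 F358658)) (tt N107117 D210330) (tt N107118 D210331) (tt N80012 F345983) (tt N107119 D210332) (tt N78100 F358663))
theorem Q72161 : ∀ i, i < 72161 → P i := stepQ 72160 Q72160 (allL N72160 (tt N39865 (iv1 D138295)) (tt N78102 F245991) (tt N78100 F358662) (tt N101745 (iv3 F434146)) (tt N107120 D210333) (tt N44885 F348678) (tt N107121 D210334) (tt N78101 (iv7 F358660)))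
theorem Q72162 : ∀ i, i < 72162 → P i := stepQ 72161 Q72161 (allL N72161 (tt N78101 (iv1 F245990)) (tt N78100 F245985) (tt N39865 (iv2 D138296)) (tt N78099 (iv3 F245974)) (tt N93373 (iv4 F400563)) (tt N78706 (iv5 F358649)) (tt N76093 (iv6 F361446)) (tt N78102 (iv7 F245988)))
theorem Q72163 : ∀ i, i < 72163 → P i := stepQ 72162 Q72162 (allL N72162 (tt N104864 (iv1 F447691)) (tt N104865 (iv0 F447694)) (tt N98180 (iv2 F419874)) (tt N39866 (iv3 D138305)) (tt N78274 (iv4 F247492)) (tt N92194 F396191) (tt N99422 (iv6 F424501)) (tt N78103 F366641))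
theorem Q72164 : ∀ i, i < 72164 → P i := stepQ 72163 Q72163 (allL N72163 (tt N44388 F221505) (tt N72248 F246479) (tt N43695 F328072) (tt N92194 (iv3 F396187)) (tt N45314 F328073) (tt N39866 (iv5 D138306)) (tt N43693 F328074) (tt N72250 (iv7 F364179)))
theorem Q72165 : ∀ i, i < 72165 → P i := stepQ 72164 Q72164 (allL N72164 (tt N73387 (iv1 F337094)) (tt N65327 (iv0 F313391)) (tt N39868 F221506) (tt N96185 (iv3 F411387)) (tt N76444 (iv4 F356818)) (tt N39867 (iv5 D138308)) (tt N73362 F337199) (tt N78105 (iv7 F245998)))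
theorem Q72166 : ∀ i, i < 72166 → P i := stepQ 72165 Q72165 (allL N72165 (tt N76173 F312925) (tt N76172 F312926) (tt N39869 F221507) (tt N53638 (iv3 F375624)) (tt N39890 F221508) (tt N107122 D210335) (tt N39867 (iv6 D138309)) (tt N76171 F312927))
theorem Q72167 : ∀ i, i < 72167 → P i := stepQ 72166 Q72166 (allL N72166 (tt N39868 (iv1 D138311)) (tt N78105 F246002) (tt N65327 (iv2 F313393)) (tt N107123 D210336) (tt N73355 (iv4 F337089)) (tt N39925 F221509) (tt N77667 F337088) (tt N73387 (iv7 F337098)))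
theorem Q72168 : ∀ i, i < 72168 → P i := stepQ 72167 Q72167 (allL N72167 (tt N40828 F356814) (tt N107124 D210337) (tt N76444 F356815) (tt N40894 F340105) (tt N39868 (iv4 D138312)) (tt N45220 F356816) (tt N40888 F340106) (tt N78107 (iv7 F246014)))
theorem Q72169 : ∀ i, i < 72169 → P i := stepQ 72168 Q72168 (allL N72168 (tt N39869 (iv1 D138315)) (tt N76171 F366640) (tt N76172 (iv2 F366639)) (tt N90750 (iv3 F427805)) (tt N100167 (iv4 F427800)) (tt N88876 (iv5 F384411)) (tt N107125 D210338) (tt N76173 F366638))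
theorem Q72170 : ∀ i, i < 72170 → P i := stepQ 72169 Q72169 (allL N72169 (tt N88866 F386510) (tt N99513 (iv0 F424940)) (tt N107122 (iv2 F457076)) (tt N39873 F221511) (tt N89693 (iv4 F387235)) (tt N39869 (iv5 D138316)) (tt N88887 (iv6 F384425)) (tt N76174 F366564))
theorem Q72171 : ∀ i, i < 72171 → P i := stepQ 72170 Q72170 (allL N72170 (tt N98595 F421496) (tt N107116 (iv0 F457053)) (tt N99835 (iv2 F426449)) (tt N39870 (iv3 D138318)) (tt N107126 D210339) (tt N39923 F221514) (tt N99834 F426448) (tt N78111 (iv7 F246018)))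
theorem Q72172 : ∀ i, i < 72172 → P i := stepQ 72171 Q72171 (allL N72171 (tt N84406 F369190) (tt N89636 (iv0 F387036)) (tt N107127 D210340) (tt N39871 (iv3 D138324)) (tt N89179 (iv4 F385471)) (tt N91070 (iv5 F391814)) (tt N40133 F221517) (tt N90023 (iv7 F388318)))
theorem Q72173 : ∀ i, i < 72173 → P i := stepQ 72172 Q72172 (allL N72172 (tt N59026 F221520) (tt N62420 F221521) (tt N62418 F221518) (tt N91070 (iv3 F391816)) (tt N94502 (iv4 F404729)) (tt N39871 (iv5 D138325)) (tt N50063 F343169) (tt N62417 F221519))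
theorem Q72174 : ∀ i, i < 72174 → P i := stepQ 72173 Q72173 (allL N72173 (tt N107119 (iv1 F457066)) (tt N107128 D210341) (tt N107129 D210342) (tt N39872 (iv3 D138326)) (tt N93387 (iv4 F400609)) (tt N107130 D210343) (tt N107131 D210344) (tt N96187 (iv7 F411398)))
theorem Q72175 : ∀ i, i < 72175 → P i := stepQ 72174 Q72174 (allL N72174 (tt N62420 F221524) (tt N59026 F221525) (tt N62417 F221522) (tt N107130 (iv3 F457112)) (tt N94503 (iv4 F404734)) (tt N39872 (iv5 D138327)) (tt N82274 F370516) (tt N62418 F221523))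
theorem Q72176 : ∀ i, i < 72176 → P i := stepQ 72175 Q72175 (allL N72175 (tt N62572 F221528) (tt N72441 F222602) (tt N73999 F226512) (tt N107131 (iv3 F457118)) (tt N69782 F221526) (tt N73994 (iv5 F226501)) (tt N39872 (iv6 D138328)) (tt N40137 F221527))
theorem Q72177 : ∀ i, i < 72177 → P i := stepQ 72176 Q72176 (allL N72176 (tt N99530 (iv1 F425003)) (tt N99533 (iv0 F425017)) (tt N96188 (iv2 F411401)) (tt N99589 (iv3 F425300)) (tt N39873 (iv4 D138329)) (tt N107132 D210345) (tt N99587 (iv6 F425297)) (tt N107133 D210346))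
theorem Q72178 : ∀ i, i < 72178 → P i := stepQ 72177 Q72177 (allL N72177 (tt N95953 (iv1 F410410)) (tt N63993 (iv0 F364785)) (tt N96189 (iv2 F411404)) (tt N76174 (iv3 F366563)) (tt N107133 (iv4 F457131)) (tt N39874 F221529) (tt N89689 (iv6 F387225)) (tt N39873 (iv7 D138330)))
theorem Q72179 : ∀ i, i < 72179 → P i := stepQ 72178 Q72178 (allL N72178 (tt N107134 D210347) (tt N107108 (iv0 F457012)) (tt N53923 F365301) (tt N39875 (iv3 D138331)) (tt N68119 F221530) (tt N84057 (iv5 F367958)) (tt N40140 F221531) (tt N90600 (iv7 F390210)))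
theorem Q72180 : ∀ i, i < 72180 → P i := stepQ 72179 Q72179 (allL N72179 (tt N57168 F221537) (tt N62160 (iv0 F221538)) (tt N68120 F221533) (tt N39878 F221534) (tt N102810 (iv4 F438740)) (tt N40145 F221535) (tt N39876 (iv6 D138333)) (tt N40145 F221536))
theorem Q72181 : ∀ i, i < 72181 → P i := stepQ 72180 Q72180 (allL N72180 (tt N107112 (iv1 F457036)) (tt N107135 D210348) (tt N107136 D210349) (tt N39877 (iv3 D138334)) (tt N102809 (iv4 F438734)) (tt N105516 (iv5 F450540)) (tt N107137 D210350) (tt N96191 (iv7 F411418)))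
theorem Q72182 : ∀ i, i < 72182 → P i := stepQ 72181 Q72181 (allL N72181 (tt N95007 F406632) (tt N96004 (iv0 F410599)) (tt N73998 (iv2 F226506)) (tt N107137 (iv3 F457149)) (tt N39878 F221540) (tt N107138 D210351) (tt N39877 (iv6 D138336)) (tt N40148 F221541))
theorem Q72183 : ∀ i, i < 72183 → P i := stepQ 72182 Q72182 (allL N72182 (tt N48504 F310067) (tt N48496 (iv0 F312252)) (tt N69562 F221550) (tt N104462 (iv3 F445866)) (tt N39880 (iv4 D138341)) (tt N106383 (iv5 F454229)) (tt N89192 (iv6 F385514)) (tt N69563 F221551))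
theorem Q72184 : ∀ i, i < 72184 → P i := stepQ 72183 Q72183 (allL N72183 (tt N47737 F355134) (tt N82234 F355135) (tt N67061 (iv2 F355144)) (tt N39885 F221596) (tt N94422 (iv4 F404420)) (tt N73396 F355136) (tt N39882 (iv6 D138358)) (tt N74977 (iv7 F348848)))
theorem Q72185 : ∀ i, i < 72185 → P i := stepQ 72184 Q72184 (allL N72184 (tt N107106 F457003) (tt N107139 D210352) (tt N105132 (iv2 F448931)) (tt N39883 (iv3 D138361)) (tt N94421 (iv4 F404416)) (tt N78703 (iv5 F362457)) (tt N106045 F452884) (tt N78123 (iv7 F246072)))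
theorem Q72186 : ∀ i, i < 72186 → P i := stepQ 72185 Q72185 (allL N72185 (tt N82162 (iv1 F360927)) (tt N74851 (iv0 F330639)) (tt N78128 (iv2 F246114)) (tt N78703 (iv3 F330638)) (tt N76000 F330637) (tt N39883 (iv5 D138362)) (tt N99818 (iv6 F426372)) (tt N75998 (iv7 F330636)))
theorem Q72187 : ∀ i, i < 72187 → P i := stepQ 72186 Q72186 (allL N72186 (tt N107033 (iv1 F456723)) (tt N107140 D210353) (tt N74922 (iv2 F322557)) (tt N106045 F452883) (tt N39885 F221600) (tt N62848 F330622) (tt N39883 (iv6 D138363)) (tt N74979 F362453))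
theorem Q72188 : ∀ i, i < 72188 → P i := stepQ 72187 Q72187 (allL N72187 (tt N67059 F314992) (tt N39886 (iv0 D138370)) (tt N65376 F314993) (tt N78082 F245723) (tt N48001 (iv4 F316101)) (tt N78214 (iv5 F247162)) (tt N107141 D210354) (tt N78124 (iv7 F246086)))
theorem Q72189 : ∀ i, i < 72189 → P i := stepQ 72188 Q72188 (allL N72188 (tt N68353 (iv1 F246106)) (tt N65296 (iv0 F313688)) (tt N81338 (iv2 F332226)) (tt N48020 F319532) (tt N39886 (iv4 D138373)) (tt N48019 F319533) (tt N76832 F351447) (tt N78125 (iv7 F246104)))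
theorem Q72190 : ∀ i, i < 72190 → P i := stepQ 72189 Q72189 (allL N72189 (tt N74851 F330629) (tt N82162 F360926) (tt N75998 (iv2 F330634)) (tt N47420 (iv3 F332270)) (tt N75994 F330631) (tt N39887 (iv5 D138376)) (tt N42631 F330632) (tt N78128 (iv7 F246115)))
theorem Q72191 : ∀ i, i < 72191 → P i := stepQ 72190 Q72190 (allL N72190 (tt N48083 F342516) (tt N48082 F342517) (tt N67063 (iv2 F313379)) (tt N81293 (iv3 F356225)) (tt N73606 F342518) (tt N73886 F342519) (tt N39888 (iv6 D138379)) (tt N76017 (iv7 F342524)))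
theorem Q72192 : ∀ i, i < 72192 → P i := stepQ 72191 Q72191 (allL N72191 (tt N78214 (iv1 F247163)) (tt N42807 (iv0 F311944)) (tt N69673 F221616) (tt N39892 (iv3 D138392)) (tt N47417 F310290) (tt N39942 F221617) (tt N107142 D210355) (tt N75819 (iv7 F311108)))
theorem Q72193 : ∀ i, i < 72193 → P i := stepQ 72192 Q72192 (allL N72192 (tt N42865 F310291) (tt N75629 F309727) (tt N76442 (iv2 F311105)) (tt N107142 (iv3 F457175)) (tt N66721 F309728) (tt N40283 F318797) (tt N39892 (iv6 D138394)) (tt N76007 F310292))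
theorem Q72194 : ∀ i, i < 72194 → P i := stepQ 72193 Q72193 (allL N72193 (tt N107143 D210356) (tt N82164 F315867) (tt N56105 F315868) (tt N106777 (iv3 F455635)) (tt N39893 (iv4 D138405)) (tt N107144 D210357) (tt N40287 F323749) (tt N76162 F315870))
theorem Q72195 : ∀ i, i < 72195 → P i := stepQ 72194 Q72194 (allL N72194 (tt N107141 (iv1 F457172)) (tt N63148 F315875) (tt N82651 F330099) (tt N39894 (iv3 D138409)) (tt N76790 F315876) (tt N46501 F315877) (tt N107145 D210358) (tt N56096 F315878))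
theorem Q72196 : ∀ i, i < 72196 → P i := stepQ 72195 Q72195 (allL N72195 (tt N82164 F315879) (tt N107143 F457182) (tt N76162 F315880) (tt N107146 D210359) (tt N39894 (iv4 D138410)) (tt N107147 D210360) (tt N106770 (iv6 F455606)) (tt N56105 F315881))
theorem Q72197 : ∀ i, i < 72197 → P i := stepQ 72196 Q72196 (allL N72196 (tt N62573 (iv1 F318148)) (tt N74003 (iv0 F320333)) (tt N42468 F315885) (tt N107145 (iv3 F457191)) (tt N106770 (iv4 F455605)) (tt N42453 F315886) (tt N39894 (iv6 D138412)) (tt N40290 F323759))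
theorem Q72198 : ∀ i, i < 72198 → P i := stepQ 72197 Q72197 (allL N72197 (tt N72626 (iv1 F222769)) (tt N39895 (iv0 D138445)) (tt N72625 (iv2 F357941)) (tt N103968 (iv3 F443568)) (tt N107148 D210361) (tt N53759 F357940) (tt N107149 D210362) (tt N72624 (iv7 F357942)))
theorem Q72199 : ∀ i, i < 72199 → P i := stepQ 72198 Q72198 (allL N72198 (tt N39895 (iv1 D138446)) (tt N72626 F222771) (tt N72624 (iv2 F357943)) (tt N107150 D210363) (tt N107151 D210364) (tt N53762 F357944) (tt N107152 D210365) (tt N72625 F357945))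
theorem Q72200 : ∀ i, i < 72200 → P i := stepQ 72199 Q72199 (allL N72199 (tt N72625 (iv1 F222770)) (tt N72624 F222766) (tt N39895 (iv2 D138447)) (tt N72636 (iv3 F222786)) (tt N78229 (iv4 F247327)) (tt N89729 (iv5 F387337)) (tt N95097 (iv6 F407023)) (tt N72626 (iv7 F222768)))
theorem Q72201 : ∀ i, i < 72201 → P i := stepQ 72200 Q72200 (allL N72200 (tt N89046 (iv1 F384951)) (tt N89044 (iv0 F384944)) (tt N89729 F387339) (tt N39896 F221645) (tt N54033 (iv4 F357946)) (tt N39895 (iv5 D138448)) (tt N107153 D210366) (tt N72627 (iv7 F222773)))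
theorem Q72202 : ∀ i, i < 72202 → P i := stepQ 72201 Q72201 (allL N72201 (tt N107154 D210367) (tt N83122 (iv0 F450697)) (tt N72638 (iv2 F222793)) (tt N107153 (iv3 F457216)) (tt N70342 F221646) (tt N95100 (iv5 F407036)) (tt N39896 (iv6 D138449)) (tt N107155 D210368))
theorem Q72203 : ∀ i, i < 72203 → P i := stepQ 72202 Q72202 (allL N72202 (tt N78059 (iv1 F245628)) (tt N39897 (iv0 D138450)) (tt N78058 (iv2 F364772)) (tt N89761 (iv3 F387455)) (tt N94388 F404214) (tt N58344 F364771) (tt N107156 D210369) (tt N78057 (iv7 F364773)))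
theorem Q72204 : ∀ i, i < 72204 → P i := stepQ 72203 Q72203 (allL N72203 (tt N78058 (iv1 F245629)) (tt N78057 F245624) (tt N39897 (iv2 D138452)) (tt N78063 (iv3 F245634)) (tt N77873 (iv4 F245184)) (tt N78465 (iv5 F357951)) (tt N97034 F415126) (tt N78059 (iv7 F245627)))
theorem Q72205 : ∀ i, i < 72205 → P i := stepQ 72204 Q72204 (allL N72204 (tt N78466 F373413) (tt N78432 (iv0 F364774)) (tt N78465 F357950) (tt N39898 F221647) (tt N101406 (iv4 F432864)) (tt N39897 (iv5 D138453)) (tt N85654 F373410) (tt N72295 (iv7 F221900)))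
theorem Q72206 : ∀ i, i < 72206 → P i := stepQ 72205 Q72205 (allL N72205 (tt N97032 (iv1 F415114)) (tt N97031 F415123) (tt N97034 (iv2 F415120)) (tt N39899 F221648) (tt N77874 (iv4 F245186)) (tt N97024 (iv5 F415086)) (tt N39897 (iv6 D138454)) (tt N40398 (iv7 F221649)))
theorem Q72207 : ∀ i, i < 72207 → P i := stepQ 72206 Q72206 (allL N72206 (tt N98312 F420459) (tt N102318 F436711) (tt N72298 (iv2 F221905)) (tt N85654 (iv3 F373411)) (tt N68219 F221650) (tt N43590 F342484) (tt N39898 (iv6 D138455)) (tt N99474 (iv7 F424745)))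
theorem Q72208 : ∀ i, i < 72208 → P i := stepQ 72207 Q72207 (allL N72207 (tt N56965 (iv1 F363742)) (tt N56964 (iv0 F331801)) (tt N40403 F221651) (tt N97024 (iv3 F415085)) (tt N107157 D210370) (tt N39899 (iv5 D138456)) (tt N43590 F342483) (tt N40400 F221652))
theorem Q72209 : ∀ i, i < 72209 → P i := stepQ 72208 Q72208 (allL N72208 (tt N78063 (iv1 F245638)) (tt N39900 (iv0 D138457)) (tt N78062 (iv2 F390759)) (tt N107158 D210371) (tt N107159 D210372) (tt N94770 (iv5 F405851)) (tt N99317 (iv6 F424077)) (tt N78061 F390758))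
theorem Q72210 : ∀ i, i < 72210 → P i := stepQ 72209 Q72209 (allL N72209 (tt N39900 (iv1 D138458)) (tt N78063 F245640) (tt N78061 F390755) (tt N94369 (iv3 F404161)) (tt N54562 (iv4 F379510)) (tt N98343 (iv5 F420563)) (tt N54560 F379511) (tt N78062 (iv7 F390757)))
theorem Q72211 : ∀ i, i < 72211 → P i := stepQ 72210 Q72210 (allL N72210 (tt N78062 (iv1 F245639)) (tt N78061 F245633) (tt N39900 (iv2 D138459)) (tt N78059 (iv3 F245626)) (tt N68086 F221653) (tt N93721 (iv5 F401666)) (tt N92892 (iv6 F398673)) (tt N78063 (iv7 F245637)))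
theorem Q72212 : ∀ i, i < 72212 → P i := stepQ 72211 Q72211 (allL N72211 (tt N70229 F398729) (tt N70234 (iv0 F343134)) (tt N93721 (iv2 F401665)) (tt N39901 F221654) (tt N103056 (iv4 F439876)) (tt N39900 (iv5 D138460)) (tt N92906 (iv6 F398726)) (tt N72297 (iv7 F221904)))
theorem Q72213 : ∀ i, i < 72213 → P i := stepQ 72212 Q72212 (allL N72212 (tt N107160 D210373) (tt N58299 (iv0 F363303)) (tt N72296 (iv2 F221901)) (tt N92906 (iv3 F398723)) (tt N70376 F221657) (tt N92901 (iv5 F398705)) (tt N39901 (iv6 D138462)) (tt N92900 (iv7 F398702)))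
theorem Q72214 : ∀ i, i < 72214 → P i := stepQ 72213 Q72213 (allL N72213 (tt N65263 (iv1 F316133)) (tt N65269 (iv0 F316984)) (tt N39904 F221668) (tt N94595 (iv3 F405112)) (tt N107161 D210374) (tt N39903 (iv5 D138472)) (tt N95239 (iv6 F407545)) (tt N78067 (iv7 F245654)))
theorem Q72215 : ∀ i, i < 72215 → P i := stepQ 72214 Q72214 (allL N72214 (tt N78067 F245656) (tt N39904 (iv0 D138474)) (tt N65263 (iv2 F316134)) (tt N89766 (iv3 F387479)) (tt N107162 D210375) (tt N39960 F245657) (tt N50388 F345110) (tt N65269 (iv7 F316987)))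
theorem Q72216 : ∀ i, i < 72216 → P i := stepQ 72215 Q72215 (allL N72215 (tt N39904 (iv1 D138475)) (tt N78067 F245658) (tt N65269 (iv2 F316986)) (tt N89051 (iv3 F384970)) (tt N59439 F350377) (tt N39961 F222382) (tt N59438 (iv6 F350375)) (tt N65263 (iv7 F316135)))
theorem Q72217 : ∀ i, i < 72217 → P i := stepQ 72216 Q72216 (allL N72216 (tt N86158 F375243) (tt N59656 (iv0 F350385)) (tt N107161 (iv2 F457258)) (tt N105390 (iv3 F450018)) (tt N39904 (iv4 D138476)) (tt N83110 F350383) (tt N59596 F363305) (tt N78068 (iv7 F245664)))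
theorem Q72218 : ∀ i, i < 72218 → P i := stepQ 72217 Q72217 (allL N72217 (tt N80410 F312853) (tt N39905 (iv0 D138478)) (tt N82341 F312854) (tt N107163 D210376) (tt N48445 F312855) (tt N101129 (iv5 F431830)) (tt N99323 (iv6 F424098)) (tt N40376 F326243))
theorem Q72219 : ∀ i, i < 72219 → P i := stepQ 72218 Q72218 (allL N72218 (tt N80409 F350025) (tt N77493 (iv0 F350072)) (tt N82347 F358448) (tt N39907 F221672) (tt N80411 F341738) (tt N39905 (iv5 D138480)) (tt N94816 (iv6 F406053)) (tt N64446 (iv7 F354379)))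
theorem Q72220 : ∀ i, i < 72220 → P i := stepQ 72219 Q72219 (allL N72219 (tt N94994 (iv1 F406587)) (tt N40334 F351211) (tt N107164 D210377) (tt N39906 (iv3 D138486)) (tt N77902 (iv4 F245256)) (tt N59526 F351212) (tt N47889 F351213) (tt N40364 F221676))
theorem Q72221 : ∀ i, i < 72221 → P i := stepQ 72220 Q72220 (allL N72220 (tt N107165 D210378) (tt N107152 (iv0 F457212)) (tt N107166 D210379) (tt N39909 (iv3 D138492)) (tt N93405 (iv4 F400647)) (tt N64608 F363365) (tt N99297 (iv6 F423982)) (tt N40347 F221679))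
theorem Q72222 : ∀ i, i < 72222 → P i := stepQ 72221 Q72221 (allL N72221 (tt N39910 (iv1 D138501)) (tt N75859 F314450) (tt N65373 F314451) (tt N78124 F246091) (tt N48041 (iv4 F316054)) (tt N80289 F344469) (tt N81688 (iv6 F344472)) (tt N78082 (iv7 F246093)))
theorem Q72223 : ∀ i, i < 72223 → P i := stepQ 72222 Q72222 (allL N72222 (tt N74305 (iv1 F348116)) (tt N96885 (iv0 F414447)) (tt N82578 F348053) (tt N39913 F221690) (tt N62658 F330034) (tt N107167 D210380) (tt N39910 (iv6 D138504)) (tt N40471 F327719))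
theorem Q72224 : ∀ i, i < 72224 → P i := stepQ 72223 Q72223 (allL N72223 (tt N39914 (iv1 F221697)) (tt N39911 (iv0 D138506)) (tt N65231 (iv2 F366661)) (tt N107168 D210381) (tt N65211 (iv4 F313653)) (tt N101795 (iv5 F434378)) (tt N66889 F366662) (tt N65230 F366663))
theorem Q72225 : ∀ i, i < 72225 → P i := stepQ 72224 Q72224 (allL N72224 (tt N103968 (iv1 F443567)) (tt N103966 (iv0 F443557)) (tt N93949 (iv2 F402552)) (tt N39911 (iv3 D138508)) (tt N94412 (iv4 F404366)) (tt N86188 (iv5 F375324)) (tt N41503 F363392) (tt N78084 F245764))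
theorem Q72226 : ∀ i, i < 72226 → P i := stepQ 72225 Q72225 (allL N72225 (tt N65218 (iv1 F314708)) (tt N65282 F366679) (tt N65279 (iv2 F350063)) (tt N86188 (iv3 F375322)) (tt N86204 (iv4 F375363)) (tt N39911 (iv5 D138509)) (tt N43404 F331042) (tt N65278 (iv7 F350070)))
theorem Q72227 : ∀ i, i < 72227 → P i := stepQ 72226 Q72226 (allL N72226 (tt N74702 (iv1 F353389)) (tt N66894 F353391) (tt N40476 F327720) (tt N41503 F331034) (tt N39913 F221694) (tt N41494 F331035) (tt N39911 (iv6 D138510)) (tt N40472 F327721))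
theorem Q72228 : ∀ i, i < 72228 → P i := stepQ 72227 Q72227 (allL N72227 (tt N54139 (iv1 F360592)) (tt N63106 F350099) (tt N64731 (iv2 F312134)) (tt N75861 (iv3 F360596)) (tt N54153 F360593) (tt N66563 (iv5 F339622)) (tt N39912 (iv6 D138515)) (tt N82558 (iv7 F360594)))
theorem Q72229 : ∀ i, i < 72229 → P i := stepQ 72228 Q72228 (allL N72228 (tt N80352 F350103) (tt N74014 (iv0 F333345)) (tt N40477 F327722) (tt N107167 (iv3 F457292)) (tt N73764 (iv4 F350102)) (tt N39913 (iv5 D138519)) (tt N66563 F350100) (tt N40473 F327723))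
theorem Q72230 : ∀ i, i < 72230 → P i := stepQ 72229 Q72229 (allL N72229 (tt N70218 (iv1 F221713)) (tt N54222 (iv0 F352689)) (tt N70217 (iv2 F385739)) (tt N39914 (iv3 D138527)) (tt N54208 (iv4 F368247)) (tt N94532 F405198) (tt N107169 D210382) (tt N70216 (iv7 F245780)))
theorem Q72231 : ∀ i, i < 72231 → P i := stepQ 72230 Q72230 (allL N72230 (tt N65282 (iv1 F366680)) (tt N65218 (iv0 F314707)) (tt N65278 (iv2 F350068)) (tt N94532 F405196) (tt N95265 (iv4 F407633)) (tt N39914 (iv5 D138528)) (tt N95056 (iv6 F406863)) (tt N65279 (iv7 F350067)))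
theorem Q72232 : ∀ i, i < 72232 → P i := stepQ 72231 Q72231 (allL N72231 (tt N82156 (iv1 F364154)) (tt N96084 F410966) (tt N78085 F245757) (tt N107169 (iv3 F457304)) (tt N39915 F221714) (tt N96082 (iv5 F410959)) (tt N39914 (iv6 D138529)) (tt N96081 (iv7 F410955)))
theorem Q72233 : ∀ i, i < 72233 → P i := stepQ 72232 Q72232 (allL N72232 (tt N62391 (iv1 F315940)) (tt N62379 (iv0 F340692)) (tt N62389 (iv2 F341069)) (tt N82576 F312813) (tt N87203 (iv4 F378749)) (tt N39915 (iv5 D138534)) (tt N41660 F312814) (tt N47716 F341063))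
theorem Q72234 : ∀ i, i < 72234 → P i := stepQ 72233 Q72233 (allL N72233 (tt N41432 F341074) (tt N78086 F245763) (tt N40474 (iv2 F328208)) (tt N82232 F348046) (tt N96081 (iv4 F410953)) (tt N47716 (iv5 F341029)) (tt N40458 F330032) (tt N39915 (iv7 D138535)))
theorem Q72235 : ∀ i, i < 72235 → P i := stepQ 72234 Q72234 (allL N72234 (tt N57483 F348375) (tt N80289 (iv0 F344471)) (tt N94464 (iv2 F404570)) (tt N39916 (iv3 D138543)) (tt N47286 F310572) (tt N39974 F222373) (tt N100062 F427398) (tt N78088 (iv7 F245864)))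
theorem Q72236 : ∀ i, i < 72236 → P i := stepQ 72235 Q72235 (allL N72235 (tt N77060 (iv1 F339628)) (tt N57419 F339627) (tt N78089 F245863) (tt N100062 F427397) (tt N53473 (iv4 F339632)) (tt N40463 F322932) (tt N39916 (iv6 D138546)) (tt N94472 (iv7 F404618)))
theorem Q72237 : ∀ i, i < 72237 → P i := stepQ 72236 Q72236 (allL N72236 (tt N74312 (iv1 F357110)) (tt N81688 F341118) (tt N107170 D210383) (tt N39918 (iv3 D138561)) (tt N74165 F324368) (tt N104237 (iv5 F444865)) (tt N99346 (iv6 F424201)) (tt N40434 F324369))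
theorem Q72238 : ∀ i, i < 72238 → P i := stepQ 72237 Q72237 (allL N72237 (tt N82546 (iv1 F341165)) (tt N82138 F341166) (tt N82340 (iv2 F363378)) (tt N107171 D210384) (tt N39918 (iv4 D138562)) (tt N96543 F412923) (tt N99355 (iv6 F424246)) (tt N40439 F324370))
theorem Q72239 : ∀ i, i < 72239 → P i := stepQ 72238 Q72238 (allL N72238 (tt N44528 F314686) (tt N44907 F312836) (tt N44905 F312837) (tt N104237 (iv3 F444863)) (tt N46241 F312838) (tt N39918 (iv5 D138563)) (tt N46629 F312839) (tt N40442 F324367))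
theorem Q72240 : ∀ i, i < 72240 → P i := stepQ 72239 Q72239 (allL N72239 (tt N70557 (iv1 F341146)) (tt N65298 F341145) (tt N73427 F341144) (tt N44484 F221754) (tt N39919 (iv4 D138585)) (tt N45588 F332344) (tt N66762 (iv6 F318611)) (tt N40243 F221755))
theorem Q72241 : ∀ i, i < 72241 → P i := stepQ 72240 Q72240 (allL N72240 (tt N40207 (iv1 F221773)) (tt N40206 F221772) (tt N39921 (iv2 D138600)) (tt N78132 (iv3 F246200)) (tt N106217 (iv4 F453610)) (tt N107172 D210385) (tt N95519 F408457) (tt N40203 F221771))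
theorem Q72242 : ∀ i, i < 72242 → P i := stepQ 72241 Q72241 (allL N72241 (tt N73948 F226264) (tt N76165 (iv0 F353445)) (tt N107172 (iv2 F457320)) (tt N39922 F221774) (tt N40034 F313670) (tt N39921 (iv5 D138601)) (tt N63850 F313671) (tt N40208 F221775))
theorem Q72243 : ∀ i, i < 72243 → P i := stepQ 72242 Q72242 (allL N72242 (tt N78166 (iv1 F246448)) (tt N39923 (iv0 D138603)) (tt N78165 (iv2 F360934)) (tt N60303 F221776) (tt N107173 D210386) (tt N64543 F352977) (tt N107174 D210387) (tt N78164 F360939))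
theorem Q72244 : ∀ i, i < 72244 → P i := stepQ 72243 Q72243 (allL N72243 (tt N39923 (iv1 D138604)) (tt N78166 F246450) (tt N78164 F360938) (tt N78209 (iv3 F247118)) (tt N70869 (iv4 F221777)) (tt N64544 F352974) (tt N107175 D210388) (tt N78165 (iv7 F360937)))
theorem Q72245 : ∀ i, i < 72245 → P i := stepQ 72244 Q72244 (allL N72244 (tt N78165 (iv1 F246449)) (tt N78164 F246443) (tt N39923 (iv2 D138605)) (tt N71700 (iv3 F338245)) (tt N98998 (iv4 F422985)) (tt N99835 (iv5 F426452)) (tt N71695 (iv6 F353373)) (tt N78166 (iv7 F246447)))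
theorem Q72246 : ∀ i, i < 72246 → P i := stepQ 72245 Q72245 (allL N72245 (tt N107058 (iv1 F456809)) (tt N101619 (iv0 F433584)) (tt N71695 F353372) (tt N39924 F221778) (tt N98999 (iv4 F422990)) (tt N71694 (iv5 F353370)) (tt N39923 (iv6 D138606)) (tt N40528 F221779))
theorem Q72247 : ∀ i, i < 72247 → P i := stepQ 72246 Q72246 (allL N72246 (tt N71701 (iv1 F360377)) (tt N71383 (iv0 F360369)) (tt N70949 (iv2 F338270)) (tt N71694 (iv3 F353369)) (tt N99051 (iv4 F423149)) (tt N39924 (iv5 D138607)) (tt N100946 (iv6 F431069)) (tt N40529 F221780))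
theorem Q72248 : ∀ i, i < 72248 → P i := stepQ 72247 Q72247 (allL N72247 (tt N60298 F222100) (tt N60303 (iv0 F385123)) (tt N107176 D210389) (tt N39925 (iv3 D138614)) (tt N78190 (iv4 F246812)) (tt N107123 (iv5 F457081)) (tt N40533 F322121) (tt N78169 (iv7 F246469)))
theorem Q72249 : ∀ i, i < 72249 → P i := stepQ 72248 Q72248 (allL N72248 (tt N72163 (iv1 F246479)) (tt N65292 (iv0 F315852)) (tt N39927 F221784) (tt N49820 F361773) (tt N63034 F356808) (tt N39926 (iv5 D138616)) (tt N63033 (iv6 F356811)) (tt N49812 (iv7 F337120)))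
theorem Q72250 : ∀ i, i < 72250 → P i := stepQ 72249 Q72249 (allL N72249 (tt N99514 F424944) (tt N75674 (iv0 F348386)) (tt N39928 F221787) (tt N86234 (iv3 F375498)) (tt N39945 F221788) (tt N83313 (iv5 F341093)) (tt N39926 (iv6 D138617)) (tt N77688 (iv7 F353415)))
theorem Q72251 : ∀ i, i < 72251 → P i := stepQ 72250 Q72250 (allL N72250 (tt N39927 (iv1 D138619)) (tt N49812 (iv0 F337115)) (tt N65292 (iv2 F364178)) (tt N107177 D210390) (tt N74846 F334941) (tt N44331 F221789) (tt N105079 F448688) (tt N72163 F364179))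
theorem Q72252 : ∀ i, i < 72252 → P i := stepQ 72251 Q72251 (allL N72251 (tt N42666 F329256) (tt N107178 D210391) (tt N63034 (iv2 F356810)) (tt N62831 F329257) (tt N39927 (iv4 D138620)) (tt N77547 (iv5 F334937)) (tt N63029 (iv6 F334944)) (tt N43923 F329258))
theorem Q72253 : ∀ i, i < 72253 → P i := stepQ 72252 Q72252 (allL N72252 (tt N107179 D210392) (tt N73900 (iv0 F356849)) (tt N63033 F356837) (tt N39930 F221790) (tt N63029 (iv4 F356841)) (tt N90803 (iv5 F390911)) (tt N39927 (iv6 D138621)) (tt N63036 (iv7 F356844)))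
theorem Q72254 : ∀ i, i < 72254 → P i := stepQ 72253 Q72253 (allL N72253 (tt N77688 (iv1 F360546)) (tt N39928 (iv0 D138622)) (tt N99514 (iv2 F424941)) (tt N107180 D210393) (tt N63076 F360543) (tt N107181 D210394) (tt N80395 (iv6 F360544)) (tt N75674 (iv7 F360545)))
theorem Q72255 : ∀ i, i < 72255 → P i := stepQ 72254 Q72254 (allL N72254 (tt N39928 (iv1 D138623)) (tt N77688 (iv0 F353413)) (tt N75674 F334431) (tt N107182 D210395) (tt N74871 (iv4 F334430)) (tt N107183 D210396) (tt N80620 (iv6 F334428)) (tt N99514 (iv7 F424943)))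
theorem Q72256 : ∀ i, i < 72256 → P i := stepQ 72255 Q72255 (allL N72255 (tt N72573 F334429) (tt N83315 F386220) (tt N83313 F363382) (tt N39933 F221791) (tt N107184 D210397) (tt N39928 (iv5 D138624)) (tt N90803 F390915) (tt N83314 (iv7 F363383)))
theorem Q72257 : ∀ i, i < 72257 → P i := stepQ 72256 Q72256 (allL N72256 (tt N62974 F345977) (tt N44876 F345978) (tt N100651 (iv2 F429852)) (tt N39929 (iv3 D138628)) (tt N87466 (iv4 F379428)) (tt N44330 F221798) (tt N64595 F361436) (tt N64430 (iv7 F329493)))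
theorem Q72258 : ∀ i, i < 72258 → P i := stepQ 72257 Q72257 (allL N72257 (tt N49776 (iv1 F363033)) (tt N39930 (iv0 D138630)) (tt N96195 F411442) (tt N107185 D210398) (tt N69901 F364408) (tt N81904 (iv5 F364406)) (tt N104328 F445277) (tt N96196 (iv7 F411445)))
theorem Q72259 : ∀ i, i < 72259 → P i := stepQ 72258 Q72258 (allL N72258 (tt N39930 (iv1 D138631)) (tt N49776 (iv0 F363017)) (tt N96196 (iv2 F411447)) (tt N62918 F357154) (tt N63955 (iv4 F357153)) (tt N81905 F363016) (tt N62917 (iv6 F343230)) (tt N96195 F411443))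
theorem Q72260 : ∀ i, i < 72260 → P i := stepQ 72259 Q72259 (allL N72259 (tt N64793 F343231) (tt N64784 (iv0 F341436)) (tt N96197 (iv2 F411449)) (tt N90803 F390914) (tt N99010 F423023) (tt N39930 (iv5 D138632)) (tt N39933 F221802) (tt N90862 (iv7 F391073)))
theorem Q72261 : ∀ i, i < 72261 → P i := stepQ 72260 Q72260 (allL N72260 (tt N96196 (iv1 F411444)) (tt N96195 F411440) (tt N49776 F363019) (tt N63036 F356846) (tt N95997 (iv4 F410558)) (tt N90862 (iv5 F391071)) (tt N46757 F329908) (tt N39930 (iv7 D138633)))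
theorem Q72262 : ∀ i, i < 72262 → P i := stepQ 72261 Q72261 (allL N72261 (tt N107186 D210399) (tt N107175 (iv0 F457344)) (tt N107187 D210400) (tt N39931 (iv3 D138634)) (tt N105951 (iv4 F452473)) (tt N107188 D210401) (tt N54770 (iv6 F362227)) (tt N96200 (iv7 F411463)))
theorem Q72263 : ∀ i, i < 72263 → P i := stepQ 72262 Q72262 (allL N72262 (tt N95004 (iv1 F406619)) (tt N95002 (iv0 F406606)) (tt N96199 (iv2 F411457)) (tt N107188 (iv3 F457404)) (tt N107189 D210402) (tt N39931 (iv5 D138635)) (tt N107190 D210403) (tt N81899 (iv7 F343246)))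
theorem Q72264 : ∀ i, i < 72264 → P i := stepQ 72263 Q72263 (allL N72263 (tt N95919 F410260) (tt N107191 D210404) (tt N107192 D210405) (tt N39932 (iv3 D138636)) (tt N93413 (iv4 F400664)) (tt N107193 D210406) (tt N76075 (iv6 F364786)) (tt N96198 (iv7 F411456)))
theorem Q72265 : ∀ i, i < 72265 → P i := stepQ 72264 Q72264 (allL N72264 (tt N95002 (iv1 F406605)) (tt N95004 (iv0 F406618)) (tt N81899 F343235) (tt N107193 (iv3 F457414)) (tt N107194 D210407) (tt N39932 (iv5 D138637)) (tt N64526 (iv6 F343233)) (tt N96199 (iv7 F411458)))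
theorem Q72266 : ∀ i, i < 72266 → P i := stepQ 72265 Q72265 (allL N72265 (tt N39933 (iv1 D138639)) (tt N72544 F222647) (tt N72546 (iv2 F222648)) (tt N107195 D210408) (tt N107196 D210409) (tt N62273 F221804) (tt N107197 D210410) (tt N62272 F221803))
theorem Q72267 : ∀ i, i < 72267 → P i := stepQ 72266 Q72266 (allL N72266 (tt N72481 (iv1 F222595)) (tt N107198 D210411) (tt N96201 (iv2 F411464)) (tt N107199 D210412) (tt N39933 (iv4 D138640)) (tt N99008 F423021) (tt N99010 (iv6 F423022)) (tt N107200 D210413))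
theorem Q72268 : ∀ i, i < 72268 → P i := stepQ 72267 Q72267 (allL N72267 (tt N72546 (iv1 F222651)) (tt N62272 (iv0 F221806)) (tt N72544 F222645) (tt N83314 F363384) (tt N107200 (iv4 F457435)) (tt N39934 F221805) (tt N47846 F343240) (tt N39933 (iv7 D138641)))
theorem Q72269 : ∀ i, i < 72269 → P i := stepQ 72268 Q72268 (allL N72268 (tt N91652 (iv1 F411483)) (tt N96218 F411558) (tt N96223 F411575) (tt N39935 (iv3 D138642)) (tt N97126 (iv4 F415570)) (tt N107201 D210414) (tt N99504 (iv6 F424897)) (tt N96204 (iv7 F411479)))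
theorem Q72270 : ∀ i, i < 72270 → P i := stepQ 72269 Q72269 (allL N72269 (tt N77163 F349421) (tt N95006 (iv0 F406624)) (tt N96203 (iv2 F411472)) (tt N107201 (iv3 F457440)) (tt N107202 D210415) (tt N39935 (iv5 D138643)) (tt N101457 (iv6 F433032)) (tt N96205 (iv7 F411486)))
theorem Q72271 : ∀ i, i < 72271 → P i := stepQ 72270 Q72270 (allL N72270 (tt N94722 F405673) (tt N59522 (iv0 F223581)) (tt N95130 (iv2 F407161)) (tt N107203 D210416) (tt N39936 (iv4 D138644)) (tt N96446 (iv5 F412554)) (tt N72950 (iv6 F336736)) (tt N59671 F221807))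
theorem Q72272 : ∀ i, i < 72272 → P i := stepQ 72271 Q72271 (allL N72271 (tt N57506 F221810) (tt N57577 (iv0 F221811)) (tt N57575 F221808) (tt N107204 D210417) (tt N39937 (iv4 D138645)) (tt N107205 D210418) (tt N107206 D210419) (tt N57574 F221809))
theorem Q72273 : ∀ i, i < 72273 → P i := stepQ 72272 Q72272 (allL N72272 (tt N93699 (iv1 F401603)) (tt N78050 (iv0 F245606)) (tt N77918 (iv2 F245301)) (tt N39939 F221812) (tt N107206 (iv4 F457452)) (tt N57983 F221813) (tt N39937 (iv6 D138646)) (tt N93588 (iv7 F401219)))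
theorem Q72274 : ∀ i, i < 72274 → P i := stepQ 72273 Q72273 (allL N72273 (tt N59306 F425015) (tt N107207 D210420) (tt N107208 D210421) (tt N39938 (iv3 D138647)) (tt N107204 (iv4 F457446)) (tt N101448 (iv5 F432990)) (tt N100849 (iv6 F430767)) (tt N96202 (iv7 F411471)))
theorem Q72275 : ∀ i, i < 72275 → P i := stepQ 72274 Q72274 (allL N72274 (tt N82166 (iv1 F330625)) (tt N40622 F332626) (tt N78177 (iv2 F246531)) (tt N41811 F330626) (tt N40828 F330627) (tt N39940 (iv5 D138653)) (tt N40827 F330628) (tt N78175 (iv7 F246520)))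
theorem Q72276 : ∀ i, i < 72276 → P i := stepQ 72275 Q72275 (allL N72275 (tt N40622 F364010) (tt N82166 (iv0 F330623)) (tt N78175 (iv2 F246519)) (tt N81291 (iv3 F361422)) (tt N107124 (iv4 F457086)) (tt N39943 (iv5 D138661)) (tt N75982 F348304) (tt N78177 (iv7 F246532)))
theorem Q72277 : ∀ i, i < 72277 → P i := stepQ 72276 Q72276 (allL N72276 (tt N62308 (iv1 F341090)) (tt N72776 F341091) (tt N39949 F221827) (tt N73143 (iv3 F324397)) (tt N75536 F335048) (tt N39945 (iv5 D138671)) (tt N75622 F335049) (tt N72774 (iv7 F359203)))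
theorem Q72278 : ∀ i, i < 72278 → P i := stepQ 72277 Q72277 (allL N72277 (tt N99799 (iv1 F426277)) (tt N101800 F434399) (tt N99550 (iv2 F425099)) (tt N107209 D210422) (tt N39947 (iv4 D138688)) (tt N107210 D210423) (tt N73877 F361416) (tt N100122 (iv7 F427562)))
theorem Q72279 : ∀ i, i < 72279 → P i := stepQ 72278 Q72278 (allL N72278 (tt N77998 (iv1 F393564)) (tt N76687 F393563) (tt N91540 (iv2 F393557)) (tt N39948 (iv3 D138692)) (tt N99963 (iv4 F426977)) (tt N91538 F393552) (tt N107211 D210424) (tt N94455 (iv7 F404538)))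
theorem Q72280 : ∀ i, i < 72280 → P i := stepQ 72279 Q72279 (allL N72279 (tt N101800 (iv1 F434400)) (tt N99799 (iv0 F426276)) (tt N100122 (iv2 F427561)) (tt N107212 D210425) (tt N39948 (iv4 D138693)) (tt N107213 D210426) (tt N107214 D210427) (tt N99550 F425102))
theorem Q72281 : ∀ i, i < 72281 → P i := stepQ 72280 Q72280 (allL N72280 (tt N58619 F348044) (tt N96906 F414548) (tt N96905 F414539) (tt N107211 (iv3 F457469)) (tt N107214 (iv4 F457479)) (tt N76152 (iv5 F348043)) (tt N39948 (iv6 D138695)) (tt N80394 F348045))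
theorem Q72282 : ∀ i, i < 72282 → P i := stepQ 72281 Q72281 (allL N72281 (tt N39949 (iv1 D138697)) (tt N72774 (iv0 F359197)) (tt N72776 (iv2 F359204)) (tt N99737 (iv3 F425984)) (tt N99797 (iv4 F426261)) (tt N62309 (iv5 F332417)) (tt N94168 (iv6 F403509)) (tt N62308 F359205))
theorem Q72283 : ∀ i, i < 72283 → P i := stepQ 72282 Q72282 (allL N72282 (tt N63071 F339592) (tt N74869 F334433) (tt N75536 F339595) (tt N47474 F339593) (tt N39949 (iv4 D138698)) (tt N85984 (iv5 F374746)) (tt N50749 (iv6 F339594)) (tt N63016 F339596))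
theorem Q72284 : ∀ i, i < 72284 → P i := stepQ 72283 Q72283 (allL N72283 (tt N94360 F404129) (tt N72352 (iv0 F363423)) (tt N94358 F404123) (tt N57417 F221862) (tt N39950 (iv4 D138712)) (tt N107215 D210428) (tt N40760 F221863) (tt N78160 (iv7 F246391)))
theorem Q72285 : ∀ i, i < 72285 → P i := stepQ 72284 Q72284 (allL N72284 (tt N78001 (iv1 F426976)) (tt N77994 (iv0 F366573)) (tt N76820 F348376) (tt N39954 (iv3 D138729)) (tt N39956 F221880) (tt N83541 (iv5 F363546)) (tt N40764 F221881) (tt N76255 (iv7 F320479)))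
theorem Q72286 : ∀ i, i < 72286 → P i := stepQ 72285 Q72285 (allL N72285 (tt N40002 F322178) (tt N40019 F322179) (tt N39957 (iv2 D138741)) (tt N62985 (iv3 F320477)) (tt N106271 (iv4 F453826)) (tt N74415 F334954) (tt N99729 (iv6 F425945)) (tt N40017 (iv7 F320553)))
theorem Q72287 : ∀ i, i < 72287 → P i := stepQ 72286 Q72286 (allL N72286 (tt N107216 D210429) (tt N41012 F348233) (tt N99729 (iv2 F425943)) (tt N39959 F221888) (tt N106273 (iv4 F453839)) (tt N41563 (iv5 F221890)) (tt N39957 (iv6 D138743)) (tt N40763 F221889))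
theorem Q72288 : ∀ i, i < 72288 → P i := stepQ 72287 Q72287 (allL N72287 (tt N105435 F450258) (tt N105442 F450287) (tt N89767 (iv2 F387483)) (tt N39960 (iv3 D138746)) (tt N94191 F403638) (tt N89766 F387482) (tt N40685 F325039) (tt N65268 (iv7 F316983)))
theorem Q72289 : ∀ i, i < 72289 → P i := stepQ 72288 Q72288 (allL N72288 (tt N89769 (iv1 F387491)) (tt N81984 F345263) (tt N89771 (iv2 F387502)) (tt N39961 (iv3 D138749)) (tt N78181 (iv4 F246676)) (tt N89051 (iv5 F384972)) (tt N107217 D210430) (tt N65262 (iv7 F316131)))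
theorem Q72290 : ∀ i, i < 72290 → P i := stepQ 72289 Q72289 (allL N72289 (tt N41067 F338958) (tt N78320 F344009) (tt N65270 (iv2 F316988)) (tt N107217 (iv3 F457487)) (tt N47748 F316710) (tt N78360 (iv5 F338938)) (tt N39961 (iv6 D138751)) (tt N40687 F338943))
theorem Q72291 : ∀ i, i < 72291 → P i := stepQ 72290 Q72290 (allL N72290 (tt N65233 (iv1 F312829)) (tt N65257 (iv0 F312819)) (tt N39963 F221892) (tt N94601 (iv3 F405138)) (tt N101422 (iv4 F432933)) (tt N39962 (iv5 D138752)) (tt N101420 F432928) (tt N78135 (iv7 F246243)))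
theorem Q72292 : ∀ i, i < 72292 → P i := stepQ 72291 Q72291 (allL N72291 (tt N78135 (iv1 F246244)) (tt N39963 (iv0 D138754)) (tt N65233 (iv2 F312830)) (tt N90440 F389654) (tt N107218 D210431) (tt N44302 F245795) (tt N91576 F393685) (tt N65257 (iv7 F312822)))
theorem Q72293 : ∀ i, i < 72293 → P i := stepQ 72292 Q72292 (allL N72292 (tt N39963 (iv1 D138755)) (tt N78135 F246245) (tt N65257 (iv2 F312821)) (tt N89726 (iv3 F387331)) (tt N101467 (iv4 F433042)) (tt N44303 F245792) (tt N76975 (iv6 F345112)) (tt N65233 (iv7 F312831)))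
theorem Q72294 : ∀ i, i < 72294 → P i := stepQ 72293 Q72293 (allL N72293 (tt N101253 F432410) (tt N76207 (iv0 F402502)) (tt N101422 (iv2 F432932)) (tt N105399 (iv3 F450064)) (tt N39963 (iv4 D138756)) (tt N101258 (iv5 F432430)) (tt N101418 F432912) (tt N78137 (iv7 F246249)))
theorem Q72295 : ∀ i, i < 72295 → P i := stepQ 72294 Q72294 (allL N72294 (tt N101417 F432908) (tt N101421 (iv0 F432931)) (tt N101420 (iv2 F432927)) (tt N39966 F221895) (tt N101418 (iv4 F432911)) (tt N100121 (iv5 F427559)) (tt N39963 (iv6 D138757)) (tt N100837 (iv7 F430708)))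
theorem Q72296 : ∀ i, i < 72296 → P i := stepQ 72295 Q72295 (allL N72295 (tt N44670 F357949) (tt N96712 (iv0 F413574)) (tt N95169 (iv2 F407288)) (tt N39964 (iv3 D138762)) (tt N107219 D210432) (tt N44299 F221899) (tt N94733 (iv6 F405717)) (tt N72204 F221900))
theorem Q72297 : ∀ i, i < 72297 → P i := stepQ 72296 Q72296 (allL N72296 (tt N95219 (iv1 F407466)) (tt N95206 (iv0 F407410)) (tt N72212 F221901) (tt N94733 (iv3 F405722)) (tt N69387 F221902) (tt N99484 (iv5 F424797)) (tt N39964 (iv6 D138763)) (tt N95170 (iv7 F407296)))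
theorem Q72298 : ∀ i, i < 72298 → P i := stepQ 72297 Q72297 (allL N72297 (tt N105441 (iv1 F450281)) (tt N105436 (iv0 F450264)) (tt N93562 (iv2 F401139)) (tt N39965 (iv3 D138764)) (tt N107220 D210433) (tt N44301 F221903) (tt N65923 (iv6 F364952)) (tt N72211 F221904))
theorem Q72299 : ∀ i, i < 72299 → P i := stepQ 72298 Q72298 (allL N72298 (tt N107221 D210434) (tt N107222 D210435) (tt N72206 F221905) (tt N65923 F364950) (tt N70249 F221906) (tt N65920 (iv5 F331814)) (tt N39965 (iv6 D138765)) (tt N65919 F364951))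
theorem Q72300 : ∀ i, i < 72300 → P i := stepQ 72299 Q72299 (allL N72299 (tt N81990 F409308) (tt N105384 (iv0 F449995)) (tt N95001 (iv2 F406601)) (tt N39967 (iv3 D138770)) (tt N76811 (iv4 F366401)) (tt N59411 F345428) (tt N59412 (iv6 F345429)) (tt N94604 (iv7 F405157)))
theorem Q72301 : ∀ i, i < 72301 → P i := stepQ 72300 Q72300 (allL N72300 (tt N48265 F344451) (tt N70027 F358821) (tt N64615 F344452) (tt N59412 F345430) (tt N94310 (iv4 F403995)) (tt N59410 F344453) (tt N39967 (iv6 D138771)) (tt N64616 F344454))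
theorem Q72302 : ∀ i, i < 72302 → P i := stepQ 72301 Q72301 (allL N72301 (tt N85269 F375089) (tt N91362 (iv0 F392872)) (tt N91366 F392884) (tt N39968 (iv3 D138772)) (tt N86090 (iv4 F375087)) (tt N99334 (iv5 F424143)) (tt N93272 (iv6 F400238)) (tt N91367 (iv7 F392886)))
theorem Q72303 : ∀ i, i < 72303 → P i := stepQ 72302 Q72302 (allL N72302 (tt N59394 F337444) (tt N39969 (iv0 D138773)) (tt N59643 (iv2 F337428)) (tt N107223 D210436) (tt N72453 (iv4 F345078)) (tt N56739 F221908) (tt N107223 (iv6 F457527)) (tt N59642 (iv7 F337426)))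
theorem Q72304 : ∀ i, i < 72304 → P i := stepQ 72303 Q72303 (allL N72303 (tt N39969 (iv1 D138774)) (tt N59394 F337446) (tt N59642 (iv2 F337424)) (tt N107224 D210437) (tt N52915 (iv4 F345076)) (tt N41178 F221912) (tt N104130 (iv6 F444335)) (tt N59643 (iv7 F337430)))
theorem Q72305 : ∀ i, i < 72305 → P i := stepQ 72304 Q72304 (allL N72304 (tt N98640 (iv1 F421697)) (tt N57770 (iv0 F364767)) (tt N107225 D210438) (tt N39971 (iv3 D138777)) (tt N93429 (iv4 F400715)) (tt N61159 F364768) (tt N107226 D210439) (tt N94606 (iv7 F405167)))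
theorem Q72306 : ∀ i, i < 72306 → P i := stepQ 72305 Q72305 (allL N72305 (tt N94807 (iv1 F406033)) (tt N94666 (iv0 F405446)) (tt N94605 (iv2 F405158)) (tt N61159 (iv3 F364769)) (tt N53468 F345059) (tt N39971 (iv5 D138778)) (tt N59517 F360052) (tt N94607 (iv7 F405172)))
theorem Q72307 : ∀ i, i < 72307 → P i := stepQ 72306 Q72306 (allL N72306 (tt N82011 (iv1 F344444)) (tt N82010 F344445) (tt N64609 F344437) (tt N107226 (iv3 F457539)) (tt N39972 F221917) (tt N64444 F344443) (tt N39971 (iv6 D138779)) (tt N64612 (iv7 F344442)))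
theorem Q72308 : ∀ i, i < 72308 → P i := stepQ 72307 Q72307 (allL N72307 (tt N43894 F359342) (tt N42200 F359343) (tt N43893 F359344) (tt N39973 (iv3 D138780)) (tt N91375 (iv4 F392899)) (tt N107227 D210440) (tt N93276 (iv6 F400259)) (tt N43892 F359345))
theorem Q72309 : ∀ i, i < 72309 → P i := stepQ 72308 Q72308 (allL N72308 (tt N94666 (iv1 F405447)) (tt N94807 F406032) (tt N94607 (iv2 F405170)) (tt N107227 (iv3 F457543)) (tt N53469 (iv4 F355607)) (tt N39973 (iv5 D138781)) (tt N101053 (iv6 F431467)) (tt N94605 (iv7 F405160)))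
theorem Q72310 : ∀ i, i < 72310 → P i := stepQ 72309 Q72309 (allL N72309 (tt N80349 F339105) (tt N66567 (iv0 F333285)) (tt N48509 F312148) (tt N39976 F221989) (tt N72358 (iv4 F222282)) (tt N47675 (iv5 F339106)) (tt N39975 (iv6 D138809)) (tt N40731 F322933))
theorem Q72311 : ∀ i, i < 72311 → P i := stepQ 72310 Q72310 (allL N72310 (tt N66574 F338959) (tt N77450 (iv0 F345682)) (tt N78154 (iv2 F246309)) (tt N47675 F345679) (tt N76139 F345680) (tt N39976 (iv5 D138816)) (tt N75797 (iv6 F345677)) (tt N40735 F322935))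
theorem Q72312 : ∀ i, i < 72312 → P i := stepQ 72311 Q72311 (allL N72311 (tt N59260 F222060) (tt N59256 (iv0 F246470)) (tt N91418 (iv2 F393050)) (tt N39977 (iv3 D138897)) (tt N78169 (iv4 F246468)) (tt N106706 (iv5 F455345)) (tt N90570 (iv6 F390137)) (tt N78190 (iv7 F246813)))
theorem Q72313 : ∀ i, i < 72313 → P i := stepQ 72312 Q72312 (allL N72312 (tt N82175 F362439) (tt N82174 F362440) (tt N65330 (iv2 F316046)) (tt N106706 (iv3 F455344)) (tt N107228 D210441) (tt N39977 (iv5 D138898)) (tt N106704 (iv6 F455342)) (tt N78191 (iv7 F246816)))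
theorem Q72314 : ∀ i, i < 72314 → P i := stepQ 72313 Q72313 (allL N72313 (tt N95370 F408013) (tt N99570 F425220) (tt N65331 (iv2 F316047)) (tt N90570 F390135) (tt N39979 F222061) (tt N106866 (iv5 F456067)) (tt N39977 (iv6 D138899)) (tt N40773 F322122))
theorem Q72315 : ∀ i, i < 72315 → P i := stepQ 72314 Q72314 (allL N72314 (tt N63220 F311895) (tt N80291 F311896) (tt N45524 F311897) (tt N46097 F311898) (tt N39978 (iv4 D138903)) (tt N77589 F311899) (tt N46088 F311900) (tt N76726 F311901))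
theorem Q72316 : ∀ i, i < 72316 → P i := stepQ 72315 Q72315 (allL N72315 (tt N78196 (iv1 F246896)) (tt N78195 F246892) (tt N39984 F222108) (tt N83586 (iv3 F348759)) (tt N84667 (iv4 F370122)) (tt N39980 (iv5 D138923)) (tt N84666 F370119) (tt N76566 (iv7 F319046)))
theorem Q72317 : ∀ i, i < 72317 → P i := stepQ 72316 Q72316 (allL N72316 (tt N76250 (iv1 F366533)) (tt N76249 F366531) (tt N39985 F222109) (tt N91484 (iv3 F393323)) (tt N39981 F222110) (tt N107229 D210442) (tt N39980 (iv6 D138924)) (tt N63494 F366530))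
theorem Q72318 : ∀ i, i < 72318 → P i := stepQ 72317 Q72317 (allL N72317 (tt N78259 (iv1 F247444)) (tt N57638 (iv0 F222126)) (tt N74174 (iv2 F340018)) (tt N90745 F390714) (tt N107230 D210443) (tt N39982 (iv5 D138932)) (tt N74173 F340028) (tt N78193 (iv7 F246880)))
theorem Q72319 : ∀ i, i < 72319 → P i := stepQ 72318 Q72318 (allL N72318 (tt N95340 F407920) (tt N41045 F346678) (tt N78194 (iv2 F246889)) (tt N54356 (iv3 F346676)) (tt N82582 F346677) (tt N107231 D210444) (tt N39982 (iv6 D138933)) (tt N40792 F359925))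
theorem Q72320 : ∀ i, i < 72320 → P i := stepQ 72319 Q72319 (allL N72319 (tt N70228 F222128) (tt N70233 (iv0 F343133)) (tt N97333 (iv2 F416391)) (tt N39983 (iv3 D138934)) (tt N65274 (iv4 F314696)) (tt N74178 (iv5 F340015)) (tt N40793 F324395) (tt N74177 (iv7 F340000)))
theorem Q72321 : ∀ i, i < 72321 → P i := stepQ 72320 Q72320 (allL N72320 (tt N57638 (iv1 F222428)) (tt N78259 F247445) (tt N78193 (iv2 F246879)) (tt N74178 F340016) (tt N95632 (iv4 F408956)) (tt N39983 (iv5 D138935)) (tt N107232 D210445) (tt N74174 (iv7 F340020)))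
theorem Q72322 : ∀ i, i < 72322 → P i := stepQ 72321 Q72321 (allL N72321 (tt N76566 (iv1 F319044)) (tt N39984 (iv0 D138937)) (tt N78196 F246898) (tt N86878 (iv3 F377555)) (tt N107233 D210446) (tt N44467 F245801) (tt N95298 F407775) (tt N78195 F246895))
theorem Q72323 : ∀ i, i < 72323 → P i := stepQ 72322 Q72322 (allL N72322 (tt N39984 (iv1 D138938)) (tt N76566 (iv0 F319043)) (tt N78195 F246894) (tt N107234 D210447) (tt N107235 D210448) (tt N44468 (iv5 F246567)) (tt N86876 (iv6 F377547)) (tt N78196 (iv7 F246897)))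
theorem Q72324 : ∀ i, i < 72324 → P i := stepQ 72323 Q72323 (allL N72323 (tt N79857 (iv1 F348068)) (tt N82127 (iv0 F358449)) (tt N84667 (iv2 F370120)) (tt N52049 (iv3 F340315)) (tt N39984 (iv4 D138939)) (tt N55525 (iv5 F348069)) (tt N52047 F348070) (tt N78197 (iv7 F246902)))
theorem Q72325 : ∀ i, i < 72325 → P i := stepQ 72324 Q72324 (allL N72324 (tt N88313 (iv1 F382552)) (tt N88312 F382550) (tt N84666 (iv2 F370116)) (tt N57657 F222131) (tt N52047 (iv4 F348071)) (tt N107236 D210449) (tt N39984 (iv6 D138940)) (tt N88310 (iv7 F382545)))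
theorem Q72326 : ∀ i, i < 72326 → P i := stepQ 72325 Q72325 (allL N72325 (tt N63494 (iv1 F366532)) (tt N39985 (iv0 D138941)) (tt N76250 (iv2 F366595)) (tt N54467 (iv3 F366599)) (tt N107237 D210450) (tt N87329 F379052) (tt N54465 F366598) (tt N76249 (iv7 F366597)))
theorem Q72327 : ∀ i, i < 72327 → P i := stepQ 72326 Q72326 (allL N72326 (tt N39985 (iv1 D138942)) (tt N63494 F366534) (tt N76249 F366596) (tt N107238 D210451) (tt N76197 F366535) (tt N107239 D210452) (tt N95344 F407933) (tt N76250 F366594))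
theorem Q72328 : ∀ i, i < 72328 → P i := stepQ 72327 Q72327 (allL N72327 (tt N74158 F366204) (tt N107240 D210453) (tt N107229 (iv2 F457551)) (tt N57660 F222132) (tt N49947 F346829) (tt N39985 (iv5 D138943)) (tt N107236 (iv6 F457583)) (tt N76251 F362037))
theorem Q72329 : ∀ i, i < 72329 → P i := stepQ 72328 Q72328 (allL N72328 (tt N62791 F361406) (tt N65287 (iv0 F361405)) (tt N63076 F361402) (tt N39986 (iv3 D138964)) (tt N99514 (iv4 F424942)) (tt N55809 F361403) (tt N40955 F361404) (tt N74871 F361407))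
theorem Q72330 : ∀ i, i < 72330 → P i := stepQ 72329 Q72329 (allL N72329 (tt N77709 (iv1 F356607)) (tt N82172 (iv0 F363706)) (tt N75675 F363704) (tt N107241 D210454) (tt N39986 (iv4 D138965)) (tt N107242 D210455) (tt N76882 (iv6 F363703)) (tt N76252 F363705))
theorem Q72331 : ∀ i, i < 72331 → P i := stepQ 72330 Q72330 (allL N72330 (tt N82172 (iv1 F366529)) (tt N77709 (iv0 F366525)) (tt N76252 (iv2 F366527)) (tt N91282 (iv3 F392532)) (tt N39987 (iv4 D138970)) (tt N107243 D210456) (tt N95372 (iv6 F408021)) (tt N75675 F366528))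
theorem Q72332 : ∀ i, i < 72332 → P i := stepQ 72331 Q72331 (allL N72331 (tt N78688 (iv1 F346825)) (tt N62770 F346819) (tt N76253 F346820) (tt N42654 F346821) (tt N77563 F346822) (tt N39987 (iv5 D138971)) (tt N62471 F346823) (tt N74986 F346824))
theorem Q72333 : ∀ i, i < 72333 → P i := stepQ 72332 Q72332 (allL N72332 (tt N75044 F356593) (tt N75043 F356600) (tt N54731 F346827) (tt N84352 (iv3 F369028)) (tt N39988 (iv4 D138975)) (tt N54730 (iv5 F346826)) (tt N63046 F355600) (tt N62740 F346828))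
theorem Q72334 : ∀ i, i < 72334 → P i := stepQ 72333 Q72333 (allL N72333 (tt N40018 F222155) (tt N62786 F334964) (tt N62979 (iv2 F334958)) (tt N39990 (iv3 D138986)) (tt N92577 (iv4 F397453)) (tt N58549 F222153) (tt N92576 F397450) (tt N58548 F222154))
theorem Q72335 : ∀ i, i < 72335 → P i := stepQ 72334 Q72334 (allL N72334 (tt N59079 F222165) (tt N91645 F393877) (tt N89770 (iv2 F387496)) (tt N39991 (iv3 D138994)) (tt N65262 (iv4 F316130)) (tt N81221 (iv5 F333018)) (tt N40845 F322257) (tt N78181 (iv7 F246677)))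
theorem Q72336 : ∀ i, i < 72336 → P i := stepQ 72335 Q72335 (allL N72335 (tt N82231 F364619) (tt N101540 (iv0 F433309)) (tt N67449 F222166) (tt N81221 F333019) (tt N67445 F222168) (tt N39991 (iv5 D138995)) (tt N107244 D210457) (tt N67452 F222167))
theorem Q72337 : ∀ i, i < 72337 → P i := stepQ 72336 Q72336 (allL N72336 (tt N82189 (iv1 F361581)) (tt N41005 F347181) (tt N65267 F347180) (tt N39994 F222180) (tt N94458 (iv4 F404550)) (tt N45603 F321155) (tt N39992 (iv6 D139003)) (tt N40853 F322258))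
theorem Q72338 : ∀ i, i < 72338 → P i := stepQ 72337 Q72337 (allL N72337 (tt N101540 F433310) (tt N82231 F364622) (tt N67452 F222181) (tt N78445 F337374) (tt N67446 F222182) (tt N39993 (iv5 D139004)) (tt N81226 (iv6 F333025)) (tt N67449 F222183))
theorem Q72339 : ∀ i, i < 72339 → P i := stepQ 72338 Q72338 (allL N72338 (tt N80351 F347183) (tt N80348 F360014) (tt N47749 F321156) (tt N73082 (iv3 F351100)) (tt N39994 F222184) (tt N73081 F351101) (tt N39993 (iv6 D139005)) (tt N40856 F322259))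
theorem Q72340 : ∀ i, i < 72340 → P i := stepQ 72339 Q72339 (allL N72339 (tt N59495 F358696) (tt N72891 F358699) (tt N77937 (iv2 F245383)) (tt N39996 (iv3 D139017)) (tt N77817 F245054) (tt N58360 (iv5 F358697)) (tt N40863 F322896) (tt N77938 F245366))
theorem Q72341 : ∀ i, i < 72341 → P i := stepQ 72340 Q72340 (allL N72340 (tt N67458 F222198) (tt N57649 F222199) (tt N67454 F222196) (tt N58360 F337396) (tt N104564 (iv4 F446290)) (tt N39996 (iv5 D139018)) (tt N73073 (iv6 F358703)) (tt N67455 F222197))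
theorem Q72342 : ∀ i, i < 72342 → P i := stepQ 72341 Q72341 (allL N72341 (tt N95113 F407103) (tt N92871 F398595) (tt N107245 D210458) (tt N39997 (iv3 D139020)) (tt N71674 (iv4 F338228)) (tt N100747 (iv5 F430280)) (tt N71673 (iv6 F361561)) (tt N78184 (iv7 F246726)))
theorem Q72343 : ∀ i, i < 72343 → P i := stepQ 72342 Q72342 (allL N72342 (tt N57649 F222205) (tt N67458 F222206) (tt N67455 F222203) (tt N100747 F430281) (tt N104563 (iv4 F446285)) (tt N39997 (iv5 D139021)) (tt N94843 (iv6 F406124)) (tt N67454 F222204))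
theorem Q72344 : ∀ i, i < 72344 → P i := stepQ 72343 Q72343 (allL N72343 (tt N77280 F314340) (tt N65169 F314341) (tt N65213 F314342) (tt N65239 F314343) (tt N79491 F314344) (tt N62523 (iv5 F322138)) (tt N39999 (iv6 D139031)) (tt N77279 F314346))
theorem Q72345 : ∀ i, i < 72345 → P i := stepQ 72344 Q72344 (allL N72344 (tt N41014 (iv1 F222229)) (tt N41013 F222230) (tt N40038 F222227) (tt N63863 (iv3 F314268)) (tt N72064 F339050) (tt N40000 (iv5 D139061)) (tt N63860 (iv6 F309941)) (tt N40886 F222228))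
theorem Q72346 : ∀ i, i < 72346 → P i := stepQ 72345 Q72345 (allL N72345 (tt N82579 (iv1 F352847)) (tt N82574 F341570) (tt N40012 F222247) (tt N105577 (iv3 F450816)) (tt N96698 (iv4 F413511)) (tt N40001 (iv5 D139067)) (tt N96697 F413509) (tt N40022 F222248))
theorem Q72347 : ∀ i, i < 72347 → P i := stepQ 72346 Q72346 (allL N72346 (tt N54464 F341572) (tt N107246 D210459) (tt N40013 F222249) (tt N106229 (iv3 F453670)) (tt N40002 F222250) (tt N107247 D210460) (tt N40001 (iv6 D139068)) (tt N63352 (iv7 F363431)))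
theorem Q72348 : ∀ i, i < 72348 → P i := stepQ 72347 Q72347 (allL N72347 (tt N58548 F222254) (tt N62979 F334960) (tt N40018 F222253) (tt N62792 (iv3 F334961)) (tt N41797 F334962) (tt N40002 (iv5 D139072)) (tt N62968 (iv6 F334963)) (tt N62786 F334955))
theorem Q72349 : ∀ i, i < 72349 → P i := stepQ 72348 Q72348 (allL N72348 (tt N40027 F222261) (tt N63325 F313628) (tt N68022 F222260) (tt N48443 F313629) (tt N84144 (iv4 F368313)) (tt N40003 (iv5 D139075)) (tt N76877 (iv6 F346226)) (tt N65266 (iv7 F311685)))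
theorem Q72350 : ∀ i, i < 72350 → P i := stepQ 72349 Q72349 (allL N72349 (tt N75502 (iv1 F357844)) (tt N77011 (iv0 F360664)) (tt N40007 F222263) (tt N65287 (iv3 F334984)) (tt N57609 F222264) (tt N74854 F334983) (tt N40004 (iv6 D139078)) (tt N74853 (iv7 F334985)))
theorem Q72351 : ∀ i, i < 72351 → P i := stepQ 72350 Q72350 (allL N72350 (tt N105958 (iv1 F452510)) (tt N92468 (iv0 F397081)) (tt N96288 (iv2 F411887)) (tt N40005 (iv3 D139079)) (tt N40011 F222265) (tt N60333 F222284) (tt N107248 D210461) (tt N57611 F222266))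
theorem Q72352 : ∀ i, i < 72352 → P i := stepQ 72351 Q72351 (allL N72351 (tt N78081 (iv1 F245704)) (tt N65380 F366615) (tt N57608 F222267) (tt N60333 (iv3 F222285)) (tt N105435 (iv4 F450255)) (tt N40005 (iv5 D139080)) (tt N107249 D210462) (tt N57612 F222268))
theorem Q72353 : ∀ i, i < 72353 → P i := stepQ 72352 Q72352 (allL N72352 (tt N72283 F363423) (tt N107250 D210463) (tt N57609 F222270) (tt N107248 (iv3 F457640)) (tt N40007 F222271) (tt N107251 D210464) (tt N40005 (iv6 D139081)) (tt N74510 (iv7 F361409)))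
theorem Q72354 : ∀ i, i < 72354 → P i := stepQ 72353 Q72353 (allL N72353 (tt N74853 (iv1 F363428)) (tt N40007 (iv0 D139087)) (tt N75502 F363424) (tt N40885 F363425) (tt N94459 (iv4 F404554)) (tt N91472 (iv5 F393269)) (tt N40883 F363426) (tt N77011 F363427))
theorem Q72355 : ∀ i, i < 72355 → P i := stepQ 72354 Q72354 (allL N72354 (tt N40007 (iv1 D139088)) (tt N74853 F334986) (tt N77011 F363421) (tt N65285 (iv3 F363420)) (tt N94460 F404558) (tt N91560 (iv5 F393651)) (tt N107252 D210465) (tt N75502 F363422))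
theorem Q72356 : ∀ i, i < 72356 → P i := stepQ 72355 Q72355 (allL N72355 (tt N74687 (iv1 F334440)) (tt N74852 F314674) (tt N74854 F314675) (tt N40018 F222277) (tt N74482 F314676) (tt N40007 (iv5 D139089)) (tt N75229 F314677) (tt N41619 F314678))
theorem Q72357 : ∀ i, i < 72357 → P i := stepQ 72356 Q72356 (allL N72356 (tt N106275 (iv1 F453842)) (tt N106226 (iv0 F453653)) (tt N78345 (iv2 F351892)) (tt N40009 (iv3 D139092)) (tt N57822 F222281) (tt N64739 (iv5 F351893)) (tt N54149 F351887) (tt N82580 (iv7 F366312)))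
theorem Q72358 : ∀ i, i < 72358 → P i := stepQ 72357 Q72357 (allL N72357 (tt N106383 (iv1 F454233)) (tt N89184 (iv0 F385486)) (tt N82583 F352964) (tt N64739 F351895) (tt N54040 (iv4 F352965)) (tt N40009 (iv5 D139093)) (tt N64737 (iv6 F351896)) (tt N82581 (iv7 F359397)))
theorem Q72359 : ∀ i, i < 72359 → P i := stepQ 72358 Q72358 (allL N72358 (tt N41010 F321333) (tt N41006 F321334) (tt N54355 (iv2 F361935)) (tt N54149 F339060) (tt N72309 F222282) (tt N76518 (iv5 F339068)) (tt N40009 (iv6 D139094)) (tt N40914 F324399))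
theorem Q72360 : ∀ i, i < 72360 → P i := stepQ 72359 Q72359 (allL N72359 (tt N89184 (iv1 F385487)) (tt N106383 (iv0 F454232)) (tt N82581 (iv2 F359398)) (tt N85396 F372486) (tt N83254 F352969) (tt N40010 (iv5 D139095)) (tt N107253 D210466) (tt N82583 F352970))
theorem Q72361 : ∀ i, i < 72361 → P i := stepQ 72360 Q72360 (allL N72360 (tt N40011 (iv1 D139097)) (tt N106230 F453678) (tt N94286 (iv2 F403961)) (tt N105148 (iv3 F448993)) (tt N66340 (iv4 F222283)) (tt N107254 D210467) (tt N40916 F336213) (tt N94283 (iv7 F403950)))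
theorem Q72362 : ∀ i, i < 72362 → P i := stepQ 72361 Q72361 (allL N72361 (tt N94283 (iv1 F403968)) (tt N94286 F403967) (tt N40011 (iv2 D139098)) (tt N96286 (iv3 F411885)) (tt N96288 (iv4 F411888)) (tt N107255 D210468) (tt N107256 D210469) (tt N106230 (iv7 F453676)))
theorem Q72363 : ∀ i, i < 72363 → P i := stepQ 72362 Q72362 (allL N72362 (tt N106233 F453697) (tt N101316 (iv0 F432630)) (tt N107255 (iv2 F457667)) (tt N40012 F222286) (tt N107257 D210470) (tt N40011 (iv5 D139099)) (tt N101362 (iv6 F432787)) (tt N107258 D210471))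
theorem Q72364 : ∀ i, i < 72364 → P i := stepQ 72363 Q72363 (allL N72363 (tt N106238 F453712) (tt N107259 D210472) (tt N107256 (iv2 F457672)) (tt N40013 F222287) (tt N107248 (iv4 F457641)) (tt N107260 D210473) (tt N40011 (iv6 D139100)) (tt N107261 D210474))
theorem Q72365 : ∀ i, i < 72365 → P i := stepQ 72364 Q72364 (allL N72364 (tt N94286 F403965) (tt N94283 (iv0 F403951)) (tt N106230 (iv2 F453673)) (tt N40014 F222288) (tt N57611 F222289) (tt N107258 (iv5 F457677)) (tt N63346 (iv6 F366665)) (tt N40011 (iv7 D139101)))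
theorem Q72366 : ∀ i, i < 72366 → P i := stepQ 72365 Q72365 (allL N72365 (tt N40022 (iv1 F222293)) (tt N40012 (iv0 D139102)) (tt N82579 (iv2 F352844)) (tt N107262 D210475) (tt N54047 F357804) (tt N78087 (iv5 F245803)) (tt N107263 D210476) (tt N82574 (iv7 F352845)))
theorem Q72367 : ∀ i, i < 72367 → P i := stepQ 72366 Q72366 (allL N72366 (tt N40012 (iv1 D139103)) (tt N40022 F222290) (tt N82574 F352846) (tt N54519 (iv3 F329277)) (tt N64729 F352848) (tt N54517 (iv5 F329273)) (tt N107264 D210477) (tt N82579 (iv7 F352843)))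
theorem Q72368 : ∀ i, i < 72368 → P i := stepQ 72367 Q72367 (allL N72367 (tt N107265 D210478) (tt N90126 (iv0 F388619)) (tt N96697 (iv2 F413508)) (tt N101362 (iv3 F432786)) (tt N95911 F410218) (tt N84901 F375825) (tt N40012 (iv6 D139105)) (tt N96700 (iv7 F413520)))
theorem Q72369 : ∀ i, i < 72369 → P i := stepQ 72368 Q72368 (allL N72368 (tt N82574 (iv1 F341571)) (tt N82579 F359447) (tt N40022 F222291) (tt N107258 (iv3 F457676)) (tt N80593 F342602) (tt N40014 F222292) (tt N89139 (iv6 F385319)) (tt N40012 (iv7 D139106)))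
theorem Q72370 : ∀ i, i < 72370 → P i := stepQ 72369 Q72369 (allL N72369 (tt N63352 (iv1 F363419)) (tt N40013 (iv0 D139107)) (tt N54464 (iv2 F363417)) (tt N54180 (iv3 F363444)) (tt N73607 F363416) (tt N86321 (iv5 F375823)) (tt N40963 F363418) (tt N107246 (iv7 F457630)))
theorem Q72371 : ∀ i, i < 72371 → P i := stepQ 72370 Q72370 (allL N72370 (tt N40013 (iv1 D139108)) (tt N63352 F363440) (tt N107246 F457633) (tt N54470 F363443) (tt N82222 (iv4 F363441)) (tt N86324 (iv5 F375829)) (tt N107266 D210479) (tt N54464 F363442))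
theorem Q72372 : ∀ i, i < 72372 → P i := stepQ 72371 Q72371 (allL N72371 (tt N107267 D210480) (tt N107268 D210481) (tt N107247 (iv2 F457635)) (tt N107260 (iv3 F457682)) (tt N61512 (iv4 F363432)) (tt N40013 (iv5 D139109)) (tt N84901 (iv6 F375824)) (tt N61511 F363434))
theorem Q72373 : ∀ i, i < 72373 → P i := stepQ 72372 Q72372 (allL N72372 (tt N107246 (iv1 F457629)) (tt N54464 F363433) (tt N63352 F363429) (tt N107261 (iv3 F457686)) (tt N40019 F222294) (tt N61511 (iv5 F363435)) (tt N63289 (iv6 F363430)) (tt N40013 (iv7 D139110)))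
theorem Q72374 : ∀ i, i < 72374 → P i := stepQ 72373 Q72373 (allL N72373 (tt N83253 F359368) (tt N54039 (iv0 F359364)) (tt N80592 F342599) (tt N67757 F222301) (tt N64294 F359365) (tt N40015 (iv5 D139114)) (tt N53926 F359367) (tt N82038 (iv7 F363121)))
theorem Q72375 : ∀ i, i < 72375 → P i := stepQ 72374 Q72374 (allL N72374 (tt N56114 F359366) (tt N56113 (iv0 F359369)) (tt N56133 (iv2 F359371)) (tt N69617 F222302) (tt N40016 F222303) (tt N74930 F232867) (tt N40015 (iv6 D139115)) (tt N56117 F359372))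
theorem Q72376 : ∀ i, i < 72376 → P i := stepQ 72375 Q72375 (allL N72375 (tt N62911 (iv1 F312300)) (tt N44882 F310040) (tt N62968 F310041) (tt N75229 F310042) (tt N92598 (iv4 F397563)) (tt N40016 (iv5 D139119)) (tt N40018 F222311) (tt N62847 F310043))
theorem Q72377 : ∀ i, i < 72377 → P i := stepQ 72376 Q72376 (allL N72376 (tt N74966 F319250) (tt N53333 (iv0 F332526)) (tt N48073 F319251) (tt N74984 F319252) (tt N41670 F332528) (tt N40017 (iv5 D139125)) (tt N45219 F319253) (tt N74415 F332529))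
theorem Q72378 : ∀ i, i < 72378 → P i := stepQ 72377 Q72377 (allL N72377 (tt N62786 (iv1 F334965)) (tt N40018 (iv0 D139132)) (tt N58548 (iv2 F222317)) (tt N62845 (iv3 F319960)) (tt N87463 (iv4 F379414)) (tt N58547 F222316) (tt N87462 F379413) (tt N62979 (iv7 F334959)))
theorem Q72379 : ∀ i, i < 72379 → P i := stepQ 72378 Q72378 (allL N72378 (tt N63064 F339610) (tt N99871 (iv0 F426629)) (tt N41797 F339611) (tt N80150 (iv3 F355215)) (tt N40018 (iv4 D139133)) (tt N41744 F339612) (tt N92598 (iv6 F397564)) (tt N41800 F339613))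
theorem Q72380 : ∀ i, i < 72380 → P i := stepQ 72379 Q72379 (allL N72379 (tt N96285 (iv1 F411873)) (tt N96279 (iv0 F411879)) (tt N89575 (iv2 F386795)) (tt N40020 (iv3 D139143)) (tt N40021 F222328) (tt N77310 (iv5 F352972)) (tt N63274 (iv6 F352994)) (tt N82161 F360932))
theorem Q72381 : ∀ i, i < 72381 → P i := stepQ 72380 Q72380 (allL N72380 (tt N78128 (iv1 F246116)) (tt N75998 (iv0 F330633)) (tt N74851 (iv2 F349355)) (tt N77310 (iv3 F342703)) (tt N74850 (iv4 F334910)) (tt N40020 (iv5 D139144)) (tt N77623 F349347) (tt N82162 (iv7 F360924)))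
theorem Q72382 : ∀ i, i < 72382 → P i := stepQ 72381 Q72381 (allL N72381 (tt N106244 (iv1 F453738)) (tt N71119 (iv0 F431556)) (tt N105573 (iv2 F450793)) (tt N40022 F222337) (tt N105401 (iv4 F450075)) (tt N40021 (iv5 D139155)) (tt N107269 D210482) (tt N105577 (iv7 F450818)))
theorem Q72383 : ∀ i, i < 72383 → P i := stepQ 72382 Q72382 (allL N72382 (tt N106289 (iv1 F453905)) (tt N62951 (iv0 F365490)) (tt N89574 (iv2 F386792)) (tt N40023 F222338) (tt N63274 (iv4 F352996)) (tt N107270 D210483) (tt N40021 (iv6 D139156)) (tt N63350 F353000))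
theorem Q72384 : ∀ i, i < 72384 → P i := stepQ 72383 Q72383 (allL N72383 (tt N83264 F382807) (tt N54058 (iv0 F382806)) (tt N89139 (iv2 F385318)) (tt N107269 (iv3 F457723)) (tt N88377 F382805) (tt N107271 D210484) (tt N40022 (iv6 D139158)) (tt N107272 D210485))
theorem Q72385 : ∀ i, i < 72385 → P i := stepQ 72384 Q72384 (allL N72384 (tt N63289 F314661) (tt N40023 (iv0 D139159)) (tt N44988 F314662) (tt N106278 (iv3 F453860)) (tt N44977 F314663) (tt N100255 (iv5 F428145)) (tt N105020 (iv6 F448412)) (tt N44990 F314664))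
theorem Q72386 : ∀ i, i < 72386 → P i := stepQ 72385 Q72385 (allL N72385 (tt N40023 (iv1 D139160)) (tt N63289 F314665) (tt N44990 F314666) (tt N77518 F314667) (tt N44978 F314668) (tt N100254 (iv5 F428136)) (tt N40926 F335437) (tt N44988 F314669))
theorem Q72387 : ∀ i, i < 72387 → P i := stepQ 72386 Q72386 (allL N72386 (tt N107273 D210486) (tt N66870 (iv0 F366120)) (tt N63347 F366683) (tt N107270 (iv3 F457727)) (tt N107274 D210487) (tt N40023 (iv5 D139161)) (tt N107271 (iv6 F457732)) (tt N63351 F366682))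
theorem Q72388 : ∀ i, i < 72388 → P i := stepQ 72387 Q72387 (allL N72387 (tt N42893 F309027) (tt N69665 (iv0 F334084)) (tt N40032 F222352) (tt N67102 F222353) (tt N40026 F222354) (tt N67101 (iv5 F222356)) (tt N40025 (iv6 D139181)) (tt N69683 F222355))
theorem Q72389 : ∀ i, i < 72389 → P i := stepQ 72388 Q72388 (allL N72388 (tt N40035 (iv1 F222363)) (tt N40026 (iv0 D139182)) (tt N40033 F313503) (tt N40969 F315961) (tt N40208 F342567) (tt N40953 F315962) (tt N40956 (iv6 F318161)) (tt N40034 F313504))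
theorem Q72390 : ∀ i, i < 72390 → P i := stepQ 72389 Q72389 (allL N72389 (tt N40026 (iv1 D139183)) (tt N40035 F222358) (tt N40034 F313505) (tt N77003 F313497) (tt N107172 (iv4 F457324)) (tt N45290 F313498) (tt N69662 F313506) (tt N40033 F313507))
theorem Q72391 : ∀ i, i < 72391 → P i := stepQ 72390 Q72390 (allL N72390 (tt N40034 (iv1 F222364)) (tt N40033 F222365) (tt N40035 F222359) (tt N63377 (iv3 F311188)) (tt N69683 F222360) (tt N40977 F222361) (tt N45230 (iv6 F309382)) (tt N40026 (iv7 D139184)))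
theorem Q72392 : ∀ i, i < 72392 → P i := stepQ 72391 Q72391 (allL N72391 (tt N65266 F314140) (tt N68022 (iv0 F222367)) (tt N40027 (iv2 D139186)) (tt N48076 (iv3 F314309)) (tt N57689 F222366) (tt N48074 (iv5 F314335)) (tt N43688 F314141) (tt N63325 F314142))
theorem Q72393 : ∀ i, i < 72393 → P i := stepQ 72392 Q72392 (allL N72392 (tt N40029 (iv1 F222381)) (tt N40028 (iv0 D139188)) (tt N76135 (iv2 F309387)) (tt N76519 F342610) (tt N42472 (iv4 F310088)) (tt N83253 (iv5 F342623)) (tt N42470 F308072) (tt N76134 (iv7 F310092)))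
theorem Q72394 : ∀ i, i < 72394 → P i := stepQ 72393 Q72393 (allL N72393 (tt N40028 (iv1 D139189)) (tt N40029 F222383) (tt N76134 F311606) (tt N46569 F311607) (tt N76133 F311608) (tt N54039 (iv5 F352967)) (tt N73948 F342546) (tt N76135 F311609))
theorem Q72395 : ∀ i, i < 72395 → P i := stepQ 72394 Q72394 (allL N72394 (tt N42844 F311498) (tt N42843 F311499) (tt N42845 (iv2 F312363)) (tt N69672 F222399) (tt N40030 (iv4 D139200)) (tt N65386 (iv5 F312126)) (tt N66957 (iv6 F311669)) (tt N42842 F311500))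
theorem Q72396 : ∀ i, i < 72396 → P i := stepQ 72395 Q72395 (allL N72395 (tt N69683 (iv1 F222409)) (tt N40032 (iv0 D139203)) (tt N42893 F308025) (tt N107275 D210488) (tt N42891 F308026) (tt N82228 F279697) (tt N42890 F308027) (tt N69665 (iv7 F334083)))
theorem Q72397 : ∀ i, i < 72397 → P i := stepQ 72396 Q72396 (allL N72396 (tt N40032 (iv1 D139204)) (tt N69683 F222402) (tt N69665 (iv2 F334082)) (tt N44905 F305220) (tt N42896 F305221) (tt N82227 (iv5 F282935)) (tt N69658 F282936) (tt N42893 F305222))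
theorem Q72398 : ∀ i, i < 72398 → P i := stepQ 72397 Q72397 (allL N72397 (tt N80085 F309989) (tt N42606 F309990) (tt N67101 F222403) (tt N67072 F222404) (tt N72061 F363872) (tt N40032 (iv5 D139205)) (tt N72060 (iv6 F339048)) (tt N80086 F309991))
theorem Q72399 : ∀ i, i < 72399 → P i := stepQ 72398 Q72398 (allL N72398 (tt N69665 (iv1 F334085)) (tt N42893 F307961) (tt N69683 F222406) (tt N78321 (iv3 F248088)) (tt N40035 F222407) (tt N80086 F307962) (tt N69624 (iv6 F248030)) (tt N40032 (iv7 D139206)))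
theorem Q72400 : ∀ i, i < 72400 → P i := stepQ 72399 Q72399 (allL N72399 (tt N76165 F342562) (tt N73948 F342563) (tt N40208 F342564) (tt N99341 (iv3 F424186)) (tt N40033 (iv4 D139209)) (tt N40203 F342565) (tt N56104 F342566) (tt N107172 (iv7 F457323)))
theorem Q72401 : ∀ i, i < 72401 → P i := stepQ 72400 Q72400 (allL N72400 (tt N63061 F353448) (tt N45246 F353449) (tt N43927 F353450) (tt N40034 (iv3 D139213)) (tt N94473 (iv4 F404621)) (tt N40970 F353451) (tt N44005 F353452) (tt N40969 F353453))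
theorem Q72402 : ∀ i, i < 72402 → P i := stepQ 72401 Q72401 (allL N72401 (tt N69656 (iv1 F247315)) (tt N62970 F312178) (tt N69662 F252514) (tt N44005 F312179) (tt N63850 F247312) (tt N44003 F312180) (tt N40034 (iv6 D139216)) (tt N63334 (iv7 F313522)))
theorem Q72403 : ∀ i, i < 72403 → P i := stepQ 72402 Q72402 (allL N72402 (tt N40853 F339009) (tt N65267 (iv0 F339002)) (tt N82189 F361583) (tt N40036 (iv3 D139218)) (tt N73331 F224409) (tt N76515 F333276) (tt N107276 D210489) (tt N41005 F338986))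
theorem Q72404 : ∀ i, i < 72404 → P i := stepQ 72403 Q72403 (allL N72403 (tt N40914 F339126) (tt N54355 (iv0 F339120)) (tt N41010 F338987) (tt N106834 F455895) (tt N40036 (iv4 D139219)) (tt N53310 (iv5 F339010)) (tt N107277 D210490) (tt N41006 F338988))
theorem Q72405 : ∀ i, i < 72405 → P i := stepQ 72404 Q72404 (allL N72404 (tt N99729 (iv1 F425947)) (tt N40763 F333274) (tt N41012 F338989) (tt N107276 (iv3 F457756)) (tt N107277 (iv4 F457760)) (tt N73195 (iv5 F224051)) (tt N40036 (iv6 D139221)) (tt N107216 (iv7 F457486)))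
theorem Q72406 : ∀ i, i < 72406 → P i := stepQ 72405 Q72405 (allL N72405 (tt N54355 (iv1 F339125)) (tt N40914 F346605) (tt N41006 F338983) (tt N106061 (iv3 F452953)) (tt N40037 (iv4 D139224)) (tt N53309 (iv5 F339086)) (tt N107278 D210491) (tt N41010 F338984))
theorem Q72407 : ∀ i, i < 72407 → P i := stepQ 72406 Q72406 (allL N72406 (tt N40655 F342577) (tt N63345 (iv0 F342575)) (tt N41008 F338985) (tt N76290 (iv3 F339085)) (tt N107278 (iv4 F457764)) (tt N72705 F222949) (tt N40037 (iv6 D139226)) (tt N76221 (iv7 F342554)))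
theorem Q72408 : ∀ i, i < 72408 → P i := stepQ 72407 Q72407 (allL N72407 (tt N40038 (iv1 D139228)) (tt N40886 F222415) (tt N41013 F332512) (tt N56136 F332513) (tt N53312 (iv4 F332517)) (tt N75568 F332514) (tt N56134 F332515) (tt N41014 F332516))
theorem Q72409 : ∀ i, i < 72409 → P i := stepQ 72408 Q72408 (allL N72408 (tt N49640 F309288) (tt N40040 (iv0 D139241)) (tt N68494 (iv2 F245873)) (tt N58758 F339017) (tt N76061 F309289) (tt N58754 (iv5 F348548)) (tt N46084 F309291) (tt N68493 (iv7 F245875)))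
theorem Q72410 : ∀ i, i < 72410 → P i := stepQ 72409 Q72409 (allL N72409 (tt N40041 (iv1 D139269)) (tt N43535 F313932) (tt N76729 F313933) (tt N75825 F313934) (tt N80366 F313935) (tt N41038 F315706) (tt N42725 F313936) (tt N68023 F358559))
theorem Q72411 : ∀ i, i < 72411 → P i := stepQ 72410 Q72410 (allL N72410 (tt N68023 (iv1 F353868)) (tt N76729 F313928) (tt N40041 (iv2 D139270)) (tt N75658 (iv3 F316093)) (tt N68020 (iv4 F358473)) (tt N43642 F313929) (tt N75457 F313930) (tt N43535 F313931))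
theorem Q72412 : ∀ i, i < 72412 → P i := stepQ 72411 Q72411 (allL N72411 (tt N63999 F366419) (tt N75454 F366420) (tt N75457 F366421) (tt N40042 F222454) (tt N100506 (iv4 F429231)) (tt N43815 F366422) (tt N40041 (iv6 D139273)) (tt N43538 F366423))
theorem Q72413 : ∀ i, i < 72413 → P i := stepQ 72412 Q72412 (allL N72412 (tt N43725 F330257) (tt N79493 F363371) (tt N80911 (iv2 F341206)) (tt N40043 (iv3 D139278)) (tt N101105 (iv4 F431692)) (tt N47041 F319372) (tt N78327 (iv6 F248238)) (tt N41056 F222459))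
theorem Q72414 : ∀ i, i < 72414 → P i := stepQ 72413 Q72413 (allL N72413 (tt N60700 F222461) (tt N58825 (iv0 F222464)) (tt N65821 F222460) (tt N95745 (iv3 F409418)) (tt N96483 (iv4 F412703)) (tt N40044 (iv5 D139279)) (tt N58865 F222462) (tt N95272 (iv7 F407663)))
theorem Q72415 : ∀ i, i < 72415 → P i := stepQ 72414 Q72414 (allL N72414 (tt N65653 F222470) (tt N74252 (iv0 F227105)) (tt N65822 F222468) (tt N94276 (iv3 F403922)) (tt N59664 F222469) (tt N72919 (iv5 F223577)) (tt N40044 (iv6 D139280)) (tt N95916 (iv7 F410247)))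
theorem Q72416 : ∀ i, i < 72416 → P i := stepQ 72415 Q72415 (allL N72415 (tt N62474 F222474) (tt N73626 F225284) (tt N69693 F222471) (tt N59181 F222472) (tt N40045 (iv4 D139281)) (tt N107279 D210492) (tt N89914 F387988) (tt N69689 F222473))
theorem Q72417 : ∀ i, i < 72417 → P i := stepQ 72416 Q72416 (allL N72416 (tt N72467 (iv1 F386893)) (tt N62258 F386894) (tt N69694 F222475) (tt N59184 F222476) (tt N99775 (iv4 F426179)) (tt N40045 (iv5 D139282)) (tt N107280 D210493) (tt N69690 F222477))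
theorem Q72418 : ∀ i, i < 72418 → P i := stepQ 72417 Q72417 (allL N72417 (tt N99526 (iv1 F424990)) (tt N99504 (iv0 F424899)) (tt N69695 F222478) (tt N59185 F222479) (tt N89914 F387987) (tt N86330 (iv5 F375853)) (tt N40045 (iv6 D139283)) (tt N99525 (iv7 F424984)))
theorem Q72419 : ∀ i, i < 72419 → P i := stepQ 72418 Q72418 (allL N72418 (tt N93263 F400188) (tt N93266 F400203) (tt N59169 F222480) (tt N40046 (iv3 D139284)) (tt N103203 (iv4 F440554)) (tt N107281 D210494) (tt N53650 F380080) (tt N69692 F222481))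
theorem Q72420 : ∀ i, i < 72420 → P i := stepQ 72419 Q72419 (allL N72419 (tt N62258 (iv1 F386895)) (tt N72467 (iv0 F386892)) (tt N69690 F222482) (tt N107281 (iv3 F457775)) (tt N84063 F367973) (tt N40046 (iv5 D139285)) (tt N84062 (iv6 F367974)) (tt N69694 F222483))
theorem Q72421 : ∀ i, i < 72421 → P i := stepQ 72420 Q72420 (allL N72420 (tt N40563 F386891) (tt N106111 (iv0 F453172)) (tt N69691 F222484) (tt N53650 (iv3 F380082)) (tt N96604 F413149) (tt N105110 F448838) (tt N40046 (iv6 D139286)) (tt N91448 (iv7 F393161)))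
theorem Q72422 : ∀ i, i < 72422 → P i := stepQ 72421 Q72421 (allL N72421 (tt N69698 (iv1 F222487)) (tt N69697 F222488) (tt N40048 F222485) (tt N98386 F420729) (tt N92196 (iv4 F396199)) (tt N40047 (iv5 D139287)) (tt N71171 F356110) (tt N69696 F222486))
theorem Q72423 : ∀ i, i < 72423 → P i := stepQ 72422 Q72422 (allL N72422 (tt N96236 (iv1 F411645)) (tt N96235 F411642) (tt N40049 F222489) (tt N99367 (iv3 F424314)) (tt N90523 (iv4 F389950)) (tt N90480 F389801) (tt N40047 (iv6 D139288)) (tt N96216 (iv7 F411543)))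
theorem Q72424 : ∀ i, i < 72424 → P i := stepQ 72423 Q72423 (allL N72423 (tt N69696 (iv1 F222490)) (tt N40048 (iv0 D139289)) (tt N69698 (iv2 F357526)) (tt N106184 F453508) (tt N75136 F357472) (tt N40069 F357473) (tt N64834 (iv6 F366654)) (tt N69697 F357529))
theorem Q72425 : ∀ i, i < 72425 → P i := stepQ 72424 Q72424 (allL N72424 (tt N40048 (iv1 D139290)) (tt N69696 F222491) (tt N69697 F357527) (tt N50473 F357499) (tt N100607 (iv4 F429681)) (tt N40070 F357488) (tt N50472 (iv6 F357626)) (tt N69698 F357520))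
theorem Q72426 : ∀ i, i < 72426 → P i := stepQ 72425 Q72425 (allL N72425 (tt N107282 D210495) (tt N107283 D210496) (tt N92196 (iv2 F396196)) (tt N96477 (iv3 F412682)) (tt N40048 (iv4 D139291)) (tt N76944 (iv5 F355662)) (tt N76946 F356088) (tt N69699 F222492))
theorem Q72427 : ∀ i, i < 72427 → P i := stepQ 72426 Q72426 (allL N72426 (tt N96216 (iv1 F411546)) (tt N40049 (iv0 D139293)) (tt N96236 F411649) (tt N95600 (iv3 F408845)) (tt N54394 (iv4 F357631)) (tt N54328 F357630) (tt N107284 D210497) (tt N96235 F411644))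
theorem Q72428 : ∀ i, i < 72428 → P i := stepQ 72427 Q72427 (allL N72427 (tt N40049 (iv1 D139294)) (tt N96216 (iv0 F411544)) (tt N96235 F411643) (tt N89212 (iv3 F385616)) (tt N54401 F357397) (tt N54327 (iv5 F357395)) (tt N79496 F357396) (tt N96236 (iv7 F411646)))
theorem Q72429 : ∀ i, i < 72429 → P i := stepQ 72428 Q72428 (allL N72428 (tt N64788 (iv1 F363103)) (tt N40050 (iv0 D139296)) (tt N59653 (iv2 F362239)) (tt N107285 D210498) (tt N59395 F362240) (tt N101411 (iv5 F432891)) (tt N107286 D210499) (tt N59657 F362241))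
theorem Q72430 : ∀ i, i < 72430 → P i := stepQ 72429 Q72429 (allL N72429 (tt N40050 (iv1 D139297)) (tt N64788 F363104) (tt N59657 F362238) (tt N101915 (iv3 F434935)) (tt N59396 F351246) (tt N101412 (iv5 F432896)) (tt N59631 (iv6 F351249)) (tt N59653 (iv7 F362235)))
theorem Q72431 : ∀ i, i < 72431 → P i := stepQ 72430 Q72430 (allL N72430 (tt N59657 F345274) (tt N59653 F362244) (tt N64788 F363101) (tt N71172 F356116) (tt N96479 (iv4 F412688)) (tt N90698 (iv5 F390550)) (tt N64491 (iv6 F342795)) (tt N40050 (iv7 D139299)))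
theorem Q72432 : ∀ i, i < 72432 → P i := stepQ 72431 Q72431 (allL N72431 (tt N96207 (iv1 F411497)) (tt N102797 (iv0 F438683)) (tt N86382 (iv2 F376024)) (tt N40051 (iv3 D139300)) (tt N79524 (iv4 F345791)) (tt N90265 (iv5 F389155)) (tt N83213 (iv6 F358751)) (tt N90264 F389153))
theorem Q72433 : ∀ i, i < 72433 → P i := stepQ 72432 Q72432 (allL N72432 (tt N72622 (iv1 F222760)) (tt N101655 F433716) (tt N96244 (iv2 F411714)) (tt N90265 (iv3 F389154)) (tt N107287 D210500) (tt N40051 (iv5 D139301)) (tt N101647 (iv6 F433683)) (tt N90261 F389142))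
theorem Q72434 : ∀ i, i < 72434 → P i := stepQ 72433 Q72433 (allL N72433 (tt N40573 F227001) (tt N78172 (iv0 F246509)) (tt N96245 (iv2 F411717)) (tt N83213 (iv3 F358750)) (tt N59053 F222497) (tt N72520 F222630) (tt N40051 (iv6 D139302)) (tt N47772 F342826))
theorem Q72435 : ∀ i, i < 72435 → P i := stepQ 72434 Q72434 (allL N72434 (tt N99160 F423526) (tt N96211 F423527) (tt N106769 (iv2 F455604)) (tt N40052 (iv3 D139303)) (tt N78041 (iv4 F245585)) (tt N101653 (iv5 F433711)) (tt N101001 (iv6 F431211)) (tt N96243 (iv7 F411712)))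
theorem Q72436 : ∀ i, i < 72436 → P i := stepQ 72435 Q72435 (allL N72435 (tt N59316 (iv1 F222499)) (tt N40053 (iv0 D139306)) (tt N96247 F411729) (tt N106733 (iv3 F455464)) (tt N98854 (iv4 F422581)) (tt N96004 (iv5 F410598)) (tt N98853 F422572) (tt N96246 F411725))
theorem Q72437 : ∀ i, i < 72437 → P i := stepQ 72436 Q72436 (allL N72436 (tt N40053 (iv1 D139307)) (tt N59316 F222500) (tt N96246 F411724) (tt N106048 (iv3 F452894)) (tt N99050 (iv4 F423145)) (tt N95007 (iv5 F406631)) (tt N106581 (iv6 F455012)) (tt N96247 (iv7 F411727)))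
theorem Q72438 : ∀ i, i < 72438 → P i := stepQ 72437 Q72437 (allL N72437 (tt N107288 D210501) (tt N107289 D210502) (tt N99373 (iv2 F424330)) (tt N98945 (iv3 F422831)) (tt N40053 (iv4 D139308)) (tt N96305 (iv5 F411937)) (tt N106189 (iv6 F453533)) (tt N96248 (iv7 F411734)))
theorem Q72439 : ∀ i, i < 72439 → P i := stepQ 72438 Q72438 (allL N72438 (tt N96193 (iv1 F411431)) (tt N95956 (iv0 F410422)) (tt N90986 (iv2 F391478)) (tt N40054 (iv3 D139309)) (tt N93368 (iv4 F400545)) (tt N89285 F385917) (tt N53619 (iv6 F384765)) (tt N90984 (iv7 F391471)))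
theorem Q72440 : ∀ i, i < 72440 → P i := stepQ 72439 Q72439 (allL N72439 (tt N72603 F222716) (tt N90927 F391291) (tt N41059 F222501) (tt N89285 (iv3 F385918)) (tt N107290 D210503) (tt N40054 (iv5 D139310)) (tt N107291 D210504) (tt N65020 (iv7 F332951)))
theorem Q72441 : ∀ i, i < 72441 → P i := stepQ 72440 Q72440 (allL N72440 (tt N40557 (iv1 F222505)) (tt N53531 (iv0 F329709)) (tt N41060 F222502) (tt N53619 F384757) (tt N40056 F222503) (tt N72564 F222669) (tt N40054 (iv6 D139311)) (tt N64565 (iv7 F332939)))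
theorem Q72442 : ∀ i, i < 72442 → P i := stepQ 72441 Q72441 (allL N72441 (tt N72175 (iv1 F222602)) (tt N72456 F222536) (tt N41062 F222506) (tt N89018 (iv3 F391229)) (tt N40055 (iv4 D139312)) (tt N73242 (iv5 F224194)) (tt N72151 F222507) (tt N72485 (iv7 F222600)))
theorem Q72443 : ∀ i, i < 72443 → P i := stepQ 72442 Q72442 (allL N72442 (tt N99391 F424393) (tt N107292 D210505) (tt N99102 (iv2 F423344)) (tt N40057 (iv3 D139314)) (tt N72639 F222795) (tt N107293 D210506) (tt N107294 D210507) (tt N96493 (iv7 F412750)))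
theorem Q72444 : ∀ i, i < 72444 → P i := stepQ 72443 Q72443 (allL N72443 (tt N89991 F388227) (tt N86077 (iv0 F375063)) (tt N90017 (iv2 F406004)) (tt N107295 D210508) (tt N40057 (iv4 D139315)) (tt N107296 D210509) (tt N107297 D210510) (tt N90018 (iv7 F406008)))
theorem Q72445 : ∀ i, i < 72445 → P i := stepQ 72444 Q72444 (allL N72444 (tt N73216 (iv1 F357508)) (tt N59023 F357510) (tt N73219 F406011) (tt N107293 (iv3 F457837)) (tt N107298 D210511) (tt N40057 (iv5 D139316)) (tt N107299 D210512) (tt N73218 F406009))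
theorem Q72446 : ∀ i, i < 72446 → P i := stepQ 72445 Q72445 (allL N72445 (tt N107300 D210513) (tt N95003 (iv0 F406611)) (tt N96496 (iv2 F412759)) (tt N107294 (iv3 F457842)) (tt N107297 (iv4 F457856)) (tt N89351 F386222) (tt N40057 (iv6 D139317)) (tt N107301 D210514))
theorem Q72447 : ∀ i, i < 72447 → P i := stepQ 72446 Q72446 (allL N72446 (tt N83184 F396784) (tt N99398 (iv0 F424409)) (tt N107302 D210515) (tt N40058 (iv3 D139319)) (tt N107303 D210516) (tt N107304 D210517) (tt N107305 D210518) (tt N96495 (iv7 F412757)))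
theorem Q72448 : ∀ i, i < 72448 → P i := stepQ 72447 Q72447 (allL N72447 (tt N86077 F375061) (tt N89991 F388226) (tt N90018 F406005) (tt N92381 (iv3 F396888)) (tt N40058 (iv4 D139320)) (tt N107306 D210519) (tt N107307 D210520) (tt N90017 F406001))
theorem Q72449 : ∀ i, i < 72449 → P i := stepQ 72448 Q72448 (allL N72448 (tt N59023 (iv1 F224848)) (tt N73216 (iv0 F224850)) (tt N73218 (iv2 F406010)) (tt N107304 (iv3 F457888)) (tt N107308 D210521) (tt N40058 (iv5 D139321)) (tt N107309 D210522) (tt N73219 (iv7 F406012)))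
theorem Q72450 : ∀ i, i < 72450 → P i := stepQ 72449 Q72449 (allL N72449 (tt N59286 F411792) (tt N107310 D210523) (tt N96494 (iv2 F412753)) (tt N107305 (iv3 F457892)) (tt N107307 (iv4 F457899)) (tt N107311 D210524) (tt N40058 (iv6 D139322)) (tt N107312 D210525))
theorem Q72451 : ∀ i, i < 72451 → P i := stepQ 72450 Q72450 (allL N72450 (tt N53769 (iv1 F350410)) (tt N40060 (iv0 D139325)) (tt N53818 (iv2 F361314)) (tt N104178 (iv3 F444551)) (tt N90163 (iv4 F388737)) (tt N40511 F361316) (tt N107313 D210526) (tt N53819 F361317))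
theorem Q72452 : ∀ i, i < 72452 → P i := stepQ 72451 Q72451 (allL N72451 (tt N40060 (iv1 D139326)) (tt N53769 (iv0 F350415)) (tt N53819 F361315) (tt N107314 D210527) (tt N90164 (iv4 F388744)) (tt N40512 F350414) (tt N107315 D210528) (tt N53818 F361313))
theorem Q72453 : ∀ i, i < 72453 → P i := stepQ 72452 Q72452 (allL N72452 (tt N93260 (iv1 F400172)) (tt N40310 F345618) (tt N53817 (iv2 F350371)) (tt N71898 F222514) (tt N40060 (iv4 D139327)) (tt N40665 (iv5 F222515)) (tt N50385 F350370) (tt N93261 (iv7 F400178)))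
theorem Q72454 : ∀ i, i < 72454 → P i := stepQ 72453 Q72453 (allL N72453 (tt N40061 (iv1 D139334)) (tt N40132 F222519) (tt N40130 F329838) (tt N89138 (iv3 F386142)) (tt N72302 F345078) (tt N72602 (iv5 F345079)) (tt N107316 D210529) (tt N40129 F329839))
theorem Q72455 : ∀ i, i < 72455 → P i := stepQ 72454 Q72454 (allL N72454 (tt N53987 F328891) (tt N51190 F328892) (tt N53997 F328893) (tt N40062 (iv3 D139337)) (tt N57201 F222526) (tt N48705 F328894) (tt N96187 (iv6 F411397)) (tt N40135 F222527))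
theorem Q72456 : ∀ i, i < 72456 → P i := stepQ 72455 Q72455 (allL N72455 (tt N50847 (iv1 F343860)) (tt N44390 F222533) (tt N40136 F222531) (tt N106611 (iv3 F455045)) (tt N50433 (iv4 F343861)) (tt N40063 (iv5 D139339)) (tt N54670 (iv6 F343863)) (tt N40134 F222532))
theorem Q72457 : ∀ i, i < 72457 → P i := stepQ 72456 Q72456 (allL N72456 (tt N72441 (iv1 F222536)) (tt N62572 F222535) (tt N40137 F222534) (tt N106612 (iv3 F455049)) (tt N94808 (iv4 F406036)) (tt N54671 (iv5 F343872)) (tt N40063 (iv6 D139340)) (tt N73999 (iv7 F226514)))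
theorem Q72458 : ∀ i, i < 72458 → P i := stepQ 72457 Q72457 (allL N72457 (tt N53283 (iv1 F365068)) (tt N77675 F365065) (tt N53921 F365062) (tt N40064 (iv3 D139346)) (tt N83180 (iv4 F365056)) (tt N88445 (iv5 F383078)) (tt N96191 (iv6 F411417)) (tt N40146 F222555))
theorem Q72459 : ∀ i, i < 72459 → P i := stepQ 72458 Q72458 (allL N72458 (tt N51114 (iv1 F336649)) (tt N59251 F222563) (tt N40147 F222561) (tt N51101 F345039) (tt N55314 F345041) (tt N40065 (iv5 D139349)) (tt N81494 (iv6 F345040)) (tt N40141 F222562))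
theorem Q72460 : ∀ i, i < 72460 → P i := stepQ 72459 Q72459 (allL N72459 (tt N96004 (iv1 F410600)) (tt N95007 (iv0 F406630)) (tt N40148 F222564) (tt N53920 F357157) (tt N40066 F222565) (tt N81426 (iv5 F357156)) (tt N40065 (iv6 D139350)) (tt N73998 (iv7 F226508)))
theorem Q72461 : ∀ i, i < 72461 → P i := stepQ 72460 Q72460 (allL N72460 (tt N40067 (iv1 D139351)) (tt N58993 F222570) (tt N40269 (iv2 F222571)) (tt N99429 (iv3 F424541)) (tt N61915 (iv4 F222566)) (tt N95944 (iv5 F410377)) (tt N105136 F448948) (tt N58992 (iv7 F222572)))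
theorem Q72462 : ∀ i, i < 72462 → P i := stepQ 72461 Q72461 (allL N72461 (tt N58992 (iv1 F222574)) (tt N40269 F222569) (tt N40067 (iv2 D139352)) (tt N51202 (iv3 F329617)) (tt N73410 F330570) (tt N83252 F354433) (tt N51200 (iv6 F354435)) (tt N58993 F222568))
theorem Q72463 : ∀ i, i < 72463 → P i := stepQ 72462 Q72462 (allL N72462 (tt N54090 (iv1 F339895)) (tt N54089 F363690) (tt N51200 (iv2 F339893)) (tt N40068 F222575) (tt N89541 (iv4 F386739)) (tt N51199 (iv5 F339894)) (tt N40067 (iv6 D139353)) (tt N54077 F339892))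
theorem Q72464 : ∀ i, i < 72464 → P i := stepQ 72463 Q72463 (allL N72463 (tt N99429 (iv1 F424544)) (tt N40256 (iv0 F222579)) (tt N93855 (iv2 F402163)) (tt N40069 (iv3 D139356)) (tt N41456 F222578) (tt N106184 (iv5 F453502)) (tt N75835 F357672) (tt N93857 (iv7 F402180)))
theorem Q72465 : ∀ i, i < 72465 → P i := stepQ 72464 Q72464 (allL N72464 (tt N62676 F222580) (tt N74325 F357564) (tt N74055 F357470) (tt N96048 F410795) (tt N40069 (iv4 D139357)) (tt N78501 (iv5 F357468)) (tt N52818 F357471) (tt N74324 F357524))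
theorem Q72466 : ∀ i, i < 72466 → P i := stepQ 72465 Q72465 (allL N72465 (tt N53902 F357489) (tt N53901 F357492) (tt N53904 (iv2 F357494)) (tt N75835 (iv3 F357495)) (tt N52818 (iv4 F357490)) (tt N53875 (iv5 F357491)) (tt N40069 (iv6 D139359)) (tt N53874 F357493))
theorem Q72467 : ∀ i, i < 72467 → P i := stepQ 72466 Q72466 (allL N72466 (tt N74325 (iv1 F227344)) (tt N62676 (iv0 F222582)) (tt N74324 (iv2 F357525)) (tt N62614 (iv3 F222583)) (tt N40070 (iv4 D139362)) (tt N91252 (iv5 F392408)) (tt N53893 (iv6 F357563)) (tt N74055 F357519))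
theorem Q72468 : ∀ i, i < 72468 → P i := stepQ 72467 Q72467 (allL N72467 (tt N72419 F386892) (tt N72416 F386893) (tt N40072 F222584) (tt N95020 (iv3 F406674)) (tt N107317 D210530) (tt N40071 (iv5 D139365)) (tt N107318 D210531) (tt N99374 (iv7 F424337)))
theorem Q72469 : ∀ i, i < 72469 → P i := stepQ 72468 Q72468 (allL N72468 (tt N107319 D210532) (tt N107320 D210533) (tt N40073 F222585) (tt N95010 (iv3 F406634)) (tt N99686 (iv4 F425745)) (tt N90840 F391020) (tt N40071 (iv6 D139366)) (tt N107321 D210534))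
theorem Q72470 : ∀ i, i < 72470 → P i := stepQ 72469 Q72469 (allL N72469 (tt N82906 F396200) (tt N107322 D210535) (tt N107317 (iv2 F457941)) (tt N96439 (iv3 F412523)) (tt N40072 (iv4 D139369)) (tt N107323 D210536) (tt N107324 D210537) (tt N99376 (iv7 F424345)))
theorem Q72471 : ∀ i, i < 72471 → P i := stepQ 72470 Q72470 (allL N72470 (tt N90834 (iv1 F457973)) (tt N101369 (iv0 F432802)) (tt N107318 (iv2 F457944)) (tt N40074 F222586) (tt N107324 (iv4 F457970)) (tt N107325 D210539) (tt N40072 (iv6 D139370)) (tt N101430 (iv7 F432960)))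
theorem Q72472 : ∀ i, i < 72472 → P i := stepQ 72471 Q72471 (allL N72471 (tt N107321 (iv1 F457959)) (tt N40073 (iv0 D139371)) (tt N107319 F457947) (tt N106059 (iv3 F452945)) (tt N90531 (iv4 F393170)) (tt N106586 (iv5 F454957)) (tt N90499 F393169) (tt N107320 (iv7 F457955)))
theorem Q72473 : ∀ i, i < 72473 → P i := stepQ 72472 Q72472 (allL N72472 (tt N40073 (iv1 D139372)) (tt N107321 F457958) (tt N107320 F457956) (tt N90809 (iv3 F457951)) (tt N107326 D210540) (tt N90610 F457952) (tt N107109 F457953) (tt N107319 F457950))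
theorem Q72474 : ∀ i, i < 72474 → P i := stepQ 72473 Q72473 (allL N72473 (tt N89895 F393907) (tt N84219 F393908) (tt N90840 (iv2 F391021)) (tt N40077 F222587) (tt N107327 D210541) (tt N40073 (iv5 D139373)) (tt N107325 (iv6 F457972)) (tt N90839 (iv7 F391022)))
theorem Q72475 : ∀ i, i < 72475 → P i := stepQ 72474 Q72474 (allL N72474 (tt N107320 (iv1 F457954)) (tt N107319 (iv0 F457949)) (tt N107321 (iv2 F457957)) (tt N40078 F222588) (tt N99690 (iv4 F425756)) (tt N90839 F391024) (tt N78121 (iv6 F246045)) (tt N40073 (iv7 D139374)))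
theorem Q72476 : ∀ i, i < 72476 → P i := stepQ 72475 Q72475 (allL N72475 (tt N107328 D210542) (tt N76856 (iv0 F413558)) (tt N95015 (iv2 F406646)) (tt N107325 (iv3 F457971)) (tt N107329 D210543) (tt N40074 (iv5 D139377)) (tt N40077 F222589) (tt N101431 (iv7 F432961)))
theorem Q72477 : ∀ i, i < 72477 → P i := stepQ 72476 Q72476 (allL N72476 (tt N96203 (iv1 F411475)) (tt N96205 (iv0 F411487)) (tt N95006 (iv2 F406622)) (tt N75449 F349412) (tt N107330 D210544) (tt N40075 (iv5 D139380)) (tt N107331 D210545) (tt N77163 F349419))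
theorem Q72478 : ∀ i, i < 72478 → P i := stepQ 72477 Q72477 (allL N72477 (tt N40148 F226510) (tt N73998 (iv0 F226509)) (tt N95007 (iv2 F406627)) (tt N75421 F349413) (tt N66504 F222590) (tt N96246 (iv5 F411722)) (tt N40075 (iv6 D139381)) (tt N96004 (iv7 F410597)))
theorem Q72479 : ∀ i, i < 72479 → P i := stepQ 72478 Q72478 (allL N72478 (tt N99440 F424592) (tt N107332 D210546) (tt N77407 (iv2 F349415)) (tt N40076 (iv3 D139382)) (tt N98867 (iv4 F422628)) (tt N77406 F349427) (tt N107110 (iv6 F457020)) (tt N95005 (iv7 F406621)))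
theorem Q72480 : ∀ i, i < 72480 → P i := stepQ 72479 Q72479 (allL N72479 (tt N96205 (iv1 F411488)) (tt N96203 (iv0 F411474)) (tt N77163 F349417) (tt N77406 (iv3 F349426)) (tt N107333 D210547) (tt N40076 (iv5 D139383)) (tt N70438 F349422) (tt N95006 (iv7 F406623)))
theorem Q72481 : ∀ i, i < 72481 → P i := stepQ 72480 Q72480 (allL N72480 (tt N95016 (iv1 F406651)) (tt N40077 (iv0 D139385)) (tt N95013 F406640) (tt N48826 F352341) (tt N107334 D210548) (tt N59244 F222593) (tt N48824 F352342) (tt N59243 (iv7 F222594)))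
theorem Q72482 : ∀ i, i < 72482 → P i := stepQ 72481 Q72481 (allL N72481 (tt N107335 D210549) (tt N72266 F222595) (tt N95014 (iv2 F406645)) (tt N107336 D210550) (tt N40077 (iv4 D139386)) (tt N94991 (iv5 F406578)) (tt N107329 (iv6 F457983)) (tt N94990 F406576))
theorem Q72483 : ∀ i, i < 72483 → P i := stepQ 72482 Q72482 (allL N72482 (tt N59243 (iv1 F222597)) (tt N95013 F406644) (tt N95016 (iv2 F406648)) (tt N90839 F391023) (tt N94990 (iv4 F406575)) (tt N40078 F222596) (tt N83400 F406626) (tt N40077 (iv7 D139387)))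
theorem Q72484 : ∀ i, i < 72484 → P i := stepQ 72483 Q72483 (allL N72483 (tt N107301 F457875) (tt N96496 F457878) (tt N107300 F457869) (tt N40079 (iv3 D139388)) (tt N99301 (iv4 F423996)) (tt N107337 D210551) (tt N53630 F390044) (tt N95003 (iv7 F406610)))
theorem Q72485 : ∀ i, i < 72485 → P i := stepQ 72484 Q72484 (allL N72484 (tt N96199 (iv1 F411460)) (tt N81899 (iv0 F343247)) (tt N95002 (iv2 F406603)) (tt N107337 (iv3 F458004)) (tt N98904 (iv4 F422741)) (tt N40079 (iv5 D139389)) (tt N107338 D210552) (tt N95004 (iv7 F406617)))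
theorem Q72486 : ∀ i, i < 72486 → P i := stepQ 72485 Q72485 (allL N72485 (tt N40137 (iv1 F222601)) (tt N73999 F226513) (tt N62572 F222598) (tt N53630 F390041) (tt N40081 F222599) (tt N71701 F360376) (tt N40079 (iv6 D139390)) (tt N72441 F222600))
theorem Q72487 : ∀ i, i < 72487 → P i := stepQ 72486 Q72486 (allL N72486 (tt N95134 (iv1 F407177)) (tt N59664 F223584) (tt N59526 F222603) (tt N107339 D210553) (tt N40080 (iv4 D139391)) (tt N107164 (iv5 F457274)) (tt N59351 F222604) (tt N94724 (iv7 F405681)))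
theorem Q72488 : ∀ i, i < 72488 → P i := stepQ 72487 Q72487 (allL N72487 (tt N40117 F349408) (tt N99412 F424457) (tt N92149 (iv2 F395973)) (tt N40082 (iv3 D139392)) (tt N40196 F222605) (tt N107340 D210554) (tt N92139 (iv6 F395926)) (tt N74256 (iv7 F227159)))
theorem Q72489 : ∀ i, i < 72489 → P i := stepQ 72488 Q72488 (allL N72488 (tt N81899 (iv1 F343248)) (tt N96199 (iv0 F411459)) (tt N95004 (iv2 F406615)) (tt N107340 (iv3 F458016)) (tt N107341 D210555) (tt N40082 (iv5 D139393)) (tt N69997 (iv6 F350271)) (tt N95002 (iv7 F406604)))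
theorem Q72490 : ∀ i, i < 72490 → P i := stepQ 72489 Q72489 (allL N72489 (tt N92345 (iv1 F396781)) (tt N40083 (iv0 D139394)) (tt N92344 (iv2 F396772)) (tt N102678 (iv3 F438171)) (tt N83184 F364961) (tt N77498 F340719) (tt N83183 (iv6 F364962)) (tt N92343 F396770))
theorem Q72491 : ∀ i, i < 72491 → P i := stepQ 72490 Q72490 (allL N72490 (tt N40083 (iv1 D139395)) (tt N92345 F396782) (tt N92343 F396777) (tt N93590 (iv3 F402422)) (tt N99398 (iv4 F424406)) (tt N99555 (iv5 F425137)) (tt N107342 D210556) (tt N92344 F396776))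
theorem Q72492 : ∀ i, i < 72492 → P i := stepQ 72491 Q72491 (allL N72491 (tt N92344 F396775) (tt N92343 F396769) (tt N40083 (iv2 D139396)) (tt N92352 (iv3 F396799)) (tt N40090 F222606) (tt N104661 (iv5 F446750)) (tt N107343 D210557) (tt N92345 (iv7 F396780)))
theorem Q72493 : ∀ i, i < 72493 → P i := stepQ 72492 Q72492 (allL N72492 (tt N107344 D210558) (tt N107345 D210559) (tt N104661 (iv2 F446748)) (tt N40084 F222607) (tt N41414 F347169) (tt N40083 (iv5 D139397)) (tt N77770 F347170) (tt N92346 (iv7 F396787)))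
theorem Q72494 : ∀ i, i < 72494 → P i := stepQ 72493 Q72493 (allL N72493 (tt N107346 D210560) (tt N107347 D210561) (tt N107343 (iv2 F458027)) (tt N40085 F222608) (tt N40092 F222609) (tt N107348 D210562) (tt N40083 (iv6 D139398)) (tt N107349 D210563))
theorem Q72495 : ∀ i, i < 72495 → P i := stepQ 72494 Q72494 (allL N72494 (tt N107350 D210564) (tt N107351 D210565) (tt N92355 (iv2 F396812)) (tt N77770 (iv3 F347172)) (tt N58430 F222610) (tt N107352 D210566) (tt N40084 (iv6 D139399)) (tt N107353 D210567))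
theorem Q72496 : ∀ i, i < 72496 → P i := stepQ 72495 Q72495 (allL N72495 (tt N40085 (iv1 D139400)) (tt N57559 F222611) (tt N41249 (iv2 F222614)) (tt N106503 (iv3 F454681)) (tt N41233 F222613) (tt N107354 D210568) (tt N57546 (iv6 F222615)) (tt N41247 F222612))
theorem Q72497 : ∀ i, i < 72497 → P i := stepQ 72496 Q72496 (allL N72496 (tt N107355 D210569) (tt N105056 F448593) (tt N92356 (iv2 F396814)) (tt N107348 (iv3 F458049)) (tt N107356 D210570) (tt N40085 (iv5 D139401)) (tt N107352 (iv6 F458060)) (tt N107357 D210571))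
theorem Q72498 : ∀ i, i < 72498 → P i := stepQ 72497 Q72497 (allL N72497 (tt N41249 (iv1 F222618)) (tt N41247 F222619) (tt N57559 F222616) (tt N107349 (iv3 F458051)) (tt N40087 F222617) (tt N107357 (iv5 F458078)) (tt N92350 (iv6 F396796)) (tt N40085 (iv7 D139402)))
theorem Q72499 : ∀ i, i < 72499 → P i := stepQ 72498 Q72498 (allL N72498 (tt N102748 (iv1 F438476)) (tt N107358 D210572) (tt N71437 F222620) (tt N40088 (iv3 D139403)) (tt N70894 F222622) (tt N98387 (iv5 F420731)) (tt N53292 F349991) (tt N71440 F222621))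
theorem Q72500 : ∀ i, i < 72500 → P i := stepQ 72499 Q72499 (allL N72499 (tt N107359 D210573) (tt N98846 F422553) (tt N74274 F227218) (tt N66516 F349984) (tt N40088 (iv4 D139404)) (tt N40641 F349985) (tt N89559 F386767) (tt N95017 (iv7 F406653)))
theorem Q72501 : ∀ i, i < 72501 → P i := stepQ 72500 Q72500 (allL N72500 (tt N53921 F365347) (tt N40146 F365348) (tt N77675 F349990) (tt N53292 (iv3 F349988)) (tt N89559 (iv4 F386766)) (tt N53284 F349987) (tt N40088 (iv6 D139406)) (tt N53283 (iv7 F349989)))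
theorem Q72502 : ∀ i, i < 72502 → P i := stepQ 72501 Q72501 (allL N72501 (tt N98846 F422552) (tt N107359 F458089) (tt N95017 (iv2 F406652)) (tt N40222 F222623) (tt N40089 (iv4 D139407)) (tt N73810 (iv5 F349980)) (tt N107360 D210574) (tt N74274 (iv7 F227217)))
theorem Q72503 : ∀ i, i < 72503 → P i := stepQ 72502 Q72502 (allL N72502 (tt N64656 F366210) (tt N64635 (iv0 F356866)) (tt N64653 F366482) (tt N82168 F366209) (tt N107360 (iv4 F458093)) (tt N68275 F356867) (tt N40089 (iv6 D139409)) (tt N64654 (iv7 F366481)))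
theorem Q72504 : ∀ i, i < 72504 → P i := stepQ 72503 Q72503 (allL N72503 (tt N69713 (iv1 F372576)) (tt N69710 F355997) (tt N40091 F222624) (tt N99374 (iv3 F424336)) (tt N63464 F357970) (tt N40090 (iv5 D139410)) (tt N107361 D210575) (tt N95020 (iv7 F406676)))
theorem Q72505 : ∀ i, i < 72505 → P i := stepQ 72504 Q72504 (allL N72504 (tt N107113 F457042) (tt N107362 D210576) (tt N40092 F222625) (tt N99375 (iv3 F424342)) (tt N107343 (iv4 F458028)) (tt N107363 D210577) (tt N40090 (iv6 D139411)) (tt N107364 D210578))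
theorem Q72506 : ∀ i, i < 72506 → P i := stepQ 72505 Q72505 (allL N72505 (tt N95020 (iv1 F406679)) (tt N40091 (iv0 D139412)) (tt N69713 (iv2 F372572)) (tt N106831 (iv3 F455879)) (tt N98316 (iv4 F420472)) (tt N62248 F372573) (tt N107365 D210579) (tt N69710 (iv7 F372574)))
theorem Q72507 : ∀ i, i < 72507 → P i := stepQ 72506 Q72506 (allL N72506 (tt N40091 (iv1 D139413)) (tt N95020 F406678) (tt N69710 F372575) (tt N73342 (iv3 F372569)) (tt N98315 (iv4 F420467)) (tt N62249 F372570) (tt N88889 (iv6 F384437)) (tt N69713 F372571))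
theorem Q72508 : ∀ i, i < 72508 → P i := stepQ 72507 Q72507 (allL N72507 (tt N107366 D210580) (tt N107367 D210581) (tt N63464 (iv2 F357967)) (tt N61152 (iv3 F357968)) (tt N40091 (iv4 D139414)) (tt N41409 F357966) (tt N104844 (iv6 F447568)) (tt N63462 (iv7 F357969)))
theorem Q72509 : ∀ i, i < 72509 → P i := stepQ 72508 Q72508 (allL N72508 (tt N105680 (iv1 F451221)) (tt N97956 (iv0 F420757)) (tt N107361 (iv2 F458095)) (tt N40093 F222626) (tt N104844 (iv4 F447572)) (tt N106215 (iv5 F453607)) (tt N40091 (iv6 D139415)) (tt N107368 D210582))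
theorem Q72510 : ∀ i, i < 72510 → P i := stepQ 72509 Q72509 (allL N72509 (tt N107364 (iv1 F458108)) (tt N40092 (iv0 D139416)) (tt N107113 (iv2 F457040)) (tt N107369 D210583) (tt N107370 D210584) (tt N107371 D210585) (tt N70323 F372578) (tt N107362 (iv7 F458100)))
theorem Q72511 : ∀ i, i < 72511 → P i := stepQ 72510 Q72510 (allL N72510 (tt N40092 (iv1 D139417)) (tt N107364 F458107) (tt N107362 F458101) (tt N99432 (iv3 F424554)) (tt N107372 D210586) (tt N107373 D210587) (tt N107135 (iv6 F457142)) (tt N107113 F457043))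
theorem Q72512 : ∀ i, i < 72512 → P i := stepQ 72511 Q72511 (allL N72511 (tt N107374 D210588) (tt N107375 D210589) (tt N107363 (iv2 F458105)) (tt N40095 F222627) (tt N107376 D210590) (tt N40092 (iv5 D139418)) (tt N106215 F453609) (tt N107377 D210591))
theorem Q72513 : ∀ i, i < 72513 → P i := stepQ 72512 Q72512 (allL N72512 (tt N107362 (iv1 F458099)) (tt N107113 (iv0 F457044)) (tt N107364 (iv2 F458106)) (tt N40096 F222628) (tt N107349 (iv4 F458052)) (tt N107377 (iv5 F458144)) (tt N95012 (iv6 F406638)) (tt N40092 (iv7 D139419)))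
theorem Q72514 : ∀ i, i < 72514 → P i := stepQ 72513 Q72513 (allL N72513 (tt N99384 (iv1 F424370)) (tt N40093 (iv0 D139420)) (tt N99381 (iv2 F424367)) (tt N107378 D210592) (tt N73095 F424368) (tt N101389 F432832) (tt N101070 (iv6 F431534)) (tt N99382 F424369))
theorem Q72515 : ∀ i, i < 72515 → P i := stepQ 72514 Q72514 (allL N72514 (tt N40093 (iv1 D139421)) (tt N99384 F424362) (tt N99382 (iv2 F424353)) (tt N50649 F364133) (tt N73096 F364134) (tt N82683 F364135) (tt N50647 (iv6 F364132)) (tt N99381 (iv7 F424363)))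
theorem Q72516 : ∀ i, i < 72516 → P i := stepQ 72515 Q72515 (allL N72515 (tt N107379 D210593) (tt N107380 D210594) (tt N99383 (iv2 F424356)) (tt N106215 F453608) (tt N107381 D210595) (tt N40093 (iv5 D139422)) (tt N40095 F222629) (tt N107382 D210596))
theorem Q72517 : ∀ i, i < 72517 → P i := stepQ 72516 Q72516 (allL N72516 (tt N99382 (iv1 F424351)) (tt N99381 F424361) (tt N99384 (iv2 F424358)) (tt N107368 (iv3 F458122)) (tt N96433 (iv4 F412496)) (tt N107382 (iv5 F458160)) (tt N95022 (iv6 F406688)) (tt N40093 (iv7 D139423)))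
theorem Q72518 : ∀ i, i < 72518 → P i := stepQ 72517 Q72517 (allL N72517 (tt N81066 F400166) (tt N81065 (iv0 F376033)) (tt N107383 D210597) (tt N40094 (iv3 D139424)) (tt N94072 (iv4 F403072)) (tt N86385 F376031) (tt N83283 (iv6 F362976)) (tt N94067 (iv7 F403050)))
theorem Q72519 : ∀ i, i < 72519 → P i := stepQ 72518 Q72518 (allL N72518 (tt N105139 (iv1 F448957)) (tt N105138 F448955) (tt N99386 (iv2 F424373)) (tt N86385 (iv3 F376032)) (tt N107384 D210598) (tt N40094 (iv5 D139425)) (tt N107385 D210599) (tt N94068 (iv7 F403052)))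
theorem Q72520 : ∀ i, i < 72520 → P i := stepQ 72519 Q72519 (allL N72519 (tt N78122 (iv1 F246050)) (tt N40095 (iv0 D139426)) (tt N81768 F342831) (tt N107386 D210600) (tt N107387 D210601) (tt N64574 (iv5 F342830)) (tt N63931 F342832) (tt N99387 (iv7 F424377)))
theorem Q72521 : ∀ i, i < 72521 → P i := stepQ 72520 Q72520 (allL N72520 (tt N40095 (iv1 D139427)) (tt N78122 (iv0 F246049)) (tt N99387 F424379) (tt N107388 D210602) (tt N107389 D210603) (tt N72433 (iv5 F222630)) (tt N107390 D210604) (tt N81768 (iv7 F342827)))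
theorem Q72522 : ∀ i, i < 72522 → P i := stepQ 72521 Q72521 (allL N72521 (tt N100874 F430844) (tt N88489 F384763) (tt N99388 (iv2 F424380)) (tt N107391 D210605) (tt N40095 (iv4 D139428)) (tt N105197 (iv5 F449172)) (tt N107381 (iv6 F458159)) (tt N105196 (iv7 F449169)))
theorem Q72523 : ∀ i, i < 72523 → P i := stepQ 72522 Q72522 (allL N72522 (tt N99387 (iv1 F424376)) (tt N81768 (iv0 F362318)) (tt N78122 (iv2 F246047)) (tt N107377 (iv3 F458143)) (tt N105196 (iv4 F449168)) (tt N40096 F222631) (tt N107392 D210606) (tt N40095 (iv7 D139429)))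
theorem Q72524 : ∀ i, i < 72524 → P i := stepQ 72523 Q72523 (allL N72523 (tt N96494 F412756) (tt N107312 F457918) (tt N107310 (iv2 F457912)) (tt N40097 (iv3 D139430)) (tt N64620 F363315) (tt N107393 D210607) (tt N53637 F384862) (tt N59286 F222632))
theorem Q72525 : ∀ i, i < 72525 → P i := stepQ 72524 Q72524 (allL N72524 (tt N78118 (iv1 F246038)) (tt N78117 F246037) (tt N78120 (iv2 F246041)) (tt N107393 (iv3 F458193)) (tt N107394 D210608) (tt N40097 (iv5 D139431)) (tt N82287 F356534) (tt N59287 F222633))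
theorem Q72526 : ∀ i, i < 72526 → P i := stepQ 72525 Q72525 (allL N72525 (tt N40118 F390839) (tt N99409 F424443) (tt N99408 F424435) (tt N40098 (iv3 D139433)) (tt N41141 F222635) (tt N96696 (iv5 F413507)) (tt N101106 (iv6 F431698)) (tt N99389 (iv7 F424382)))
theorem Q72527 : ∀ i, i < 72527 → P i := stepQ 72526 Q72526 (allL N72526 (tt N106727 F455436) (tt N106941 (iv0 F456374)) (tt N71381 F360382) (tt N97715 (iv3 F418037)) (tt N40098 (iv4 D139434)) (tt N92154 (iv5 F395997)) (tt N101107 (iv6 F431703)) (tt N99390 (iv7 F424389)))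
theorem Q72528 : ∀ i, i < 72528 → P i := stepQ 72527 Q72527 (allL N72527 (tt N99102 (iv1 F423347)) (tt N96493 (iv0 F423294)) (tt N107292 (iv2 F457834)) (tt N40099 (iv3 D139438)) (tt N99088 (iv4 F423291)) (tt N96699 (iv5 F413515)) (tt N53591 (iv6 F357357)) (tt N99391 (iv7 F424392)))
theorem Q72529 : ∀ i, i < 72529 → P i := stepQ 72528 Q72528 (allL N72528 (tt N106941 (iv1 F456375)) (tt N106727 (iv0 F455435)) (tt N99390 (iv2 F424387)) (tt N70890 F222637) (tt N40099 (iv4 D139439)) (tt N71000 (iv5 F350327)) (tt N91048 (iv6 F391756)) (tt N71381 (iv7 F350337)))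
theorem Q72530 : ∀ i, i < 72530 → P i := stepQ 72529 Q72529 (allL N72529 (tt N40133 F365277) (tt N89117 F385225) (tt N89119 (iv2 F385228)) (tt N53591 F357356) (tt N91048 F391754) (tt N53525 (iv5 F357355)) (tt N40099 (iv6 D139441)) (tt N88380 (iv7 F382821)))
theorem Q72531 : ∀ i, i < 72531 → P i := stepQ 72530 Q72530 (allL N72530 (tt N73236 (iv1 F224247)) (tt N73234 (iv0 F224185)) (tt N40101 F222638) (tt N73278 (iv3 F224261)) (tt N107395 D210609) (tt N40100 (iv5 D139442)) (tt N107396 D210610) (tt N73271 (iv7 F224245)))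
theorem Q72532 : ∀ i, i < 72532 → P i := stepQ 72531 Q72531 (allL N72531 (tt N107397 D210611) (tt N107398 D210612) (tt N40102 F222639) (tt N99399 (iv3 F424411)) (tt N105999 (iv4 F452697)) (tt N107399 D210613) (tt N40100 (iv6 D139443)) (tt N107400 D210614))
theorem Q72533 : ∀ i, i < 72533 → P i := stepQ 72532 Q72532 (allL N72532 (tt N73271 (iv1 F224246)) (tt N40101 (iv0 D139444)) (tt N73236 (iv2 F225852)) (tt N107401 D210615) (tt N107402 D210616) (tt N58964 F225853) (tt N106369 (iv6 F454179)) (tt N73234 F225854))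
theorem Q72534 : ∀ i, i < 72534 → P i := stepQ 72533 Q72533 (allL N72533 (tt N40101 (iv1 D139445)) (tt N73271 F224248) (tt N73234 (iv2 F225850)) (tt N99108 (iv3 F423365)) (tt N107403 D210617) (tt N58965 F225849) (tt N107404 D210618) (tt N73236 (iv7 F225851)))
theorem Q72535 : ∀ i, i < 72535 → P i := stepQ 72534 Q72534 (allL N72534 (tt N106388 F454251) (tt N107404 (iv0 F458232)) (tt N107395 (iv2 F458201)) (tt N62411 (iv3 F365336)) (tt N40101 (iv4 D139446)) (tt N107405 D210619) (tt N89137 F385317) (tt N73272 (iv7 F224250)))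
theorem Q72536 : ∀ i, i < 72536 → P i := stepQ 72535 Q72535 (allL N72535 (tt N89839 F387696) (tt N89837 (iv0 F387691)) (tt N107396 (iv2 F458202)) (tt N40103 F222640) (tt N89137 F385316) (tt N107406 D210620) (tt N40101 (iv6 D139447)) (tt N107407 D210621))
theorem Q72537 : ∀ i, i < 72537 → P i := stepQ 72536 Q72536 (allL N72536 (tt N107400 (iv1 F458220)) (tt N40102 (iv0 D139448)) (tt N107397 (iv2 F458209)) (tt N107408 D210622) (tt N107409 D210623) (tt N107410 D210624) (tt N107411 D210625) (tt N107398 (iv7 F458212)))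
theorem Q72538 : ∀ i, i < 72538 → P i := stepQ 72537 Q72537 (allL N72537 (tt N40102 (iv1 D139449)) (tt N107400 F458219) (tt N107398 (iv2 F458214)) (tt N107412 D210626) (tt N73907 F353583) (tt N107413 D210627) (tt N72036 (iv6 F353582)) (tt N107397 F458208))
theorem Q72539 : ∀ i, i < 72539 → P i := stepQ 72538 Q72538 (allL N72538 (tt N107414 D210628) (tt N107415 D210629) (tt N107399 (iv2 F458216)) (tt N40104 F222641) (tt N107416 D210630) (tt N40102 (iv5 D139450)) (tt N107406 (iv6 F458238)) (tt N107417 D210631))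
theorem Q72540 : ∀ i, i < 72540 → P i := stepQ 72539 Q72539 (allL N72539 (tt N107398 (iv1 F458211)) (tt N107397 (iv0 F458210)) (tt N107400 (iv2 F458218)) (tt N40105 F222642) (tt N106002 (iv4 F452702)) (tt N107417 (iv5 F458267)) (tt N78115 (iv6 F246029)) (tt N40102 (iv7 D139451)))
theorem Q72541 : ∀ i, i < 72541 → P i := stepQ 72540 Q72540 (allL N72540 (tt N73283 (iv1 F224277)) (tt N40103 (iv0 D139452)) (tt N73281 (iv2 F343250)) (tt N107418 D210632) (tt N96442 F412537) (tt N81912 (iv5 F343252)) (tt N107419 D210633) (tt N64896 F343251))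
theorem Q72542 : ∀ i, i < 72542 → P i := stepQ 72541 Q72541 (allL N72541 (tt N40103 (iv1 D139453)) (tt N73283 F224276) (tt N64896 F343236) (tt N107420 D210634) (tt N96443 (iv4 F412540)) (tt N81844 F343237) (tt N48203 F343238) (tt N73281 (iv7 F343249)))
theorem Q72543 : ∀ i, i < 72543 → P i := stepQ 72542 Q72542 (allL N72542 (tt N107421 D210635) (tt N107422 D210636) (tt N73282 (iv2 F224271)) (tt N107406 (iv3 F458237)) (tt N107423 D210637) (tt N40103 (iv5 D139454)) (tt N40104 F222643) (tt N107424 D210638))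
theorem Q72544 : ∀ i, i < 72544 → P i := stepQ 72543 Q72543 (allL N72543 (tt N64896 (iv1 F343243)) (tt N73281 F224275) (tt N73283 (iv2 F224273)) (tt N107407 (iv3 F458240)) (tt N96416 (iv4 F412429)) (tt N107424 (iv5 F458286)) (tt N73277 (iv6 F224257)) (tt N40103 (iv7 D139455)))
theorem Q72545 : ∀ i, i < 72545 → P i := stepQ 72544 Q72544 (allL N72544 (tt N72265 (iv1 F222647)) (tt N40104 (iv0 D139456)) (tt N72267 (iv2 F222645)) (tt N84379 (iv3 F369079)) (tt N107335 (iv4 F457997)) (tt N59233 F222644) (tt N81841 (iv6 F343239)) (tt N59232 F222646))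
theorem Q72546 : ∀ i, i < 72546 → P i := stepQ 72545 Q72545 (allL N72545 (tt N107425 D210639) (tt N96210 (iv0 F411509)) (tt N99404 (iv2 F424419)) (tt N107426 D210640) (tt N40104 (iv4 D139457)) (tt N107427 D210641) (tt N107423 (iv6 F458285)) (tt N107428 D210642))
theorem Q72547 : ∀ i, i < 72547 → P i := stepQ 72546 Q72546 (allL N72546 (tt N59232 (iv1 F222650)) (tt N72267 F222651) (tt N72265 F222648) (tt N107417 (iv3 F458266)) (tt N107428 (iv4 F458304)) (tt N40105 F222649) (tt N81926 F406607) (tt N40104 (iv7 D139458)))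
theorem Q72548 : ∀ i, i < 72548 → P i := stepQ 72547 Q72547 (allL N72547 (tt N96495 F412758) (tt N107302 F457882) (tt N83184 (iv2 F362376)) (tt N40106 (iv3 D139460)) (tt N92344 F396771) (tt N63468 (iv5 F362383)) (tt N53606 F362381) (tt N99398 (iv7 F424408)))
theorem Q72549 : ∀ i, i < 72549 → P i := stepQ 72548 Q72548 (allL N72548 (tt N74599 (iv1 F228410)) (tt N57194 (iv0 F222655)) (tt N74568 F362373) (tt N93776 (iv3 F401857)) (tt N40106 (iv4 D139461)) (tt N71754 F222653) (tt N107429 D210643) (tt N74598 F362371))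
theorem Q72550 : ∀ i, i < 72550 → P i := stepQ 72549 Q72549 (allL N72549 (tt N53997 (iv1 F338297)) (tt N40135 F338292) (tt N51190 (iv2 F338296)) (tt N53606 (iv3 F362382)) (tt N107429 (iv4 F458309)) (tt N51189 (iv5 F338288)) (tt N40106 (iv6 D139462)) (tt N53987 F338300))
theorem Q72551 : ∀ i, i < 72551 → P i := stepQ 72550 Q72550 (allL N72550 (tt N66355 (iv1 F222658)) (tt N40114 (iv0 F222657)) (tt N83192 (iv2 F331755)) (tt N40107 (iv3 D139464)) (tt N93771 (iv4 F401841)) (tt N83111 (iv5 F331757)) (tt N43710 F331758) (tt N51192 F331754))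
theorem Q72552 : ∀ i, i < 72552 → P i := stepQ 72551 Q72551 (allL N72551 (tt N74630 F331762) (tt N76093 (iv0 F361450)) (tt N76094 (iv2 F361452)) (tt N43710 F331759) (tt N93758 (iv4 F401796)) (tt N53995 (iv5 F331760)) (tt N40107 (iv6 D139465)) (tt N53994 (iv7 F331761)))
theorem Q72553 : ∀ i, i < 72553 → P i := stepQ 72552 Q72552 (allL N72552 (tt N59036 (iv1 F224265)) (tt N59032 F222660) (tt N40109 F222659) (tt N73271 (iv3 F224243)) (tt N104531 (iv4 F446166)) (tt N40108 (iv5 D139466)) (tt N104530 F446164) (tt N73278 (iv7 F224263)))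
theorem Q72554 : ∀ i, i < 72554 → P i := stepQ 72553 Q72553 (allL N72553 (tt N107121 F457073) (tt N107430 D210644) (tt N40110 F222662) (tt N99392 (iv3 F424396)) (tt N74538 (iv4 F228328)) (tt N107431 D210645) (tt N40108 (iv6 D139467)) (tt N107432 D210646))
theorem Q72555 : ∀ i, i < 72555 → P i := stepQ 72554 Q72554 (allL N72554 (tt N73278 (iv1 F224264)) (tt N40109 (iv0 D139468)) (tt N59036 F359138) (tt N107433 D210647) (tt N107434 D210648) (tt N59034 (iv5 F359136)) (tt N106426 (iv6 F454378)) (tt N59032 F359139))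
theorem Q72556 : ∀ i, i < 72556 → P i := stepQ 72555 Q72555 (allL N72555 (tt N107435 D210649) (tt N106406 F454321) (tt N104531 (iv2 F446165)) (tt N96406 (iv3 F412375)) (tt N40109 (iv4 D139470)) (tt N105498 (iv5 F450480)) (tt N104458 F446147) (tt N73279 (iv7 F224268)))
theorem Q72557 : ∀ i, i < 72557 → P i := stepQ 72556 Q72556 (allL N72556 (tt N107432 (iv1 F458322)) (tt N40110 (iv0 D139472)) (tt N107121 (iv2 F457072)) (tt N107436 D210650) (tt N107437 D210651) (tt N83565 F349147) (tt N78100 F358664) (tt N107430 (iv7 F458315)))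
theorem Q72558 : ∀ i, i < 72558 → P i := stepQ 72557 Q72557 (allL N72557 (tt N40110 (iv1 D139473)) (tt N107432 F458321) (tt N107430 F458316) (tt N107438 D210652) (tt N107439 D210653) (tt N107440 D210654) (tt N107128 F458348) (tt N107121 F457075))
theorem Q72559 : ∀ i, i < 72559 → P i := stepQ 72558 Q72558 (allL N72558 (tt N88543 F454295) (tt N88545 (iv0 F383474)) (tt N107431 (iv2 F458318)) (tt N40112 F222665) (tt N107441 D210655) (tt N40110 (iv5 D139474)) (tt N106398 (iv6 F454289)) (tt N107442 D210656))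
theorem Q72560 : ∀ i, i < 72560 → P i := stepQ 72559 Q72559 (allL N72559 (tt N107430 (iv1 F458314)) (tt N107121 (iv0 F457423)) (tt N107432 (iv2 F458320)) (tt N40113 F222666) (tt N74542 (iv4 F228331)) (tt N107442 (iv5 F458357)) (tt N99403 (iv6 F424418)) (tt N40110 (iv7 D139475)))
theorem Q72561 : ∀ i, i < 72561 → P i := stepQ 72560 Q72560 (allL N72560 (tt N73277 (iv1 F224260)) (tt N40111 (iv0 D139476)) (tt N73274 F372261) (tt N107443 D210657) (tt N96431 (iv4 F412958)) (tt N107444 D210658) (tt N78733 F359223) (tt N73275 F372259))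
theorem Q72562 : ∀ i, i < 72562 → P i := stepQ 72561 Q72561 (allL N72561 (tt N40111 (iv1 D139477)) (tt N73277 F224259) (tt N73275 (iv2 F372258)) (tt N50437 F362785) (tt N96432 (iv4 F412494)) (tt N100857 (iv5 F430797)) (tt N50436 (iv6 F362784)) (tt N73274 (iv7 F372260)))
theorem Q72563 : ∀ i, i < 72563 → P i := stepQ 72562 Q72562 (allL N72562 (tt N101485 F433109) (tt N100988 F431168) (tt N73276 (iv2 F224253)) (tt N106398 (iv3 F454288)) (tt N107445 D210659) (tt N40111 (iv5 D139478)) (tt N40112 F222667) (tt N107446 D210660))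
theorem Q72564 : ∀ i, i < 72564 → P i := stepQ 72563 Q72563 (allL N72563 (tt N73275 (iv1 F224252)) (tt N73274 F224258) (tt N73277 (iv2 F224255)) (tt N104526 (iv3 F446140)) (tt N96407 (iv4 F412378)) (tt N107446 (iv5 F458366)) (tt N73283 (iv6 F224274)) (tt N40111 (iv7 D139479)))
theorem Q72565 : ∀ i, i < 72565 → P i := stepQ 72564 Q72564 (allL N72564 (tt N40112 (iv1 D139481)) (tt N78116 (iv0 F246033)) (tt N73997 (iv2 F226502)) (tt N88485 F384760) (tt N88489 (iv4 F384762)) (tt N72440 (iv5 F222669)) (tt N100878 (iv6 F430850)) (tt N99396 (iv7 F424403)))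
theorem Q72566 : ∀ i, i < 72566 → P i := stepQ 72565 Q72565 (allL N72565 (tt N100880 F430852) (tt N107447 D210661) (tt N99397 (iv2 F424405)) (tt N107448 D210662) (tt N40112 (iv4 D139482)) (tt N105249 (iv5 F449383)) (tt N107445 (iv6 F458365)) (tt N105248 (iv7 F449381)))
theorem Q72567 : ∀ i, i < 72567 → P i := stepQ 72566 Q72566 (allL N72566 (tt N73997 (iv1 F226504)) (tt N99396 F424402) (tt N78116 (iv2 F246031)) (tt N107442 (iv3 F458356)) (tt N105248 (iv4 F449380)) (tt N40113 F222670) (tt N107449 D210663) (tt N40112 (iv7 D139483)))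
theorem Q72568 : ∀ i, i < 72568 → P i := stepQ 72567 Q72567 (allL N72567 (tt N83192 (iv1 F362380)) (tt N51192 F362379) (tt N40114 (iv2 D139485)) (tt N99409 (iv3 F424439)) (tt N66218 F222671) (tt N107450 D210664) (tt N107451 D210665) (tt N66355 F222672))
theorem Q72569 : ∀ i, i < 72569 → P i := stepQ 72568 Q72568 (allL N72568 (tt N95186 (iv1 F410311)) (tt N95189 (iv0 F407357)) (tt N107450 (iv2 F458377)) (tt N40116 F222674) (tt N95683 (iv4 F409126)) (tt N40114 (iv5 D139486)) (tt N107452 D210666) (tt N73256 (iv7 F224219)))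
theorem Q72570 : ∀ i, i < 72570 → P i := stepQ 72569 Q72569 (allL N72569 (tt N107453 D210667) (tt N107454 D210668) (tt N107451 (iv2 F458380)) (tt N40117 F222675) (tt N42146 F336316) (tt N43790 F336317) (tt N40114 (iv6 D139487)) (tt N49056 F336318))
theorem Q72571 : ∀ i, i < 72571 → P i := stepQ 72570 Q72570 (allL N72570 (tt N53107 (iv1 F372566)) (tt N73874 (iv0 F226071)) (tt N73260 (iv2 F224225)) (tt N95688 (iv3 F409146)) (tt N40116 (iv4 D139489)) (tt N96681 (iv5 F413429)) (tt N107455 D210669) (tt N73257 (iv7 F224221)))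
theorem Q72572 : ∀ i, i < 72572 → P i := stepQ 72571 Q72571 (allL N72571 (tt N107456 D210670) (tt N107420 (iv0 F458281)) (tt N73261 (iv2 F224227)) (tt N107452 (iv3 F458386)) (tt N107455 (iv4 F458401)) (tt N107457 D210671) (tt N40116 (iv6 D139490)) (tt N107458 D210672))
theorem Q72573 : ∀ i, i < 72573 → P i := stepQ 72572 Q72572 (allL N72572 (tt N99412 (iv1 F424458)) (tt N40117 (iv0 D139491)) (tt N74256 (iv2 F349410)) (tt N107300 (iv3 F457870)) (tt N40261 F349411) (tt N107459 D210673) (tt N107460 D210674) (tt N92149 (iv7 F395977)))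
theorem Q72574 : ∀ i, i < 72574 → P i := stepQ 72573 Q72573 (allL N72573 (tt N89350 F386218) (tt N72255 (iv0 F334429)) (tt N99411 (iv2 F424447)) (tt N43790 F341130) (tt N90602 (iv4 F390218)) (tt N40117 (iv5 D139493)) (tt N107457 (iv6 F458406)) (tt N49055 F341131))
theorem Q72575 : ∀ i, i < 72575 → P i := stepQ 72574 Q72574 (allL N72574 (tt N92149 (iv1 F395976)) (tt N74256 F341125) (tt N99412 (iv2 F424453)) (tt N49056 F341126) (tt N42323 F341127) (tt N49055 F341128) (tt N78109 F341124) (tt N40117 (iv7 D139494)))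
theorem Q72576 : ∀ i, i < 72576 → P i := stepQ 72575 Q72575 (allL N72575 (tt N99409 (iv1 F424442)) (tt N40118 (iv0 D139495)) (tt N99389 F424384) (tt N107292 F457833) (tt N41140 F222679) (tt N107461 D210675) (tt N83196 (iv6 F368783)) (tt N99408 (iv7 F424437)))
theorem Q72577 : ∀ i, i < 72577 → P i := stepQ 72576 Q72576 (allL N72576 (tt N99389 F424385) (tt N99408 F424436) (tt N40118 (iv2 D139497)) (tt N66355 F222680) (tt N99718 (iv4 F425894)) (tt N107462 D210676) (tt N107463 D210677) (tt N99409 (iv7 F424441)))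
theorem Q72578 : ∀ i, i < 72578 → P i := stepQ 72577 Q72577 (allL N72577 (tt N107464 D210678) (tt N107401 F458224) (tt N107462 (iv2 F458423)) (tt N40119 F222681) (tt N85601 (iv4 F373185)) (tt N40118 (iv5 D139498)) (tt N107465 D210679) (tt N73259 (iv7 F224224)))
theorem Q72579 : ∀ i, i < 72579 → P i := stepQ 72578 Q72578 (allL N72578 (tt N107466 D210680) (tt N90752 (iv0 F457316)) (tt N107463 (iv2 F458425)) (tt N40120 F222682) (tt N99720 (iv4 F425902)) (tt N107467 D210681) (tt N40118 (iv6 D139499)) (tt N107468 D210682))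
theorem Q72580 : ∀ i, i < 72580 → P i := stepQ 72579 Q72579 (allL N72579 (tt N73874 (iv1 F226072)) (tt N53107 F372567) (tt N73257 (iv2 F224220)) (tt N53165 F372987) (tt N40119 (iv4 D139500)) (tt N107469 D210683) (tt N107470 D210684) (tt N73260 (iv7 F224226)))
theorem Q72581 : ∀ i, i < 72581 → P i := stepQ 72580 Q72580 (allL N72580 (tt N107443 (iv1 F460550)) (tt N107471 D210686) (tt N73258 (iv2 F224222)) (tt N107465 (iv3 F458430)) (tt N107470 (iv4 F458437)) (tt N107472 D210687) (tt N40119 (iv6 D139501)) (tt N107473 D210688))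
theorem Q72582 : ∀ i, i < 72582 → P i := stepQ 72581 Q72581 (allL N72581 (tt N40120 (iv1 D139503)) (tt N78109 F341121) (tt N74318 F341110) (tt N107310 (iv3 F457913)) (tt N40274 F341111) (tt N107474 D210689) (tt N76171 F341112) (tt N78106 F341113))
theorem Q72583 : ∀ i, i < 72583 → P i := stepQ 72582 Q72582 (allL N72582 (tt N100872 F430836) (tt N107475 D210690) (tt N99407 (iv2 F424431)) (tt N107467 (iv3 F458431)) (tt N107476 D210691) (tt N40120 (iv5 D139504)) (tt N107472 (iv6 F458443)) (tt N107477 D210692))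
theorem Q72584 : ∀ i, i < 72584 → P i := stepQ 72583 Q72583 (allL N72583 (tt N74318 F363481) (tt N78106 (iv0 F363482)) (tt N78109 F341123) (tt N107468 (iv3 F458432)) (tt N78277 (iv4 F363480)) (tt N107477 (iv5 F458451)) (tt N99412 (iv6 F424456)) (tt N40120 (iv7 D139505)))
theorem Q72585 : ∀ i, i < 72585 → P i := stepQ 72584 Q72584 (allL N72584 (tt N99419 (iv1 F424482)) (tt N99418 F424479) (tt N40125 F222683) (tt N107478 D210693) (tt N40121 (iv4 D139506)) (tt N99454 (iv5 F424659)) (tt N53733 (iv6 F365353)) (tt N99413 (iv7 F424461)))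
theorem Q72586 : ∀ i, i < 72586 → P i := stepQ 72585 Q72585 (allL N72585 (tt N83111 (iv1 F373283)) (tt N50634 (iv0 F373278)) (tt N83144 F369486) (tt N40123 (iv3 D139512)) (tt N94552 (iv4 F404939)) (tt N40530 F222693) (tt N94551 F404936) (tt N83145 (iv7 F369485)))
theorem Q72587 : ∀ i, i < 72587 → P i := stepQ 72586 Q72586 (allL N72586 (tt N107461 (iv1 F458422)) (tt N96696 F424444) (tt N107479 D210694) (tt N40124 (iv3 D139515)) (tt N107480 D210695) (tt N40533 F222694) (tt N107481 D210696) (tt N99415 (iv7 F424470)))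
theorem Q72588 : ∀ i, i < 72588 → P i := stepQ 72587 Q72587 (allL N72587 (tt N105643 (iv1 F451075)) (tt N105642 F451073) (tt N95242 (iv2 F407554)) (tt N89786 (iv3 F387559)) (tt N40124 (iv4 D139516)) (tt N89687 F387217) (tt N99510 (iv6 F424928)) (tt N99416 (iv7 F424472)))
theorem Q72589 : ∀ i, i < 72589 → P i := stepQ 72588 Q72588 (allL N72588 (tt N95995 F427145) (tt N107482 D210697) (tt N99414 (iv2 F424466)) (tt N107481 (iv3 F458471)) (tt N99510 (iv4 F424930)) (tt N77667 (iv5 F337090)) (tt N40124 (iv6 D139517)) (tt N107483 D210698))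
theorem Q72590 : ∀ i, i < 72590 → P i := stepQ 72589 Q72589 (allL N72589 (tt N99413 (iv1 F424464)) (tt N40125 (iv0 D139518)) (tt N99419 (iv2 F424485)) (tt N107484 D210699) (tt N40599 F222695) (tt N107485 D210700) (tt N106183 (iv6 F453498)) (tt N99418 F424481))
theorem Q72591 : ∀ i, i < 72591 → P i := stepQ 72590 Q72590 (allL N72590 (tt N40125 (iv1 D139519)) (tt N99413 (iv0 F424463)) (tt N99418 F424480) (tt N107486 D210701) (tt N40606 (iv4 F223160)) (tt N73875 F361418) (tt N73878 (iv6 F361417)) (tt N99419 (iv7 F424483)))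
theorem Q72592 : ∀ i, i < 72592 → P i := stepQ 72591 Q72591 (allL N72591 (tt N107487 D210702) (tt N107488 D210703) (tt N99454 (iv2 F424658)) (tt N76674 (iv3 F413401)) (tt N99445 (iv4 F424611)) (tt N40125 (iv5 D139520)) (tt N107489 D210704) (tt N99420 (iv7 F424489)))
theorem Q72593 : ∀ i, i < 72593 → P i := stepQ 72592 Q72592 (allL N72592 (tt N53730 (iv1 F365357)) (tt N53729 F365356) (tt N53733 F365354) (tt N96515 (iv3 F412812)) (tt N40126 F222696) (tt N107490 D210705) (tt N40125 (iv6 D139521)) (tt N53697 (iv7 F365355)))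
theorem Q72594 : ∀ i, i < 72594 → P i := stepQ 72593 Q72593 (allL N72593 (tt N83196 F365345) (tt N83070 F357439) (tt N55346 F357434) (tt N40127 (iv3 D139532)) (tt N87789 (iv4 F380507)) (tt N84398 (iv5 F369146)) (tt N107491 D210706) (tt N76199 F323762))
theorem Q72595 : ∀ i, i < 72595 → P i := stepQ 72594 Q72594 (allL N72594 (tt N74000 F323767) (tt N107460 (iv0 F458415)) (tt N44058 F323768) (tt N107491 (iv3 F458506)) (tt N42980 F323769) (tt N54766 F365556) (tt N40127 (iv6 D139535)) (tt N107125 (iv7 F457092)))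
theorem Q72596 : ∀ i, i < 72596 → P i := stepQ 72595 Q72595 (allL N72595 (tt N88377 F382804) (tt N89140 F385324) (tt N83093 F365300) (tt N40129 (iv3 D139541)) (tt N89144 (iv4 F385336)) (tt N85327 (iv5 F372251)) (tt N105260 (iv6 F449439)) (tt N89138 F386143))
theorem Q72597 : ∀ i, i < 72597 → P i := stepQ 72596 Q72596 (allL N72596 (tt N96682 F413437) (tt N96702 (iv0 F413532)) (tt N107316 (iv2 F457937)) (tt N83092 F365299) (tt N96678 F413414) (tt N107492 D210707) (tt N40130 (iv6 D139549)) (tt N104858 (iv7 F447657)))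
theorem Q72598 : ∀ i, i < 72598 → P i := stepQ 72597 Q72597 (allL N72597 (tt N88380 (iv1 F385224)) (tt N89119 F385231) (tt N40133 (iv2 D139556)) (tt N53997 (iv3 F365565)) (tt N89124 (iv4 F385259)) (tt N91419 (iv5 F393056)) (tt N107127 (iv6 F457104)) (tt N89117 (iv7 F385223)))
theorem Q72599 : ∀ i, i < 72599 → P i := stepQ 72598 Q72598 (allL N72598 (tt N85911 F374431) (tt N85913 (iv0 F374440)) (tt N91419 (iv2 F393054)) (tt N40134 F222709) (tt N91419 (iv4 F393055)) (tt N40133 (iv5 D139557)) (tt N51126 (iv6 F365276)) (tt N106611 (iv7 F455046)))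
theorem Q72600 : ∀ i, i < 72600 → P i := stepQ 72599 Q72599 (allL N72599 (tt N40134 (iv1 D139558)) (tt N40136 F222710) (tt N50847 F343253) (tt N51097 F357138) (tt N55315 F357137) (tt N44391 F222712) (tt N80628 (iv6 F343241)) (tt N44390 F222711))
theorem Q72601 : ∀ i, i < 72601 → P i := stepQ 72600 Q72600 (allL N72600 (tt N51190 F364423) (tt N53987 F364424) (tt N40135 (iv2 D139563)) (tt N89117 (iv3 F385220)) (tt N89070 (iv4 F385037)) (tt N71868 (iv5 F364422)) (tt N71870 F364421) (tt N53997 F364425))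
theorem Q72602 : ∀ i, i < 72602 → P i := stepQ 72601 Q72601 (allL N72601 (tt N66353 F343904) (tt N71693 (iv0 F364413)) (tt N71870 (iv2 F364412)) (tt N40137 F222714) (tt N71687 F364414) (tt N70974 F335551) (tt N40135 (iv6 D139565)) (tt N107131 (iv7 F457121)))
theorem Q72603 : ∀ i, i < 72603 → P i := stepQ 72602 Q72602 (allL N72602 (tt N49799 (iv1 F345084)) (tt N50435 (iv0 F345087)) (tt N50433 (iv2 F345082)) (tt N107493 D210708) (tt N40136 (iv4 D139566)) (tt N72453 F345079) (tt N49778 (iv6 F345083)) (tt N50434 F345081))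
theorem Q72604 : ∀ i, i < 72604 → P i := stepQ 72603 Q72603 (allL N72603 (tt N62571 F222715) (tt N72439 (iv0 F222716)) (tt N54671 (iv2 F343871)) (tt N70974 (iv3 F363015)) (tt N107494 D210709) (tt N40137 (iv5 D139568)) (tt N53454 F343256) (tt N73994 (iv7 F226500)))
theorem Q72605 : ∀ i, i < 72605 → P i := stepQ 72604 Q72604 (allL N72604 (tt N91262 F392442) (tt N90785 (iv0 F390856)) (tt N53922 F365281) (tt N40139 (iv3 D139581)) (tt N40140 F222718) (tt N55161 F357204) (tt N68119 F222719) (tt N41171 F222720))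
theorem Q72606 : ∀ i, i < 72606 → P i := stepQ 72605 Q72605 (allL N72605 (tt N40141 (iv1 D139589)) (tt N40147 F222727) (tt N51114 F336650) (tt N89868 (iv3 F387805)) (tt N84383 (iv4 F369100)) (tt N59252 F222729) (tt N84336 (iv6 F368954)) (tt N59251 F222728))
theorem Q72607 : ∀ i, i < 72607 → P i := stepQ 72606 Q72606 (allL N72606 (tt N48581 F329815) (tt N55315 F357136) (tt N55313 F343850) (tt N80682 F329816) (tt N40141 (iv4 D139590)) (tt N53472 F329817) (tt N46698 F329818) (tt N55314 (iv7 F345043)))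
theorem Q72608 : ∀ i, i < 72608 → P i := stepQ 72607 Q72607 (allL N72607 (tt N40142 (iv1 D139592)) (tt N40149 F222730) (tt N57971 (iv2 F222733)) (tt N90384 (iv3 F389464)) (tt N57868 F222732) (tt N85329 (iv5 F372262)) (tt N58080 (iv6 F222734)) (tt N57866 F222731))
theorem Q72609 : ∀ i, i < 72609 → P i := stepQ 72608 Q72608 (allL N72608 (tt N72925 F363560) (tt N53249 (iv0 F359360)) (tt N89628 (iv2 F387011)) (tt N40142 (iv3 D139593)) (tt N56933 F222735) (tt N61165 F349169) (tt N89553 (iv6 F386754)) (tt N62209 F222736))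
theorem Q72610 : ∀ i, i < 72610 → P i := stepQ 72609 Q72609 (allL N72609 (tt N107495 D210710) (tt N72951 F226614) (tt N62213 F222740) (tt N89553 (iv3 F386753)) (tt N40143 F222741) (tt N89550 (iv5 F386750)) (tt N40142 (iv6 D139595)) (tt N94509 (iv7 F404765)))
theorem Q72611 : ∀ i, i < 72611 → P i := stepQ 72610 Q72610 (allL N72610 (tt N83183 F365339) (tt N83167 (iv0 F365566)) (tt N83179 F365058) (tt N40144 (iv3 D139596)) (tt N40146 F222742) (tt N107496 D210711) (tt N107497 D210712) (tt N83180 (iv7 F365057)))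
theorem Q72612 : ∀ i, i < 72612 → P i := stepQ 72611 Q72611 (allL N72611 (tt N94326 F404047) (tt N66338 F222743) (tt N92370 (iv2 F396840)) (tt N107496 (iv3 F458530)) (tt N107498 D210713) (tt N40144 (iv5 D139597)) (tt N74513 (iv6 F351853)) (tt N92369 (iv7 F396838)))
theorem Q72613 : ∀ i, i < 72613 → P i := stepQ 72612 Q72612 (allL N72612 (tt N94410 (iv1 F404353)) (tt N94409 (iv0 F404346)) (tt N92371 (iv2 F396843)) (tt N107497 (iv3 F458531)) (tt N40145 F222744) (tt N73187 F351845) (tt N40144 (iv6 D139598)) (tt N102810 (iv7 F438742)))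
theorem Q72614 : ∀ i, i < 72614 → P i := stepQ 72613 Q72613 (allL N72613 (tt N68120 (iv1 F222746)) (tt N40145 (iv0 D139599)) (tt N62160 (iv2 F222747)) (tt N56395 (iv3 F222748)) (tt N74366 (iv4 F227562)) (tt N56394 F222745) (tt N70294 (iv6 F222749)) (tt N57168 (iv7 F222750)))
theorem Q72615 : ∀ i, i < 72615 → P i := stepQ 72614 Q72614 (allL N72614 (tt N40145 (iv1 D139600)) (tt N68120 F222752) (tt N57168 F222755) (tt N40171 F222756) (tt N74367 F227564) (tt N44294 (iv5 F222754)) (tt N40168 F222757) (tt N62160 F222753))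
theorem Q72616 : ∀ i, i < 72616 → P i := stepQ 72615 Q72615 (allL N72615 (tt N40146 (iv1 D139602)) (tt N53921 F365063) (tt N53283 F365342) (tt N56107 (iv3 F365341)) (tt N63169 F365343) (tt N53279 (iv5 F365340)) (tt N64654 F366479) (tt N77675 F365344))
theorem Q72617 : ∀ i, i < 72617 → P i := stepQ 72616 Q72616 (allL N72616 (tt N77675 (iv1 F365066)) (tt N53283 F365067) (tt N40146 (iv2 D139603)) (tt N53881 F365060) (tt N83179 (iv4 F365059)) (tt N107499 D210714) (tt N90496 F389827) (tt N53921 (iv7 F365061)))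
theorem Q72618 : ∀ i, i < 72618 → P i := stepQ 72617 Q72617 (allL N72617 (tt N88275 F382432) (tt N76296 (iv0 F357139)) (tt N107499 (iv2 F458540)) (tt N40147 F222758) (tt N91430 F393098) (tt N40146 (iv5 D139604)) (tt N107500 D210715) (tt N88445 F383079))
theorem Q72619 : ∀ i, i < 72619 → P i := stepQ 72618 Q72618 (allL N72618 (tt N107501 D210716) (tt N107502 D210717) (tt N90496 (iv2 F389825)) (tt N40148 F222759) (tt N107497 (iv4 F458532)) (tt N90495 F389824) (tt N40146 (iv6 D139605)) (tt N107137 (iv7 F457150)))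
theorem Q72620 : ∀ i, i < 72620 → P i := stepQ 72619 Q72619 (allL N72619 (tt N55315 (iv1 F357135)) (tt N48581 F356417) (tt N55314 (iv2 F345042)) (tt N98394 (iv3 F420760)) (tt N40147 (iv4 D139606)) (tt N53471 (iv5 F345055)) (tt N83362 F356398) (tt N55313 (iv7 F343857)))
theorem Q72621 : ∀ i, i < 72621 → P i := stepQ 72620 Q72620 (allL N72620 (tt N80625 F356430) (tt N55316 (iv0 F356406)) (tt N81494 (iv2 F356414)) (tt N107500 (iv3 F458547)) (tt N83362 (iv4 F356399)) (tt N54194 F356407) (tt N40147 (iv6 D139607)) (tt N84330 (iv7 F368926)))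
theorem Q72622 : ∀ i, i < 72622 → P i := stepQ 72621 Q72621 (allL N72621 (tt N73998 (iv1 F226511)) (tt N40148 (iv0 D139608)) (tt N96004 (iv2 F410594)) (tt N106514 (iv3 F454730)) (tt N95915 (iv4 F410244)) (tt N96247 (iv5 F411728)) (tt N70320 F224314) (tt N95007 (iv7 F406629)))
theorem Q72623 : ∀ i, i < 72623 → P i := stepQ 72622 Q72622 (allL N72622 (tt N65042 F342824) (tt N72432 F222760) (tt N81426 F357155) (tt N90495 (iv3 F389822)) (tt N107503 D210718) (tt N40148 (iv5 D139610)) (tt N54194 (iv6 F356408)) (tt N107138 (iv7 F457152)))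
theorem Q72624 : ∀ i, i < 72624 → P i := stepQ 72623 Q72623 (allL N72623 (tt N103081 (iv1 F439992)) (tt N72942 (iv0 F354205)) (tt N103080 (iv2 F439986)) (tt N40149 (iv3 D139611)) (tt N66324 F222761) (tt N96519 (iv5 F412826)) (tt N94507 (iv6 F404759)) (tt N62211 F222762))
theorem Q72625 : ∀ i, i < 72625 → P i := stepQ 72624 Q72624 (allL N72624 (tt N72199 (iv1 F222766)) (tt N40150 (iv0 D139613)) (tt N72198 F357943) (tt N104869 (iv3 F447723)) (tt N107504 D210719) (tt N54050 F357933) (tt N72934 (iv6 F357936)) (tt N72197 F357942))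
theorem Q72626 : ∀ i, i < 72626 → P i := stepQ 72625 Q72625 (allL N72625 (tt N40150 (iv1 D139614)) (tt N72199 F222770) (tt N72197 F357941) (tt N107505 D210720) (tt N107506 D210721) (tt N54049 (iv5 F357938)) (tt N107507 D210722) (tt N72198 (iv7 F357945)))
theorem Q72627 : ∀ i, i < 72627 → P i := stepQ 72626 Q72626 (allL N72626 (tt N72198 (iv1 F222771)) (tt N72197 F222769) (tt N40150 (iv2 D139615)) (tt N69846 F222767) (tt N94419 (iv4 F404409)) (tt N90118 (iv5 F388594)) (tt N93775 F401855) (tt N72199 F222768))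
theorem Q72628 : ∀ i, i < 72628 → P i := stepQ 72627 Q72627 (allL N72627 (tt N53741 (iv1 F357956)) (tt N53753 (iv0 F357935)) (tt N90118 (iv2 F388591)) (tt N40151 F222772) (tt N77285 F357937) (tt N40150 (iv5 D139616)) (tt N89852 (iv6 F387721)) (tt N72200 F222773))
theorem Q72629 : ∀ i, i < 72629 → P i := stepQ 72628 Q72628 (allL N72628 (tt N93737 F401717) (tt N93773 F401854) (tt N93775 (iv2 F401852)) (tt N40152 F222774) (tt N94420 (iv4 F404414)) (tt N93670 (iv5 F401509)) (tt N40150 (iv6 D139617)) (tt N73062 (iv7 F223760)))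
theorem Q72630 : ∀ i, i < 72630 → P i := stepQ 72629 Q72629 (allL N72629 (tt N107508 D210723) (tt N58695 (iv0 F360047)) (tt N69848 F222775) (tt N89852 F387726) (tt N70266 F222776) (tt N93786 (iv5 F401879)) (tt N40151 (iv6 D139618)) (tt N93785 F401877))
theorem Q72631 : ∀ i, i < 72631 → P i := stepQ 72630 Q72630 (allL N72630 (tt N69843 (iv1 F222777)) (tt N40152 (iv0 D139619)) (tt N69839 (iv2 F226754)) (tt N107509 D210724) (tt N74731 F228694) (tt N107510 D210725) (tt N107495 F458529) (tt N69840 (iv7 F226755)))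
theorem Q72632 : ∀ i, i < 72632 → P i := stepQ 72631 Q72631 (allL N72631 (tt N40152 (iv1 D139620)) (tt N69843 F222778) (tt N69840 F226751) (tt N93733 (iv3 F401709)) (tt N74054 (iv4 F226750)) (tt N95284 (iv5 F407716)) (tt N62175 F226752) (tt N69839 F226753))
theorem Q72633 : ∀ i, i < 72633 → P i := stepQ 72632 Q72632 (allL N72632 (tt N93302 F400314) (tt N70122 F222780) (tt N69842 F222779) (tt N93670 F401508) (tt N61805 F331019) (tt N40152 (iv5 D139621)) (tt N93786 (iv6 F401880)) (tt N73067 (iv7 F223764)))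
theorem Q72634 : ∀ i, i < 72634 → P i := stepQ 72633 Q72633 (allL N72633 (tt N57006 (iv1 F331791)) (tt N44300 F222784) (tt N68350 F222781) (tt N107511 D210726) (tt N40153 (iv4 D139622)) (tt N61810 F331023) (tt N93370 (iv6 F400556)) (tt N69838 F222782))
theorem Q72635 : ∀ i, i < 72635 → P i := stepQ 72634 Q72634 (allL N72634 (tt N69846 (iv1 F222785)) (tt N40154 (iv0 D139623)) (tt N69845 (iv2 F366693)) (tt N94973 (iv3 F406550)) (tt N100434 (iv4 F428961)) (tt N57845 (iv5 F388637)) (tt N100433 (iv6 F428958)) (tt N69844 (iv7 F366694)))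
theorem Q72636 : ∀ i, i < 72636 → P i := stepQ 72635 Q72635 (allL N72635 (tt N40154 (iv1 D139624)) (tt N69846 F222789) (tt N69844 F366689) (tt N48052 F366690) (tt N48054 F366691) (tt N57846 F372901) (tt N94961 (iv6 F406515)) (tt N69845 F366692))
theorem Q72637 : ∀ i, i < 72637 → P i := stepQ 72636 Q72636 (allL N72636 (tt N69845 (iv1 F222790)) (tt N69844 F222788) (tt N40154 (iv2 D139625)) (tt N72199 F222786) (tt N103950 (iv4 F443493)) (tt N94629 (iv5 F405306)) (tt N73069 (iv6 F223766)) (tt N69846 F222787))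
theorem Q72638 : ∀ i, i < 72638 → P i := stepQ 72637 Q72637 (allL N72637 (tt N94631 F405313) (tt N94623 (iv0 F405273)) (tt N94629 F405304) (tt N40155 F222791) (tt N107512 D210727) (tt N40154 (iv5 D139626)) (tt N107513 D210728) (tt N69847 F222792))
theorem Q72639 : ∀ i, i < 72639 → P i := stepQ 72638 Q72638 (allL N72638 (tt N91729 F444184) (tt N107514 D210729) (tt N72201 F222793) (tt N107513 (iv3 F458604)) (tt N70260 F222794) (tt N73072 (iv5 F223768)) (tt N40155 (iv6 D139627)) (tt N107515 D210730))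
theorem Q72640 : ∀ i, i < 72640 → P i := stepQ 72639 Q72639 (allL N72639 (tt N40156 (iv1 D139629)) (tt N73410 (iv0 F330569)) (tt N61997 (iv2 F330567)) (tt N107516 D210731) (tt N72442 (iv4 F222795)) (tt N56997 F330566) (tt N107517 D210732) (tt N61994 (iv7 F330568)))
theorem Q72641 : ∀ i, i < 72641 → P i := stepQ 72640 Q72640 (allL N72640 (tt N61994 (iv1 F330593)) (tt N61997 F330594) (tt N40156 (iv2 D139630)) (tt N62148 (iv3 F357039)) (tt N58993 F222796) (tt N68335 F330573) (tt N62145 (iv6 F357052)) (tt N73410 (iv7 F330571)))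
theorem Q72642 : ∀ i, i < 72642 → P i := stepQ 72641 Q72641 (allL N72641 (tt N78015 (iv1 F388804)) (tt N78004 (iv0 F342231)) (tt N62145 (iv2 F357051)) (tt N40157 F222797) (tt N58995 F222798) (tt N107518 D210733) (tt N40156 (iv6 D139631)) (tt N78014 (iv7 F339883)))
theorem Q72643 : ∀ i, i < 72643 → P i := stepQ 72642 Q72642 (allL N72642 (tt N99730 (iv1 F425951)) (tt N99147 (iv0 F423467)) (tt N94924 (iv2 F406358)) (tt N107518 (iv3 F458632)) (tt N107519 D210734) (tt N40157 (iv5 D139632)) (tt N78016 F339869) (tt N99049 (iv7 F423144)))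
theorem Q72644 : ∀ i, i < 72644 → P i := stepQ 72643 Q72643 (allL N72643 (tt N102664 F438128) (tt N93543 (iv0 F401091)) (tt N99652 (iv2 F425594)) (tt N40158 (iv3 D139633)) (tt N41122 F222799) (tt N94390 (iv5 F404222)) (tt N62117 F404225) (tt N98872 (iv7 F422650)))
theorem Q72645 : ∀ i, i < 72645 → P i := stepQ 72644 Q72644 (allL N72644 (tt N61948 F351407) (tt N40499 (iv0 F222800)) (tt N73204 F339863) (tt N62117 (iv3 F404226)) (tt N99435 (iv4 F424563)) (tt N78043 (iv5 F351404)) (tt N40158 (iv6 D139634)) (tt N43376 F351409))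
theorem Q72646 : ∀ i, i < 72646 → P i := stepQ 72645 Q72645 (allL N72645 (tt N98844 (iv1 F422551)) (tt N73409 (iv0 F330604)) (tt N107520 D210735) (tt N40159 (iv3 D139635)) (tt N74303 (iv4 F227255)) (tt N82090 F408058) (tt N43377 F322285) (tt N78036 (iv7 F404278)))
theorem Q72647 : ∀ i, i < 72647 → P i := stepQ 72646 Q72646 (allL N72646 (tt N62073 (iv1 F222804)) (tt N62086 F222803) (tt N40161 F222801) (tt N98857 (iv3 F422594)) (tt N107521 D210736) (tt N40160 (iv5 D139637)) (tt N107522 D210737) (tt N62085 F222802))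
theorem Q72648 : ∀ i, i < 72648 → P i := stepQ 72647 Q72647 (allL N72647 (tt N107523 D210738) (tt N107524 D210739) (tt N40162 F222805) (tt N98858 (iv3 F422600)) (tt N40178 F222806) (tt N107525 D210740) (tt N40160 (iv6 D139638)) (tt N99960 (iv7 F426964)))
theorem Q72649 : ∀ i, i < 72649 → P i := stepQ 72648 Q72648 (allL N72648 (tt N62505 F222807) (tt N54705 (iv0 F344565)) (tt N107521 (iv2 F458646)) (tt N71043 (iv3 F222809)) (tt N40161 (iv4 D139639)) (tt N96806 (iv5 F414043)) (tt N107526 D210741) (tt N98874 (iv7 F422658)))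
theorem Q72650 : ∀ i, i < 72650 → P i := stepQ 72649 Q72649 (allL N72649 (tt N107527 D210742) (tt N99279 (iv0 F433667)) (tt N107522 (iv2 F458652)) (tt N40163 F222813) (tt N107526 (iv4 F458667)) (tt N107528 D210743) (tt N40161 (iv6 D139640)) (tt N107529 D210744))
theorem Q72651 : ∀ i, i < 72651 → P i := stepQ 72650 Q72650 (allL N72650 (tt N99960 (iv1 F426966)) (tt N40162 (iv0 D139641)) (tt N107523 F458656) (tt N107530 D210745) (tt N99436 F426967) (tt N107531 D210746) (tt N100447 F429019) (tt N107524 (iv7 F458659)))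
theorem Q72652 : ∀ i, i < 72652 → P i := stepQ 72651 Q72651 (allL N72651 (tt N40162 (iv1 D139642)) (tt N99960 (iv0 F426965)) (tt N107524 (iv2 F458661)) (tt N107532 D210747) (tt N99437 (iv4 F424577)) (tt N107533 D210748) (tt N104182 F444572) (tt N107523 F458657))
theorem Q72653 : ∀ i, i < 72653 → P i := stepQ 72652 Q72652 (allL N72652 (tt N107534 D210749) (tt N107535 D210750) (tt N107525 (iv2 F458663)) (tt N40166 F222814) (tt N49118 F363548) (tt N40162 (iv5 D139643)) (tt N107528 (iv6 F458670)) (tt N107536 D210751))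
theorem Q72654 : ∀ i, i < 72654 → P i := stepQ 72653 Q72653 (allL N72653 (tt N107524 (iv1 F458658)) (tt N107523 F458655) (tt N99960 (iv2 F426963)) (tt N40167 F222815) (tt N40183 F222816) (tt N107536 (iv5 F458689)) (tt N77909 (iv6 F245274)) (tt N40162 (iv7 D139644)))
theorem Q72655 : ∀ i, i < 72655 → P i := stepQ 72654 Q72654 (allL N72654 (tt N81119 (iv1 F350656)) (tt N40163 (iv0 D139645)) (tt N98863 F422609) (tt N103789 (iv3 F442822)) (tt N97071 (iv4 F415322)) (tt N107537 D210752) (tt N100401 (iv6 F428813)) (tt N98864 (iv7 F422612)))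
theorem Q72656 : ∀ i, i < 72656 → P i := stepQ 72655 Q72655 (allL N72655 (tt N40163 (iv1 D139646)) (tt N81119 F350654) (tt N98864 F422614) (tt N107538 D210753) (tt N97072 (iv4 F415332)) (tt N107539 D210754) (tt N99243 (iv6 F423833)) (tt N98863 F422610))
theorem Q72657 : ∀ i, i < 72657 → P i := stepQ 72656 Q72656 (allL N72656 (tt N107540 D210755) (tt N107541 D210756) (tt N98865 (iv2 F422617)) (tt N107528 (iv3 F458669)) (tt N107542 D210757) (tt N40163 (iv5 D139647)) (tt N40166 F222817) (tt N107543 D210758))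
theorem Q72658 : ∀ i, i < 72658 → P i := stepQ 72657 Q72657 (allL N72657 (tt N98864 (iv1 F422611)) (tt N98863 F422608) (tt N81119 F350652) (tt N107529 (iv3 F458672)) (tt N77753 (iv4 F350655)) (tt N107543 (iv5 F458704)) (tt N77752 F350657) (tt N40163 (iv7 D139648)))
theorem Q72659 : ∀ i, i < 72659 → P i := stepQ 72658 Q72658 (allL N72658 (tt N107544 D210759) (tt N107517 (iv0 F458630)) (tt N107545 D210760) (tt N40164 (iv3 D139649)) (tt N95005 (iv4 F406620)) (tt N101463 (iv5 F469520)) (tt N107546 D210762) (tt N98867 (iv7 F422630)))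
theorem Q72660 : ∀ i, i < 72660 → P i := stepQ 72659 Q72659 (allL N72659 (tt N77933 (iv1 F245341)) (tt N77934 (iv0 F245351)) (tt N83540 F359523) (tt N101463 (iv3 F469519)) (tt N107547 D210763) (tt N40164 (iv5 D139650)) (tt N107548 D210764) (tt N83539 (iv7 F359527)))
theorem Q72661 : ∀ i, i < 72661 → P i := stepQ 72660 Q72660 (allL N72660 (tt N71539 (iv1 F245344)) (tt N74002 (iv0 F245343)) (tt N98866 (iv2 F422620)) (tt N107546 (iv3 F458714)) (tt N95746 (iv4 F409426)) (tt N78047 (iv5 F245599)) (tt N40164 (iv6 D139651)) (tt N98984 (iv7 F422916)))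
theorem Q72662 : ∀ i, i < 72662 → P i := stepQ 72661 Q72661 (allL N72661 (tt N77934 (iv1 F245350)) (tt N77933 (iv0 F245342)) (tt N83539 F359525) (tt N62127 F365194) (tt N83360 (iv4 F363545)) (tt N40165 (iv5 D139653)) (tt N107549 D210765) (tt N83540 F359524))
theorem Q72663 : ∀ i, i < 72663 → P i := stepQ 72662 Q72662 (allL N72662 (tt N98869 (iv1 F422640)) (tt N40166 (iv0 D139654)) (tt N98868 F422633) (tt N107550 D210766) (tt N89084 (iv4 F385099)) (tt N44255 F222818) (tt N107551 D210767) (tt N44254 (iv7 F222819)))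
theorem Q72664 : ∀ i, i < 72664 → P i := stepQ 72663 Q72663 (allL N72663 (tt N40166 (iv1 D139655)) (tt N98869 F422639) (tt N44254 F222821) (tt N107552 D210768) (tt N90872 (iv4 F391116)) (tt N44170 (iv5 F222820)) (tt N107553 D210769) (tt N98868 (iv7 F422634)))
theorem Q72665 : ∀ i, i < 72665 → P i := stepQ 72664 Q72664 (allL N72664 (tt N48917 F340567) (tt N49176 F340568) (tt N88720 (iv2 F383964)) (tt N48620 F340569) (tt N40166 (iv4 D139656)) (tt N48619 F340570) (tt N107542 (iv6 F458701)) (tt N87057 (iv7 F378220)))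
theorem Q72666 : ∀ i, i < 72666 → P i := stepQ 72665 Q72665 (allL N72665 (tt N44254 (iv1 F222823)) (tt N98868 F422635) (tt N98869 (iv2 F422636)) (tt N107536 (iv3 F458687)) (tt N87057 (iv4 F378221)) (tt N40167 F222822) (tt N107554 D210770) (tt N40166 (iv7 D139657)))
theorem Q72667 : ∀ i, i < 72667 → P i := stepQ 72666 Q72666 (allL N72666 (tt N60115 F222826) (tt N55885 (iv0 F222827)) (tt N60112 F222824) (tt N107555 D210771) (tt N40168 (iv4 D139658)) (tt N107556 D210772) (tt N74367 (iv6 F227565)) (tt N60113 F222825))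
theorem Q72668 : ∀ i, i < 72668 → P i := stepQ 72667 Q72667 (allL N72667 (tt N77916 F245295) (tt N77917 (iv0 F245298)) (tt N79599 F364885) (tt N40170 F222828) (tt N65849 (iv4 F222831)) (tt N40168 (iv5 D139659)) (tt N59339 F222830) (tt N59926 F222829))
theorem Q72669 : ∀ i, i < 72669 → P i := stepQ 72668 Q72668 (allL N72668 (tt N98915 F422770) (tt N98776 (iv0 F472699)) (tt N98913 F422840) (tt N40169 (iv3 D139660)) (tt N107555 (iv4 F458738)) (tt N107557 D210774) (tt N107558 D210775) (tt N98871 (iv7 F422646)))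
theorem Q72670 : ∀ i, i < 72670 → P i := stepQ 72669 Q72669 (allL N72669 (tt N77925 F245332) (tt N77927 (iv0 F245333)) (tt N83537 (iv2 F359519)) (tt N107557 (iv3 F458743)) (tt N83062 F359518) (tt N40169 (iv5 D139661)) (tt N107559 D210776) (tt N83534 (iv7 F359520)))
theorem Q72671 : ∀ i, i < 72671 → P i := stepQ 72670 Q72670 (allL N72670 (tt N74200 F226973) (tt N77883 F245207) (tt N62168 F222832) (tt N107558 (iv3 F458744)) (tt N40171 F222833) (tt N99064 (iv5 F423202)) (tt N40169 (iv6 D139662)) (tt N62165 F222834))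
theorem Q72672 : ∀ i, i < 72672 → P i := stepQ 72671 Q72671 (allL N72671 (tt N93496 (iv1 F426969)) (tt N99011 (iv0 F426968)) (tt N99009 F424774) (tt N40172 (iv3 D139664)) (tt N74561 (iv4 F228358)) (tt N101352 (iv5 F432749)) (tt N104181 (iv6 F444564)) (tt N98870 (iv7 F422642)))
theorem Q72673 : ∀ i, i < 72673 → P i := stepQ 72672 Q72672 (allL N72672 (tt N77927 F359507) (tt N77925 (iv0 F245331)) (tt N83534 F359515) (tt N101352 (iv3 F432747)) (tt N54812 (iv4 F359514)) (tt N40172 (iv5 D139665)) (tt N107560 D210777) (tt N83537 F359516))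
theorem Q72674 : ∀ i, i < 72674 → P i := stepQ 72673 Q72673 (allL N72673 (tt N54946 (iv1 F361887)) (tt N54944 (iv0 F340582)) (tt N55452 (iv2 F346834)) (tt N81550 (iv3 F360314)) (tt N40173 (iv4 D139666)) (tt N84559 (iv5 F369692)) (tt N59899 F222839) (tt N59878 F222840))
theorem Q72675 : ∀ i, i < 72675 → P i := stepQ 72674 Q72674 (allL N72674 (tt N66305 F222842) (tt N66301 (iv0 F223106)) (tt N98898 (iv2 F422724)) (tt N40174 (iv3 D139668)) (tt N72748 (iv4 F223104)) (tt N107561 D210778) (tt N99731 (iv6 F425953)) (tt N98906 (iv7 F422750)))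
theorem Q72676 : ∀ i, i < 72676 → P i := stepQ 72675 Q72675 (allL N72675 (tt N73348 (iv1 F224454)) (tt N99017 F423051) (tt N99233 (iv2 F423781)) (tt N107561 (iv3 F458749)) (tt N99216 (iv4 F423721)) (tt N40174 (iv5 D139669)) (tt N78052 (iv6 F361877)) (tt N99231 (iv7 F423775)))
theorem Q72677 : ∀ i, i < 72677 → P i := stepQ 72676 Q72676 (allL N72676 (tt N99017 F423052) (tt N73348 (iv0 F224453)) (tt N99231 (iv2 F423774)) (tt N98897 (iv3 F422722)) (tt N96851 (iv4 F414255)) (tt N40176 (iv5 D139673)) (tt N107562 D210779) (tt N99233 (iv7 F423784)))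
theorem Q72678 : ∀ i, i < 72678 → P i := stepQ 72677 Q72677 (allL N72677 (tt N57493 F222852) (tt N73712 F225468) (tt N40179 F222849) (tt N47411 F333955) (tt N40177 (iv4 D139679)) (tt N58860 F222851) (tt N47406 F333956) (tt N62507 F222850))
theorem Q72679 : ∀ i, i < 72679 → P i := stepQ 72678 Q72678 (allL N72678 (tt N40183 (iv1 F222859)) (tt N40178 (iv0 D139681)) (tt N40181 F349389) (tt N99618 F425445) (tt N107563 D210780) (tt N78713 F349390) (tt N43386 F349391) (tt N40182 F349392))
theorem Q72680 : ∀ i, i < 72680 → P i := stepQ 72679 Q72679 (allL N72679 (tt N40178 (iv1 D139682)) (tt N40183 F222854) (tt N40182 F349393) (tt N42327 F349395) (tt N61875 (iv4 F349398)) (tt N62779 F349396) (tt N48006 F349397) (tt N40181 F349394))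
theorem Q72681 : ∀ i, i < 72681 → P i := stepQ 72680 Q72680 (allL N72680 (tt N62507 (iv1 F222865)) (tt N40179 (iv0 D139685)) (tt N57493 (iv2 F222864)) (tt N94179 (iv3 F403571)) (tt N62082 F222863) (tt N57492 F222862) (tt N107564 D210781) (tt N73712 (iv7 F225469)))
theorem Q72682 : ∀ i, i < 72682 → P i := stepQ 72681 Q72681 (allL N72681 (tt N70086 F332294) (tt N63245 F346383) (tt N47406 F346379) (tt N41321 F222866) (tt N40180 F222867) (tt N47404 F346380) (tt N40179 (iv6 D139686)) (tt N70100 F346381))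
theorem Q72683 : ∀ i, i < 72683 → P i := stepQ 72682 Q72682 (allL N72682 (tt N107565 D210782) (tt N99006 (iv0 F423015)) (tt N107563 (iv2 F458759)) (tt N61887 (iv3 F349401)) (tt N40181 (iv4 D139693)) (tt N107566 D210783) (tt N77621 (iv6 F366493)) (tt N61875 F349400))
theorem Q72684 : ∀ i, i < 72684 → P i := stepQ 72683 Q72683 (allL N72683 (tt N42186 F360889) (tt N42182 F360890) (tt N75005 F360891) (tt N40182 (iv3 D139697)) (tt N73134 (iv4 F360894)) (tt N74999 F360892) (tt N75325 F360893) (tt N99618 (iv7 F425444)))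
theorem Q72685 : ∀ i, i < 72685 → P i := stepQ 72684 Q72684 (allL N72684 (tt N99006 F423013) (tt N107565 F458773) (tt N61875 F349399) (tt N101454 (iv3 F433017)) (tt N40182 (iv4 D139698)) (tt N101453 F433014) (tt N61871 (iv6 F349429)) (tt N107563 (iv7 F458761)))
theorem Q72686 : ∀ i, i < 72686 → P i := stepQ 72685 Q72685 (allL N72685 (tt N73708 F349381) (tt N74984 (iv0 F349375)) (tt N62779 F349377) (tt N74999 F349378) (tt N84221 (iv4 F368570)) (tt N40182 (iv5 D139699)) (tt N62771 (iv6 F349376)) (tt N78713 (iv7 F349386)))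
theorem Q72687 : ∀ i, i < 72687 → P i := stepQ 72686 Q72686 (allL N72686 (tt N73774 F335137) (tt N41546 F335138) (tt N73773 (iv2 F348973)) (tt N40184 (iv3 D139705)) (tt N81509 F335140) (tt N42005 F315691) (tt N64056 F315692) (tt N73718 (iv7 F225509)))
theorem Q72688 : ∀ i, i < 72688 → P i := stepQ 72687 Q72687 (allL N72687 (tt N42279 (iv1 F222888)) (tt N48163 F313193) (tt N73719 (iv2 F225522)) (tt N69966 F352593) (tt N67923 F336913) (tt N40187 F222887) (tt N63849 F313194) (tt N40186 (iv7 D139712)))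
theorem Q72689 : ∀ i, i < 72689 → P i := stepQ 72688 Q72688 (allL N72688 (tt N81708 F361889) (tt N41490 F361890) (tt N93885 F402275) (tt N41229 F222889) (tt N40188 (iv4 D139716)) (tt N107567 D210784) (tt N80354 F364418) (tt N93523 (iv7 F401021)))
theorem Q72690 : ∀ i, i < 72690 → P i := stepQ 72689 Q72689 (allL N72689 (tt N41149 F352561) (tt N99701 F425804) (tt N99699 (iv2 F425795)) (tt N41116 F222898) (tt N40190 (iv4 D139724)) (tt N51921 F361796) (tt N75571 (iv6 F347166)) (tt N95518 (iv7 F408448)))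
theorem Q72691 : ∀ i, i < 72691 → P i := stepQ 72690 Q72690 (allL N72690 (tt N76253 F345702) (tt N74986 F345711) (tt N62770 F345709) (tt N40191 F222899) (tt N82953 (iv4 F347299)) (tt N40190 (iv5 D139725)) (tt N62749 (iv6 F345707)) (tt N78688 F345708))
theorem Q72692 : ∀ i, i < 72692 → P i := stepQ 72691 Q72691 (allL N72691 (tt N99323 (iv1 F424100)) (tt N40379 F342464) (tt N99322 F424092) (tt N40193 (iv3 D139734)) (tt N40194 F222918) (tt N107568 D210785) (tt N74012 (iv6 F226579)) (tt N74258 (iv7 F227176)))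
theorem Q72693 : ∀ i, i < 72693 → P i := stepQ 72692 Q72692 (allL N72692 (tt N59558 (iv1 F337414)) (tt N78143 (iv0 F246264)) (tt N95096 F407017) (tt N107568 (iv3 F458782)) (tt N94445 (iv4 F404509)) (tt N40193 (iv5 D139735)) (tt N95134 F407180) (tt N59666 F364138))
theorem Q72694 : ∀ i, i < 72694 → P i := stepQ 72693 Q72693 (allL N72693 (tt N75780 F319652) (tt N74970 (iv0 F330037)) (tt N99356 (iv2 F424249)) (tt N40195 F222919) (tt N79272 F319653) (tt N40194 (iv5 D139739)) (tt N79271 F345676) (tt N74259 (iv7 F227178)))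
theorem Q72695 : ∀ i, i < 72695 → P i := stepQ 72694 Q72694 (allL N72694 (tt N47713 F353440) (tt N91535 F393536) (tt N91534 F393525) (tt N40197 F222922) (tt N74959 F319649) (tt N40196 (iv5 D139745)) (tt N41679 F319650) (tt N74257 (iv7 F227161)))
theorem Q72696 : ∀ i, i < 72696 → P i := stepQ 72695 Q72695 (allL N72695 (tt N41563 F322231) (tt N48072 F321948) (tt N48080 F321949) (tt N40202 F222929) (tt N72753 (iv4 F223161)) (tt N40202 F321953) (tt N40200 (iv6 D139754)) (tt N44056 F321950))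
theorem Q72697 : ∀ i, i < 72697 → P i := stepQ 72696 Q72696 (allL N72696 (tt N100257 (iv1 F428147)) (tt N73174 F353383) (tt N95526 (iv2 F408489)) (tt N101109 (iv3 F431712)) (tt N40202 F222930) (tt N107034 (iv5 F456726)) (tt N40201 (iv6 D139755)) (tt N95614 (iv7 F408894)))
theorem Q72698 : ∀ i, i < 72698 → P i := stepQ 72697 Q72697 (allL N72697 (tt N73714 (iv1 F225492)) (tt N40204 (iv0 D139758)) (tt N72003 (iv2 F222936)) (tt N83844 (iv3 F341551)) (tt N71982 F222934) (tt N62949 F222933) (tt N77544 F350250) (tt N71980 F222937))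
theorem Q72699 : ∀ i, i < 72699 → P i := stepQ 72698 Q72698 (allL N72698 (tt N40988 F222939) (tt N40990 F222940) (tt N73855 (iv2 F225973)) (tt N41312 F222938) (tt N72158 F333086) (tt N40204 (iv5 D139759)) (tt N68866 (iv6 F333087)) (tt N71668 (iv7 F328187)))
theorem Q72700 : ∀ i, i < 72700 → P i := stepQ 72699 Q72699 (allL N72699 (tt N77660 (iv1 F319417)) (tt N42643 F314019) (tt N73856 (iv2 F225976)) (tt N41313 F222941) (tt N40205 F222942) (tt N106246 (iv5 F453744)) (tt N40204 (iv6 D139760)) (tt N77659 (iv7 F319415)))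
theorem Q72701 : ∀ i, i < 72701 → P i := stepQ 72700 Q72700 (allL N72700 (tt N46502 F309504) (tt N42461 F309505) (tt N56104 (iv2 F311698)) (tt N40209 F222943) (tt N40956 F320360) (tt N40205 (iv5 D139763)) (tt N40208 F222944) (tt N42866 F307456))
theorem Q72702 : ∀ i, i < 72702 → P i := stepQ 72701 Q72701 (allL N72701 (tt N99625 (iv1 F425469)) (tt N99622 (iv0 F425456)) (tt N80405 F340781) (tt N40206 (iv3 D139765)) (tt N101854 (iv4 F434676)) (tt N48494 F312357) (tt N69561 F222946) (tt N80404 F340778))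
theorem Q72703 : ∀ i, i < 72703 → P i := stepQ 72702 Q72702 (allL N72702 (tt N89190 (iv1 F385506)) (tt N89189 F385505) (tt N89192 (iv2 F385512)) (tt N107569 D210786) (tt N40206 (iv4 D139766)) (tt N107570 D210787) (tt N69562 F222947) (tt N89155 (iv7 F385374)))
theorem Q72704 : ∀ i, i < 72704 → P i := stepQ 72703 Q72703 (allL N72703 (tt N99406 F424430) (tt N78277 (iv0 F363472)) (tt N90409 (iv2 F389543)) (tt N40207 (iv3 D139768)) (tt N72793 F361510) (tt N68405 F361511) (tt N89188 (iv6 F385497)) (tt N48079 F361512))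
theorem Q72705 : ∀ i, i < 72705 → P i := stepQ 72704 Q72704 (allL N72704 (tt N107172 (iv1 F457325)) (tt N40208 (iv0 D139772)) (tt N76165 F342582) (tt N107571 D210788) (tt N42476 F342583) (tt N73418 F342584) (tt N42474 F342585) (tt N73948 F342586))
theorem Q72706 : ∀ i, i < 72706 → P i := stepQ 72705 Q72705 (allL N72705 (tt N40208 (iv1 D139773)) (tt N107172 (iv0 F457326)) (tt N73948 (iv2 F342572)) (tt N107572 D210789) (tt N75963 F342568) (tt N72406 (iv5 F222949)) (tt N76134 (iv6 F342573)) (tt N76165 (iv7 F342574)))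
theorem Q72707 : ∀ i, i < 72707 → P i := stepQ 72706 Q72706 (allL N72706 (tt N41488 F366108) (tt N93891 F402302) (tt N93889 (iv2 F402293)) (tt N41264 F222969) (tt N40210 (iv4 D139786)) (tt N87976 (iv5 F381345)) (tt N43401 (iv6 F316122)) (tt N57650 F222970))
theorem Q72708 : ∀ i, i < 72708 → P i := stepQ 72707 Q72707 (allL N72707 (tt N78279 F361620) (tt N41286 F348138) (tt N99610 (iv2 F425402)) (tt N40211 (iv3 D139790)) (tt N80729 (iv4 F363407)) (tt N69140 F222977) (tt N57423 (iv6 F348134)) (tt N73986 (iv7 F226447)))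
theorem Q72709 : ∀ i, i < 72709 → P i := stepQ 72708 Q72708 (allL N72708 (tt N76203 (iv1 F351434)) (tt N81339 (iv0 F351420)) (tt N99435 (iv2 F424561)) (tt N40216 F222992) (tt N73204 (iv4 F339861)) (tt N74305 (iv5 F348062)) (tt N40214 (iv6 D139799)) (tt N63163 (iv7 F320486)))
theorem Q72710 : ∀ i, i < 72710 → P i := stepQ 72709 Q72709 (allL N72709 (tt N40215 (iv1 D139800)) (tt N40218 F222993) (tt N41540 (iv2 F222995)) (tt N55915 (iv3 F222996)) (tt N41539 F222994) (tt N92546 (iv5 F397327)) (tt N107573 D210790) (tt N74302 (iv7 F227251)))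
theorem Q72711 : ∀ i, i < 72711 → P i := stepQ 72710 Q72710 (allL N72710 (tt N61868 F222997) (tt N61864 (iv0 F396954)) (tt N107574 D210791) (tt N40215 (iv3 D139801)) (tt N78036 F404276) (tt N92420 (iv5 F396953)) (tt N78034 (iv6 F404274)) (tt N74303 (iv7 F227256)))
theorem Q72712 : ∀ i, i < 72712 → P i := stepQ 72711 Q72711 (allL N72711 (tt N99553 (iv1 F425124)) (tt N107575 D210792) (tt N74306 (iv2 F227273)) (tt N92420 F396955) (tt N97069 (iv4 F415310)) (tt N40215 (iv5 D139802)) (tt N92488 F397137) (tt N74304 (iv7 F227258)))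
theorem Q72713 : ∀ i, i < 72713 → P i := stepQ 72712 Q72712 (allL N72712 (tt N92516 (iv1 F397209)) (tt N92519 (iv0 F397214)) (tt N74307 (iv2 F227279)) (tt N78034 F404275) (tt N40216 F222998) (tt N74368 (iv5 F351850)) (tt N40215 (iv6 D139803)) (tt N63166 (iv7 F320848)))
theorem Q72714 : ∀ i, i < 72714 → P i := stepQ 72713 Q72713 (allL N72713 (tt N74116 (iv1 F226827)) (tt N55892 (iv0 F223001)) (tt N74120 F396806) (tt N40218 (iv3 D139806)) (tt N99717 (iv4 F425889)) (tt N99074 (iv5 F423241)) (tt N63167 F366243) (tt N74119 F226831))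
theorem Q72715 : ∀ i, i < 72715 → P i := stepQ 72714 Q72714 (allL N72714 (tt N107575 (iv1 F458809)) (tt N99553 (iv0 F425123)) (tt N74304 (iv2 F227257)) (tt N99074 (iv3 F423239)) (tt N58773 F223002) (tt N40218 (iv5 D139807)) (tt N106450 (iv6 F454509)) (tt N74306 (iv7 F227274)))
theorem Q72716 : ∀ i, i < 72716 → P i := stepQ 72715 Q72715 (allL N72715 (tt N74262 (iv1 F227191)) (tt N74261 F227187) (tt N55883 F223006) (tt N40219 (iv3 D139813)) (tt N66281 F223007) (tt N107576 D210793) (tt N107577 D210794) (tt N73423 (iv7 F323667)))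
theorem Q72717 : ∀ i, i < 72717 → P i := stepQ 72716 Q72716 (allL N72716 (tt N40901 F223009) (tt N73326 (iv0 F224401)) (tt N40224 F223008) (tt N107576 (iv3 F458816)) (tt N94033 (iv4 F402899)) (tt N40219 (iv5 D139814)) (tt N107578 D210795) (tt N74277 (iv7 F227223)))
theorem Q72718 : ∀ i, i < 72718 → P i := stepQ 72717 Q72717 (allL N72717 (tt N107579 D210796) (tt N107580 D210797) (tt N40225 F223010) (tt N107577 (iv3 F458822)) (tt N40221 F223011) (tt N107581 D210798) (tt N40219 (iv6 D139815)) (tt N107582 D210799))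
theorem Q72719 : ∀ i, i < 72719 → P i := stepQ 72718 Q72718 (allL N72718 (tt N40904 F223013) (tt N73399 F224599) (tt N40226 F223012) (tt N62390 F358016) (tt N40220 (iv4 D139816)) (tt N85713 F373626) (tt N73403 (iv6 F358017)) (tt N73398 (iv7 F224593)))
theorem Q72720 : ∀ i, i < 72720 → P i := stepQ 72719 Q72719 (allL N72719 (tt N40231 (iv1 F223019)) (tt N40221 (iv0 D139818)) (tt N40228 F333632) (tt N99344 F425940) (tt N107583 D210800) (tt N61408 (iv5 F333622)) (tt N63180 F333623) (tt N40229 F333633))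
theorem Q72721 : ∀ i, i < 72721 → P i := stepQ 72720 Q72720 (allL N72720 (tt N40221 (iv1 D139819)) (tt N40231 F223015) (tt N40229 F333636) (tt N99437 (iv3 F424575)) (tt N107584 D210801) (tt N41655 F318731) (tt N41410 F318732) (tt N40228 F333637))
theorem Q72722 : ∀ i, i < 72722 → P i := stepQ 72721 Q72721 (allL N72721 (tt N40229 (iv1 F223020)) (tt N40228 F223021) (tt N40231 F223018) (tt N56084 (iv3 F318500)) (tt N107582 (iv4 F458841)) (tt N56083 F333653) (tt N74309 (iv6 F227295)) (tt N40221 (iv7 D139821)))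
theorem Q72723 : ∀ i, i < 72723 → P i := stepQ 72722 Q72722 (allL N72722 (tt N55979 F223024) (tt N40587 F223025) (tt N55981 F223022) (tt N73810 F349979) (tt N95795 (iv4 F409693)) (tt N40222 (iv5 D139822)) (tt N92449 (iv6 F397035)) (tt N55980 F223023))
theorem Q72724 : ∀ i, i < 72724 → P i := stepQ 72723 Q72723 (allL N72723 (tt N74722 F245706) (tt N40487 F245707) (tt N74276 (iv2 F227221)) (tt N107360 (iv3 F458092)) (tt N74680 (iv4 F228552)) (tt N94247 (iv5 F403824)) (tt N40222 (iv6 D139823)) (tt N63171 (iv7 F343138)))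
theorem Q72725 : ∀ i, i < 72725 → P i := stepQ 72724 Q72724 (allL N72724 (tt N104647 (iv1 F446678)) (tt N93571 F401185) (tt N66516 (iv2 F349986)) (tt N40223 (iv3 D139824)) (tt N71458 F223026) (tt N55938 F336173) (tt N63172 (iv6 F366345)) (tt N74275 (iv7 F227220)))
theorem Q72726 : ∀ i, i < 72726 → P i := stepQ 72725 Q72725 (allL N72725 (tt N40587 F223029) (tt N55979 F223030) (tt N55980 F223027) (tt N55938 (iv3 F336170)) (tt N66400 F336172) (tt N40223 (iv5 D139825)) (tt N94327 (iv6 F404050)) (tt N55981 F223028))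
theorem Q72727 : ∀ i, i < 72727 → P i := stepQ 72726 Q72726 (allL N72726 (tt N92547 (iv1 F397332)) (tt N58753 F353477) (tt N94033 F402900) (tt N96808 (iv3 F414055)) (tt N40224 (iv4 D139827)) (tt N58770 (iv5 F223032)) (tt N107585 D210802) (tt N74279 (iv7 F227228)))
theorem Q72728 : ∀ i, i < 72728 → P i := stepQ 72727 Q72727 (allL N72727 (tt N107577 F458824) (tt N107586 D210803) (tt N107578 (iv2 F458825)) (tt N60116 F223033) (tt N107585 (iv4 F458853)) (tt N107587 D210804) (tt N40224 (iv6 D139828)) (tt N107588 D210805))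
theorem Q72729 : ∀ i, i < 72729 → P i := stepQ 72728 Q72728 (allL N72728 (tt N107582 (iv1 F458843)) (tt N40225 (iv0 D139829)) (tt N107579 F458829) (tt N107589 D210806) (tt N61432 F364628) (tt N107590 D210807) (tt N77766 (iv6 F381025)) (tt N107580 (iv7 F458834)))
theorem Q72730 : ∀ i, i < 72730 → P i := stepQ 72729 Q72729 (allL N72729 (tt N40225 (iv1 D139830)) (tt N107582 F458842) (tt N107580 (iv2 F458837)) (tt N107591 D210808) (tt N74686 (iv4 F364530)) (tt N107592 D210809) (tt N104649 (iv6 F446689)) (tt N107579 F458831))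
theorem Q72731 : ∀ i, i < 72731 → P i := stepQ 72730 Q72730 (allL N72730 (tt N107593 D210810) (tt N107251 (iv0 F457651)) (tt N107581 (iv2 F458838)) (tt N60114 F223034) (tt N107594 D210811) (tt N40225 (iv5 D139831)) (tt N107587 (iv6 F458861)) (tt N107595 D210812))
theorem Q72732 : ∀ i, i < 72732 → P i := stepQ 72731 Q72731 (allL N72731 (tt N107580 (iv1 F458833)) (tt N107579 F458832) (tt N107582 (iv2 F458840)) (tt N60115 F223035) (tt N40231 F223036) (tt N107595 (iv5 F458873)) (tt N74284 (iv6 F227234)) (tt N40225 (iv7 D139832)))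
theorem Q72733 : ∀ i, i < 72733 → P i := stepQ 72732 Q72732 (allL N72732 (tt N73398 (iv1 F224595)) (tt N40226 (iv0 D139833)) (tt N40904 (iv2 F223038)) (tt N106808 F455770) (tt N40898 F223037) (tt N92557 (iv5 F397360)) (tt N107596 D210813) (tt N73399 (iv7 F224600)))
theorem Q72734 : ∀ i, i < 72734 → P i := stepQ 72733 Q72733 (allL N72733 (tt N40226 (iv1 D139834)) (tt N73398 (iv0 F224594)) (tt N73399 F224598) (tt N49730 (iv3 F322925)) (tt N40906 (iv4 F223041)) (tt N58666 F223040) (tt N42577 F353155) (tt N40904 F223039))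
theorem Q72735 : ∀ i, i < 72735 → P i := stepQ 72734 Q72734 (allL N72734 (tt N66692 F223044) (tt N58538 F223045) (tt N85713 (iv2 F373622)) (tt N41657 F223043) (tt N58771 (iv4 F223046)) (tt N40226 (iv5 D139835)) (tt N45967 F353240) (tt N73400 (iv7 F224603)))
theorem Q72736 : ∀ i, i < 72736 → P i := stepQ 72735 Q72735 (allL N72735 (tt N91455 F393207) (tt N107596 (iv0 F458879)) (tt N73403 F358018) (tt N41658 F223047) (tt N40227 F223048) (tt N107597 D210814) (tt N40226 (iv6 D139836)) (tt N87424 (iv7 F379303)))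
theorem Q72737 : ∀ i, i < 72737 → P i := stepQ 72736 Q72736 (allL N72736 (tt N82332 (iv1 F334454)) (tt N61351 (iv0 F333615)) (tt N63807 (iv2 F334446)) (tt N40233 F223049) (tt N61347 F334445) (tt N40227 (iv5 D139839)) (tt N40230 F223050) (tt N63810 (iv7 F333603)))
theorem Q72738 : ∀ i, i < 72738 → P i := stepQ 72737 Q72737 (allL N72737 (tt N73321 (iv1 F333610)) (tt N42572 F321728) (tt N41712 F319827) (tt N40234 F223051) (tt N87424 (iv4 F379302)) (tt N63810 F333601) (tt N42593 (iv6 F322660)) (tt N40227 (iv7 D139840)))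
theorem Q72739 : ∀ i, i < 72739 → P i := stepQ 72738 Q72738 (allL N72738 (tt N99439 (iv1 F424586)) (tt N91543 (iv0 F393581)) (tt N99436 F424570) (tt N40228 (iv3 D139842)) (tt N107523 (iv4 F458653)) (tt N80451 (iv5 F364631)) (tt N77772 F364629) (tt N99437 (iv7 F424573)))
theorem Q72740 : ∀ i, i < 72740 → P i := stepQ 72739 Q72739 (allL N72739 (tt N107598 D210815) (tt N107573 F458804) (tt N107583 (iv2 F458844)) (tt N107599 D210816) (tt N40228 (iv4 D139843)) (tt N107600 D210817) (tt N77773 F364630) (tt N107584 (iv7 F458850)))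
theorem Q72741 : ∀ i, i < 72741 → P i := stepQ 72740 Q72740 (allL N72740 (tt N74156 F420705) (tt N99346 F424202) (tt N99345 (iv2 F463263)) (tt N40229 (iv3 D139847)) (tt N95568 (iv4 F408695)) (tt N107601 D210819) (tt N95567 F408692) (tt N99344 (iv7 F425942)))
theorem Q72742 : ∀ i, i < 72742 → P i := stepQ 72741 Q72741 (allL N72741 (tt N107573 F458803) (tt N107598 F458888) (tt N107584 (iv2 F458848)) (tt N92348 (iv3 F396792)) (tt N40229 (iv4 D139848)) (tt N107602 D210820) (tt N92346 F396789) (tt N107583 (iv7 F458846)))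
theorem Q72743 : ∀ i, i < 72743 → P i := stepQ 72742 Q72742 (allL N72742 (tt N61449 (iv1 F333645)) (tt N61445 F333638) (tt N41655 F333639) (tt N107601 (iv3 F458891)) (tt N98096 (iv4 F419447)) (tt N40229 (iv5 D139849)) (tt N41625 F333640) (tt N61408 F333641))
theorem Q72744 : ∀ i, i < 72744 → P i := stepQ 72743 Q72743 (allL N72743 (tt N61247 F334434) (tt N74482 F334435) (tt N63809 F334444) (tt N44030 F363834) (tt N40230 (iv4 D139853)) (tt N61453 F334442) (tt N61347 (iv6 F334443)) (tt N74469 (iv7 F366301)))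
theorem Q72745 : ∀ i, i < 72745 → P i := stepQ 72744 Q72744 (allL N72744 (tt N46627 F335051) (tt N40452 F335052) (tt N73589 (iv2 F350221)) (tt N40232 (iv3 D139855)) (tt N56309 F315567) (tt N41705 F315568) (tt N42652 F315569) (tt N73401 (iv7 F224656)))
theorem Q72746 : ∀ i, i < 72746 → P i := stepQ 72745 Q72745 (allL N72745 (tt N42302 (iv1 F223066)) (tt N42613 F313166) (tt N73402 (iv2 F224670)) (tt N63810 (iv3 F333602)) (tt N68409 (iv4 F336904)) (tt N40234 F223065) (tt N57486 F313167) (tt N40233 (iv7 D139862)))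
theorem Q72747 : ∀ i, i < 72747 → P i := stepQ 72746 Q72746 (allL N72746 (tt N66300 F223079) (tt N69398 (iv0 F325512)) (tt N71463 F223081) (tt N40237 (iv3 D139869)) (tt N95516 (iv4 F408432)) (tt N60781 F223088) (tt N42637 F322632) (tt N54319 (iv7 F322564)))
theorem Q72748 : ∀ i, i < 72748 → P i := stepQ 72747 Q72747 (allL N72747 (tt N67763 (iv1 F354196)) (tt N67633 (iv0 F354176)) (tt N99303 (iv2 F424007)) (tt N40241 (iv3 D139882)) (tt N40351 F223101) (tt N66480 F223102) (tt N42679 F322627) (tt N73426 (iv7 F322102)))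
theorem Q72749 : ∀ i, i < 72749 → P i := stepQ 72748 Q72748 (allL N72748 (tt N67745 F350870) (tt N71360 F350877) (tt N99265 (iv2 F423871)) (tt N40242 (iv3 D139884)) (tt N72674 F223104) (tt N66481 F223105) (tt N62693 (iv6 F357074)) (tt N73425 (iv7 F322090)))
theorem Q72750 : ∀ i, i < 72750 → P i := stepQ 72749 Q72749 (allL N72749 (tt N74594 F366103) (tt N78129 (iv0 F366107)) (tt N99426 (iv2 F424525)) (tt N40244 (iv3 D139901)) (tt N99627 (iv4 F425478)) (tt N68265 F366104) (tt N63802 (iv6 F366105)) (tt N65385 (iv7 F366106)))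
theorem Q72751 : ∀ i, i < 72751 → P i := stepQ 72750 Q72750 (allL N72750 (tt N78131 F342386) (tt N40275 F342392) (tt N80350 F357371) (tt N40247 (iv3 D139914)) (tt N72058 (iv4 F339043)) (tt N70459 F223132) (tt N44485 F314534) (tt N74001 (iv7 F226529)))
theorem Q72752 : ∀ i, i < 72752 → P i := stepQ 72751 Q72751 (allL N72751 (tt N107358 (iv1 F458081)) (tt N102748 (iv0 F438475)) (tt N71440 F223155) (tt N40254 (iv3 D139929)) (tt N70893 F223156) (tt N107603 D210821) (tt N77318 F365843) (tt N71437 F223157))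
theorem Q72753 : ∀ i, i < 72753 → P i := stepQ 72752 Q72752 (allL N72752 (tt N40606 F223158) (tt N40599 F223159) (tt N99428 (iv2 F424536)) (tt N107603 (iv3 F458898)) (tt N88856 F388433) (tt N40254 (iv5 D139930)) (tt N88855 (iv6 F388431)) (tt N99427 (iv7 F424533)))
theorem Q72754 : ∀ i, i < 72754 → P i := stepQ 72753 Q72753 (allL N72753 (tt N76204 F351437) (tt N76201 (iv0 F353382)) (tt N82168 F366207) (tt N77318 (iv3 F365842)) (tt N72695 F223161) (tt N107604 D210822) (tt N40254 (iv6 D139931)) (tt N77676 (iv7 F366206)))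
theorem Q72755 : ∀ i, i < 72755 → P i := stepQ 72754 Q72754 (allL N72754 (tt N40599 F223162) (tt N40606 F223163) (tt N99427 (iv2 F424530)) (tt N95019 (iv3 F406667)) (tt N107605 D210823) (tt N40255 (iv5 D139932)) (tt N85122 (iv6 F371695)) (tt N99428 (iv7 F424538)))
theorem Q72756 : ∀ i, i < 72756 → P i := stepQ 72755 Q72755 (allL N72755 (tt N40256 (iv1 D139934)) (tt N99429 F424545) (tt N93857 (iv2 F402177)) (tt N51118 F357569) (tt N41455 (iv4 F223164)) (tt N54032 (iv5 F357570)) (tt N51117 (iv6 F357571)) (tt N93855 (iv7 F402165)))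
theorem Q72757 : ∀ i, i < 72757 → P i := stepQ 72756 Q72756 (allL N72756 (tt N93855 (iv1 F402167)) (tt N93857 (iv0 F402182)) (tt N40256 (iv2 D139935)) (tt N58992 F223165) (tt N74599 (iv4 F228409)) (tt N96120 (iv5 F411139)) (tt N106790 F455690) (tt N99429 (iv7 F424543)))
theorem Q72758 : ∀ i, i < 72758 → P i := stepQ 72757 Q72757 (allL N72757 (tt N96109 (iv1 F411100)) (tt N96123 F411153) (tt N96120 F411141) (tt N40257 F223166) (tt N107606 D210824) (tt N40256 (iv5 D139936)) (tt N107607 D210825) (tt N96119 F411136))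
theorem Q72759 : ∀ i, i < 72759 → P i := stepQ 72758 Q72758 (allL N72758 (tt N106059 F452947) (tt N106765 (iv0 F455589)) (tt N106790 (iv2 F455691)) (tt N40258 F223167) (tt N74600 (iv4 F228413)) (tt N107608 D210826) (tt N40256 (iv6 D139937)) (tt N106789 (iv7 F464472)))
theorem Q72760 : ∀ i, i < 72760 → P i := stepQ 72759 Q72759 (allL N72759 (tt N40270 (iv1 F223168)) (tt N40257 (iv0 D139938)) (tt N73342 (iv2 F224426)) (tt N106830 (iv3 F455874)) (tt N85420 F372565) (tt N40887 F223169) (tt N85419 F372582) (tt N40950 (iv7 F223170)))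
theorem Q72761 : ∀ i, i < 72761 → P i := stepQ 72760 Q72760 (allL N72760 (tt N40257 (iv1 D139939)) (tt N40270 F223172) (tt N40950 (iv2 F223174)) (tt N69713 (iv3 F223175)) (tt N88891 (iv4 F384443)) (tt N40946 F223173) (tt N107609 D210828) (tt N73342 (iv7 F224427)))
theorem Q72762 : ∀ i, i < 72762 → P i := stepQ 72761 Q72761 (allL N72761 (tt N73252 (iv1 F224208)) (tt N62406 F223176) (tt N73263 F224233) (tt N107610 D210829) (tt N40257 (iv4 D139940)) (tt N107487 (iv5 F458491)) (tt N107611 D210830) (tt N73262 F224230))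
theorem Q72763 : ∀ i, i < 72763 → P i := stepQ 72762 Q72762 (allL N72762 (tt N107612 D210831) (tt N107613 D210832) (tt N76807 F363778) (tt N107607 (iv3 F458924)) (tt N107611 (iv4 F458944)) (tt N107614 D210833) (tt N40257 (iv6 D139941)) (tt N107615 D210834))
theorem Q72764 : ∀ i, i < 72764 → P i := stepQ 72763 Q72763 (allL N72763 (tt N99443 (iv1 F424603)) (tt N40258 (iv0 D139942)) (tt N92222 (iv2 F396338)) (tt N107616 D210835) (tt N74320 (iv4 F359173)) (tt N107617 D210836) (tt N77682 F359207) (tt N99441 (iv7 F424594)))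
theorem Q72765 : ∀ i, i < 72765 → P i := stepQ 72764 Q72764 (allL N72764 (tt N40258 (iv1 D139943)) (tt N99443 F424602) (tt N99441 F424596) (tt N95009 F406633) (tt N74321 (iv4 F334971)) (tt N107618 D210837) (tt N107140 F457164) (tt N92222 (iv7 F396339)))
theorem Q72766 : ∀ i, i < 72766 → P i := stepQ 72765 Q72765 (allL N72765 (tt N107619 D210838) (tt N107620 D210839) (tt N99442 (iv2 F424597)) (tt N107608 (iv3 F458932)) (tt N106591 (iv4 F454979)) (tt N40258 (iv5 D139944)) (tt N107614 (iv6 F458950)) (tt N107621 D210840))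
theorem Q72767 : ∀ i, i < 72767 → P i := stepQ 72766 Q72766 (allL N72766 (tt N99441 (iv1 F424593)) (tt N92222 (iv0 F396340)) (tt N99443 (iv2 F424599)) (tt N106789 (iv3 F464470)) (tt N40263 F223177) (tt N107621 (iv5 F458967)) (tt N78130 F361515) (tt N40258 (iv7 D139945)))
theorem Q72768 : ∀ i, i < 72768 → P i := stepQ 72767 Q72767 (allL N72767 (tt N40259 (iv1 D139947)) (tt N40272 F223181) (tt N40952 (iv2 F223182)) (tt N75121 F230298) (tt N40947 (iv4 F223183)) (tt N88888 (iv5 F384431)) (tt N92599 (iv6 F397573)) (tt N73362 (iv7 F224498)))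
theorem Q72769 : ∀ i, i < 72769 → P i := stepQ 72768 Q72768 (allL N72768 (tt N91175 (iv1 F392173)) (tt N91174 F392172) (tt N91177 (iv2 F392177)) (tt N40259 (iv3 D139948)) (tt N86783 (iv4 F377175)) (tt N105040 (iv5 F448516)) (tt N90871 (iv6 F391113)) (tt N73363 (iv7 F224500)))
theorem Q72770 : ∀ i, i < 72770 → P i := stepQ 72769 Q72769 (allL N72769 (tt N70418 (iv1 F360240)) (tt N89663 (iv0 F387151)) (tt N73372 (iv2 F224526)) (tt N105040 (iv3 F448518)) (tt N107488 (iv4 F458497)) (tt N40259 (iv5 D139949)) (tt N70367 (iv6 F359694)) (tt N73364 (iv7 F224502)))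
theorem Q72771 : ∀ i, i < 72771 → P i := stepQ 72770 Q72770 (allL N72770 (tt N73376 (iv1 F224537)) (tt N40260 (iv0 D139951)) (tt N73374 F336863) (tt N73589 F350224) (tt N77562 F364489) (tt N98729 (iv5 F422050)) (tt N77560 (iv6 F335027)) (tt N71981 F334139))
theorem Q72772 : ∀ i, i < 72772 → P i := stepQ 72771 Q72771 (allL N72771 (tt N71981 (iv1 F336867)) (tt N73374 F224535) (tt N73376 (iv2 F224533)) (tt N46617 F336855) (tt N90868 (iv4 F391098)) (tt N46615 F336856) (tt N73367 (iv6 F224509)) (tt N40260 (iv7 D139954)))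
theorem Q72773 : ∀ i, i < 72773 → P i := stepQ 72772 Q72772 (allL N72772 (tt N91535 (iv1 F393535)) (tt N47713 F359175) (tt N74257 F335037) (tt N99356 (iv3 F424250)) (tt N56087 F335038) (tt N40261 (iv5 D139958)) (tt N47702 F335039) (tt N91534 (iv7 F393527)))
theorem Q72774 : ∀ i, i < 72774 → P i := stepQ 72773 Q72773 (allL N72773 (tt N40290 F359180) (tt N42468 F332419) (tt N62573 F360570) (tt N66906 (iv3 F360569)) (tt N107460 (iv4 F458413)) (tt N47703 F332420) (tt N40261 (iv6 D139959)) (tt N74003 (iv7 F341081)))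
theorem Q72775 : ∀ i, i < 72775 → P i := stepQ 72774 Q72774 (allL N72774 (tt N72281 F359197) (tt N40262 (iv0 D139965)) (tt N62594 F359198) (tt N66646 F359199) (tt N42208 F359200) (tt N56106 F359201) (tt N41747 F359202) (tt N72276 F359203))
theorem Q72776 : ∀ i, i < 72776 → P i := stepQ 72775 Q72775 (allL N72775 (tt N62789 F334966) (tt N74868 F334967) (tt N74867 (iv2 F339441)) (tt N76036 (iv3 F334970)) (tt N40262 (iv4 D139967)) (tt N70666 F334968) (tt N45074 F334969) (tt N74866 (iv7 F355712)))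
theorem Q72777 : ∀ i, i < 72777 → P i := stepQ 72776 Q72776 (allL N72776 (tt N72276 (iv1 F341091)) (tt N62594 F341092) (tt N72281 F359204) (tt N66635 F341043) (tt N74866 (iv4 F341044)) (tt N40263 F223188) (tt N104259 (iv6 F444990)) (tt N40262 (iv7 D139968)))
theorem Q72778 : ∀ i, i < 72778 → P i := stepQ 72777 Q72777 (allL N72777 (tt N56093 F323306) (tt N40288 F323753) (tt N41418 F323307) (tt N61378 F323308) (tt N43221 F323309) (tt N41416 F323310) (tt N40264 (iv6 D139969)) (tt N43374 F323311))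
theorem Q72779 : ∀ i, i < 72779 → P i := stepQ 72778 Q72778 (allL N72778 (tt N62214 F223192) (tt N62216 (iv0 F223193)) (tt N40266 F223189) (tt N56890 F223190) (tt N40265 (iv4 D139970)) (tt N99087 (iv5 F423286)) (tt N107622 D210841) (tt N61919 F223191))
theorem Q72780 : ∀ i, i < 72780 → P i := stepQ 72779 Q72779 (allL N72779 (tt N62094 F223195) (tt N62082 F223196) (tt N40267 F223194) (tt N73361 (iv3 F224490)) (tt N99579 (iv4 F425261)) (tt N40265 (iv5 D139971)) (tt N77633 F361083) (tt N73368 (iv7 F224515)))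
theorem Q72781 : ∀ i, i < 72781 → P i := stepQ 72780 Q72780 (allL N72780 (tt N74310 F349481) (tt N107623 D210842) (tt N40268 F223197) (tt N74594 (iv3 F228406)) (tt N107622 (iv4 F458970)) (tt N107624 D210843) (tt N40265 (iv6 D139972)) (tt N107625 D210844))
theorem Q72782 : ∀ i, i < 72782 → P i := stepQ 72781 Q72781 (allL N72781 (tt N82079 F362577) (tt N76792 (iv0 F341137)) (tt N107622 (iv2 F458968)) (tt N99090 (iv3 F423304)) (tt N40268 F223200) (tt N107626 D210845) (tt N40266 (iv6 D139974)) (tt N107627 D210846))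
theorem Q72783 : ∀ i, i < 72783 → P i := stepQ 72782 Q72782 (allL N72782 (tt N73368 (iv1 F224516)) (tt N40267 (iv0 D139975)) (tt N62094 (iv2 F223202)) (tt N73564 (iv3 F225024)) (tt N73712 (iv4 F225466)) (tt N62084 F223201) (tt N103100 (iv6 F440073)) (tt N62082 F223203))
theorem Q72784 : ∀ i, i < 72784 → P i := stepQ 72783 Q72783 (allL N72783 (tt N107628 D210847) (tt N42588 F362054) (tt N77633 F361082) (tt N40273 F223204) (tt N70070 (iv4 F346119)) (tt N88536 (iv5 F383448)) (tt N40267 (iv6 D139976)) (tt N70069 (iv7 F334129)))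
theorem Q72785 : ∀ i, i < 72785 → P i := stepQ 72784 Q72784 (allL N72784 (tt N107625 (iv1 F458992)) (tt N40268 (iv0 D139977)) (tt N74310 (iv2 F363474)) (tt N81688 F363473) (tt N98876 (iv4 F422667)) (tt N81686 (iv5 F363475)) (tt N78124 (iv6 F363476)) (tt N107623 (iv7 F458974)))
theorem Q72786 : ∀ i, i < 72786 → P i := stepQ 72785 Q72785 (allL N72785 (tt N40268 (iv1 D139978)) (tt N107625 F458991) (tt N107623 (iv2 F458979)) (tt N63150 (iv3 F363478)) (tt N98877 F422674) (tt N94135 (iv5 F403379)) (tt N63148 (iv6 F363479)) (tt N74310 F363477))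
theorem Q72787 : ∀ i, i < 72787 → P i := stepQ 72786 Q72786 (allL N72786 (tt N107629 D210848) (tt N107630 D210849) (tt N107624 (iv2 F458981)) (tt N40275 F223205) (tt N100936 (iv4 F431025)) (tt N40268 (iv5 D139979)) (tt N88536 (iv6 F383447)) (tt N107631 D210850))
theorem Q72788 : ∀ i, i < 72788 → P i := stepQ 72787 Q72787 (allL N72787 (tt N107623 (iv1 F458973)) (tt N74310 F458980) (tt N107625 (iv2 F458987)) (tt N40276 F223206) (tt N107627 (iv4 F458993)) (tt N107631 (iv5 F459016)) (tt N99439 (iv6 F424585)) (tt N40268 (iv7 D139980)))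
theorem Q72789 : ∀ i, i < 72789 → P i := stepQ 72788 Q72788 (allL N72788 (tt N95942 (iv1 F410372)) (tt N62039 (iv0 F223210)) (tt N95944 F410378) (tt N40270 F223207) (tt N76809 F363772) (tt N40269 (iv5 D139981)) (tt N107632 D210851) (tt N76808 (iv7 F363773)))
theorem Q72790 : ∀ i, i < 72790 → P i := stepQ 72789 Q72789 (allL N72789 (tt N105134 F448944) (tt N99385 (iv0 F424372)) (tt N105136 (iv2 F448949)) (tt N40271 F223208) (tt N99090 (iv4 F423305)) (tt N107633 D210852) (tt N40269 (iv6 D139982)) (tt N105135 F448946))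
theorem Q72791 : ∀ i, i < 72791 → P i := stepQ 72790 Q72790 (allL N72790 (tt N62406 F223209) (tt N73252 (iv0 F224207)) (tt N73262 F224229) (tt N107634 D210853) (tt N40270 (iv4 D139983)) (tt N107488 (iv5 F458496)) (tt N107635 D210854) (tt N73263 (iv7 F224231)))
theorem Q72792 : ∀ i, i < 72792 → P i := stepQ 72791 Q72791 (allL N72791 (tt N107636 D210855) (tt N107637 D210856) (tt N99431 (iv2 F424548)) (tt N107632 (iv3 F459020)) (tt N107635 (iv4 F459033)) (tt N107638 D210857) (tt N40270 (iv6 D139984)) (tt N107639 D210858))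
theorem Q72793 : ∀ i, i < 72793 → P i := stepQ 72792 Q72792 (allL N72792 (tt N78130 (iv1 F361517)) (tt N40271 (iv0 D139985)) (tt N82167 (iv2 F348291)) (tt N107113 (iv3 F457041)) (tt N65289 F348290) (tt N107640 D210859) (tt N65288 (iv6 F348292)) (tt N99432 (iv7 F424550)))
theorem Q72794 : ∀ i, i < 72794 → P i := stepQ 72793 Q72793 (allL N72793 (tt N40271 (iv1 D139986)) (tt N78130 F361509) (tt N99432 (iv2 F424552)) (tt N107641 D210860) (tt N72703 (iv4 F361510)) (tt N107642 D210861) (tt N107143 F457185) (tt N82167 F361507))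
theorem Q72795 : ∀ i, i < 72795 → P i := stepQ 72794 Q72794 (allL N72794 (tt N107643 D210862) (tt N107644 D210863) (tt N99433 (iv2 F424555)) (tt N107633 (iv3 F459025)) (tt N107645 D210864) (tt N40271 (iv5 D139987)) (tt N107638 (iv6 F459043)) (tt N107646 D210865))
theorem Q72796 : ∀ i, i < 72796 → P i := stepQ 72795 Q72795 (allL N72795 (tt N99432 (iv1 F424549)) (tt N82167 F361516) (tt N78130 F361514) (tt N105135 (iv3 F448945)) (tt N40276 F223211) (tt N107646 (iv5 F459058)) (tt N99443 (iv6 F424601)) (tt N40271 (iv7 D139988)))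
theorem Q72797 : ∀ i, i < 72797 → P i := stepQ 72796 Q72796 (allL N72796 (tt N105282 F449544) (tt N75104 (iv0 F230277)) (tt N91173 (iv2 F392165)) (tt N40272 (iv3 D139989)) (tt N99584 (iv4 F425282)) (tt N107647 D210866) (tt N91172 F392164) (tt N73371 (iv7 F224525)))
theorem Q72798 : ∀ i, i < 72798 → P i := stepQ 72797 Q72797 (allL N72797 (tt N89663 (iv1 F387152)) (tt N70418 (iv0 F360239)) (tt N73364 (iv2 F224501)) (tt N107647 (iv3 F459059)) (tt N107487 (iv4 F458492)) (tt N40272 (iv5 D139990)) (tt N85840 F384426) (tt N73372 (iv7 F224527)))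
theorem Q72799 : ∀ i, i < 72799 → P i := stepQ 72798 Q72798 (allL N72798 (tt N90867 (iv1 F391091)) (tt N45275 F340976) (tt N73365 (iv2 F224503)) (tt N91172 (iv3 F392159)) (tt N40273 F223212) (tt N90805 (iv5 F390925)) (tt N40272 (iv6 D139991)) (tt N90866 (iv7 F391087)))
theorem Q72800 : ∀ i, i < 72800 → P i := stepQ 72799 Q72799 (allL N72799 (tt N40275 (iv1 D140007)) (tt N78131 F342388) (tt N74001 F332424) (tt N44528 F323570) (tt N100639 (iv4 F429793)) (tt N73346 (iv5 F224439)) (tt N44527 F323571) (tt N80350 (iv7 F357372)))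
theorem Q72801 : ∀ i, i < 72801 → P i := stepQ 72800 Q72800 (allL N72800 (tt N90418 (iv1 F389577)) (tt N83255 F374702) (tt N99434 (iv2 F424556)) (tt N107648 D210867) (tt N40275 (iv4 D140008)) (tt N107649 D210868) (tt N53931 F340975) (tt N107650 D210869))
theorem Q72802 : ∀ i, i < 72802 → P i := stepQ 72801 Q72801 (allL N72801 (tt N74001 F332418) (tt N80350 F357374) (tt N78131 F342390) (tt N107631 (iv3 F459014)) (tt N107650 (iv4 F459075)) (tt N40276 F223216) (tt N57482 F332416) (tt N40275 (iv7 D140009)))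
theorem Q72803 : ∀ i, i < 72803 → P i := stepQ 72802 Q72802 (allL N72802 (tt N99973 (iv1 F427022)) (tt N99972 F427018) (tt N42233 F223217) (tt N40277 (iv3 D140010)) (tt N45205 F314120) (tt N100206 (iv5 F427990)) (tt N43032 F314121) (tt N99444 (iv7 F424607)))
theorem Q72804 : ∀ i, i < 72804 → P i := stepQ 72803 Q72803 (allL N72803 (tt N73382 (iv1 F224550)) (tt N73379 (iv0 F224545)) (tt N40286 F223218) (tt N100206 (iv3 F427991)) (tt N99420 (iv4 F424490)) (tt N40277 (iv5 D140011)) (tt N107651 D210870) (tt N99445 (iv7 F424612)))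
theorem Q72805 : ∀ i, i < 72805 → P i := stepQ 72804 Q72804 (allL N72804 (tt N105042 (iv1 F448527)) (tt N55775 (iv0 F365028)) (tt N107652 D210871) (tt N40279 (iv3 D140034)) (tt N73962 (iv4 F226337)) (tt N107322 (iv5 F457961)) (tt N98470 (iv6 F421020)) (tt N99446 (iv7 F424619)))
theorem Q72806 : ∀ i, i < 72806 → P i := stepQ 72805 Q72805 (allL N72805 (tt N73880 (iv1 F226076)) (tt N85582 F373132) (tt N99448 (iv2 F424629)) (tt N107322 F457962) (tt N73875 (iv4 F361419)) (tt N40279 (iv5 D140035)) (tt N73874 F361420) (tt N53105 (iv7 F359690)))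
theorem Q72807 : ∀ i, i < 72807 → P i := stepQ 72806 Q72806 (allL N72806 (tt N105080 F448694) (tt N73938 (iv0 F356515)) (tt N99449 (iv2 F424634)) (tt N98470 (iv3 F421019)) (tt N40280 F223250) (tt N107653 D210872) (tt N40279 (iv6 D140036)) (tt N91114 (iv7 F391994)))
theorem Q72808 : ∀ i, i < 72808 → P i := stepQ 72807 Q72807 (allL N72807 (tt N42119 (iv1 F223257)) (tt N42116 F223256) (tt N40281 (iv2 D140041)) (tt N40470 F321033) (tt N48386 F330663) (tt N40603 F223254) (tt N80142 F354096) (tt N66737 F223255))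
theorem Q72809 : ∀ i, i < 72809 → P i := stepQ 72808 Q72808 (allL N72808 (tt N82048 F318792) (tt N42561 F318793) (tt N80142 F318794) (tt N40283 F223259) (tt N75594 (iv4 F232034)) (tt N107142 (iv5 F457177)) (tt N40281 (iv6 D140042)) (tt N103095 (iv7 F440043)))
theorem Q72810 : ∀ i, i < 72810 → P i := stepQ 72809 Q72809 (allL N72809 (tt N43468 F316668) (tt N42100 (iv0 F223260)) (tt N77219 (iv2 F347997)) (tt N40282 (iv3 D140043)) (tt N75593 (iv4 F232031)) (tt N82639 F359695) (tt N49868 (iv6 F359697)) (tt N77218 F348000))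
theorem Q72811 : ∀ i, i < 72811 → P i := stepQ 72810 Q72810 (allL N72810 (tt N85582 F373131) (tt N73880 (iv0 F226075)) (tt N53105 (iv2 F359689)) (tt N82639 (iv3 F359693)) (tt N107485 (iv4 F458485)) (tt N40282 (iv5 D140044)) (tt N50497 F359692) (tt N99448 (iv7 F424630)))
theorem Q72812 : ∀ i, i < 72812 → P i := stepQ 72811 Q72811 (allL N72811 (tt N42333 F360909) (tt N63264 F360910) (tt N66568 F360911) (tt N103095 F440044) (tt N49811 F360912) (tt N76007 F360913) (tt N42319 F360914) (tt N40283 (iv7 D140049)))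
theorem Q72813 : ∀ i, i < 72813 → P i := stepQ 72812 Q72812 (allL N72812 (tt N99541 (iv1 F425065)) (tt N40621 F223263) (tt N99452 (iv2 F424647)) (tt N99889 (iv3 F426694)) (tt N89687 (iv4 F387213)) (tt N40284 (iv5 D140051)) (tt N99509 (iv6 F424921)) (tt N99450 (iv7 F424641)))
theorem Q72814 : ∀ i, i < 72814 → P i := stepQ 72813 Q72813 (allL N72813 (tt N100014 (iv1 F427198)) (tt N42310 F366426) (tt N99453 (iv2 F424653)) (tt N99890 (iv3 F426697)) (tt N76004 F366427) (tt N107654 D210873) (tt N40284 (iv6 D140052)) (tt N100013 (iv7 F427195)))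
theorem Q72815 : ∀ i, i < 72815 → P i := stepQ 72814 Q72814 (allL N72814 (tt N77292 F350720) (tt N99862 (iv0 F426593)) (tt N99888 (iv2 F426690)) (tt N40285 (iv3 D140053)) (tt N99566 (iv4 F425195)) (tt N96956 F414770) (tt N84121 (iv6 F368196)) (tt N99451 (iv7 F424645)))
theorem Q72816 : ∀ i, i < 72816 → P i := stepQ 72815 Q72815 (allL N72815 (tt N40621 F223264) (tt N99541 (iv0 F425064)) (tt N99450 (iv2 F424638)) (tt N96956 (iv3 F414768)) (tt N88894 (iv4 F384459)) (tt N40285 (iv5 D140054)) (tt N88892 F384452) (tt N99452 (iv7 F424648)))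
theorem Q72817 : ∀ i, i < 72817 → P i := stepQ 72816 Q72816 (allL N72816 (tt N66569 (iv1 F349361)) (tt N77623 (iv0 F349356)) (tt N77554 (iv2 F356790)) (tt N84121 F368193) (tt N77541 (iv4 F349359)) (tt N75626 F349357) (tt N40285 (iv6 D140055)) (tt N77552 (iv7 F349358)))
theorem Q72818 : ∀ i, i < 72818 → P i := stepQ 72817 Q72817 (allL N72817 (tt N99445 (iv1 F424614)) (tt N40286 (iv0 D140056)) (tt N73382 (iv2 F224547)) (tt N73711 (iv3 F366165)) (tt N107469 (iv4 F458434)) (tt N62435 F223265) (tt N107655 D210874) (tt N73379 (iv7 F224544)))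
theorem Q72819 : ∀ i, i < 72819 → P i := stepQ 72818 Q72818 (allL N72818 (tt N40286 (iv1 D140057)) (tt N99445 (iv0 F424613)) (tt N73379 (iv2 F224543)) (tt N107656 D210875) (tt N96681 F413431) (tt N62436 F223266) (tt N107657 D210876) (tt N73382 (iv7 F224548)))
theorem Q72820 : ∀ i, i < 72820 → P i := stepQ 72819 Q72819 (allL N72819 (tt N107488 (iv1 F458495)) (tt N107487 F458493) (tt N99420 (iv2 F424488)) (tt N71184 F413433) (tt N40286 (iv4 D140058)) (tt N99413 (iv5 F424462)) (tt N107658 D210877) (tt N99454 (iv7 F424660)))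
theorem Q72821 : ∀ i, i < 72821 → P i := stepQ 72820 Q72820 (allL N72820 (tt N53714 (iv1 F366714)) (tt N99421 F424496) (tt N107651 (iv2 F459080)) (tt N42245 F223267) (tt N107658 (iv4 F459113)) (tt N79121 F366713) (tt N40286 (iv6 D140059)) (tt N107659 D210878))
theorem Q72822 : ∀ i, i < 72822 → P i := stepQ 72821 Q72821 (allL N72821 (tt N53232 (iv1 F357577)) (tt N51117 (iv0 F357575)) (tt N53238 (iv2 F349311)) (tt N40287 (iv3 D140093)) (tt N66875 F323743) (tt N51106 (iv5 F357582)) (tt N106777 (iv6 F455638)) (tt N53237 (iv7 F349210)))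
theorem Q72823 : ∀ i, i < 72823 → P i := stepQ 72822 Q72822 (allL N72822 (tt N63275 F323745) (tt N74874 F323746) (tt N56108 F323747) (tt N51106 (iv3 F357580)) (tt N84393 (iv4 F369132)) (tt N40287 (iv5 D140094)) (tt N51154 (iv6 F349204)) (tt N76179 F323748))
theorem Q72824 : ∀ i, i < 72824 → P i := stepQ 72823 Q72823 (allL N72823 (tt N107660 D210879) (tt N77772 F351492) (tt N47731 F351491) (tt N40290 F223302) (tt N76822 (iv4 F359511)) (tt N68424 (iv5 F351490)) (tt N40288 (iv6 D140112)) (tt N107145 (iv7 F457193)))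
theorem Q72825 : ∀ i, i < 72825 → P i := stepQ 72824 Q72824 (allL N72824 (tt N51200 F339912) (tt N54077 F339913) (tt N54089 F363687) (tt N40289 (iv3 D140113)) (tt N76821 F339914) (tt N89867 (iv5 F387797)) (tt N106778 (iv6 F455644)) (tt N54090 F339897))
theorem Q72826 : ∀ i, i < 72826 → P i := stepQ 72825 Q72825 (allL N72825 (tt N74874 (iv1 F361590)) (tt N63275 (iv0 F361587)) (tt N76179 (iv2 F361588)) (tt N89867 (iv3 F387799)) (tt N84392 (iv4 F369126)) (tt N40289 (iv5 D140114)) (tt N106900 (iv6 F456207)) (tt N56108 F361589))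
theorem Q72827 : ∀ i, i < 72827 → P i := stepQ 72826 Q72826 (allL N72826 (tt N77681 F359181) (tt N77682 F366164) (tt N76180 F366163) (tt N106778 (iv3 F455642)) (tt N40290 F223303) (tt N94162 (iv5 F403488)) (tt N40289 (iv6 D140115)) (tt N106770 (iv7 F455607)))
theorem Q72828 : ∀ i, i < 72828 → P i := stepQ 72827 Q72827 (allL N72827 (tt N89539 (iv1 F386736)) (tt N89022 (iv0 F384845)) (tt N54091 (iv2 F339889)) (tt N40291 (iv3 D140259)) (tt N54077 F339888) (tt N107661 D210880) (tt N78014 (iv6 F339886)) (tt N89541 (iv7 F386742)))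
theorem Q72829 : ∀ i, i < 72829 → P i := stepQ 72828 Q72828 (allL N72828 (tt N77958 (iv1 F245436)) (tt N77955 (iv0 F245425)) (tt N98978 (iv2 F422889)) (tt N107661 (iv3 F459131)) (tt N106348 (iv4 F454093)) (tt N40291 (iv5 D140260)) (tt N107662 D210881) (tt N97371 (iv7 F416567)))
theorem Q72830 : ∀ i, i < 72830 → P i := stepQ 72829 Q72829 (allL N72829 (tt N71538 (iv1 F223382)) (tt N40292 (iv0 D140265)) (tt N44263 (iv2 F223383)) (tt N107663 D210882) (tt N107664 D210883) (tt N44173 F223381) (tt N107665 D210884) (tt N98981 (iv7 F422899)))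
theorem Q72831 : ∀ i, i < 72831 → P i := stepQ 72830 Q72830 (allL N72830 (tt N40292 (iv1 D140266)) (tt N71538 F223384) (tt N98981 F422902) (tt N107666 D210885) (tt N107667 D210886) (tt N44264 F223386) (tt N107668 D210887) (tt N44263 F223385))
theorem Q72832 : ∀ i, i < 72832 → P i := stepQ 72831 Q72831 (allL N72831 (tt N71556 F223388) (tt N71528 F245415) (tt N72832 F362130) (tt N107669 D210888) (tt N40292 (iv4 D140267)) (tt N71536 F223387) (tt N61899 (iv6 F362129)) (tt N98982 (iv7 F422903)))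
theorem Q72833 : ∀ i, i < 72833 → P i := stepQ 72832 Q72832 (allL N72832 (tt N77953 (iv1 F422901)) (tt N106030 (iv0 F452806)) (tt N72831 (iv2 F362130)) (tt N43382 F325053) (tt N61899 F362131) (tt N99363 (iv5 F424293)) (tt N40292 (iv6 D140268)) (tt N106633 (iv7 F455104)))
theorem Q72834 : ∀ i, i < 72834 → P i := stepQ 72833 Q72833 (allL N72833 (tt N93285 (iv1 F405422)) (tt N94566 (iv0 F404994)) (tt N62517 F223427) (tt N40293 (iv3 D140326)) (tt N61964 F223429) (tt N107670 D210889) (tt N107671 D210890) (tt N70131 F223428))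
theorem Q72835 : ∀ i, i < 72835 → P i := stepQ 72834 Q72834 (allL N72834 (tt N72943 (iv1 F350892)) (tt N62181 F350889) (tt N70134 F223437) (tt N107670 (iv3 F459157)) (tt N84904 F371031) (tt N40293 (iv5 D140328)) (tt N105956 (iv6 F452497)) (tt N70132 F223438))
theorem Q72836 : ∀ i, i < 72836 → P i := stepQ 72835 Q72835 (allL N72835 (tt N107672 D210891) (tt N40721 F366181) (tt N70135 F223439) (tt N107671 (iv3 F459164)) (tt N103755 F442688) (tt N107673 D210892) (tt N40293 (iv6 D140329)) (tt N107674 D210893))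
theorem Q72837 : ∀ i, i < 72837 → P i := stepQ 72836 Q72836 (allL N72836 (tt N62181 (iv1 F350891)) (tt N72943 F350893) (tt N70132 F223440) (tt N73114 F223833) (tt N85592 (iv4 F373157)) (tt N40294 (iv5 D140330)) (tt N83120 (iv6 F358527)) (tt N70134 F223441))
theorem Q72838 : ∀ i, i < 72838 → P i := stepQ 72837 Q72837 (allL N72837 (tt N93276 F400263) (tt N99491 F424834) (tt N70133 F223442) (tt N99494 (iv3 F424843)) (tt N66477 F223443) (tt N93759 (iv5 F401801)) (tt N40294 (iv6 D140331)) (tt N99490 (iv7 F424824)))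
theorem Q72839 : ∀ i, i < 72839 → P i := stepQ 72838 Q72838 (allL N72838 (tt N94646 (iv1 F405346)) (tt N94645 F405343) (tt N40296 F223444) (tt N93315 (iv3 F400362)) (tt N102253 (iv4 F436388)) (tt N94523 (iv5 F404835)) (tt N40295 (iv6 D140332)) (tt N94622 (iv7 F405267)))
theorem Q72840 : ∀ i, i < 72840 → P i := stepQ 72839 Q72839 (allL N72839 (tt N94622 F405269) (tt N40296 (iv0 D140333)) (tt N94646 F405350) (tt N72848 F407165) (tt N82061 F404288) (tt N107675 D210894) (tt N82060 (iv6 F404290)) (tt N94645 F405345))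
theorem Q72841 : ∀ i, i < 72841 → P i := stepQ 72840 Q72840 (allL N72840 (tt N40296 (iv1 D140334)) (tt N94622 F405268) (tt N94645 F405344) (tt N90276 F389191) (tt N74739 F351690) (tt N90275 (iv5 F389192)) (tt N79417 (iv6 F351691)) (tt N94646 (iv7 F405347)))
theorem Q72842 : ∀ i, i < 72842 → P i := stepQ 72841 Q72841 (allL N72841 (tt N72844 F351861) (tt N102268 (iv0 F436467)) (tt N94523 (iv2 F404833)) (tt N40299 F223445) (tt N102272 (iv4 F436483)) (tt N40296 (iv5 D140335)) (tt N57831 F343149) (tt N94647 (iv7 F405354)))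
theorem Q72843 : ∀ i, i < 72843 → P i := stepQ 72842 Q72842 (allL N72842 (tt N89550 F386752) (tt N107676 D210895) (tt N93361 (iv2 F400523)) (tt N90282 (iv3 F389216)) (tt N107677 D210896) (tt N40297 (iv5 D140336)) (tt N81961 F363361) (tt N93363 (iv7 F400533)))
theorem Q72844 : ∀ i, i < 72844 → P i := stepQ 72843 Q72843 (allL N72843 (tt N64612 F341283) (tt N64609 F341284) (tt N82011 F341285) (tt N107098 (iv3 F456958)) (tt N67321 F223446) (tt N46702 F341286) (tt N40297 (iv6 D140337)) (tt N82010 F341287))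
theorem Q72845 : ∀ i, i < 72845 → P i := stepQ 72844 Q72844 (allL N72844 (tt N93284 (iv1 F405356)) (tt N72841 (iv0 F351861)) (tt N79616 (iv2 F351859)) (tt N40298 (iv3 D140338)) (tt N62699 (iv4 F351857)) (tt N79607 F351858) (tt N107678 D210897) (tt N74726 F351856))
theorem Q72846 : ∀ i, i < 72846 → P i := stepQ 72845 Q72845 (allL N72845 (tt N107676 (iv1 F459187)) (tt N89550 (iv0 F386751)) (tt N93363 (iv2 F400531)) (tt N79607 (iv3 F351860)) (tt N61927 F351862) (tt N40298 (iv5 D140339)) (tt N61926 (iv6 F351863)) (tt N93361 (iv7 F400525)))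
theorem Q72847 : ∀ i, i < 72847 → P i := stepQ 72846 Q72846 (allL N72846 (tt N78149 F246299) (tt N40720 (iv0 F223448)) (tt N93364 (iv2 F400534)) (tt N107678 (iv3 F459197)) (tt N65857 F223447) (tt N73063 (iv5 F223761)) (tt N40298 (iv6 D140340)) (tt N102322 (iv7 F436722)))
theorem Q72848 : ∀ i, i < 72848 → P i := stepQ 72847 Q72847 (allL N72847 (tt N57783 (iv1 F223449)) (tt N40299 (iv0 D140341)) (tt N93365 F407424) (tt N73574 F407426) (tt N99025 F423076) (tt N99339 (iv5 F424167)) (tt N99033 (iv6 F423093)) (tt N93366 F407422))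
theorem Q72849 : ∀ i, i < 72849 → P i := stepQ 72848 Q72848 (allL N72848 (tt N40299 (iv1 D140342)) (tt N57783 F223450) (tt N93366 (iv2 F407418)) (tt N72839 (iv3 F407165)) (tt N106677 (iv4 F455245)) (tt N99299 (iv5 F423988)) (tt N94978 F407164) (tt N93365 (iv7 F407423)))
theorem Q72850 : ∀ i, i < 72850 → P i := stepQ 72849 Q72849 (allL N72849 (tt N107679 D210898) (tt N107680 D210899) (tt N93367 (iv2 F400542)) (tt N70753 F364778) (tt N40299 (iv4 D140343)) (tt N94567 (iv5 F404997)) (tt N70751 (iv6 F332968)) (tt N94663 (iv7 F405430)))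
theorem Q72851 : ∀ i, i < 72851 → P i := stepQ 72850 Q72850 (allL N72850 (tt N93264 F400193) (tt N94600 F405135) (tt N107681 D210900) (tt N40300 (iv3 D140344)) (tt N90984 F391473) (tt N107682 D210901) (tt N107683 D210902) (tt N93368 (iv7 F400547)))
theorem Q72852 : ∀ i, i < 72852 → P i := stepQ 72851 Q72851 (allL N72851 (tt N99613 (iv1 F425422)) (tt N99612 F425418) (tt N41068 F223451) (tt N107682 (iv3 F459214)) (tt N107684 D210903) (tt N40300 (iv5 D140345)) (tt N107685 D210904) (tt N93369 (iv7 F400551)))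
theorem Q72853 : ∀ i, i < 72853 → P i := stepQ 72852 Q72852 (allL N72852 (tt N78144 (iv1 F246271)) (tt N40708 F223495) (tt N41069 F223452) (tt N107683 (iv3 F459216)) (tt N40302 F223453) (tt N73040 (iv5 F223733)) (tt N40300 (iv6 D140346)) (tt N58180 (iv7 F223454)))
theorem Q72854 : ∀ i, i < 72854 → P i := stepQ 72853 Q72853 (allL N72853 (tt N62205 F226566) (tt N94505 (iv0 F404749)) (tt N41071 F223455) (tt N86165 (iv3 F424173)) (tt N40301 (iv4 D140347)) (tt N73473 F224911) (tt N62177 F223456) (tt N93370 (iv7 F400557)))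
theorem Q72855 : ∀ i, i < 72855 → P i := stepQ 72854 Q72854 (allL N72854 (tt N93253 (iv1 F400144)) (tt N40303 (iv0 D140348)) (tt N87066 (iv2 F378254)) (tt N94786 (iv3 F405932)) (tt N87059 (iv4 F378232)) (tt N58245 F378262) (tt N87060 (iv6 F378235)) (tt N93252 (iv7 F400138)))
theorem Q72856 : ∀ i, i < 72856 → P i := stepQ 72855 Q72855 (allL N72855 (tt N40303 (iv1 D140349)) (tt N93253 F400145) (tt N93252 F400136) (tt N107686 D210905) (tt N87067 (iv4 F378266)) (tt N58246 F378260) (tt N81229 (iv6 F378259)) (tt N87066 F378258))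
theorem Q72857 : ∀ i, i < 72857 → P i := stepQ 72856 Q72856 (allL N72856 (tt N87066 F378257) (tt N93252 F400137) (tt N40303 (iv2 D140350)) (tt N40332 F223457) (tt N71718 F223458) (tt N89765 F387477) (tt N107687 D210906) (tt N93253 (iv7 F400143)))
theorem Q72858 : ∀ i, i < 72858 → P i := stepQ 72857 Q72857 (allL N72857 (tt N107688 D210907) (tt N91510 (iv0 F393427)) (tt N107687 (iv2 F459232)) (tt N40304 F223459) (tt N71720 F223460) (tt N107689 D210908) (tt N40303 (iv6 D140351)) (tt N94993 (iv7 F406582)))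
theorem Q72859 : ∀ i, i < 72859 → P i := stepQ 72858 Q72858 (allL N72858 (tt N107164 (iv1 F457277)) (tt N40364 F351250) (tt N40334 F223461) (tt N107689 (iv3 F459240)) (tt N107690 D210909) (tt N40304 (iv5 D140352)) (tt N78057 F350389) (tt N94994 (iv7 F406585)))
theorem Q72860 : ∀ i, i < 72860 → P i := stepQ 72859 Q72859 (allL N72859 (tt N58971 F223468) (tt N58970 F223466) (tt N40337 F223462) (tt N60208 F223463) (tt N59298 F223467) (tt N40305 (iv5 D140353)) (tt N58973 F223464) (tt N40339 F223465))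
theorem Q72861 : ∀ i, i < 72861 → P i := stepQ 72860 Q72860 (allL N72860 (tt N99311 F424054) (tt N107691 D210910) (tt N106939 (iv2 F456361)) (tt N40307 (iv3 D140355)) (tt N66273 F223470) (tt N96328 (iv5 F412061)) (tt N107692 D210911) (tt N93256 (iv7 F400153)))
theorem Q72862 : ∀ i, i < 72862 → P i := stepQ 72861 Q72861 (allL N72861 (tt N51118 (iv1 F357567)) (tt N53960 (iv0 F357565)) (tt N53975 (iv2 F357506)) (tt N107358 F458084) (tt N40307 (iv4 D140356)) (tt N107693 D210912) (tt N107694 D210913) (tt N53974 F357503))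
theorem Q72863 : ∀ i, i < 72863 → P i := stepQ 72862 Q72862 (allL N72862 (tt N73432 F350417) (tt N56744 F350419) (tt N73435 F224846) (tt N96328 (iv3 F412059)) (tt N40514 F223471) (tt N40307 (iv5 D140357)) (tt N82418 F350366) (tt N73434 (iv7 F224838)))
theorem Q72864 : ∀ i, i < 72864 → P i := stepQ 72863 Q72863 (allL N72863 (tt N82556 (iv1 F366741)) (tt N64620 (iv0 F350369)) (tt N93259 (iv2 F400162)) (tt N107692 (iv3 F459253)) (tt N107694 (iv4 F459266)) (tt N82358 (iv5 F358732)) (tt N40307 (iv6 D140358)) (tt N94598 (iv7 F431995)))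
theorem Q72865 : ∀ i, i < 72865 → P i := stepQ 72864 Q72864 (allL N72864 (tt N102686 F438202) (tt N99314 (iv0 F424067)) (tt N103759 (iv2 F442704)) (tt N40308 (iv3 D140360)) (tt N103605 (iv4 F442205)) (tt N107695 D210914) (tt N107696 D210915) (tt N93258 (iv7 F400160)))
theorem Q72866 : ∀ i, i < 72866 → P i := stepQ 72865 Q72865 (allL N72865 (tt N53960 (iv1 F357566)) (tt N51118 F357568) (tt N53974 F357502) (tt N58985 F223473) (tt N40308 (iv4 D140361)) (tt N93268 (iv5 F400214)) (tt N90844 (iv6 F391038)) (tt N53975 (iv7 F357504)))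
theorem Q72867 : ∀ i, i < 72867 → P i := stepQ 72866 Q72866 (allL N72866 (tt N56744 (iv1 F350421)) (tt N73432 F350420) (tt N73434 F224842) (tt N107695 (iv3 F459268)) (tt N89787 (iv4 F387571)) (tt N40308 (iv5 D140362)) (tt N85399 F372498) (tt N73435 (iv7 F224845)))
theorem Q72868 : ∀ i, i < 72868 → P i := stepQ 72867 Q72867 (allL N72867 (tt N99301 F423999) (tt N107697 D210916) (tt N93257 (iv2 F400156)) (tt N107696 (iv3 F459270)) (tt N90844 (iv4 F391036)) (tt N51718 (iv5 F378263)) (tt N40308 (iv6 D140363)) (tt N91932 (iv7 F395008)))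
theorem Q72869 : ∀ i, i < 72869 → P i := stepQ 72868 Q72868 (allL N72868 (tt N53817 (iv1 F372466)) (tt N93261 F400177) (tt N40310 F223474) (tt N40380 F223475) (tt N54071 (iv4 F372453)) (tt N40309 (iv5 D140364)) (tt N107698 D210917) (tt N93260 (iv7 F400170)))
theorem Q72870 : ∀ i, i < 72870 → P i := stepQ 72869 Q72869 (allL N72869 (tt N53588 (iv1 F331775)) (tt N53587 F343494) (tt N40311 F223476) (tt N40381 F223477) (tt N53191 F331773) (tt N107699 D210918) (tt N40309 (iv6 D140365)) (tt N53190 (iv7 F331771)))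
theorem Q72871 : ∀ i, i < 72871 → P i := stepQ 72870 Q72870 (allL N72870 (tt N40310 (iv1 D140367)) (tt N93260 (iv0 F400171)) (tt N93261 F400176) (tt N107700 D210919) (tt N53769 (iv4 F350395)) (tt N40666 F350396) (tt N53768 (iv6 F350397)) (tt N53817 F350394))
theorem Q72872 : ∀ i, i < 72872 → P i := stepQ 72871 Q72871 (allL N72871 (tt N50473 (iv1 F372450)) (tt N54053 F372458) (tt N54071 F372457) (tt N83271 F345617) (tt N40310 (iv4 D140368)) (tt N93266 (iv5 F400199)) (tt N107701 D210920) (tt N54070 (iv7 F364782)))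
theorem Q72873 : ∀ i, i < 72873 → P i := stepQ 72872 Q72872 (allL N72872 (tt N107702 D210921) (tt N107703 D210922) (tt N107698 (iv2 F459275)) (tt N40312 F223478) (tt N107701 (iv4 F459296)) (tt N107704 D210923) (tt N40310 (iv6 D140369)) (tt N107705 D210924))
theorem Q72874 : ∀ i, i < 72874 → P i := stepQ 72873 Q72873 (allL N72873 (tt N53190 (iv1 F343493)) (tt N40311 (iv0 D140370)) (tt N53588 (iv2 F343491)) (tt N107706 D210925) (tt N53246 F343490) (tt N107707 D210926) (tt N107708 D210927) (tt N53587 (iv7 F343492)))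
theorem Q72875 : ∀ i, i < 72875 → P i := stepQ 72874 Q72874 (allL N72874 (tt N40311 (iv1 D140371)) (tt N53190 F331770) (tt N53587 (iv2 F343486)) (tt N107709 D210928) (tt N53245 (iv4 F331767)) (tt N107710 D210929) (tt N57729 F385065) (tt N53588 F331769))
theorem Q72876 : ∀ i, i < 72876 → P i := stepQ 72875 Q72875 (allL N72875 (tt N107711 D210930) (tt N107712 D210931) (tt N107699 (iv2 F459279)) (tt N40314 F223479) (tt N107713 D210932) (tt N40311 (iv5 D140372)) (tt N107704 (iv6 F459304)) (tt N53589 F365350))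
theorem Q72877 : ∀ i, i < 72877 → P i := stepQ 72876 Q72876 (allL N72876 (tt N40397 (iv1 F223485)) (tt N40312 (iv0 D140374)) (tt N40394 F360108) (tt N107714 D210933) (tt N58020 (iv4 F360124)) (tt N107715 D210934) (tt N58326 (iv6 F363347)) (tt N40395 F360109))
theorem Q72878 : ∀ i, i < 72878 → P i := stepQ 72877 Q72877 (allL N72877 (tt N40312 (iv1 D140375)) (tt N40397 F223481) (tt N40395 F360098) (tt N95200 (iv3 F407381)) (tt N58021 F359227) (tt N107716 D210935) (tt N48309 F359228) (tt N40394 F360099))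
theorem Q72879 : ∀ i, i < 72879 → P i := stepQ 72878 Q72878 (allL N72878 (tt N57052 F351240) (tt N57049 (iv0 F342494)) (tt N40396 F223482) (tt N107704 (iv3 F459303)) (tt N107717 D210936) (tt N40312 (iv5 D140376)) (tt N40314 F223483) (tt N57050 (iv7 F363138)))
theorem Q72880 : ∀ i, i < 72880 → P i := stepQ 72879 Q72879 (allL N72879 (tt N40395 (iv1 F223486)) (tt N40394 F223487) (tt N40397 F223484) (tt N107705 (iv3 F459307)) (tt N94778 (iv4 F405892)) (tt N57050 (iv5 F363143)) (tt N57949 F337453) (tt N40312 (iv7 D140377)))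
theorem Q72881 : ∀ i, i < 72881 → P i := stepQ 72880 Q72880 (allL N72880 (tt N40407 (iv1 F223499)) (tt N40314 (iv0 D140380)) (tt N40404 F223749) (tt N57172 (iv3 F342476)) (tt N107718 D210937) (tt N78144 F246270) (tt N57170 F342477) (tt N40405 F223750))
theorem Q72882 : ∀ i, i < 72882 → P i := stepQ 72881 Q72881 (allL N72881 (tt N40314 (iv1 D140381)) (tt N40407 F223492) (tt N40405 F223748) (tt N107719 D210938) (tt N107720 D210939) (tt N40708 (iv5 F223493)) (tt N107721 D210940) (tt N40404 (iv7 F223747)))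
theorem Q72883 : ∀ i, i < 72883 → P i := stepQ 72882 Q72882 (allL N72882 (tt N107722 D210941) (tt N107723 D210942) (tt N40406 F223496) (tt N107724 D210943) (tt N40314 (iv4 D140382)) (tt N95091 F406995) (tt N107717 (iv6 F459370)) (tt N107725 D210944))
theorem Q72884 : ∀ i, i < 72884 → P i := stepQ 72883 Q72883 (allL N72883 (tt N40405 (iv1 F223500)) (tt N40404 F223501) (tt N40407 F223497) (tt N53589 (iv3 F365349)) (tt N107725 (iv4 F459403)) (tt N40315 F223498) (tt N101934 F435004) (tt N40314 (iv7 D140383)))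
theorem Q72885 : ∀ i, i < 72885 → P i := stepQ 72884 Q72884 (allL N72884 (tt N107726 D210945) (tt N74712 (iv0 F342399)) (tt N104249 (iv2 F444923)) (tt N40316 (iv3 D140384)) (tt N71612 F223502) (tt N107727 D210946) (tt N105153 (iv6 F449028)) (tt N40412 F223503))
theorem Q72886 : ∀ i, i < 72886 → P i := stepQ 72885 Q72885 (allL N72885 (tt N93933 F402474) (tt N95098 F407028) (tt N40410 F223504) (tt N107727 (iv3 F459413)) (tt N95092 (iv4 F406999)) (tt N40316 (iv5 D140385)) (tt N93914 F402423) (tt N40413 F223505))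
theorem Q72887 : ∀ i, i < 72887 → P i := stepQ 72886 Q72886 (allL N72886 (tt N40318 (iv1 D140386)) (tt N58147 (iv0 F223508)) (tt N58145 (iv2 F223509)) (tt N58688 F223510) (tt N71052 (iv4 F223507)) (tt N94831 F406779) (tt N106773 (iv6 F455623)) (tt N58146 (iv7 F223512)))
theorem Q72888 : ∀ i, i < 72888 → P i := stepQ 72887 Q72887 (allL N72887 (tt N58146 (iv1 F223517)) (tt N58145 F223516) (tt N40318 (iv2 D140387)) (tt N58144 F223513) (tt N58568 F223514) (tt N107728 D210947) (tt N107729 D210948) (tt N58147 F223515))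
theorem Q72889 : ∀ i, i < 72889 → P i := stepQ 72888 Q72888 (allL N72888 (tt N94652 F405380) (tt N99899 (iv0 F426733)) (tt N107728 (iv2 F459418)) (tt N40319 F223518) (tt N70408 (iv4 F356120)) (tt N40318 (iv5 D140388)) (tt N107730 D210949) (tt N58018 F223519))
theorem Q72890 : ∀ i, i < 72890 → P i := stepQ 72889 Q72889 (allL N72889 (tt N95729 F409348) (tt N107731 D210950) (tt N107729 (iv2 F459425)) (tt N40320 F223520) (tt N58569 F223521) (tt N106224 (iv5 F453641)) (tt N40318 (iv6 D140389)) (tt N96320 (iv7 F412015)))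
theorem Q72891 : ∀ i, i < 72891 → P i := stepQ 72890 Q72890 (allL N72890 (tt N100830 F430682) (tt N105382 (iv0 F449985)) (tt N58017 F223522) (tt N107730 (iv3 F459432)) (tt N40391 F223523) (tt N103162 (iv5 F440352)) (tt N40319 (iv6 D140390)) (tt N107732 D210951))
theorem Q72892 : ∀ i, i < 72892 → P i := stepQ 72891 Q72891 (allL N72891 (tt N72339 (iv1 F358699)) (tt N95292 (iv0 F407753)) (tt N56869 (iv2 F358692)) (tt N106224 (iv3 F453639)) (tt N77841 (iv4 F358700)) (tt N40320 (iv5 D140391)) (tt N103162 F440354) (tt N96321 (iv7 F412021)))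
theorem Q72893 : ∀ i, i < 72893 → P i := stepQ 72892 Q72892 (allL N72892 (tt N57990 (iv1 F223525)) (tt N40321 (iv0 D140392)) (tt N57989 (iv2 F231239)) (tt N96404 (iv3 F412364)) (tt N79285 F353654) (tt N105430 (iv5 F450231)) (tt N107733 D210952) (tt N57988 F231240))
theorem Q72894 : ∀ i, i < 72894 → P i := stepQ 72893 Q72893 (allL N72893 (tt N40321 (iv1 D140393)) (tt N57990 F223530) (tt N57988 F231238) (tt N107734 D210953) (tt N75204 F230741) (tt N105431 (iv5 F450238)) (tt N107735 D210954) (tt N57989 (iv7 F231237)))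
theorem Q72895 : ∀ i, i < 72895 → P i := stepQ 72894 Q72894 (allL N72894 (tt N57989 (iv1 F223531)) (tt N57988 F223529) (tt N40321 (iv2 D140394)) (tt N57995 F223526) (tt N59988 F223527) (tt N95064 (iv5 F406912)) (tt N82022 F365526) (tt N57990 F223528))
theorem Q72896 : ∀ i, i < 72896 → P i := stepQ 72895 Q72895 (allL N72895 (tt N59979 (iv1 F223535)) (tt N40324 (iv0 D140395)) (tt N59977 (iv2 F223534)) (tt N60072 F223533) (tt N59792 F223532) (tt N94075 (iv5 F403090)) (tt N96960 (iv6 F414794)) (tt N59978 F223536))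
theorem Q72897 : ∀ i, i < 72897 → P i := stepQ 72896 Q72896 (allL N72896 (tt N57995 (iv1 F223538)) (tt N40325 (iv0 D140396)) (tt N57994 F223547) (tt N58472 F223537) (tt N73686 (iv4 F344504)) (tt N94652 (iv5 F405379)) (tt N82009 F362624) (tt N57993 (iv7 F223539)))
theorem Q72898 : ∀ i, i < 72898 → P i := stepQ 72897 Q72897 (allL N72897 (tt N40325 (iv1 D140397)) (tt N57995 F223544) (tt N57993 (iv2 F223545)) (tt N97766 F418222) (tt N73688 (iv4 F362619)) (tt N99899 (iv5 F426731)) (tt N79805 (iv6 F362622)) (tt N57994 (iv7 F223546)))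
theorem Q72899 : ∀ i, i < 72899 → P i := stepQ 72898 Q72898 (allL N72898 (tt N57994 (iv1 F223548)) (tt N57993 F223543) (tt N40325 (iv2 D140398)) (tt N57990 F223540) (tt N58427 F223541) (tt N95065 (iv5 F406917)) (tt N107736 D210955) (tt N57995 F223542))
theorem Q72900 : ∀ i, i < 72900 → P i := stepQ 72899 Q72899 (allL N72899 (tt N81770 (iv1 F360140)) (tt N107737 D210956) (tt N107736 (iv2 F459467)) (tt N40326 F223549) (tt N58429 F223550) (tt N46738 F341307) (tt N40325 (iv6 D140399)) (tt N79584 (iv7 F360139)))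
theorem Q72901 : ∀ i, i < 72901 → P i := stepQ 72900 Q72900 (allL N72900 (tt N47771 (iv1 F332913)) (tt N59055 (iv0 F223559)) (tt N89378 (iv2 F386280)) (tt N41512 F223555) (tt N44934 (iv4 F332914)) (tt N40327 (iv5 D140401)) (tt N58971 F223556) (tt N59015 F223557))
theorem Q72902 : ∀ i, i < 72902 → P i := stepQ 72901 Q72901 (allL N72901 (tt N79827 F352240) (tt N107738 D210957) (tt N94925 (iv2 F406361)) (tt N40330 (iv3 D140403)) (tt N66399 (iv4 F352237)) (tt N107739 D210958) (tt N80745 F352239) (tt N94926 (iv7 F406363)))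
theorem Q72903 : ∀ i, i < 72903 → P i := stepQ 72902 Q72902 (allL N72902 (tt N107740 D210959) (tt N95820 (iv0 F409797)) (tt N60481 F358912) (tt N80749 F352238) (tt N40330 (iv4 D140404)) (tt N102855 F438959) (tt N80748 (iv6 F359818)) (tt N97758 (iv7 F418194)))
theorem Q72904 : ∀ i, i < 72904 → P i := stepQ 72903 Q72903 (allL N72903 (tt N58271 (iv1 F358908)) (tt N57919 F358904) (tt N58274 F352248) (tt N107739 (iv3 F459483)) (tt N95973 (iv4 F410490)) (tt N40330 (iv5 D140405)) (tt N40690 F352249) (tt N58273 (iv7 F358907)))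
theorem Q72905 : ∀ i, i < 72905 → P i := stepQ 72904 Q72904 (allL N72904 (tt N103079 (iv1 F439981)) (tt N78139 (iv0 F352243)) (tt N72992 F352247) (tt N80745 (iv3 F352241)) (tt N80748 F352242) (tt N62194 (iv5 F352246)) (tt N40330 (iv6 D140406)) (tt N107741 D210960))
theorem Q72906 : ∀ i, i < 72906 → P i := stepQ 72905 Q72905 (allL N72905 (tt N95835 (iv1 F413920)) (tt N64965 F353646) (tt N80990 F353647) (tt N40331 (iv3 D140408)) (tt N45441 F353648) (tt N107742 D210961) (tt N45445 F353649) (tt N81977 (iv7 F358893)))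
theorem Q72907 : ∀ i, i < 72907 → P i := stepQ 72906 Q72906 (allL N72906 (tt N95820 (iv1 F409798)) (tt N107740 F459493) (tt N97758 (iv2 F418192)) (tt N55622 F223564) (tt N40331 (iv4 D140409)) (tt N97632 (iv5 F417695)) (tt N107743 D210962) (tt N60481 F358900))
theorem Q72908 : ∀ i, i < 72908 → P i := stepQ 72907 Q72907 (allL N72907 (tt N57919 F223565) (tt N58271 F358909) (tt N58273 F358905) (tt N107742 (iv3 F459500)) (tt N107744 D210963) (tt N40331 (iv5 D140410)) (tt N107745 D210964) (tt N58274 F358901))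
theorem Q72909 : ∀ i, i < 72909 → P i := stepQ 72908 Q72908 (allL N72908 (tt N94813 F406045) (tt N81227 F353651) (tt N97759 (iv2 F418197)) (tt N45445 F353652) (tt N107743 (iv4 F459507)) (tt N64583 (iv5 F413314)) (tt N40331 (iv6 D140411)) (tt N80984 F353653))
theorem Q72910 : ∀ i, i < 72910 → P i := stepQ 72909 Q72909 (allL N72909 (tt N107746 D210965) (tt N107747 D210966) (tt N40333 F223566) (tt N107687 (iv3 F459233)) (tt N66590 F223567) (tt N107748 D210967) (tt N40332 (iv6 D140412)) (tt N107749 D210968))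
theorem Q72911 : ∀ i, i < 72911 → P i := stepQ 72910 Q72910 (allL N72910 (tt N107749 (iv1 F459547)) (tt N40333 (iv0 D140413)) (tt N107746 F459524) (tt N101737 (iv3 F434107)) (tt N47769 F365118) (tt N107750 D210969) (tt N47768 F365119) (tt N107747 (iv7 F459532)))
theorem Q72912 : ∀ i, i < 72912 → P i := stepQ 72911 Q72911 (allL N72911 (tt N40333 (iv1 D140414)) (tt N107749 F459546) (tt N107747 (iv2 F459535)) (tt N64617 F431977) (tt N107751 D210970) (tt N107752 D210971) (tt N65545 (iv6 F406154)) (tt N107746 F459527))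
theorem Q72913 : ∀ i, i < 72913 → P i := stepQ 72912 Q72912 (allL N72912 (tt N107753 D210972) (tt N107692 (iv0 F459255)) (tt N107748 (iv2 F459536)) (tt N40334 F223568) (tt N54219 F377741) (tt N40333 (iv5 D140415)) (tt N95257 (iv6 F407600)) (tt N54216 (iv7 F377742)))
theorem Q72914 : ∀ i, i < 72914 → P i := stepQ 72913 Q72913 (allL N72913 (tt N107747 (iv1 F459531)) (tt N107746 (iv0 F459529)) (tt N107749 (iv2 F459543)) (tt N40335 F223569) (tt N66597 F223570) (tt N54216 F377744) (tt N94905 (iv6 F406280)) (tt N40333 (iv7 D140416)))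
theorem Q72915 : ∀ i, i < 72915 → P i := stepQ 72914 Q72914 (allL N72914 (tt N40334 (iv1 D140418)) (tt N94994 (iv0 F406586)) (tt N40364 F351308) (tt N99316 (iv3 F424074)) (tt N94988 F406588) (tt N94724 (iv5 F405680)) (tt N40362 F351309) (tt N107164 (iv7 F457276)))
theorem Q72916 : ∀ i, i < 72916 → P i := stepQ 72915 Q72915 (allL N72915 (tt N107754 D210973) (tt N107755 D210974) (tt N107690 (iv2 F459241)) (tt N105891 (iv3 F452209)) (tt N40334 (iv4 D140419)) (tt N107428 (iv5 F458305)) (tt N94387 F404204) (tt N107427 F458301))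
theorem Q72917 : ∀ i, i < 72917 → P i := stepQ 72916 Q72916 (allL N72916 (tt N40364 F351251) (tt N107164 F457278) (tt N94994 (iv2 F406584)) (tt N54216 F377743) (tt N107427 (iv4 F458293)) (tt N40335 F223572) (tt N54214 (iv6 F377745)) (tt N40334 (iv7 D140420)))
theorem Q72918 : ∀ i, i < 72918 → P i := stepQ 72917 Q72917 (allL N72917 (tt N107756 D210975) (tt N107735 F459465) (tt N82351 F351715) (tt N40336 (iv3 D140421)) (tt N52830 (iv4 F351710)) (tt N107757 D210976) (tt N96430 (iv6 F412490)) (tt N58111 F223573))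
theorem Q72919 : ∀ i, i < 72919 → P i := stepQ 72918 Q72918 (allL N72918 (tt N82058 F341266) (tt N96446 F412557) (tt N58109 F223574) (tt N107757 (iv3 F459584)) (tt N107758 D210977) (tt N40336 (iv5 D140422)) (tt N107759 D210978) (tt N58112 F223575))
theorem Q72920 : ∀ i, i < 72920 → P i := stepQ 72919 Q72919 (allL N72919 (tt N40339 (iv1 F223579)) (tt N40337 (iv0 D140423)) (tt N58971 (iv2 F223578)) (tt N57562 (iv3 F223582)) (tt N59231 F223576) (tt N72414 F223577) (tt N89378 (iv6 F386282)) (tt N58970 F223580))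
theorem Q72921 : ∀ i, i < 72921 → P i := stepQ 72920 Q72920 (allL N72920 (tt N57962 F223587) (tt N62623 (iv0 F223589)) (tt N62622 F223585) (tt N40341 (iv3 D140424)) (tt N61834 F223588) (tt N65698 F223590) (tt N94216 F403734) (tt N62621 F223586))
theorem Q72922 : ∀ i, i < 72922 → P i := stepQ 72921 Q72921 (allL N72921 (tt N65822 F223594) (tt N95916 (iv0 F410249)) (tt N74252 (iv2 F227102)) (tt N65698 F223592) (tt N58217 (iv4 F223596)) (tt N40341 (iv5 D140425)) (tt N58215 F223595) (tt N65653 F223593))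
theorem Q72923 : ∀ i, i < 72923 → P i := stepQ 72922 Q72922 (allL N72922 (tt N41198 (iv1 F223604)) (tt N66348 (iv0 F223599)) (tt N67734 F223597) (tt N94216 F403733) (tt N72150 (iv4 F223601)) (tt N73299 F342838) (tt N40341 (iv6 D140426)) (tt N69777 (iv7 F223605)))
theorem Q72924 : ∀ i, i < 72924 → P i := stepQ 72923 Q72923 (allL N72923 (tt N94941 (iv1 F406438)) (tt N40437 (iv0 F223610)) (tt N90016 (iv2 F388301)) (tt N40343 (iv3 D140428)) (tt N41104 F223609) (tt N66785 F339976) (tt N87622 (iv6 F379911)) (tt N93944 (iv7 F402522)))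
theorem Q72925 : ∀ i, i < 72925 → P i := stepQ 72924 Q72924 (allL N72924 (tt N62578 F223611) (tt N65914 F223616) (tt N74534 (iv2 F228311)) (tt N66559 F223612) (tt N40343 (iv4 D140429)) (tt N66558 (iv5 F223613)) (tt N76978 (iv6 F363558)) (tt N74669 (iv7 F228517)))
theorem Q72926 : ∀ i, i < 72926 → P i := stepQ 72925 Q72925 (allL N72925 (tt N89083 (iv1 F385093)) (tt N72608 (iv0 F363560)) (tt N86037 (iv2 F374975)) (tt N87622 (iv3 F379910)) (tt N76978 F363559) (tt N78778 F363561) (tt N40343 (iv6 D140431)) (tt N86045 (iv7 F374995)))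
theorem Q72927 : ∀ i, i < 72927 → P i := stepQ 72926 Q72926 (allL N72926 (tt N90018 (iv1 F388311)) (tt N90017 F388309) (tt N89991 (iv2 F388222)) (tt N40344 (iv3 D140433)) (tt N86256 (iv4 F375609)) (tt N89835 F387688) (tt N89082 (iv6 F385090)) (tt N86077 F375062))
theorem Q72928 : ∀ i, i < 72928 → P i := stepQ 72927 Q72927 (allL N72927 (tt N65914 (iv1 F223621)) (tt N62578 (iv0 F223620)) (tt N74669 (iv2 F228519)) (tt N57174 F223619) (tt N40344 (iv4 D140434)) (tt N58902 F223618) (tt N89480 F386621) (tt N74534 (iv7 F228313)))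
theorem Q72929 : ∀ i, i < 72929 → P i := stepQ 72928 Q72928 (allL N72928 (tt N40409 F385085) (tt N95097 F407026) (tt N93943 (iv2 F402509)) (tt N89082 (iv3 F385088)) (tt N89480 (iv4 F386620)) (tt N81095 (iv5 F386481)) (tt N40344 (iv6 D140435)) (tt N89080 F385084))
theorem Q72930 : ∀ i, i < 72930 → P i := stepQ 72929 Q72929 (allL N72929 (tt N56777 (iv1 F228372)) (tt N56772 F223623) (tt N40346 F223622) (tt N99305 (iv3 F424016)) (tt N107760 D210979) (tt N40345 (iv5 D140436)) (tt N80582 F363352) (tt N99293 (iv7 F423968)))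
theorem Q72931 : ∀ i, i < 72931 → P i := stepQ 72930 Q72930 (allL N72930 (tt N107152 F457214) (tt N107165 F457281) (tt N40347 F223625) (tt N99306 (iv3 F424024)) (tt N93532 (iv4 F401063)) (tt N80557 (iv5 F363354)) (tt N40345 (iv6 D140437)) (tt N107166 (iv7 F457288)))
theorem Q72932 : ∀ i, i < 72932 → P i := stepQ 72931 Q72931 (allL N72931 (tt N99293 (iv1 F423970)) (tt N40346 (iv0 D140438)) (tt N56777 (iv2 F228369)) (tt N61307 F340034) (tt N107761 D210980) (tt N56774 F228371) (tt N85184 (iv6 F371837)) (tt N56772 (iv7 F228370)))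
theorem Q72933 : ∀ i, i < 72933 → P i := stepQ 72932 Q72932 (allL N72932 (tt N40346 (iv1 D140439)) (tt N99293 (iv0 F423969)) (tt N56772 F228367) (tt N107298 (iv3 F457860)) (tt N97858 (iv4 F418542)) (tt N56769 (iv5 F228366)) (tt N85087 F371640) (tt N56777 F228368))
theorem Q72934 : ∀ i, i < 72934 → P i := stepQ 72933 Q72933 (allL N72933 (tt N85189 F371840) (tt N61297 (iv0 F346552)) (tt N107760 (iv2 F459601)) (tt N61237 (iv3 F363671)) (tt N40346 (iv4 D140440)) (tt N68345 F346550) (tt N80585 F363353) (tt N76244 F363674))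
theorem Q72935 : ∀ i, i < 72935 → P i := stepQ 72934 Q72934 (allL N72934 (tt N107166 (iv1 F457289)) (tt N40347 (iv0 D140442)) (tt N107152 (iv2 F457211)) (tt N107762 D210981) (tt N107763 D210982) (tt N107764 D210983) (tt N72624 F357936) (tt N107165 (iv7 F457282)))
theorem Q72936 : ∀ i, i < 72936 → P i := stepQ 72935 Q72935 (allL N72935 (tt N40347 (iv1 D140443)) (tt N107166 F457290) (tt N107165 F457280) (tt N107765 D210984) (tt N107766 D210985) (tt N107767 D210986) (tt N107768 D210987) (tt N107152 F457215))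
theorem Q72937 : ∀ i, i < 72937 → P i := stepQ 72936 Q72936 (allL N72936 (tt N107769 D210988) (tt N94805 (iv0 F406026)) (tt N107770 D210989) (tt N40348 (iv3 D140449)) (tt N57557 F223629) (tt N82009 F363364) (tt N57549 F223630) (tt N99309 (iv7 F424045)))
theorem Q72938 : ∀ i, i < 72938 → P i := stepQ 72937 Q72937 (allL N72937 (tt N94940 F406432) (tt N107771 D210990) (tt N54225 (iv2 F352705)) (tt N40349 (iv3 D140451)) (tt N82727 (iv4 F352696)) (tt N79803 F363366) (tt N54115 F352704) (tt N70219 F223632))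
theorem Q72939 : ∀ i, i < 72939 → P i := stepQ 72938 Q72938 (allL N72938 (tt N57739 (iv1 F223637)) (tt N57738 F223638) (tt N70212 F223634) (tt N54115 (iv3 F352706)) (tt N59019 F223635) (tt N64994 F343795) (tt N40349 (iv6 D140453)) (tt N54220 (iv7 F352683)))
theorem Q72940 : ∀ i, i < 72940 → P i := stepQ 72939 Q72939 (allL N72939 (tt N94802 F407157) (tt N107295 (iv0 F457845)) (tt N99347 (iv2 F424203)) (tt N40350 (iv3 D140457)) (tt N61857 F223640) (tt N94564 F404984) (tt N107772 D210991) (tt N99302 (iv7 F424002)))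
theorem Q72941 : ∀ i, i < 72941 → P i := stepQ 72940 Q72940 (allL N72940 (tt N67633 (iv1 F354199)) (tt N67763 (iv0 F354195)) (tt N73426 (iv2 F322100)) (tt N99265 (iv3 F423872)) (tt N40350 (iv4 D140458)) (tt N102860 (iv5 F438978)) (tt N74714 (iv6 F354200)) (tt N99303 (iv7 F424008)))
theorem Q72942 : ∀ i, i < 72942 → P i := stepQ 72941 Q72941 (allL N72941 (tt N104249 (iv1 F444929)) (tt N40412 F354201) (tt N74712 F354202) (tt N107772 (iv3 F459657)) (tt N74714 F354203) (tt N107773 D210992) (tt N40350 (iv6 D140460)) (tt N107726 (iv7 F459410)))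
theorem Q72943 : ∀ i, i < 72943 → P i := stepQ 72942 Q72942 (allL N72942 (tt N72623 F354205) (tt N99337 (iv0 F424161)) (tt N99304 (iv2 F424011)) (tt N42676 F354206) (tt N42679 F354207) (tt N107774 D210993) (tt N40351 (iv6 D140462)) (tt N66892 F354208))
theorem Q72944 : ∀ i, i < 72944 → P i := stepQ 72943 Q72943 (allL N72943 (tt N72836 (iv1 F350893)) (tt N72834 F350892) (tt N40353 F223641) (tt N99293 (iv3 F423966)) (tt N107775 D210994) (tt N40352 (iv5 D140463)) (tt N94829 (iv6 F406079)) (tt N99305 (iv7 F424017)))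
theorem Q72945 : ∀ i, i < 72945 → P i := stepQ 72944 Q72944 (allL N72944 (tt N102260 F436427) (tt N107776 D210995) (tt N40354 F223642) (tt N99294 (iv3 F423973)) (tt N102689 (iv4 F438212)) (tt N94830 (iv5 F406082)) (tt N40352 (iv6 D140464)) (tt N107777 D210996))
theorem Q72946 : ∀ i, i < 72946 → P i := stepQ 72945 Q72945 (allL N72945 (tt N107778 D210997) (tt N71241 (iv0 F358543)) (tt N107775 (iv2 F459665)) (tt N94817 (iv3 F406055)) (tt N40353 (iv4 D140467)) (tt N99516 (iv5 F424952)) (tt N94832 (iv6 F406086)) (tt N99307 (iv7 F424033)))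
theorem Q72947 : ∀ i, i < 72947 → P i := stepQ 72946 Q72946 (allL N72946 (tt N107777 (iv1 F459684)) (tt N40354 (iv0 D140469)) (tt N102260 (iv2 F436421)) (tt N64945 (iv3 F406100)) (tt N95638 (iv4 F408977)) (tt N64944 F406099) (tt N102252 (iv6 F436381)) (tt N107776 (iv7 F459671)))
theorem Q72948 : ∀ i, i < 72948 → P i := stepQ 72947 Q72947 (allL N72947 (tt N40354 (iv1 D140470)) (tt N107777 F459683) (tt N107776 F459677) (tt N99353 (iv3 F424238)) (tt N102261 (iv4 F436430)) (tt N107779 D210998) (tt N105150 (iv6 F449010)) (tt N102260 F436425))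
theorem Q72949 : ∀ i, i < 72949 → P i := stepQ 72948 Q72948 (allL N72948 (tt N107776 (iv1 F459670)) (tt N102260 (iv0 F436424)) (tt N107777 (iv2 F459678)) (tt N40357 F223645) (tt N100377 (iv4 F428674)) (tt N59486 F360138) (tt N82002 F341403) (tt N40354 (iv7 D140472)))
theorem Q72950 : ∀ i, i < 72950 → P i := stepQ 72949 Q72949 (allL N72949 (tt N107780 D210999) (tt N94854 F407420) (tt N107781 D211000) (tt N40355 (iv3 D140477)) (tt N95505 (iv4 F408393)) (tt N107782 D211001) (tt N54164 F407421) (tt N99300 (iv7 F423994)))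
theorem Q72951 : ∀ i, i < 72951 → P i := stepQ 72950 Q72950 (allL N72950 (tt N78147 (iv1 F246280)) (tt N58173 F336733) (tt N73563 F336734) (tt N107782 (iv3 F459705)) (tt N44362 F336735) (tt N40355 (iv5 D140478)) (tt N72270 F336736) (tt N58358 F336737))
theorem Q72952 : ∀ i, i < 72952 → P i := stepQ 72951 Q72951 (allL N72951 (tt N72609 (iv1 F226614)) (tt N74009 (iv0 F226613)) (tt N99299 (iv2 F423986)) (tt N54164 F407419) (tt N74016 F226612) (tt N93366 (iv5 F400541)) (tt N40355 (iv6 D140479)) (tt N99339 (iv7 F424170)))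
theorem Q72953 : ∀ i, i < 72953 → P i := stepQ 72952 Q72952 (allL N72952 (tt N94801 F406015) (tt N107783 D211002) (tt N107784 D211003) (tt N40356 (iv3 D140480)) (tt N97105 (iv4 F415487)) (tt N64946 F360094) (tt N105149 (iv6 F449003)) (tt N99298 (iv7 F423984)))
theorem Q72954 : ∀ i, i < 72954 → P i := stepQ 72953 Q72953 (allL N72953 (tt N93257 (iv1 F406612)) (tt N91932 F406613) (tt N107697 (iv2 F459274)) (tt N40358 (iv3 D140485)) (tt N95003 (iv4 F406608)) (tt N95271 (iv5 F407659)) (tt N97411 (iv6 F416769)) (tt N99301 (iv7 F423998)))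
theorem Q72955 : ∀ i, i < 72955 → P i := stepQ 72954 Q72954 (allL N72954 (tt N59666 F223653) (tt N95096 F407018) (tt N59558 F223651) (tt N103352 (iv3 F441238)) (tt N40359 (iv4 D140487)) (tt N40712 F337416) (tt N59362 F223652) (tt N78143 F337417))
theorem Q72956 : ∀ i, i < 72956 → P i := stepQ 72955 Q72955 (allL N72955 (tt N40377 F387842) (tt N99324 F424106) (tt N93528 (iv2 F401041)) (tt N40360 (iv3 D140489)) (tt N41481 F223655) (tt N85210 (iv5 F371899)) (tt N77040 (iv6 F371649)) (tt N93531 (iv7 F401057)))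
theorem Q72957 : ∀ i, i < 72957 → P i := stepQ 72956 Q72956 (allL N72956 (tt N107785 D211004) (tt N99096 (iv0 F423321)) (tt N99312 (iv2 F424055)) (tt N97009 F415010) (tt N40360 (iv4 D140490)) (tt N107786 D211005) (tt N107787 D211006) (tt N99310 (iv7 F424049)))
theorem Q72958 : ∀ i, i < 72958 → P i := stepQ 72957 Q72957 (allL N72957 (tt N99331 (iv1 F424134)) (tt N93262 (iv0 F400183)) (tt N99313 (iv2 F424059)) (tt N77040 F371650) (tt N107787 (iv4 F459729)) (tt N96631 F413245) (tt N40360 (iv6 D140492)) (tt N99330 F424129))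
theorem Q72959 : ∀ i, i < 72959 → P i := stepQ 72958 Q72958 (allL N72958 (tt N106939 (iv1 F456365)) (tt N93256 (iv0 F400155)) (tt N107691 (iv2 F459251)) (tt N40361 (iv3 D140494)) (tt N71617 (iv4 F223848)) (tt N96465 (iv5 F412640)) (tt N107788 D211007) (tt N99311 (iv7 F424051)))
theorem Q72960 : ∀ i, i < 72960 → P i := stepQ 72959 Q72959 (allL N72959 (tt N99096 (iv1 F423319)) (tt N107785 F459722) (tt N99310 (iv2 F424047)) (tt N61827 (iv3 F223657)) (tt N40361 (iv4 D140495)) (tt N100603 (iv5 F429659)) (tt N107789 D211008) (tt N99312 (iv7 F424057)))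
theorem Q72961 : ∀ i, i < 72961 → P i := stepQ 72960 Q72960 (allL N72960 (tt N40390 F345321) (tt N70194 F345322) (tt N70416 F349746) (tt N96465 (iv3 F412641)) (tt N94494 (iv4 F404706)) (tt N40361 (iv5 D140496)) (tt N101429 (iv6 F432956)) (tt N70417 F349742))
theorem Q72962 : ∀ i, i < 72962 → P i := stepQ 72961 Q72961 (allL N72961 (tt N40398 F415127) (tt N97034 F415128) (tt N97032 (iv2 F415116)) (tt N107788 (iv3 F459731)) (tt N107789 (iv4 F459735)) (tt N107790 D211009) (tt N40361 (iv6 D140497)) (tt N97031 (iv7 F415125)))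
theorem Q72963 : ∀ i, i < 72963 → P i := stepQ 72962 Q72962 (allL N72962 (tt N73462 (iv1 F360793)) (tt N73459 (iv0 F345314)) (tt N40363 F223658) (tt N73508 (iv3 F224976)) (tt N86274 (iv4 F375642)) (tt N40362 (iv5 D140498)) (tt N78140 F360782) (tt N73506 (iv7 F224961)))
theorem Q72964 : ∀ i, i < 72964 → P i := stepQ 72963 Q72963 (allL N72963 (tt N73506 (iv1 F224962)) (tt N40363 (iv0 D140500)) (tt N73462 (iv2 F349728)) (tt N57123 (iv3 F349730)) (tt N96238 (iv4 F411657)) (tt N57122 F349729) (tt N105103 (iv6 F448803)) (tt N73459 (iv7 F349731)))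
theorem Q72965 : ∀ i, i < 72965 → P i := stepQ 72964 Q72964 (allL N72964 (tt N40363 (iv1 D140501)) (tt N73506 F224964) (tt N73459 F360796) (tt N96537 F412901) (tt N100605 (iv4 F429672)) (tt N62333 F345332) (tt N107221 (iv6 F457512)) (tt N73462 (iv7 F349725)))
theorem Q72966 : ∀ i, i < 72966 → P i := stepQ 72965 Q72965 (allL N72965 (tt N69992 (iv1 F343181)) (tt N69994 (iv0 F343202)) (tt N86274 (iv2 F375641)) (tt N82861 F341407) (tt N40363 (iv4 D140502)) (tt N64560 F341409) (tt N49453 (iv6 F341408)) (tt N73507 (iv7 F224965)))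
theorem Q72967 : ∀ i, i < 72967 → P i := stepQ 72966 Q72966 (allL N72966 (tt N93258 F400161) (tt N103759 (iv0 F442706)) (tt N102686 (iv2 F438200)) (tt N40367 (iv3 D140515)) (tt N71356 F223666) (tt N98219 (iv5 F420033)) (tt N97037 (iv6 F415142)) (tt N99314 (iv7 F424066)))
theorem Q72968 : ∀ i, i < 72968 → P i := stepQ 72967 Q72967 (allL N72967 (tt N71623 (iv1 F223668)) (tt N62653 (iv0 F223667)) (tt N74111 (iv2 F340474)) (tt N55043 F367006) (tt N40367 (iv4 D140516)) (tt N60283 F339983) (tt N93946 F402535) (tt N55038 (iv7 F367005)))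
theorem Q72969 : ∀ i, i < 72969 → P i := stepQ 72968 Q72968 (allL N72968 (tt N99320 (iv1 F424082)) (tt N40373 F340492) (tt N99319 F424084) (tt N40368 (iv3 D140520)) (tt N107791 D211010) (tt N98214 (iv5 F420016)) (tt N107792 D211011) (tt N99315 (iv7 F424070)))
theorem Q72970 : ∀ i, i < 72970 → P i := stepQ 72969 Q72969 (allL N72969 (tt N62653 (iv1 F340490)) (tt N71623 (iv0 F223670)) (tt N55038 (iv2 F367002)) (tt N62636 (iv3 F223671)) (tt N40368 (iv4 D140521)) (tt N60286 F339982) (tt N55036 (iv6 F367027)) (tt N74111 (iv7 F340476)))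
theorem Q72971 : ∀ i, i < 72971 → P i := stepQ 72970 Q72970 (allL N72970 (tt N74196 F372076) (tt N99332 F424138) (tt N55037 (iv2 F367025)) (tt N107792 (iv3 F459743)) (tt N55036 F367026) (tt N107793 D211012) (tt N40368 (iv6 D140523)) (tt N97036 (iv7 F415136)))
theorem Q72972 : ∀ i, i < 72972 → P i := stepQ 72971 Q72971 (allL N72971 (tt N61177 (iv1 F331545)) (tt N61181 (iv0 F331549)) (tt N40370 F223672) (tt N73506 (iv3 F224959)) (tt N78378 F331470) (tt N40369 (iv5 D140524)) (tt N94757 F405827) (tt N73508 (iv7 F224978)))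
theorem Q72973 : ∀ i, i < 72973 → P i := stepQ 72972 Q72972 (allL N72972 (tt N107794 D211013) (tt N93660 (iv0 F401473)) (tt N40371 F223673) (tt N47887 F345329) (tt N74058 (iv4 F226765)) (tt N47885 F345330) (tt N40369 (iv6 D140525)) (tt N107795 D211014))
theorem Q72974 : ∀ i, i < 72974 → P i := stepQ 72973 Q72973 (allL N72973 (tt N107795 (iv1 F459760)) (tt N40371 (iv0 D140530)) (tt N107794 F459751) (tt N107796 D211015) (tt N107797 D211016) (tt N103353 F441243) (tt N107798 D211017) (tt N93660 (iv7 F441244)))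
theorem Q72975 : ∀ i, i < 72975 → P i := stepQ 72974 Q72974 (allL N72974 (tt N40371 (iv1 D140531)) (tt N107795 F459759) (tt N93660 (iv2 F401471)) (tt N107799 D211018) (tt N95352 (iv4 F407970)) (tt N74224 F401442) (tt N74227 (iv6 F401437)) (tt N107794 (iv7 F459752)))
theorem Q72976 : ∀ i, i < 72976 → P i := stepQ 72975 Q72975 (allL N72975 (tt N93660 (iv1 F401474)) (tt N107794 F459754) (tt N107795 (iv2 F459756)) (tt N40372 F223676) (tt N74063 (iv4 F226769)) (tt N96319 (iv5 F412007)) (tt N94599 (iv6 F405128)) (tt N40371 (iv7 D140533)))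
theorem Q72977 : ∀ i, i < 72977 → P i := stepQ 72976 Q72976 (allL N72976 (tt N40373 (iv1 D140542)) (tt N99320 F424087) (tt N99315 (iv2 F424086)) (tt N102686 (iv3 F438201)) (tt N107800 D211019) (tt N107801 D211020) (tt N107802 D211021) (tt N99319 F424085))
theorem Q72978 : ∀ i, i < 72978 → P i := stepQ 72977 Q72977 (allL N72977 (tt N99319 (iv1 F424083)) (tt N99315 (iv0 F424071)) (tt N40373 (iv2 D140543)) (tt N99324 (iv3 F424101)) (tt N55914 (iv4 F223685)) (tt N107803 D211022) (tt N91867 F394762) (tt N99320 (iv7 F424081)))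
theorem Q72979 : ∀ i, i < 72979 → P i := stepQ 72978 Q72978 (allL N72978 (tt N55854 F223683) (tt N55916 F396590) (tt N55914 F223684) (tt N74302 F227254) (tt N40373 (iv4 D140544)) (tt N92433 (iv5 F403878)) (tt N90972 F391427) (tt N55915 F223682))
theorem Q72980 : ∀ i, i < 72980 → P i := stepQ 72979 Q72979 (allL N72979 (tt N103026 F439728) (tt N107804 D211023) (tt N107803 (iv2 F459777)) (tt N40375 F223686) (tt N107805 D211024) (tt N40373 (iv5 D140545)) (tt N107806 D211025) (tt N73486 (iv7 F224933)))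
theorem Q72981 : ∀ i, i < 72981 → P i := stepQ 72980 Q72980 (allL N72980 (tt N107807 D211026) (tt N107808 D211027) (tt N91867 (iv2 F394761)) (tt N40376 F223687) (tt N90972 (iv4 F391426)) (tt N91864 (iv5 F394755)) (tt N40373 (iv6 D140546)) (tt N107163 (iv7 F457272)))
theorem Q72982 : ∀ i, i < 72982 → P i := stepQ 72981 Q72981 (allL N72981 (tt N62515 (iv1 F223693)) (tt N62496 F223690) (tt N41526 F223688) (tt N73775 (iv3 F225724)) (tt N62381 F223691) (tt N40374 (iv5 D140547)) (tt N46566 F322643) (tt N62520 F223689))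
theorem Q72983 : ∀ i, i < 72983 → P i := stepQ 72982 Q72982 (allL N72982 (tt N48053 F324142) (tt N48447 F324143) (tt N41527 F223694) (tt N99622 (iv3 F425453)) (tt N40376 F223695) (tt N44909 F324144) (tt N40374 (iv6 D140548)) (tt N48445 F324145))
theorem Q72984 : ∀ i, i < 72984 → P i := stepQ 72983 Q72983 (allL N72983 (tt N83121 (iv1 F358486)) (tt N55358 (iv0 F358483)) (tt N73489 (iv2 F224939)) (tt N105993 (iv3 F452660)) (tt N40375 (iv4 D140549)) (tt N103027 (iv5 F439731)) (tt N105992 (iv6 F452657)) (tt N73487 (iv7 F224935)))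
theorem Q72985 : ∀ i, i < 72985 → P i := stepQ 72984 Q72984 (allL N72984 (tt N107809 D211028) (tt N78464 F386114) (tt N73490 (iv2 F224941)) (tt N107806 (iv3 F459785)) (tt N105992 F452656) (tt N80561 F386113) (tt N40375 (iv6 D140550)) (tt N95187 (iv7 F407345)))
theorem Q72986 : ∀ i, i < 72986 → P i := stepQ 72985 Q72985 (allL N72985 (tt N88504 (iv1 F383311)) (tt N80551 (iv0 F359322)) (tt N99326 (iv2 F424109)) (tt N91864 F394757) (tt N82343 F359328) (tt N40376 (iv5 D140553)) (tt N80561 (iv6 F386115)) (tt N101129 (iv7 F431829)))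
theorem Q72987 : ∀ i, i < 72987 → P i := stepQ 72986 Q72986 (allL N72986 (tt N99324 (iv1 F424105)) (tt N40377 (iv0 D140555)) (tt N93531 (iv2 F401056)) (tt N107691 F459250) (tt N41480 F223696) (tt N85212 (iv5 F371910)) (tt N107810 D211029) (tt N93528 (iv7 F401042)))
theorem Q72988 : ∀ i, i < 72988 → P i := stepQ 72987 Q72987 (allL N72987 (tt N93531 (iv1 F401059)) (tt N93528 (iv0 F401043)) (tt N40377 (iv2 D140557)) (tt N99320 (iv3 F424079)) (tt N56961 F223697) (tt N107811 D211030) (tt N107812 D211031) (tt N99324 (iv7 F424104)))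
theorem Q72989 : ∀ i, i < 72989 → P i := stepQ 72988 Q72988 (allL N72988 (tt N57108 F387843) (tt N57123 F401789) (tt N107811 (iv2 F459799)) (tt N40378 F223698) (tt N104075 (iv4 F444050)) (tt N40377 (iv5 D140558)) (tt N95188 (iv6 F407352)) (tt N73488 (iv7 F224938)))
theorem Q72990 : ∀ i, i < 72990 → P i := stepQ 72989 Q72989 (allL N72989 (tt N107813 D211032) (tt N107814 D211033) (tt N107812 (iv2 F459804)) (tt N40379 F223699) (tt N99619 (iv4 F425448)) (tt N47891 F358911) (tt N40377 (iv6 D140559)) (tt N107815 D211034))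
theorem Q72991 : ∀ i, i < 72991 → P i := stepQ 72990 Q72990 (allL N72990 (tt N55358 (iv1 F358484)) (tt N83121 F358485) (tt N73487 (iv2 F224934)) (tt N107816 D211035) (tt N40378 (iv4 D140560)) (tt N107817 D211036) (tt N95189 (iv6 F407356)) (tt N73489 (iv7 F224940)))
theorem Q72992 : ∀ i, i < 72992 → P i := stepQ 72991 Q72991 (allL N72991 (tt N40379 (iv1 D140563)) (tt N99323 F424099) (tt N74258 (iv2 F363686)) (tt N107697 F459273) (tt N40453 F363685) (tt N107818 D211037) (tt N101774 F434284) (tt N99322 (iv7 F424094)))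
theorem Q72993 : ∀ i, i < 72993 → P i := stepQ 72992 Q72992 (allL N72992 (tt N76196 F363684) (tt N107819 D211038) (tt N72904 (iv2 F352247)) (tt N47891 F358910) (tt N97526 (iv4 F417256)) (tt N40379 (iv5 D140564)) (tt N60696 F345108) (tt N107820 D211039))
theorem Q72994 : ∀ i, i < 72994 → P i := stepQ 72993 Q72993 (allL N72993 (tt N74258 (iv1 F359815)) (tt N99322 F424095) (tt N99323 (iv2 F424096)) (tt N107815 (iv3 F459821)) (tt N42182 F359816) (tt N107820 (iv5 F459845)) (tt N82341 (iv6 F359817)) (tt N40379 (iv7 D140565)))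
theorem Q72995 : ∀ i, i < 72995 → P i := stepQ 72994 Q72994 (allL N72994 (tt N85552 (iv1 F373046)) (tt N85550 F373041) (tt N40384 F223700) (tt N107265 F457704) (tt N40380 (iv4 D140566)) (tt N99360 (iv5 F424269)) (tt N101256 (iv6 F432422)) (tt N89319 (iv7 F386079)))
theorem Q72996 : ∀ i, i < 72996 → P i := stepQ 72995 Q72995 (allL N72995 (tt N107821 D211040) (tt N107822 D211041) (tt N40385 F223701) (tt N107698 (iv3 F459276)) (tt N101256 (iv4 F432421)) (tt N40881 F342506) (tt N40380 (iv6 D140567)) (tt N101254 (iv7 F432413)))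
theorem Q72997 : ∀ i, i < 72997 → P i := stepQ 72996 Q72996 (allL N72996 (tt N40389 (iv1 F223706)) (tt N40381 (iv0 D140568)) (tt N40386 F342410) (tt N107823 D211042) (tt N41554 (iv4 F223708)) (tt N40480 F342423) (tt N101776 (iv6 F434293)) (tt N40387 F342411))
theorem Q72998 : ∀ i, i < 72998 → P i := stepQ 72997 Q72997 (allL N72997 (tt N107824 D211043) (tt N107825 D211044) (tt N40388 F223703) (tt N107699 (iv3 F459280)) (tt N40882 F342504) (tt N40381 (iv5 D140570)) (tt N40881 F342505) (tt N107826 D211045))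
theorem Q72999 : ∀ i, i < 72999 → P i := stepQ 72998 Q72998 (allL N72998 (tt N40387 (iv1 F223707)) (tt N40386 F223709) (tt N40389 F223704) (tt N53190 F331772) (tt N40460 F223705) (tt N107826 (iv5 F459879)) (tt N43860 F320768) (tt N40381 (iv7 D140571)))
theorem Q73000 : ∀ i, i < 73000 → P i := stepQ 72999 Q72999 (allL N72999 (tt N98214 F459740) (tt N107801 (iv0 F459775)) (tt N85235 (iv2 F371983)) (tt N40382 (iv3 D140572)) (tt N107827 D211046) (tt N40685 F223710) (tt N85233 F371982) (tt N99327 (iv7 F424114)))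
theorem Q73001 : ∀ i, i < 73001 → P i := stepQ 73000 Q73000 (allL N73000 (tt N65229 (iv1 F366753)) (tt N107828 D211047) (tt N99328 (iv2 F424116)) (tt N71242 F358544) (tt N40382 (iv4 D140573)) (tt N103017 (iv5 F439688)) (tt N91731 F394223) (tt N71235 (iv7 F358533)))
theorem Q73002 : ∀ i, i < 73002 → P i := stepQ 73001 Q73001 (allL N73001 (tt N53810 (iv1 F372007)) (tt N85238 F372001) (tt N84831 F370784) (tt N85233 (iv3 F371980)) (tt N91731 (iv4 F394222)) (tt N50388 (iv5 F345109)) (tt N40382 (iv6 D140574)) (tt N85239 (iv7 F372006)))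
theorem Q73003 : ∀ i, i < 73003 → P i := stepQ 73002 Q73002 (allL N73002 (tt N85212 (iv1 F371911)) (tt N85210 F371997) (tt N85237 (iv2 F371995)) (tt N40383 (iv3 D140575)) (tt N89880 (iv4 F387839)) (tt N40686 F223711) (tt N85242 (iv6 F372021)) (tt N84832 F370789))
theorem Q73004 : ∀ i, i < 73004 → P i := stepQ 73003 Q73003 (allL N73003 (tt N107828 (iv1 F459887)) (tt N65229 (iv0 F366752)) (tt N71235 (iv2 F358532)) (tt N107829 D211048) (tt N40383 (iv4 D140576)) (tt N107830 D211049) (tt N71230 F358547) (tt N99328 (iv7 F424119)))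
theorem Q73005 : ∀ i, i < 73005 → P i := stepQ 73004 Q73004 (allL N73004 (tt N58332 F352252) (tt N90334 (iv0 F389370)) (tt N71234 F358549) (tt N85242 (iv3 F372018)) (tt N71230 (iv4 F358548)) (tt N94510 (iv5 F404766)) (tt N40383 (iv6 D140577)) (tt N85241 (iv7 F372017)))
theorem Q73006 : ∀ i, i < 73006 → P i := stepQ 73005 Q73005 (allL N73005 (tt N89319 (iv1 F386078)) (tt N40384 (iv0 D140578)) (tt N85552 (iv2 F373042)) (tt N43273 F340008) (tt N40730 F223712) (tt N85537 (iv5 F372983)) (tt N43291 F340009) (tt N85550 (iv7 F373038)))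
theorem Q73007 : ∀ i, i < 73007 → P i := stepQ 73006 Q73006 (allL N73006 (tt N40384 (iv1 D140579)) (tt N89319 (iv0 F386077)) (tt N85550 (iv2 F373036)) (tt N95217 (iv3 F407455)) (tt N40732 (iv4 F223821)) (tt N85536 (iv5 F372975)) (tt N96715 (iv6 F413586)) (tt N85552 (iv7 F373045)))
theorem Q73008 : ∀ i, i < 73008 → P i := stepQ 73007 Q73007 (allL N73007 (tt N85618 (iv1 F373219)) (tt N85620 (iv0 F373231)) (tt N99360 (iv2 F424268)) (tt N90450 (iv3 F389690)) (tt N56296 F366487) (tt N40384 (iv5 D140580)) (tt N56297 (iv6 F366488)) (tt N88453 (iv7 F383109)))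
theorem Q73009 : ∀ i, i < 73009 → P i := stepQ 73008 Q73008 (allL N73008 (tt N101255 (iv1 F432417)) (tt N91691 F432423) (tt N101256 (iv2 F432420)) (tt N90125 (iv3 F388612)) (tt N40385 F223713) (tt N82684 (iv5 F372985)) (tt N40384 (iv6 D140581)) (tt N89317 (iv7 F386066)))
theorem Q73010 : ∀ i, i < 73010 → P i := stepQ 73009 Q73009 (allL N73009 (tt N101254 F432415) (tt N40385 (iv0 D140582)) (tt N107821 F459852) (tt N107831 D211050) (tt N107832 D211051) (tt N43570 F360598) (tt N107833 D211052) (tt N107822 (iv7 F459855)))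
theorem Q73011 : ∀ i, i < 73011 → P i := stepQ 73010 Q73010 (allL N73010 (tt N40385 (iv1 D140583)) (tt N101254 F432416) (tt N107822 (iv2 F459858)) (tt N107834 D211053) (tt N107835 D211054) (tt N43571 F363137) (tt N91683 F394057) (tt N107821 F459853))
theorem Q73012 : ∀ i, i < 73012 → P i := stepQ 73011 Q73011 (allL N73011 (tt N107822 (iv1 F459854)) (tt N107821 F459851) (tt N101254 (iv2 F432411)) (tt N40397 F223716) (tt N89317 (iv4 F386065)) (tt N40884 F342499) (tt N58343 F351233) (tt N40385 (iv7 D140585)))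
theorem Q73013 : ∀ i, i < 73013 → P i := stepQ 73012 Q73012 (allL N73012 (tt N97035 F415133) (tt N107802 (iv0 F490758)) (tt N96130 (iv2 F411185)) (tt N40386 (iv3 D140587)) (tt N107836 D211056) (tt N93872 F402236) (tt N96111 (iv6 F411107)) (tt N101788 (iv7 F434348)))
theorem Q73014 : ∀ i, i < 73014 → P i := stepQ 73013 Q73013 (allL N73013 (tt N41555 F342426) (tt N41559 F342427) (tt N40480 F342428) (tt N93872 (iv3 F402233)) (tt N40459 F342429) (tt N40386 (iv5 D140589)) (tt N41529 F348358) (tt N43587 F342430))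
theorem Q73015 : ∀ i, i < 73015 → P i := stepQ 73014 Q73014 (allL N73014 (tt N101774 (iv1 F434281)) (tt N99637 (iv0 F425533)) (tt N101776 (iv2 F434290)) (tt N96111 (iv3 F411106)) (tt N91561 F393662) (tt N96108 (iv5 F411095)) (tt N40386 (iv6 D140590)) (tt N78065 F363147))
theorem Q73016 : ∀ i, i < 73016 → P i := stepQ 73015 Q73015 (allL N73015 (tt N107810 F459797) (tt N107837 D211057) (tt N107838 D211058) (tt N40387 (iv3 D140592)) (tt N107839 D211059) (tt N79427 F360587) (tt N78066 F363146) (tt N107823 (iv7 F459862)))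
theorem Q73017 : ∀ i, i < 73017 → P i := stepQ 73016 Q73016 (allL N73016 (tt N41559 F342431) (tt N41555 F342432) (tt N43587 F342433) (tt N79427 (iv3 F350128)) (tt N40481 F342434) (tt N40387 (iv5 D140594)) (tt N43495 F342435) (tt N40480 F342436))
theorem Q73018 : ∀ i, i < 73018 → P i := stepQ 73017 Q73017 (allL N73017 (tt N107826 (iv1 F459882)) (tt N40388 (iv0 D140596)) (tt N107824 F459866) (tt N96169 (iv3 F440006)) (tt N80352 (iv4 F440004)) (tt N107840 D211060) (tt N80351 F440005) (tt N107825 (iv7 F459871)))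
theorem Q73019 : ∀ i, i < 73019 → P i := stepQ 73018 Q73018 (allL N73018 (tt N40388 (iv1 D140597)) (tt N107826 F459881) (tt N107825 (iv2 F459875)) (tt N47317 F362762) (tt N74014 F362763) (tt N107841 D211061) (tt N47324 F362764) (tt N107824 F459868))
theorem Q73020 : ∀ i, i < 73020 → P i := stepQ 73019 Q73019 (allL N73019 (tt N107825 (iv1 F459870)) (tt N107824 (iv0 F459869)) (tt N107826 (iv2 F459876)) (tt N40407 F223720) (tt N77107 (iv4 F342439)) (tt N40389 F223721) (tt N77106 (iv6 F350190)) (tt N40388 (iv7 D140599)))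
theorem Q73021 : ∀ i, i < 73021 → P i := stepQ 73020 Q73020 (allL N73020 (tt N70417 (iv1 F345320)) (tt N70416 F349751) (tt N40390 (iv2 D140602)) (tt N44614 F345316) (tt N70196 F345318) (tt N40679 F223722) (tt N44617 F345317) (tt N70194 (iv7 F345313)))
theorem Q73022 : ∀ i, i < 73022 → P i := stepQ 73021 Q73021 (allL N73021 (tt N70240 (iv1 F351196)) (tt N70239 F360007) (tt N44617 F331537) (tt N40391 F223723) (tt N70423 F351194) (tt N73023 F351117) (tt N40390 (iv6 D140604)) (tt N70152 (iv7 F351193)))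
theorem Q73023 : ∀ i, i < 73023 → P i := stepQ 73022 Q73022 (allL N73022 (tt N40391 (iv1 D140606)) (tt N61325 (iv0 F351181)) (tt N53807 F351125) (tt N85238 (iv3 F371998)) (tt N82516 F351126) (tt N95231 (iv5 F407514)) (tt N58347 F351127) (tt N61324 (iv7 F351123)))
theorem Q73024 : ∀ i, i < 73024 → P i := stepQ 73023 Q73023 (allL N73023 (tt N53807 (iv1 F351128)) (tt N61324 F351118) (tt N61325 F351115) (tt N70152 (iv3 F351116)) (tt N107732 (iv4 F459444)) (tt N73021 (iv5 F351117)) (tt N58333 (iv6 F351201)) (tt N40391 (iv7 D140607)))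
theorem Q73025 : ∀ i, i < 73025 → P i := stepQ 73024 Q73024 (allL N73024 (tt N61314 F331523) (tt N61313 F331524) (tt N40392 (iv2 D140610)) (tt N70194 (iv3 F345312)) (tt N44615 F331525) (tt N40682 F223724) (tt N70193 F351261) (tt N44614 F331526))
theorem Q73026 : ∀ i, i < 73026 → P i := stepQ 73025 Q73025 (allL N73025 (tt N70237 (iv1 F351256)) (tt N70236 F351305) (tt N70193 (iv2 F351253)) (tt N40393 F223725) (tt N61315 (iv4 F351254)) (tt N70225 (iv5 F351255)) (tt N40392 (iv6 D140612)) (tt N61326 F351252))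
theorem Q73027 : ∀ i, i < 73027 → P i := stepQ 73026 Q73026 (allL N73026 (tt N70150 F345278) (tt N47899 F345279) (tt N44350 F345280) (tt N70225 F345281) (tt N71561 F345282) (tt N40393 (iv5 D140615)) (tt N40684 F223726) (tt N70151 F345283))
theorem Q73028 : ∀ i, i < 73028 → P i := stepQ 73027 Q73027 (allL N73027 (tt N58335 (iv1 F351248)) (tt N57948 (iv0 F351241)) (tt N58333 F351203) (tt N61326 (iv3 F351205)) (tt N105373 (iv4 F449938)) (tt N70151 (iv5 F351206)) (tt N61325 (iv6 F351207)) (tt N40393 (iv7 D140616)))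
theorem Q73029 : ∀ i, i < 73029 → P i := stepQ 73028 Q73028 (allL N73028 (tt N82277 (iv1 F407386)) (tt N101429 F432957) (tt N101428 (iv2 F432953)) (tt N40394 (iv3 D140618)) (tt N82274 F404739) (tt N107842 D211062) (tt N94503 (iv6 F404738)) (tt N95200 (iv7 F407384)))
theorem Q73030 : ∀ i, i < 73030 → P i := stepQ 73029 Q73029 (allL N73029 (tt N58023 (iv1 F360122)) (tt N57875 F360126) (tt N58020 F360123) (tt N107843 D211063) (tt N40394 (iv4 D140619)) (tt N79818 (iv5 F360121)) (tt N105379 (iv6 F449967)) (tt N58021 F360119))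
theorem Q73031 : ∀ i, i < 73031 → P i := stepQ 73030 Q73030 (allL N73030 (tt N58258 F363349) (tt N43572 F363350) (tt N107715 (iv2 F459357)) (tt N107842 (iv3 F459955)) (tt N107844 D211064) (tt N40394 (iv5 D140620)) (tt N102313 F436674) (tt N107716 (iv7 F459366)))
theorem Q73032 : ∀ i, i < 73032 → P i := stepQ 73031 Q73031 (allL N73031 (tt N58329 (iv1 F363338)) (tt N57946 F363348) (tt N58326 F363345) (tt N94503 F404737) (tt N105379 (iv4 F449969)) (tt N107845 D211065) (tt N40394 (iv6 D140621)) (tt N58327 (iv7 F363344)))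
theorem Q73033 : ∀ i, i < 73033 → P i := stepQ 73032 Q73032 (allL N73032 (tt N57054 F360114) (tt N57057 F360115) (tt N56810 F360113) (tt N40395 (iv3 D140623)) (tt N100780 (iv4 F430438)) (tt N56358 (iv5 F360111)) (tt N78454 F360110) (tt N107714 (iv7 F459352)))
theorem Q73034 : ∀ i, i < 73034 → P i := stepQ 73033 Q73033 (allL N73033 (tt N57875 F360117) (tt N58023 F360118) (tt N58021 F360100) (tt N107846 D211066) (tt N40395 (iv4 D140624)) (tt N79799 (iv5 F360116)) (tt N44659 F360101) (tt N58020 (iv7 F360125)))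
theorem Q73035 : ∀ i, i < 73035 → P i := stepQ 73034 Q73034 (allL N73034 (tt N43572 F360102) (tt N58258 F360103) (tt N107716 (iv2 F459363)) (tt N56358 F360104) (tt N77864 F360105) (tt N40395 (iv5 D140625)) (tt N56357 F360106) (tt N107715 (iv7 F459359)))
theorem Q73036 : ∀ i, i < 73036 → P i := stepQ 73035 Q73035 (allL N73035 (tt N57050 (iv1 F363141)) (tt N40396 (iv0 D140627)) (tt N57052 (iv2 F363139)) (tt N99484 (iv3 F424795)) (tt N107847 D211067) (tt N94733 (iv5 F405718)) (tt N99483 F424792) (tt N57049 F363140))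
theorem Q73037 : ∀ i, i < 73037 → P i := stepQ 73036 Q73036 (allL N73036 (tt N107848 D211068) (tt N107849 D211069) (tt N107717 (iv2 F459369)) (tt N100068 F427419) (tt N40396 (iv4 D140629)) (tt N93573 F405737) (tt N40406 F223729) (tt N107850 D211070))
theorem Q73038 : ∀ i, i < 73038 → P i := stepQ 73037 Q73037 (allL N73037 (tt N57049 F342496) (tt N57052 F342497) (tt N57050 F363142) (tt N40884 F342498) (tt N107850 (iv4 F459989)) (tt N40397 F223730) (tt N101933 F434999) (tt N40396 (iv7 D140630)))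
theorem Q73039 : ∀ i, i < 73039 → P i := stepQ 73038 Q73038 (allL N73038 (tt N97034 (iv1 F415131)) (tt N40398 (iv0 D140631)) (tt N97031 (iv2 F415129)) (tt N107837 (iv3 F459942)) (tt N107851 D211071) (tt N107852 D211072) (tt N99330 (iv6 F424131)) (tt N97032 F415130))
theorem Q73040 : ∀ i, i < 73040 → P i := stepQ 73039 Q73039 (allL N73039 (tt N107853 D211073) (tt N74008 (iv0 F401238)) (tt N92888 (iv2 F398653)) (tt N40401 F223732) (tt N61924 F359954) (tt N92885 (iv5 F398650)) (tt N40398 (iv6 D140635)) (tt N78060 (iv7 F245632)))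
theorem Q73041 : ∀ i, i < 73041 → P i := stepQ 73040 Q73040 (allL N73040 (tt N40403 (iv1 F223734)) (tt N40400 (iv0 D140636)) (tt N56964 (iv2 F331802)) (tt N107854 D211074) (tt N107855 D211075) (tt N72852 F223733) (tt N107856 D211076) (tt N56965 (iv7 F363741)))
theorem Q73042 : ∀ i, i < 73042 → P i := stepQ 73041 Q73041 (allL N73041 (tt N40400 (iv1 D140637)) (tt N40403 F223735) (tt N56965 (iv2 F363740)) (tt N41559 F331808) (tt N107857 D211077) (tt N59887 (iv5 F223736)) (tt N56817 (iv6 F345395)) (tt N56964 (iv7 F331804)))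
theorem Q73043 : ∀ i, i < 73043 → P i := stepQ 73042 Q73042 (allL N73042 (tt N93686 F401567) (tt N107858 D211078) (tt N56952 (iv2 F364956)) (tt N94400 F404304) (tt N40400 (iv4 D140638)) (tt N94735 (iv5 F405742)) (tt N56950 F364955) (tt N107157 (iv7 F457237)))
theorem Q73044 : ∀ i, i < 73044 → P i := stepQ 73043 Q73043 (allL N73043 (tt N107858 (iv1 F460020)) (tt N93686 (iv0 F402473)) (tt N107157 (iv2 F457235)) (tt N41570 F331812) (tt N40403 (iv4 D140645)) (tt N95175 (iv5 F407313)) (tt N95329 (iv6 F407873)) (tt N56952 F331813))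
theorem Q73045 : ∀ i, i < 73045 → P i := stepQ 73044 Q73044 (allL N73044 (tt N107852 F459992) (tt N107790 (iv0 F459738)) (tt N96177 (iv2 F411353)) (tt N40404 (iv3 D140648)) (tt N107859 D211079) (tt N81988 (iv5 F360028)) (tt N79428 F351096) (tt N107719 (iv7 F459380)))
theorem Q73046 : ∀ i, i < 73046 → P i := stepQ 73045 Q73045 (allL N73045 (tt N107860 D211080) (tt N107861 D211081) (tt N107718 (iv2 F459374)) (tt N107862 D211082) (tt N40404 (iv4 D140649)) (tt N107863 D211083) (tt N95095 (iv6 F407012)) (tt N107720 (iv7 F459382)))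
theorem Q73047 : ∀ i, i < 73047 → P i := stepQ 73046 Q73046 (allL N73046 (tt N58180 (iv1 F223751)) (tt N41069 F223744) (tt N78144 (iv2 F246266)) (tt N81988 F360029) (tt N97074 (iv4 F415344)) (tt N40404 (iv5 D140650)) (tt N57747 F223745) (tt N40708 (iv7 F223746)))
theorem Q73048 : ∀ i, i < 73048 → P i := stepQ 73047 Q73047 (allL N73047 (tt N57055 F342473) (tt N93965 (iv0 F402630)) (tt N95033 (iv2 F406734)) (tt N40405 (iv3 D140652)) (tt N57066 (iv4 F342468)) (tt N74636 F342472) (tt N93200 (iv6 F399941)) (tt N57172 F342471))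
theorem Q73049 : ∀ i, i < 73049 → P i := stepQ 73048 Q73048 (allL N73048 (tt N107861 (iv1 F460034)) (tt N107860 F460031) (tt N107720 (iv2 F459381)) (tt N107864 D211084) (tt N40405 (iv4 D140653)) (tt N93705 F401620) (tt N107865 D211085) (tt N107718 (iv7 F459377)))
theorem Q73050 : ∀ i, i < 73050 → P i := stepQ 73049 Q73049 (allL N73049 (tt N41069 (iv1 F223756)) (tt N58180 F223754) (tt N40708 F223752) (tt N74636 (iv3 F342474)) (tt N66536 F223753) (tt N40405 (iv5 D140654)) (tt N40671 F223755) (tt N78144 (iv7 F246268)))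
theorem Q73051 : ∀ i, i < 73051 → P i := stepQ 73050 Q73050 (allL N73050 (tt N103177 F440428) (tt N107866 D211086) (tt N107721 (iv2 F459384)) (tt N93200 F399945) (tt N107865 (iv4 F460049)) (tt N107867 D211087) (tt N40405 (iv6 D140655)) (tt N95094 (iv7 F407009)))
theorem Q73052 : ∀ i, i < 73052 → P i := stepQ 73051 Q73051 (allL N73051 (tt N107725 (iv1 F459406)) (tt N40406 (iv0 D140656)) (tt N107722 F459390) (tt N90473 (iv3 F406445)) (tt N94942 F406443) (tt N94330 F405738) (tt N107868 D211088) (tt N107723 (iv7 F459395)))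
theorem Q73053 : ∀ i, i < 73053 → P i := stepQ 73052 Q73052 (allL N73052 (tt N40406 (iv1 D140657)) (tt N107725 F459405) (tt N107723 F459399) (tt N107869 D211089) (tt N94943 (iv4 F406447)) (tt N93680 (iv5 F405739)) (tt N107870 D211090) (tt N107722 F459391))
theorem Q73054 : ∀ i, i < 73054 → P i := stepQ 73053 Q73053 (allL N73053 (tt N94213 F405731) (tt N55995 F405732) (tt N94407 F405733) (tt N40406 (iv3 D140658)) (tt N101780 (iv4 F434314)) (tt N74366 F405734) (tt N100068 (iv6 F427420)) (tt N94406 F405735))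
theorem Q73055 : ∀ i, i < 73055 → P i := stepQ 73054 Q73054 (allL N73054 (tt N94711 F405730) (tt N95093 F407006) (tt N95091 F406994) (tt N74366 F405729) (tt N94734 (iv4 F405728)) (tt N40406 (iv5 D140659)) (tt N92461 (iv6 F405736)) (tt N95090 F406990))
theorem Q73056 : ∀ i, i < 73056 → P i := stepQ 73055 Q73055 (allL N73055 (tt N107723 (iv1 F459394)) (tt N107722 F459392) (tt N107725 (iv2 F459402)) (tt N94406 (iv3 F405740)) (tt N40407 F223757) (tt N95090 F406991) (tt N107871 D211091) (tt N40406 (iv7 D140660)))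
theorem Q73057 : ∀ i, i < 73057 → P i := stepQ 73056 Q73056 (allL N73056 (tt N95726 F409327) (tt N97575 (iv0 F417435)) (tt N101934 (iv2 F435005)) (tt N77106 F350191) (tt N107871 (iv4 F460066)) (tt N73096 F342482) (tt N40407 (iv6 D140661)) (tt N101933 F435000))
theorem Q73058 : ∀ i, i < 73058 → P i := stepQ 73057 Q73057 (allL N73057 (tt N89980 F388177) (tt N107872 D211092) (tt N107873 D211093) (tt N40408 (iv3 D140662)) (tt N92397 (iv4 F396910)) (tt N107874 D211094) (tt N90002 (iv6 F388256)) (tt N92384 (iv7 F396898)))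
theorem Q73059 : ∀ i, i < 73059 → P i := stepQ 73058 Q73058 (allL N73058 (tt N94943 (iv1 F406446)) (tt N94942 F406444) (tt N94945 (iv2 F406450)) (tt N107874 (iv3 F460073)) (tt N107875 D211095) (tt N40408 (iv5 D140663)) (tt N107876 D211096) (tt N92385 (iv7 F396901)))
theorem Q73060 : ∀ i, i < 73060 → P i := stepQ 73059 Q73059 (allL N73059 (tt N95097 (iv1 F407025)) (tt N40409 (iv0 D140664)) (tt N89080 (iv2 F385081)) (tt N41500 F362760) (tt N89478 (iv4 F386615)) (tt N81096 F362759) (tt N86045 F374998) (tt N93943 (iv7 F402510)))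
theorem Q73061 : ∀ i, i < 73061 → P i := stepQ 73060 Q73060 (allL N73060 (tt N89080 (iv1 F402514)) (tt N93943 F402513) (tt N40409 (iv2 D140666)) (tt N104249 (iv3 F444924)) (tt N90554 (iv4 F390077)) (tt N57112 F386494) (tt N57114 (iv6 F386493)) (tt N95097 (iv7 F407024)))
theorem Q73062 : ∀ i, i < 73062 → P i := stepQ 73061 Q73061 (allL N73061 (tt N41495 F386495) (tt N93615 F401286) (tt N57112 F386482) (tt N40410 F223758) (tt N89432 F386480) (tt N40409 (iv5 D140667)) (tt N41475 F386483) (tt N90543 (iv7 F390028)))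
theorem Q73063 : ∀ i, i < 73063 → P i := stepQ 73062 Q73062 (allL N73062 (tt N96089 F410993) (tt N107877 D211097) (tt N57114 F386489) (tt N40411 F223759) (tt N93608 (iv4 F401246)) (tt N57099 (iv5 F386488)) (tt N40409 (iv6 D140668)) (tt N72628 F223760))
theorem Q73064 : ∀ i, i < 73064 → P i := stepQ 73063 Q73063 (allL N73063 (tt N40413 (iv1 F223762)) (tt N40410 (iv0 D140669)) (tt N93933 (iv2 F402469)) (tt N107878 D211098) (tt N93580 (iv4 F401203)) (tt N72846 F223761) (tt N99022 (iv6 F423067)) (tt N95098 (iv7 F407029)))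
theorem Q73065 : ∀ i, i < 73065 → P i := stepQ 73064 Q73064 (allL N73064 (tt N40410 (iv1 D140670)) (tt N40413 F223763) (tt N95098 F407027) (tt N93931 (iv3 F402461)) (tt N93581 (iv4 F401204)) (tt N73556 F246298) (tt N95728 (iv6 F409343)) (tt N93933 (iv7 F402471)))
theorem Q73066 : ∀ i, i < 73066 → P i := stepQ 73065 Q73065 (allL N73065 (tt N107855 (iv1 F460007)) (tt N107857 (iv0 F460018)) (tt N95092 (iv2 F406998)) (tt N107879 D211099) (tt N40410 (iv4 D140671)) (tt N94711 (iv5 F405629)) (tt N102304 F436630) (tt N95099 (iv7 F407031)))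
theorem Q73067 : ∀ i, i < 73067 → P i := stepQ 73066 Q73066 (allL N73066 (tt N93572 F401190) (tt N59096 F386484) (tt N93914 (iv2 F402420)) (tt N41475 F386485) (tt N102304 (iv4 F436627)) (tt N57097 F386486) (tt N40410 (iv6 D140672)) (tt N57120 F386487))
theorem Q73068 : ∀ i, i < 73068 → P i := stepQ 73067 Q73067 (allL N73067 (tt N56761 F223765) (tt N105154 F449035) (tt N98817 (iv2 F422454)) (tt N57099 F386490) (tt N98811 (iv4 F422419)) (tt N40411 (iv5 D140673)) (tt N57097 (iv6 F386492)) (tt N72632 F223764))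
theorem Q73069 : ∀ i, i < 73069 → P i := stepQ 73068 Q73068 (allL N73068 (tt N40412 (iv1 D140675)) (tt N104249 (iv0 F444928)) (tt N107726 F459408) (tt N66894 (iv3 F342417)) (tt N74715 F342418) (tt N107880 D211100) (tt N66892 F342419) (tt N74712 F342420))
theorem Q73070 : ∀ i, i < 73070 → P i := stepQ 73069 Q73069 (allL N73069 (tt N74712 F405308) (tt N107726 F459409) (tt N40412 (iv2 D140676)) (tt N95097 (iv3 F407020)) (tt N100384 (iv4 F428723)) (tt N90046 F388409) (tt N72636 F223766) (tt N104249 (iv7 F444927)))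
theorem Q73071 : ∀ i, i < 73071 → P i := stepQ 73070 Q73070 (allL N73070 (tt N107881 D211101) (tt N107882 D211102) (tt N90046 (iv2 F388405)) (tt N40413 F223767) (tt N42787 F357114) (tt N40412 (iv5 D140677)) (tt N90032 (iv6 F388352)) (tt N107727 (iv7 F459416)))
theorem Q73072 : ∀ i, i < 73072 → P i := stepQ 73071 Q73071 (allL N73071 (tt N107857 (iv1 F460019)) (tt N107855 (iv0 F460006)) (tt N95099 (iv2 F407030)) (tt N101191 F432115) (tt N40413 (iv4 D140678)) (tt N95093 (iv5 F407005)) (tt N107883 D211103) (tt N95092 F407003))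
theorem Q73073 : ∀ i, i < 73073 → P i := stepQ 73072 Q73072 (allL N73072 (tt N91625 F393814) (tt N107884 D211104) (tt N95100 (iv2 F407034)) (tt N90032 F388354) (tt N107883 (iv4 F460108)) (tt N72638 F223768) (tt N40413 (iv6 D140679)) (tt N107885 D211105))
theorem Q73074 : ∀ i, i < 73074 → P i := stepQ 73073 Q73073 (allL N73073 (tt N96452 F412580) (tt N93841 (iv0 F402101)) (tt N93743 (iv2 F401737)) (tt N40414 (iv3 D140680)) (tt N93619 (iv4 F401297)) (tt N59132 (iv5 F358702)) (tt N72340 F358703) (tt N96412 (iv7 F412407)))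
theorem Q73075 : ∀ i, i < 73075 → P i := stepQ 73074 Q73074 (allL N73074 (tt N58170 F223769) (tt N58172 F223770) (tt N96411 (iv2 F412397)) (tt N59132 F358701) (tt N93680 (iv4 F401541)) (tt N40414 (iv5 D140681)) (tt N59130 (iv6 F358698)) (tt N96413 (iv7 F412418)))
theorem Q73076 : ∀ i, i < 73076 → P i := stepQ 73075 Q73075 (allL N73075 (tt N102322 (iv1 F436725)) (tt N93364 F400538) (tt N78149 (iv2 F246294)) (tt N89989 (iv3 F388212)) (tt N40415 (iv4 D140682)) (tt N94942 (iv5 F406439)) (tt N57750 F223771) (tt N40720 F223772))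
theorem Q73077 : ∀ i, i < 73077 → P i := stepQ 73076 Q73076 (allL N73076 (tt N80948 F364761) (tt N65036 F364762) (tt N96504 F412785) (tt N40417 (iv3 D140683)) (tt N95836 (iv4 F409867)) (tt N107886 D211106) (tt N81771 F351061) (tt N96410 (iv7 F412394)))
theorem Q73078 : ∀ i, i < 73078 → P i := stepQ 73077 Q73077 (allL N73077 (tt N58172 (iv1 F225003)) (tt N58170 F223773) (tt N96413 (iv2 F412415)) (tt N107886 (iv3 F460122)) (tt N94330 (iv4 F404061)) (tt N40417 (iv5 D140684)) (tt N94329 F404060) (tt N96411 (iv7 F412399)))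
theorem Q73079 : ∀ i, i < 73079 → P i := stepQ 73078 Q73078 (allL N73078 (tt N93364 F400537) (tt N102322 (iv0 F436724)) (tt N40720 F223774) (tt N107887 D211107) (tt N40418 (iv4 D140685)) (tt N94943 F406448) (tt N40675 F223775) (tt N78149 (iv7 F246296)))
theorem Q73080 : ∀ i, i < 73080 → P i := stepQ 73079 Q73079 (allL N73079 (tt N107888 D211108) (tt N107889 D211109) (tt N107890 D211110) (tt N40419 (iv3 D140686)) (tt N96820 (iv4 F414113)) (tt N93703 F401618) (tt N107891 D211111) (tt N96409 (iv7 F412391)))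
theorem Q73081 : ∀ i, i < 73081 → P i := stepQ 73080 Q73080 (allL N73080 (tt N56805 (iv1 F364140)) (tt N58039 (iv0 F223779)) (tt N96408 (iv2 F412382)) (tt N107891 (iv3 F460144)) (tt N95272 (iv4 F407665)) (tt N56829 (iv5 F330473)) (tt N40419 (iv6 D140688)) (tt N96483 (iv7 F412707)))
theorem Q73082 : ∀ i, i < 73082 → P i := stepQ 73081 Q73081 (allL N73081 (tt N81666 F360013) (tt N81674 F360012) (tt N81729 F360009) (tt N40420 (iv3 D140689)) (tt N81667 F360011) (tt N72338 (iv5 F351101)) (tt N96784 (iv6 F413924)) (tt N73748 F360010))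
theorem Q73083 : ∀ i, i < 73083 → P i := stepQ 73082 Q73082 (allL N73082 (tt N58181 F223780) (tt N58179 (iv0 F223781)) (tt N93424 (iv2 F400691)) (tt N72338 F351100) (tt N107863 (iv4 F460039)) (tt N40420 (iv5 D140690)) (tt N65471 (iv6 F351102)) (tt N73744 (iv7 F331103)))
theorem Q73084 : ∀ i, i < 73084 → P i := stepQ 73083 Q73083 (allL N73083 (tt N79145 F325841) (tt N44924 F325842) (tt N40421 (iv2 D140693)) (tt N59093 F364754) (tt N40510 F223782) (tt N95220 (iv5 F407467)) (tt N40428 F223783) (tt N79168 F325843))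
theorem Q73085 : ∀ i, i < 73085 → P i := stepQ 73084 Q73084 (allL N73084 (tt N95093 (iv1 F407007)) (tt N94711 (iv0 F405630)) (tt N95090 F406988) (tt N107892 D211112) (tt N40422 (iv4 D140696)) (tt N107725 (iv5 F459404)) (tt N107893 D211113) (tt N95091 (iv7 F406992)))
theorem Q73086 : ∀ i, i < 73086 → P i := stepQ 73085 Q73085 (allL N73085 (tt N93599 (iv1 F402203)) (tt N65913 (iv0 F365132)) (tt N74559 (iv2 F360132)) (tt N93546 F401094) (tt N107893 (iv4 F460148)) (tt N40430 F223788) (tt N40422 (iv6 D140697)) (tt N93597 (iv7 F401229)))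
theorem Q73087 : ∀ i, i < 73087 → P i := stepQ 73086 Q73086 (allL N73086 (tt N95925 (iv1 F410293)) (tt N40424 (iv0 D140698)) (tt N95924 (iv2 F410287)) (tt N60455 F223789) (tt N107894 D211114) (tt N59580 F412064) (tt N107895 D211115) (tt N95923 F410281))
theorem Q73088 : ∀ i, i < 73088 → P i := stepQ 73087 Q73087 (allL N73087 (tt N40424 (iv1 D140699)) (tt N95925 F410294) (tt N95923 F410286) (tt N107896 D211116) (tt N95302 (iv4 F407786)) (tt N59581 F412220) (tt N107889 F460137) (tt N95924 (iv7 F410285)))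
theorem Q73089 : ∀ i, i < 73089 → P i := stepQ 73088 Q73088 (allL N73088 (tt N95924 (iv1 F410288)) (tt N95923 F410280) (tt N40424 (iv2 D140700)) (tt N95932 (iv3 F410323)) (tt N96805 (iv4 F414035)) (tt N51037 F354409) (tt N91930 F394999) (tt N95925 (iv7 F410292)))
theorem Q73090 : ∀ i, i < 73090 → P i := stepQ 73089 Q73089 (allL N73089 (tt N91927 F394984) (tt N51718 F378279) (tt N91930 (iv2 F395000)) (tt N40425 F223790) (tt N96747 (iv4 F413751)) (tt N89499 (iv5 F386657)) (tt N40424 (iv6 D140701)) (tt N91929 (iv7 F394994)))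
theorem Q73091 : ∀ i, i < 73091 → P i := stepQ 73090 Q73090 (allL N73090 (tt N101155 F431976) (tt N107897 D211117) (tt N97075 (iv2 F415347)) (tt N40426 (iv3 D140703)) (tt N47936 F324531) (tt N95720 (iv5 F409299)) (tt N47895 F324532) (tt N48314 F324533))
theorem Q73092 : ∀ i, i < 73092 → P i := stepQ 73091 Q73091 (allL N73091 (tt N60451 F359303) (tt N60455 (iv0 F380724)) (tt N107898 D211118) (tt N40427 (iv3 D140705)) (tt N87828 (iv4 F380720)) (tt N95722 (iv5 F409313)) (tt N46704 F326436) (tt N96414 (iv7 F412424)))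
theorem Q73093 : ∀ i, i < 73093 → P i := stepQ 73092 Q73092 (allL N73092 (tt N58722 F223795) (tt N58720 F223796) (tt N40429 F223793) (tt N96405 (iv3 F412370)) (tt N62412 (iv4 F363316)) (tt N40428 (iv5 D140707)) (tt N64804 F364127) (tt N59593 (iv7 F343746)))
theorem Q73094 : ∀ i, i < 73094 → P i := stepQ 73093 Q73093 (allL N73093 (tt N59025 (iv1 F341352)) (tt N59959 F223798) (tt N62412 F363317) (tt N73272 (iv3 F224249)) (tt N40429 (iv4 D140708)) (tt N95215 (iv5 F407448)) (tt N105259 (iv6 F449425)) (tt N62411 (iv7 F365337)))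
theorem Q73095 : ∀ i, i < 73095 → P i := stepQ 73094 Q73094 (allL N73094 (tt N64495 F364123) (tt N64807 F364124) (tt N64804 (iv2 F364128)) (tt N40430 F223800) (tt N105259 (iv4 F449427)) (tt N93546 F401095) (tt N40429 (iv6 D140709)) (tt N64803 F384910))
theorem Q73096 : ∀ i, i < 73096 → P i := stepQ 73095 Q73095 (allL N73095 (tt N96407 (iv1 F412381)) (tt N40430 (iv0 D140710)) (tt N95266 (iv2 F407636)) (tt N86219 F405906) (tt N72513 (iv4 F424368)) (tt N93708 F401622) (tt N94780 (iv6 F405901)) (tt N86217 (iv7 F405905)))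
theorem Q73097 : ∀ i, i < 73097 → P i := stepQ 73096 Q73096 (allL N73096 (tt N40430 (iv1 D140711)) (tt N96407 F412380) (tt N86217 (iv2 F375412)) (tt N100123 (iv3 F427566)) (tt N72514 (iv4 F364134)) (tt N73056 (iv5 F342482)) (tt N62208 F363144) (tt N95266 (iv7 F407637)))
theorem Q73098 : ∀ i, i < 73098 → P i := stepQ 73097 Q73097 (allL N73097 (tt N86217 (iv1 F375415)) (tt N95266 F407639) (tt N96407 (iv2 F412376)) (tt N64803 (iv3 F384911)) (tt N73277 (iv4 F224256)) (tt N93597 F401230) (tt N96416 (iv6 F412431)) (tt N40430 (iv7 D140712)))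
theorem Q73099 : ∀ i, i < 73099 → P i := stepQ 73098 Q73098 (allL N73098 (tt N40461 F223804) (tt N66740 (iv0 F223806)) (tt N56027 F223801) (tt N42116 F223802) (tt N42118 F323313) (tt N40431 (iv5 D140713)) (tt N42116 F323314) (tt N66741 F223803))
theorem Q73100 : ∀ i, i < 73100 → P i := stepQ 73099 Q73099 (allL N73099 (tt N40471 F348055) (tt N82578 F348056) (tt N74305 (iv2 F227270)) (tt N99435 (iv3 F424562)) (tt N96856 (iv4 F414287)) (tt N99435 (iv5 F424564)) (tt N40431 (iv6 D140714)) (tt N96885 (iv7 F414446)))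
theorem Q73101 : ∀ i, i < 73101 → P i := stepQ 73100 Q73100 (allL N73100 (tt N73564 (iv1 F225028)) (tt N73317 (iv0 F224365)) (tt N40433 F223807) (tt N71979 F223808) (tt N40808 F223809) (tt N40432 (iv5 D140715)) (tt N77668 (iv6 F350258)) (tt N73582 (iv7 F225095)))
theorem Q73102 : ∀ i, i < 73102 → P i := stepQ 73101 Q73101 (allL N73101 (tt N81688 F344473) (tt N74312 (iv0 F357107)) (tt N40434 F223811) (tt N82228 F341119) (tt N62652 F223812) (tt N107275 (iv5 F457752)) (tt N40432 (iv6 D140716)) (tt N107170 (iv7 F457313)))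
theorem Q73103 : ∀ i, i < 73103 → P i := stepQ 73102 Q73102 (allL N73102 (tt N40433 (iv1 D140718)) (tt N73582 F225097) (tt N73317 (iv2 F224362)) (tt N62082 (iv3 F223814)) (tt N61100 (iv4 F324240)) (tt N62081 F223813) (tt N69974 (iv6 F346392)) (tt N73564 (iv7 F225025)))
theorem Q73104 : ∀ i, i < 73104 → P i := stepQ 73103 Q73103 (allL N73103 (tt N102699 (iv1 F438250)) (tt N104219 (iv0 F444766)) (tt N77668 F354094) (tt N40441 F223815) (tt N71155 F337167) (tt N46561 F324345) (tt N40433 (iv6 D140719)) (tt N46624 F324346))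
theorem Q73105 : ∀ i, i < 73105 → P i := stepQ 73104 Q73104 (allL N73104 (tt N107170 (iv1 F457314)) (tt N40434 (iv0 D140720)) (tt N81688 (iv2 F357103)) (tt N65375 (iv3 F357104)) (tt N99721 (iv4 F425903)) (tt N81682 F357101) (tt N65373 F357102) (tt N74312 F357105))
theorem Q73106 : ∀ i, i < 73106 → P i := stepQ 73105 Q73105 (allL N73105 (tt N40434 (iv1 D140721)) (tt N107170 F457315) (tt N74312 (iv2 F357106)) (tt N107623 F458977) (tt N99722 F425913) (tt N81681 (iv5 F340798)) (tt N100344 (iv6 F428510)) (tt N81688 (iv7 F357096)))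
theorem Q73107 : ∀ i, i < 73107 → P i := stepQ 73106 Q73106 (allL N73106 (tt N104257 F444977) (tt N107899 D211119) (tt N107275 (iv2 F457750)) (tt N40442 F223816) (tt N46853 F324355) (tt N40434 (iv5 D140722)) (tt N46561 F324356) (tt N104237 (iv7 F444866)))
theorem Q73108 : ∀ i, i < 73108 → P i := stepQ 73107 Q73107 (allL N73107 (tt N107295 F457846) (tt N94802 (iv0 F407156)) (tt N99302 (iv2 F424000)) (tt N40435 (iv3 D140724)) (tt N61856 F223818) (tt N94565 F404991) (tt N66895 F366160) (tt N99347 (iv7 F424205)))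
theorem Q73109 : ∀ i, i < 73109 → P i := stepQ 73108 Q73108 (allL N73108 (tt N40732 F223819) (tt N40730 F223820) (tt N95261 (iv2 F407617)) (tt N94565 (iv3 F404990)) (tt N83108 (iv4 F358530)) (tt N40435 (iv5 D140725)) (tt N83107 F358529) (tt N99348 (iv7 F424212)))
theorem Q73110 : ∀ i, i < 73110 → P i := stepQ 73109 Q73109 (allL N73109 (tt N40730 F223824) (tt N40732 F223825) (tt N99348 (iv2 F424209)) (tt N70138 F404826) (tt N101768 (iv4 F434257)) (tt N40436 (iv5 D140727)) (tt N107900 D211120) (tt N95261 (iv7 F407619)))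
theorem Q73111 : ∀ i, i < 73111 → P i := stepQ 73110 Q73110 (allL N73110 (tt N40437 (iv1 D140729)) (tt N94941 (iv0 F406437)) (tt N93944 (iv2 F402518)) (tt N89991 (iv3 F388223)) (tt N41103 (iv4 F223826)) (tt N66786 F339974) (tt N41501 F339975) (tt N90016 (iv7 F388304)))
theorem Q73112 : ∀ i, i < 73112 → P i := stepQ 73111 Q73111 (allL N73111 (tt N90016 (iv1 F388306)) (tt N93944 F402523) (tt N40437 (iv2 D140730)) (tt N71619 F223827) (tt N71623 F223828) (tt N103020 (iv5 F439702)) (tt N107901 D211121) (tt N94941 (iv7 F406436)))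
theorem Q73113 : ∀ i, i < 73113 → P i := stepQ 73112 Q73112 (allL N73112 (tt N61307 F340036) (tt N61305 F340037) (tt N103020 (iv2 F439701)) (tt N40438 F223829) (tt N61175 (iv4 F339977)) (tt N40437 (iv5 D140731)) (tt N107902 D211122) (tt N99349 (iv7 F424217)))
theorem Q73114 : ∀ i, i < 73114 → P i := stepQ 73113 Q73113 (allL N73113 (tt N107762 F459618) (tt N107903 D211123) (tt N107901 (iv2 F460190)) (tt N40439 F223830) (tt N74161 (iv4 F226873)) (tt N107904 D211124) (tt N40437 (iv6 D140732)) (tt N107171 (iv7 F457318)))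
theorem Q73115 : ∀ i, i < 73115 → P i := stepQ 73114 Q73114 (allL N73114 (tt N40438 (iv1 D140733)) (tt N40449 F223831) (tt N73567 (iv2 F225038)) (tt N72836 (iv3 F223833)) (tt N48885 F358480) (tt N62370 F223832) (tt N48884 F358481) (tt N73569 (iv7 F225045)))
theorem Q73116 : ∀ i, i < 73116 → P i := stepQ 73115 Q73115 (allL N73115 (tt N94613 F405214) (tt N96459 (iv0 F412613)) (tt N96471 F412662) (tt N107902 (iv3 F460194)) (tt N85619 (iv4 F373223)) (tt N107905 D211125) (tt N40438 (iv6 D140735)) (tt N96472 (iv7 F412663)))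
theorem Q73117 : ∀ i, i < 73117 → P i := stepQ 73116 Q73116 (allL N73116 (tt N40439 (iv1 D140737)) (tt N82340 F324358) (tt N82546 F324359) (tt N99308 F424039) (tt N46176 F324360) (tt N82552 F324361) (tt N66888 (iv6 F350060)) (tt N82138 F324362))
theorem Q73118 : ∀ i, i < 73118 → P i := stepQ 73117 Q73117 (allL N73117 (tt N96727 F413635) (tt N107906 D211126) (tt N99358 (iv2 F424262)) (tt N107904 (iv3 F460199)) (tt N46244 F324363) (tt N40439 (iv5 D140738)) (tt N107905 (iv6 F460202)) (tt N96543 (iv7 F412924)))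
theorem Q73119 : ∀ i, i < 73119 → P i := stepQ 73118 Q73118 (allL N73118 (tt N40440 (iv1 D140740)) (tt N40451 F223836) (tt N73584 (iv2 F225102)) (tt N73407 (iv3 F360652)) (tt N73408 (iv4 F322871)) (tt N107907 D211127) (tt N98765 F422219) (tt N73585 (iv7 F225104)))
theorem Q73120 : ∀ i, i < 73120 → P i := stepQ 73119 Q73119 (allL N73119 (tt N61607 (iv1 F353829)) (tt N79067 (iv0 F352413)) (tt N61478 F352410) (tt N40440 (iv3 D140741)) (tt N99578 (iv4 F425254)) (tt N61290 F352411) (tt N61468 (iv6 F352409)) (tt N73586 (iv7 F225107)))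
theorem Q73121 : ∀ i, i < 73121 → P i := stepQ 73120 Q73120 (allL N73120 (tt N75598 (iv1 F232066)) (tt N73967 (iv0 F366143)) (tt N73592 (iv2 F225122)) (tt N61290 (iv3 F352412)) (tt N85620 (iv4 F373228)) (tt N40440 (iv5 D140742)) (tt N107908 D211128) (tt N73587 (iv7 F225109)))
theorem Q73122 : ∀ i, i < 73122 → P i := stepQ 73121 Q73121 (allL N73121 (tt N80386 F324347) (tt N45294 F324348) (tt N46630 F324349) (tt N61468 F352407) (tt N40441 F223837) (tt N80389 F324350) (tt N40440 (iv6 D140743)) (tt N46626 F324351))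
theorem Q73123 : ∀ i, i < 73123 → P i := stepQ 73122 Q73122 (allL N73122 (tt N74254 F352562) (tt N91533 F393522) (tt N40447 F223842) (tt N74156 (iv3 F226864)) (tt N71627 F223843) (tt N56080 F363915) (tt N40444 (iv6 D140763)) (tt N91531 (iv7 F393513)))
theorem Q73124 : ∀ i, i < 73124 → P i := stepQ 73123 Q73123 (allL N73123 (tt N71617 (iv1 F223847)) (tt N71422 (iv0 F401347)) (tt N70904 F223844) (tt N40445 (iv3 D140764)) (tt N40448 F223845) (tt N70275 (iv5 F349662)) (tt N107909 D211129) (tt N71618 F223846))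
theorem Q73125 : ∀ i, i < 73125 → P i := stepQ 73124 Q73124 (allL N73124 (tt N40891 F223852) (tt N40925 F223853) (tt N40922 F223850) (tt N70275 (iv3 F349660)) (tt N71988 F223854) (tt N40445 (iv5 D140765)) (tt N70272 F352552) (tt N40921 F223851))
theorem Q73126 : ∀ i, i < 73126 → P i := stepQ 73125 Q73125 (allL N73125 (tt N107910 D211130) (tt N107911 D211131) (tt N71627 F223855) (tt N107909 (iv3 F460226)) (tt N40447 F223856) (tt N107267 (iv5 F457711)) (tt N40445 (iv6 D140766)) (tt N107912 D211132))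
theorem Q73127 : ∀ i, i < 73127 → P i := stepQ 73126 Q73126 (allL N73126 (tt N40893 F223859) (tt N40938 F223860) (tt N40934 F223857) (tt N107913 D211133) (tt N40446 (iv4 D140767)) (tt N73903 (iv5 F226168)) (tt N73387 (iv6 F337097)) (tt N40933 F223858))
theorem Q73128 : ∀ i, i < 73128 → P i := stepQ 73127 Q73127 (allL N73127 (tt N40447 (iv1 D140770)) (tt N91531 F393515) (tt N91533 (iv2 F393519)) (tt N41675 F334904) (tt N95510 (iv4 F408417)) (tt N41672 F334905) (tt N65391 F334906) (tt N74254 F334907))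
theorem Q73129 : ∀ i, i < 73129 → P i := stepQ 73128 Q73128 (allL N73128 (tt N56036 F341054) (tt N56078 (iv0 F334900)) (tt N56080 (iv2 F363913)) (tt N40454 F223862) (tt N63064 F338180) (tt N40447 (iv5 D140771)) (tt N64012 (iv6 F334915)) (tt N56079 F364017))
theorem Q73130 : ∀ i, i < 73130 → P i := stepQ 73129 Q73129 (allL N73129 (tt N91533 (iv1 F393523)) (tt N74254 (iv0 F364018)) (tt N91531 F393512) (tt N40455 F223863) (tt N107912 (iv4 F460249)) (tt N56079 F364016) (tt N82227 F364019) (tt N40447 (iv7 D140772)))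
theorem Q73131 : ∀ i, i < 73131 → P i := stepQ 73130 Q73130 (allL N73130 (tt N71900 F223866) (tt N56765 F223867) (tt N71906 F394330) (tt N40449 F223864) (tt N95719 (iv4 F409297)) (tt N40448 (iv5 D140773)) (tt N58155 (iv6 F355984)) (tt N71905 F223865))
theorem Q73132 : ∀ i, i < 73132 → P i := stepQ 73131 Q73131 (allL N73131 (tt N107781 (iv1 F459702)) (tt N99300 (iv0 F423995)) (tt N94854 (iv2 F406159)) (tt N40450 F223868) (tt N107909 (iv4 F460227)) (tt N94685 (iv5 F405521)) (tt N40448 (iv6 D140774)) (tt N107780 F459698))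
theorem Q73133 : ∀ i, i < 73133 → P i := stepQ 73132 Q73132 (allL N73132 (tt N107914 D211134) (tt N58689 F345630) (tt N99351 (iv2 F424224)) (tt N58155 (iv3 F345625)) (tt N66412 F345624) (tt N60706 (iv5 F345626)) (tt N40449 (iv6 D140776)) (tt N94836 (iv7 F406110)))
theorem Q73134 : ∀ i, i < 73134 → P i := stepQ 73133 Q73133 (allL N73133 (tt N99355 (iv1 F424248)) (tt N40450 (iv0 D140777)) (tt N99352 F424231) (tt N102260 (iv3 F436422)) (tt N75495 (iv4 F360590)) (tt N107915 D211135) (tt N77476 F360591) (tt N99353 (iv7 F424235)))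
theorem Q73135 : ∀ i, i < 73135 → P i := stepQ 73134 Q73134 (allL N73134 (tt N40450 (iv1 D140778)) (tt N99355 F424247) (tt N99353 F424237) (tt N64943 F390355) (tt N72683 F360894) (tt N64942 (iv5 F390356)) (tt N96084 F410967) (tt N99352 (iv7 F424233)))
theorem Q73136 : ∀ i, i < 73136 → P i := stepQ 73135 Q73135 (allL N73135 (tt N75507 (iv1 F360895)) (tt N82543 F360896) (tt N99354 (iv2 F424240)) (tt N94685 (iv3 F405520)) (tt N60708 (iv4 F350091)) (tt N40450 (iv5 D140779)) (tt N60706 F350092) (tt N107916 D211136))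
theorem Q73137 : ∀ i, i < 73137 → P i := stepQ 73136 Q73136 (allL N73136 (tt N99353 (iv1 F424234)) (tt N99352 F424239) (tt N99355 (iv2 F424244)) (tt N107780 (iv3 F459696)) (tt N40455 F223870) (tt N107916 (iv5 F460271)) (tt N82340 (iv6 F366152)) (tt N40450 (iv7 D140780)))
theorem Q73138 : ∀ i, i < 73138 → P i := stepQ 73137 Q73137 (allL N73137 (tt N106838 (iv1 F455920)) (tt N74923 (iv0 F229812)) (tt N106846 F455964) (tt N40451 (iv3 D140781)) (tt N107913 (iv4 F460254)) (tt N86052 F375017) (tt N86597 F376559) (tt N73591 (iv7 F225121)))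
theorem Q73139 : ∀ i, i < 73139 → P i := stepQ 73138 Q73138 (allL N73138 (tt N73967 (iv1 F366144)) (tt N75598 (iv0 F232065)) (tt N73587 (iv2 F225108)) (tt N86052 (iv3 F375016)) (tt N85618 (iv4 F373218)) (tt N40451 (iv5 D140782)) (tt N86146 (iv6 F376561)) (tt N73592 (iv7 F225123)))
theorem Q73140 : ∀ i, i < 73140 → P i := stepQ 73139 Q73139 (allL N73139 (tt N61435 (iv1 F339810)) (tt N99554 (iv0 F425133)) (tt N73588 (iv2 F225110)) (tt N86597 (iv3 F376558)) (tt N40452 F223871) (tt N86595 F376557) (tt N40451 (iv6 D140783)) (tt N80388 (iv7 F364873)))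
theorem Q73141 : ∀ i, i < 73141 → P i := stepQ 73140 Q73140 (allL N73140 (tt N40452 (iv1 D140785)) (tt N46627 F326371) (tt N73401 F339616) (tt N71981 F360540) (tt N87584 (iv4 F379808)) (tt N75255 (iv5 F339615)) (tt N71978 F339618) (tt N73589 F339617))
theorem Q73142 : ∀ i, i < 73142 → P i := stepQ 73141 Q73141 (allL N73141 (tt N80147 (iv1 F355139)) (tt N94104 (iv0 F403223)) (tt N73590 (iv2 F225113)) (tt N64012 (iv3 F334913)) (tt N64013 F350195) (tt N40452 (iv5 D140786)) (tt N40454 F223872) (tt N65110 (iv7 F350199)))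
theorem Q73143 : ∀ i, i < 73143 → P i := stepQ 73142 Q73142 (allL N73142 (tt N74970 F350111) (tt N75780 F345648) (tt N74259 F360568) (tt N91534 (iv3 F393529)) (tt N75220 F355141) (tt N40453 (iv5 D140796)) (tt N75219 (iv6 F355140)) (tt N99356 (iv7 F424252)))
theorem Q73144 : ∀ i, i < 73144 → P i := stepQ 73143 Q73143 (allL N73143 (tt N40454 (iv1 D140799)) (tt N65108 (iv0 F335053)) (tt N44374 F324396) (tt N72276 F324397) (tt N107917 D211137) (tt N44371 F324398) (tt N75427 (iv6 F335050)) (tt N66646 F335047))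
theorem Q73145 : ∀ i, i < 73145 → P i := stepQ 73144 Q73144 (allL N73144 (tt N44374 F330019) (tt N66646 (iv0 F339599)) (tt N65108 (iv2 F339604)) (tt N56079 (iv3 F364014)) (tt N46208 F338183) (tt N40455 F223875) (tt N65090 F339603) (tt N40454 (iv7 D140801)))
theorem Q73146 : ∀ i, i < 73146 → P i := stepQ 73145 Q73145 (allL N73145 (tt N63463 (iv1 F360697)) (tt N61149 (iv0 F349953)) (tt N42202 F223876) (tt N40456 (iv3 D140802)) (tt N99444 (iv4 F424605)) (tt N107918 D211138) (tt N76260 F318939) (tt N45205 F318940))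
theorem Q73147 : ∀ i, i < 73147 → P i := stepQ 73146 Q73146 (allL N73146 (tt N61186 (iv1 F324162)) (tt N73594 (iv0 F225137)) (tt N40468 F223877) (tt N107918 (iv3 F460282)) (tt N88453 (iv4 F383107)) (tt N40456 (iv5 D140803)) (tt N88452 (iv6 F383104)) (tt N56296 (iv7 F360951)))
theorem Q73148 : ∀ i, i < 73148 → P i := stepQ 73147 Q73147 (allL N73147 (tt N40847 F319184) (tt N40857 F319185) (tt N40469 F223878) (tt N76260 F318362) (tt N40457 F223879) (tt N93161 (iv5 F399731)) (tt N40456 (iv6 D140804)) (tt N45061 F318363))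
theorem Q73149 : ∀ i, i < 73149 → P i := stepQ 73148 Q73148 (allL N73148 (tt N66894 (iv1 F353390)) (tt N74702 (iv0 F353379)) (tt N40472 F330027) (tt N93932 (iv3 F402463)) (tt N40458 (iv4 D140811)) (tt N41491 F331031) (tt N96081 (iv6 F410954)) (tt N40476 F330028))
theorem Q73150 : ∀ i, i < 73150 → P i := stepQ 73149 Q73149 (allL N73149 (tt N74014 (iv1 F333346)) (tt N80352 (iv0 F341032)) (tt N40473 F330029) (tt N96905 F414542) (tt N103084 (iv4 F440000)) (tt N40458 (iv5 D140812)) (tt N47715 F341026) (tt N40477 F330030))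
theorem Q73151 : ∀ i, i < 73151 → P i := stepQ 73150 Q73150 (allL N73150 (tt N40459 (iv1 D140820)) (tt N40481 F223891) (tt N40479 F348838) (tt N81339 F351419) (tt N74605 F348839) (tt N40753 (iv5 F223892)) (tt N65365 F348840) (tt N40478 F348841))
theorem Q73152 : ∀ i, i < 73152 → P i := stepQ 73151 Q73151 (allL N73151 (tt N40479 (iv1 F223897)) (tt N40478 F223898) (tt N40481 F223894) (tt N66869 F320769) (tt N43587 F320770) (tt N40460 F223895) (tt N43585 F320771) (tt N40459 (iv7 D140822)))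
theorem Q73153 : ∀ i, i < 73153 → P i := stepQ 73152 Q73152 (allL N73152 (tt N66741 (iv1 F223904)) (tt N56027 F223903) (tt N40461 (iv2 D140823)) (tt N42633 F322665) (tt N62553 F223900) (tt N40726 F223901) (tt N80101 F322666) (tt N66740 F223902))
theorem Q73154 : ∀ i, i < 73154 → P i := stepQ 73153 Q73153 (allL N73153 (tt N42553 F339635) (tt N103096 (iv0 F440050)) (tt N80101 (iv2 F363824)) (tt N40463 F223905) (tt N73958 (iv4 F226285)) (tt N100062 (iv5 F427396)) (tt N40461 (iv6 D140824)) (tt N100486 (iv7 F429123)))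
theorem Q73155 : ∀ i, i < 73155 → P i := stepQ 73154 Q73154 (allL N73154 (tt N107919 D211139) (tt N82913 F358478) (tt N85549 (iv2 F373033)) (tt N61288 F366475) (tt N85536 (iv4 F372976)) (tt N40462 (iv5 D140827)) (tt N107920 D211140) (tt N85146 F371741))
theorem Q73156 : ∀ i, i < 73156 → P i := stepQ 73155 Q73155 (allL N73155 (tt N43673 F339633) (tt N43674 F339634) (tt N98771 F422249) (tt N47476 F339631) (tt N40463 F223909) (tt N98409 (iv5 F420847)) (tt N40462 (iv6 D140828)) (tt N85794 (iv7 F373973)))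
theorem Q73157 : ∀ i, i < 73157 → P i := stepQ 73156 Q73156 (allL N73156 (tt N66572 F363054) (tt N42325 F363055) (tt N66571 F363056) (tt N100486 (iv3 F429121)) (tt N85794 (iv4 F373972)) (tt N94472 (iv5 F404612)) (tt N42297 F363057) (tt N40463 (iv7 D140832)))
theorem Q73158 : ∀ i, i < 73158 → P i := stepQ 73157 Q73157 (allL N73157 (tt N46560 F332439) (tt N66570 (iv0 F350252)) (tt N99456 (iv2 F424663)) (tt N40466 F223911) (tt N73900 (iv4 F226158)) (tt N68419 F321789) (tt N40464 (iv6 D140833)) (tt N80100 F321790))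
theorem Q73159 : ∀ i, i < 73159 → P i := stepQ 73158 Q73158 (allL N73158 (tt N82913 F358477) (tt N107919 F460288) (tt N85146 (iv2 F371738)) (tt N50989 F364374) (tt N85537 (iv4 F372984)) (tt N40465 (iv5 D140835)) (tt N50987 (iv6 F364352)) (tt N85549 (iv7 F373034)))
theorem Q73160 : ∀ i, i < 73160 → P i := stepQ 73159 Q73159 (allL N73159 (tt N85546 (iv1 F373027)) (tt N40747 F223915) (tt N61179 (iv2 F366366)) (tt N92641 (iv3 F397725)) (tt N107830 (iv4 F459899)) (tt N40467 (iv5 D140842)) (tt N107921 D211141) (tt N85545 (iv7 F373019)))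
theorem Q73161 : ∀ i, i < 73161 → P i := stepQ 73160 Q73160 (allL N73160 (tt N80488 F366153) (tt N66573 F366155) (tt N61180 F366156) (tt N92642 (iv3 F397727)) (tt N63714 (iv4 F366154)) (tt N92813 (iv5 F398345)) (tt N40467 (iv6 D140843)) (tt N77240 F366157))
theorem Q73162 : ∀ i, i < 73162 → P i := stepQ 73161 Q73161 (allL N73161 (tt N56296 F360949) (tt N40468 (iv0 D140847)) (tt N61186 (iv2 F324163)) (tt N61666 (iv3 F366045)) (tt N107817 (iv4 F459830)) (tt N62381 F223917) (tt N98559 (iv6 F421328)) (tt N73594 (iv7 F225136)))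
theorem Q73163 : ∀ i, i < 73163 → P i := stepQ 73162 Q73162 (allL N73162 (tt N85620 (iv1 F373232)) (tt N85618 F373220) (tt N88453 (iv2 F383105)) (tt N76477 (iv3 F356691)) (tt N40468 (iv4 D140849)) (tt N89319 (iv5 F386076)) (tt N49028 F356690) (tt N99360 (iv7 F424271)))
theorem Q73164 : ∀ i, i < 73164 → P i := stepQ 73163 Q73163 (allL N73163 (tt N107922 D211142) (tt N103053 (iv0 F439862)) (tt N88452 (iv2 F383100)) (tt N42214 F223919) (tt N49028 F356671) (tt N52035 F350239) (tt N40468 (iv6 D140850)) (tt N88454 (iv7 F383115)))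
theorem Q73165 : ∀ i, i < 73165 → P i := stepQ 73164 Q73164 (allL N73164 (tt N73779 (iv1 F350235)) (tt N60199 F350234) (tt N93161 (iv2 F399730)) (tt N42217 F223920) (tt N96137 (iv4 F411197)) (tt N40469 (iv5 D140853)) (tt N52035 (iv6 F350237)) (tt N56290 F350236))
theorem Q73166 : ∀ i, i < 73166 → P i := stepQ 73165 Q73165 (allL N73165 (tt N82578 F348057) (tt N40471 (iv0 D140875)) (tt N96885 (iv2 F414442)) (tt N40486 F348058) (tt N95575 F408714) (tt N63163 F348059) (tt N41424 F348060) (tt N74305 F348061))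
theorem Q73167 : ∀ i, i < 73167 → P i := stepQ 73166 Q73166 (allL N73166 (tt N96885 (iv1 F414448)) (tt N74305 F348110) (tt N40471 (iv2 D140877)) (tt N76152 F348047) (tt N62657 (iv4 F348049)) (tt N107211 (iv5 F457472)) (tt N107923 D211143) (tt N82578 (iv7 F348048)))
theorem Q73168 : ∀ i, i < 73168 → P i := stepQ 73167 Q73167 (allL N73167 (tt N59877 (iv1 F346897)) (tt N59871 (iv0 F346891)) (tt N62657 F348050) (tt N41502 F331784) (tt N40471 (iv4 D140878)) (tt N59793 F347188) (tt N96095 (iv6 F411024)) (tt N62658 (iv7 F348051)))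
theorem Q73169 : ∀ i, i < 73169 → P i := stepQ 73168 Q73168 (allL N73168 (tt N107924 D211144) (tt N107519 (iv0 F458638)) (tt N107211 (iv2 F457468)) (tt N40473 F223938) (tt N61941 F359947) (tt N40471 (iv5 D140879)) (tt N91540 F393562) (tt N107167 (iv7 F457294)))
theorem Q73170 : ∀ i, i < 73170 → P i := stepQ 73169 Q73169 (allL N73169 (tt N95567 F408691) (tt N102967 (iv0 F439489)) (tt N107923 (iv2 F460307)) (tt N40474 F223939) (tt N96095 (iv4 F411022)) (tt N91541 (iv5 F393566)) (tt N40471 (iv6 D140880)) (tt N78083 F365606))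
theorem Q73171 : ∀ i, i < 73171 → P i := stepQ 73170 Q73170 (allL N73170 (tt N40476 (iv1 F223945)) (tt N40472 (iv0 D140882)) (tt N66894 F320491) (tt N107925 D211145) (tt N43544 F320492) (tt N73173 (iv5 F348833)) (tt N43543 F320493) (tt N74702 F348835))
theorem Q73172 : ∀ i, i < 73172 → P i := stepQ 73171 Q73171 (allL N73171 (tt N40477 (iv1 F223949)) (tt N40473 (iv0 D140888)) (tt N74014 (iv2 F350116)) (tt N99458 (iv3 F424679)) (tt N107825 (iv4 F459873)) (tt N73576 F225068) (tt N102999 F439616) (tt N80352 F350108))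
theorem Q73173 : ∀ i, i < 73173 → P i := stepQ 73172 Q73172 (allL N73172 (tt N40473 (iv1 D140889)) (tt N40477 F223946) (tt N80352 F350117) (tt N40485 F350112) (tt N107824 (iv4 F459864)) (tt N59888 F350113) (tt N47726 F350114) (tt N74014 F350115))
theorem Q73174 : ∀ i, i < 73174 → P i := stepQ 73173 Q73173 (allL N73173 (tt N107926 D211146) (tt N73988 (iv0 F342467)) (tt N103084 (iv2 F439999)) (tt N107927 D211147) (tt N40473 (iv4 D140890)) (tt N73170 F348833) (tt N91542 (iv6 F393573)) (tt N73764 F353393))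
theorem Q73175 : ∀ i, i < 73175 → P i := stepQ 73174 Q73174 (allL N73174 (tt N72696 (iv1 F353383)) (tt N63356 (iv0 F316911)) (tt N71649 F353385) (tt N107928 D211148) (tt N40475 (iv4 D140901)) (tt N107929 D211149) (tt N78087 (iv6 F353384)) (tt N99461 (iv7 F424686)))
theorem Q73176 : ∀ i, i < 73176 → P i := stepQ 73175 Q73175 (allL N73175 (tt N93941 (iv1 F402498)) (tt N93940 (iv0 F402497)) (tt N93942 (iv2 F402503)) (tt N40476 (iv3 D140904)) (tt N107928 (iv4 F460326)) (tt N55251 F359486) (tt N70216 (iv6 F365811)) (tt N93932 (iv7 F402465)))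
theorem Q73177 : ∀ i, i < 73177 → P i := stepQ 73176 Q73176 (allL N73176 (tt N41493 F331036) (tt N41492 F331037) (tt N41494 F331038) (tt N55251 (iv3 F359484)) (tt N41553 F331039) (tt N40476 (iv5 D140905)) (tt N43403 F331040) (tt N41491 F331041))
theorem Q73178 : ∀ i, i < 73178 → P i := stepQ 73177 Q73177 (allL N73177 (tt N73988 F363158) (tt N107926 F460321) (tt N73764 F353392) (tt N107930 D211150) (tt N40477 (iv4 D140907)) (tt N41561 F348829) (tt N73752 (iv6 F348834)) (tt N103084 (iv7 F440002)))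
theorem Q73179 : ∀ i, i < 73179 → P i := stepQ 73178 Q73178 (allL N73178 (tt N63163 F348832) (tt N99435 F424567) (tt N76203 F348825) (tt N40478 (iv3 D140914)) (tt N76833 (iv4 F351439)) (tt N107931 D211151) (tt N98928 (iv6 F422808)) (tt N81339 (iv7 F351422)))
theorem Q73180 : ∀ i, i < 73180 → P i := stepQ 73179 Q73179 (allL N73179 (tt N81693 (iv1 F350105)) (tt N41072 F321647) (tt N78159 F350121) (tt N107931 (iv3 F460341)) (tt N107932 D211152) (tt N40478 (iv5 D140916)) (tt N42920 F319709) (tt N40753 F321648))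
theorem Q73181 : ∀ i, i < 73181 → P i := stepQ 73180 Q73180 (allL N73180 (tt N82234 F341034) (tt N47737 F341035) (tt N74977 (iv2 F348847)) (tt N98928 (iv3 F422810)) (tt N74608 (iv4 F348827)) (tt N74976 (iv5 F355129)) (tt N40478 (iv6 D140917)) (tt N67061 F348842))
theorem Q73182 : ∀ i, i < 73182 → P i := stepQ 73181 Q73181 (allL N73181 (tt N41072 F319710) (tt N81693 (iv0 F350104)) (tt N40753 F321324) (tt N76202 F319308) (tt N107933 D211153) (tt N40479 (iv5 D140921)) (tt N40738 F223958) (tt N78159 (iv7 F350119)))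
theorem Q73183 : ∀ i, i < 73183 → P i := stepQ 73182 Q73182 (allL N73182 (tt N43587 F322614) (tt N40480 (iv0 D140923)) (tt N41555 F342413) (tt N56964 F342414) (tt N41550 F342415) (tt N74004 F342438) (tt N107934 D211154) (tt N41559 F342416))
theorem Q73184 : ∀ i, i < 73184 → P i := stepQ 73183 Q73183 (allL N73183 (tt N40480 (iv1 D140924)) (tt N43587 F322615) (tt N41559 F321163) (tt N107839 (iv3 F459934)) (tt N41551 F322616) (tt N107935 D211155) (tt N57653 F322617) (tt N41555 F321164))
theorem Q73185 : ∀ i, i < 73185 → P i := stepQ 73184 Q73184 (allL N73184 (tt N89433 (iv1 F386498)) (tt N89457 (iv0 F386566)) (tt N96113 (iv2 F411114)) (tt N40480 (iv3 D140925)) (tt N40491 F223959) (tt N107823 (iv5 F459861)) (tt N93319 F400386) (tt N79427 F360589))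
theorem Q73186 : ∀ i, i < 73186 → P i := stepQ 73185 Q73185 (allL N73185 (tt N76202 F342374) (tt N76205 F342369) (tt N99458 F424677) (tt N40484 (iv3 D140976)) (tt N106906 (iv4 F456228)) (tt N59889 F223997) (tt N75960 F342373) (tt N74737 (iv7 F228727)))
theorem Q73187 : ∀ i, i < 73187 → P i := stepQ 73186 Q73186 (allL N73186 (tt N92519 (iv1 F397215)) (tt N92516 (iv0 F397207)) (tt N63166 (iv2 F320847)) (tt N95576 (iv3 F408720)) (tt N40486 (iv4 D140990)) (tt N74361 (iv5 F351848)) (tt N41425 F318711) (tt N74307 F227281))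
theorem Q73188 : ∀ i, i < 73188 → P i := stepQ 73187 Q73187 (allL N73187 (tt N40487 (iv1 D140995)) (tt N74722 F228671) (tt N63171 F343139) (tt N107936 D211156) (tt N63353 (iv4 F316910)) (tt N72612 (iv5 F351845)) (tt N63122 (iv6 F343142)) (tt N74276 F245709))
theorem Q73189 : ∀ i, i < 73189 → P i := stepQ 73188 Q73188 (allL N73188 (tt N74732 (iv1 F228714)) (tt N40488 (iv0 D140997)) (tt N74734 F359891) (tt N95373 (iv3 F408026)) (tt N94213 (iv4 F403725)) (tt N73189 F357076) (tt N40590 F357077) (tt N74733 F359888))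
theorem Q73190 : ∀ i, i < 73190 → P i := stepQ 73189 Q73189 (allL N73189 (tt N40488 (iv1 D140998)) (tt N74732 (iv0 F228713)) (tt N74733 (iv2 F359892)) (tt N107924 (iv3 F460314)) (tt N55995 F396706) (tt N73188 (iv5 F357076)) (tt N77782 F357081) (tt N74734 (iv7 F359893)))
theorem Q73191 : ∀ i, i < 73191 → P i := stepQ 73190 Q73190 (allL N73190 (tt N94282 (iv1 F403947)) (tt N95320 (iv0 F407842)) (tt N82317 F366625) (tt N79382 (iv3 F366241)) (tt N40488 (iv4 D140999)) (tt N74370 (iv5 F351844)) (tt N82307 (iv6 F366626)) (tt N74735 (iv7 F228722)))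
theorem Q73192 : ∀ i, i < 73192 → P i := stepQ 73191 Q73191 (allL N73191 (tt N49021 F325011) (tt N66359 F334192) (tt N66362 (iv2 F329827)) (tt N40490 (iv3 D141028)) (tt N43712 F325013) (tt N45509 F325014) (tt N96945 (iv6 F414719)) (tt N43711 F325015))
theorem Q73193 : ∀ i, i < 73193 → P i := stepQ 73192 Q73192 (allL N73192 (tt N66367 (iv1 F331960)) (tt N79426 F331845) (tt N40491 (iv2 D141036)) (tt N47485 F331846) (tt N96113 (iv4 F411116)) (tt N47483 F331847) (tt N66299 (iv6 F331850)) (tt N54321 F331848))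
theorem Q73194 : ∀ i, i < 73194 → P i := stepQ 73193 Q73193 (allL N73193 (tt N73954 F226270) (tt N82190 F338995) (tt N40493 F224046) (tt N76254 (iv3 F364531)) (tt N80620 F334426) (tt N40492 (iv5 D141046)) (tt N74871 F334432) (tt N95615 (iv7 F408901)))
theorem Q73195 : ∀ i, i < 73195 → P i := stepQ 73194 Q73194 (allL N73194 (tt N69560 (iv1 F224049)) (tt N69559 F224050) (tt N40494 F224047) (tt N48008 F314471) (tt N106796 (iv4 F455713)) (tt N73724 (iv5 F225556)) (tt N40492 (iv6 D141047)) (tt N47991 F314472))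
theorem Q73196 : ∀ i, i < 73196 → P i := stepQ 73195 Q73195 (allL N73195 (tt N95615 F408904) (tt N40493 (iv0 D141048)) (tt N73954 (iv2 F338990)) (tt N107937 D211157) (tt N107938 D211158) (tt N72404 F224051) (tt N76291 F333272) (tt N82190 (iv7 F333271)))
theorem Q73197 : ∀ i, i < 73197 → P i := stepQ 73196 Q73196 (allL N73196 (tt N40493 (iv1 D141049)) (tt N95615 (iv0 F408903)) (tt N82190 F333267) (tt N41012 F339081) (tt N107939 D211159) (tt N73615 F333269) (tt N41009 F339082) (tt N73954 (iv7 F338992)))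
theorem Q73198 : ∀ i, i < 73198 → P i := stepQ 73197 Q73197 (allL N73197 (tt N77257 (iv1 F384726)) (tt N64569 (iv0 F342371)) (tt N80620 (iv2 F348382)) (tt N55338 F348380) (tt N40493 (iv4 D141050)) (tt N53179 F348381) (tt N75674 (iv6 F348383)) (tt N80617 (iv7 F348379)))
theorem Q73199 : ∀ i, i < 73199 → P i := stepQ 73198 Q73198 (allL N73198 (tt N76775 F348109) (tt N76256 F348118) (tt N99047 (iv2 F423134)) (tt N40495 (iv3 D141054)) (tt N98781 (iv4 F422296)) (tt N62563 F224055) (tt N63676 F361624) (tt N78221 (iv7 F348135)))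
theorem Q73200 : ∀ i, i < 73200 → P i := stepQ 73199 Q73199 (allL N73199 (tt N41556 F350131) (tt N41560 F350132) (tt N99046 (iv2 F423128)) (tt N40496 (iv3 D141057)) (tt N107940 D211160) (tt N66041 F224062) (tt N65271 (iv6 F351581)) (tt N73989 (iv7 F226475)))
theorem Q73201 : ∀ i, i < 73201 → P i := stepQ 73200 Q73200 (allL N73200 (tt N77275 F343501) (tt N69316 (iv0 F334211)) (tt N83186 F358567) (tt N40497 (iv3 D141060)) (tt N55338 F336289) (tt N59885 F224068) (tt N42143 F334595) (tt N79369 F325902))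
theorem Q73202 : ∀ i, i < 73202 → P i := stepQ 73201 Q73201 (allL N73201 (tt N99147 (iv1 F423468)) (tt N99730 (iv0 F425950)) (tt N99049 (iv2 F423143)) (tt N62143 F357085) (tt N107924 (iv4 F460313)) (tt N40498 (iv5 D141066)) (tt N107941 D211161) (tt N94924 (iv7 F406360)))
theorem Q73203 : ∀ i, i < 73203 → P i := stepQ 73202 Q73202 (allL N73202 (tt N40499 (iv1 D141067)) (tt N61948 F339859) (tt N43376 F318317) (tt N77855 F351786) (tt N63163 (iv4 F320485)) (tt N99148 (iv5 F423471)) (tt N43220 F318318) (tt N73204 F339867))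
theorem Q73204 : ∀ i, i < 73204 → P i := stepQ 73203 Q73203 (allL N73203 (tt N73204 (iv1 F339860)) (tt N43376 F351411) (tt N40499 (iv2 D141068)) (tt N73244 (iv3 F359210)) (tt N40502 F224070) (tt N61772 F339857) (tt N47988 F316901) (tt N61948 (iv7 F339856)))
theorem Q73205 : ∀ i, i < 73205 → P i := stepQ 73204 Q73204 (allL N73204 (tt N40500 (iv1 D141071)) (tt N73203 F339860) (tt N72644 (iv2 F339863)) (tt N44287 F404281) (tt N72708 F339861) (tt N62156 (iv5 F224073)) (tt N61840 F339862) (tt N73202 (iv7 F339867)))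
theorem Q73206 : ∀ i, i < 73206 → P i := stepQ 73205 Q73205 (allL N73205 (tt N82090 (iv1 F360888)) (tt N82089 F360886) (tt N82092 (iv2 F360872)) (tt N61946 (iv3 F360887)) (tt N62332 F360865) (tt N71559 F224074) (tt N40500 (iv6 D141073)) (tt N68336 F360866))
theorem Q73207 : ∀ i, i < 73207 → P i := stepQ 73206 Q73206 (allL N73206 (tt N61937 F351424) (tt N61940 F351426) (tt N43368 F318327) (tt N99039 (iv3 F423112)) (tt N40501 (iv4 D141075)) (tt N96857 (iv5 F414289)) (tt N43218 F318328) (tt N96898 (iv7 F414503)))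
theorem Q73208 : ∀ i, i < 73208 → P i := stepQ 73207 Q73207 (allL N73207 (tt N40503 (iv1 D141079)) (tt N76254 F318332) (tt N65863 F359944) (tt N101789 (iv3 F434354)) (tt N95346 (iv4 F407940)) (tt N61943 (iv5 F351429)) (tt N63776 (iv6 F345704)) (tt N95345 (iv7 F407938)))
theorem Q73209 : ∀ i, i < 73209 → P i := stepQ 73208 Q73208 (allL N73208 (tt N107942 D211162) (tt N67057 (iv0 F364919)) (tt N107943 D211163) (tt N40504 (iv3 D141082)) (tt N90678 (iv4 F390491)) (tt N46902 F324975) (tt N90677 F390488) (tt N79370 F324976))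
theorem Q73210 : ∀ i, i < 73210 → P i := stepQ 73209 Q73209 (allL N73209 (tt N64613 (iv1 F351533)) (tt N64579 F351531) (tt N65035 (iv2 F351532)) (tt N81720 F351538) (tt N40508 (iv4 D141111)) (tt N81719 (iv5 F351528)) (tt N64157 F351529) (tt N65034 F351534))
theorem Q73211 : ∀ i, i < 73211 → P i := stepQ 73210 Q73210 (allL N73210 (tt N64579 F325834) (tt N64613 F325835) (tt N65034 F325836) (tt N106105 (iv3 F453129)) (tt N40509 (iv4 D141115)) (tt N101661 (iv5 F433746)) (tt N64575 F325837) (tt N65035 F325838))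
theorem Q73212 : ∀ i, i < 73212 → P i := stepQ 73211 Q73211 (allL N73211 (tt N95908 F410202) (tt N61991 (iv0 F365196)) (tt N62031 F361318) (tt N40511 (iv3 D141124)) (tt N61790 F224101) (tt N104178 (iv5 F444553)) (tt N107944 D211164) (tt N62034 F361309))
theorem Q73213 : ∀ i, i < 73213 → P i := stepQ 73212 Q73212 (allL N73212 (tt N93327 (iv1 F400416)) (tt N93316 (iv0 F400366)) (tt N93281 F400280) (tt N94566 (iv3 F404992)) (tt N40511 (iv4 D141125)) (tt N94541 (iv5 F404897)) (tt N94544 (iv6 F404909)) (tt N93326 F400413))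
theorem Q73214 : ∀ i, i < 73214 → P i := stepQ 73213 Q73213 (allL N73213 (tt N90986 F391481) (tt N90984 (iv0 F391472)) (tt N95956 (iv2 F410421)) (tt N107944 (iv3 F460408)) (tt N94544 F404912) (tt N107945 D211165) (tt N40511 (iv6 D141127)) (tt N96193 (iv7 F411429)))
theorem Q73215 : ∀ i, i < 73215 → P i := stepQ 73214 Q73214 (allL N73214 (tt N95963 F410459) (tt N95966 F410468) (tt N95962 F420719) (tt N40512 (iv3 D141129)) (tt N92491 F397149) (tt N107314 (iv5 F457927)) (tt N75154 (iv6 F374453)) (tt N95955 (iv7 F410419)))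
theorem Q73216 : ∀ i, i < 73216 → P i := stepQ 73215 Q73215 (allL N73215 (tt N93316 (iv1 F400367)) (tt N93327 F400417) (tt N93326 F400410) (tt N70124 F224103) (tt N40512 (iv4 D141130)) (tt N54069 (iv5 F388738)) (tt N94617 (iv6 F405234)) (tt N93281 (iv7 F400278)))
theorem Q73217 : ∀ i, i < 73217 → P i := stepQ 73216 Q73216 (allL N73216 (tt N72448 F224850) (tt N72444 F357508) (tt N40514 F224104) (tt N40534 F224105) (tt N73435 (iv4 F224849)) (tt N40513 (iv5 D141133)) (tt N88709 (iv6 F383939)) (tt N89787 (iv7 F387574)))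
theorem Q73218 : ∀ i, i < 73218 → P i := stepQ 73217 Q73217 (allL N73217 (tt N53025 F357511) (tt N53604 F357512) (tt N40515 F224106) (tt N40535 F224107) (tt N91445 (iv4 F393150)) (tt N88654 (iv5 F383730)) (tt N40513 (iv6 D141134)) (tt N53603 (iv7 F360359)))
theorem Q73219 : ∀ i, i < 73219 → P i := stepQ 73218 Q73218 (allL N73218 (tt N89787 (iv1 F387575)) (tt N40514 (iv0 D141135)) (tt N72448 F406010) (tt N107946 D211166) (tt N93329 (iv4 F400428)) (tt N59465 F350418) (tt N85330 (iv6 F372263)) (tt N72444 (iv7 F406009)))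
theorem Q73220 : ∀ i, i < 73220 → P i := stepQ 73219 Q73219 (allL N73219 (tt N40514 (iv1 D141136)) (tt N89787 (iv0 F387572)) (tt N72444 (iv2 F406011)) (tt N98317 (iv3 F420475)) (tt N98323 (iv4 F420499)) (tt N59466 (iv5 F350422)) (tt N107947 D211167) (tt N72448 F406012))
theorem Q73221 : ∀ i, i < 73221 → P i := stepQ 73220 Q73220 (allL N73220 (tt N89045 F384947) (tt N89732 F387347) (tt N88709 (iv2 F383937)) (tt N40516 F224108) (tt N82418 (iv4 F350352)) (tt N83991 (iv5 F367734)) (tt N40514 (iv6 D141137)) (tt N88710 (iv7 F383944)))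
theorem Q73222 : ∀ i, i < 73222 → P i := stepQ 73221 Q73221 (allL N73221 (tt N40515 (iv1 D141139)) (tt N53603 F360362) (tt N53604 F360361) (tt N107948 D211168) (tt N107949 D211169) (tt N53026 (iv5 F360367)) (tt N53622 (iv6 F360368)) (tt N53025 F360356))
theorem Q73223 : ∀ i, i < 73223 → P i := stepQ 73222 Q73222 (allL N73222 (tt N88657 (iv1 F383759)) (tt N83979 (iv0 F367697)) (tt N88654 F383731) (tt N40519 F224109) (tt N60633 (iv4 F355868)) (tt N40515 (iv5 D141140)) (tt N83991 (iv6 F367733)) (tt N88655 (iv7 F383749)))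
theorem Q73224 : ∀ i, i < 73224 → P i := stepQ 73223 Q73223 (allL N73223 (tt N53604 (iv1 F357513)) (tt N53025 F360360) (tt N53603 F360357) (tt N40520 F224110) (tt N91444 (iv4 F393142)) (tt N88655 F383753) (tt N95959 (iv6 F410439)) (tt N40515 (iv7 D141141)))
theorem Q73225 : ∀ i, i < 73225 → P i := stepQ 73224 Q73224 (allL N73224 (tt N40516 (iv1 D141143)) (tt N40551 F224111) (tt N40549 (iv2 F357715)) (tt N71289 (iv3 F350344)) (tt N96365 (iv4 F412249)) (tt N58040 F350341) (tt N70876 (iv6 F350345)) (tt N40548 F357713))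
theorem Q73226 : ∀ i, i < 73226 → P i := stepQ 73225 Q73225 (allL N73225 (tt N95970 (iv1 F410476)) (tt N95961 (iv0 F410453)) (tt N72037 F357360) (tt N40517 (iv3 D141146)) (tt N66509 F224118) (tt N71012 (iv5 F360527)) (tt N53521 (iv6 F329688)) (tt N40555 F224119))
theorem Q73227 : ∀ i, i < 73227 → P i := stepQ 73226 Q73226 (allL N73226 (tt N71004 F350305) (tt N69998 (iv0 F350275)) (tt N40556 F224122) (tt N71960 F350304) (tt N69745 (iv4 F350276)) (tt N40518 (iv5 D141148)) (tt N68689 F360534) (tt N40553 F224123))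
theorem Q73228 : ∀ i, i < 73228 → P i := stepQ 73227 Q73227 (allL N73227 (tt N64565 (iv1 F332936)) (tt N41060 F226497) (tt N40557 F224124) (tt N73917 (iv3 F365416)) (tt N95906 (iv4 F410189)) (tt N78117 (iv5 F246035)) (tt N40518 (iv6 D141149)) (tt N53531 (iv7 F329712)))
theorem Q73229 : ∀ i, i < 73229 → P i := stepQ 73228 Q73228 (allL N73228 (tt N105055 (iv1 F448586)) (tt N99366 (iv0 F424309)) (tt N105053 F448576) (tt N40521 (iv3 D141154)) (tt N92425 (iv4 F396974)) (tt N107020 (iv5 F456663)) (tt N78173 (iv6 F246511)) (tt N40571 F224138))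
theorem Q73230 : ∀ i, i < 73230 → P i := stepQ 73229 Q73229 (allL N73229 (tt N40574 F329934) (tt N40567 F329935) (tt N40564 F224139) (tt N107020 F456662) (tt N94483 (iv4 F404674)) (tt N40521 (iv5 D141155)) (tt N59455 F329936) (tt N40572 F224140))
theorem Q73231 : ∀ i, i < 73231 → P i := stepQ 73230 Q73230 (allL N73230 (tt N40564 F342840) (tt N40572 F342841) (tt N40567 F224141) (tt N106513 (iv3 F454723)) (tt N40522 (iv4 D141156)) (tt N70320 F342842) (tt N93278 (iv6 F400268)) (tt N40574 F224142))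
theorem Q73232 : ∀ i, i < 73232 → P i := stepQ 73231 Q73231 (allL N73231 (tt N69691 (iv1 F393163)) (tt N91448 (iv0 F393162)) (tt N106111 (iv2 F453168)) (tt N40523 (iv3 D141157)) (tt N92529 (iv4 F397259)) (tt N91789 F394428) (tt N107950 D211170) (tt N40563 F224144))
theorem Q73233 : ∀ i, i < 73233 → P i := stepQ 73232 Q73232 (allL N73232 (tt N47772 F362316) (tt N96245 F411721) (tt N40573 F224147) (tt N107950 (iv3 F460435)) (tt N40524 F224148) (tt N105138 (iv5 F448953)) (tt N40523 (iv6 D141159)) (tt N78172 (iv7 F246508)))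
theorem Q73234 : ∀ i, i < 73234 → P i := stepQ 73233 Q73233 (allL N73233 (tt N40533 F224160) (tt N99507 F424914) (tt N99506 F424906) (tt N40525 (iv3 D141161)) (tt N54783 (iv4 F333133)) (tt N107951 D211171) (tt N54771 F364748) (tt N95907 (iv7 F410196)))
theorem Q73235 : ∀ i, i < 73235 → P i := stepQ 73234 Q73234 (allL N73234 (tt N72530 F224185) (tt N40544 F224186) (tt N72533 F225850) (tt N107951 (iv3 F460440)) (tt N107952 D211172) (tt N40525 (iv5 D141163)) (tt N107953 D211173) (tt N72532 (iv7 F225854)))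
theorem Q73236 : ∀ i, i < 73236 → P i := stepQ 73235 Q73235 (allL N73235 (tt N62031 F224189) (tt N62034 (iv0 F224188)) (tt N61991 F330551) (tt N40526 (iv3 D141165)) (tt N56995 (iv4 F330550)) (tt N104179 (iv5 F444556)) (tt N107954 D211174) (tt N95908 (iv7 F410201)))
theorem Q73237 : ∀ i, i < 73237 → P i := stepQ 73236 Q73236 (allL N73236 (tt N40544 F224190) (tt N72530 F224247) (tt N72532 F225852) (tt N104179 (iv3 F444558)) (tt N107955 D211175) (tt N40526 (iv5 D141166)) (tt N71302 (iv6 F364131)) (tt N72533 F225851))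
theorem Q73238 : ∀ i, i < 73238 → P i := stepQ 73237 Q73237 (allL N73237 (tt N40552 F353569) (tt N72042 F353571) (tt N72040 F353572) (tt N107954 (iv3 F460458)) (tt N70995 F224191) (tt N73843 (iv5 F353570)) (tt N40526 (iv6 D141167)) (tt N72039 F353573))
theorem Q73239 : ∀ i, i < 73239 → P i := stepQ 73238 Q73238 (allL N73238 (tt N101619 (iv1 F433585)) (tt N107058 (iv0 F456808)) (tt N40528 F224192) (tt N58613 (iv3 F338272)) (tt N106060 (iv4 F452950)) (tt N58612 F353376) (tt N40527 (iv6 D141168)) (tt N71695 (iv7 F353374)))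
theorem Q73240 : ∀ i, i < 73240 → P i := stepQ 73239 Q73239 (allL N73239 (tt N71695 (iv1 F353375)) (tt N40528 (iv0 D141169)) (tt N101619 (iv2 F433582)) (tt N107956 D211176) (tt N101618 F433581) (tt N106906 F456230) (tt N107957 D211177) (tt N107058 (iv7 F456806)))
theorem Q73241 : ∀ i, i < 73241 → P i := stepQ 73240 Q73240 (allL N73240 (tt N40528 (iv1 D141170)) (tt N71695 F353377) (tt N107058 (iv2 F456803)) (tt N107958 D211178) (tt N101115 F431756) (tt N106389 (iv5 F454253)) (tt N64551 (iv6 F424510)) (tt N101619 (iv7 F433583)))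
theorem Q73242 : ∀ i, i < 73242 → P i := stepQ 73241 Q73241 (allL N73241 (tt N62329 F353367) (tt N63362 (iv0 F353366)) (tt N58612 (iv2 F353364)) (tt N40529 F224193) (tt N58621 (iv4 F353365)) (tt N40528 (iv5 D141171)) (tt N71108 F353363) (tt N71694 F353368))
theorem Q73243 : ∀ i, i < 73243 → P i := stepQ 73242 Q73242 (allL N73242 (tt N70949 (iv1 F338269)) (tt N40529 (iv0 D141172)) (tt N71383 (iv2 F360371)) (tt N107959 D211179) (tt N107288 (iv4 F457809)) (tt N72441 F224194) (tt N70891 (iv6 F332955)) (tt N71701 (iv7 F360374)))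
theorem Q73244 : ∀ i, i < 73244 → P i := stepQ 73243 Q73243 (allL N73243 (tt N40529 (iv1 D141173)) (tt N70949 (iv0 F338268)) (tt N71701 F360375) (tt N101108 (iv3 F431710)) (tt N107289 (iv4 F457819)) (tt N62572 F224195) (tt N71533 (iv6 F343873)) (tt N71383 (iv7 F360373)))
theorem Q73245 : ∀ i, i < 73245 → P i := stepQ 73244 Q73244 (allL N73244 (tt N107960 D211180) (tt N107961 D211181) (tt N61947 (iv2 F359211)) (tt N73203 F359210) (tt N40529 (iv4 D141174)) (tt N98782 (iv5 F422301)) (tt N82072 (iv6 F359212)) (tt N99051 (iv7 F423148)))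
theorem Q73246 : ∀ i, i < 73246 → P i := stepQ 73245 Q73245 (allL N73245 (tt N40530 (iv1 D141175)) (tt N66418 F224198) (tt N95960 (iv2 F410447)) (tt N95963 (iv3 F410456)) (tt N102652 (iv4 F438064)) (tt N107744 (iv5 F459512)) (tt N83194 (iv6 F415402)) (tt N95972 (iv7 F410483)))
theorem Q73247 : ∀ i, i < 73247 → P i := stepQ 73246 Q73246 (allL N73246 (tt N95972 (iv1 F410484)) (tt N95960 (iv0 F410445)) (tt N40530 (iv2 D141176)) (tt N99507 (iv3 F424910)) (tt N66230 F224196) (tt N83144 (iv5 F369487)) (tt N107962 D211182) (tt N66418 F224197))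
theorem Q73248 : ∀ i, i < 73248 → P i := stepQ 73247 Q73247 (allL N73247 (tt N107963 D211183) (tt N77271 (iv0 F373284)) (tt N107962 (iv2 F460492)) (tt N40532 F224199) (tt N47792 F324987) (tt N107964 D211184) (tt N40530 (iv6 D141177)) (tt N79569 F324988))
theorem Q73249 : ∀ i, i < 73249 → P i := stepQ 73248 Q73248 (allL N73248 (tt N78170 F361958) (tt N40532 (iv0 D141179)) (tt N41058 F361959) (tt N90986 (iv3 F391479)) (tt N40601 F361960) (tt N90985 (iv5 F391476)) (tt N77689 F361961) (tt N82187 F361962))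
theorem Q73250 : ∀ i, i < 73250 → P i := stepQ 73249 Q73249 (allL N73249 (tt N101107 (iv1 F431705)) (tt N101108 (iv0 F431709)) (tt N77319 (iv2 F342358)) (tt N107964 (iv3 F460501)) (tt N53951 (iv4 F366826)) (tt N40532 (iv5 D141181)) (tt N105641 (iv6 F451068)) (tt N82188 (iv7 F342360)))
theorem Q73251 : ∀ i, i < 73251 → P i := stepQ 73250 Q73250 (allL N73250 (tt N99507 (iv1 F424913)) (tt N40533 (iv0 D141183)) (tt N95907 (iv2 F410194)) (tt N61991 F365195) (tt N60290 F224203) (tt N107965 D211185) (tt N107966 D211186) (tt N99506 (iv7 F424908)))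
theorem Q73252 : ∀ i, i < 73252 → P i := stepQ 73251 Q73251 (allL N73251 (tt N95907 F410198) (tt N99506 F424907) (tt N40533 (iv2 D141184)) (tt N66418 F224204) (tt N99563 (iv4 F425177)) (tt N107479 (iv5 F458461)) (tt N107176 (iv6 F457348)) (tt N99507 (iv7 F424912)))
theorem Q73253 : ∀ i, i < 73253 → P i := stepQ 73252 Q73252 (allL N73252 (tt N72790 F224207) (tt N72761 F224208) (tt N40538 F224206) (tt N85493 (iv3 F372822)) (tt N40534 (iv4 D141190)) (tt N90071 (iv5 F388484)) (tt N85490 F372809) (tt N99509 (iv7 F424922)))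
theorem Q73254 : ∀ i, i < 73254 → P i := stepQ 73253 Q73253 (allL N73253 (tt N40543 (iv1 F224214)) (tt N40535 (iv0 D141192)) (tt N40540 F321271) (tt N107967 D211187) (tt N40815 (iv4 F224216)) (tt N92138 (iv5 F395918)) (tt N42916 F320815) (tt N40541 F321272))
theorem Q73255 : ∀ i, i < 73255 → P i := stepQ 73254 Q73254 (allL N73254 (tt N40535 (iv1 D141193)) (tt N40543 F224210) (tt N40541 F348154) (tt N83195 (iv3 F348157)) (tt N63782 F340844) (tt N92137 (iv5 F395909)) (tt N77692 F348155) (tt N40540 F348156))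
theorem Q73256 : ∀ i, i < 73256 → P i := stepQ 73255 Q73255 (allL N73255 (tt N40541 (iv1 F224215)) (tt N40540 F224217) (tt N40543 F224212) (tt N53603 (iv3 F360358)) (tt N40612 F224213) (tt N41343 F320816) (tt N80391 F366453) (tt N40535 (iv7 D141195)))
theorem Q73257 : ∀ i, i < 73257 → P i := stepQ 73256 Q73256 (allL N73256 (tt N95973 F410492) (tt N107744 (iv0 F459514)) (tt N102759 (iv2 F438508)) (tt N40536 (iv3 D141196)) (tt N58689 F345631) (tt N62274 F224218) (tt N107968 D211188) (tt N72568 F224219))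
theorem Q73258 : ∀ i, i < 73258 → P i := stepQ 73257 Q73257 (allL N73257 (tt N88891 (iv1 F384445)) (tt N85420 (iv0 F372583)) (tt N72579 F224220) (tt N58694 (iv3 F345632)) (tt N40536 (iv4 D141197)) (tt N107969 D211189) (tt N107970 D211190) (tt N72570 F224221))
theorem Q73259 : ∀ i, i < 73259 → P i := stepQ 73258 Q73258 (allL N73258 (tt N107971 D211191) (tt N89683 (iv0 F387210)) (tt N72580 F224222) (tt N107968 (iv3 F460526)) (tt N107970 (iv4 F460540)) (tt N107972 D211192) (tt N40536 (iv6 D141198)) (tt N107973 D211193))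
theorem Q73260 : ∀ i, i < 73260 → P i := stepQ 73259 Q73259 (allL N73259 (tt N107965 (iv1 F460511)) (tt N107951 (iv0 F460443)) (tt N107974 D211194) (tt N40537 (iv3 D141199)) (tt N85572 (iv4 F378690)) (tt N62277 F224223) (tt N107975 D211195) (tt N72577 F224224))
theorem Q73261 : ∀ i, i < 73261 → P i := stepQ 73260 Q73260 (allL N73260 (tt N85420 (iv1 F372584)) (tt N88891 F384444) (tt N72570 F224225) (tt N83944 F378689) (tt N40537 (iv4 D141200)) (tt N107976 D211196) (tt N107977 D211197) (tt N72579 F224226))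
theorem Q73262 : ∀ i, i < 73262 → P i := stepQ 73261 Q73261 (allL N73261 (tt N107978 D211198) (tt N107979 D211199) (tt N72571 F224227) (tt N107975 (iv3 F460566)) (tt N107977 (iv4 F460572)) (tt N107980 D211200) (tt N40537 (iv6 D141201)) (tt N107981 D211201))
theorem Q73263 : ∀ i, i < 73263 → P i := stepQ 73262 Q73262 (allL N73262 (tt N99509 (iv1 F424925)) (tt N40538 (iv0 D141202)) (tt N72790 (iv2 F224229)) (tt N107982 D211202) (tt N62297 F224228) (tt N107983 D211203) (tt N107984 D211204) (tt N72761 (iv7 F224230)))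
theorem Q73264 : ∀ i, i < 73264 → P i := stepQ 73263 Q73263 (allL N73263 (tt N40538 (iv1 D141203)) (tt N99509 (iv0 F424924)) (tt N72761 (iv2 F224233)) (tt N84902 F372990) (tt N62305 F224232) (tt N107985 D211205) (tt N107986 D211206) (tt N72790 F224231))
theorem Q73265 : ∀ i, i < 73265 → P i := stepQ 73264 Q73264 (allL N73264 (tt N107485 (iv1 F458487)) (tt N73875 (iv0 F385290)) (tt N90071 (iv2 F388482)) (tt N96572 (iv3 F413042)) (tt N99541 (iv4 F425062)) (tt N40538 (iv5 D141204)) (tt N89131 (iv6 F385288)) (tt N99511 (iv7 F424935)))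
theorem Q73266 : ∀ i, i < 73266 → P i := stepQ 73265 Q73265 (allL N73265 (tt N86776 (iv1 F377144)) (tt N84894 F371022) (tt N85490 (iv2 F372806)) (tt N84110 F368142) (tt N40539 F224234) (tt N84885 F371001) (tt N40538 (iv6 D141205)) (tt N88892 (iv7 F384447)))
theorem Q73267 : ∀ i, i < 73267 → P i := stepQ 73266 Q73266 (allL N73266 (tt N107987 D211207) (tt N83967 (iv0 F367655)) (tt N88707 (iv2 F383924)) (tt N40550 F224235) (tt N78956 (iv4 F365492)) (tt N40539 (iv5 D141208)) (tt N40542 F224236) (tt N88893 (iv7 F384454)))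
theorem Q73268 : ∀ i, i < 73268 → P i := stepQ 73267 Q73267 (allL N73267 (tt N107966 F460518) (tt N107988 D211208) (tt N107989 D211209) (tt N40541 (iv3 D141216)) (tt N107990 D211210) (tt N86128 F375185) (tt N107991 D211211) (tt N107967 (iv7 F460523)))
theorem Q73269 : ∀ i, i < 73269 → P i := stepQ 73268 Q73268 (allL N73268 (tt N77690 F348144) (tt N77689 F348148) (tt N77692 (iv2 F348146)) (tt N107991 (iv3 F460627)) (tt N76292 F340830) (tt N107992 D211212) (tt N40541 (iv6 D141219)) (tt N76289 F348145))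
theorem Q73270 : ∀ i, i < 73270 → P i := stepQ 73269 Q73269 (allL N73269 (tt N41343 F324055) (tt N40542 (iv0 D141220)) (tt N56040 F324056) (tt N87049 (iv3 F378178)) (tt N45213 F324057) (tt N65293 (iv5 F363453)) (tt N87048 F378177) (tt N56049 F324058))
theorem Q73271 : ∀ i, i < 73271 → P i := stepQ 73270 Q73270 (allL N73270 (tt N40542 (iv1 D141221)) (tt N41343 F324059) (tt N56049 F324060) (tt N107993 D211213) (tt N45212 F324061) (tt N107994 D211214) (tt N83964 (iv6 F367640)) (tt N56040 F324062))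
theorem Q73272 : ∀ i, i < 73272 → P i := stepQ 73271 Q73271 (allL N73271 (tt N72533 (iv1 F224248)) (tt N72532 F224246) (tt N40544 (iv2 D141224)) (tt N72552 F224243) (tt N107995 D211215) (tt N62265 F224244) (tt N107996 D211216) (tt N72530 F224245))
theorem Q73273 : ∀ i, i < 73273 → P i := stepQ 73272 Q73272 (allL N73272 (tt N107953 F460455) (tt N107997 D211217) (tt N107995 (iv2 F460639)) (tt N73093 F224249) (tt N40544 (iv4 D141225)) (tt N107998 D211218) (tt N78974 (iv6 F449431)) (tt N72534 F224250))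
theorem Q73274 : ∀ i, i < 73274 → P i := stepQ 73273 Q73273 (allL N73273 (tt N71295 F387712) (tt N107999 D211219) (tt N107996 (iv2 F460644)) (tt N40545 F224251) (tt N78974 F449430) (tt N88831 (iv5 F449432)) (tt N40544 (iv6 D141226)) (tt N108000 D211220))
theorem Q73275 : ∀ i, i < 73275 → P i := stepQ 73274 Q73274 (allL N73274 (tt N72563 (iv1 F224258)) (tt N40545 (iv0 D141227)) (tt N72560 (iv2 F372261)) (tt N85332 (iv3 F372264)) (tt N96550 F412956) (tt N101489 (iv5 F433119)) (tt N70878 (iv6 F386310)) (tt N72561 F372260))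
theorem Q73276 : ∀ i, i < 73276 → P i := stepQ 73275 Q73275 (allL N73275 (tt N40545 (iv1 D141228)) (tt N72563 F224252) (tt N72561 F372258) (tt N89683 (iv3 F387209)) (tt N96551 (iv4 F412948)) (tt N88591 (iv5 F383539)) (tt N85328 (iv6 F372257)) (tt N72560 (iv7 F372259)))
theorem Q73277 : ∀ i, i < 73277 → P i := stepQ 73276 Q73276 (allL N73276 (tt N108001 D211221) (tt N108002 D211222) (tt N72562 F224253) (tt N88831 F449433) (tt N108003 D211223) (tt N40545 (iv5 D141229)) (tt N62267 F224254) (tt N108004 D211224))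
theorem Q73278 : ∀ i, i < 73278 → P i := stepQ 73277 Q73277 (allL N73277 (tt N72561 (iv1 F224259)) (tt N72560 F224260) (tt N72563 F224255) (tt N108000 (iv3 F460664)) (tt N73097 F224256) (tt N108004 (iv5 F460683)) (tt N72543 F224257) (tt N40545 (iv7 D141230)))
theorem Q73279 : ∀ i, i < 73279 → P i := stepQ 73278 Q73278 (allL N73278 (tt N71322 (iv1 F359148)) (tt N72554 F224264) (tt N40546 (iv2 D141231)) (tt N72530 F224261) (tt N106847 (iv4 F455968)) (tt N62270 F224262) (tt N108005 D211225) (tt N72552 F224263))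
theorem Q73280 : ∀ i, i < 73280 → P i := stepQ 73279 Q73279 (allL N73279 (tt N96121 (iv1 F411144)) (tt N96142 (iv0 F411229)) (tt N106847 (iv2 F455966)) (tt N96628 (iv3 F413240)) (tt N40546 (iv4 D141232)) (tt N105145 (iv5 F448988)) (tt N108006 D211226) (tt N72555 F224268))
theorem Q73281 : ∀ i, i < 73281 → P i := stepQ 73280 Q73280 (allL N73280 (tt N98685 F421846) (tt N98683 (iv0 F421842)) (tt N108005 (iv2 F460686)) (tt N40547 F224269) (tt N108006 (iv4 F460692)) (tt N108007 D211227) (tt N40546 (iv6 D141233)) (tt N108008 D211228))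
theorem Q73282 : ∀ i, i < 73282 → P i := stepQ 73281 Q73281 (allL N73281 (tt N72543 (iv1 F224275)) (tt N40547 (iv0 D141234)) (tt N72540 F343250) (tt N107978 (iv3 F460579)) (tt N96545 (iv4 F412925)) (tt N108009 D211229) (tt N100978 (iv6 F431141)) (tt N72541 F343249))
theorem Q73283 : ∀ i, i < 73283 → P i := stepQ 73282 Q73282 (allL N73282 (tt N108010 D211230) (tt N108011 D211231) (tt N72542 F224271) (tt N108007 (iv3 F460697)) (tt N108012 D211232) (tt N40547 (iv5 D141236)) (tt N62272 F224272) (tt N108013 D211233))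
theorem Q73284 : ∀ i, i < 73284 → P i := stepQ 73283 Q73283 (allL N73283 (tt N72541 (iv1 F224276)) (tt N72540 F224277) (tt N72543 F224273) (tt N108008 (iv3 F460703)) (tt N96632 (iv4 F413250)) (tt N108013 (iv5 F460727)) (tt N72563 F224274) (tt N40547 (iv7 D141237)))
theorem Q73285 : ∀ i, i < 73285 → P i := stepQ 73284 Q73284 (allL N73284 (tt N71303 (iv1 F357735)) (tt N71302 F357737) (tt N71300 (iv2 F357732)) (tt N40548 (iv3 D141239)) (tt N71289 F357736) (tt N69911 (iv5 F357733)) (tt N71288 (iv6 F357734)) (tt N71289 F357731))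
theorem Q73286 : ∀ i, i < 73286 → P i := stepQ 73285 Q73285 (allL N73285 (tt N72042 (iv1 F353578)) (tt N40552 (iv0 D141252)) (tt N72039 (iv2 F353574)) (tt N107988 F460613) (tt N53439 F353575) (tt N73797 F353577) (tt N53438 (iv6 F353579)) (tt N72040 (iv7 F353576)))
theorem Q73287 : ∀ i, i < 73287 → P i := stepQ 73286 Q73286 (allL N73286 (tt N107174 F457339) (tt N108014 D211234) (tt N72041 (iv2 F357358)) (tt N40554 F224283) (tt N62951 (iv4 F365489)) (tt N53515 F357366) (tt N40552 (iv6 D141256)) (tt N53527 (iv7 F329702)))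
theorem Q73288 : ∀ i, i < 73288 → P i := stepQ 73287 Q73287 (allL N73287 (tt N40553 (iv1 D141258)) (tt N40556 F224286) (tt N71004 F350308) (tt N74920 (iv3 F342847)) (tt N59002 F342846) (tt N69557 (iv5 F224287)) (tt N66486 (iv6 F350333)) (tt N69998 (iv7 F350273)))
theorem Q73289 : ∀ i, i < 73289 → P i := stepQ 73288 Q73288 (allL N73288 (tt N40555 (iv1 D141262)) (tt N72037 F357365) (tt N95970 (iv2 F410474)) (tt N83193 (iv3 F415398)) (tt N108015 D211235) (tt N103590 (iv5 F442159)) (tt N95979 (iv6 F410502)) (tt N95961 F410455))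
theorem Q73290 : ∀ i, i < 73290 → P i := stepQ 73289 Q73289 (allL N73289 (tt N95961 (iv1 F410454)) (tt N95970 F410475) (tt N40555 (iv2 D141263)) (tt N72042 F357363) (tt N93655 (iv4 F401455)) (tt N66258 F357364) (tt N108016 D211236) (tt N72037 (iv7 F357361)))
theorem Q73291 : ∀ i, i < 73291 → P i := stepQ 73290 Q73290 (allL N73290 (tt N108017 D211237) (tt N108018 D211238) (tt N108016 (iv2 F460742)) (tt N40557 F224289) (tt N93657 (iv4 F401464)) (tt N108019 D211239) (tt N40555 (iv6 D141265)) (tt N108020 D211240))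
theorem Q73292 : ∀ i, i < 73292 → P i := stepQ 73291 Q73291 (allL N73291 (tt N78120 F246043) (tt N59287 F224290) (tt N78117 F246036) (tt N108019 (iv3 F460760)) (tt N108021 D211241) (tt N40557 (iv5 D141268)) (tt N69878 F356528) (tt N78118 (iv7 F246039)))
theorem Q73293 : ∀ i, i < 73293 → P i := stepQ 73292 Q73292 (allL N73292 (tt N41060 F226495) (tt N64565 (iv0 F332935)) (tt N53531 (iv2 F329711)) (tt N108020 (iv3 F460766)) (tt N74209 (iv4 F226997)) (tt N78118 (iv5 F246040)) (tt N53516 (iv6 F329241)) (tt N40557 (iv7 D141269)))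
theorem Q73294 : ∀ i, i < 73294 → P i := stepQ 73293 Q73293 (allL N73293 (tt N96618 F413205) (tt N96616 (iv0 F413195)) (tt N71046 (iv2 F364297)) (tt N40560 (iv3 D141283)) (tt N40563 F224302) (tt N96805 (iv5 F414036)) (tt N53909 (iv6 F349158)) (tt N92529 (iv7 F397260)))
theorem Q73295 : ∀ i, i < 73295 → P i := stepQ 73294 Q73294 (allL N73294 (tt N68746 F224304) (tt N102180 F436068) (tt N93669 (iv2 F401502)) (tt N82788 (iv3 F360186)) (tt N40561 (iv4 D141285)) (tt N101968 (iv5 F435135)) (tt N92893 (iv6 F398678)) (tt N68836 F224303))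
theorem Q73296 : ∀ i, i < 73296 → P i := stepQ 73295 Q73295 (allL N73295 (tt N51213 F365359) (tt N51196 (iv0 F365360)) (tt N51211 F360200) (tt N40562 (iv3 D141286)) (tt N97378 (iv4 F416601)) (tt N70161 (iv5 F365358)) (tt N86318 (iv6 F375812)) (tt N51212 (iv7 F360199)))
theorem Q73297 : ∀ i, i < 73297 → P i := stepQ 73296 Q73296 (allL N73296 (tt N106111 (iv1 F453173)) (tt N40563 (iv0 D141288)) (tt N91448 (iv2 F393172)) (tt N106756 F455561) (tt N96610 F413196) (tt N105109 (iv5 F448832)) (tt N99525 F424985) (tt N69691 F393173))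
theorem Q73298 : ∀ i, i < 73298 → P i := stepQ 73297 Q73297 (allL N73297 (tt N91448 (iv1 F393174)) (tt N69691 F393164) (tt N40563 (iv2 D141290)) (tt N105053 (iv3 F448577)) (tt N71046 F364298) (tt N106036 (iv5 F452829)) (tt N53877 (iv6 F365249)) (tt N106111 (iv7 F453171)))
theorem Q73299 : ∀ i, i < 73299 → P i := stepQ 73298 Q73298 (allL N73298 (tt N106038 (iv1 F452841)) (tt N97930 (iv0 F418841)) (tt N106036 F452831) (tt N40564 F224308) (tt N96690 F413478) (tt N40563 (iv5 D141291)) (tt N53910 F361233) (tt N91789 (iv7 F394426)))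
theorem Q73300 : ∀ i, i < 73300 → P i := stepQ 73299 Q73299 (allL N73299 (tt N59003 F342852) (tt N59002 (iv0 F342848)) (tt N94483 (iv2 F404672)) (tt N68731 F342849) (tt N40564 (iv4 D141295)) (tt N72922 (iv5 F342838)) (tt N52924 (iv6 F342850)) (tt N68695 F342839))
theorem Q73301 : ∀ i, i < 73301 → P i := stepQ 73300 Q73300 (allL N73300 (tt N105047 F448554) (tt N108022 D211242) (tt N55917 F336176) (tt N40568 (iv3 D141302)) (tt N40571 F224324) (tt N55916 F360518) (tt N108023 D211243) (tt N92425 (iv7 F396976)))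
theorem Q73302 : ∀ i, i < 73302 → P i := stepQ 73301 Q73301 (allL N73301 (tt N55896 (iv1 F360519)) (tt N55895 F360504) (tt N55857 F360500) (tt N55916 (iv3 F360501)) (tt N66351 (iv4 F360502)) (tt N40568 (iv5 D141303)) (tt N108024 D211244) (tt N55897 (iv7 F360499)))
theorem Q73303 : ∀ i, i < 73303 → P i := stepQ 73302 Q73302 (allL N73302 (tt N104673 (iv1 F446816)) (tt N92524 F397236) (tt N92426 (iv2 F396979)) (tt N108023 (iv3 F460781)) (tt N40570 F224325) (tt N108025 D211245) (tt N40568 (iv6 D141304)) (tt N102734 (iv7 F438411)))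
theorem Q73304 : ∀ i, i < 73304 → P i := stepQ 73303 Q73303 (allL N73303 (tt N69113 (iv1 F228701)) (tt N69162 F224327) (tt N99059 (iv2 F423178)) (tt N108026 D211246) (tt N40569 (iv4 D141305)) (tt N71006 F360509) (tt N66213 F224326) (tt N72082 F360488))
theorem Q73305 : ∀ i, i < 73305 → P i := stepQ 73304 Q73304 (allL N73304 (tt N71372 (iv1 F224330)) (tt N40570 (iv0 D141306)) (tt N70019 (iv2 F224329)) (tt N56677 (iv3 F224332)) (tt N108027 D211247) (tt N56676 F224328) (tt N93699 F401606) (tt N71080 F224331))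
theorem Q73306 : ∀ i, i < 73306 → P i := stepQ 73305 Q73305 (allL N73305 (tt N40571 (iv1 D141308)) (tt N105053 F448579) (tt N105055 (iv2 F448582)) (tt N79083 (iv3 F366347)) (tt N108028 D211248) (tt N79082 F366348) (tt N99531 F425005) (tt N99366 F424311))
theorem Q73307 : ∀ i, i < 73307 → P i := stepQ 73306 Q73306 (allL N73306 (tt N99366 F424310) (tt N105055 F448585) (tt N40571 (iv2 D141309)) (tt N106111 (iv3 F453169)) (tt N55917 (iv4 F364299)) (tt N107019 (iv5 F456657)) (tt N108029 D211249) (tt N105053 (iv7 F448578)))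
theorem Q73308 : ∀ i, i < 73308 → P i := stepQ 73307 Q73307 (allL N73307 (tt N107009 F456634) (tt N107021 (iv0 F456669)) (tt N107019 F456659) (tt N40572 F224333) (tt N103798 (iv4 F442865)) (tt N40571 (iv5 D141310)) (tt N103794 (iv6 F442846)) (tt N107020 (iv7 F456661)))
theorem Q73309 : ∀ i, i < 73309 → P i := stepQ 73308 Q73308 (allL N73308 (tt N101184 F456670) (tt N108030 D211250) (tt N108029 (iv2 F460806)) (tt N40573 F224334) (tt N108023 (iv4 F460782)) (tt N108031 D211251) (tt N40571 (iv6 D141311)) (tt N108032 D211252))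
theorem Q73310 : ∀ i, i < 73310 → P i := stepQ 73309 Q73309 (allL N73309 (tt N99386 (iv1 F424375)) (tt N94068 (iv0 F403053)) (tt N105138 F448956) (tt N108031 (iv3 F460814)) (tt N108033 D211253) (tt N40573 (iv5 D141316)) (tt N80515 (iv6 F342833)) (tt N105139 (iv7 F448958)))
theorem Q73311 : ∀ i, i < 73311 → P i := stepQ 73310 Q73310 (allL N73310 (tt N96245 F411720) (tt N47772 F362319) (tt N78172 (iv2 F246506)) (tt N108032 (iv3 F460816)) (tt N40575 F224335) (tt N105139 (iv5 F448959)) (tt N59290 F224336) (tt N40573 (iv7 D141317)))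
theorem Q73312 : ∀ i, i < 73312 → P i := stepQ 73311 Q73311 (allL N73311 (tt N92141 F395936) (tt N106041 (iv0 F452855)) (tt N82786 F352438) (tt N40574 (iv3 D141318)) (tt N108026 (iv4 F460790)) (tt N107110 (iv5 F457019)) (tt N70437 F224337) (tt N106513 (iv7 F454725)))
theorem Q73313 : ∀ i, i < 73313 → P i := stepQ 73312 Q73312 (allL N73312 (tt N102680 (iv1 F438181)) (tt N40576 (iv0 D141324)) (tt N103590 (iv2 F442157)) (tt N108034 D211254) (tt N104851 (iv4 F447620)) (tt N95970 (iv5 F410477)) (tt N68214 F342777) (tt N95969 F410478))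
theorem Q73314 : ∀ i, i < 73314 → P i := stepQ 73313 Q73313 (allL N73313 (tt N40576 (iv1 D141325)) (tt N102680 (iv0 F438180)) (tt N95969 (iv2 F410471)) (tt N108035 D211255) (tt N104658 (iv4 F446733)) (tt N95961 (iv5 F410452)) (tt N71321 (iv6 F364601)) (tt N103590 (iv7 F442162)))
theorem Q73315 : ∀ i, i < 73315 → P i := stepQ 73314 Q73314 (allL N73314 (tt N103590 F442161) (tt N95969 F410473) (tt N40576 (iv2 D141326)) (tt N71927 F333090) (tt N40660 F224340) (tt N106086 F453051) (tt N68236 F224341) (tt N102680 (iv7 F438178)))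
theorem Q73316 : ∀ i, i < 73316 → P i := stepQ 73315 Q73315 (allL N73315 (tt N40578 (iv1 D141332)) (tt N40581 F224345) (tt N40851 F224348) (tt N55944 F224349) (tt N40850 (iv4 F224347)) (tt N107575 (iv5 F458811)) (tt N108036 D211256) (tt N40896 F224346))
theorem Q73317 : ∀ i, i < 73317 → P i := stepQ 73316 Q73316 (allL N73316 (tt N74682 (iv1 F228555)) (tt N108037 D211257) (tt N56024 F224350) (tt N99206 (iv3 F423695)) (tt N95750 (iv4 F409449)) (tt N40578 (iv5 D141333)) (tt N108038 D211258) (tt N56016 F224351))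
theorem Q73318 : ∀ i, i < 73318 → P i := stepQ 73317 Q73317 (allL N73317 (tt N73100 F224365) (tt N40740 F224366) (tt N73102 F224362) (tt N40582 F224363) (tt N74336 (iv4 F227361)) (tt N40580 (iv5 D141340)) (tt N81501 (iv6 F346388)) (tt N56021 F224364))
theorem Q73319 : ∀ i, i < 73319 → P i := stepQ 73318 Q73318 (allL N73318 (tt N73685 (iv1 F344490)) (tt N73687 (iv0 F344474)) (tt N99197 (iv2 F423656)) (tt N40583 F224367) (tt N58446 (iv4 F347151)) (tt N105277 (iv5 F449521)) (tt N40580 (iv6 D141341)) (tt N96837 (iv7 F414189)))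
theorem Q73320 : ∀ i, i < 73320 → P i := stepQ 73319 Q73319 (allL N73319 (tt N108037 (iv1 F460832)) (tt N74682 (iv0 F228554)) (tt N56016 F224368) (tt N59282 (iv3 F336193)) (tt N57296 F224370) (tt N40581 (iv5 D141342)) (tt N59281 F336192) (tt N56024 F224369))
theorem Q73321 : ∀ i, i < 73321 → P i := stepQ 73320 Q73320 (allL N73320 (tt N96753 (iv1 F413778)) (tt N74684 (iv0 F228561)) (tt N56018 F224373) (tt N78361 (iv3 F248410)) (tt N40582 (iv4 D141344)) (tt N58637 F224375) (tt N96761 (iv6 F413827)) (tt N56026 F224374))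
theorem Q73322 : ∀ i, i < 73322 → P i := stepQ 73321 Q73321 (allL N73321 (tt N40638 F333609) (tt N72737 F333610) (tt N56019 F224376) (tt N81501 F346386) (tt N96761 (iv4 F413826)) (tt N62718 F333611) (tt N40582 (iv6 D141345)) (tt N62729 (iv7 F333614)))
theorem Q73323 : ∀ i, i < 73323 → P i := stepQ 73322 Q73322 (allL N73322 (tt N40643 F224379) (tt N82336 F315936) (tt N56020 F224378) (tt N105277 (iv3 F449519)) (tt N108039 D211259) (tt N40583 (iv5 D141348)) (tt N62718 F315937) (tt N67096 F315938))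
theorem Q73324 : ∀ i, i < 73324 → P i := stepQ 73323 Q73323 (allL N73323 (tt N55870 (iv1 F224388)) (tt N55869 F224389) (tt N55873 F224385) (tt N40584 (iv3 D141350)) (tt N66248 F224386) (tt N106119 (iv5 F453212)) (tt N100702 (iv6 F430092)) (tt N55871 F224387))
theorem Q73325 : ∀ i, i < 73325 → P i := stepQ 73324 Q73324 (allL N73324 (tt N55981 F224392) (tt N55980 F224393) (tt N40587 F224390) (tt N106119 (iv3 F453211)) (tt N95748 (iv4 F409437)) (tt N40584 (iv5 D141351)) (tt N108040 D211260) (tt N55979 F224391))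
theorem Q73326 : ∀ i, i < 73326 → P i := stepQ 73325 Q73325 (allL N73325 (tt N73943 F226250) (tt N94376 F404181) (tt N40588 F224394) (tt N100702 (iv3 F430091)) (tt N40585 F224395) (tt N108041 D211261) (tt N40584 (iv6 D141352)) (tt N94353 (iv7 F404108)))
theorem Q73327 : ∀ i, i < 73327 → P i := stepQ 73326 Q73326 (allL N73326 (tt N72716 F224401) (tt N41240 F224402) (tt N55977 F224399) (tt N101859 (iv3 F434702)) (tt N79624 F353518) (tt N40586 (iv5 D141354)) (tt N100535 (iv6 F429378)) (tt N55974 F224400))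
theorem Q73328 : ∀ i, i < 73328 → P i := stepQ 73327 Q73327 (allL N73327 (tt N82307 F323260) (tt N40760 F323826) (tt N55978 F224403) (tt N105056 (iv3 F448588)) (tt N43515 F323261) (tt N100085 (iv5 F427476)) (tt N40586 (iv6 D141355)) (tt N82323 F323262))
theorem Q73329 : ∀ i, i < 73329 → P i := stepQ 73328 Q73328 (allL N73328 (tt N97069 (iv1 F415314)) (tt N58773 (iv0 F224407)) (tt N95748 (iv2 F409436)) (tt N71044 F224404) (tt N40587 (iv4 D141356)) (tt N57293 F224406) (tt N100351 (iv6 F428542)) (tt N55982 F224405))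
theorem Q73330 : ∀ i, i < 73330 → P i := stepQ 73329 Q73329 (allL N73329 (tt N108042 D211262) (tt N93695 (iv0 F438038)) (tt N108040 (iv2 F460847)) (tt N55992 F224408) (tt N100351 F428544) (tt N108043 D211263) (tt N40587 (iv6 D141357)) (tt N108044 D211264))
theorem Q73331 : ∀ i, i < 73331 → P i := stepQ 73330 Q73330 (allL N73330 (tt N94353 F404110) (tt N40588 (iv0 D141358)) (tt N73943 (iv2 F363160)) (tt N108045 D211265) (tt N73743 F342366) (tt N108046 D211266) (tt N108047 D211267) (tt N94376 (iv7 F404182)))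
theorem Q73332 : ∀ i, i < 73332 → P i := stepQ 73331 Q73331 (allL N73331 (tt N40588 (iv1 D141359)) (tt N94353 (iv0 F404109)) (tt N94376 F404180) (tt N108048 D211268) (tt N72402 (iv4 F224409)) (tt N94240 F403813) (tt N94282 (iv6 F403945)) (tt N73943 (iv7 F338997)))
theorem Q73333 : ∀ i, i < 73333 → P i := stepQ 73332 Q73332 (allL N73332 (tt N108049 D211269) (tt N108050 D211270) (tt N108041 (iv2 F460851)) (tt N55995 F224410) (tt N62143 F350931) (tt N40588 (iv5 D141360)) (tt N108043 (iv6 F460859)) (tt N94377 (iv7 F404184)))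
theorem Q73334 : ∀ i, i < 73334 → P i := stepQ 73333 Q73333 (allL N73333 (tt N78176 (iv1 F351471)) (tt N47722 F342337) (tt N99240 (iv2 F423819)) (tt N40589 (iv3 D141362)) (tt N78017 F245566) (tt N80344 F351472) (tt N103159 (iv6 F440343)) (tt N94469 (iv7 F404597)))
theorem Q73335 : ∀ i, i < 73335 → P i := stepQ 73334 Q73334 (allL N73334 (tt N94458 (iv1 F404553)) (tt N108036 (iv0 F460830)) (tt N94471 (iv2 F404608)) (tt N108051 D211271) (tt N40589 (iv4 D141363)) (tt N94399 F404272) (tt N108052 D211272) (tt N94402 (iv7 F404313)))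
theorem Q73336 : ∀ i, i < 73336 → P i := stepQ 73335 Q73335 (allL N73335 (tt N77783 F359896) (tt N41431 F359897) (tt N77781 F359895) (tt N103159 F440345) (tt N108052 (iv4 F460889)) (tt N108053 D211273) (tt N40589 (iv6 D141365)) (tt N77782 (iv7 F359894)))
theorem Q73337 : ∀ i, i < 73337 → P i := stepQ 73336 Q73336 (allL N73336 (tt N73662 (iv1 F357083)) (tt N78150 F361945) (tt N99493 (iv2 F424840)) (tt N40590 (iv3 D141367)) (tt N95370 (iv4 F408011)) (tt N53570 F357075) (tt N95373 (iv6 F408024)) (tt N94470 (iv7 F404604)))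
theorem Q73338 : ∀ i, i < 73338 → P i := stepQ 73337 Q73337 (allL N73337 (tt N108036 F460831) (tt N94458 (iv0 F404552)) (tt N94402 (iv2 F404311)) (tt N108054 D211274) (tt N40590 (iv4 D141368)) (tt N44286 F357024) (tt N94213 (iv6 F403723)) (tt N94471 (iv7 F404610)))
theorem Q73339 : ∀ i, i < 73339 → P i := stepQ 73338 Q73338 (allL N73338 (tt N42702 F333662) (tt N40591 (iv0 D141371)) (tt N77771 (iv2 F333665)) (tt N47720 F333728) (tt N45601 F333729) (tt N63179 F333663) (tt N81313 F333664) (tt N77774 (iv7 F333727)))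
theorem Q73340 : ∀ i, i < 73340 → P i := stepQ 73339 Q73339 (allL N73339 (tt N40591 (iv1 D141372)) (tt N42702 F343407) (tt N77774 F343408) (tt N108055 D211275) (tt N45579 F343409) (tt N63180 F343410) (tt N42700 F343411) (tt N77771 F343412))
theorem Q73341 : ∀ i, i < 73341 → P i := stepQ 73340 Q73340 (allL N73340 (tt N78154 F344023) (tt N40735 F344025) (tt N77450 F344018) (tt N40592 (iv3 D141374)) (tt N54148 (iv4 F344019)) (tt N62569 F224415) (tt N78310 F344020) (tt N66574 F224416))
theorem Q73342 : ∀ i, i < 73342 → P i := stepQ 73341 Q73341 (allL N73341 (tt N68025 (iv1 F334229)) (tt N68026 (iv0 F334228)) (tt N66966 F334226) (tt N40594 (iv3 D141378)) (tt N63602 F336285) (tt N63736 F334227) (tt N66753 F224421) (tt N66963 (iv7 F334225)))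
theorem Q73343 : ∀ i, i < 73343 → P i := stepQ 73342 Q73342 (allL N73342 (tt N62297 F224428) (tt N62305 F224429) (tt N72759 F224426) (tt N72506 F372569) (tt N53107 F372568) (tt N40597 (iv5 D141384)) (tt N53106 (iv6 F372579)) (tt N72760 F224427))
theorem Q73344 : ∀ i, i < 73344 → P i := stepQ 73343 Q73343 (allL N73343 (tt N40626 F330612) (tt N40628 F330613) (tt N73795 (iv2 F225831)) (tt N99366 (iv3 F424307)) (tt N64215 (iv4 F326860)) (tt N79084 (iv5 F330619)) (tt N40597 (iv6 D141385)) (tt N79083 (iv7 F330618)))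
theorem Q73345 : ∀ i, i < 73345 → P i := stepQ 73344 Q73344 (allL N73344 (tt N78178 F351502) (tt N40600 (iv0 D141390)) (tt N99538 F425033) (tt N108056 D211276) (tt N48103 F339087) (tt N108057 D211277) (tt N108058 D211278) (tt N73949 F361585))
theorem Q73346 : ∀ i, i < 73346 → P i := stepQ 73345 Q73345 (allL N73345 (tt N40600 (iv1 D141391)) (tt N78178 F361577) (tt N73949 (iv2 F361584)) (tt N99370 F424323) (tt N48102 F361578) (tt N108059 D211279) (tt N101186 (iv6 F432101)) (tt N99538 (iv7 F425035)))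
theorem Q73347 : ∀ i, i < 73347 → P i := stepQ 73346 Q73346 (allL N73346 (tt N40629 F363156) (tt N42913 F321895) (tt N41063 F321896) (tt N46182 F321897) (tt N77689 (iv4 F348149)) (tt N72799 F224439) (tt N40601 (iv6 D141398)) (tt N81692 (iv7 F366295)))
theorem Q73348 : ∀ i, i < 73348 → P i := stepQ 73347 Q73347 (allL N73347 (tt N56995 (iv1 F330548)) (tt N61992 (iv0 F330547)) (tt N61990 (iv2 F330543)) (tt N40604 (iv3 D141409)) (tt N40605 F224446) (tt N77870 F330542) (tt N48019 F323216) (tt N61989 (iv7 F330541)))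
theorem Q73349 : ∀ i, i < 73349 → P i := stepQ 73348 Q73348 (allL N73348 (tt N72676 F224453) (tt N72675 F224454) (tt N62503 F224451) (tt N77870 (iv3 F330546)) (tt N95383 (iv4 F408074)) (tt N40604 (iv5 D141410)) (tt N98778 (iv6 F422284)) (tt N62501 F224452))
theorem Q73350 : ∀ i, i < 73350 → P i := stepQ 73349 Q73349 (allL N73349 (tt N83252 (iv1 F354434)) (tt N58994 (iv0 F224460)) (tt N99161 (iv2 F423529)) (tt N40606 F224459) (tt N102527 (iv4 F437514)) (tt N40605 (iv5 D141416)) (tt N105853 (iv6 F452039)) (tt N99159 (iv7 F423518)))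
theorem Q73351 : ∀ i, i < 73351 → P i := stepQ 73350 Q73350 (allL N73350 (tt N75649 F348311) (tt N88874 F384407) (tt N99536 (iv2 F425028)) (tt N105853 F452041) (tt N73878 F348309) (tt N75982 (iv5 F348308)) (tt N40606 (iv6 D141418)) (tt N108060 D211280))
theorem Q73352 : ∀ i, i < 73352 → P i := stepQ 73351 Q73351 (allL N73351 (tt N99765 (iv1 F426126)) (tt N99764 F426122) (tt N41870 F224468) (tt N40607 (iv3 D141437)) (tt N99495 (iv4 F424850)) (tt N108061 D211281) (tt N108062 D211282) (tt N99540 (iv7 F425052)))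
theorem Q73353 : ∀ i, i < 73353 → P i := stepQ 73352 Q73352 (allL N73352 (tt N99452 (iv1 F424651)) (tt N99450 (iv0 F424642)) (tt N40621 F224469) (tt N108061 (iv3 F460938)) (tt N99511 (iv4 F424934)) (tt N40607 (iv5 D141438)) (tt N108063 D211283) (tt N99541 (iv7 F425063)))
theorem Q73354 : ∀ i, i < 73354 → P i := stepQ 73353 Q73353 (allL N73353 (tt N78177 F338220) (tt N78175 F338221) (tt N40622 F224470) (tt N108062 (iv3 F460944)) (tt N40608 F224471) (tt N65290 (iv5 F338219)) (tt N40607 (iv6 D141439)) (tt N82166 (iv7 F338218)))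
theorem Q73355 : ∀ i, i < 73355 → P i := stepQ 73354 Q73354 (allL N73354 (tt N40625 (iv1 F224476)) (tt N40608 (iv0 D141440)) (tt N40623 F350254) (tt N108064 D211284) (tt N48100 F350256) (tt N52576 (iv5 F337014)) (tt N66545 (iv6 F350251)) (tt N40624 F350255))
theorem Q73356 : ∀ i, i < 73356 → P i := stepQ 73355 Q73355 (allL N73355 (tt N40608 (iv1 D141441)) (tt N40625 F224472) (tt N40624 (iv2 F334920)) (tt N46496 F332442) (tt N72166 F337089) (tt N44881 (iv5 F332445)) (tt N44046 F332443) (tt N40623 F334919))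
theorem Q73357 : ∀ i, i < 73357 → P i := stepQ 73356 Q73356 (allL N73356 (tt N40624 (iv1 F224477)) (tt N40623 F224478) (tt N40625 F224475) (tt N66677 F338210) (tt N82166 F338211) (tt N56052 (iv5 F338209)) (tt N56119 F338213) (tt N40608 (iv7 D141443)))
theorem Q73358 : ∀ i, i < 73358 → P i := stepQ 73357 Q73357 (allL N73357 (tt N99200 (iv1 F423675)) (tt N56014 (iv0 F363489)) (tt N98920 (iv2 F422787)) (tt N40609 (iv3 D141445)) (tt N61973 (iv4 F349435)) (tt N62914 F349466) (tt N42914 F320806) (tt N40627 F320810))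
theorem Q73359 : ∀ i, i < 73359 → P i := stepQ 73358 Q73358 (allL N73358 (tt N79083 (iv1 F350016)) (tt N73795 F350018) (tt N40626 F320811) (tt N99163 (iv3 F423539)) (tt N40609 (iv4 D141446)) (tt N75750 (iv5 F350019)) (tt N42915 F320807) (tt N40628 F320812))
theorem Q73360 : ∀ i, i < 73360 → P i := stepQ 73359 Q73359 (allL N73359 (tt N73795 (iv1 F350017)) (tt N79083 (iv0 F350014)) (tt N40628 F321253) (tt N106043 (iv3 F452868)) (tt N40610 (iv4 D141450)) (tt N78954 F350015) (tt N108065 D211285) (tt N40626 F321254))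
theorem Q73361 : ∀ i, i < 73361 → P i := stepQ 73360 Q73360 (allL N73360 (tt N81692 (iv1 F366299)) (tt N41063 F321255) (tt N40629 F321256) (tt N103000 (iv3 F439620)) (tt N108065 (iv4 F460958)) (tt N53324 F321257) (tt N40610 (iv6 D141452)) (tt N42913 F321258))
theorem Q73362 : ∀ i, i < 73362 → P i := stepQ 73361 Q73361 (allL N73361 (tt N66556 (iv1 F224495)) (tt N66543 F224494) (tt N40613 (iv2 D141457)) (tt N72779 F224490) (tt N62457 F224491) (tt N41487 F224492) (tt N44018 F343012) (tt N66561 F224493))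
theorem Q73363 : ∀ i, i < 73363 → P i := stepQ 73362 Q73362 (allL N73362 (tt N40614 (iv1 D141459)) (tt N40617 F224497) (tt N69991 (iv2 F343187)) (tt N85583 F373115) (tt N73619 (iv4 F225269)) (tt N85582 (iv5 F373130)) (tt N72164 (iv6 F337199)) (tt N72767 F224498))
theorem Q73364 : ∀ i, i < 73364 → P i := stepQ 73363 Q73363 (allL N73363 (tt N107323 (iv1 F457966)) (tt N108066 D211286) (tt N54837 F346096) (tt N40614 (iv3 D141460)) (tt N51493 (iv4 F333379)) (tt N107283 F457786) (tt N50037 (iv6 F346095)) (tt N72768 F224500))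
theorem Q73365 : ∀ i, i < 73365 → P i := stepQ 73364 Q73364 (allL N73364 (tt N79103 F337198) (tt N100000 (iv0 F427127)) (tt N72797 F224501) (tt N107283 (iv3 F457788)) (tt N107985 (iv4 F460600)) (tt N40614 (iv5 D141461)) (tt N108067 D211287) (tt N72769 F224502))
theorem Q73366 : ∀ i, i < 73366 → P i := stepQ 73365 Q73365 (allL N73365 (tt N79111 F346109) (tt N76467 (iv0 F337195)) (tt N72798 F224503) (tt N50037 F346091) (tt N40615 F224504) (tt N54587 F346092) (tt N40614 (iv6 D141462)) (tt N54631 (iv7 F346090)))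
theorem Q73367 : ∀ i, i < 73367 → P i := stepQ 73366 Q73366 (allL N73366 (tt N63087 (iv1 F333349)) (tt N40615 (iv0 D141463)) (tt N44049 F332427) (tt N46494 F332425) (tt N108068 D211288) (tt N48477 F332426) (tt N44048 F332428) (tt N63086 (iv7 F332429)))
theorem Q73368 : ∀ i, i < 73368 → P i := stepQ 73367 Q73367 (allL N73367 (tt N63086 F336876) (tt N44049 (iv0 F336877)) (tt N63087 (iv2 F333350)) (tt N44019 F346089) (tt N54631 F346088) (tt N64364 (iv5 F336879)) (tt N72771 F224509) (tt N40615 (iv7 D141466)))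
theorem Q73369 : ∀ i, i < 73369 → P i := stepQ 73368 Q73368 (allL N73368 (tt N56013 (iv1 F224517)) (tt N72782 F224516) (tt N40616 (iv2 D141467)) (tt N66561 F224513) (tt N62510 (iv4 F224518)) (tt N62301 F224514) (tt N80466 (iv6 F335854)) (tt N72779 F224515))
theorem Q73370 : ∀ i, i < 73370 → P i := stepQ 73369 Q73369 (allL N73369 (tt N62498 F224522) (tt N62511 F224523) (tt N62510 F224520) (tt N81515 (iv3 F359705)) (tt N40616 (iv4 D141468)) (tt N95845 (iv5 F409916)) (tt N73702 (iv6 F350988)) (tt N62509 F224521))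
theorem Q73371 : ∀ i, i < 73371 → P i := stepQ 73370 Q73370 (allL N73370 (tt N81502 F346397) (tt N81501 F359673) (tt N80466 F352583) (tt N40618 F224524) (tt N73702 F352584) (tt N80465 (iv5 F352582)) (tt N40616 (iv6 D141469)) (tt N81499 F334142))
theorem Q73372 : ∀ i, i < 73372 → P i := stepQ 73371 Q73371 (allL N73371 (tt N108069 D211289) (tt N75742 (iv0 F233614)) (tt N81521 F359703) (tt N40617 (iv3 D141470)) (tt N81515 F359704) (tt N108070 D211290) (tt N81514 (iv6 F359702)) (tt N72796 F224525))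
theorem Q73373 : ∀ i, i < 73373 → P i := stepQ 73372 Q73372 (allL N73372 (tt N100000 (iv1 F427128)) (tt N79103 F337200) (tt N72769 F224526) (tt N108070 (iv3 F460987)) (tt N107983 (iv4 F460593)) (tt N40617 (iv5 D141471)) (tt N105400 (iv6 F450068)) (tt N72797 F224527))
theorem Q73374 : ∀ i, i < 73374 → P i := stepQ 73373 Q73373 (allL N73373 (tt N69982 (iv1 F359686)) (tt N69769 (iv0 F359683)) (tt N69917 (iv2 F333158)) (tt N81514 F359685) (tt N40618 F224529) (tt N69746 (iv5 F336850)) (tt N40617 (iv6 D141472)) (tt N69913 (iv7 F333232)))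
theorem Q73375 : ∀ i, i < 73375 → P i := stepQ 73374 Q73374 (allL N73374 (tt N72771 (iv1 F224535)) (tt N40618 (iv0 D141473)) (tt N72770 (iv2 F336863)) (tt N40634 F336861) (tt N105898 (iv4 F452246)) (tt N66663 (iv5 F339437)) (tt N63083 (iv6 F336865)) (tt N66547 F336862))
theorem Q73376 : ∀ i, i < 73376 → P i := stepQ 73375 Q73375 (allL N73375 (tt N75967 F336868) (tt N79904 F349016) (tt N52579 (iv2 F333161)) (tt N80465 (iv3 F352580)) (tt N78934 F336849) (tt N40618 (iv5 D141475)) (tt N62308 F224532) (tt N78940 (iv7 F333231)))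
theorem Q73377 : ∀ i, i < 73377 → P i := stepQ 73376 Q73376 (allL N73376 (tt N66547 (iv1 F334137)) (tt N72770 F224537) (tt N72771 F224533) (tt N81499 (iv3 F334140)) (tt N69913 F333167) (tt N78940 (iv5 F333168)) (tt N63087 (iv6 F333351)) (tt N40618 (iv7 D141476)))
theorem Q73378 : ∀ i, i < 73378 → P i := stepQ 73377 Q73377 (allL N73377 (tt N108071 D211291) (tt N108072 D211292) (tt N100425 (iv2 F428915)) (tt N40619 (iv3 D141477)) (tt N40823 F366073) (tt N108073 D211293) (tt N44014 F366074) (tt N40822 F366075))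
theorem Q73379 : ∀ i, i < 73379 → P i := stepQ 73378 Q73378 (allL N73378 (tt N40947 (iv1 F224542)) (tt N40888 F224541) (tt N40803 F224538) (tt N40841 F322086) (tt N40619 (iv4 D141478)) (tt N62275 F224540) (tt N44015 F322087) (tt N40839 (iv7 F322089)))
theorem Q73380 : ∀ i, i < 73380 → P i := stepQ 73379 Q73379 (allL N73379 (tt N72803 F224545) (tt N62320 F224546) (tt N72818 F224543) (tt N108073 (iv3 F461004)) (tt N107976 (iv4 F460568)) (tt N40619 (iv5 D141479)) (tt N108074 D211294) (tt N72817 F224544))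
theorem Q73381 : ∀ i, i < 73381 → P i := stepQ 73380 Q73380 (allL N73380 (tt N108068 (iv1 F460980)) (tt N45282 F366076) (tt N99544 (iv2 F425077)) (tt N44014 F366077) (tt N44015 F366078) (tt N108075 D211295) (tt N40619 (iv6 D141480)) (tt N100426 (iv7 F428924)))
theorem Q73382 : ∀ i, i < 73382 → P i := stepQ 73381 Q73381 (allL N73381 (tt N75757 F365403) (tt N75760 (iv0 F354106)) (tt N108076 D211296) (tt N40620 (iv3 D141481)) (tt N74338 (iv4 F227370)) (tt N105508 (iv5 F450514)) (tt N69827 F363635) (tt N99543 (iv7 F425074)))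
theorem Q73383 : ∀ i, i < 73383 → P i := stepQ 73382 Q73382 (allL N73382 (tt N62320 F224549) (tt N72803 F224550) (tt N72817 F224547) (tt N105508 (iv3 F450512)) (tt N107969 (iv4 F460535)) (tt N40620 (iv5 D141482)) (tt N105507 F450511) (tt N72818 F224548))
theorem Q73384 : ∀ i, i < 73384 → P i := stepQ 73383 Q73383 (allL N73383 (tt N105898 (iv1 F452248)) (tt N106994 (iv0 F456565)) (tt N99542 (iv2 F425066)) (tt N69827 (iv3 F340099)) (tt N40939 F325922) (tt N69887 F335185) (tt N40620 (iv6 D141483)) (tt N105831 (iv7 F451920)))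
theorem Q73385 : ∀ i, i < 73385 → P i := stepQ 73384 Q73384 (allL N73384 (tt N73875 F361421) (tt N107485 (iv0 F458486)) (tt N99511 (iv2 F424933)) (tt N90077 (iv3 F388503)) (tt N40621 (iv4 D141484)) (tt N99509 (iv5 F424923)) (tt N107654 (iv6 F459098)) (tt N90071 (iv7 F388487)))
theorem Q73386 : ∀ i, i < 73386 → P i := stepQ 73385 Q73385 (allL N73385 (tt N99546 (iv1 F425089)) (tt N99549 (iv0 F425098)) (tt N108063 (iv2 F460947)) (tt N41918 F224551) (tt N107654 (iv4 F459099)) (tt N82164 F364012) (tt N40621 (iv6 D141485)) (tt N108077 D211297))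
theorem Q73387 : ∀ i, i < 73387 → P i := stepQ 73386 Q73386 (allL N73386 (tt N78175 F348296) (tt N78177 F348299) (tt N82166 F338216) (tt N41921 F224553) (tt N40625 F224554) (tt N65288 (iv5 F338217)) (tt N63085 F349348) (tt N40622 (iv7 D141489)))
theorem Q73388 : ∀ i, i < 73388 → P i := stepQ 73387 Q73387 (allL N73387 (tt N44333 F337093) (tt N72164 F337094) (tt N48100 F337095) (tt N108078 D211298) (tt N40623 (iv4 D141492)) (tt N44386 F337096) (tt N73126 F337097) (tt N72166 F337098))
theorem Q73389 : ∀ i, i < 73389 → P i := stepQ 73388 Q73388 (allL N73388 (tt N99198 F423664) (tt N75917 F360158) (tt N80478 F360156) (tt N40624 (iv3 D141496)) (tt N78717 (iv4 F360155)) (tt N101175 (iv5 F432061)) (tt N75984 F360157) (tt N108064 (iv7 F460952)))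
theorem Q73390 : ∀ i, i < 73390 → P i := stepQ 73389 Q73389 (allL N73389 (tt N41617 F334922) (tt N52578 F334923) (tt N44881 F334927) (tt N101175 F432059) (tt N43085 F334928) (tt N40624 (iv5 D141498)) (tt N62969 F334929) (tt N52576 F334930))
theorem Q73391 : ∀ i, i < 73391 → P i := stepQ 73390 Q73390 (allL N73390 (tt N40628 (iv1 F224577)) (tt N40626 (iv0 D141517)) (tt N79083 F330617) (tt N99913 (iv3 F426791)) (tt N73415 F224799) (tt N64212 (iv5 F330615)) (tt N73879 (iv6 F330616)) (tt N73795 F330614))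
theorem Q73392 : ∀ i, i < 73392 → P i := stepQ 73391 Q73391 (allL N73391 (tt N40627 (iv1 D141533)) (tt N98920 F422793) (tt N99200 (iv2 F423672)) (tt N40640 F364289) (tt N99098 (iv4 F423326)) (tt N99829 (iv5 F426422)) (tt N76763 F364290) (tt N56014 F336236))
theorem Q73393 : ∀ i, i < 73393 → P i := stepQ 73392 Q73392 (allL N73392 (tt N56014 F397307) (tt N99200 F423674) (tt N40627 (iv2 D141534)) (tt N102998 (iv3 F439606)) (tt N61974 (iv4 F360638)) (tt N92579 (iv5 F397464)) (tt N101161 (iv6 F432004)) (tt N98920 (iv7 F422790)))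
theorem Q73394 : ∀ i, i < 73394 → P i := stepQ 73393 Q73393 (allL N73393 (tt N103160 (iv1 F440346)) (tt N103159 F440344) (tt N101161 (iv2 F432002)) (tt N40629 F224584) (tt N98912 (iv4 F422765)) (tt N81663 F349464) (tt N40627 (iv6 D141537)) (tt N94136 (iv7 F403386)))
theorem Q73395 : ∀ i, i < 73395 → P i := stepQ 73394 Q73394 (allL N73394 (tt N98797 F422363) (tt N70312 (iv0 F365268)) (tt N99164 F423546) (tt N40628 (iv3 D141538)) (tt N98907 (iv4 F422753)) (tt N92141 (iv5 F395935)) (tt N108079 D211299) (tt N99163 F423543))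
theorem Q73396 : ∀ i, i < 73396 → P i := stepQ 73395 Q73395 (allL N73395 (tt N108080 D211300) (tt N108058 (iv0 F460922)) (tt N108065 (iv2 F460956)) (tt N108079 (iv3 F461022)) (tt N40629 F224585) (tt N108081 D211301) (tt N40628 (iv6 D141540)) (tt N94148 (iv7 F403433)))
theorem Q73397 : ∀ i, i < 73397 → P i := stepQ 73396 Q73396 (allL N73396 (tt N82337 F355131) (tt N103175 (iv0 F440422)) (tt N103155 (iv2 F440331)) (tt N40630 (iv3 D141548)) (tt N41850 F324052) (tt N72183 (iv5 F355136)) (tt N42440 F355133) (tt N41808 F324053))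
theorem Q73398 : ∀ i, i < 73398 → P i := stepQ 73397 Q73397 (allL N73397 (tt N41339 F323409) (tt N41352 F323410) (tt N41351 F323411) (tt N42440 F323412) (tt N41810 (iv4 F323407)) (tt N63271 F323413) (tt N40630 (iv6 D141551)) (tt N41350 F323414))
theorem Q73399 : ∀ i, i < 73399 → P i := stepQ 73398 Q73398 (allL N73398 (tt N72733 F224594) (tt N72732 F224595) (tt N40632 F224592) (tt N51924 (iv3 F340732)) (tt N40631 (iv4 D141563)) (tt N87458 (iv5 F379395)) (tt N51922 F362073) (tt N72718 F224593))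
theorem Q73400 : ∀ i, i < 73400 → P i := stepQ 73399 Q73399 (allL N73399 (tt N72718 (iv1 F224599)) (tt N40632 (iv0 D141565)) (tt N72733 (iv2 F224598)) (tt N90782 (iv3 F390824)) (tt N73736 (iv4 F225632)) (tt N66695 F224601) (tt N55110 (iv6 F346222)) (tt N72732 F224600))
theorem Q73401 : ∀ i, i < 73401 → P i := stepQ 73400 Q73400 (allL N73400 (tt N87088 (iv1 F378337)) (tt N59757 F224604) (tt N87458 (iv2 F379393)) (tt N41331 F224602) (tt N60065 (iv4 F224605)) (tt N40632 (iv5 D141566)) (tt N80168 F364238) (tt N72734 F224603))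
theorem Q73402 : ∀ i, i < 73402 → P i := stepQ 73401 Q73401 (allL N73401 (tt N40742 F330059) (tt N46496 F330060) (tt N73140 (iv2 F339616)) (tt N40635 (iv3 D141589)) (tt N92818 (iv4 F398369)) (tt N66665 F330061) (tt N66543 F330062) (tt N72744 F224656))
theorem Q73403 : ∀ i, i < 73403 → P i := stepQ 73402 Q73402 (allL N73402 (tt N41614 F313212) (tt N46235 F313213) (tt N72745 F224670) (tt N40639 F320022) (tt N64225 F336903) (tt N40637 F224671) (tt N57706 F313215) (tt N40636 (iv7 D141594)))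
theorem Q73404 : ∀ i, i < 73404 → P i := stepQ 73403 Q73403 (allL N73403 (tt N75930 F378338) (tt N73815 F364506) (tt N72735 (iv2 F358018)) (tt N62734 F224674) (tt N40638 (iv4 D141598)) (tt N81634 (iv5 F373627)) (tt N72718 F358017) (tt N74847 (iv7 F229596)))
theorem Q73405 : ∀ i, i < 73405 → P i := stepQ 73404 Q73404 (allL N73404 (tt N99555 (iv1 F425138)) (tt N77498 (iv0 F364291)) (tt N92365 F396828) (tt N108082 D211302) (tt N40640 (iv4 D141626)) (tt N92412 (iv5 F396933)) (tt N82322 F320122) (tt N56017 (iv7 F366424)))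
theorem Q73406 : ∀ i, i < 73406 → P i := stepQ 73405 Q73405 (allL N73405 (tt N82336 F318139) (tt N40643 F318140) (tt N67096 F318141) (tt N99829 (iv3 F426424)) (tt N79922 (iv4 F353541)) (tt N40640 (iv5 D141627)) (tt N56148 F315934) (tt N56020 F315935))
theorem Q73407 : ∀ i, i < 73407 → P i := stepQ 73406 Q73406 (allL N73406 (tt N73810 (iv1 F350008)) (tt N40641 (iv0 D141636)) (tt N73812 (iv2 F360677)) (tt N108028 (iv3 F460802)) (tt N73807 F350010) (tt N105051 (iv5 F448564)) (tt N82323 (iv6 F360678)) (tt N55975 F350009))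
theorem Q73408 : ∀ i, i < 73408 → P i := stepQ 73407 Q73407 (allL N73407 (tt N41777 F360651) (tt N73822 (iv0 F225913)) (tt N82335 (iv2 F355397)) (tt N73118 F360652) (tt N40643 (iv4 D141688)) (tt N105057 (iv5 F448595)) (tt N74782 F355398) (tt N98346 (iv7 F420583)))
theorem Q73409 : ∀ i, i < 73409 → P i := stepQ 73408 Q73408 (allL N73408 (tt N41526 F322868) (tt N62520 F322869) (tt N62496 F322870) (tt N40644 (iv3 D141690)) (tt N73118 F322871) (tt N48097 F316382) (tt N73718 (iv6 F335125)) (tt N62515 F322872))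
theorem Q73410 : ∀ i, i < 73410 → P i := stepQ 73409 Q73409 (allL N73409 (tt N72645 F330604) (tt N108083 D211303) (tt N99203 (iv2 F423682)) (tt N40649 F224769) (tt N61822 (iv4 F330602)) (tt N40648 (iv5 D141722)) (tt N108084 D211304) (tt N99100 (iv7 F423338)))
theorem Q73411 : ∀ i, i < 73411 → P i := stepQ 73410 Q73410 (allL N73410 (tt N72639 F330569) (tt N40649 (iv0 D141723)) (tt N60362 (iv2 F330572)) (tt N66266 F330605) (tt N72461 (iv4 F330570)) (tt N62123 (iv5 F330583)) (tt N86364 (iv6 F375955)) (tt N72640 F330571))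
theorem Q73412 : ∀ i, i < 73412 → P i := stepQ 73411 Q73411 (allL N73411 (tt N107292 (iv1 F457830)) (tt N99391 F424394) (tt N96493 F412752) (tt N107302 (iv3 F457879)) (tt N40649 (iv4 D141725)) (tt N108085 D211305) (tt N108086 D211306) (tt N99102 (iv7 F423345)))
theorem Q73413 : ∀ i, i < 73413 → P i := stepQ 73412 Q73412 (allL N73412 (tt N108087 D211307) (tt N108088 D211308) (tt N99097 (iv2 F423322)) (tt N108084 (iv3 F461046)) (tt N108086 (iv4 F461057)) (tt N106658 (iv5 F455187)) (tt N40649 (iv6 D141726)) (tt N108089 D211309))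
theorem Q73414 : ∀ i, i < 73414 → P i := stepQ 73413 Q73413 (allL N73413 (tt N68325 (iv1 F224774)) (tt N68192 F224773) (tt N43281 F354436) (tt N97858 (iv3 F418540)) (tt N107293 (iv4 F457838)) (tt N40650 (iv5 D141728)) (tt N43203 F354437) (tt N99105 (iv7 F423356)))
theorem Q73415 : ∀ i, i < 73415 → P i := stepQ 73414 Q73414 (allL N73414 (tt N57139 (iv1 F361998)) (tt N83631 F361999) (tt N40651 (iv2 D141757)) (tt N85001 (iv3 F371330)) (tt N85002 (iv4 F371334)) (tt N71350 F361997) (tt N85001 F371331) (tt N78610 (iv7 F361990)))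
theorem Q73416 : ∀ i, i < 73416 → P i := stepQ 73415 Q73415 (allL N73415 (tt N63782 F340842) (tt N40815 F340843) (tt N63781 F326864) (tt N40653 (iv3 D141766)) (tt N73390 (iv4 F224799)) (tt N45223 F326865) (tt N40957 F319171) (tt N40889 F319172))
theorem Q73417 : ∀ i, i < 73417 → P i := stepQ 73416 Q73416 (allL N73416 (tt N40927 F319173) (tt N40926 F319174) (tt N40929 F319175) (tt N62949 F341554) (tt N40653 (iv4 D141767)) (tt N83844 (iv5 F341552)) (tt N40964 F319176) (tt N40892 F319177))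
theorem Q73418 : ∀ i, i < 73418 → P i := stepQ 73417 Q73417 (allL N73417 (tt N76221 F342561) (tt N41008 F342543) (tt N40655 F224801) (tt N63677 (iv3 F341178)) (tt N106862 (iv4 F456055)) (tt N48495 F342544) (tt N40654 (iv6 D141771)) (tt N63345 (iv7 F342545)))
theorem Q73419 : ∀ i, i < 73419 → P i := stepQ 73418 Q73418 (allL N73418 (tt N63345 F342578) (tt N40655 (iv0 D141776)) (tt N76221 F342579) (tt N80406 F366807) (tt N108090 D211310) (tt N72704 (iv5 F342584)) (tt N107216 (iv6 F457483)) (tt N41008 F342580))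
theorem Q73420 : ∀ i, i < 73420 → P i := stepQ 73419 Q73419 (allL N73419 (tt N97656 F417804) (tt N92077 (iv0 F395654)) (tt N97659 (iv2 F417813)) (tt N40658 (iv3 D141791)) (tt N102366 (iv4 F436928)) (tt N66253 F359167) (tt N67035 F359165) (tt N97658 (iv7 F417815)))
theorem Q73421 : ∀ i, i < 73421 → P i := stepQ 73420 Q73420 (allL N73420 (tt N92136 F395908) (tt N71802 (iv0 F438289)) (tt N103587 (iv2 F442144)) (tt N89595 (iv3 F386880)) (tt N40658 (iv4 D141792)) (tt N89593 F386875) (tt N68225 F359166) (tt N96124 (iv7 F411160)))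
theorem Q73422 : ∀ i, i < 73422 → P i := stepQ 73421 Q73421 (allL N73421 (tt N78624 (iv1 F359159)) (tt N69054 F359761) (tt N92911 (iv2 F398742)) (tt N40659 (iv3 D141796)) (tt N104119 (iv4 F444273)) (tt N57136 F359105) (tt N103607 (iv6 F442219)) (tt N92918 (iv7 F398761)))
theorem Q73423 : ∀ i, i < 73423 → P i := stepQ 73422 Q73422 (allL N73422 (tt N71802 (iv1 F364963)) (tt N92136 (iv0 F395907)) (tt N96124 (iv2 F411157)) (tt N105032 (iv3 F448477)) (tt N40659 (iv4 D141797)) (tt N96110 F411104) (tt N103619 (iv6 F442264)) (tt N103587 F442147))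
theorem Q73424 : ∀ i, i < 73424 → P i := stepQ 73423 Q73423 (allL N73423 (tt N92334 (iv1 F396734)) (tt N92333 F396733) (tt N41230 F323665) (tt N41239 F323666) (tt N40661 (iv4 D141803)) (tt N94373 (iv5 F404170)) (tt N92445 F397018) (tt N72715 F323667))
theorem Q73425 : ∀ i, i < 73425 → P i := stepQ 73424 Q73424 (allL N73424 (tt N101862 F434717) (tt N81106 (iv0 F365172)) (tt N71333 F363878) (tt N40664 F224813) (tt N92445 (iv4 F397016)) (tt N67834 F224814) (tt N40661 (iv6 D141804)) (tt N80793 (iv7 F366821)))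
theorem Q73426 : ∀ i, i < 73426 → P i := stepQ 73425 Q73425 (allL N73425 (tt N69056 F354187) (tt N68973 F359757) (tt N103749 F442662) (tt N40662 (iv3 D141805)) (tt N98906 (iv4 F422747)) (tt N66518 F224815) (tt N42887 F321276) (tt N72748 F322090))
theorem Q73427 : ∀ i, i < 73427 → P i := stepQ 73426 Q73426 (allL N73426 (tt N69043 F337580) (tt N103605 F442208) (tt N72940 F322100) (tt N40663 (iv3 D141807)) (tt N62179 F322101) (tt N66519 F224816) (tt N41565 (iv6 F323779)) (tt N72747 F322102))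
theorem Q73428 : ∀ i, i < 73428 → P i := stepQ 73427 Q73427 (allL N73427 (tt N70113 (iv1 F224822)) (tt N48056 F341140) (tt N72239 (iv2 F341144)) (tt N80793 F306086) (tt N48147 F341141) (tt N46402 F306087) (tt N79625 F341142) (tt N40664 (iv7 D141812)))
theorem Q73429 : ∀ i, i < 73429 → P i := stepQ 73428 Q73428 (allL N73428 (tt N59169 (iv1 F224825)) (tt N69692 (iv0 F224824)) (tt N93266 (iv2 F400198)) (tt N71896 F224823) (tt N40665 (iv4 D141813)) (tt N54071 F372452) (tt N86239 (iv6 F375523)) (tt N93263 (iv7 F400186)))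
theorem Q73430 : ∀ i, i < 73430 → P i := stepQ 73429 Q73429 (allL N73429 (tt N102768 F438562) (tt N99465 (iv0 F424704)) (tt N71891 F224829) (tt N40666 (iv3 D141815)) (tt N67764 (iv4 F352291)) (tt N107700 (iv5 F459290)) (tt N79606 F359766) (tt N93265 (iv7 F400195)))
theorem Q73431 : ∀ i, i < 73431 → P i := stepQ 73430 Q73430 (allL N73430 (tt N69692 F390054) (tt N59169 (iv0 F224831)) (tt N93263 (iv2 F400184)) (tt N58996 F224830) (tt N40666 (iv4 D141816)) (tt N54070 (iv5 F364783)) (tt N90549 (iv6 F390052)) (tt N93266 (iv7 F400201)))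
theorem Q73432 : ∀ i, i < 73432 → P i := stepQ 73431 Q73431 (allL N73431 (tt N93368 F400548) (tt N107681 F459212) (tt N93264 (iv2 F400190)) (tt N79606 (iv3 F359767)) (tt N90549 F390053) (tt N108091 D211311) (tt N40666 (iv6 D141818)) (tt N94600 (iv7 F405134)))
theorem Q73433 : ∀ i, i < 73433 → P i := stepQ 73432 Q73432 (allL N73432 (tt N72866 (iv1 F350420)) (tt N72862 (iv0 F350417)) (tt N40668 F224832) (tt N40688 F224833) (tt N107693 (iv4 F459260)) (tt N40667 (iv5 D141819)) (tt N108092 D211312) (tt N93267 (iv7 F400207)))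
theorem Q73434 : ∀ i, i < 73434 → P i := stepQ 73433 Q73433 (allL N73433 (tt N108093 D211313) (tt N90299 (iv0 F389272)) (tt N40669 F224834) (tt N40689 F224835) (tt N95957 (iv4 F410426)) (tt N108094 D211314) (tt N40667 (iv6 D141820)) (tt N103074 (iv7 F439963)))
theorem Q73435 : ∀ i, i < 73435 → P i := stepQ 73434 Q73434 (allL N73434 (tt N93267 (iv1 F400208)) (tt N40668 (iv0 D141821)) (tt N72866 (iv2 F224842)) (tt N59507 F224836) (tt N59023 (iv4 F224837)) (tt N56735 (iv5 F224839)) (tt N58245 F370875) (tt N72862 F224838))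
theorem Q73436 : ∀ i, i < 73436 → P i := stepQ 73435 Q73435 (allL N73435 (tt N40668 (iv1 D141822)) (tt N93267 (iv0 F400209)) (tt N72862 (iv2 F224846)) (tt N108095 D211315) (tt N73216 F224849) (tt N56736 (iv5 F224847)) (tt N78462 (iv6 F350367)) (tt N72866 F224845))
theorem Q73437 : ∀ i, i < 73437 → P i := stepQ 73436 Q73436 (allL N73436 (tt N105033 (iv1 F448483)) (tt N96118 (iv0 F411132)) (tt N107693 (iv2 F459259)) (tt N94730 (iv3 F405707)) (tt N40668 (iv4 D141823)) (tt N53975 F357505) (tt N91694 (iv6 F394070)) (tt N93268 (iv7 F400213)))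
theorem Q73438 : ∀ i, i < 73438 → P i := stepQ 73437 Q73437 (allL N73437 (tt N108096 D211316) (tt N91699 (iv0 F394087)) (tt N108092 (iv2 F461075)) (tt N40670 F224851) (tt N91694 F394072) (tt N108097 D211317) (tt N40668 (iv6 D141824)) (tt N108098 D211318))
theorem Q73439 : ∀ i, i < 73439 → P i := stepQ 73438 Q73438 (allL N73438 (tt N103074 F439964) (tt N40669 (iv0 D141825)) (tt N108093 F461081) (tt N55374 F360817) (tt N53944 F385873) (tt N87317 (iv5 F379045)) (tt N53943 (iv6 F385874)) (tt N90299 (iv7 F389271)))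
theorem Q73440 : ∀ i, i < 73440 → P i := stepQ 73439 Q73439 (allL N73439 (tt N40669 (iv1 D141826)) (tt N103074 F439965) (tt N90299 F389274) (tt N108099 D211319) (tt N86336 F375861) (tt N108100 D211320) (tt N108101 D211321) (tt N108093 (iv7 F461083)))
theorem Q73441 : ∀ i, i < 73441 → P i := stepQ 73440 Q73440 (allL N73440 (tt N87331 (iv1 F394122)) (tt N86263 (iv0 F375621)) (tt N108094 (iv2 F461084)) (tt N40673 F224852) (tt N90575 (iv4 F390149)) (tt N40669 (iv5 D141827)) (tt N108097 (iv6 F461095)) (tt N108102 D211322))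
theorem Q73442 : ∀ i, i < 73442 → P i := stepQ 73441 Q73441 (allL N73441 (tt N90299 F389273) (tt N108093 F461082) (tt N103074 (iv2 F439960)) (tt N40674 F224853) (tt N95959 (iv4 F410437)) (tt N108102 (iv5 F461110)) (tt N91444 F393145) (tt N40669 (iv7 D141828)))
theorem Q73443 : ∀ i, i < 73443 → P i := stepQ 73442 Q73442 (allL N73442 (tt N40704 (iv1 F224858)) (tt N40670 (iv0 D141829)) (tt N40701 F406941) (tt N108103 D211323) (tt N58165 F406942) (tt N95252 (iv5 F407585)) (tt N96710 F413562) (tt N40702 F406943))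
theorem Q73444 : ∀ i, i < 73444 → P i := stepQ 73443 Q73443 (allL N73443 (tt N40670 (iv1 D141830)) (tt N40704 F224854) (tt N40702 F406944) (tt N99520 F424966) (tt N58166 F406945) (tt N95253 (iv5 F407578)) (tt N58281 F406946) (tt N40701 F406947))
theorem Q73445 : ∀ i, i < 73445 → P i := stepQ 73444 Q73444 (allL N73444 (tt N101536 F433286) (tt N107845 (iv0 F459970)) (tt N40703 F224855) (tt N108097 (iv3 F461094)) (tt N108104 D211324) (tt N40670 (iv5 D141831)) (tt N40673 F224856) (tt N108105 D211325))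
theorem Q73446 : ∀ i, i < 73446 → P i := stepQ 73445 Q73445 (allL N73445 (tt N40702 (iv1 F224859)) (tt N40701 F224860) (tt N40704 F224857) (tt N108098 (iv3 F461096)) (tt N77092 (iv4 F331088)) (tt N108105 (iv5 F461123)) (tt N85655 (iv6 F373415)) (tt N40670 (iv7 D141832)))
theorem Q73447 : ∀ i, i < 73447 → P i := stepQ 73446 Q73446 (allL N73446 (tt N91325 F392746) (tt N99467 (iv0 F424716)) (tt N108106 D211326) (tt N40671 (iv3 D141833)) (tt N66537 F224861) (tt N108107 D211327) (tt N74636 F342475) (tt N40709 F224862))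
theorem Q73448 : ∀ i, i < 73448 → P i := stepQ 73447 Q73447 (allL N73447 (tt N64960 (iv1 F341383)) (tt N57736 F224865) (tt N40707 F224863) (tt N108107 (iv3 F461134)) (tt N108108 D211328) (tt N40671 (iv5 D141834)) (tt N107867 (iv6 F460054)) (tt N40711 F224864))
theorem Q73449 : ∀ i, i < 73449 → P i := stepQ 73448 Q73448 (allL N73448 (tt N90316 (iv1 F389330)) (tt N88147 (iv0 F381924)) (tt N81987 (iv2 F360081)) (tt N40672 (iv3 D141835)) (tt N98791 (iv4 F422331)) (tt N79433 (iv5 F360037)) (tt N78141 (iv6 F246258)) (tt N40705 F224866))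
theorem Q73450 : ∀ i, i < 73450 → P i := stepQ 73449 Q73449 (allL N73449 (tt N57736 F224869) (tt N64960 (iv0 F341382)) (tt N40711 F224867) (tt N79433 (iv3 F343772)) (tt N108109 D211329) (tt N40672 (iv5 D141836)) (tt N59557 F343771) (tt N40707 F224868))
theorem Q73451 : ∀ i, i < 73451 → P i := stepQ 73450 Q73450 (allL N73450 (tt N40716 (iv1 F224873)) (tt N40673 (iv0 D141837)) (tt N40713 (iv2 F224871)) (tt N108110 D211330) (tt N108111 D211331) (tt N44308 F224870) (tt N88145 F381925) (tt N40714 (iv7 F224872)))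
theorem Q73452 : ∀ i, i < 73452 → P i := stepQ 73451 Q73451 (allL N73451 (tt N40673 (iv1 D141838)) (tt N40716 F224874) (tt N40714 (iv2 F224877)) (tt N88144 F381919) (tt N96788 (iv4 F413947)) (tt N44307 F224876) (tt N96787 (iv6 F413942)) (tt N40713 F224875))
theorem Q73453 : ∀ i, i < 73453 → P i := stepQ 73452 Q73452 (allL N73452 (tt N108112 D211332) (tt N108113 D211333) (tt N40715 F224878) (tt N108114 D211334) (tt N40673 (iv4 D141839)) (tt N107133 (iv5 F457132)) (tt N108104 (iv6 F461119)) (tt N107132 (iv7 F457126)))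
theorem Q73454 : ∀ i, i < 73454 → P i := stepQ 73453 Q73453 (allL N73453 (tt N40714 (iv1 F224881)) (tt N40713 F224882) (tt N40716 F224879) (tt N108102 (iv3 F461109)) (tt N107132 (iv4 F457125)) (tt N40674 F224880) (tt N108115 D211335) (tt N40673 (iv7 D141840)))
theorem Q73455 : ∀ i, i < 73455 → P i := stepQ 73454 Q73454 (allL N73454 (tt N107674 (iv1 F459181)) (tt N70135 (iv0 F366275)) (tt N107672 F459169) (tt N40675 (iv3 D141841)) (tt N102644 (iv4 F438018)) (tt N108116 D211336) (tt N107887 (iv6 F460129)) (tt N40721 F224883))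
theorem Q73456 : ∀ i, i < 73456 → P i := stepQ 73455 Q73455 (allL N73455 (tt N64994 (iv1 F343800)) (tt N70211 F224886) (tt N40719 F224884) (tt N108116 (iv3 F461175)) (tt N101594 (iv4 F433483)) (tt N40675 (iv5 D141842)) (tt N108117 D211337) (tt N40722 F224885))
theorem Q73457 : ∀ i, i < 73457 → P i := stepQ 73456 Q73456 (allL N73456 (tt N93325 (iv1 F400408)) (tt N93335 F400458) (tt N93333 F400448) (tt N40676 (iv3 D141843)) (tt N59156 F224887) (tt N108118 D211338) (tt N78146 (iv6 F246278)) (tt N40718 F224888))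
theorem Q73458 : ∀ i, i < 73458 → P i := stepQ 73457 Q73457 (allL N73457 (tt N70211 F224891) (tt N64994 (iv0 F343791)) (tt N40722 F224889) (tt N108118 (iv3 F461180)) (tt N101593 (iv4 F433476)) (tt N40676 (iv5 D141844)) (tt N58029 (iv6 F343792)) (tt N40719 F224890))
theorem Q73459 : ∀ i, i < 73459 → P i := stepQ 73458 Q73458 (allL N73458 (tt N108119 D211339) (tt N62033 F360819) (tt N61798 F360818) (tt N93754 (iv3 F401779)) (tt N40677 (iv4 D141846)) (tt N61801 F422427) (tt N108120 D211340) (tt N93778 (iv7 F401864)))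
theorem Q73460 : ∀ i, i < 73460 → P i := stepQ 73459 Q73459 (allL N73459 (tt N72962 F345314) (tt N40698 F345315) (tt N72964 (iv2 F360796)) (tt N93755 (iv3 F401784)) (tt N101282 (iv4 F432516)) (tt N40677 (iv5 D141847)) (tt N98312 (iv6 F420457)) (tt N72963 F349731))
theorem Q73461 : ∀ i, i < 73461 → P i := stepQ 73460 Q73460 (allL N73460 (tt N99117 (iv1 F423401)) (tt N93274 (iv0 F400253)) (tt N99463 (iv2 F424692)) (tt N93756 (iv3 F401791)) (tt N108120 (iv4 F461192)) (tt N108121 D211341) (tt N40677 (iv6 D141848)) (tt N99477 (iv7 F424760)))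
theorem Q73462 : ∀ i, i < 73462 → P i := stepQ 73461 Q73461 (allL N73461 (tt N62033 F345485) (tt N108119 F461187) (tt N93778 (iv2 F401862)) (tt N61802 (iv3 F345478)) (tt N40678 (iv4 D141851)) (tt N108122 D211342) (tt N90314 (iv6 F389325)) (tt N61798 F349724))
theorem Q73463 : ∀ i, i < 73463 → P i := stepQ 73462 Q73462 (allL N73462 (tt N40698 F360792) (tt N72962 F360793) (tt N72963 F349728) (tt N90317 (iv3 F389332)) (tt N96301 (iv4 F411920)) (tt N40678 (iv5 D141852)) (tt N108123 D211343) (tt N72964 F349725))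
theorem Q73464 : ∀ i, i < 73464 → P i := stepQ 73463 Q73463 (allL N73463 (tt N93265 F400197) (tt N71891 (iv0 F224900)) (tt N102768 (iv2 F438559)) (tt N40680 (iv3 D141855)) (tt N70118 F224899) (tt N98211 (iv5 F420010)) (tt N108124 D211344) (tt N99465 (iv7 F424703)))
theorem Q73465 : ∀ i, i < 73465 → P i := stepQ 73464 Q73464 (allL N73464 (tt N71836 F224901) (tt N61256 (iv0 F339990)) (tt N73666 F340498) (tt N88246 (iv3 F382331)) (tt N40680 (iv4 D141856)) (tt N88241 F382317) (tt N90658 F390436) (tt N73665 (iv7 F340500)))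
theorem Q73466 : ∀ i, i < 73466 → P i := stepQ 73465 Q73465 (allL N73465 (tt N108106 (iv1 F461132)) (tt N40709 F390437) (tt N99467 (iv2 F424714)) (tt N108124 (iv3 F461214)) (tt N90658 F390438) (tt N108125 D211345) (tt N40680 (iv6 D141858)) (tt N91325 (iv7 F392745)))
theorem Q73467 : ∀ i, i < 73467 → P i := stepQ 73466 Q73466 (allL N73466 (tt N93762 F401811) (tt N40685 (iv0 F224905)) (tt N99468 F424720) (tt N40681 (iv3 D141860)) (tt N92319 (iv4 F396686)) (tt N98209 (iv5 F419999)) (tt N92318 F396684) (tt N99466 (iv7 F424710)))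
theorem Q73468 : ∀ i, i < 73468 → P i := stepQ 73467 Q73467 (allL N73467 (tt N61256 (iv1 F339991)) (tt N71836 (iv0 F224906)) (tt N73665 F340507) (tt N59770 (iv3 F347195)) (tt N40681 (iv4 D141861)) (tt N92201 (iv5 F396219)) (tt N59768 F347200) (tt N73666 F340499))
theorem Q73469 : ∀ i, i < 73469 → P i := stepQ 73468 Q73468 (allL N73468 (tt N105446 (iv1 F450298)) (tt N74638 (iv0 F340482)) (tt N40683 F224908) (tt N70241 F345307) (tt N60247 (iv4 F331493)) (tt N70238 F345303) (tt N40682 (iv6 D141864)) (tt N73471 (iv7 F345305)))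
theorem Q73470 : ∀ i, i < 73470 → P i := stepQ 73469 Q73469 (allL N73469 (tt N73471 (iv1 F345306)) (tt N40683 (iv0 D141865)) (tt N105446 F450301) (tt N108126 D211346) (tt N97357 (iv4 F416474)) (tt N90594 F401482) (tt N108127 D211347) (tt N74638 F345309))
theorem Q73471 : ∀ i, i < 73471 → P i := stepQ 73470 Q73470 (allL N73470 (tt N40683 (iv1 D141866)) (tt N73471 F345308) (tt N74638 F339996) (tt N108128 D211348) (tt N97358 (iv4 F416482)) (tt N90597 F398665) (tt N57239 (iv6 F339995)) (tt N105446 (iv7 F450299)))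
theorem Q73472 : ∀ i, i < 73472 → P i := stepQ 73471 Q73471 (allL N73471 (tt N73470 (iv1 F345308)) (tt N73469 F345306) (tt N70238 (iv2 F345301)) (tt N40684 F224909) (tt N62613 F345302) (tt N40683 (iv5 D141867)) (tt N70225 F345304) (tt N73468 F345305))
theorem Q73473 : ∀ i, i < 73473 → P i := stepQ 73472 Q73472 (allL N73472 (tt N62335 (iv1 F345291)) (tt N40684 (iv0 D141868)) (tt N99464 F424699) (tt N54158 (iv3 F351883)) (tt N107679 (iv4 F459200)) (tt N62568 F224910) (tt N97027 F415100) (tt N74013 (iv7 F226581)))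
theorem Q73474 : ∀ i, i < 73474 → P i := stepQ 73473 Q73473 (allL N73473 (tt N40684 (iv1 D141869)) (tt N62335 (iv0 F345290)) (tt N74013 (iv2 F226580)) (tt N108129 D211349) (tt N107680 (iv4 F459205)) (tt N72853 (iv5 F224911)) (tt N96417 F412435) (tt N99464 (iv7 F424701)))
theorem Q73475 : ∀ i, i < 73475 → P i := stepQ 73474 Q73474 (allL N73474 (tt N108130 D211350) (tt N108131 D211351) (tt N71563 (iv2 F345299)) (tt N93627 (iv3 F401333)) (tt N40684 (iv4 D141870)) (tt N93626 F401331) (tt N71561 F345300) (tt N105447 (iv7 F450305)))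
theorem Q73476 : ∀ i, i < 73476 → P i := stepQ 73475 Q73475 (allL N73475 (tt N40685 (iv1 D141871)) (tt N93762 F401812) (tt N99466 (iv2 F424713)) (tt N102768 (iv3 F438560)) (tt N92311 (iv4 F396676)) (tt N108132 D211352) (tt N108133 D211353) (tt N99468 (iv7 F424719)))
theorem Q73477 : ∀ i, i < 73477 → P i := stepQ 73476 Q73476 (allL N73476 (tt N99468 (iv1 F424718)) (tt N99466 (iv0 F424711)) (tt N40685 (iv2 D141872)) (tt N85236 (iv3 F371987)) (tt N55943 (iv4 F224917)) (tt N85235 F371985) (tt N89767 (iv6 F387485)) (tt N93762 (iv7 F401810)))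
theorem Q73478 : ∀ i, i < 73478 → P i := stepQ 73477 Q73477 (allL N73477 (tt N55860 F224914) (tt N55945 (iv0 F224915)) (tt N55943 F224916) (tt N40896 F224912) (tt N40685 (iv4 D141873)) (tt N105047 (iv5 F448551)) (tt N94191 (iv6 F403640)) (tt N55944 F224913))
theorem Q73479 : ∀ i, i < 73479 → P i := stepQ 73478 Q73478 (allL N73478 (tt N90253 F389190) (tt N93817 (iv0 F425112)) (tt N93763 (iv2 F401813)) (tt N40687 F224919) (tt N99551 (iv4 F425108)) (tt N94511 (iv5 F404774)) (tt N40686 (iv6 D141879)) (tt N107217 (iv7 F457490)))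
theorem Q73480 : ∀ i, i < 73480 → P i := stepQ 73479 Q73479 (allL N73479 (tt N40687 (iv1 D141881)) (tt N65270 (iv0 F351570)) (tt N41067 F350157) (tt N107681 (iv3 F459209)) (tt N40734 F350158) (tt N76921 F338944) (tt N74704 F351573) (tt N78320 F350159))
theorem Q73481 : ∀ i, i < 73481 → P i := stepQ 73480 Q73480 (allL N73480 (tt N54158 F338945) (tt N54151 F338946) (tt N78356 F338940) (tt N94511 (iv3 F404772)) (tt N76922 (iv4 F338939)) (tt N40687 (iv5 D141882)) (tt N94510 F404771) (tt N78360 F338942))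
theorem Q73482 : ∀ i, i < 73482 → P i := stepQ 73481 Q73481 (allL N73481 (tt N50622 F331063) (tt N50621 F331064) (tt N40692 F224920) (tt N108134 D211354) (tt N40688 (iv4 D141884)) (tt N85538 (iv5 F372998)) (tt N64723 (iv6 F359726)) (tt N48899 F331065))
theorem Q73483 : ∀ i, i < 73483 → P i := stepQ 73482 Q73482 (allL N73482 (tt N85659 (iv1 F373425)) (tt N85658 F373424) (tt N40693 F224923) (tt N108092 (iv3 F461076)) (tt N64723 (iv4 F359725)) (tt N108135 D211355) (tt N40688 (iv6 D141885)) (tt N85636 (iv7 F373300)))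
theorem Q73484 : ∀ i, i < 73484 → P i := stepQ 73483 Q73483 (allL N73483 (tt N40697 (iv1 F224928)) (tt N40689 (iv0 D141886)) (tt N40694 F321328) (tt N90303 F389279) (tt N40880 (iv4 F224930)) (tt N108136 D211356) (tt N107841 (iv6 F459953)) (tt N40695 F321329))
theorem Q73485 : ∀ i, i < 73485 → P i := stepQ 73484 Q73484 (allL N73484 (tt N40689 (iv1 D141887)) (tt N40697 F224924) (tt N40695 F321330) (tt N108137 D211357) (tt N75504 F319313) (tt N108138 D211358) (tt N75503 F319314) (tt N40694 F321331))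
theorem Q73486 : ∀ i, i < 73486 → P i := stepQ 73485 Q73485 (allL N73485 (tt N87332 (iv1 F379060)) (tt N77484 (iv0 F366266)) (tt N40696 F224925) (tt N108094 (iv3 F461085)) (tt N88143 (iv4 F381915)) (tt N40689 (iv5 D141888)) (tt N108135 (iv6 F461255)) (tt N103075 (iv7 F439968)))
theorem Q73487 : ∀ i, i < 73487 → P i := stepQ 73486 Q73486 (allL N73486 (tt N98209 F420001) (tt N108132 (iv0 F461248)) (tt N108139 D211359) (tt N40690 (iv3 D141890)) (tt N107068 (iv4 F456843)) (tt N62192 F224932) (tt N107739 (iv6 F459484)) (tt N72979 F224933))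
theorem Q73488 : ∀ i, i < 73488 → P i := stepQ 73487 Q73487 (allL N73487 (tt N48885 F358552) (tt N91730 F394220) (tt N72990 F224934) (tt N95976 (iv3 F410496)) (tt N40690 (iv4 D141891)) (tt N98218 (iv5 F420032)) (tt N95973 (iv6 F410491)) (tt N72983 F224935))
theorem Q73489 : ∀ i, i < 73489 → P i := stepQ 73488 Q73488 (allL N73488 (tt N93768 F401838) (tt N93755 (iv0 F401787)) (tt N93765 F401818) (tt N40691 (iv3 D141893)) (tt N108140 D211360) (tt N62195 F224937) (tt N108141 D211361) (tt N72988 F224938))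
theorem Q73490 : ∀ i, i < 73490 → P i := stepQ 73489 Q73489 (allL N73489 (tt N91730 (iv1 F394221)) (tt N48885 F358551) (tt N72983 F224939) (tt N89774 (iv3 F387530)) (tt N40691 (iv4 D141894)) (tt N108142 D211362) (tt N108143 D211363) (tt N72990 F224940))
theorem Q73491 : ∀ i, i < 73491 → P i := stepQ 73490 Q73490 (allL N73490 (tt N78431 F380481) (tt N108144 D211364) (tt N72984 F224941) (tt N108141 (iv3 F461281)) (tt N108143 (iv4 F461288)) (tt N82507 F364846) (tt N40691 (iv6 D141895)) (tt N107745 (iv7 F459520)))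
theorem Q73492 : ∀ i, i < 73492 → P i := stepQ 73491 Q73491 (allL N73491 (tt N48899 F331066) (tt N40692 (iv0 D141896)) (tt N50622 (iv2 F331058)) (tt N108145 D211365) (tt N62227 F224942) (tt N86316 (iv5 F375806)) (tt N102798 (iv6 F438688)) (tt N50621 (iv7 F331057)))
theorem Q73493 : ∀ i, i < 73493 → P i := stepQ 73492 Q73492 (allL N73492 (tt N40692 (iv1 D141897)) (tt N48899 F331067) (tt N50621 (iv2 F331055)) (tt N59629 F224948) (tt N62236 (iv4 F224946)) (tt N70281 F332714) (tt N70283 (iv6 F332718)) (tt N50622 (iv7 F331060)))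
theorem Q73494 : ∀ i, i < 73494 → P i := stepQ 73493 Q73493 (allL N73493 (tt N85636 (iv1 F373302)) (tt N40693 (iv0 D141900)) (tt N85659 (iv2 F387644)) (tt N108146 D211366) (tt N91428 (iv4 F393091)) (tt N108147 D211367) (tt N101740 (iv6 F434119)) (tt N85658 (iv7 F387645)))
theorem Q73495 : ∀ i, i < 73495 → P i := stepQ 73494 Q73494 (allL N73494 (tt N40693 (iv1 D141901)) (tt N85636 F373301) (tt N85658 F387640) (tt N50457 F387641) (tt N91427 (iv4 F393079)) (tt N108148 D211368) (tt N50456 F387642) (tt N85659 F387643))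
theorem Q73496 : ∀ i, i < 73496 → P i := stepQ 73495 Q73495 (allL N73495 (tt N108149 D211369) (tt N108150 D211370) (tt N108135 (iv2 F461254)) (tt N40703 F224950) (tt N108151 D211371) (tt N40693 (iv5 D141902)) (tt N40696 F224951) (tt N85660 (iv7 F373433)))
theorem Q73497 : ∀ i, i < 73497 → P i := stepQ 73496 Q73496 (allL N73496 (tt N108152 D211372) (tt N108133 (iv0 F498634)) (tt N108153 D211374) (tt N40694 (iv3 D141905)) (tt N108154 D211375) (tt N108155 D211376) (tt N108156 D211377) (tt N108137 (iv7 F461264)))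
theorem Q73498 : ∀ i, i < 73498 → P i := stepQ 73497 Q73497 (allL N73497 (tt N108157 D211378) (tt N76176 (iv0 F351591)) (tt N108136 (iv2 F461256)) (tt N108155 (iv3 F461326)) (tt N87281 F378966) (tt N40694 (iv5 D141907)) (tt N87280 (iv6 F378968)) (tt N108138 (iv7 F461267)))
theorem Q73499 : ∀ i, i < 73499 → P i := stepQ 73498 Q73498 (allL N73498 (tt N74704 F351588) (tt N74711 F351589) (tt N107841 (iv2 F459948)) (tt N108156 (iv3 F461327)) (tt N41560 F351590) (tt N107825 (iv5 F459872)) (tt N40694 (iv6 D141908)) (tt N107840 (iv7 F459944)))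
theorem Q73500 : ∀ i, i < 73500 → P i := stepQ 73499 Q73499 (allL N73499 (tt N90214 F388932) (tt N90304 F389288) (tt N90302 F389282) (tt N40695 (iv3 D141910)) (tt N108158 D211379) (tt N108159 D211380) (tt N81981 F356034) (tt N90303 (iv7 F389281)))
theorem Q73501 : ∀ i, i < 73501 → P i := stepQ 73500 Q73500 (allL N73500 (tt N76176 F353408) (tt N108157 F461333) (tt N108138 (iv2 F461265)) (tt N108159 (iv3 F461339)) (tt N108160 D211381) (tt N40695 (iv5 D141912)) (tt N108161 D211382) (tt N108136 (iv7 F461259)))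
theorem Q73502 : ∀ i, i < 73502 → P i := stepQ 73501 Q73501 (allL N73501 (tt N42919 F322937) (tt N78136 (iv0 F353407)) (tt N75503 F322938) (tt N81981 (iv3 F356033)) (tt N65284 F322939) (tt N108162 D211383) (tt N40695 (iv6 D141913)) (tt N75501 F322940))
theorem Q73503 : ∀ i, i < 73503 → P i := stepQ 73502 Q73502 (allL N73502 (tt N103075 (iv1 F439970)) (tt N40696 (iv0 D141914)) (tt N87332 (iv2 F379055)) (tt N108163 D211384) (tt N52439 (iv4 F366254)) (tt N77485 F366252) (tt N51967 F366255) (tt N77484 (iv7 F366253)))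
theorem Q73504 : ∀ i, i < 73504 → P i := stepQ 73503 Q73503 (allL N73503 (tt N40696 (iv1 D141915)) (tt N103075 (iv0 F439969)) (tt N77484 F322941) (tt N108164 D211385) (tt N87334 (iv4 F379061)) (tt N43541 F322942) (tt N108165 D211386) (tt N87332 (iv7 F379058)))
theorem Q73505 : ∀ i, i < 73505 → P i := stepQ 73504 Q73504 (allL N73504 (tt N51965 F359853) (tt N55500 F359854) (tt N88143 (iv2 F381917)) (tt N59785 (iv3 F344638)) (tt N40696 (iv4 D141916)) (tt N59782 F344637) (tt N108151 (iv6 F461311)) (tt N88142 F381910))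
theorem Q73506 : ∀ i, i < 73506 → P i := stepQ 73505 Q73505 (allL N73505 (tt N77484 F321275) (tt N87332 (iv0 F379059)) (tt N103075 (iv2 F439966)) (tt N40716 F224956) (tt N88142 (iv4 F381908)) (tt N40697 F224957) (tt N108166 D211387) (tt N40696 (iv7 D141917)))
theorem Q73507 : ∀ i, i < 73507 → P i := stepQ 73506 Q73506 (allL N73506 (tt N72964 (iv1 F224964)) (tt N72963 F224962) (tt N40698 (iv2 D141920)) (tt N72971 F224959) (tt N101113 (iv4 F431740)) (tt N62186 F224960) (tt N58297 (iv6 F345331)) (tt N72962 F224961))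
theorem Q73508 : ∀ i, i < 73508 → P i := stepQ 73507 Q73507 (allL N73507 (tt N100985 (iv1 F431158)) (tt N88968 (iv0 F406059)) (tt N101113 (iv2 F431739)) (tt N94832 (iv3 F406085)) (tt N40698 (iv4 D141921)) (tt N64375 (iv5 F355556)) (tt N94817 (iv6 F406057)) (tt N72965 F224965))
theorem Q73509 : ∀ i, i < 73509 → P i := stepQ 73508 Q73508 (allL N73508 (tt N66778 (iv1 F331563)) (tt N66772 (iv0 F339984)) (tt N40699 (iv2 D141929)) (tt N72962 F224976) (tt N61303 F339989) (tt N62190 F224977) (tt N108167 D211388) (tt N72971 F224978))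
theorem Q73510 : ∀ i, i < 73510 → P i := stepQ 73509 Q73509 (allL N73509 (tt N82867 F341313) (tt N108168 D211389) (tt N108167 (iv2 F461366)) (tt N40700 F224983) (tt N98611 (iv4 F421575)) (tt N48329 F341314) (tt N40699 (iv6 D141931)) (tt N78463 F341315))
theorem Q73511 : ∀ i, i < 73511 → P i := stepQ 73510 Q73510 (allL N73510 (tt N108169 D211390) (tt N108123 (iv0 F461212)) (tt N99518 (iv2 F424957)) (tt N40701 (iv3 D141937)) (tt N63993 (iv4 F363284)) (tt N108109 (iv5 F461148)) (tt N63992 F363283) (tt N99520 (iv7 F424965)))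
theorem Q73512 : ∀ i, i < 73512 → P i := stepQ 73511 Q73511 (allL N73511 (tt N58168 F406932) (tt N57897 F406933) (tt N58165 F406930) (tt N108170 D211391) (tt N40701 (iv4 D141938)) (tt N108171 D211392) (tt N108172 D211393) (tt N58166 F406931))
theorem Q73513 : ∀ i, i < 73513 → P i := stepQ 73512 Q73512 (allL N73512 (tt N95255 (iv1 F407591)) (tt N94777 (iv0 F405890)) (tt N95252 F407584) (tt N108109 (iv3 F461147)) (tt N95666 F409047) (tt N40701 (iv5 D141939)) (tt N94900 (iv6 F409048)) (tt N95253 F407581))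
theorem Q73514 : ∀ i, i < 73514 → P i := stepQ 73513 Q73513 (allL N73513 (tt N48315 F367938) (tt N96398 (iv0 F412337)) (tt N96710 (iv2 F413563)) (tt N63992 (iv3 F363282)) (tt N108172 (iv4 F461389)) (tt N64861 F363279) (tt N40701 (iv6 D141940)) (tt N96711 (iv7 F413566)))
theorem Q73515 : ∀ i, i < 73515 → P i := stepQ 73514 Q73514 (allL N73514 (tt N97827 F418437) (tt N97828 (iv0 F418440)) (tt N60921 F362689) (tt N40702 (iv3 D141942)) (tt N55739 F362690) (tt N108173 D211394) (tt N56154 (iv6 F362685)) (tt N108103 (iv7 F461115)))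
theorem Q73516 : ∀ i, i < 73516 → P i := stepQ 73515 Q73515 (allL N73515 (tt N57897 F405619) (tt N58168 F405620) (tt N58166 F406927) (tt N85100 (iv3 F371629)) (tt N40702 (iv4 D141943)) (tt N92917 F398757) (tt N85099 F371627) (tt N58165 F406928))
theorem Q73517 : ∀ i, i < 73517 → P i := stepQ 73516 Q73516 (allL N73516 (tt N94777 (iv1 F405889)) (tt N95255 F407590) (tt N95253 F407580) (tt N108173 (iv3 F461393)) (tt N107867 F460057) (tt N40702 (iv5 D141944)) (tt N108108 (iv6 F461140)) (tt N95252 (iv7 F407586)))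
theorem Q73518 : ∀ i, i < 73518 → P i := stepQ 73517 Q73517 (allL N73517 (tt N58284 F362682) (tt N50478 F362683) (tt N58281 F362687) (tt N56154 F362684) (tt N85099 (iv4 F371625)) (tt N66579 (iv5 F362680)) (tt N40702 (iv6 D141945)) (tt N58282 (iv7 F362686)))
theorem Q73519 : ∀ i, i < 73519 → P i := stepQ 73518 Q73518 (allL N73518 (tt N108105 (iv1 F461125)) (tt N40703 (iv0 D141946)) (tt N101536 (iv2 F433282)) (tt N96788 (iv3 F413946)) (tt N79430 F362692) (tt N58327 (iv5 F363342)) (tt N63879 (iv6 F362691)) (tt N107845 (iv7 F459969)))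
theorem Q73520 : ∀ i, i < 73520 → P i := stepQ 73519 Q73519 (allL N73519 (tt N40703 (iv1 D141947)) (tt N108105 F461124) (tt N107845 (iv2 F459967)) (tt N108174 D211395) (tt N108175 D211396) (tt N58326 F363351) (tt N108175 F461400) (tt N101536 F433287))
theorem Q73521 : ∀ i, i < 73521 → P i := stepQ 73520 Q73520 (allL N73520 (tt N64156 F405896) (tt N108176 D211397) (tt N108104 (iv2 F461118)) (tt N108177 D211398) (tt N40703 (iv4 D141948)) (tt N108178 D211399) (tt N40715 F224994) (tt N108179 D211400))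
theorem Q73522 : ∀ i, i < 73522 → P i := stepQ 73521 Q73521 (allL N73521 (tt N107845 F459971) (tt N101536 (iv0 F433285)) (tt N108105 (iv2 F461122)) (tt N85660 (iv3 F373432)) (tt N108179 (iv4 F461410)) (tt N40704 F224995) (tt N108180 D211401) (tt N40703 (iv7 D141949)))
theorem Q73523 : ∀ i, i < 73523 → P i := stepQ 73522 Q73522 (allL N73522 (tt N81987 (iv1 F360084)) (tt N40705 (iv0 D141950)) (tt N88147 (iv2 F381928)) (tt N90304 (iv3 F389283)) (tt N108181 D211402) (tt N88146 F381929) (tt N99477 F424761) (tt N90316 (iv7 F389329)))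
theorem Q73524 : ∀ i, i < 73524 → P i := stepQ 73523 Q73523 (allL N73523 (tt N88147 (iv1 F381926)) (tt N90316 F389331) (tt N40705 (iv2 D141952)) (tt N108106 (iv3 F461128)) (tt N99120 (iv4 F423408)) (tt N108182 D211403) (tt N108183 D211404) (tt N81987 F360083))
theorem Q73525 : ∀ i, i < 73525 → P i := stepQ 73524 Q73524 (allL N73524 (tt N108184 D211405) (tt N108185 D211406) (tt N108182 (iv2 F461418)) (tt N40707 F224996) (tt N108186 D211407) (tt N40705 (iv5 D141953)) (tt N108186 F461439) (tt N79433 F360079))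
theorem Q73526 : ∀ i, i < 73526 → P i := stepQ 73525 Q73525 (allL N73525 (tt N108187 D211408) (tt N108188 D211409) (tt N108183 (iv2 F461421)) (tt N40708 F224997) (tt N99032 (iv4 F461442)) (tt N107719 (iv5 F459379)) (tt N40705 (iv6 D141954)) (tt N81988 (iv7 F360031)))
theorem Q73527 : ∀ i, i < 73527 → P i := stepQ 73526 Q73526 (allL N73526 (tt N65927 F225001) (tt N65925 (iv0 F225002)) (tt N66536 F224998) (tt N95941 (iv3 F410363)) (tt N40708 F224999) (tt N58083 F225000) (tt N40706 (iv6 D141955)) (tt N97074 (iv7 F415343)))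
theorem Q73528 : ∀ i, i < 73528 → P i := stepQ 73527 Q73527 (allL N73527 (tt N64966 (iv1 F362809)) (tt N78072 (iv0 F343808)) (tt N108108 (iv2 F461139)) (tt N95253 F407579) (tt N40707 (iv4 D141957)) (tt N99520 (iv5 F424964)) (tt N95253 F407582) (tt N108109 (iv7 F461150)))
theorem Q73529 : ∀ i, i < 73529 → P i := stepQ 73528 Q73528 (allL N73528 (tt N94881 (iv1 F413117)) (tt N93593 (iv0 F459387)) (tt N107867 (iv2 F460052)) (tt N108186 (iv3 F461436)) (tt N95253 (iv4 F407583)) (tt N107721 (iv5 F459385)) (tt N40707 (iv6 D141958)) (tt N95666 (iv7 F409046)))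
theorem Q73530 : ∀ i, i < 73530 → P i := stepQ 73529 Q73529 (allL N73529 (tt N40709 (iv1 D141960)) (tt N108106 F461133) (tt N91325 (iv2 F392743)) (tt N108152 F461322) (tt N71058 (iv4 F382002)) (tt N108189 D211410) (tt N57011 F382003) (tt N99467 (iv7 F424715)))
theorem Q73531 : ∀ i, i < 73531 → P i := stepQ 73530 Q73530 (allL N73530 (tt N99467 (iv1 F424717)) (tt N91325 F392748) (tt N40709 (iv2 D141961)) (tt N81987 F360082) (tt N103205 F440567) (tt N108190 D211411) (tt N81986 (iv6 F360086)) (tt N108106 (iv7 F461131)))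
theorem Q73532 : ∀ i, i < 73532 → P i := stepQ 73531 Q73531 (allL N73531 (tt N108191 D211412) (tt N108192 D211413) (tt N108190 (iv2 F461454)) (tt N40711 F225007) (tt N108193 D211414) (tt N40709 (iv5 D141962)) (tt N108194 D211415) (tt N108107 (iv7 F461136)))
theorem Q73533 : ∀ i, i < 73533 → P i := stepQ 73532 Q73532 (allL N73532 (tt N91369 F404513) (tt N105437 (iv0 F450270)) (tt N81986 (iv2 F360080)) (tt N40712 F225008) (tt N94446 (iv4 F404511)) (tt N103352 F441236) (tt N40709 (iv6 D141963)) (tt N78142 (iv7 F246262)))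
theorem Q73534 : ∀ i, i < 73534 → P i := stepQ 73533 Q73533 (allL N73533 (tt N78072 (iv1 F343809)) (tt N64966 (iv0 F343834)) (tt N108109 (iv2 F461146)) (tt N108195 D211416) (tt N40711 (iv4 D141964)) (tt N99518 (iv5 F424961)) (tt N94899 F406269) (tt N108108 (iv7 F461141)))
theorem Q73535 : ∀ i, i < 73535 → P i := stepQ 73534 Q73534 (allL N73534 (tt N94906 (iv1 F406287)) (tt N93255 (iv0 F400150)) (tt N59557 (iv2 F343769)) (tt N108194 (iv3 F461467)) (tt N94899 (iv4 F406268)) (tt N59362 F343768) (tt N40711 (iv6 D141965)) (tt N59560 (iv7 F343770)))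
theorem Q73536 : ∀ i, i < 73536 → P i := stepQ 73535 Q73535 (allL N73535 (tt N88146 (iv1 F381933)) (tt N88148 (iv0 F381932)) (tt N88145 F404750) (tt N40713 (iv3 D141967)) (tt N108196 D211417) (tt N90348 F389402) (tt N40713 F404751) (tt N88144 (iv7 F381920)))
theorem Q73537 : ∀ i, i < 73537 → P i := stepQ 73536 Q73536 (allL N73536 (tt N87272 F378946) (tt N105363 (iv0 F449895)) (tt N108111 (iv2 F461155)) (tt N107845 (iv3 F459968)) (tt N40713 (iv4 D141968)) (tt N94503 F404736) (tt N108196 (iv6 F461472)) (tt N96788 F413949))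
theorem Q73538 : ∀ i, i < 73538 → P i := stepQ 73537 Q73537 (allL N73537 (tt N108125 (iv1 F461217)) (tt N108189 (iv0 F461453)) (tt N108197 D211418) (tt N40714 (iv3 D141970)) (tt N108198 D211419) (tt N90763 (iv5 F390771)) (tt N108199 D211420) (tt N108110 (iv7 F461154)))
theorem Q73539 : ∀ i, i < 73539 → P i := stepQ 73538 Q73538 (allL N73538 (tt N105363 (iv1 F449896)) (tt N87272 F378947) (tt N96788 (iv2 F413945)) (tt N108200 D211421) (tt N40714 (iv4 D141971)) (tt N94502 (iv5 F404728)) (tt N58035 (iv6 F362796)) (tt N108111 (iv7 F461157)))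
theorem Q73540 : ∀ i, i < 73540 → P i := stepQ 73539 Q73539 (allL N73539 (tt N59555 (iv1 F362791)) (tt N64971 (iv0 F362798)) (tt N96787 (iv2 F413936)) (tt N108199 (iv3 F461476)) (tt N58035 F362795) (tt N104130 (iv5 F444336)) (tt N40714 (iv6 D141972)) (tt N108201 D211422))
theorem Q73541 : ∀ i, i < 73541 → P i := stepQ 73540 Q73540 (allL N73540 (tt N107132 (iv1 F457128)) (tt N40715 (iv0 D141973)) (tt N108112 F461162) (tt N108202 D211423) (tt N93312 F400353) (tt N94651 (iv5 F405375)) (tt N108203 D211424) (tt N108113 (iv7 F461165)))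
theorem Q73542 : ∀ i, i < 73542 → P i := stepQ 73541 Q73541 (allL N73541 (tt N40715 (iv1 D141974)) (tt N107132 (iv0 F457127)) (tt N108113 F461168) (tt N108204 D211425) (tt N93313 F400358) (tt N94650 (iv5 F405369)) (tt N58025 (iv6 F405370)) (tt N108112 F461163))
theorem Q73543 : ∀ i, i < 73543 → P i := stepQ 73542 Q73542 (allL N73542 (tt N108205 D211426) (tt N79810 F409388) (tt N95358 (iv2 F407984)) (tt N40715 (iv3 D141975)) (tt N59785 F344639) (tt N106482 (iv5 F454618)) (tt N108177 (iv6 F461407)) (tt N95500 (iv7 F408378)))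
theorem Q73544 : ∀ i, i < 73544 → P i := stepQ 73543 Q73543 (allL N73543 (tt N99533 (iv1 F425018)) (tt N99530 (iv0 F425002)) (tt N107133 (iv2 F457129)) (tt N106482 (iv3 F454619)) (tt N96189 (iv4 F411406)) (tt N40715 (iv5 D141976)) (tt N107514 F458612) (tt N96188 F411403))
theorem Q73545 : ∀ i, i < 73545 → P i := stepQ 73544 Q73544 (allL N73544 (tt N108113 (iv1 F461164)) (tt N108112 F461161) (tt N107132 (iv2 F457124)) (tt N95500 (iv3 F408377)) (tt N40716 F225009) (tt N96188 (iv5 F411402)) (tt N108206 D211427) (tt N40715 (iv7 D141977)))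
theorem Q73546 : ∀ i, i < 73546 → P i := stepQ 73545 Q73545 (allL N73545 (tt N108196 F461475) (tt N108207 D211428) (tt N108115 (iv2 F461171)) (tt N108166 (iv3 F461365)) (tt N108206 (iv4 F461491)) (tt N99485 (iv5 F424804)) (tt N40716 (iv6 D141978)) (tt N108180 (iv7 F461413)))
theorem Q73547 : ∀ i, i < 73547 → P i := stepQ 73546 Q73546 (allL N73546 (tt N91758 (iv1 F394323)) (tt N91757 F394322) (tt N88017 (iv2 F381484)) (tt N40717 (iv3 D141979)) (tt N92439 (iv4 F397002)) (tt N88016 F381483) (tt N93296 (iv6 F400299)) (tt N70128 F225010))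
theorem Q73548 : ∀ i, i < 73548 → P i := stepQ 73547 Q73547 (allL N73547 (tt N93313 (iv1 F400354)) (tt N93312 F400350) (tt N51889 F365371) (tt N88016 (iv3 F381482)) (tt N108208 D211429) (tt N40717 (iv5 D141980)) (tt N108209 D211430) (tt N70130 F225011))
theorem Q73549 : ∀ i, i < 73549 → P i := stepQ 73548 Q73548 (allL N73548 (tt N93333 (iv1 F400451)) (tt N40718 (iv0 D141981)) (tt N93335 (iv2 F400456)) (tt N93674 (iv3 F401522)) (tt N108210 D211431) (tt N108211 D211432) (tt N93324 (iv6 F400453)) (tt N93325 F400452))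
theorem Q73550 : ∀ i, i < 73550 → P i := stepQ 73549 Q73549 (allL N73549 (tt N93335 (iv1 F400459)) (tt N93325 (iv0 F400407)) (tt N40718 (iv2 D141983)) (tt N107672 (iv3 F459170)) (tt N93722 (iv4 F401668)) (tt N81141 F348949) (tt N81098 (iv6 F348948)) (tt N93333 (iv7 F400447)))
theorem Q73551 : ∀ i, i < 73551 → P i := stepQ 73550 Q73550 (allL N73550 (tt N108212 D211433) (tt N108213 D211434) (tt N81141 (iv2 F348941)) (tt N40719 F225012) (tt N81190 (iv4 F348936)) (tt N40718 (iv5 D141984)) (tt N80807 F348940) (tt N108118 (iv7 F461181)))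
theorem Q73552 : ∀ i, i < 73552 → P i := stepQ 73551 Q73551 (allL N73551 (tt N74613 F364905) (tt N108214 D211435) (tt N81098 F348944) (tt N40720 F225013) (tt N89990 (iv4 F388215)) (tt N80798 (iv5 F348943)) (tt N40718 (iv6 D141985)) (tt N89989 F388213))
theorem Q73553 : ∀ i, i < 73553 → P i := stepQ 73552 Q73552 (allL N73552 (tt N40722 (iv1 F225015)) (tt N40719 (iv0 D141986)) (tt N64994 F343802) (tt N108215 D211436) (tt N79190 F343803) (tt N70212 F225014) (tt N45378 F343804) (tt N70211 (iv7 F225016)))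
theorem Q73554 : ∀ i, i < 73554 → P i := stepQ 73553 Q73553 (allL N73553 (tt N40719 (iv1 D141987)) (tt N40722 F225017) (tt N70211 (iv2 F225019)) (tt N54221 F359656) (tt N94504 (iv4 F404742)) (tt N54220 (iv5 F352681)) (tt N94506 (iv6 F404755)) (tt N64994 (iv7 F343801)))
theorem Q73555 : ∀ i, i < 73555 → P i := stepQ 73554 Q73554 (allL N73554 (tt N79214 F359657) (tt N78076 (iv0 F245675)) (tt N101594 F433484) (tt N95481 (iv3 F408341)) (tt N40719 (iv4 D141988)) (tt N99533 (iv5 F425016)) (tt N94880 F406232) (tt N101593 F433480))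
theorem Q73556 : ∀ i, i < 73556 → P i := stepQ 73555 Q73555 (allL N73555 (tt N108216 D211437) (tt N108217 D211438) (tt N108117 (iv2 F461178)) (tt N80807 (iv3 F348942)) (tt N94880 (iv4 F406233)) (tt N80806 F348947) (tt N40719 (iv6 D141989)) (tt N81185 F348950))
theorem Q73557 : ∀ i, i < 73557 → P i := stepQ 73556 Q73556 (allL N73556 (tt N40720 (iv1 D141990)) (tt N78149 F246297) (tt N102322 (iv2 F436720)) (tt N108218 D211439) (tt N95168 (iv4 F407287)) (tt N73064 (iv5 F246298)) (tt N82010 F362635) (tt N93364 (iv7 F400536)))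
theorem Q73558 : ∀ i, i < 73558 → P i := stepQ 73557 Q73557 (allL N73557 (tt N92385 F396902) (tt N94945 F406452) (tt N94943 (iv2 F406449)) (tt N80798 F348945) (tt N107723 (iv4 F459397)) (tt N40720 (iv5 D141991)) (tt N80806 (iv6 F348946)) (tt N94942 F406442))
theorem Q73559 : ∀ i, i < 73559 → P i := stepQ 73558 Q73558 (allL N73558 (tt N40721 (iv1 D141993)) (tt N107672 F459172) (tt N107674 (iv2 F459176)) (tt N77032 F366179) (tt N79408 (iv4 F366178)) (tt N108219 D211440) (tt N99490 (iv6 F424828)) (tt N70135 F366180))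
theorem Q73560 : ∀ i, i < 73560 → P i := stepQ 73559 Q73559 (allL N73559 (tt N70135 F400455) (tt N107674 F459180) (tt N40721 (iv2 D141994)) (tt N93333 (iv3 F400449)) (tt N102800 (iv4 F438696)) (tt N108220 D211441) (tt N94632 (iv6 F405316)) (tt N107672 (iv7 F459171)))
theorem Q73561 : ∀ i, i < 73561 → P i := stepQ 73560 Q73560 (allL N73560 (tt N108221 D211442) (tt N108222 D211443) (tt N108220 (iv2 F461544)) (tt N40722 F225020) (tt N108223 D211444) (tt N40721 (iv5 D141995)) (tt N96581 F413071) (tt N108116 (iv7 F461176)))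
theorem Q73562 : ∀ i, i < 73562 → P i := stepQ 73561 Q73561 (allL N73561 (tt N94633 (iv1 F405321)) (tt N94624 (iv0 F405279)) (tt N94632 F405314) (tt N40723 F225021) (tt N94092 (iv4 F403170)) (tt N96582 (iv5 F413074)) (tt N40721 (iv6 D141996)) (tt N78148 (iv7 F246290)))
theorem Q73563 : ∀ i, i < 73563 → P i := stepQ 73562 Q73562 (allL N73562 (tt N78076 (iv1 F245676)) (tt N79214 F363312) (tt N101593 F433479) (tt N108224 D211445) (tt N40722 (iv4 D141997)) (tt N99530 (iv5 F425001)) (tt N96583 (iv6 F413077)) (tt N101594 (iv7 F433482)))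
theorem Q73564 : ∀ i, i < 73564 → P i := stepQ 73563 Q73563 (allL N73563 (tt N59552 F226743) (tt N94520 (iv0 F404813)) (tt N72950 (iv2 F336734)) (tt N101494 (iv3 F433135)) (tt N40724 (iv4 D142000)) (tt N62174 F364137) (tt N95130 F407160) (tt N59677 F225022))
theorem Q73565 : ∀ i, i < 73565 → P i := stepQ 73564 Q73564 (allL N73564 (tt N40740 F225026) (tt N73100 F225028) (tt N56021 F225023) (tt N72782 F225024) (tt N74337 (iv4 F227367)) (tt N40725 (iv5 D142001)) (tt N66929 F346399) (tt N73102 F225025))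
theorem Q73566 : ∀ i, i < 73566 → P i := stepQ 73565 Q73565 (allL N73565 (tt N40750 F348369) (tt N90649 (iv0 F390403)) (tt N56022 F225029) (tt N76755 F348370) (tt N96878 (iv4 F414408)) (tt N63479 F348371) (tt N40725 (iv6 D142002)) (tt N98378 (iv7 F420696)))
theorem Q73567 : ∀ i, i < 73567 → P i := stepQ 73566 Q73566 (allL N73566 (tt N94566 (iv1 F404995)) (tt N93285 F405420) (tt N70131 F225035) (tt N40727 (iv3 D142008)) (tt N61963 F225036) (tt N108225 D211446) (tt N108226 D211447) (tt N62517 F225037))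
theorem Q73568 : ∀ i, i < 73568 → P i := stepQ 73567 Q73567 (allL N73567 (tt N62236 F225040) (tt N62227 F225041) (tt N73114 F225038) (tt N108225 (iv3 F461556)) (tt N55358 F358476) (tt N40727 (iv5 D142009)) (tt N55357 (iv6 F358482)) (tt N62518 F225039))
theorem Q73569 : ∀ i, i < 73569 → P i := stepQ 73568 Q73568 (allL N73568 (tt N43891 F362631) (tt N80463 F362632) (tt N99494 (iv2 F424842)) (tt N108226 (iv3 F461563)) (tt N43884 F322388) (tt N59136 F358488) (tt N40727 (iv6 D142010)) (tt N99497 (iv7 F424867)))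
theorem Q73570 : ∀ i, i < 73570 → P i := stepQ 73569 Q73569 (allL N73569 (tt N62227 F225046) (tt N62236 F225047) (tt N62518 F225043) (tt N70134 F225044) (tt N83121 (iv4 F358487)) (tt N40728 (iv5 D142011)) (tt N106267 (iv6 F453809)) (tt N73114 F225045))
theorem Q73571 : ∀ i, i < 73571 → P i := stepQ 73570 Q73570 (allL N73570 (tt N40751 F348342) (tt N40755 F348343) (tt N62519 F225048) (tt N70135 F225049) (tt N62516 F225050) (tt N90382 (iv5 F389456)) (tt N40728 (iv6 D142012)) (tt N77032 F348344))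
theorem Q73572 : ∀ i, i < 73572 → P i := stepQ 73571 Q73571 (allL N73571 (tt N40729 (iv1 D142013)) (tt N93304 (iv0 F400326)) (tt N67140 F225053) (tt N93327 (iv3 F400415)) (tt N41079 (iv4 F225052)) (tt N78382 (iv5 F331516)) (tt N108227 D211448) (tt N67137 F225051))
theorem Q73573 : ∀ i, i < 73573 → P i := stepQ 73572 Q73572 (allL N73572 (tt N94550 (iv1 F404930)) (tt N57850 (iv0 F362333)) (tt N94530 (iv2 F404859)) (tt N65276 F351890) (tt N96715 (iv4 F413585)) (tt N57822 (iv5 F351888)) (tt N40732 (iv6 D142039)) (tt N94528 (iv7 F404855)))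
theorem Q73574 : ∀ i, i < 73574 → P i := stepQ 73573 Q73573 (allL N73573 (tt N78153 (iv1 F361964)) (tt N40733 (iv0 D142040)) (tt N90274 (iv2 F389179)) (tt N94646 F405349) (tt N48108 F346604) (tt N90206 (iv5 F388892)) (tt N81695 (iv6 F361963)) (tt N90276 (iv7 F389187)))
theorem Q73575 : ∀ i, i < 73575 → P i := stepQ 73574 Q73574 (allL N73574 (tt N40733 (iv1 D142041)) (tt N78153 F345687) (tt N90276 (iv2 F389185)) (tt N72847 (iv3 F407426)) (tt N62550 (iv4 F345692)) (tt N90207 (iv5 F388898)) (tt N74607 (iv6 F363145)) (tt N90274 (iv7 F389180)))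
theorem Q73576 : ∀ i, i < 73576 → P i := stepQ 73575 Q73575 (allL N73575 (tt N108228 D211449) (tt N72120 (iv0 F351595)) (tt N78344 (iv2 F345684)) (tt N65277 (iv3 F351593)) (tt N54149 F351572) (tt N40733 (iv5 D142042)) (tt N57822 F351885) (tt N71904 (iv7 F351594)))
theorem Q73577 : ∀ i, i < 73577 → P i := stepQ 73576 Q73576 (allL N73576 (tt N78159 F330035) (tt N40753 F350120) (tt N41072 F328206) (tt N96906 (iv3 F414543)) (tt N74704 (iv4 F351575)) (tt N73171 (iv5 F225068)) (tt N40734 (iv6 D142053)) (tt N81693 (iv7 F350106)))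
theorem Q73578 : ∀ i, i < 73578 → P i := stepQ 73577 Q73577 (allL N73577 (tt N40735 (iv1 D142055)) (tt N78154 F350155) (tt N66574 (iv2 F350153)) (tt N47703 F350148) (tt N54157 F350149) (tt N66906 F350150) (tt N47700 F350151) (tt N77450 F350152))
theorem Q73579 : ∀ i, i < 73579 → P i := stepQ 73578 Q73578 (allL N73578 (tt N99801 (iv1 F426285)) (tt N98108 F419495) (tt N41741 F225070) (tt N40736 (iv3 D142058)) (tt N99540 (iv4 F425050)) (tt N85544 (iv5 F373017)) (tt N42970 F348664) (tt N99495 (iv7 F424851)))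
theorem Q73580 : ∀ i, i < 73580 → P i := stepQ 73579 Q73579 (allL N73579 (tt N77032 F319305) (tt N62519 (iv0 F322144)) (tt N40751 F321322) (tt N84608 (iv3 F369852)) (tt N40738 (iv4 D142067)) (tt N84607 F369849) (tt N107933 (iv6 F460352)) (tt N40755 F321323))
theorem Q73581 : ∀ i, i < 73581 → P i := stepQ 73580 Q73580 (allL N73580 (tt N56022 (iv1 F317373)) (tt N98378 (iv0 F420698)) (tt N90649 (iv2 F390400)) (tt N40739 (iv3 D142070)) (tt N62490 F225083) (tt N80385 F319309) (tt N78156 F366476) (tt N40750 F321325))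
theorem Q73582 : ∀ i, i < 73582 → P i := stepQ 73581 Q73581 (allL N73581 (tt N62519 (iv1 F322145)) (tt N77032 F319311) (tt N40755 F321326) (tt N108229 D211450) (tt N40739 (iv4 D142071)) (tt N108230 D211451) (tt N78157 (iv6 F363748)) (tt N40751 F321327))
theorem Q73583 : ∀ i, i < 73583 → P i := stepQ 73582 Q73582 (allL N73582 (tt N73102 (iv1 F225097)) (tt N56021 F225096) (tt N40740 (iv2 D142078)) (tt N66545 F225092) (tt N62491 F225093) (tt N41147 F225094) (tt N108064 (iv6 F460951)) (tt N73100 F225095))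
theorem Q73584 : ∀ i, i < 73584 → P i := stepQ 73583 Q73583 (allL N73583 (tt N75917 F359172) (tt N99198 (iv0 F423663)) (tt N108064 (iv2 F460949)) (tt N40742 F225098) (tt N73699 (iv4 F225421)) (tt N101174 (iv5 F432052)) (tt N40740 (iv6 D142079)) (tt N80478 F353471))
theorem Q73585 : ∀ i, i < 73585 → P i := stepQ 73584 Q73584 (allL N73584 (tt N40744 (iv1 F225100)) (tt N40741 (iv0 D142080)) (tt N73118 F225102) (tt N68182 F349002) (tt N62496 F225099) (tt N107919 (iv5 F460286)) (tt N68180 (iv6 F349001)) (tt N62521 (iv7 F225101)))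
theorem Q73586 : ∀ i, i < 73586 → P i := stepQ 73585 Q73585 (allL N73585 (tt N40741 (iv1 D142081)) (tt N40744 F225103) (tt N62521 (iv2 F225106)) (tt N98346 (iv3 F420580)) (tt N62515 F225105) (tt N82913 (iv5 F358475)) (tt N66951 (iv6 F349006)) (tt N73118 F225104))
theorem Q73587 : ∀ i, i < 73587 → P i := stepQ 73586 Q73586 (allL N73586 (tt N81437 (iv1 F353805)) (tt N98294 F420372) (tt N98307 (iv2 F420439)) (tt N40741 (iv3 D142082)) (tt N73698 (iv4 F225420)) (tt N85107 F371663) (tt N86853 (iv6 F377441)) (tt N73119 F225107))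
theorem Q73588 : ∀ i, i < 73588 → P i := stepQ 73587 Q73587 (allL N73587 (tt N99604 (iv1 F425376)) (tt N76001 F349005) (tt N73138 F225108) (tt N85107 F371662) (tt N70281 (iv4 F332719)) (tt N40741 (iv5 D142083)) (tt N70280 F332720) (tt N73120 F225109))
theorem Q73589 : ∀ i, i < 73589 → P i := stepQ 73588 Q73588 (allL N73588 (tt N75262 F363628) (tt N62459 F363634) (tt N73139 F225110) (tt N86853 (iv3 F377440)) (tt N40742 F225111) (tt N86851 (iv5 F377436)) (tt N40741 (iv6 D142084)) (tt N80480 (iv7 F364875)))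
theorem Q73590 : ∀ i, i < 73590 → P i := stepQ 73589 Q73589 (allL N73589 (tt N46496 F326251) (tt N40742 (iv0 D142085)) (tt N72744 F350221) (tt N72770 (iv3 F350224)) (tt N92806 (iv4 F398308)) (tt N66666 F326252) (tt N75975 (iv6 F350225)) (tt N73140 (iv7 F339617)))
theorem Q73591 : ∀ i, i < 73591 → P i := stepQ 73590 Q73590 (allL N73590 (tt N101701 (iv1 F433944)) (tt N75636 (iv0 F350186)) (tt N73141 F225113) (tt N101174 (iv3 F432054)) (tt N100650 (iv4 F429841)) (tt N40742 (iv5 D142087)) (tt N62230 F225114) (tt N80481 F350200))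
theorem Q73592 : ∀ i, i < 73592 → P i := stepQ 73591 Q73591 (allL N73591 (tt N90642 F390378) (tt N71790 (iv0 F356502)) (tt N98465 (iv2 F420994)) (tt N40744 (iv3 D142090)) (tt N73859 (iv4 F225985)) (tt N98641 (iv5 F421699)) (tt N80483 F361682) (tt N73137 F225121))
theorem Q73593 : ∀ i, i < 73593 → P i := stepQ 73592 Q73592 (allL N73592 (tt N76001 F349004) (tt N99604 (iv0 F425375)) (tt N73120 F225122) (tt N98641 F421700) (tt N86316 (iv4 F375805)) (tt N40744 (iv5 D142091)) (tt N86314 F375798) (tt N73138 F225123))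
theorem Q73594 : ∀ i, i < 73594 → P i := stepQ 73593 Q73593 (allL N73593 (tt N98120 (iv1 F419540)) (tt N91556 (iv0 F393634)) (tt N98121 (iv2 F419546)) (tt N40745 (iv3 D142097)) (tt N66669 F225134) (tt N67121 F366043) (tt N98127 (iv6 F419578)) (tt N46050 F366044))
theorem Q73595 : ∀ i, i < 73595 → P i := stepQ 73594 Q73594 (allL N73594 (tt N73146 F225137) (tt N62245 F225138) (tt N66781 (iv2 F325369)) (tt N67121 F366042) (tt N108142 (iv4 F461284)) (tt N40745 (iv5 D142098)) (tt N108231 D211452) (tt N73161 F225136))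
theorem Q73596 : ∀ i, i < 73596 → P i := stepQ 73595 Q73595 (allL N73595 (tt N92806 F398311) (tt N92818 F398372) (tt N92817 (iv2 F398366)) (tt N98127 (iv3 F419577)) (tt N75500 (iv4 F364492)) (tt N104882 (iv5 F447788)) (tt N40745 (iv6 D142099)) (tt N80496 F364493))
theorem Q73597 : ∀ i, i < 73597 → P i := stepQ 73596 Q73596 (allL N73596 (tt N75977 F320159) (tt N63083 F320160) (tt N75957 F320161) (tt N40749 (iv3 D142115)) (tt N73888 F320162) (tt N42996 F320163) (tt N46192 F320164) (tt N45312 F320165))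
theorem Q73598 : ∀ i, i < 73598 → P i := stepQ 73597 Q73597 (allL N73597 (tt N66951 F320166) (tt N66950 F320167) (tt N66953 F320168) (tt N90648 F390398) (tt N40749 (iv4 D142116)) (tt N108232 D211453) (tt N73786 F320169) (tt N66908 F320170))
theorem Q73599 : ∀ i, i < 73599 → P i := stepQ 73598 Q73598 (allL N73598 (tt N63084 F320172) (tt N75975 F320173) (tt N66954 F320174) (tt N46192 F320175) (tt N73786 F320176) (tt N46190 F320177) (tt N40749 (iv6 D142118)) (tt N45320 F320178))
theorem Q73600 : ∀ i, i < 73600 → P i := stepQ 73599 Q73599 (allL N73599 (tt N98378 (iv1 F420699)) (tt N56022 (iv0 F356227)) (tt N40750 (iv2 D142131)) (tt N73886 (iv3 F342525)) (tt N62489 (iv4 F356228)) (tt N81293 F356226) (tt N99460 (iv6 F424683)) (tt N90649 (iv7 F390402)))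
theorem Q73601 : ∀ i, i < 73601 → P i := stepQ 73600 Q73600 (allL N73600 (tt N43399 F322907) (tt N55198 (iv0 F337682)) (tt N62489 F356229) (tt N90659 (iv3 F390439)) (tt N40750 (iv4 D142132)) (tt N77789 (iv5 F346907)) (tt N77790 F346905) (tt N62490 (iv7 F356240)))
theorem Q73602 : ∀ i, i < 73602 → P i := stepQ 73601 Q73601 (allL N73601 (tt N95373 (iv1 F408025)) (tt N96887 (iv0 F414452)) (tt N99460 (iv2 F424681)) (tt N40753 F225163) (tt N77790 (iv4 F346906)) (tt N81339 (iv5 F351418)) (tt N40750 (iv6 D142134)) (tt N107931 (iv7 F460343)))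
theorem Q73603 : ∀ i, i < 73603 → P i := stepQ 73602 Q73602 (allL N73602 (tt N40755 (iv1 F225169)) (tt N40751 (iv0 D142136)) (tt N77032 F322946) (tt N108233 D211454) (tt N43340 F322947) (tt N90381 (iv5 F389452)) (tt N99497 (iv6 F424864)) (tt N62519 (iv7 F322146)))
theorem Q73604 : ∀ i, i < 73604 → P i := stepQ 73603 Q73603 (allL N73603 (tt N93674 F401524) (tt N108227 (iv0 F461573)) (tt N90297 (iv2 F389264)) (tt N40751 (iv3 D142138)) (tt N90659 (iv4 F390440)) (tt N108234 D211455) (tt N74616 F388152) (tt N108229 (iv7 F461583)))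
theorem Q73605 : ∀ i, i < 73605 → P i := stepQ 73604 Q73604 (allL N73604 (tt N108235 D211456) (tt N108236 D211457) (tt N84607 (iv2 F369850)) (tt N108234 (iv3 F461612)) (tt N84629 (iv4 F369912)) (tt N40751 (iv5 D142139)) (tt N88127 (iv6 F381860)) (tt N108230 (iv7 F461590)))
theorem Q73606 : ∀ i, i < 73606 → P i := stepQ 73605 Q73605 (allL N73605 (tt N74607 F350122) (tt N74610 F351576) (tt N107933 (iv2 F460350)) (tt N74616 (iv3 F388151)) (tt N40753 F225166) (tt N102399 (iv5 F437068)) (tt N40751 (iv6 D142140)) (tt N107932 (iv7 F460347)))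
theorem Q73607 : ∀ i, i < 73607 → P i := stepQ 73606 Q73606 (allL N73606 (tt N48082 F322961) (tt N48083 F322962) (tt N76017 F322963) (tt N40756 F225175) (tt N72190 (iv4 F342518)) (tt N40754 (iv5 D142155)) (tt N42977 F322965) (tt N67063 F322966))
theorem Q73608 : ∀ i, i < 73608 → P i := stepQ 73607 Q73607 (allL N73607 (tt N78812 F322967) (tt N48139 F322968) (tt N78836 F322969) (tt N40757 F225176) (tt N72369 (iv4 F363416)) (tt N74418 F322970) (tt N40754 (iv6 D142156)) (tt N74971 (iv7 F330044)))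
theorem Q73609 : ∀ i, i < 73609 → P i := stepQ 73608 Q73608 (allL N73608 (tt N108236 (iv1 F461623)) (tt N108235 F461619) (tt N108230 (iv2 F461587)) (tt N49902 F360805) (tt N49912 (iv4 F360806)) (tt N40755 (iv5 D142158)) (tt N108237 D211458) (tt N84607 (iv7 F369848)))
theorem Q73610 : ∀ i, i < 73610 → P i := stepQ 73609 Q73609 (allL N73609 (tt N42190 F322972) (tt N101762 F434233) (tt N78157 F363747) (tt N90293 (iv3 F389253)) (tt N40757 F225177) (tt N108238 D211459) (tt N40755 (iv6 D142159)) (tt N78158 F363746))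
theorem Q73611 : ∀ i, i < 73611 → P i := stepQ 73610 Q73610 (allL N73610 (tt N74259 (iv1 F350166)) (tt N99356 (iv0 F424254)) (tt N75780 F322978) (tt N74418 F322979) (tt N47919 F330046) (tt N40757 (iv5 D142164)) (tt N74416 F322980) (tt N74970 F330047))
theorem Q73612 : ∀ i, i < 73612 → P i := stepQ 73611 Q73611 (allL N73611 (tt N55978 F348354) (tt N82323 F348355) (tt N40760 F225219) (tt N108042 (iv3 F460855)) (tt N40759 (iv4 D142249)) (tt N108239 D211460) (tt N94358 (iv6 F404124)) (tt N82307 F348356))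
theorem Q73613 : ∀ i, i < 73613 → P i := stepQ 73612 Q73612 (allL N73612 (tt N40760 (iv1 D142252)) (tt N82307 F323263) (tt N82323 F323264) (tt N89175 (iv3 F385446)) (tt N43517 F323265) (tt N100086 (iv5 F427479)) (tt N73812 (iv6 F360679)) (tt N55978 (iv7 F322291)))
theorem Q73614 : ∀ i, i < 73614 → P i := stepQ 73613 Q73613 (allL N73613 (tt N106503 (iv1 F454685)) (tt N108240 D211461) (tt N108239 (iv2 F461639)) (tt N66542 F225221) (tt N108241 D211462) (tt N40760 (iv5 D142253)) (tt N108242 D211463) (tt N82324 (iv7 F366324)))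
theorem Q73615 : ∀ i, i < 73615 → P i := stepQ 73614 Q73614 (allL N73614 (tt N41012 F338996) (tt N107216 F457485) (tt N40763 F225249) (tt N76775 F321218) (tt N90924 (iv4 F391286)) (tt N48072 F321219) (tt N40762 (iv6 D142308)) (tt N99729 (iv7 F425946)))
theorem Q73616 : ∀ i, i < 73616 → P i := stepQ 73615 Q73615 (allL N73615 (tt N40763 (iv1 D142314)) (tt N99729 (iv0 F425948)) (tt N107216 F457484) (tt N73954 (iv3 F342558)) (tt N108243 D211464) (tt N73196 (iv5 F333269)) (tt N76221 F342557) (tt N41012 F338993))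
theorem Q73617 : ∀ i, i < 73617 → P i := stepQ 73616 Q73616 (allL N73616 (tt N106598 F455003) (tt N106017 F452758) (tt N99213 (iv2 F423705)) (tt N40765 F225255) (tt N106083 F453041) (tt N40764 (iv5 D142325)) (tt N106629 (iv6 F467218)) (tt N99146 (iv7 F423459)))
theorem Q73618 : ∀ i, i < 73618 → P i := stepQ 73617 Q73617 (allL N73617 (tt N83475 (iv1 F357610)) (tt N40765 (iv0 D142326)) (tt N88406 (iv2 F382907)) (tt N108244 D211466) (tt N88403 (iv4 F382891)) (tt N57522 F225256) (tt N78020 (iv6 F245575)) (tt N90028 (iv7 F388339)))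
theorem Q73619 : ∀ i, i < 73619 → P i := stepQ 73618 Q73618 (allL N73618 (tt N106630 (iv1 F455102)) (tt N106632 F455101) (tt N99149 (iv2 F423474)) (tt N106629 (iv3 F467217)) (tt N83479 (iv4 F365378)) (tt N83542 (iv5 F363547)) (tt N40765 (iv6 D142329)) (tt N106629 (iv7 F467219)))
theorem Q73620 : ∀ i, i < 73620 → P i := stepQ 73619 Q73619 (allL N73619 (tt N40803 F225267) (tt N40839 F323720) (tt N40888 F225264) (tt N40898 F225265) (tt N73362 F225269) (tt N40766 (iv5 D142350)) (tt N76444 (iv6 F356819)) (tt N40947 F225266))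
theorem Q73621 : ∀ i, i < 73621 → P i := stepQ 73620 Q73620 (allL N73620 (tt N76161 F342590) (tt N41002 F342591) (tt N76004 (iv2 F356521)) (tt N40775 F225273) (tt N99453 (iv4 F424654)) (tt N78290 (iv5 F342589)) (tt N40767 (iv6 D142352)) (tt N77553 F356522))
theorem Q73622 : ∀ i, i < 73622 → P i := stepQ 73621 Q73621 (allL N73621 (tt N56136 F323797) (tt N55808 F323798) (tt N42705 F323799) (tt N40777 F225274) (tt N63632 F335224) (tt N40768 (iv5 D142355)) (tt N78290 F342587) (tt N76440 F323800))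
theorem Q73623 : ∀ i, i < 73623 → P i := stepQ 73622 Q73622 (allL N73622 (tt N93740 F401733) (tt N71817 (iv0 F345457)) (tt N96840 (iv2 F414206)) (tt N40769 (iv3 D142357)) (tt N56023 F225276) (tt N97189 (iv5 F415818)) (tt N90665 F390454) (tt N58447 (iv7 F364292)))
theorem Q73624 : ∀ i, i < 73624 → P i := stepQ 73623 Q73623 (allL N73623 (tt N48018 F319632) (tt N76882 F319633) (tt N96878 (iv2 F414410)) (tt N90665 (iv3 F390453)) (tt N56022 F225279) (tt N96760 (iv5 F413821)) (tt N40769 (iv6 D142359)) (tt N96838 (iv7 F414196)))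
theorem Q73625 : ∀ i, i < 73625 → P i := stepQ 73624 Q73624 (allL N73624 (tt N62677 F225280) (tt N62681 F225281) (tt N74328 F227349) (tt N74093 F365080) (tt N97181 (iv4 F415786)) (tt N40770 (iv5 D142360)) (tt N108245 D211467) (tt N74329 (iv7 F227352)))
theorem Q73626 : ∀ i, i < 73626 → P i := stepQ 73625 Q73625 (allL N73625 (tt N40816 F361858) (tt N40817 F361859) (tt N58446 (iv2 F347150)) (tt N96839 (iv3 F414199)) (tt N99197 (iv4 F423658)) (tt N58568 F361856) (tt N40770 (iv6 D142361)) (tt N77714 (iv7 F361870)))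
theorem Q73627 : ∀ i, i < 73627 → P i := stepQ 73626 Q73626 (allL N73626 (tt N72415 (iv1 F225284)) (tt N67136 F225283) (tt N40771 (iv2 D142362)) (tt N67129 F225282) (tt N99507 (iv4 F424911)) (tt N54905 F355618) (tt N90571 F390143) (tt N99563 (iv7 F425180)))
theorem Q73628 : ∀ i, i < 73628 → P i := stepQ 73627 Q73627 (allL N73627 (tt N78537 F356107) (tt N87157 (iv0 F378567)) (tt N54905 F355617) (tt N40772 F225285) (tt N52752 (iv4 F355655)) (tt N40771 (iv5 D142363)) (tt N68152 F356093) (tt N54902 F355632))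
theorem Q73629 : ∀ i, i < 73629 → P i := stepQ 73628 Q73628 (allL N73628 (tt N89216 (iv1 F385642)) (tt N89221 (iv0 F385658)) (tt N90571 F390142) (tt N40773 F225286) (tt N99508 (iv4 F424916)) (tt N54358 (iv5 F361827)) (tt N40771 (iv6 D142364)) (tt N90570 (iv7 F390138)))
theorem Q73630 : ∀ i, i < 73630 → P i := stepQ 73629 Q73629 (allL N73629 (tt N40779 (iv1 F225288)) (tt N40772 (iv0 D142365)) (tt N96772 (iv2 F413855)) (tt N108246 D211468) (tt N98147 (iv4 F419698)) (tt N41268 F225287) (tt N78532 F365720) (tt N99564 (iv7 F425187)))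
theorem Q73631 : ∀ i, i < 73631 → P i := stepQ 73630 Q73630 (allL N73630 (tt N40772 (iv1 D142366)) (tt N40779 F225289) (tt N99564 F425185) (tt N99638 F425538) (tt N98146 (iv4 F419692)) (tt N41269 F225290) (tt N82944 (iv6 F330008)) (tt N96772 (iv7 F413857)))
theorem Q73632 : ∀ i, i < 73632 → P i := stepQ 73631 Q73631 (allL N73631 (tt N74802 F229208) (tt N41154 F225291) (tt N99568 (iv2 F425208)) (tt N76315 F330351) (tt N40772 (iv4 D142367)) (tt N76314 (iv5 F330350)) (tt N108247 D211469) (tt N76381 F362026))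
theorem Q73633 : ∀ i, i < 73633 → P i := stepQ 73632 Q73632 (allL N73632 (tt N96927 (iv1 F414653)) (tt N96929 F415848) (tt N99569 (iv2 F425215)) (tt N68152 (iv3 F356106)) (tt N108247 (iv4 F461673)) (tt N93570 (iv5 F401179)) (tt N40772 (iv6 D142368)) (tt N104928 (iv7 F447986)))
theorem Q73634 : ∀ i, i < 73634 → P i := stepQ 73633 Q73633 (allL N73633 (tt N65331 (iv1 F366286)) (tt N40773 (iv0 D142369)) (tt N99570 F425219) (tt N108248 D211470) (tt N94470 (iv4 F404605)) (tt N95371 (iv5 F408015)) (tt N108249 D211471) (tt N95370 F408012))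
theorem Q73635 : ∀ i, i < 73635 → P i := stepQ 73634 Q73634 (allL N73634 (tt N40773 (iv1 D142370)) (tt N65331 F366287) (tt N95370 (iv2 F408009)) (tt N99641 F425554) (tt N99493 F424838) (tt N58585 (iv5 F366289)) (tt N59807 F366288) (tt N99570 (iv7 F425221)))
theorem Q73636 : ∀ i, i < 73636 → P i := stepQ 73635 Q73635 (allL N73635 (tt N108250 D211472) (tt N95406 (iv0 F461693)) (tt N99571 (iv2 F425225)) (tt N54358 F361828) (tt N108251 D211473) (tt N40773 (iv5 D142371)) (tt N93570 (iv6 F401180)) (tt N106866 (iv7 F456068)))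
theorem Q73637 : ∀ i, i < 73637 → P i := stepQ 73636 Q73636 (allL N73636 (tt N40774 (iv1 D142374)) (tt N40780 F225296) (tt N66742 (iv2 F225298)) (tt N46740 F323289) (tt N66741 F225297) (tt N81436 F323290) (tt N41931 F323291) (tt N42118 F346414))
theorem Q73638 : ∀ i, i < 73638 → P i := stepQ 73637 Q73637 (allL N73637 (tt N108252 D211474) (tt N98138 (iv0 F419644)) (tt N108253 D211475) (tt N40774 (iv3 D142375)) (tt N99451 (iv4 F424644)) (tt N88174 F382022) (tt N108254 D211476) (tt N99566 (iv7 F425197)))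
theorem Q73639 : ∀ i, i < 73639 → P i := stepQ 73638 Q73638 (allL N73638 (tt N103913 (iv1 F443342)) (tt N99607 (iv0 F425391)) (tt N99572 (iv2 F425226)) (tt N108254 (iv3 F461714)) (tt N40775 F225299) (tt N102781 (iv5 F438616)) (tt N40774 (iv6 D142377)) (tt N100007 (iv7 F427164)))
theorem Q73640 : ∀ i, i < 73640 → P i := stepQ 73639 Q73639 (allL N73639 (tt N78194 (iv1 F359927)) (tt N40792 F347184) (tt N41045 F323792) (tt N108255 D211477) (tt N40776 (iv4 D142384)) (tt N95341 (iv5 F407925)) (tt N108256 D211478) (tt N95340 (iv7 F407921)))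
theorem Q73641 : ∀ i, i < 73641 → P i := stepQ 73640 Q73640 (allL N73640 (tt N40819 F340823) (tt N63193 (iv0 F340824)) (tt N41047 F323793) (tt N68563 F340818) (tt N108256 (iv4 F461726)) (tt N67758 (iv5 F340820)) (tt N40776 (iv6 D142386)) (tt N63776 (iv7 F361612)))
theorem Q73642 : ∀ i, i < 73642 → P i := stepQ 73641 Q73641 (allL N73641 (tt N77267 (iv1 F346699)) (tt N77197 (iv0 F346695)) (tt N65184 (iv2 F346696)) (tt N64431 F346697) (tt N40777 (iv4 D142394)) (tt N108257 D211479) (tt N82265 (iv6 F361462)) (tt N77268 F346698))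
theorem Q73643 : ∀ i, i < 73643 → P i := stepQ 73642 Q73642 (allL N73642 (tt N48530 F331294) (tt N52698 F331295) (tt N52697 (iv2 F355417)) (tt N40779 F225318) (tt N88284 F382457) (tt N40778 (iv5 D142405)) (tt N104418 (iv6 F445671)) (tt N52696 F355422))
theorem Q73644 : ∀ i, i < 73644 → P i := stepQ 73643 Q73643 (allL N73643 (tt N41154 F225320) (tt N74802 F229207) (tt N76381 F362025) (tt N100771 (iv3 F430393)) (tt N40779 (iv4 D142407)) (tt N76379 (iv5 F338525)) (tt N99748 (iv6 F426039)) (tt N99568 (iv7 F425210)))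
theorem Q73645 : ∀ i, i < 73645 → P i := stepQ 73644 Q73644 (allL N73644 (tt N91199 (iv1 F426044)) (tt N108258 D211480) (tt N99565 (iv2 F425189)) (tt N104418 (iv3 F445670)) (tt N99748 F426043) (tt N82177 F366491) (tt N40779 (iv6 D142408)) (tt N108259 D211481))
theorem Q73646 : ∀ i, i < 73646 → P i := stepQ 73645 Q73645 (allL N73645 (tt N108260 D211482) (tt N76546 (iv0 F353142)) (tt N99567 (iv2 F425201)) (tt N99992 (iv3 F427087)) (tt N40781 F225324) (tt N108261 D211483) (tt N40780 (iv6 D142415)) (tt N77575 F366560))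
theorem Q73647 : ∀ i, i < 73647 → P i := stepQ 73646 Q73646 (allL N73646 (tt N74041 (iv1 F226671)) (tt N74038 (iv0 F226667)) (tt N59119 F225329) (tt N40783 F225330) (tt N61339 (iv4 F318202)) (tt N40782 (iv5 D142434)) (tt N55574 F356888) (tt N73965 (iv7 F226346)))
theorem Q73648 : ∀ i, i < 73648 → P i := stepQ 73647 Q73647 (allL N73647 (tt N85638 F373312) (tt N85672 F373466) (tt N59120 F225332) (tt N40784 F225333) (tt N59135 F225334) (tt N55575 (iv5 F356889)) (tt N40782 (iv6 D142435)) (tt N85671 (iv7 F373463)))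
theorem Q73649 : ∀ i, i < 73649 → P i := stepQ 73648 Q73648 (allL N73648 (tt N74346 (iv1 F227412)) (tt N74330 (iv0 F227358)) (tt N40797 F225335) (tt N41379 F225336) (tt N40783 (iv4 D142436)) (tt N41378 F225337) (tt N61360 (iv6 F356883)) (tt N74487 (iv7 F227978)))
theorem Q73650 : ∀ i, i < 73650 → P i := stepQ 73649 Q73649 (allL N73649 (tt N108262 D211484) (tt N108263 D211485) (tt N40798 F225345) (tt N55574 (iv3 F356886)) (tt N61360 F356885) (tt N55572 F356887) (tt N40783 (iv6 D142437)) (tt N87501 (iv7 F379574)))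
theorem Q73651 : ∀ i, i < 73651 → P i := stepQ 73650 Q73650 (allL N73650 (tt N40802 F225347) (tt N40784 (iv0 D142438)) (tt N40799 F344477) (tt N96790 F413962) (tt N62385 F225346) (tt N91507 (iv5 F393418)) (tt N63195 (iv6 F344496)) (tt N40800 F344478))
theorem Q73652 : ∀ i, i < 73652 → P i := stepQ 73651 Q73651 (allL N73651 (tt N40784 (iv1 D142439)) (tt N40802 F225348) (tt N40800 F344488) (tt N54484 (iv3 F344510)) (tt N102877 (iv4 F439062)) (tt N79304 F344505) (tt N108264 D211486) (tt N40799 F344489))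
theorem Q73653 : ∀ i, i < 73653 → P i := stepQ 73652 Q73652 (allL N73652 (tt N95040 F406771) (tt N95037 (iv0 F406754)) (tt N40801 F225349) (tt N55575 F356966) (tt N94739 (iv4 F405773)) (tt N40784 (iv5 D142440)) (tt N55572 (iv6 F356967)) (tt N95144 (iv7 F407220)))
theorem Q73654 : ∀ i, i < 73654 → P i := stepQ 73653 Q73653 (allL N73653 (tt N40800 (iv1 F225352)) (tt N40799 F225353) (tt N40802 F225350) (tt N85671 (iv3 F373462)) (tt N40789 F225351) (tt N95144 (iv5 F407221)) (tt N63489 (iv6 F364109)) (tt N40784 (iv7 D142441)))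
theorem Q73655 : ∀ i, i < 73655 → P i := stepQ 73654 Q73654 (allL N73654 (tt N41693 (iv1 F225357)) (tt N41692 F225358) (tt N41019 F225354) (tt N40785 (iv3 D142442)) (tt N98760 (iv4 F422190)) (tt N41016 (iv5 F225356)) (tt N105707 (iv6 F451349)) (tt N41694 F225355))
theorem Q73656 : ∀ i, i < 73656 → P i := stepQ 73655 Q73655 (allL N73655 (tt N61103 (iv1 F352069)) (tt N61106 (iv0 F352131)) (tt N40810 F225359) (tt N41016 F225360) (tt N43169 F314389) (tt N40785 (iv5 D142443)) (tt N43168 F314390) (tt N78376 (iv7 F248518)))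
theorem Q73657 : ∀ i, i < 73657 → P i := stepQ 73656 Q73656 (allL N73656 (tt N47030 F330246) (tt N47561 F330247) (tt N40811 F225361) (tt N105707 (iv3 F451348)) (tt N40786 F225362) (tt N70089 F330248) (tt N40785 (iv6 D142444)) (tt N47562 F319107))
theorem Q73658 : ∀ i, i < 73658 → P i := stepQ 73657 Q73657 (allL N73657 (tt N40786 (iv1 D142446)) (tt N40814 F225363) (tt N40813 F360906) (tt N107124 F457087) (tt N81289 (iv4 F330295)) (tt N104152 (iv5 F444439)) (tt N88439 (iv6 F383057)) (tt N40812 F360907))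
theorem Q73659 : ∀ i, i < 73659 → P i := stepQ 73658 Q73658 (allL N73658 (tt N58446 F347154) (tt N77714 F361871) (tt N40817 F322327) (tt N107990 (iv3 F460621)) (tt N40787 (iv4 D142455)) (tt N58426 (iv5 F347155)) (tt N108265 D211487) (tt N40816 F322328))
theorem Q73660 : ∀ i, i < 73660 → P i := stepQ 73659 Q73659 (allL N73659 (tt N63776 (iv1 F340827)) (tt N41047 F348142) (tt N40819 F322329) (tt N76292 F340826) (tt N108265 (iv4 F461776)) (tt N46108 F340837) (tt N40787 (iv6 D142457)) (tt N63193 (iv7 F340825)))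
theorem Q73661 : ∀ i, i < 73661 → P i := stepQ 73660 Q73660 (allL N73660 (tt N40788 (iv1 D142459)) (tt N40823 F225373) (tt N40821 F320287) (tt N41348 F325091) (tt N75102 F325092) (tt N62690 (iv5 F225374)) (tt N99792 (iv6 F426237)) (tt N40820 F320288))
theorem Q73662 : ∀ i, i < 73662 → P i := stepQ 73661 Q73661 (allL N73661 (tt N108072 (iv1 F460995)) (tt N108071 F460992) (tt N40822 F225375) (tt N108076 (iv3 F461013)) (tt N40788 (iv4 D142460)) (tt N105700 (iv5 F451315)) (tt N70053 (iv6 F365212)) (tt N100425 (iv7 F428917)))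
theorem Q73663 : ∀ i, i < 73663 → P i := stepQ 73662 Q73662 (allL N73662 (tt N108266 D211488) (tt N73336 F357083) (tt N62369 F225381) (tt N71977 F225382) (tt N40792 F225383) (tt N81664 F347187) (tt N40790 (iv6 D142462)) (tt N82582 F359917))
theorem Q73664 : ∀ i, i < 73664 → P i := stepQ 73663 Q73663 (allL N73663 (tt N105686 (iv1 F451249)) (tt N92853 (iv0 F398519)) (tt N61107 (iv2 F352139)) (tt N108267 D211489) (tt N40791 (iv4 D142463)) (tt N61095 F330338) (tt N76432 F355193) (tt N61104 (iv7 F352128)))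
theorem Q73665 : ∀ i, i < 73665 → P i := stepQ 73664 Q73664 (allL N73664 (tt N108268 D211490) (tt N108269 D211491) (tt N60344 (iv2 F355195)) (tt N90587 (iv3 F390178)) (tt N108270 D211492) (tt N40792 (iv5 D142467)) (tt N60330 F355194) (tt N107231 (iv7 F457565)))
theorem Q73666 : ∀ i, i < 73666 → P i := stepQ 73665 Q73665 (allL N73665 (tt N92208 (iv1 F396263)) (tt N40793 (iv0 D142469)) (tt N73467 (iv2 F340507)) (tt N108271 D211493) (tt N62337 F225384) (tt N61119 F331558) (tt N93653 (iv6 F401445)) (tt N73464 F340500))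
theorem Q73667 : ∀ i, i < 73667 → P i := stepQ 73666 Q73666 (allL N73666 (tt N40793 (iv1 D142470)) (tt N92208 (iv0 F396262)) (tt N73464 (iv2 F340498)) (tt N74017 (iv3 F340501)) (tt N62338 F340497) (tt N61111 (iv5 F340496)) (tt N106110 (iv6 F453165)) (tt N73467 (iv7 F340499)))
theorem Q73668 : ∀ i, i < 73668 → P i := stepQ 73667 Q73667 (allL N73667 (tt N92853 (iv1 F398520)) (tt N105686 (iv0 F451248)) (tt N61104 (iv2 F352141)) (tt N76403 (iv3 F355224)) (tt N40794 (iv4 D142473)) (tt N61094 F330339) (tt N99751 (iv6 F426057)) (tt N61107 (iv7 F352137)))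
theorem Q73669 : ∀ i, i < 73669 → P i := stepQ 73668 Q73668 (allL N73668 (tt N108272 D211494) (tt N108273 D211495) (tt N99574 (iv2 F425235)) (tt N60347 (iv3 F355226)) (tt N99751 F426061) (tt N107232 (iv5 F457569)) (tt N40794 (iv6 D142474)) (tt N60343 F355225))
theorem Q73670 : ∀ i, i < 73670 → P i := stepQ 73669 Q73669 (allL N73669 (tt N54784 F385793) (tt N106885 (iv0 F456129)) (tt N71624 (iv2 F225391)) (tt N40795 (iv3 D142479)) (tt N106874 F456093) (tt N62651 F225389) (tt N108274 D211496) (tt N71628 F225390))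
theorem Q73671 : ∀ i, i < 73671 → P i := stepQ 73670 Q73670 (allL N73670 (tt N60176 F330324) (tt N60185 (iv0 F330333)) (tt N60184 (iv2 F330358)) (tt N51414 F330319) (tt N40795 (iv4 D142480)) (tt N61011 (iv5 F330318)) (tt N49364 F330320) (tt N60183 (iv7 F359851)))
theorem Q73672 : ∀ i, i < 73672 → P i := stepQ 73671 Q73671 (allL N73671 (tt N87543 (iv1 F379710)) (tt N87539 (iv0 F379696)) (tt N74162 (iv2 F226876)) (tt N108274 (iv3 F461823)) (tt N49364 F359561) (tt N108275 D211497) (tt N40795 (iv6 D142481)) (tt N86906 (iv7 F377661)))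
theorem Q73673 : ∀ i, i < 73673 → P i := stepQ 73672 Q73672 (allL N73672 (tt N61119 (iv1 F340491)) (tt N61111 (iv0 F340495)) (tt N61595 (iv2 F340494)) (tt N40796 (iv3 D142482)) (tt N55834 F340493) (tt N62653 F225392) (tt N108276 D211498) (tt N74160 (iv7 F226871)))
theorem Q73674 : ∀ i, i < 73674 → P i := stepQ 73673 Q73673 (allL N73673 (tt N60185 (iv1 F330337)) (tt N60176 (iv0 F357483)) (tt N60183 (iv2 F359847)) (tt N105016 (iv3 F448389)) (tt N40796 (iv4 D142483)) (tt N61728 (iv5 F330331)) (tt N61731 F357484) (tt N60184 (iv7 F330360)))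
theorem Q73675 : ∀ i, i < 73675 → P i := stepQ 73674 Q73674 (allL N73674 (tt N104843 (iv1 F447565)) (tt N96778 (iv0 F413888)) (tt N70471 (iv2 F357486)) (tt N108276 (iv3 F461827)) (tt N61731 (iv4 F357485)) (tt N95432 (iv5 F408169)) (tt N40796 (iv6 D142484)) (tt N95431 (iv7 F408166)))
theorem Q73676 : ∀ i, i < 73676 → P i := stepQ 73675 Q73675 (allL N73675 (tt N74487 (iv1 F227981)) (tt N40797 (iv0 D142485)) (tt N74346 (iv2 F227409)) (tt N76318 (iv3 F342986)) (tt N62677 F225393) (tt N74766 (iv5 F229066)) (tt N86533 (iv6 F376448)) (tt N74330 (iv7 F227357)))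
theorem Q73677 : ∀ i, i < 73677 → P i := stepQ 73676 Q73676 (allL N73676 (tt N40797 (iv1 D142486)) (tt N74487 F227980) (tt N74330 (iv2 F227356)) (tt N56412 (iv3 F342975)) (tt N62681 F225394) (tt N61741 (iv5 F331692)) (tt N61742 F363061) (tt N74346 (iv7 F227410)))
theorem Q73678 : ∀ i, i < 73678 → P i := stepQ 73677 Q73677 (allL N73677 (tt N52751 (iv1 F333381)) (tt N73781 (iv0 F225736)) (tt N41023 F225395) (tt N40797 (iv3 D142487)) (tt N52033 (iv4 F356909)) (tt N41020 (iv5 F225397)) (tt N52031 F356960) (tt N92798 (iv7 F398279)))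
theorem Q73679 : ∀ i, i < 73679 → P i := stepQ 73678 Q73678 (allL N73678 (tt N76314 (iv1 F330349)) (tt N76379 (iv0 F338522)) (tt N41378 F225398) (tt N41020 F225399) (tt N78376 (iv4 F248516)) (tt N40797 (iv5 D142488)) (tt N79989 F319093) (tt N43169 F319094))
theorem Q73680 : ∀ i, i < 73680 → P i := stepQ 73679 Q73679 (allL N73679 (tt N95878 (iv1 F410062)) (tt N93114 (iv0 F399545)) (tt N61360 F356884) (tt N52031 F356959) (tt N40798 F225400) (tt N98439 (iv5 F420922)) (tt N40797 (iv6 D142489)) (tt N95871 (iv7 F410029)))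
theorem Q73681 : ∀ i, i < 73681 → P i := stepQ 73680 Q73680 (allL N73680 (tt N87501 (iv1 F379576)) (tt N40798 (iv0 D142490)) (tt N108262 F461760) (tt N100731 (iv3 F430198)) (tt N108277 D211499) (tt N100730 F430196) (tt N96776 (iv6 F413878)) (tt N108263 (iv7 F461763)))
theorem Q73682 : ∀ i, i < 73682 → P i := stepQ 73681 Q73681 (allL N73681 (tt N40798 (iv1 D142491)) (tt N87501 F379575) (tt N108263 F461768) (tt N68082 F361836) (tt N108278 D211500) (tt N108279 D211501) (tt N68080 (iv6 F361835)) (tt N108262 F461761))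
theorem Q73683 : ∀ i, i < 73683 → P i := stepQ 73682 Q73682 (allL N73682 (tt N108280 D211502) (tt N91835 (iv0 F394617)) (tt N55572 F356968) (tt N92527 (iv3 F397245)) (tt N65487 (iv4 F395311)) (tt N40798 (iv5 D142492)) (tt N40801 F225401) (tt N108281 D211503))
theorem Q73684 : ∀ i, i < 73684 → P i := stepQ 73683 Q73683 (allL N73683 (tt N108263 (iv1 F461762)) (tt N108262 F461759) (tt N87501 (iv2 F379571)) (tt N92528 (iv3 F397252)) (tt N95871 (iv4 F410027)) (tt N108281 (iv5 F461858)) (tt N87499 F379565) (tt N40798 (iv7 D142493)))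
theorem Q73685 : ∀ i, i < 73685 → P i := stepQ 73684 Q73684 (allL N73684 (tt N53445 (iv1 F349519)) (tt N54706 F344575) (tt N54486 F344515) (tt N40799 (iv3 D142495)) (tt N53403 (iv4 F344580)) (tt N58478 F344514) (tt N76247 F344499) (tt N54484 (iv7 F344512)))
theorem Q73686 : ∀ i, i < 73686 → P i := stepQ 73685 Q73685 (allL N73685 (tt N108282 D211504) (tt N73318 F344490) (tt N62385 F344491) (tt N44991 F344492) (tt N40799 (iv4 D142496)) (tt N62940 F344493) (tt N44989 F344494) (tt N102877 (iv7 F439065)))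
theorem Q73687 : ∀ i, i < 73687 → P i := stepQ 73686 Q73686 (allL N73686 (tt N87078 F378305) (tt N102082 F435641) (tt N91507 (iv2 F393415)) (tt N58478 (iv3 F344501)) (tt N72896 F344504) (tt N40799 (iv5 D142497)) (tt N55444 F344500) (tt N79304 (iv7 F344502)))
theorem Q73688 : ∀ i, i < 73688 → P i := stepQ 73687 Q73687 (allL N73687 (tt N73318 F344474) (tt N108282 F461867) (tt N102877 (iv2 F439061)) (tt N46610 F319221) (tt N40800 (iv4 D142501)) (tt N46608 F319222) (tt N47695 F319223) (tt N62385 F344476))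
theorem Q73689 : ∀ i, i < 73689 → P i := stepQ 73688 Q73688 (allL N73688 (tt N102082 F435640) (tt N87078 (iv0 F378304)) (tt N79304 (iv2 F344506)) (tt N58416 F362618) (tt N72897 F362619) (tt N40800 (iv5 D142502)) (tt N79302 F362620) (tt N91507 (iv7 F393419)))
theorem Q73690 : ∀ i, i < 73690 → P i := stepQ 73689 Q73689 (allL N73689 (tt N104737 (iv1 F447049)) (tt N108256 (iv0 F461728)) (tt N108264 (iv2 F461769)) (tt N106109 (iv3 F453156)) (tt N47695 F344497) (tt N108283 D211505) (tt N40800 (iv6 D142503)) (tt N76248 F344498))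
theorem Q73691 : ∀ i, i < 73691 → P i := stepQ 73690 Q73690 (allL N73690 (tt N94753 (iv1 F405819)) (tt N94750 F405811) (tt N94739 F405774) (tt N95023 (iv3 F406694)) (tt N40801 (iv4 D142506)) (tt N108284 D211506) (tt N65487 F395312) (tt N94749 (iv7 F405806)))
theorem Q73692 : ∀ i, i < 73692 → P i := stepQ 73691 Q73691 (allL N73691 (tt N95037 F406755) (tt N95040 (iv0 F406770)) (tt N95144 (iv2 F407218)) (tt N71028 F349588) (tt N94749 (iv4 F405809)) (tt N40802 F225405) (tt N108285 D211507) (tt N40801 (iv7 D142507)))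
theorem Q73693 : ∀ i, i < 73693 → P i := stepQ 73692 Q73692 (allL N73692 (tt N45277 F337190) (tt N43108 F337191) (tt N44015 F322308) (tt N40805 F225406) (tt N99544 (iv4 F425079)) (tt N64392 (iv5 F332481)) (tt N40803 (iv6 D142508)) (tt N45276 F322309))
theorem Q73694 : ∀ i, i < 73694 → P i := stepQ 73693 Q73693 (allL N73693 (tt N40806 (iv1 F225408)) (tt N40804 (iv0 D142509)) (tt N74337 F227368) (tt N100151 (iv3 F427720)) (tt N56021 F225407) (tt N98140 (iv5 F419657)) (tt N47980 F319629) (tt N74336 F227364))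
theorem Q73695 : ∀ i, i < 73695 → P i := stepQ 73694 Q73694 (allL N73694 (tt N96971 F414862) (tt N81326 (iv0 F403145)) (tt N75017 (iv2 F230106)) (tt N40804 (iv3 D142511)) (tt N99543 (iv4 F425073)) (tt N94085 F403139) (tt N94087 (iv6 F403143)) (tt N74338 (iv7 F227371)))
theorem Q73696 : ∀ i, i < 73696 → P i := stepQ 73695 Q73695 (allL N73695 (tt N75603 F340953) (tt N73973 F340957) (tt N74355 (iv2 F227423)) (tt N64392 (iv3 F340956)) (tt N52828 (iv4 F340955)) (tt N40805 (iv5 D142516)) (tt N62679 F225412) (tt N75607 (iv7 F337173)))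
theorem Q73697 : ∀ i, i < 73697 → P i := stepQ 73696 Q73696 (allL N73696 (tt N75390 F362021) (tt N94091 F403162) (tt N74339 (iv2 F227372)) (tt N75016 (iv3 F230102)) (tt N74766 F229067) (tt N40806 (iv5 D142520)) (tt N78979 (iv6 F342989)) (tt N74353 (iv7 F227419)))
theorem Q73698 : ∀ i, i < 73698 → P i := stepQ 73697 Q73697 (allL N73697 (tt N100489 F429142) (tt N94177 (iv0 F403561)) (tt N74340 (iv2 F227374)) (tt N41936 (iv3 F323537)) (tt N40807 F225418) (tt N82181 F354245) (tt N40806 (iv6 D142521)) (tt N99560 (iv7 F425164)))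
theorem Q73699 : ∀ i, i < 73699 → P i := stepQ 73698 Q73698 (allL N73698 (tt N46434 F355110) (tt N108286 D211508) (tt N108287 D211509) (tt N40809 (iv3 D142528)) (tt N73586 F225420) (tt N74838 (iv5 F229440)) (tt N108288 D211510) (tt N99578 (iv7 F425256)))
theorem Q73700 : ∀ i, i < 73700 → P i := stepQ 73699 Q73699 (allL N73699 (tt N44895 F339408) (tt N82240 F339409) (tt N82238 (iv2 F351003)) (tt N108288 (iv3 F461898)) (tt N73583 F225421) (tt N48110 F330654) (tt N40809 (iv6 D142529)) (tt N82239 (iv7 F353470)))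
theorem Q73701 : ∀ i, i < 73701 → P i := stepQ 73700 Q73700 (allL N73700 (tt N78376 (iv1 F248519)) (tt N40810 (iv0 D142530)) (tt N61103 (iv2 F352070)) (tt N42074 F350778) (tt N61094 F330334) (tt N41017 F225422) (tt N94043 F402951) (tt N61106 (iv7 F352136)))
theorem Q73702 : ∀ i, i < 73702 → P i := stepQ 73701 Q73701 (allL N73701 (tt N40810 (iv1 D142531)) (tt N78376 F248520) (tt N61106 (iv2 F352133)) (tt N46433 F352182) (tt N61095 F330335) (tt N41018 F225423) (tt N63745 F352063) (tt N61103 (iv7 F352073)))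
theorem Q73703 : ∀ i, i < 73703 → P i := stepQ 73702 Q73702 (allL N73702 (tt N47562 F319101) (tt N40811 (iv0 D142533)) (tt N47030 F319102) (tt N47580 F319103) (tt N73370 (iv4 F352584)) (tt N47029 F319104) (tt N73369 F350988) (tt N47561 F319105))
theorem Q73704 : ∀ i, i < 73704 → P i := stepQ 73703 Q73703 (allL N73703 (tt N47561 F330292) (tt N47030 F330293) (tt N47562 F319108) (tt N41703 F225426) (tt N40814 F225427) (tt N70090 F330258) (tt N43942 F318663) (tt N40811 (iv7 D142536)))
theorem Q73705 : ∀ i, i < 73705 → P i := stepQ 73704 Q73704 (allL N73704 (tt N78107 F340098) (tt N76444 F348301) (tt N40828 F340107) (tt N40812 (iv3 D142538)) (tt N78177 (iv4 F348300)) (tt N87462 (iv5 F379411)) (tt N40826 F340108) (tt N107124 (iv7 F457085)))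
theorem Q73706 : ∀ i, i < 73706 → P i := stepQ 73705 Q73705 (allL N73705 (tt N108289 D211511) (tt N105031 (iv0 F448476)) (tt N91417 (iv2 F393047)) (tt N40816 (iv3 D142565)) (tt N107967 (iv4 F460520)) (tt N87070 (iv5 F378277)) (tt N55288 F354456) (tt N107990 (iv7 F460622)))
theorem Q73707 : ∀ i, i < 73707 → P i := stepQ 73706 Q73706 (allL N73706 (tt N90681 (iv1 F390509)) (tt N90679 F390498) (tt N90680 F390500) (tt N40817 (iv3 D142585)) (tt N77717 F361854) (tt N79644 F361852) (tt N91416 (iv6 F393044)) (tt N77710 (iv7 F361853)))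
theorem Q73708 : ∀ i, i < 73708 → P i := stepQ 73707 Q73707 (allL N73707 (tt N96888 F414454) (tt N108249 F461687) (tt N108265 (iv2 F461775)) (tt N91416 (iv3 F393041)) (tt N40819 F225458) (tt N108290 D211512) (tt N40817 (iv6 D142587)) (tt N63775 F366260))
theorem Q73709 : ∀ i, i < 73709 → P i := stepQ 73708 Q73708 (allL N73708 (tt N45308 F345703) (tt N72685 (iv0 F349381)) (tt N99792 F426238) (tt N42956 F320611) (tt N100573 (iv4 F429523)) (tt N42955 F320612) (tt N40821 (iv6 D142603)) (tt N44886 F320613))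
theorem Q73710 : ∀ i, i < 73710 → P i := stepQ 73709 Q73709 (allL N73709 (tt N100425 (iv1 F428920)) (tt N40822 (iv0 D142604)) (tt N108072 (iv2 F460999)) (tt N96228 F411606) (tt N108291 D211513) (tt N108292 D211514) (tt N80014 (iv6 F411607)) (tt N108071 F460994))
theorem Q73711 : ∀ i, i < 73711 → P i := stepQ 73710 Q73710 (allL N73710 (tt N40822 (iv1 D142605)) (tt N100425 (iv0 F428918)) (tt N108071 F460993) (tt N85605 (iv3 F393569)) (tt N91541 (iv4 F393567)) (tt N85604 F393570) (tt N91539 F393568) (tt N108072 (iv7 F460996)))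
theorem Q73712 : ∀ i, i < 73712 → P i := stepQ 73711 Q73711 (allL N73711 (tt N62941 F365651) (tt N108293 D211515) (tt N105700 (iv2 F451314)) (tt N72817 F366165) (tt N95145 (iv4 F407225)) (tt N40822 (iv5 D142607)) (tt N103887 (iv6 F443217)) (tt N108073 (iv7 F461005)))
theorem Q73713 : ∀ i, i < 73713 → P i := stepQ 73712 Q73712 (allL N73712 (tt N72677 (iv1 F225468)) (tt N40824 (iv0 D142610)) (tt N59966 (iv2 F225467)) (tt N75787 (iv3 F233927)) (tt N72782 F225466) (tt N42122 F225465) (tt N81366 F348536) (tt N72680 F225469))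
theorem Q73714 : ∀ i, i < 73714 → P i := stepQ 73713 Q73713 (allL N73713 (tt N100664 F429907) (tt N75938 (iv0 F362061)) (tt N99583 (iv2 F425278)) (tt N41820 F225470) (tt N40825 F225471) (tt N67975 F359633) (tt N40824 (iv6 D142611)) (tt N67974 (iv7 F359636)))
theorem Q73715 : ∀ i, i < 73715 → P i := stepQ 73714 Q73714 (allL N73714 (tt N66546 F225491) (tt N72697 F225492) (tt N40827 F225489) (tt N80019 (iv3 F259446)) (tt N40826 (iv4 D142621)) (tt N73912 (iv5 F226203)) (tt N78177 F348302) (tt N40931 F225490))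
theorem Q73716 : ∀ i, i < 73716 → P i := stepQ 73715 Q73715 (allL N73715 (tt N107124 (iv1 F457084)) (tt N40828 (iv0 D142625)) (tt N78107 F356832) (tt N101753 (iv3 F434187)) (tt N78105 F356833) (tt N76445 F356834) (tt N45290 F356835) (tt N76444 F356836))
theorem Q73717 : ∀ i, i < 73717 → P i := stepQ 73716 Q73716 (allL N73716 (tt N77557 (iv1 F334935)) (tt N77547 (iv0 F334934)) (tt N87462 (iv2 F379409)) (tt N40831 F225501) (tt N76137 F334931) (tt N40828 (iv5 D142627)) (tt N58548 F225502) (tt N87464 (iv7 F379420)))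
theorem Q73718 : ∀ i, i < 73718 → P i := stepQ 73717 Q73717 (allL N73717 (tt N76444 (iv1 F356821)) (tt N78107 (iv0 F340100)) (tt N107124 (iv2 F457089)) (tt N40832 F225503) (tt N78175 (iv4 F338223)) (tt N87464 (iv5 F379418)) (tt N45272 F314031) (tt N40828 (iv7 D142628)))
theorem Q73719 : ∀ i, i < 73719 → P i := stepQ 73718 Q73718 (allL N73718 (tt N40872 F335121) (tt N52606 F335122) (tt N74696 (iv2 F335128)) (tt N40830 (iv3 D142631)) (tt N98765 (iv4 F422214)) (tt N75191 F335124) (tt N73408 F335125) (tt N72686 F225509))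
theorem Q73720 : ∀ i, i < 73720 → P i := stepQ 73719 Q73719 (allL N73719 (tt N63044 (iv1 F225524)) (tt N43940 F313155) (tt N72687 F225522) (tt N87464 (iv3 F379417)) (tt N47510 F336914) (tt N40832 F225523) (tt N44554 F313156) (tt N40831 (iv7 D142636)))
theorem Q73721 : ∀ i, i < 73721 → P i := stepQ 73720 Q73720 (allL N73720 (tt N40894 F364172) (tt N40940 F364173) (tt N40833 (iv2 D142648)) (tt N74342 (iv3 F364175)) (tt N105831 (iv4 F451923)) (tt N108294 D211516) (tt N45276 F364174) (tt N40939 F326893))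
theorem Q73722 : ∀ i, i < 73722 → P i := stepQ 73721 Q73721 (allL N73721 (tt N106994 (iv1 F456566)) (tt N105898 (iv0 F452247)) (tt N105831 (iv2 F451918)) (tt N41937 F225532) (tt N40833 (iv4 D142649)) (tt N70051 (iv5 F335168)) (tt N100426 (iv6 F428923)) (tt N99542 (iv7 F425072)))
theorem Q73723 : ∀ i, i < 73723 → P i := stepQ 73722 Q73722 (allL N73722 (tt N45073 F315212) (tt N73942 F326894) (tt N108294 (iv2 F461930)) (tt N40834 F225533) (tt N79905 (iv4 F349010)) (tt N40833 (iv5 D142650)) (tt N69416 (iv6 F335182)) (tt N63073 (iv7 F314048)))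
theorem Q73724 : ∀ i, i < 73724 → P i := stepQ 73723 Q73723 (allL N73723 (tt N64781 F359464) (tt N105293 (iv0 F449599)) (tt N73833 (iv2 F347287)) (tt N66546 F359461) (tt N40835 (iv4 D142664)) (tt N73831 (iv5 F347286)) (tt N44867 F316210) (tt N99562 (iv7 F425174)))
theorem Q73725 : ∀ i, i < 73725 → P i := stepQ 73724 Q73724 (allL N73724 (tt N40895 (iv1 F225559)) (tt N40944 F225558) (tt N40836 (iv2 D142670)) (tt N82094 F314490) (tt N108295 D211517) (tt N73194 F225556) (tt N92213 F396293) (tt N40942 F225557))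
theorem Q73726 : ∀ i, i < 73726 → P i := stepQ 73725 Q73725 (allL N73725 (tt N98755 F422173) (tt N85788 F373943) (tt N108295 (iv2 F461937)) (tt N66562 (iv3 F366050)) (tt N40836 (iv4 D142671)) (tt N76402 F355732) (tt N92221 (iv6 F396334)) (tt N99561 (iv7 F425168)))
theorem Q73727 : ∀ i, i < 73727 → P i := stepQ 73726 Q73726 (allL N73726 (tt N73732 (iv1 F225615)) (tt N57002 (iv0 F225606)) (tt N58902 F225587) (tt N40843 (iv3 D142696)) (tt N56352 F225588) (tt N74669 (iv5 F228520)) (tt N108296 D211518) (tt N66558 F225589))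
theorem Q73728 : ∀ i, i < 73728 → P i := stepQ 73727 Q73727 (allL N73727 (tt N60026 F225591) (tt N62579 F225592) (tt N74536 F228326) (tt N74669 (iv3 F228521)) (tt N87630 (iv4 F379942)) (tt N40843 (iv5 D142697)) (tt N91610 (iv6 F393774)) (tt N66559 F225590))
theorem Q73729 : ∀ i, i < 73729 → P i := stepQ 73728 Q73728 (allL N73728 (tt N75282 F350011) (tt N75358 (iv0 F357290)) (tt N75355 F360685) (tt N108296 (iv3 F461944)) (tt N66544 F225593) (tt N108297 D211519) (tt N40843 (iv6 D142698)) (tt N75354 (iv7 F360693)))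
theorem Q73730 : ∀ i, i < 73730 → P i := stepQ 73729 Q73729 (allL N73729 (tt N40881 F342508) (tt N40884 F342509) (tt N66560 F225598) (tt N58904 F225599) (tt N66557 F225600) (tt N77094 (iv5 F364621)) (tt N40844 (iv6 D142700)) (tt N101790 (iv7 F434358)))
theorem Q73731 : ∀ i, i < 73731 → P i := stepQ 73730 Q73730 (allL N73730 (tt N40845 (iv1 D142701)) (tt N57046 F225605) (tt N56776 F225604) (tt N59180 (iv3 F225603)) (tt N56774 (iv4 F225602)) (tt N74668 (iv5 F228513)) (tt N108298 D211520) (tt N56771 F225601))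
theorem Q73732 : ∀ i, i < 73732 → P i := stepQ 73731 Q73731 (allL N73731 (tt N56771 (iv1 F225612)) (tt N56776 F225611) (tt N40845 (iv2 D142702)) (tt N56369 F225609) (tt N85236 F371993) (tt N92895 (iv5 F398687)) (tt N89770 (iv6 F387498)) (tt N57046 F225610))
theorem Q73733 : ∀ i, i < 73733 → P i := stepQ 73732 Q73732 (allL N73732 (tt N59192 F225614) (tt N73726 F225615) (tt N92895 (iv2 F398686)) (tt N40846 F225613) (tt N93797 (iv4 F401928)) (tt N40845 (iv5 D142703)) (tt N108299 D211521) (tt N93647 (iv7 F401426)))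
theorem Q73734 : ∀ i, i < 73734 → P i := stepQ 73733 Q73733 (allL N73733 (tt N108300 D211522) (tt N96173 (iv0 F457620)) (tt N93642 (iv2 F401406)) (tt N108299 (iv3 F461959)) (tt N96071 (iv4 F410907)) (tt N107244 (iv5 F457619)) (tt N40846 (iv6 D142705)) (tt N108301 D211523))
theorem Q73735 : ∀ i, i < 73735 → P i := stepQ 73734 Q73734 (allL N73734 (tt N87160 F378580) (tt N87627 F379932) (tt N87523 (iv2 F379649)) (tt N55779 F364978) (tt N74044 F226685) (tt N40847 (iv5 D142713)) (tt N103999 (iv6 F443718)) (tt N61109 (iv7 F331569)))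
theorem Q73736 : ∀ i, i < 73736 → P i := stepQ 73735 Q73735 (allL N73735 (tt N42600 F317993) (tt N80141 F317994) (tt N80143 F353113) (tt N55780 F317995) (tt N40848 F225624) (tt N86312 (iv5 F375795)) (tt N40847 (iv6 D142714)) (tt N80144 F353109))
theorem Q73737 : ∀ i, i < 73737 → P i := stepQ 73736 Q73736 (allL N73736 (tt N40903 (iv1 F225635)) (tt N40873 F225633) (tt N40906 F225629) (tt N40947 F225630) (tt N73399 F225632) (tt N40849 (iv5 D142733)) (tt N77002 F346221) (tt N40898 F225631))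
theorem Q73738 : ∀ i, i < 73738 → P i := stepQ 73737 Q73737 (allL N73737 (tt N41005 F338960) (tt N82189 (iv0 F361579)) (tt N40853 F225639) (tt N65273 F338948) (tt N108036 (iv4 F460828)) (tt N47739 F322336) (tt N40850 (iv6 D142735)) (tt N65267 (iv7 F339011)))
theorem Q73739 : ∀ i, i < 73739 → P i := stepQ 73738 Q73738 (allL N73738 (tt N92916 F398755) (tt N108302 D211524) (tt N57047 (iv2 F225642)) (tt N40851 (iv3 D142736)) (tt N40854 F225640) (tt N108303 D211525) (tt N108304 D211526) (tt N57045 F225641))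
theorem Q73740 : ∀ i, i < 73740 → P i := stepQ 73739 Q73739 (allL N73739 (tt N74306 (iv1 F227277)) (tt N74304 (iv0 F227259)) (tt N107575 F458813) (tt N108303 (iv3 F461973)) (tt N97386 (iv4 F416648)) (tt N40851 (iv5 D142737)) (tt N108305 D211527) (tt N99553 (iv7 F425121)))
theorem Q73741 : ∀ i, i < 73741 → P i := stepQ 73740 Q73740 (allL N73740 (tt N94471 (iv1 F404611)) (tt N94402 F404315) (tt N108036 (iv2 F460826)) (tt N108304 (iv3 F461976)) (tt N40853 F225643) (tt N108306 D211528) (tt N40851 (iv6 D142738)) (tt N94458 (iv7 F404551)))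
theorem Q73742 : ∀ i, i < 73742 → P i := stepQ 73741 Q73741 (allL N73741 (tt N56028 F225646) (tt N42585 F319636) (tt N66739 F225644) (tt N87708 (iv3 F380212)) (tt N40852 (iv4 D142739)) (tt N58635 (iv5 F225648)) (tt N98125 (iv6 F419568)) (tt N66738 F225645))
theorem Q73743 : ∀ i, i < 73743 → P i := stepQ 73742 Q73742 (allL N73742 (tt N87916 F381105) (tt N77551 (iv0 F346223)) (tt N99996 (iv2 F427105)) (tt N40858 F225655) (tt N98125 (iv4 F419567)) (tt N47740 F321823) (tt N40852 (iv6 D142740)) (tt N80498 F321824))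
theorem Q73744 : ∀ i, i < 73744 → P i := stepQ 73743 Q73743 (allL N73743 (tt N65267 F347178) (tt N40853 (iv0 D142741)) (tt N41005 F339012) (tt N77696 F339014) (tt N73330 (iv4 F342366)) (tt N78312 (iv5 F339013)) (tt N77693 (iv6 F340774)) (tt N82189 (iv7 F361582)))
theorem Q73745 : ∀ i, i < 73745 → P i := stepQ 73744 Q73744 (allL N73744 (tt N59886 F331104) (tt N57170 (iv0 F342481)) (tt N57048 F225658) (tt N40856 F225659) (tt N108304 (iv4 F461977)) (tt N59403 (iv5 F331098)) (tt N40854 (iv6 D142745)) (tt N73082 F331103))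
theorem Q73746 : ∀ i, i < 73746 → P i := stepQ 73745 Q73745 (allL N73745 (tt N96030 (iv1 F410721)) (tt N55284 (iv0 F363562)) (tt N96042 F410768) (tt N59668 (iv3 F363565)) (tt N55235 F363563) (tt N103453 (iv5 F441706)) (tt N40855 (iv6 D142746)) (tt N93407 (iv7 F400654)))
theorem Q73747 : ∀ i, i < 73747 → P i := stepQ 73746 Q73746 (allL N73746 (tt N47749 F322338) (tt N40856 (iv0 D142747)) (tt N80348 (iv2 F366258)) (tt N96154 (iv3 F411263)) (tt N47725 F322339) (tt N94731 (iv5 F405712)) (tt N103169 (iv6 F440386)) (tt N80351 F366259))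
theorem Q73748 : ∀ i, i < 73748 → P i := stepQ 73747 Q73747 (allL N73747 (tt N40856 (iv1 D142748)) (tt N47749 F322340) (tt N80351 (iv2 F366256)) (tt N101665 (iv3 F433758)) (tt N47726 F322341) (tt N94732 (iv5 F405714)) (tt N107824 (iv6 F459865)) (tt N80348 (iv7 F366257)))
theorem Q73749 : ∀ i, i < 73749 → P i := stepQ 73748 Q73748 (allL N73748 (tt N47768 F322342) (tt N47735 F322343) (tt N99552 (iv2 F425114)) (tt N59403 F331102) (tt N47751 F322344) (tt N40856 (iv5 D142749)) (tt N103453 (iv6 F441704)) (tt N73081 (iv7 F360010)))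
theorem Q73750 : ∀ i, i < 73750 → P i := stepQ 73749 Q73749 (allL N73749 (tt N87627 (iv1 F379933)) (tt N87160 F378581) (tt N61109 (iv2 F331568)) (tt N92639 (iv3 F397718)) (tt N74043 F226682) (tt N40857 (iv5 D142752)) (tt N98124 (iv6 F419564)) (tt N87523 (iv7 F379651)))
theorem Q73751 : ∀ i, i < 73751 → P i := stepQ 73750 Q73750 (allL N73750 (tt N40865 F323804) (tt N78183 F322203) (tt N41050 F322209) (tt N93742 F401740) (tt N40859 (iv4 D142765)) (tt N97662 (iv5 F417831)) (tt N108307 D211529) (tt N81718 F322204))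
theorem Q73752 : ∀ i, i < 73752 → P i := stepQ 73751 Q73751 (allL N73751 (tt N77107 (iv1 F350130)) (tt N40882 F351583) (tt N41052 F322210) (tt N95345 F407939) (tt N108307 (iv4 F461990)) (tt N74706 (iv5 F228616)) (tt N40859 (iv6 D142767)) (tt N101789 (iv7 F434350)))
theorem Q73753 : ∀ i, i < 73753 → P i := stepQ 73752 Q73752 (allL N73752 (tt N40869 F225667) (tt N40860 (iv0 D142772)) (tt N40866 F353394) (tt N108308 D211530) (tt N62438 F225666) (tt N107900 (iv5 F460186)) (tt N73177 F348834) (tt N40867 F353395))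
theorem Q73754 : ∀ i, i < 73754 → P i := stepQ 73753 Q73753 (allL N73753 (tt N40860 (iv1 D142773)) (tt N40869 F225668) (tt N40867 F353396) (tt N93784 F401872) (tt N76143 (iv4 F353398)) (tt N101783 (iv5 F434329)) (tt N77103 F353399) (tt N40866 F353397))
theorem Q73755 : ∀ i, i < 73755 → P i := stepQ 73754 Q73754 (allL N73754 (tt N108309 D211531) (tt N108310 D211532) (tt N40868 F225669) (tt N77109 (iv3 F345150)) (tt N50649 (iv4 F345151)) (tt N40860 (iv5 D142774)) (tt N50648 F345148) (tt N77085 (iv7 F330105)))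
theorem Q73756 : ∀ i, i < 73756 → P i := stepQ 73755 Q73755 (allL N73755 (tt N61705 (iv1 F363060)) (tt N98761 F422200) (tt N41622 F225674) (tt N40861 (iv3 D142776)) (tt N41694 F225675) (tt N41154 (iv5 F225676)) (tt N61441 F330342) (tt N98760 (iv7 F422193)))
theorem Q73757 : ∀ i, i < 73757 → P i := stepQ 73756 Q73756 (allL N73756 (tt N87521 (iv1 F379644)) (tt N87520 F379641) (tt N40878 F225677) (tt N41154 F225678) (tt N41163 F225679) (tt N40861 (iv5 D142777)) (tt N87533 (iv6 F379682)) (tt N74045 (iv7 F226689)))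
theorem Q73758 : ∀ i, i < 73758 → P i := stepQ 73757 Q73757 (allL N73757 (tt N66560 (iv1 F348359)) (tt N101790 F434357) (tt N40884 F322375) (tt N108158 (iv3 F461336)) (tt N40862 (iv4 D142789)) (tt N101254 (iv5 F432414)) (tt N77108 (iv6 F366251)) (tt N40881 F322376))
theorem Q73759 : ∀ i, i < 73759 → P i := stepQ 73758 Q73758 (allL N73758 (tt N92907 (iv1 F398730)) (tt N40864 (iv0 D142801)) (tt N57132 (iv2 F359132)) (tt N92915 (iv3 F398751)) (tt N59034 (iv4 F359135)) (tt N96054 (iv5 F410826)) (tt N108311 D211533) (tt N59031 F359137))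
theorem Q73760 : ∀ i, i < 73760 → P i := stepQ 73759 Q73759 (allL N73759 (tt N57132 (iv1 F225706)) (tt N59031 F225705) (tt N40864 (iv2 D142802)) (tt N93629 (iv3 F401343)) (tt N71679 (iv4 F361551)) (tt N57100 F225704) (tt N71678 F361553) (tt N92907 (iv7 F398731)))
theorem Q73761 : ∀ i, i < 73761 → P i := stepQ 73760 Q73760 (allL N73760 (tt N106801 (iv1 F455741)) (tt N106799 (iv0 F455733)) (tt N71678 (iv2 F361554)) (tt N40865 F225707) (tt N70944 (iv4 F361540)) (tt N108312 D211534) (tt N40864 (iv6 D142803)) (tt N71673 F361559))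
theorem Q73762 : ∀ i, i < 73762 → P i := stepQ 73761 Q73761 (allL N73761 (tt N93839 (iv1 F402098)) (tt N96448 (iv0 F412566)) (tt N81720 F361746) (tt N108312 (iv3 F462018)) (tt N81673 (iv4 F347428)) (tt N40865 (iv5 D142806)) (tt N96009 F410617) (tt N81721 F361747))
theorem Q73763 : ∀ i, i < 73763 → P i := stepQ 73762 Q73762 (allL N73762 (tt N93786 (iv1 F449042)) (tt N93777 (iv0 F423385)) (tt N93783 F401875) (tt N40866 (iv3 D142809)) (tt N99113 (iv4 F423382)) (tt N105649 (iv5 F451106)) (tt N108313 D211535) (tt N93784 (iv7 F401873)))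
theorem Q73764 : ∀ i, i < 73764 → P i := stepQ 73763 Q73763 (allL N73763 (tt N108314 D211536) (tt N78234 F361915) (tt N107900 (iv2 F460184)) (tt N105649 (iv3 F451103)) (tt N101786 (iv4 F434335)) (tt N40866 (iv5 D142811)) (tt N99348 (iv6 F424211)) (tt N101783 (iv7 F434327)))
theorem Q73765 : ∀ i, i < 73765 → P i := stepQ 73764 Q73764 (allL N73764 (tt N108307 F461992) (tt N102399 F437070) (tt N73177 (iv2 F353392)) (tt N108313 (iv3 F462023)) (tt N72228 F350102) (tt N74702 F353388) (tt N40866 (iv6 D142812)) (tt N73173 (iv7 F353393)))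
theorem Q73766 : ∀ i, i < 73766 → P i := stepQ 73765 Q73765 (allL N73765 (tt N108311 F462015) (tt N108315 D211537) (tt N108316 D211538) (tt N40867 (iv3 D142814)) (tt N96145 F411237) (tt N105631 F451037) (tt N108317 D211539) (tt N108308 (iv7 F461997)))
theorem Q73767 : ∀ i, i < 73767 → P i := stepQ 73766 Q73766 (allL N73766 (tt N78234 F359209) (tt N108314 F462027) (tt N101783 (iv2 F434324)) (tt N105631 (iv3 F451034)) (tt N83106 (iv4 F360595)) (tt N40867 (iv5 D142816)) (tt N83105 F360597) (tt N107900 (iv7 F460187)))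
theorem Q73768 : ∀ i, i < 73768 → P i := stepQ 73767 Q73767 (allL N73767 (tt N63199 F353414) (tt N77105 (iv0 F353411)) (tt N77103 (iv2 F353400)) (tt N108317 (iv3 F462035)) (tt N55187 F353401) (tt N108318 D211540) (tt N40867 (iv6 D142817)) (tt N77102 (iv7 F353406)))
theorem Q73769 : ∀ i, i < 73769 → P i := stepQ 73768 Q73768 (allL N73768 (tt N77085 (iv1 F330103)) (tt N40868 (iv0 D142818)) (tt N108309 (iv2 F462003)) (tt N58695 F358854) (tt N107968 (iv4 F460527)) (tt N76884 F330096) (tt N58689 (iv6 F358851)) (tt N108310 (iv7 F462006)))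
theorem Q73770 : ∀ i, i < 73770 → P i := stepQ 73769 Q73769 (allL N73769 (tt N40868 (iv1 D142819)) (tt N77085 F330106) (tt N108310 (iv2 F462011)) (tt N108319 D211541) (tt N82658 (iv4 F350094)) (tt N66874 F350093) (tt N98249 (iv6 F420168)) (tt N108309 (iv7 F462004)))
theorem Q73771 : ∀ i, i < 73771 → P i := stepQ 73770 Q73770 (allL N73770 (tt N108310 (iv1 F462005)) (tt N108309 F462001) (tt N77085 F330104) (tt N59161 F225713) (tt N85608 (iv4 F373193)) (tt N40869 F225714) (tt N94612 (iv6 F405210)) (tt N40868 (iv7 D142821)))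
theorem Q73772 : ∀ i, i < 73772 → P i := stepQ 73771 Q73771 (allL N73771 (tt N40874 (iv1 F225717)) (tt N40871 (iv0 D142823)) (tt N74677 F228533) (tt N99561 (iv3 F425166)) (tt N66543 F225716) (tt N87160 (iv5 F378579)) (tt N92818 (iv6 F398371)) (tt N66562 (iv7 F225718)))
theorem Q73773 : ∀ i, i < 73773 → P i := stepQ 73772 Q73772 (allL N73772 (tt N74848 F335126) (tt N99496 (iv0 F424859)) (tt N74695 (iv2 F228576)) (tt N61563 (iv3 F348980)) (tt N40872 F225722) (tt N56687 (iv5 F358365)) (tt N40871 (iv6 D142827)) (tt N92193 (iv7 F396184)))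
theorem Q73774 : ∀ i, i < 73774 → P i := stepQ 73773 Q73773 (allL N73773 (tt N52606 (iv1 F334475)) (tt N40872 (iv0 D142828)) (tt N72686 F348973) (tt N41925 F348974) (tt N69515 F348975) (tt N41923 F348976) (tt N43642 F348977) (tt N74696 F348978))
theorem Q73775 : ∀ i, i < 73775 → P i := stepQ 73774 Q73774 (allL N73774 (tt N74696 (iv1 F228578)) (tt N72686 (iv0 F335137)) (tt N52606 (iv2 F334476)) (tt N80440 F364495) (tt N92193 (iv4 F396183)) (tt N52343 F335139) (tt N74678 (iv6 F228544)) (tt N40872 (iv7 D142831)))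
theorem Q73776 : ∀ i, i < 73776 → P i := stepQ 73775 Q73775 (allL N73775 (tt N40906 (iv1 F225728)) (tt N40898 F225727) (tt N40873 (iv2 D142832)) (tt N72981 F225724) (tt N96753 (iv4 F413777)) (tt N62584 F225725) (tt N80310 (iv6 F334993)) (tt N40903 F225726))
theorem Q73777 : ∀ i, i < 73777 → P i := stepQ 73776 Q73776 (allL N73776 (tt N56026 F225730) (tt N56018 F225731) (tt N96753 (iv2 F413773)) (tt N108320 D211542) (tt N40873 (iv4 D142833)) (tt N58498 F225729) (tt N75941 F362063) (tt N74684 (iv7 F228559)))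
theorem Q73778 : ∀ i, i < 73778 → P i := stepQ 73777 Q73777 (allL N73777 (tt N80491 F337084) (tt N45269 F334999) (tt N80310 F334994) (tt N40875 F225732) (tt N75941 (iv4 F362060)) (tt N78595 (iv5 F334996)) (tt N40873 (iv6 D142834)) (tt N80489 (iv7 F334997)))
theorem Q73779 : ∀ i, i < 73779 → P i := stepQ 73778 Q73778 (allL N73778 (tt N56193 (iv1 F364253)) (tt N74431 (iv0 F227881)) (tt N85776 (iv2 F373886)) (tt N40874 (iv3 D142835)) (tt N108320 (iv4 F462046)) (tt N56652 F331576) (tt N46069 F331577) (tt N74693 (iv7 F228573)))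
theorem Q73780 : ∀ i, i < 73780 → P i := stepQ 73779 Q73779 (allL N73779 (tt N56637 (iv1 F331570)) (tt N73164 F350235) (tt N60285 (iv2 F325371)) (tt N56652 F331453) (tt N74038 (iv4 F226666)) (tt N40874 (iv5 D142836)) (tt N86671 (iv6 F376754)) (tt N74694 (iv7 F228575)))
theorem Q73781 : ∀ i, i < 73781 → P i := stepQ 73780 Q73780 (allL N73780 (tt N61586 (iv1 F334779)) (tt N61579 (iv0 F334782)) (tt N47591 F330299) (tt N40876 (iv3 D142842)) (tt N42009 F225735) (tt N91232 (iv5 F392369)) (tt N47032 F330300) (tt N51288 F334777))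
theorem Q73782 : ∀ i, i < 73782 → P i := stepQ 73781 Q73781 (allL N73781 (tt N73677 F225736) (tt N61339 (iv0 F318200)) (tt N73964 F226344) (tt N91232 (iv3 F392368)) (tt N96058 (iv4 F410845)) (tt N40876 (iv5 D142843)) (tt N87551 (iv6 F379738)) (tt N73963 F226341))
theorem Q73783 : ∀ i, i < 73783 → P i := stepQ 73782 Q73782 (allL N73782 (tt N74045 (iv1 F226691)) (tt N40878 (iv0 D142848)) (tt N87521 (iv2 F379648)) (tt N92204 (iv3 F396233)) (tt N52126 (iv4 F340516)) (tt N41021 F225742) (tt N108321 D211543) (tt N87520 F379643))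
theorem Q73784 : ∀ i, i < 73784 → P i := stepQ 73783 Q73783 (allL N73783 (tt N40878 (iv1 D142849)) (tt N74045 (iv0 F226690)) (tt N87520 F379642) (tt N91228 (iv3 F392355)) (tt N52125 (iv4 F363581)) (tt N41022 F225743) (tt N91227 (iv6 F392352)) (tt N87521 (iv7 F379645)))
theorem Q73785 : ∀ i, i < 73785 → P i := stepQ 73784 Q73784 (allL N73784 (tt N87531 (iv1 F379677)) (tt N70816 (iv0 F374938)) (tt N87533 (iv2 F379679)) (tt N41649 F225747) (tt N87136 (iv4 F378497)) (tt N68213 F365568) (tt N40878 (iv6 D142851)) (tt N87134 (iv7 F378489)))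
theorem Q73786 : ∀ i, i < 73786 → P i := stepQ 73785 Q73785 (allL N73785 (tt N43677 F320225) (tt N40879 (iv0 D142852)) (tt N61335 F320226) (tt N45031 F320227) (tt N42620 F320228) (tt N70823 F339639) (tt N42619 F320229) (tt N61433 F320230))
theorem Q73787 : ∀ i, i < 73787 → P i := stepQ 73786 Q73786 (allL N73786 (tt N40879 (iv1 D142853)) (tt N43677 F320231) (tt N61433 F320232) (tt N98290 (iv3 F420353)) (tt N73598 (iv4 F320176)) (tt N70824 F335843) (tt N73597 (iv6 F320169)) (tt N61335 F320233))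
theorem Q73788 : ∀ i, i < 73788 → P i := stepQ 73787 Q73787 (allL N73787 (tt N86022 F374937) (tt N108322 D211544) (tt N101758 (iv2 F434211)) (tt N41650 F225748) (tt N108323 D211545) (tt N40879 (iv5 D142854)) (tt N68213 (iv6 F365567)) (tt N61434 F320234))
theorem Q73789 : ∀ i, i < 73789 → P i := stepQ 73788 Q73788 (allL N73788 (tt N99046 (iv1 F423132)) (tt N73989 (iv0 F342469)) (tt N41560 F320593) (tt N40882 F225765) (tt N107841 (iv4 F459951)) (tt N41551 F320592) (tt N40880 (iv6 D142880)) (tt N41556 F320594))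
theorem Q73790 : ∀ i, i < 73790 → P i := stepQ 73789 Q73789 (allL N73789 (tt N40884 (iv1 F225771)) (tt N40881 (iv0 D142882)) (tt N101790 F434356) (tt N108324 D211546) (tt N42867 F322372) (tt N77095 F322373) (tt N75354 F322374) (tt N66560 F342510))
theorem Q73791 : ∀ i, i < 73791 → P i := stepQ 73790 Q73790 (allL N73790 (tt N108325 D211547) (tt N108298 (iv0 F461956)) (tt N107704 (iv2 F459302)) (tt N40881 (iv3 D142884)) (tt N90303 F389280) (tt N107698 F459278) (tt N107699 (iv6 F459281)) (tt N108158 (iv7 F461337)))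
theorem Q73792 : ∀ i, i < 73792 → P i := stepQ 73791 Q73791 (allL N73791 (tt N101789 (iv1 F434349)) (tt N41052 F342445) (tt N77107 (iv2 F342444)) (tt N41556 F342442) (tt N107826 (iv4 F459878)) (tt N41554 F342443) (tt N63200 (iv6 F342446)) (tt N40882 (iv7 D142896)))
theorem Q73793 : ∀ i, i < 73793 → P i := stepQ 73792 Q73792 (allL N73792 (tt N40911 F357849) (tt N76980 F357854) (tt N40883 (iv2 D142900)) (tt N75504 F357850) (tt N100069 (iv4 F427425)) (tt N100492 (iv5 F429160)) (tt N75502 F357851) (tt N77001 (iv7 F357853)))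
theorem Q73794 : ∀ i, i < 73794 → P i := stepQ 73793 Q73793 (allL N73793 (tt N56025 F356232) (tt N82322 F356233) (tt N100069 F427426) (tt N107850 (iv3 F459988)) (tt N40883 (iv4 D142901)) (tt N108326 D211548) (tt N94459 F404555) (tt N100068 F427422))
theorem Q73795 : ∀ i, i < 73795 → P i := stepQ 73794 Q73794 (allL N73794 (tt N102945 (iv1 F439373)) (tt N101851 F434668) (tt N77108 F366250) (tt N101933 (iv3 F434995)) (tt N40885 F225783) (tt N108327 D211549) (tt N40884 (iv6 D142906)) (tt N77106 F350192))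
theorem Q73796 : ∀ i, i < 73796 → P i := stepQ 73795 Q73795 (allL N73795 (tt N73358 (iv1 F350018)) (tt N73359 F350017) (tt N73343 F225831) (tt N72006 F326862) (tt N40889 F225832) (tt N72005 F326863) (tt N40887 (iv6 D142986)) (tt N73390 (iv7 F330614)))
theorem Q73797 : ∀ i, i < 73797 → P i := stepQ 73796 Q73796 (allL N73796 (tt N95527 (iv1 F408498)) (tt N95525 (iv0 F408485)) (tt N40915 F225837) (tt N106742 (iv3 F455502)) (tt N72022 F225839) (tt N40890 (iv5 D142992)) (tt N84096 (iv6 F368086)) (tt N40913 F225838))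
theorem Q73798 : ∀ i, i < 73798 → P i := stepQ 73797 Q73797 (allL N73797 (tt N71402 F225844) (tt N70318 F333083) (tt N40923 F225842) (tt N108328 D211550) (tt N40891 (iv4 D142994)) (tt N73285 (iv5 F353577)) (tt N70244 (iv6 F361805)) (tt N40960 F225843))
theorem Q73799 : ∀ i, i < 73799 → P i := stepQ 73798 Q73798 (allL N73798 (tt N105112 (iv1 F448853)) (tt N76356 F335423) (tt N40924 F225855) (tt N105141 F448964) (tt N70244 (iv4 F361804)) (tt N108329 D211551) (tt N40891 (iv6 D142995)) (tt N88784 (iv7 F384137)))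
theorem Q73800 : ∀ i, i < 73800 → P i := stepQ 73799 Q73799 (allL N73799 (tt N40929 (iv1 F225861)) (tt N40892 (iv0 D142996)) (tt N40926 F335431) (tt N53403 F344584) (tt N44991 F321995) (tt N73908 (iv5 F335427)) (tt N44990 F321996) (tt N40927 F335432))
theorem Q73801 : ∀ i, i < 73801 → P i := stepQ 73800 Q73800 (allL N73800 (tt N40892 (iv1 D142997)) (tt N40929 F225856) (tt N40927 F335434) (tt N54187 (iv3 F357286)) (tt N62387 (iv4 F333290)) (tt N73909 (iv5 F335447)) (tt N80087 F335439) (tt N40926 F335435))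
theorem Q73802 : ∀ i, i < 73802 → P i := stepQ 73801 Q73801 (allL N73801 (tt N84265 F368744) (tt N108330 D211552) (tt N40928 F225857) (tt N71980 F341549) (tt N74788 (iv4 F341548)) (tt N40892 (iv5 D142998)) (tt N108329 (iv6 F462089)) (tt N83844 F341550))
theorem Q73803 : ∀ i, i < 73803 → P i := stepQ 73802 Q73802 (allL N73802 (tt N40938 (iv1 F225866)) (tt N40893 (iv0 D143000)) (tt N40933 (iv2 F225865)) (tt N91753 F394309) (tt N71979 F225864) (tt N73904 (iv5 F226174)) (tt N77669 (iv6 F350259)) (tt N40934 F225867))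
theorem Q73804 : ∀ i, i < 73804 → P i := stepQ 73803 Q73803 (allL N73803 (tt N74304 (iv1 F227260)) (tt N74306 (iv0 F227276)) (tt N99553 (iv2 F425119)) (tt N105047 (iv3 F448550)) (tt N102654 (iv4 F438077)) (tt N40896 (iv5 D143019)) (tt N102653 F438073) (tt N107575 (iv7 F458810)))
theorem Q73805 : ∀ i, i < 73805 → P i := stepQ 73804 Q73804 (allL N73804 (tt N42585 F319637) (tt N56028 F225889) (tt N66738 F225885) (tt N51634 (iv3 F318875)) (tt N40897 (iv4 D143021)) (tt N58636 F225888) (tt N108331 D211553) (tt N66739 F225887))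
theorem Q73806 : ∀ i, i < 73806 → P i := stepQ 73805 Q73805 (allL N73805 (tt N40999 F346229) (tt N65193 (iv0 F346228)) (tt N77549 (iv2 F346213)) (tt N63714 (iv3 F346225)) (tt N108331 (iv4 F462100)) (tt N76877 F346224) (tt N40897 (iv6 D143022)) (tt N77239 (iv7 F346227)))
theorem Q73807 : ∀ i, i < 73807 → P i := stepQ 73806 Q73806 (allL N73806 (tt N74685 (iv1 F346243)) (tt N80492 F346242) (tt N40905 F225891) (tt N76444 (iv3 F356817)) (tt N107596 (iv4 F458876)) (tt N41997 F356831) (tt N40898 (iv6 D143027)) (tt N101753 (iv7 F434190)))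
theorem Q73808 : ∀ i, i < 73808 → P i := stepQ 73807 Q73807 (allL N73807 (tt N40908 (iv1 F225896)) (tt N40907 F225897) (tt N40910 F225894) (tt N63781 (iv3 F350012)) (tt N73406 (iv4 F350010)) (tt N74927 F350013) (tt N76980 (iv6 F340779)) (tt N40899 (iv7 D143031)))
theorem Q73809 : ∀ i, i < 73809 → P i := stepQ 73808 Q73808 (allL N73808 (tt N59815 (iv1 F349446)) (tt N92502 F397186) (tt N92471 (iv2 F397106)) (tt N40902 F225899) (tt N40919 F225900) (tt N61950 (iv5 F360858)) (tt N40900 (iv6 D143033)) (tt N92473 (iv7 F397114)))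
theorem Q73810 : ∀ i, i < 73810 → P i := stepQ 73809 Q73809 (allL N73809 (tt N85732 (iv1 F373712)) (tt N108332 D211554) (tt N65390 (iv2 F353521)) (tt N57329 F353522) (tt N40901 (iv4 D143034)) (tt N95110 (iv5 F407087)) (tt N57327 F353523) (tt N92493 (iv7 F397154)))
theorem Q73811 : ∀ i, i < 73811 → P i := stepQ 73810 Q73810 (allL N73810 (tt N40902 (iv1 D143037)) (tt N73406 F350008) (tt N62393 F349977) (tt N72722 (iv3 F349979)) (tt N61381 (iv4 F349976)) (tt N72501 F349980) (tt N108333 D211555) (tt N67105 F349978))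
theorem Q73812 : ∀ i, i < 73812 → P i := stepQ 73811 Q73811 (allL N73811 (tt N69709 (iv1 F353532)) (tt N69712 F353533) (tt N92491 F397150) (tt N61950 F360859) (tt N95962 (iv4 F420718)) (tt N40902 (iv5 D143038)) (tt N94219 (iv6 F403746)) (tt N92472 (iv7 F397110)))
theorem Q73813 : ∀ i, i < 73813 → P i := stepQ 73812 Q73812 (allL N73812 (tt N62393 (iv1 F349996)) (tt N67105 F349966) (tt N73406 F360677) (tt N92473 (iv3 F397113)) (tt N40910 F225901) (tt N92472 F397112) (tt N73612 F360679) (tt N40902 (iv7 D143039)))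
theorem Q73814 : ∀ i, i < 73814 → P i := stepQ 73813 Q73813 (allL N73813 (tt N56018 F225904) (tt N56026 F225905) (tt N74684 (iv2 F228558)) (tt N66669 F225902) (tt N40903 (iv4 D143040)) (tt N58499 F225903) (tt N108334 D211556) (tt N96753 (iv7 F413775)))
theorem Q73815 : ∀ i, i < 73815 → P i := stepQ 73814 Q73814 (allL N73814 (tt N101753 F434192) (tt N40905 F334981) (tt N74685 (iv2 F228567)) (tt N75500 (iv3 F334988)) (tt N108334 (iv4 F462119)) (tt N63803 (iv5 F355311)) (tt N40903 (iv6 D143041)) (tt N80492 F334992))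
theorem Q73816 : ∀ i, i < 73816 → P i := stepQ 73815 Q73815 (allL N73815 (tt N73403 (iv1 F364506)) (tt N87424 F379304) (tt N107596 (iv2 F458875)) (tt N96899 (iv3 F414508)) (tt N40905 F225906) (tt N87095 (iv5 F378360)) (tt N40904 (iv6 D143042)) (tt N91455 (iv7 F393204)))
theorem Q73817 : ∀ i, i < 73817 → P i := stepQ 73816 Q73816 (allL N73816 (tt N40905 (iv1 D143044)) (tt N101753 (iv0 F434191)) (tt N80492 (iv2 F364502)) (tt N52606 (iv3 F364503)) (tt N108335 D211557) (tt N52605 F364505) (tt N80489 (iv6 F364504)) (tt N74685 F364501))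
theorem Q73818 : ∀ i, i < 73818 → P i := stepQ 73817 Q73817 (allL N73817 (tt N80492 F346241) (tt N74685 (iv0 F346230)) (tt N101753 (iv2 F434186)) (tt N40940 F225909) (tt N91455 (iv4 F393203)) (tt N41998 F316977) (tt N43925 F316978) (tt N40905 (iv7 D143046)))
theorem Q73819 : ∀ i, i < 73819 → P i := stepQ 73818 Q73818 (allL N73818 (tt N92365 (iv1 F396830)) (tt N56017 (iv0 F363487)) (tt N77498 F340741) (tt N108336 D211558) (tt N40907 (iv4 D143050)) (tt N92344 (iv5 F396774)) (tt N42751 F340742) (tt N99555 (iv7 F425136)))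
theorem Q73820 : ∀ i, i < 73820 → P i := stepQ 73819 Q73819 (allL N73819 (tt N56017 (iv1 F363488)) (tt N92365 (iv0 F396827)) (tt N99555 (iv2 F425135)) (tt N108337 D211559) (tt N40908 (iv4 D143055)) (tt N92343 (iv5 F396768)) (tt N80407 F340749) (tt N77498 (iv7 F363485)))
theorem Q73821 : ∀ i, i < 73821 → P i := stepQ 73820 Q73820 (allL N73820 (tt N74927 (iv1 F360674)) (tt N40909 (iv0 D143058)) (tt N100646 (iv2 F429825)) (tt N74399 F360676) (tt N108338 D211560) (tt N94433 (iv5 F404463)) (tt N74398 (iv6 F360675)) (tt N99557 (iv7 F425145)))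
theorem Q73822 : ∀ i, i < 73822 → P i := stepQ 73821 Q73821 (allL N73821 (tt N40909 (iv1 D143059)) (tt N74927 (iv0 F360646)) (tt N99557 (iv2 F425144)) (tt N55213 (iv3 F340735)) (tt N108339 D211561) (tt N108340 D211562) (tt N55212 F340736) (tt N100646 (iv7 F429827)))
theorem Q73823 : ∀ i, i < 73823 → P i := stepQ 73822 Q73822 (allL N73822 (tt N73407 F225913) (tt N61451 F349971) (tt N62815 (iv2 F360657)) (tt N61309 (iv3 F349967)) (tt N40909 (iv4 D143060)) (tt N61308 (iv5 F349969)) (tt N61438 (iv6 F331600)) (tt N61418 F349965))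
theorem Q73824 : ∀ i, i < 73824 → P i := stepQ 73823 Q73823 (allL N73823 (tt N99557 F425148) (tt N100646 (iv0 F429828)) (tt N74927 (iv2 F360647)) (tt N40944 F225914) (tt N61418 (iv4 F349964)) (tt N40910 F225915) (tt N43849 F318107) (tt N40909 (iv7 D143061)))
theorem Q73825 : ∀ i, i < 73825 → P i := stepQ 73824 Q73824 (allL N73824 (tt N82790 F360189) (tt N97506 (iv0 F417149)) (tt N83297 F345438) (tt N40913 F225919) (tt N60650 (iv4 F352471)) (tt N40912 (iv5 D143066)) (tt N54126 F349688) (tt N106742 (iv7 F455505)))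
theorem Q73826 : ∀ i, i < 73826 → P i := stepQ 73825 Q73825 (allL N73825 (tt N72014 F225925) (tt N72011 F225926) (tt N72021 F225923) (tt N60651 (iv3 F352464)) (tt N40913 (iv4 D143068)) (tt N89581 (iv5 F386812)) (tt N108341 D211563) (tt N72022 F225924))
theorem Q73827 : ∀ i, i < 73827 → P i := stepQ 73826 Q73826 (allL N73826 (tt N94147 F403427) (tt N53326 (iv0 F349698)) (tt N54263 F349693) (tt N54126 (iv3 F349689)) (tt N108341 (iv4 F462154)) (tt N78346 F349694) (tt N40913 (iv6 D143069)) (tt N83298 F349695))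
theorem Q73828 : ∀ i, i < 73828 → P i := stepQ 73827 Q73827 (allL N73827 (tt N72011 F225930) (tt N72014 F225931) (tt N72022 F225928) (tt N48631 F352439) (tt N40915 (iv4 D143074)) (tt N86357 (iv5 F375924)) (tt N48630 F352440) (tt N72021 F225929))
theorem Q73829 : ∀ i, i < 73829 → P i := stepQ 73828 Q73828 (allL N73828 (tt N107041 (iv1 F456747)) (tt N107042 (iv0 F456752)) (tt N84096 (iv2 F368085)) (tt N101886 (iv3 F434822)) (tt N48630 F352441) (tt N107253 (iv5 F457656)) (tt N40915 (iv6 D143075)) (tt N87831 (iv7 F380744)))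
theorem Q73830 : ∀ i, i < 73830 → P i := stepQ 73829 Q73829 (allL N73829 (tt N106561 (iv1 F454865)) (tt N106537 (iv0 F454803)) (tt N104644 (iv2 F446663)) (tt N94912 F406304) (tt N72081 (iv4 F344612)) (tt N40916 (iv5 D143080)) (tt N94911 (iv6 F406305)) (tt N104489 (iv7 F445996)))
theorem Q73831 : ∀ i, i < 73831 → P i := stepQ 73830 Q73830 (allL N73830 (tt N104643 (iv1 F446657)) (tt N71461 F225959) (tt N40918 F225933) (tt N71445 F225934) (tt N69151 F347242) (tt N40917 (iv5 D143082)) (tt N69150 (iv6 F347275)) (tt N102549 (iv7 F437610)))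
theorem Q73832 : ∀ i, i < 73832 → P i := stepQ 73831 Q73831 (allL N73831 (tt N106839 (iv1 F455924)) (tt N106835 (iv0 F455901)) (tt N40919 F225935) (tt N62950 (iv3 F359462)) (tt N92471 (iv4 F397108)) (tt N73723 F347286) (tt N40917 (iv6 D143083)) (tt N73915 F359466))
theorem Q73833 : ∀ i, i < 73833 → P i := stepQ 73832 Q73832 (allL N73832 (tt N40919 (iv1 D143089)) (tt N73915 F359468) (tt N106835 (iv2 F455897)) (tt N100602 (iv3 F429651)) (tt N108342 D211564) (tt N63003 (iv5 F347294)) (tt N100059 (iv6 F427389)) (tt N106839 (iv7 F455923)))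
theorem Q73834 : ∀ i, i < 73834 → P i := stepQ 73833 Q73833 (allL N73833 (tt N77658 F347295) (tt N69988 (iv0 F353339)) (tt N73723 F347287) (tt N40928 F225939) (tt N48007 F347288) (tt N40919 (iv5 D143090)) (tt N48009 F347289) (tt N101317 (iv7 F432636)))
theorem Q73835 : ∀ i, i < 73835 → P i := stepQ 73834 Q73834 (allL N73834 (tt N106835 F455902) (tt N106839 F455925) (tt N73915 (iv2 F359467)) (tt N40929 F225940) (tt N92473 F397115) (tt N101317 (iv5 F432631)) (tt N53347 F364511) (tt N40919 (iv7 D143091)))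
theorem Q73836 : ∀ i, i < 73836 → P i := stepQ 73835 Q73835 (allL N73835 (tt N54453 F363136) (tt N108343 D211565) (tt N91833 (iv2 F394606)) (tt N40930 F225941) (tt N90970 F391421) (tt N53316 F364509) (tt N40920 (iv6 D143092)) (tt N53347 (iv7 F364510)))
theorem Q73837 : ∀ i, i < 73837 → P i := stepQ 73836 Q73836 (allL N73836 (tt N50007 F345760) (tt N82771 (iv0 F349683)) (tt N71620 F225942) (tt N40921 (iv3 D143093)) (tt N71914 (iv4 F225944)) (tt N71618 F225943) (tt N108344 D211566) (tt N70275 (iv7 F349663)))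
theorem Q73838 : ∀ i, i < 73838 → P i := stepQ 73837 Q73837 (allL N73837 (tt N71992 F225947) (tt N71965 F225948) (tt N71987 F225945) (tt N54260 F352519) (tt N40921 (iv4 D143094)) (tt N107024 (iv5 F456685)) (tt N54255 (iv6 F352521)) (tt N71988 F225946))
theorem Q73839 : ∀ i, i < 73839 → P i := stepQ 73838 Q73838 (allL N73838 (tt N108345 D211567) (tt N108346 D211568) (tt N106889 (iv2 F456145)) (tt N108344 (iv3 F462170)) (tt N54255 F352522) (tt N108347 D211569) (tt N40921 (iv6 D143095)) (tt N108348 D211570))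
theorem Q73840 : ∀ i, i < 73840 → P i := stepQ 73839 Q73839 (allL N73839 (tt N71965 F225951) (tt N71992 F225952) (tt N71988 F225949) (tt N69795 (iv3 F352549)) (tt N40922 (iv4 D143096)) (tt N107023 (iv5 F456677)) (tt N69793 F352548) (tt N71987 F225950))
theorem Q73841 : ∀ i, i < 73841 → P i := stepQ 73840 Q73840 (allL N73840 (tt N105106 F448819) (tt N105104 (iv0 F448811)) (tt N70272 (iv2 F352551)) (tt N71631 F225953) (tt N69793 (iv4 F352546)) (tt N85560 (iv5 F373067)) (tt N40922 (iv6 D143097)) (tt N103315 (iv7 F441106)))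
theorem Q73842 : ∀ i, i < 73842 → P i := stepQ 73841 Q73841 (allL N73841 (tt N108349 D211571) (tt N108350 D211572) (tt N108351 D211573) (tt N40923 (iv3 D143098)) (tt N97926 (iv4 F418827)) (tt N89496 F386815) (tt N108352 D211574) (tt N104633 (iv7 F446621)))
theorem Q73843 : ∀ i, i < 73843 → P i := stepQ 73842 Q73842 (allL N73842 (tt N67226 (iv1 F355779)) (tt N70246 F365742) (tt N70244 F361803) (tt N108352 (iv3 F462197)) (tt N40924 F225954) (tt N70187 F411688) (tt N40923 (iv6 D143099)) (tt N70245 (iv7 F361801)))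
theorem Q73844 : ∀ i, i < 73844 → P i := stepQ 73843 Q73843 (allL N73843 (tt N70318 F333068) (tt N71402 (iv0 F225957)) (tt N40960 F225955) (tt N104633 (iv3 F446619)) (tt N40925 F225956) (tt N73237 F353570) (tt N88781 (iv6 F384126)) (tt N40923 (iv7 D143100)))
theorem Q73845 : ∀ i, i < 73845 → P i := stepQ 73844 Q73844 (allL N73844 (tt N40924 (iv1 D143102)) (tt N88784 (iv0 F384138)) (tt N76356 F355776) (tt N68631 F355777) (tt N105392 (iv4 F450029)) (tt N45096 F355778) (tt N84091 (iv6 F368070)) (tt N105112 (iv7 F448852)))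
theorem Q73846 : ∀ i, i < 73846 → P i := stepQ 73845 Q73845 (allL N73845 (tt N105115 F448867) (tt N84258 (iv0 F368721)) (tt N108329 (iv2 F462087)) (tt N48009 F347290) (tt N104218 (iv4 F444755)) (tt N40924 (iv5 D143103)) (tt N40928 F225960) (tt N78685 (iv7 F347293)))
theorem Q73847 : ∀ i, i < 73847 → P i := stepQ 73846 Q73846 (allL N73846 (tt N76356 F335422) (tt N105112 F448854) (tt N88784 (iv2 F384136)) (tt N78686 F361799) (tt N70245 F361800) (tt N78685 (iv5 F347291)) (tt N82752 F335420) (tt N40924 (iv7 D143104)))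
theorem Q73848 : ∀ i, i < 73848 → P i := stepQ 73847 Q73847 (allL N73847 (tt N54104 F357253) (tt N54190 F357279) (tt N54188 (iv2 F357282)) (tt N40926 (iv3 D143107)) (tt N71908 (iv4 F335444)) (tt N76382 F357254) (tt N77518 F335438) (tt N54187 (iv7 F357288)))
theorem Q73849 : ∀ i, i < 73849 → P i := stepQ 73848 Q73848 (allL N73848 (tt N108090 (iv1 F461069)) (tt N107278 (iv0 F457765)) (tt N80087 (iv2 F335440)) (tt N54363 (iv3 F360852)) (tt N80085 F335441) (tt N90733 (iv5 F390682)) (tt N40927 (iv6 D143115)) (tt N105020 (iv7 F448413)))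
theorem Q73850 : ∀ i, i < 73850 → P i := stepQ 73849 Q73849 (allL N73849 (tt N83844 F355734) (tt N40928 (iv0 D143116)) (tt N84265 (iv2 F368735)) (tt N84132 F368243) (tt N45115 F355735) (tt N82575 F355736) (tt N45113 F355737) (tt N108330 (iv7 F462093)))
theorem Q73851 : ∀ i, i < 73851 → P i := stepQ 73850 Q73850 (allL N73850 (tt N40928 (iv1 D143117)) (tt N83844 F341553) (tt N108330 (iv2 F462097)) (tt N54489 F353336) (tt N108353 D211575) (tt N108354 D211576) (tt N108355 D211577) (tt N84265 (iv7 F368737)))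
theorem Q73852 : ∀ i, i < 73852 → P i := stepQ 73851 Q73851 (allL N73851 (tt N74789 F341544) (tt N41374 F341545) (tt N74788 F341546) (tt N73866 (iv3 F361806)) (tt N40928 (iv4 D143118)) (tt N108356 D211578) (tt N104218 (iv6 F444757)) (tt N74787 F341547))
theorem Q73853 : ∀ i, i < 73853 → P i := stepQ 73852 Q73852 (allL N73852 (tt N108330 (iv1 F462092)) (tt N84265 F368745) (tt N83844 F335426) (tt N101317 (iv3 F432633)) (tt N74787 (iv4 F341542)) (tt N40929 F225964) (tt N53351 (iv6 F335425)) (tt N40928 (iv7 D143119)))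
theorem Q73854 : ∀ i, i < 73854 → P i := stepQ 73853 Q73853 (allL N73853 (tt N40964 (iv1 F225970)) (tt N40930 (iv0 D143121)) (tt N40962 F342527) (tt N52450 (iv3 F342530)) (tt N72004 F342528) (tt N52449 (iv5 F342531)) (tt N108357 D211579) (tt N40963 F342529))
theorem Q73855 : ∀ i, i < 73855 → P i := stepQ 73854 Q73854 (allL N73854 (tt N80018 (iv1 F259449)) (tt N69829 (iv0 F341464)) (tt N71809 (iv2 F328576)) (tt N40931 (iv3 D143124)) (tt N81344 F354809) (tt N106173 (iv5 F453447)) (tt N64476 F431138) (tt N80019 (iv7 F259448)))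
theorem Q73856 : ∀ i, i < 73856 → P i := stepQ 73855 Q73855 (allL N73855 (tt N62946 F225974) (tt N62944 F225975) (tt N72698 F225973) (tt N106173 (iv3 F453445)) (tt N106955 (iv4 F456430)) (tt N40931 (iv5 D143125)) (tt N104464 (iv6 F445873)) (tt N73912 (iv7 F226206)))
theorem Q73857 : ∀ i, i < 73857 → P i := stepQ 73856 Q73856 (allL N73856 (tt N44038 F318752) (tt N45279 F316511) (tt N72699 F225976) (tt N64476 (iv3 F431137)) (tt N40932 F225977) (tt N108060 (iv5 F460934)) (tt N40931 (iv6 D143126)) (tt N75982 F316512))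
theorem Q73858 : ∀ i, i < 73858 → P i := stepQ 73857 Q73857 (allL N73857 (tt N45272 F314022) (tt N40932 (iv0 D143127)) (tt N45274 F314023) (tt N45277 F314024) (tt N100976 (iv4 F431133)) (tt N76024 (iv5 F312141)) (tt N45277 F314025) (tt N45254 F314026))
theorem Q73859 : ∀ i, i < 73859 → P i := stepQ 73858 Q73858 (allL N73858 (tt N45254 F314027) (tt N45274 F314028) (tt N45272 F314029) (tt N88439 (iv3 F383053)) (tt N75982 F314030) (tt N75796 (iv5 F348310)) (tt N107124 F457088) (tt N40932 (iv7 D143130)))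
theorem Q73860 : ∀ i, i < 73860 → P i := stepQ 73859 Q73859 (allL N73859 (tt N108358 D211580) (tt N106988 (iv0 F456536)) (tt N99841 (iv2 F426476)) (tt N40933 (iv3 D143131)) (tt N73591 F225985) (tt N108359 D211581) (tt N61049 (iv6 F361681)) (tt N107913 (iv7 F460256)))
theorem Q73861 : ∀ i, i < 73861 → P i := stepQ 73860 Q73860 (allL N73860 (tt N63028 F225986) (tt N63026 F225987) (tt N73904 F226175) (tt N108359 (iv3 F462240)) (tt N107023 (iv4 F456678)) (tt N40933 (iv5 D143132)) (tt N108360 D211582) (tt N73903 F226171))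
theorem Q73862 : ∀ i, i < 73862 → P i := stepQ 73861 Q73861 (allL N73861 (tt N100976 (iv1 F431136)) (tt N45271 F325373) (tt N77669 F350260) (tt N61049 F347668) (tt N42644 F325374) (tt N107483 (iv5 F458480)) (tt N40933 (iv6 D143133)) (tt N77667 F325375))
theorem Q73863 : ∀ i, i < 73863 → P i := stepQ 73862 Q73862 (allL N73862 (tt N63026 F225989) (tt N63028 F225990) (tt N73903 F226170) (tt N99845 (iv3 F426495)) (tt N107024 (iv4 F456686)) (tt N40934 (iv5 D143134)) (tt N82188 F364181) (tt N73904 (iv7 F226173)))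
theorem Q73864 : ∀ i, i < 73864 → P i := stepQ 73863 Q73863 (allL N73863 (tt N40966 (iv1 F226002)) (tt N40936 (iv0 D143141)) (tt N89276 F385889) (tt N98182 (iv3 F419884)) (tt N86357 F375925) (tt N40979 F226001) (tt N86356 (iv6 F375926)) (tt N89275 F385884))
theorem Q73865 : ∀ i, i < 73865 → P i := stepQ 73864 Q73864 (allL N73864 (tt N92567 (iv1 F397408)) (tt N87855 (iv0 F380868)) (tt N58952 F363640) (tt N78092 (iv3 F363641)) (tt N74918 F363637) (tt N40937 (iv5 D143147)) (tt N91080 F391854) (tt N91088 (iv7 F391876)))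
theorem Q73866 : ∀ i, i < 73866 → P i := stepQ 73865 Q73865 (allL N73865 (tt N73942 F226239) (tt N45073 F333253) (tt N63073 F333254) (tt N74341 F333255) (tt N79075 (iv4 F335180)) (tt N40939 (iv5 D143153)) (tt N62790 F333256) (tt N108294 (iv7 F461934)))
theorem Q73867 : ∀ i, i < 73867 → P i := stepQ 73866 Q73866 (allL N73866 (tt N85788 F373942) (tt N98755 (iv0 F422172)) (tt N99561 (iv2 F425165)) (tt N73851 F361806) (tt N40942 (iv4 D143212)) (tt N76401 (iv5 F355205)) (tt N68443 F226046) (tt N108295 (iv7 F461940)))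
theorem Q73868 : ∀ i, i < 73868 → P i := stepQ 73867 Q73867 (allL N73867 (tt N62721 (iv1 F339795)) (tt N40943 (iv0 D143213)) (tt N74794 F340690) (tt N104935 (iv3 F448017)) (tt N82576 (iv4 F340689)) (tt N108361 D211583) (tt N82577 F340688) (tt N74795 F361630))
theorem Q73869 : ∀ i, i < 73869 → P i := stepQ 73868 Q73868 (allL N73868 (tt N62439 (iv1 F348331)) (tt N62442 F348332) (tt N40951 F226057) (tt N69714 F226058) (tt N40948 F226059) (tt N108362 D211584) (tt N40946 (iv6 D143238)) (tt N108363 D211585))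
theorem Q73870 : ∀ i, i < 73870 → P i := stepQ 73869 Q73869 (allL N73869 (tt N40948 (iv1 D143241)) (tt N40957 F226061) (tt N40955 F348323) (tt N63078 (iv3 F348326)) (tt N80395 F348329) (tt N69628 (iv5 F348327)) (tt N63076 (iv6 F333250)) (tt N40954 F348324))
theorem Q73871 : ∀ i, i < 73871 → P i := stepQ 73870 Q73870 (allL N73870 (tt N40955 (iv1 F226065)) (tt N40954 F226066) (tt N40957 F226063) (tt N76980 F348313) (tt N108363 (iv4 F462261)) (tt N63333 (iv5 F348312)) (tt N63781 F348320) (tt N40948 (iv7 D143243)))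
theorem Q73872 : ∀ i, i < 73872 → P i := stepQ 73871 Q73871 (allL N73871 (tt N40949 (iv1 D143244)) (tt N69708 F226067) (tt N91075 (iv2 F391830)) (tt N66410 (iv3 F391763)) (tt N91051 (iv4 F391762)) (tt N107263 (iv5 F457697)) (tt N107929 (iv6 F460334)) (tt N91072 (iv7 F391819)))
theorem Q73873 : ∀ i, i < 73873 → P i := stepQ 73872 Q73872 (allL N73872 (tt N108364 D211586) (tt N108365 D211587) (tt N106831 (iv2 F455878)) (tt N40950 F226068) (tt N107953 (iv4 F460452)) (tt N40949 (iv5 D143245)) (tt N107952 F460450) (tt N106830 (iv7 F455876)))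
theorem Q73874 : ∀ i, i < 73874 → P i := stepQ 73873 Q73873 (allL N73873 (tt N89271 F385871) (tt N89269 (iv0 F385864)) (tt N91055 F391782) (tt N40951 F226069) (tt N40959 F226070) (tt N108366 D211588) (tt N40949 (iv6 D143246)) (tt N91054 F391779))
theorem Q73875 : ∀ i, i < 73875 → P i := stepQ 73874 Q73874 (allL N73874 (tt N72570 F226071) (tt N72579 F226072) (tt N88891 (iv2 F384441)) (tt N108367 D211589) (tt N40950 (iv4 D143247)) (tt N89688 (iv5 F387220)) (tt N72805 (iv6 F361420)) (tt N85420 (iv7 F372564)))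
theorem Q73876 : ∀ i, i < 73876 → P i := stepQ 73875 Q73875 (allL N73875 (tt N73264 F385290) (tt N73384 (iv0 F361421)) (tt N107609 (iv2 F458935)) (tt N107952 (iv3 F460446)) (tt N72805 F361419) (tt N72590 (iv5 F361418)) (tt N40950 (iv6 D143248)) (tt N88886 (iv7 F384423)))
theorem Q73877 : ∀ i, i < 73877 → P i := stepQ 73876 Q73876 (allL N73876 (tt N108363 (iv1 F462264)) (tt N40951 (iv0 D143249)) (tt N62439 F361410) (tt N95946 (iv3 F410380)) (tt N46506 F361411) (tt N108368 D211590) (tt N108369 D211591) (tt N62442 F361412))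
theorem Q73878 : ∀ i, i < 73878 → P i := stepQ 73877 Q73877 (allL N73877 (tt N40951 (iv1 D143250)) (tt N108363 F462263) (tt N62442 F361413) (tt N96145 F411238) (tt N46505 F361414) (tt N108370 D211592) (tt N72277 (iv6 F361416)) (tt N62439 F361415))
theorem Q73879 : ∀ i, i < 73879 → P i := stepQ 73878 Q73878 (allL N73878 (tt N107147 (iv1 F457199)) (tt N107144 (iv0 F457189)) (tt N108362 (iv2 F462254)) (tt N108366 (iv3 F462274)) (tt N73350 (iv4 F348309)) (tt N40951 (iv5 D143251)) (tt N72590 F361417) (tt N108371 D211593))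
theorem Q73880 : ∀ i, i < 73880 → P i := stepQ 73879 Q73879 (allL N73879 (tt N62442 (iv1 F348333)) (tt N62439 F348334) (tt N108363 (iv2 F462259)) (tt N91054 F391778) (tt N40957 F226073) (tt N108371 (iv5 F462301)) (tt N73390 F330616) (tt N40951 (iv7 D143252)))
theorem Q73881 : ∀ i, i < 73881 → P i := stepQ 73880 Q73880 (allL N73880 (tt N72810 F226075) (tt N72805 F226076) (tt N88888 F384432) (tt N100985 (iv3 F431156)) (tt N85129 (iv4 F372580)) (tt N40952 (iv5 D143255)) (tt N85128 F372581) (tt N88887 F384428))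
theorem Q73882 : ∀ i, i < 73882 → P i := stepQ 73881 Q73881 (allL N73881 (tt N63333 F320351) (tt N40956 (iv0 D143271)) (tt N63332 F320352) (tt N42729 F320353) (tt N42892 F320354) (tt N63770 F320355) (tt N45228 F320356) (tt N42727 F320357))
theorem Q73883 : ∀ i, i < 73883 → P i := stepQ 73882 Q73882 (allL N73882 (tt N105791 (iv1 F451733)) (tt N99800 F426284) (tt N105793 (iv2 F451742)) (tt N104953 F448119) (tt N40958 (iv4 D143275)) (tt N108372 D211594) (tt N108373 D211595) (tt N105788 F451721))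
theorem Q73884 : ∀ i, i < 73884 → P i := stepQ 73883 Q73883 (allL N73883 (tt N106895 (iv1 F456172)) (tt N84082 (iv0 F368043)) (tt N91210 (iv2 F392273)) (tt N40961 F226085) (tt N108373 (iv4 F462307)) (tt N53355 (iv5 F364508)) (tt N40958 (iv6 D143276)) (tt N88782 (iv7 F384131)))
theorem Q73885 : ∀ i, i < 73885 → P i := stepQ 73884 Q73884 (allL N73884 (tt N92566 F397404) (tt N108374 D211596) (tt N108375 D211597) (tt N40960 (iv3 D143281)) (tt N104953 F448120) (tt N107039 (iv5 F456741)) (tt N108376 D211598) (tt N108328 (iv7 F462084)))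
theorem Q73886 : ∀ i, i < 73886 → P i := stepQ 73885 Q73885 (allL N73885 (tt N106985 (iv1 F456525)) (tt N70289 (iv0 F356333)) (tt N88781 (iv2 F384125)) (tt N108376 (iv3 F462320)) (tt N40961 F226088) (tt N106369 (iv5 F454176)) (tt N40960 (iv6 D143282)) (tt N88783 (iv7 F384133)))
theorem Q73887 : ∀ i, i < 73887 → P i := stepQ 73886 Q73886 (allL N73886 (tt N66867 (iv1 F342522)) (tt N66865 (iv0 F342511)) (tt N72004 (iv2 F342521)) (tt N73599 F342525) (tt N40962 (iv4 D143289)) (tt N72190 (iv5 F342519)) (tt N62327 F342520) (tt N54463 F342523))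
theorem Q73888 : ∀ i, i < 73888 → P i := stepQ 73887 Q73887 (allL N73887 (tt N107277 F457762) (tt N108243 (iv0 F461656)) (tt N108357 (iv2 F462229)) (tt N53400 (iv3 F364513)) (tt N62327 (iv4 F363125)) (tt N53962 F364512) (tt N40962 (iv6 D143291)) (tt N107266 (iv7 F457709)))
theorem Q73889 : ∀ i, i < 73889 → P i := stepQ 73888 Q73888 (allL N73888 (tt N40967 (iv1 D143307)) (tt N43926 F316948) (tt N49809 (iv2 F337215)) (tt N98542 (iv3 F421253)) (tt N73596 (iv4 F320162)) (tt N49423 F337214) (tt N80099 F316950) (tt N49487 F316951))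
theorem Q73890 : ∀ i, i < 73890 → P i := stepQ 73889 Q73889 (allL N73889 (tt N43929 F312305) (tt N43928 F312306) (tt N43931 F312307) (tt N81317 F363837) (tt N40968 (iv4 D143317)) (tt N85783 (iv5 F373919)) (tt N75973 F312308) (tt N43904 F312309))
theorem Q73891 : ∀ i, i < 73891 → P i := stepQ 73890 Q73890 (allL N73890 (tt N40969 (iv1 D143321)) (tt N43927 F316958) (tt N63061 F316959) (tt N76591 F316960) (tt N45218 F316961) (tt N77541 F316962) (tt N45216 F316963) (tt N45246 F316964))
theorem Q73892 : ∀ i, i < 73892 → P i := stepQ 73891 Q73891 (allL N73891 (tt N71757 (iv1 F365534)) (tt N71806 F365532) (tt N70961 F365530) (tt N40973 F226132) (tt N96160 F411292) (tt N40972 (iv5 D143376)) (tt N108377 D211599) (tt N71807 (iv7 F365531)))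
theorem Q73893 : ∀ i, i < 73893 → P i := stepQ 73892 Q73892 (allL N73892 (tt N100810 (iv1 F430589)) (tt N100811 (iv0 F430588)) (tt N99821 (iv2 F426384)) (tt N40974 F226133) (tt N94936 (iv4 F406409)) (tt N108378 D211600) (tt N40972 (iv6 D143377)) (tt N94935 F406406))
theorem Q73894 : ∀ i, i < 73894 → P i := stepQ 73893 Q73893 (allL N73893 (tt N108379 D211601) (tt N108380 D211602) (tt N40994 F226134) (tt N108377 (iv3 F462325)) (tt N107040 (iv4 F456744)) (tt N108381 D211603) (tt N40973 (iv6 D143378)) (tt N108382 D211604))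
theorem Q73895 : ∀ i, i < 73895 → P i := stepQ 73894 Q73894 (allL N73894 (tt N40974 (iv1 D143380)) (tt N40998 F226135) (tt N40996 F323283) (tt N108383 D211605) (tt N42604 F323284) (tt N108384 D211606) (tt N99817 (iv6 F426369)) (tt N40995 F323285))
theorem Q73896 : ∀ i, i < 73896 → P i := stepQ 73895 Q73895 (allL N73895 (tt N75974 (iv1 F366177)) (tt N108385 D211607) (tt N40997 F226136) (tt N108378 (iv3 F462327)) (tt N106494 (iv4 F454663)) (tt N40974 (iv5 D143381)) (tt N108381 (iv6 F462340)) (tt N108386 D211608))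
theorem Q73897 : ∀ i, i < 73897 → P i := stepQ 73896 Q73896 (allL N73896 (tt N40996 (iv1 F226140)) (tt N40995 F226142) (tt N40998 F226137) (tt N94935 (iv3 F406405)) (tt N40977 F226138) (tt N108386 (iv5 F462360)) (tt N99912 (iv6 F426787)) (tt N40974 (iv7 D143382)))
theorem Q73898 : ∀ i, i < 73898 → P i := stepQ 73897 Q73897 (allL N73897 (tt N75964 (iv1 F346252)) (tt N75962 F346251) (tt N41000 F226144) (tt N69929 (iv3 F364180)) (tt N40975 (iv4 D143384)) (tt N108387 D211609) (tt N100003 (iv6 F427141)) (tt N41003 F226145))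
theorem Q73899 : ∀ i, i < 73899 → P i := stepQ 73898 Q73898 (allL N73898 (tt N77549 (iv1 F346248)) (tt N77239 F346247) (tt N65193 F346244) (tt N40976 (iv3 D143387)) (tt N84400 (iv4 F369158)) (tt N63528 (iv5 F346245)) (tt N87090 (iv6 F378340)) (tt N40999 F226150))
theorem Q73900 : ∀ i, i < 73900 → P i := stepQ 73899 Q73899 (allL N73899 (tt N75962 F346249) (tt N75964 F346250) (tt N41003 F226151) (tt N108388 D211610) (tt N40976 (iv4 D143388)) (tt N108389 D211611) (tt N69918 F359681) (tt N41000 F226152))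
theorem Q73901 : ∀ i, i < 73901 → P i := stepQ 73900 Q73900 (allL N73900 (tt N72252 F356849) (tt N77555 F356850) (tt N99997 (iv2 F427110)) (tt N50789 F361674) (tt N73157 F226158) (tt N90815 (iv5 F390956)) (tt N40979 (iv6 D143396)) (tt N84733 (iv7 F370404)))
theorem Q73902 : ∀ i, i < 73902 → P i := stepQ 73901 Q73901 (allL N73901 (tt N41000 F321930) (tt N41003 F321931) (tt N75962 F321932) (tt N99891 (iv3 F426699)) (tt N46195 F321933) (tt N108390 D211612) (tt N40980 (iv6 D143397)) (tt N75964 F321934))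
theorem Q73903 : ∀ i, i < 73903 → P i := stepQ 73902 Q73902 (allL N73902 (tt N58579 (iv1 F226166)) (tt N91117 (iv0 F392005)) (tt N95446 (iv2 F408211)) (tt N40982 F226164) (tt N54412 (iv4 F349503)) (tt N40981 (iv5 D143400)) (tt N52946 F349506) (tt N95448 (iv7 F408220)))
theorem Q73904 : ∀ i, i < 73904 → P i := stepQ 73903 Q73903 (allL N73903 (tt N40985 (iv1 F226169)) (tt N40982 (iv0 D143402)) (tt N73862 (iv2 F226170)) (tt N98184 F455457) (tt N106997 (iv4 F456579)) (tt N73126 F226168) (tt N108391 D211613) (tt N73860 (iv7 F226171)))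
theorem Q73905 : ∀ i, i < 73905 → P i := stepQ 73904 Q73904 (allL N73904 (tt N40982 (iv1 D143403)) (tt N40985 F226172) (tt N73860 (iv2 F226175)) (tt N99893 F426707) (tt N106998 (iv4 F456583)) (tt N73802 F226174) (tt N108392 D211614) (tt N73862 F226173))
theorem Q73906 : ∀ i, i < 73906 → P i := stepQ 73905 Q73905 (allL N73905 (tt N53082 F349510) (tt N89995 F388244) (tt N64379 F349508) (tt N52946 (iv3 F349507)) (tt N99462 (iv4 F424691)) (tt N53177 F349509) (tt N40982 (iv6 D143404)) (tt N101630 (iv7 F433620)))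
theorem Q73907 : ∀ i, i < 73907 → P i := stepQ 73906 Q73906 (allL N73906 (tt N101110 (iv1 F431717)) (tt N99881 (iv0 F426667)) (tt N101112 (iv2 F431731)) (tt N40985 F226192) (tt N108393 D211615) (tt N40984 (iv5 D143434)) (tt N101636 (iv6 F433642)) (tt N64383 (iv7 F349516)))
theorem Q73908 : ∀ i, i < 73908 → P i := stepQ 73907 Q73907 (allL N73907 (tt N108394 D211616) (tt N108395 D211617) (tt N99999 (iv2 F427118)) (tt N101636 (iv3 F433640)) (tt N72537 (iv4 F353583)) (tt N105648 (iv5 F451100)) (tt N40985 (iv6 D143436)) (tt N101631 (iv7 F433625)))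
theorem Q73909 : ∀ i, i < 73909 → P i := stepQ 73908 Q73908 (allL N73908 (tt N99901 (iv1 F426742)) (tt N40986 (iv0 D143455)) (tt N43050 F335428) (tt N84141 F368290) (tt N43002 F335458) (tt N73799 F335427) (tt N84212 (iv6 F368529)) (tt N43054 F335430))
theorem Q73910 : ∀ i, i < 73910 → P i := stepQ 73909 Q73909 (allL N73909 (tt N40986 (iv1 D143456)) (tt N99901 F426743) (tt N43054 F335446) (tt N44563 F350757) (tt N43003 F330357) (tt N73800 F335447) (tt N108396 D211618) (tt N43050 F335448))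
theorem Q73911 : ∀ i, i < 73911 → P i := stepQ 73910 Q73910 (allL N73910 (tt N43050 F341181) (tt N43054 F341182) (tt N40986 (iv2 D143457)) (tt N64640 F321913) (tt N45204 F321914) (tt N104970 (iv5 F448201)) (tt N43033 F321915) (tt N99901 (iv7 F426741)))
theorem Q73912 : ∀ i, i < 73912 → P i := stepQ 73911 Q73911 (allL N73911 (tt N108354 (iv1 F462214)) (tt N82575 F341573) (tt N104970 (iv2 F448199)) (tt N40988 F226199) (tt N42225 F341574) (tt N40986 (iv5 D143459)) (tt N53342 (iv6 F348213)) (tt N99902 (iv7 F426747)))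
theorem Q73913 : ∀ i, i < 73913 → P i := stepQ 73912 Q73912 (allL N73912 (tt N40990 (iv1 F226205)) (tt N40988 (iv0 D143462)) (tt N71668 (iv2 F328186)) (tt N108397 D211619) (tt N106487 (iv4 F454638)) (tt N73714 F226203) (tt N71666 (iv6 F361592)) (tt N73855 F226206))
theorem Q73914 : ∀ i, i < 73914 → P i := stepQ 73913 Q73913 (allL N73913 (tt N108398 D211620) (tt N71516 (iv0 F365830)) (tt N99907 (iv2 F426763)) (tt N53342 F361529) (tt N107034 (iv4 F456725)) (tt N79120 (iv5 F361530)) (tt N40988 (iv6 D143463)) (tt N108399 D211621))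
theorem Q73915 : ∀ i, i < 73915 → P i := stepQ 73914 Q73914 (allL N73914 (tt N70896 F365750) (tt N108400 D211622) (tt N99904 (iv2 F426754)) (tt N99985 (iv3 F427060)) (tt N107025 (iv4 F456690)) (tt N99455 (iv5 F424662)) (tt N40990 (iv6 D143475)) (tt N108401 D211623))
theorem Q73916 : ∀ i, i < 73916 → P i := stepQ 73915 Q73915 (allL N73915 (tt N73832 (iv1 F359468)) (tt N71781 F359469) (tt N73834 F359467) (tt N40992 (iv3 D143482)) (tt N96841 (iv4 F414213)) (tt N99562 (iv5 F425172)) (tt N89171 F385435) (tt N73831 (iv7 F359466)))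
theorem Q73917 : ∀ i, i < 73917 → P i := stepQ 73916 Q73916 (allL N73916 (tt N70972 (iv1 F362221)) (tt N71855 (iv0 F362225)) (tt N71854 (iv2 F365514)) (tt N89171 (iv3 F385434)) (tt N107001 (iv4 F456599)) (tt N50247 F362222) (tt N40992 (iv6 D143483)) (tt N71767 F359471))
theorem Q73918 : ∀ i, i < 73918 → P i := stepQ 73917 Q73917 (allL N73917 (tt N101104 F454642) (tt N108402 D211624) (tt N107040 (iv2 F456743)) (tt N73227 F365416) (tt N40994 F226213) (tt N108403 D211625) (tt N40993 (iv6 D143485)) (tt N89386 (iv7 F386322)))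
theorem Q73919 : ∀ i, i < 73919 → P i := stepQ 73918 Q73918 (allL N73918 (tt N108382 (iv1 F462346)) (tt N40994 (iv0 D143486)) (tt N108379 F462331) (tt N108404 D211626) (tt N108405 D211627) (tt N106553 (iv5 F460917)) (tt N108057 F460916) (tt N108380 (iv7 F462334)))
theorem Q73920 : ∀ i, i < 73920 → P i := stepQ 73919 Q73919 (allL N73919 (tt N40994 (iv1 D143487)) (tt N108382 F462345) (tt N108380 F462337) (tt N108406 D211628) (tt N108407 D211629) (tt N106554 (iv5 F462452)) (tt N108408 D211631) (tt N108379 F462332))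
theorem Q73921 : ∀ i, i < 73921 → P i := stepQ 73920 Q73920 (allL N73920 (tt N108409 D211632) (tt N108410 D211633) (tt N108381 (iv2 F462339)) (tt N71146 (iv3 F365485)) (tt N108411 D211634) (tt N40994 (iv5 D143488)) (tt N40997 F226214) (tt N108412 D211635))
theorem Q73922 : ∀ i, i < 73922 → P i := stepQ 73921 Q73921 (allL N73921 (tt N108380 (iv1 F462333)) (tt N108379 F462338) (tt N108382 (iv2 F462343)) (tt N71216 (iv3 F365486)) (tt N89386 (iv4 F386321)) (tt N108412 (iv5 F462469)) (tt N71215 F365487) (tt N40994 (iv7 D143489)))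
theorem Q73923 : ∀ i, i < 73923 → P i := stepQ 73922 Q73922 (allL N73922 (tt N108413 D211636) (tt N108396 F462402) (tt N108414 D211637) (tt N40995 (iv3 D143491)) (tt N103103 (iv4 F440084)) (tt N108415 D211638) (tt N108416 D211639) (tt N108383 (iv7 F462349)))
theorem Q73924 : ∀ i, i < 73924 → P i := stepQ 73923 Q73923 (allL N73923 (tt N108417 D211640) (tt N79123 F366558) (tt N80102 (iv2 F366559)) (tt N108415 (iv3 F462478)) (tt N108418 D211641) (tt N40995 (iv5 D143493)) (tt N108419 D211642) (tt N108384 (iv7 F462352)))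
theorem Q73925 : ∀ i, i < 73925 → P i := stepQ 73924 Q73924 (allL N73924 (tt N99453 F424656) (tt N100013 F427194) (tt N42310 F366556) (tt N108416 (iv3 F462482)) (tt N42320 F366557) (tt N108420 D211643) (tt N40995 (iv6 D143494)) (tt N100014 (iv7 F427197)))
theorem Q73926 : ∀ i, i < 73926 → P i := stepQ 73925 Q73925 (allL N73925 (tt N99987 F427067) (tt N108421 D211644) (tt N78683 F314577) (tt N40996 (iv3 D143496)) (tt N42318 F314578) (tt N101275 F432493) (tt N78676 F314579) (tt N42312 (iv7 F316526)))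
theorem Q73927 : ∀ i, i < 73927 → P i := stepQ 73926 Q73926 (allL N73926 (tt N79123 F314580) (tt N108417 F462485) (tt N108384 (iv2 F462351)) (tt N101275 (iv3 F432495)) (tt N90733 F390683) (tt N40996 (iv5 D143498)) (tt N108422 D211645) (tt N80102 F314581))
theorem Q73928 : ∀ i, i < 73928 → P i := stepQ 73927 Q73927 (allL N73927 (tt N99818 F426373) (tt N79099 F314582) (tt N99817 F426368) (tt N78676 (iv3 F336960)) (tt N42609 F314583) (tt N70734 (iv5 F336885)) (tt N40996 (iv6 D143499)) (tt N78684 F359678))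
theorem Q73929 : ∀ i, i < 73929 → P i := stepQ 73928 Q73928 (allL N73928 (tt N108386 (iv1 F462362)) (tt N40997 (iv0 D143500)) (tt N75974 (iv2 F349352)) (tt N108423 D211646) (tt N108424 D211647) (tt N75972 F349353) (tt N89710 (iv6 F469954)) (tt N108385 (iv7 F462355)))
theorem Q73930 : ∀ i, i < 73930 → P i := stepQ 73929 Q73929 (allL N73929 (tt N40997 (iv1 D143501)) (tt N108386 F462361) (tt N108385 F462357) (tt N99784 (iv3 F426201)) (tt N108425 D211649) (tt N63085 (iv5 F349350)) (tt N107640 (iv6 F459048)) (tt N75974 F349351))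
theorem Q73931 : ∀ i, i < 73931 → P i := stepQ 73930 Q73930 (allL N73930 (tt N106218 (iv1 F456801)) (tt N106486 F456802) (tt N106494 F454664) (tt N108426 D211650) (tt N40997 (iv4 D143502)) (tt N108427 D211651) (tt N108411 (iv6 F462466)) (tt N100965 (iv7 F440456)))
theorem Q73932 : ∀ i, i < 73932 → P i := stepQ 73931 Q73931 (allL N73931 (tt N108385 (iv1 F462354)) (tt N75974 F366601) (tt N108386 (iv2 F462358)) (tt N99935 (iv3 F426885)) (tt N100965 F440454) (tt N40998 F226218) (tt N100964 (iv6 F440455)) (tt N40997 (iv7 D143503)))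
theorem Q73933 : ∀ i, i < 73933 → P i := stepQ 73932 Q73932 (allL N73932 (tt N65193 F346235) (tt N40999 (iv0 D143504)) (tt N77239 F346236) (tt N41038 F346237) (tt N102875 (iv4 F439051)) (tt N75825 F346238) (tt N80498 F346239) (tt N77549 F346240))
theorem Q73934 : ∀ i, i < 73934 → P i := stepQ 73933 Q73933 (allL N73933 (tt N75896 F346231) (tt N75897 (iv0 F346267)) (tt N77550 (iv2 F353151)) (tt N84361 (iv3 F369048)) (tt N40999 (iv4 D143507)) (tt N75931 F346268) (tt N102970 F439503) (tt N84400 (iv7 F369160)))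
theorem Q73935 : ∀ i, i < 73935 → P i := stepQ 73934 Q73934 (allL N73934 (tt N99996 F427109) (tt N80498 F346232) (tt N77551 F346233) (tt N41002 F226220) (tt N102970 (iv4 F439502)) (tt N46638 F346234) (tt N40999 (iv6 D143509)) (tt N87916 (iv7 F381103)))
theorem Q73936 : ∀ i, i < 73936 → P i := stepQ 73935 Q73935 (allL N73935 (tt N41003 (iv1 F226221)) (tt N41000 (iv0 D143510)) (tt N75964 F314564) (tt N84734 (iv3 F370409)) (tt N46194 F314565) (tt N108428 D211652) (tt N84733 F370407) (tt N75962 F314566))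
theorem Q73937 : ∀ i, i < 73937 → P i := stepQ 73936 Q73936 (allL N73936 (tt N84370 F426475) (tt N91003 (iv0 F391536)) (tt N84350 (iv2 F369024)) (tt N41000 (iv3 D143512)) (tt N84361 (iv4 F369049)) (tt N88580 F391342) (tt N84357 (iv6 F391344)) (tt N108388 (iv7 F462369)))
theorem Q73938 : ∀ i, i < 73938 → P i := stepQ 73937 Q73937 (allL N73937 (tt N88840 F384301) (tt N77045 F356514) (tt N108387 (iv2 F462363)) (tt N88580 (iv3 F391343)) (tt N108429 D211653) (tt N41000 (iv5 D143513)) (tt N108430 D211654) (tt N108389 (iv7 F462372)))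
theorem Q73939 : ∀ i, i < 73939 → P i := stepQ 73938 Q73938 (allL N73938 (tt N72806 F356515) (tt N75666 F366648) (tt N100003 (iv2 F427139)) (tt N84357 F391345) (tt N41002 F226223) (tt N108431 D211655) (tt N41000 (iv6 D143514)) (tt N108432 D211656))
theorem Q73940 : ∀ i, i < 73940 → P i := stepQ 73939 Q73939 (allL N73939 (tt N41002 (iv1 D143520)) (tt N76161 F356523) (tt N77553 (iv2 F356518)) (tt N41035 F356517) (tt N100013 (iv4 F427192)) (tt N63869 (iv5 F356516)) (tt N63716 (iv6 F356519)) (tt N76004 (iv7 F356520)))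
theorem Q73941 : ∀ i, i < 73941 → P i := stepQ 73940 Q73940 (allL N73940 (tt N77553 F356853) (tt N76004 (iv0 F356852)) (tt N76161 F314868) (tt N87916 (iv3 F381101)) (tt N108432 (iv4 F462530)) (tt N46502 F314869) (tt N78937 F356851) (tt N41002 (iv7 D143522)))
theorem Q73942 : ∀ i, i < 73942 → P i := stepQ 73941 Q73941 (allL N73941 (tt N77045 F364473) (tt N88840 F384302) (tt N108389 (iv2 F462370)) (tt N64414 F365285) (tt N108433 D211657) (tt N41003 (iv5 D143529)) (tt N69924 (iv6 F365286)) (tt N108387 (iv7 F462365)))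
theorem Q73943 : ∀ i, i < 73943 → P i := stepQ 73942 Q73942 (allL N73942 (tt N73722 (iv1 F326894)) (tt N73865 (iv0 F226239)) (tt N78938 (iv2 F335171)) (tt N77556 F314420) (tt N78936 F335170) (tt N41004 (iv5 D143533)) (tt N42294 F314421) (tt N78933 (iv7 F335172)))
theorem Q73944 : ∀ i, i < 73944 → P i := stepQ 73943 Q73943 (allL N73943 (tt N57619 F226249) (tt N73325 (iv0 F226250)) (tt N73330 F363160) (tt N106957 F456444) (tt N41005 (iv4 D143544)) (tt N108434 D211658) (tt N108435 D211659) (tt N73331 F338997))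
theorem Q73945 : ∀ i, i < 73945 → P i := stepQ 73944 Q73944 (allL N73944 (tt N68354 F338962) (tt N78313 F338963) (tt N78312 (iv2 F339005)) (tt N41007 F226251) (tt N68554 F338965) (tt N41005 (iv5 D143545)) (tt N46570 F338966) (tt N76515 F338998))
theorem Q73946 : ∀ i, i < 73946 → P i := stepQ 73945 Q73945 (allL N73945 (tt N80403 (iv1 F360582)) (tt N75515 (iv0 F360580)) (tt N77693 (iv2 F340773)) (tt N41008 F226252) (tt N108435 (iv4 F462548)) (tt N80441 F360581) (tt N41005 (iv6 D143546)) (tt N80406 (iv7 F366806)))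
theorem Q73947 : ∀ i, i < 73947 → P i := stepQ 73946 Q73946 (allL N73946 (tt N69572 F358054) (tt N106832 F455886) (tt N106833 F455890) (tt N41006 (iv3 D143550)) (tt N106957 (iv4 F456443)) (tt N53335 (iv5 F358055)) (tt N108436 D211660) (tt N106834 (iv7 F455893)))
theorem Q73948 : ∀ i, i < 73948 → P i := stepQ 73947 Q73947 (allL N73947 (tt N80087 F342553) (tt N105020 (iv0 F448414)) (tt N107278 (iv2 F457763)) (tt N108436 (iv3 F462554)) (tt N41008 F226255) (tt N108437 D211661) (tt N41006 (iv6 D143552)) (tt N108090 (iv7 F461067)))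
theorem Q73949 : ∀ i, i < 73949 → P i := stepQ 73948 Q73948 (allL N73948 (tt N72399 (iv1 F342563)) (tt N72241 (iv0 F226264)) (tt N72705 F342572) (tt N80441 F342547) (tt N42895 F342548) (tt N41008 (iv5 D143561)) (tt N72393 (iv6 F342546)) (tt N72704 (iv7 F342586)))
theorem Q73950 : ∀ i, i < 73950 → P i := stepQ 73949 Q73949 (allL N73949 (tt N62431 (iv1 F361543)) (tt N71667 (iv0 F361533)) (tt N73345 F361584) (tt N108438 D211662) (tt N41009 (iv4 D143567)) (tt N106902 (iv5 F456211)) (tt N107939 (iv6 F460379)) (tt N73344 (iv7 F361585)))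
theorem Q73951 : ∀ i, i < 73951 → P i := stepQ 73950 Q73950 (allL N73950 (tt N45229 F339071) (tt N45249 F339072) (tt N42474 F339073) (tt N41011 F226266) (tt N42455 F339074) (tt N41009 (iv5 D143568)) (tt N76165 F339075) (tt N42470 F339076))
theorem Q73952 : ∀ i, i < 73952 → P i := stepQ 73951 Q73951 (allL N73951 (tt N106060 F452952) (tt N98999 (iv0 F422993)) (tt N106062 F452957) (tt N41010 (iv3 D143570)) (tt N108438 (iv4 F462559)) (tt N53338 (iv5 F361936)) (tt N106902 F456214) (tt N106061 F452955))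
theorem Q73953 : ∀ i, i < 73953 → P i := stepQ 73952 Q73952 (allL N73952 (tt N107266 F457710) (tt N108357 (iv0 F462234)) (tt N107277 (iv2 F457759)) (tt N106902 (iv3 F456213)) (tt N41012 F226268) (tt N108438 (iv5 F462560)) (tt N41010 (iv6 D143572)) (tt N108243 (iv7 F461654)))
theorem Q73954 : ∀ i, i < 73954 → P i := stepQ 73953 Q73953 (allL N73953 (tt N68296 F349701) (tt N99716 (iv0 F425886)) (tt N76517 F338979) (tt N76165 (iv3 F349700)) (tt N78346 F349699) (tt N44075 F338980) (tt N41011 (iv6 D143574)) (tt N107572 (iv7 F458796)))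
theorem Q73955 : ∀ i, i < 73955 → P i := stepQ 73954 Q73954 (allL N73954 (tt N58622 F226269) (tt N73193 (iv0 F226270)) (tt N73195 F338990) (tt N73615 F342558) (tt N108439 D211663) (tt N41012 (iv5 D143577)) (tt N44075 F338991) (tt N73196 F338992))
theorem Q73956 : ∀ i, i < 73956 → P i := stepQ 73955 Q73955 (allL N73955 (tt N108440 D211664) (tt N49457 (iv0 F351746)) (tt N81203 (iv2 F363367)) (tt N41015 (iv3 D143591)) (tt N41056 F226274) (tt N72059 (iv5 F363871)) (tt N100005 (iv6 F427153)) (tt N101105 (iv7 F431693)))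
theorem Q73957 : ∀ i, i < 73957 → P i := stepQ 73956 Q73956 (allL N73956 (tt N78337 F350780) (tt N42426 F350781) (tt N78334 (iv2 F350777)) (tt N41017 (iv3 D143598)) (tt N76928 F350775) (tt N42074 F350776) (tt N108441 D211665) (tt N78335 (iv7 F350779)))
theorem Q73958 : ∀ i, i < 73958 → P i := stepQ 73957 Q73957 (allL N73957 (tt N94042 F402946) (tt N42282 F330651) (tt N84771 (iv2 F370564)) (tt N108441 (iv3 F462579)) (tt N103003 (iv4 F439639)) (tt N74240 (iv5 F352094)) (tt N41017 (iv6 D143599)) (tt N100008 (iv7 F427172)))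
theorem Q73959 : ∀ i, i < 73959 → P i := stepQ 73958 Q73958 (allL N73958 (tt N41031 F346287) (tt N63692 (iv0 F346286)) (tt N63702 (iv2 F339401)) (tt N80712 (iv3 F346288)) (tt N73153 F226285) (tt N108442 D211666) (tt N41018 (iv6 D143601)) (tt N63703 F346290))
theorem Q73960 : ∀ i, i < 73960 → P i := stepQ 73959 Q73959 (allL N73959 (tt N41694 (iv1 F226287)) (tt N41019 (iv0 D143602)) (tt N41693 (iv2 F226288)) (tt N108443 D211667) (tt N85800 (iv4 F374006)) (tt N62491 F226286) (tt N85799 (iv6 F374003)) (tt N41692 (iv7 F226289)))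
theorem Q73961 : ∀ i, i < 73961 → P i := stepQ 73960 Q73960 (allL N73960 (tt N101039 (iv1 F431411)) (tt N101036 (iv0 F431396)) (tt N105707 F451350) (tt N41607 F226294) (tt N99746 (iv4 F426026)) (tt N75997 F361357) (tt N41019 (iv6 D143604)) (tt N100806 (iv7 F430561)))
theorem Q73962 : ∀ i, i < 73962 → P i := stepQ 73961 Q73961 (allL N73961 (tt N77196 F333386) (tt N41040 F333387) (tt N75953 F333388) (tt N86111 F375136) (tt N46227 F333389) (tt N108444 D211668) (tt N41021 (iv6 D143656)) (tt N75952 F333390))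
theorem Q73963 : ∀ i, i < 73963 → P i := stepQ 73962 Q73962 (allL N73962 (tt N54906 F355615) (tt N54903 (iv0 F355642)) (tt N92203 (iv2 F396228)) (tt N41022 (iv3 D143657)) (tt N72804 F226337) (tt N91228 (iv5 F392356)) (tt N61480 F355614) (tt N98353 (iv7 F420614)))
theorem Q73964 : ∀ i, i < 73964 → P i := stepQ 73963 Q73963 (allL N73963 (tt N92798 (iv1 F398281)) (tt N41023 (iv0 D143659)) (tt N52751 (iv2 F333382)) (tt N54889 (iv3 F363540)) (tt N93925 (iv4 F402447)) (tt N62457 F226339) (tt N52749 F363539) (tt N73781 (iv7 F226341)))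
theorem Q73965 : ∀ i, i < 73965 → P i := stepQ 73964 Q73964 (allL N73964 (tt N41023 (iv1 D143660)) (tt N92798 (iv0 F398280)) (tt N73781 (iv2 F226344)) (tt N52753 (iv3 F357469)) (tt N93917 (iv4 F402428)) (tt N62458 F226343) (tt N108445 D211669) (tt N52751 (iv7 F333384)))
theorem Q73966 : ∀ i, i < 73966 → P i := stepQ 73965 Q73965 (allL N73965 (tt N93909 (iv1 F402389)) (tt N93906 (iv0 F402367)) (tt N52033 (iv2 F356907)) (tt N62484 (iv3 F226348)) (tt N41023 (iv4 D143661)) (tt N55205 (iv5 F356918)) (tt N51760 (iv6 F356890)) (tt N73646 F226346))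
theorem Q73967 : ∀ i, i < 73967 → P i := stepQ 73966 Q73966 (allL N73966 (tt N86994 (iv1 F377986)) (tt N83295 F364052) (tt N52031 (iv2 F356939)) (tt N41406 F226349) (tt N51760 F356912) (tt N100599 (iv5 F429636)) (tt N41023 (iv6 D143662)) (tt N52027 (iv7 F356940)))
theorem Q73968 : ∀ i, i < 73968 → P i := stepQ 73967 Q73967 (allL N73967 (tt N73120 F366143) (tt N73138 F366144) (tt N99604 (iv2 F425371)) (tt N41407 F226350) (tt N108446 D211670) (tt N41024 (iv5 D143665)) (tt N100599 F429638) (tt N76001 F366344))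
theorem Q73969 : ∀ i, i < 73969 → P i := stepQ 73968 Q73968 (allL N73968 (tt N87921 (iv1 F381137)) (tt N42269 F346199) (tt N76002 F346200) (tt N99996 (iv3 F427106)) (tt N85772 (iv4 F373873)) (tt N68364 F346201) (tt N41025 (iv6 D143676)) (tt N77241 F346202))
theorem Q73970 : ∀ i, i < 73970 → P i := stepQ 73969 Q73969 (allL N73969 (tt N76546 F346291) (tt N108260 F461747) (tt N77575 (iv2 F362038)) (tt N47392 F346289) (tt N41029 (iv4 D143712)) (tt N43334 F346292) (tt N100007 (iv6 F427163)) (tt N99567 (iv7 F425206)))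
theorem Q73971 : ∀ i, i < 73971 → P i := stepQ 73970 Q73970 (allL N73970 (tt N63703 F339396) (tt N63702 F339395) (tt N41031 F226384) (tt N63739 F339394) (tt N41030 (iv4 D143720)) (tt N63693 (iv5 F339393)) (tt N42270 F324157) (tt N63692 F334104))
theorem Q73972 : ∀ i, i < 73972 → P i := stepQ 73971 Q73971 (allL N73971 (tt N63692 F324816) (tt N41031 (iv0 D143723)) (tt N63703 F324817) (tt N108447 D211671) (tt N75890 (iv4 F362048)) (tt N43325 F324818) (tt N100008 (iv6 F427169)) (tt N63702 F339232))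
theorem Q73973 : ∀ i, i < 73973 → P i := stepQ 73972 Q73972 (allL N73972 (tt N74243 F353464) (tt N74246 (iv0 F332100)) (tt N42270 F321819) (tt N64232 (iv3 F323515)) (tt N41032 F226387) (tt N57375 (iv5 F321595)) (tt N41031 (iv6 D143726)) (tt N42267 F321820))
theorem Q73974 : ∀ i, i < 73974 → P i := stepQ 73973 Q73973 (allL N73973 (tt N73695 (iv1 F340957)) (tt N68292 F340959) (tt N42271 (iv2 F323524)) (tt N41036 F226389) (tt N52842 F308967) (tt N41032 (iv5 D143733)) (tt N54296 F308968) (tt N42268 (iv7 F323523)))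
theorem Q73975 : ∀ i, i < 73975 → P i := stepQ 73974 Q73974 (allL N73974 (tt N74501 F228030) (tt N76015 (iv0 F343397)) (tt N47385 F312769) (tt N41033 (iv3 D143741)) (tt N47357 F334561) (tt N41368 F226409) (tt N42800 F226410) (tt N47388 (iv7 F315245)))
theorem Q73976 : ∀ i, i < 73976 → P i := stepQ 73975 Q73975 (allL N73975 (tt N80141 F315702) (tt N42600 F315703) (tt N80144 (iv2 F353112)) (tt N46037 F315704) (tt N41038 (iv4 D143755)) (tt N86311 (iv5 F375792)) (tt N46033 F315705) (tt N80143 (iv7 F353115)))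
theorem Q73977 : ∀ i, i < 73977 → P i := stepQ 73976 Q73976 (allL N73976 (tt N75953 (iv1 F346265)) (tt N75952 F346264) (tt N41040 F226422) (tt N77635 F363833) (tt N41039 (iv4 D143758)) (tt N108448 D211672) (tt N79992 (iv6 F363835)) (tt N77196 (iv7 F364728)))
theorem Q73978 : ∀ i, i < 73978 → P i := stepQ 73977 Q73977 (allL N73977 (tt N42023 F315713) (tt N41990 F315714) (tt N41041 F226424) (tt N63708 F315715) (tt N79992 F315716) (tt N88208 (iv5 F382181)) (tt N41039 (iv6 D143760)) (tt N42021 F315717))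
theorem Q73979 : ∀ i, i < 73979 → P i := stepQ 73978 Q73978 (allL N73978 (tt N41040 (iv1 D143762)) (tt N77196 F315722) (tt N75952 F315723) (tt N108449 D211673) (tt N46228 F315724) (tt N107908 (iv5 F460221)) (tt N80389 F364345) (tt N75953 F315725))
theorem Q73980 : ∀ i, i < 73980 → P i := stepQ 73979 Q73979 (allL N73979 (tt N66952 F364348) (tt N108232 (iv0 F461602)) (tt N108448 (iv2 F462619)) (tt N98348 F420596) (tt N108450 D211674) (tt N41040 (iv5 D143763)) (tt N83293 (iv6 F374236)) (tt N85856 F374234))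
theorem Q73981 : ∀ i, i < 73981 → P i := stepQ 73980 Q73980 (allL N73980 (tt N42021 F315730) (tt N41041 (iv0 D143769)) (tt N42023 F315731) (tt N75247 F315732) (tt N45064 F315733) (tt N41934 F315734) (tt N75247 F315735) (tt N41990 F315736))
theorem Q73982 : ∀ i, i < 73982 → P i := stepQ 73981 Q73981 (allL N73981 (tt N87891 F380988) (tt N42187 F313470) (tt N88208 F382185) (tt N41044 F226430) (tt N82149 (iv4 F355433)) (tt N41041 (iv5 D143771)) (tt N42165 F313471) (tt N41940 F313472))
theorem Q73983 : ∀ i, i < 73983 → P i := stepQ 73982 Q73982 (allL N73982 (tt N95339 (iv1 F407909)) (tt N95338 (iv0 F407908)) (tt N95341 (iv2 F407922)) (tt N54413 (iv3 F357181)) (tt N108451 D211675) (tt N41045 (iv5 D143792)) (tt N74127 (iv6 F414067)) (tt N59791 F346863))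
theorem Q73984 : ∀ i, i < 73984 → P i := stepQ 73983 Q73983 (allL N73983 (tt N108264 (iv1 F461774)) (tt N76248 (iv0 F344483)) (tt N108256 (iv2 F461724)) (tt N67353 F226443) (tt N41047 F226444) (tt N108452 D211676) (tt N41045 (iv6 D143793)) (tt N104737 (iv7 F447047)))
theorem Q73985 : ∀ i, i < 73985 → P i := stepQ 73984 Q73984 (allL N73984 (tt N68275 (iv1 F335231)) (tt N53280 (iv0 F335229)) (tt N46729 F318430) (tt N53873 F318431) (tt N41046 (iv4 D143796)) (tt N101182 (iv5 F432086)) (tt N100568 (iv6 F429501)) (tt N53898 F318432))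
theorem Q73986 : ∀ i, i < 73986 → P i := stepQ 73985 Q73985 (allL N73985 (tt N76012 F318433) (tt N63848 F318434) (tt N46577 F318435) (tt N41048 F226445) (tt N100568 (iv4 F429500)) (tt N67753 F335156) (tt N41046 (iv6 D143797)) (tt N76013 F318436))
theorem Q73987 : ∀ i, i < 73987 → P i := stepQ 73986 Q73986 (allL N73986 (tt N62679 (iv1 F340944)) (tt N69420 (iv0 F340941)) (tt N67758 F340821) (tt N41049 F226446) (tt N67754 F363406) (tt N41047 (iv5 D143800)) (tt N67753 (iv6 F340945)) (tt N72707 F226447))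
theorem Q73988 : ∀ i, i < 73988 → P i := stepQ 73987 Q73987 (allL N73987 (tt N58690 (iv1 F358852)) (tt N108453 D211677) (tt N97662 (iv2 F417829)) (tt N57150 F226470) (tt N81742 F358853) (tt N41050 (iv5 D143828)) (tt N108454 D211678) (tt N93829 (iv7 F402053)))
theorem Q73989 : ∀ i, i < 73989 → P i := stepQ 73988 Q73988 (allL N73988 (tt N73173 F342467) (tt N73177 (iv0 F363158)) (tt N108307 (iv2 F461989)) (tt N57151 F226471) (tt N41052 F226472) (tt N107932 (iv5 F460348)) (tt N41050 (iv6 D143829)) (tt N102399 (iv7 F437069)))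
theorem Q73990 : ∀ i, i < 73990 → P i := stepQ 73989 Q73989 (allL N73989 (tt N73788 F342469) (tt N74700 F342470) (tt N74706 F351585) (tt N41054 F226474) (tt N74610 F342466) (tt N41052 (iv5 D143836)) (tt N43877 F316191) (tt N73199 F226475))
theorem Q73991 : ∀ i, i < 73991 → P i := stepQ 73990 Q73990 (allL N73990 (tt N79493 F363368) (tt N43725 F341202) (tt N41056 (iv2 D143869)) (tt N80910 F341203) (tt N81203 F341204) (tt N47042 F341207) (tt N70515 F341216) (tt N80911 F341205))
theorem Q73992 : ∀ i, i < 73992 → P i := stepQ 73991 Q73991 (allL N73991 (tt N47040 F319374) (tt N47043 F319375) (tt N47042 (iv2 F321382)) (tt N41057 F226488) (tt N80002 F319376) (tt N41056 (iv5 D143870)) (tt N47077 F312569) (tt N47041 F319377))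
theorem Q73993 : ∀ i, i < 73993 → P i := stepQ 73992 Q73992 (allL N73992 (tt N77679 F362322) (tt N91058 F391797) (tt N90985 (iv2 F391474)) (tt N41059 F226491) (tt N101097 (iv4 F431659)) (tt N41058 (iv5 D143874)) (tt N108455 D211679) (tt N91057 F391794))
theorem Q73994 : ∀ i, i < 73994 → P i := stepQ 73993 Q73993 (allL N73993 (tt N77692 F362320) (tt N76289 F362321) (tt N77689 F348150) (tt N41060 F226492) (tt N41063 F226493) (tt N108456 D211680) (tt N41058 (iv6 D143875)) (tt N77690 (iv7 F348152)))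
theorem Q73995 : ∀ i, i < 73995 → P i := stepQ 73994 Q73994 (allL N73994 (tt N41059 (iv1 D143877)) (tt N65020 (iv0 F332950)) (tt N90927 (iv2 F391289)) (tt N96743 (iv3 F413728)) (tt N108457 D211681) (tt N72175 F226501) (tt N90922 (iv6 F391276)) (tt N72603 F226500))
theorem Q73996 : ∀ i, i < 73996 → P i := stepQ 73995 Q73995 (allL N73995 (tt N90932 F391297) (tt N108458 D211682) (tt N107290 (iv2 F457822)) (tt N108459 D211683) (tt N41059 (iv4 D143878)) (tt N106803 (iv5 F455744)) (tt N108460 D211684) (tt N99616 (iv7 F425434)))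
theorem Q73997 : ∀ i, i < 73997 → P i := stepQ 73996 Q73996 (allL N73996 (tt N108461 D211685) (tt N90943 (iv0 F431737)) (tt N107291 (iv2 F457825)) (tt N108455 (iv3 F462658)) (tt N108460 (iv4 F462678)) (tt N108462 D211686) (tt N41059 (iv6 D143879)) (tt N65017 F332954))
theorem Q73998 : ∀ i, i < 73998 → P i := stepQ 73997 Q73997 (allL N73997 (tt N62267 F226505) (tt N72566 F226504) (tt N72564 F226502) (tt N108456 (iv3 F462661)) (tt N108463 D211687) (tt N41060 (iv5 D143880)) (tt N108462 (iv6 F462687)) (tt N64328 (iv7 F356532)))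
theorem Q73999 : ∀ i, i < 73999 → P i := stepQ 73998 Q73998 (allL N73998 (tt N72477 F226509) (tt N72621 F226511) (tt N72181 F226506) (tt N54419 (iv3 F357160)) (tt N41061 (iv4 D143881)) (tt N101655 (iv5 F433715)) (tt N59223 F226507) (tt N72459 F226508))
theorem Q74000 : ∀ i, i < 74000 → P i := stepQ 73999 Q73999 (allL N73999 (tt N72485 (iv1 F226513)) (tt N41062 (iv0 D143882)) (tt N72175 (iv2 F226512)) (tt N108464 D211688) (tt N96003 (iv4 F410588)) (tt N90927 (iv5 F391290)) (tt N59219 (iv6 F226515)) (tt N72456 F226514))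
theorem Q74001 : ∀ i, i < 74001 → P i := stepQ 74000 Q74000 (allL N74000 (tt N77680 F320337) (tt N72594 (iv0 F323767)) (tt N77677 F320339) (tt N41062 (iv3 D143883)) (tt N41066 F226516) (tt N106466 (iv5 F454569)) (tt N56067 F320340) (tt N77678 F320341))
theorem Q74002 : ∀ i, i < 74002 → P i := stepQ 74001 Q74001 (allL N74001 (tt N62299 (iv1 F332421)) (tt N72801 (iv0 F332418)) (tt N72799 (iv2 F332424)) (tt N41064 F226528) (tt N106384 (iv4 F454236)) (tt N41063 (iv5 D143903)) (tt N48466 F332423) (tt N72750 F226529))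
theorem Q74003 : ∀ i, i < 74003 → P i := stepQ 74002 Q74002 (allL N74002 (tt N72660 F245343) (tt N98838 (iv0 F422521)) (tt N65028 (iv2 F357243)) (tt N76804 (iv3 F366326)) (tt N41065 (iv4 D143916)) (tt N99228 (iv5 F423760)) (tt N44204 F226555) (tt N61901 F226556))
theorem Q74004 : ∀ i, i < 74004 → P i := stepQ 74003 Q74003 (allL N74003 (tt N72196 F320333) (tt N42907 F320334) (tt N41066 (iv2 D143921)) (tt N99615 (iv3 F425428)) (tt N77677 F320335) (tt N56129 (iv5 F363159)) (tt N56056 F320336) (tt N72773 F341081))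
theorem Q74005 : ∀ i, i < 74005 → P i := stepQ 74004 Q74004 (allL N74004 (tt N107840 (iv1 F459946)) (tt N107841 (iv0 F459952)) (tt N74704 (iv2 F351574)) (tt N41069 F226563) (tt N41072 F226564) (tt N73182 (iv5 F342438)) (tt N41067 (iv6 D143926)) (tt N74711 (iv7 F350126)))
theorem Q74006 : ∀ i, i < 74006 → P i := stepQ 74005 Q74005 (allL N74005 (tt N93369 (iv1 F400553)) (tt N41068 (iv0 D143927)) (tt N99613 F425425) (tt N94505 (iv3 F404746)) (tt N99023 (iv4 F423069)) (tt N94505 (iv5 F404748)) (tt N90348 (iv6 F400554)) (tt N99612 F425420))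
theorem Q74007 : ∀ i, i < 74007 → P i := stepQ 74006 Q74006 (allL N74006 (tt N41068 (iv1 D143928)) (tt N93369 (iv0 F400552)) (tt N99612 (iv2 F425421)) (tt N108465 D211689) (tt N99024 (iv4 F423073)) (tt N62205 (iv5 F226565)) (tt N108466 D211690) (tt N99613 (iv7 F425423)))
theorem Q74008 : ∀ i, i < 74008 → P i := stepQ 74007 Q74007 (allL N74007 (tt N108467 D211691) (tt N108468 D211692) (tt N107684 (iv2 F459221)) (tt N45351 F323332) (tt N41068 (iv4 D143929)) (tt N108469 D211693) (tt N108470 D211694) (tt N99614 (iv7 F425427)))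
theorem Q74009 : ∀ i, i < 74009 → P i := stepQ 74008 Q74008 (allL N74008 (tt N73039 F401238) (tt N99018 F423058) (tt N107685 (iv2 F459225)) (tt N78342 (iv3 F366308)) (tt N108470 (iv4 F462725)) (tt N93601 (iv5 F401237)) (tt N41068 (iv6 D143930)) (tt N101515 (iv7 F433221)))
theorem Q74010 : ∀ i, i < 74010 → P i := stepQ 74009 Q74009 (allL N74009 (tt N72951 F226613) (tt N107495 F458527) (tt N94509 (iv2 F404763)) (tt N79613 (iv3 F366415)) (tt N41070 (iv4 D143932)) (tt N107676 (iv5 F459189)) (tt N44312 F226571) (tt N62213 F226572))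
theorem Q74011 : ∀ i, i < 74011 → P i := stepQ 74010 Q74010 (allL N74010 (tt N93370 F400559) (tt N41071 (iv0 D143933)) (tt N62205 (iv2 F226576)) (tt N99612 (iv3 F425417)) (tt N94667 (iv4 F405450)) (tt N99612 (iv5 F425415)) (tt N56739 F226577) (tt N94505 (iv7 F404747)))
theorem Q74012 : ∀ i, i < 74012 → P i := stepQ 74011 Q74011 (allL N74011 (tt N41071 (iv1 D143934)) (tt N93370 (iv0 F400558)) (tt N94505 (iv2 F404745)) (tt N108471 D211695) (tt N70213 F226573) (tt N99613 (iv5 F425424)) (tt N44308 (iv6 F226574)) (tt N62205 (iv7 F226575)))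
theorem Q74013 : ∀ i, i < 74013 → P i := stepQ 74012 Q74012 (allL N74012 (tt N75510 F320346) (tt N77473 F320347) (tt N77471 F320348) (tt N41071 (iv3 D143935)) (tt N41074 F226578) (tt N90202 (iv5 F388876)) (tt N72691 F226579) (tt N77470 F320349))
theorem Q74014 : ∀ i, i < 74014 → P i := stepQ 74013 Q74013 (allL N74013 (tt N62336 F226582) (tt N70241 F226583) (tt N73473 F226580) (tt N90202 F388879) (tt N101643 (iv4 F433676)) (tt N41071 (iv5 D143936)) (tt N94996 F407182) (tt N73472 F226581))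
theorem Q74015 : ∀ i, i < 74015 → P i := stepQ 74014 Q74014 (allL N74014 (tt N72228 F333345) (tt N73149 F333346) (tt N73171 F350116) (tt N41073 F226591) (tt N73018 (iv4 F362763)) (tt N41072 (iv5 D143955)) (tt N67073 F324261) (tt N73172 (iv7 F350115)))
theorem Q74016 : ∀ i, i < 74016 → P i := stepQ 74015 Q74015 (allL N74015 (tt N95954 F410417) (tt N57974 (iv0 F226607)) (tt N70243 F226604) (tt N57635 F226605) (tt N107495 (iv4 F458525)) (tt N41075 (iv5 D143966)) (tt N74731 (iv6 F228692)) (tt N70242 F226606))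
theorem Q74017 : ∀ i, i < 74017 → P i := stepQ 74016 Q74016 (allL N74016 (tt N57974 F226611) (tt N95954 (iv0 F410416)) (tt N70242 F226608) (tt N74553 (iv3 F228348)) (tt N72951 (iv4 F226612)) (tt N41076 (iv5 D143967)) (tt N57963 F226609) (tt N70243 F226610))
theorem Q74018 : ∀ i, i < 74018 → P i := stepQ 74017 Q74017 (allL N74017 (tt N60325 (iv1 F226615)) (tt N41077 (iv0 D143968)) (tt N60324 F340504) (tt N73666 F340501) (tt N92323 (iv4 F396700)) (tt N98156 (iv5 F419757)) (tt N71064 F347197) (tt N59770 (iv7 F347196)))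
theorem Q74019 : ∀ i, i < 74019 → P i := stepQ 74018 Q74018 (allL N74018 (tt N60324 (iv1 F226620)) (tt N59770 (iv0 F347193)) (tt N41077 (iv2 D143970)) (tt N66524 F226616) (tt N95316 (iv4 F407830)) (tt N74173 (iv5 F226899)) (tt N107231 (iv6 F457564)) (tt N60325 F226617))
theorem Q74020 : ∀ i, i < 74020 → P i := stepQ 74019 Q74019 (allL N74019 (tt N108269 (iv1 F461796)) (tt N108268 F461793) (tt N107231 (iv2 F457562)) (tt N41078 F226621) (tt N95318 (iv4 F407837)) (tt N78194 (iv5 F340025)) (tt N41077 (iv6 D143971)) (tt N60344 F226622))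
theorem Q74021 : ∀ i, i < 74021 → P i := stepQ 74020 Q74020 (allL N74020 (tt N97322 (iv1 F416343)) (tt N97321 F416342) (tt N66526 F226623) (tt N78194 F340027) (tt N108472 D211696) (tt N41078 (iv5 D143972)) (tt N74177 (iv6 F226901)) (tt N60348 F226624))
theorem Q74022 : ∀ i, i < 74022 → P i := stepQ 74021 Q74021 (allL N74021 (tt N74057 (iv1 F331460)) (tt N62617 F331463) (tt N61243 (iv2 F331513)) (tt N105034 (iv3 F448484)) (tt N55786 (iv4 F321214)) (tt N41079 (iv5 D143973)) (tt N108473 D211697) (tt N61248 (iv7 F331512)))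
theorem Q74023 : ∀ i, i < 74023 → P i := stepQ 74022 Q74022 (allL N74022 (tt N102871 (iv1 F439029)) (tt N71831 F397736) (tt N67141 F226627) (tt N105035 (iv3 F448489)) (tt N108227 (iv4 F461571)) (tt N56184 (iv5 F340465)) (tt N41079 (iv6 D143974)) (tt N102870 (iv7 F439027)))
theorem Q74024 : ∀ i, i < 74024 → P i := stepQ 74023 Q74023 (allL N74023 (tt N59131 F226629) (tt N59134 F226630) (tt N93739 F401723) (tt N41080 (iv3 D143975)) (tt N93318 (iv4 F400375)) (tt N93160 (iv5 F399727)) (tt N96798 F414002) (tt N67139 F226628))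
theorem Q74025 : ∀ i, i < 74025 → P i := stepQ 74024 Q74024 (allL N74024 (tt N62617 (iv1 F331518)) (tt N74057 F331464) (tt N61248 (iv2 F331510)) (tt N93160 (iv3 F399725)) (tt N55788 F331509) (tt N41080 (iv5 D143976)) (tt N93159 F399722) (tt N61243 (iv7 F331515)))
theorem Q74026 : ∀ i, i < 74026 → P i := stepQ 74025 Q74025 (allL N74025 (tt N92533 F397284) (tt N108474 D211698) (tt N67138 F226633) (tt N96798 F414001) (tt N59141 (iv4 F340044)) (tt N96907 (iv5 F414550)) (tt N41080 (iv6 D143977)) (tt N93673 (iv7 F401518)))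
theorem Q74027 : ∀ i, i < 74027 → P i := stepQ 74026 Q74026 (allL N74026 (tt N62613 (iv1 F365014)) (tt N41082 (iv0 D143984)) (tt N74033 F365017) (tt N89216 (iv3 F385640)) (tt N108475 D211699) (tt N72141 (iv5 F365015)) (tt N108476 D211700) (tt N74032 F365016))
theorem Q74028 : ∀ i, i < 74028 → P i := stepQ 74027 Q74027 (allL N74027 (tt N41082 (iv1 D143985)) (tt N62613 F365021) (tt N74032 (iv2 F365019)) (tt N108477 D211701) (tt N74618 (iv4 F401269)) (tt N74207 F365020) (tt N74617 F401268) (tt N74033 F365018))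
theorem Q74029 : ∀ i, i < 74029 → P i := stepQ 74028 Q74028 (allL N74028 (tt N74208 (iv1 F226993)) (tt N108478 D211702) (tt N97170 (iv2 F415730)) (tt N89198 (iv3 F385544)) (tt N90278 (iv4 F389196)) (tt N41083 (iv5 D143992)) (tt N74060 (iv6 F331564)) (tt N72139 F226649))
theorem Q74030 : ∀ i, i < 74030 → P i := stepQ 74029 Q74029 (allL N74029 (tt N92537 F397295) (tt N91413 (iv0 F393028)) (tt N97171 (iv2 F415734)) (tt N88046 (iv3 F381568)) (tt N60351 F226650) (tt N74106 F226817) (tt N41083 (iv6 D143993)) (tt N97618 (iv7 F417621)))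
theorem Q74031 : ∀ i, i < 74031 → P i := stepQ 74030 Q74030 (allL N74030 (tt N79579 F366323) (tt N90526 F389962) (tt N89208 (iv2 F385600)) (tt N41084 (iv3 D143994)) (tt N94109 (iv4 F403245)) (tt N108479 D211703) (tt N97621 (iv6 F417636)) (tt N90527 (iv7 F389971)))
theorem Q74032 : ∀ i, i < 74032 → P i := stepQ 74031 Q74031 (allL N74031 (tt N108478 (iv1 F462757)) (tt N74208 F226994) (tt N72139 F226651) (tt N108479 (iv3 F462765)) (tt N90279 (iv4 F389198)) (tt N41084 (iv5 D143995)) (tt N93664 F401487) (tt N97170 (iv7 F415732)))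
theorem Q74033 : ∀ i, i < 74033 → P i := stepQ 74032 Q74032 (allL N74032 (tt N60247 (iv1 F226652)) (tt N41085 (iv0 D143996)) (tt N74027 F365019) (tt N54401 F357408) (tt N93612 (iv4 F401271)) (tt N54400 (iv5 F357409)) (tt N93611 (iv6 F401267)) (tt N74026 (iv7 F365016)))
theorem Q74034 : ∀ i, i < 74034 → P i := stepQ 74033 Q74033 (allL N74033 (tt N41085 (iv1 D143997)) (tt N60247 F226653) (tt N74026 (iv2 F365017)) (tt N108480 D211704) (tt N108481 D211705) (tt N97360 (iv5 F416493)) (tt N108482 D211706) (tt N74027 (iv7 F365018)))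
theorem Q74035 : ∀ i, i < 74035 → P i := stepQ 74034 Q74034 (allL N74034 (tt N91593 (iv1 F402088)) (tt N93745 (iv0 F401747)) (tt N108255 (iv2 F461717)) (tt N41086 (iv3 D143999)) (tt N57147 F226654) (tt N55053 (iv5 F390203)) (tt N91582 (iv6 F393698)) (tt N93835 (iv7 F402084)))
theorem Q74036 : ∀ i, i < 74036 → P i := stepQ 74035 Q74035 (allL N74035 (tt N54417 (iv1 F357169)) (tt N54415 (iv0 F357173)) (tt N54413 F357179) (tt N55053 F390201) (tt N107798 (iv4 F459766)) (tt N41086 (iv5 D144000)) (tt N107797 F459763) (tt N54414 (iv7 F357178)))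
theorem Q74037 : ∀ i, i < 74037 → P i := stepQ 74036 Q74036 (allL N74036 (tt N92531 F397271) (tt N91594 (iv0 F393733)) (tt N67353 F226655) (tt N91582 F393699) (tt N41088 F226656) (tt N74154 F226862) (tt N41086 (iv6 D144001)) (tt N67351 (iv7 F226657)))
theorem Q74038 : ∀ i, i < 74038 → P i := stepQ 74037 Q74037 (allL N74037 (tt N54416 (iv1 F357163)) (tt N74048 F226712) (tt N74190 F226945) (tt N91491 F406829) (tt N41087 (iv4 D144002)) (tt N97322 (iv5 F416344)) (tt N69438 F226658) (tt N74077 (iv7 F226779)))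
theorem Q74039 : ∀ i, i < 74039 → P i := stepQ 74038 Q74038 (allL N74038 (tt N73646 F226667) (tt N52033 (iv0 F356905)) (tt N93909 (iv2 F402385)) (tt N88244 F382480) (tt N73779 F226666) (tt N41089 (iv5 D144004)) (tt N108483 D211707) (tt N93906 (iv7 F402365)))
theorem Q74040 : ∀ i, i < 74040 → P i := stepQ 74039 Q74039 (allL N74039 (tt N108484 D211708) (tt N99670 (iv0 F425675)) (tt N93910 (iv2 F402390)) (tt N91406 (iv3 F393011)) (tt N99620 (iv4 F425450)) (tt N84539 F369650) (tt N41089 (iv6 D144005)) (tt N103127 (iv7 F440190)))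
theorem Q74041 : ∀ i, i < 74041 → P i := stepQ 74040 Q74040 (allL N74040 (tt N91266 F392459) (tt N99684 (iv0 F425734)) (tt N91407 (iv2 F393014)) (tt N41090 (iv3 D144006)) (tt N97011 (iv4 F415022)) (tt N108485 D211709) (tt N108486 D211710) (tt N93908 (iv7 F402382)))
theorem Q74042 : ∀ i, i < 74042 → P i := stepQ 74041 Q74041 (allL N74041 (tt N52033 (iv1 F356906)) (tt N73646 F226671) (tt N93906 (iv2 F402364)) (tt N108485 (iv3 F462791)) (tt N60199 (iv4 F326248)) (tt N41090 (iv5 D144007)) (tt N52078 (iv6 F366864)) (tt N93909 (iv7 F402387)))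
theorem Q74043 : ∀ i, i < 74043 → P i := stepQ 74042 Q74042 (allL N74042 (tt N60219 F379079) (tt N55221 (iv0 F379358)) (tt N93907 (iv2 F402375)) (tt N108486 (iv3 F462795)) (tt N97008 (iv4 F415007)) (tt N108487 D211711) (tt N41090 (iv6 D144008)) (tt N103138 (iv7 F440248)))
theorem Q74044 : ∀ i, i < 74044 → P i := stepQ 74043 Q74043 (allL N74043 (tt N52056 (iv1 F306972)) (tt N41092 (iv0 D144011)) (tt N52054 (iv2 F306959)) (tt N84693 (iv3 F379934)) (tt N73749 (iv4 F226682)) (tt N59117 F226680) (tt N91360 (iv6 F392869)) (tt N52055 (iv7 F306965)))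
theorem Q74045 : ∀ i, i < 74045 → P i := stepQ 74044 Q74044 (allL N74044 (tt N41092 (iv1 D144012)) (tt N52056 (iv0 F306971)) (tt N52055 (iv2 F306963)) (tt N108488 D211712) (tt N73734 (iv4 F226685)) (tt N59118 F226684) (tt N108489 D211713) (tt N52054 (iv7 F306961)))
theorem Q74046 : ∀ i, i < 74046 → P i := stepQ 74045 Q74045 (allL N74045 (tt N73783 F226690) (tt N73782 F226691) (tt N52053 (iv2 F306967)) (tt N62656 F226687) (tt N41092 (iv4 D144013)) (tt N62454 F226688) (tt N51395 F363532) (tt N73756 F226689))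
theorem Q74047 : ∀ i, i < 74047 → P i := stepQ 74046 Q74046 (allL N74046 (tt N41168 (iv1 F226702)) (tt N41093 (iv0 D144019)) (tt N41165 F350524) (tt N47670 F364451) (tt N88340 (iv4 F382647)) (tt N55530 F350525) (tt N108490 D211714) (tt N41166 F350526))
theorem Q74048 : ∀ i, i < 74048 → P i := stepQ 74047 Q74047 (allL N74047 (tt N41093 (iv1 D144020)) (tt N41168 F226697) (tt N41166 F350520) (tt N84684 (iv3 F370208)) (tt N88341 (iv4 F382653)) (tt N55586 (iv5 F350512)) (tt N108491 D211715) (tt N41165 F350521))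
theorem Q74049 : ∀ i, i < 74049 → P i := stepQ 74048 Q74048 (allL N74048 (tt N74037 (iv1 F226712)) (tt N66577 F226948) (tt N41173 F226709) (tt N91344 (iv3 F392817)) (tt N56932 F226710) (tt N90593 (iv5 F390191)) (tt N41094 (iv6 D144025)) (tt N68122 F226711))
theorem Q74050 : ∀ i, i < 74050 → P i := stepQ 74049 Q74049 (allL N74049 (tt N41177 (iv1 F226716)) (tt N41095 (iv0 D144026)) (tt N41174 (iv2 F226714)) (tt N108492 D211716) (tt N45149 F340047) (tt N59113 F226713) (tt N45148 F340048) (tt N41175 (iv7 F226715)))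
theorem Q74051 : ∀ i, i < 74051 → P i := stepQ 74050 Q74050 (allL N74050 (tt N41095 (iv1 D144027)) (tt N41177 F226717) (tt N41175 (iv2 F226720)) (tt N84639 F369962) (tt N85219 (iv4 F371943)) (tt N59114 F226719) (tt N84649 F370029) (tt N41174 F226718))
theorem Q74052 : ∀ i, i < 74052 → P i := stepQ 74051 Q74051 (allL N74051 (tt N100346 (iv1 F428523)) (tt N99653 (iv0 F425604)) (tt N87706 (iv2 F380203)) (tt N41097 (iv3 D144030)) (tt N61888 F226726) (tt N51628 (iv5 F365050)) (tt N97124 (iv6 F415559)) (tt N41184 F226727))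
theorem Q74053 : ∀ i, i < 74053 → P i := stepQ 74052 Q74052 (allL N74052 (tt N54400 F357410) (tt N97360 (iv0 F416494)) (tt N41186 F226736) (tt N91630 (iv3 F393836)) (tt N41099 F226737) (tt N91630 (iv5 F393837)) (tt N41098 (iv6 D144034)) (tt N97125 (iv7 F415567)))
theorem Q74054 : ∀ i, i < 74054 → P i := stepQ 74053 Q74053 (allL N74053 (tt N66023 F226740) (tt N70220 F226745) (tt N94798 (iv2 F405986)) (tt N65940 F226738) (tt N59552 (iv4 F226742)) (tt N41101 (iv5 D144035)) (tt N59550 F226741) (tt N65928 F226739))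
theorem Q74055 : ∀ i, i < 74055 → P i := stepQ 74054 Q74054 (allL N74054 (tt N44326 F226748) (tt N70206 (iv0 F226749)) (tt N69034 F226746) (tt N93950 (iv3 F402559)) (tt N72631 F226750) (tt N95903 (iv5 F410171)) (tt N41101 (iv6 D144036)) (tt N70205 F226747))
theorem Q74056 : ∀ i, i < 74056 → P i := stepQ 74055 Q74055 (allL N74055 (tt N99718 (iv1 F425896)) (tt N41270 (iv0 F226758)) (tt N72464 (iv2 F357470)) (tt N41103 (iv3 D144038)) (tt N62256 F226757) (tt N78537 (iv5 F357460)) (tt N80928 F357461) (tt N72466 (iv7 F357519)))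
theorem Q74057 : ∀ i, i < 74057 → P i := stepQ 74056 Q74056 (allL N74056 (tt N60039 F332884) (tt N65934 F332885) (tt N93606 (iv2 F401243)) (tt N80928 (iv3 F332888)) (tt N41501 F332886) (tt N80927 F332887) (tt N41103 (iv6 D144040)) (tt N89935 (iv7 F388046)))
theorem Q74058 : ∀ i, i < 74058 → P i := stepQ 74057 Q74057 (allL N74057 (tt N74024 (iv1 F331464)) (tt N74021 F331460) (tt N41106 F226763) (tt N99654 (iv3 F425607)) (tt N56343 (iv4 F331467)) (tt N41105 (iv5 D144045)) (tt N108493 D211717) (tt N98154 (iv7 F419744)))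
theorem Q74059 : ∀ i, i < 74059 → P i := stepQ 74058 Q74058 (allL N74058 (tt N108494 D211718) (tt N108495 D211719) (tt N41107 F226764) (tt N99655 (iv3 F425612)) (tt N72972 F226765) (tt N108496 D211720) (tt N41105 (iv6 D144046)) (tt N108497 D211721))
theorem Q74060 : ∀ i, i < 74060 → P i := stepQ 74059 Q74059 (allL N74059 (tt N108498 D211722) (tt N108499 D211723) (tt N108493 (iv2 F462822)) (tt N41108 F226766) (tt N92671 F397830) (tt N104890 (iv5 F447821)) (tt N41106 (iv6 D144050)) (tt N108500 D211724))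
theorem Q74061 : ∀ i, i < 74061 → P i := stepQ 74060 Q74060 (allL N74060 (tt N108497 (iv1 F462851)) (tt N41107 (iv0 D144051)) (tt N108494 F462834) (tt N108501 D211725) (tt N108502 D211726) (tt N108503 D211727) (tt N74028 F331564) (tt N108495 (iv7 F462837)))
theorem Q74062 : ∀ i, i < 74062 → P i := stepQ 74061 Q74061 (allL N74061 (tt N41107 (iv1 D144052)) (tt N108497 F462850) (tt N108495 (iv2 F462839)) (tt N108504 D211728) (tt N96091 (iv4 F411003)) (tt N108505 D211729) (tt N96090 (iv6 F411001)) (tt N108494 F462835))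
theorem Q74063 : ∀ i, i < 74063 → P i := stepQ 74062 Q74062 (allL N74062 (tt N108506 D211730) (tt N108507 D211731) (tt N108496 (iv2 F462843)) (tt N41111 F226767) (tt N104897 (iv4 F447848)) (tt N41107 (iv5 D144053)) (tt N104890 F447823) (tt N108508 D211732))
theorem Q74064 : ∀ i, i < 74064 → P i := stepQ 74063 Q74063 (allL N74063 (tt N108495 (iv1 F462836)) (tt N108494 F462841) (tt N108497 (iv2 F462847)) (tt N41112 F226768) (tt N72975 F226769) (tt N108508 (iv5 F462894)) (tt N69460 F226770) (tt N41107 (iv7 D144054)))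
theorem Q74065 : ∀ i, i < 74065 → P i := stepQ 74064 Q74064 (allL N74064 (tt N99665 (iv1 F425652)) (tt N41108 (iv0 D144055)) (tt N99662 F425638) (tt N108509 D211733) (tt N97150 (iv4 F415682)) (tt N108510 D211734) (tt N97149 F415680) (tt N99663 (iv7 F425643)))
theorem Q74066 : ∀ i, i < 74066 → P i := stepQ 74065 Q74065 (allL N74065 (tt N41108 (iv1 D144056)) (tt N99665 F425651) (tt N99663 (iv2 F425645)) (tt N108511 D211735) (tt N84679 (iv4 F425640)) (tt N108512 D211736) (tt N84678 (iv6 F425641)) (tt N99662 F425639))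
theorem Q74067 : ∀ i, i < 74067 → P i := stepQ 74066 Q74066 (allL N74066 (tt N108513 D211737) (tt N108514 D211738) (tt N99664 (iv2 F425647)) (tt N104890 F447822) (tt N108515 D211739) (tt N41108 (iv5 D144057)) (tt N41111 F226771) (tt N108516 D211740))
theorem Q74068 : ∀ i, i < 74068 → P i := stepQ 74067 Q74067 (allL N74067 (tt N99663 (iv1 F425642)) (tt N99662 F425646) (tt N99665 (iv2 F425649)) (tt N108500 (iv3 F462863)) (tt N74152 (iv4 F226860)) (tt N108516 (iv5 F462906)) (tt N99647 (iv6 F425566)) (tt N41108 (iv7 D144058)))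
theorem Q74069 : ∀ i, i < 74069 → P i := stepQ 74068 Q74068 (allL N74068 (tt N108517 D211741) (tt N71584 (iv0 F389959)) (tt N54395 F357417) (tt N41109 (iv3 D144059)) (tt N53386 (iv4 F327146)) (tt N108518 D211742) (tt N53384 (iv6 F357416)) (tt N95561 (iv7 F408658)))
theorem Q74070 : ∀ i, i < 74070 → P i := stepQ 74069 Q74069 (allL N74069 (tt N97133 (iv1 F415610)) (tt N97136 (iv0 F415624)) (tt N99667 (iv2 F425657)) (tt N108518 (iv3 F462912)) (tt N108519 D211743) (tt N41109 (iv5 D144060)) (tt N108520 D211744) (tt N99668 (iv7 F425665)))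
theorem Q74071 : ∀ i, i < 74071 → P i := stepQ 74070 Q74070 (allL N74070 (tt N99725 F425922) (tt N108521 D211745) (tt N108522 D211746) (tt N41110 (iv3 D144061)) (tt N67001 F346565) (tt N108523 D211747) (tt N103959 (iv6 F443527)) (tt N99666 (iv7 F425656)))
theorem Q74072 : ∀ i, i < 74072 → P i := stepQ 74071 Q74071 (allL N74071 (tt N97136 (iv1 F415625)) (tt N97133 (iv0 F415609)) (tt N99668 (iv2 F425662)) (tt N108523 (iv3 F462934)) (tt N108524 D211748) (tt N41110 (iv5 D144062)) (tt N108525 D211749) (tt N99667 (iv7 F425658)))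
theorem Q74073 : ∀ i, i < 74073 → P i := stepQ 74072 Q74072 (allL N74072 (tt N97222 (iv1 F415961)) (tt N41111 (iv0 D144063)) (tt N97224 (iv2 F415968)) (tt N108526 D211750) (tt N108527 D211751) (tt N60141 F226773) (tt N87943 F381258) (tt N60140 (iv7 F226774)))
theorem Q74074 : ∀ i, i < 74074 → P i := stepQ 74073 Q74073 (allL N74073 (tt N108528 D211752) (tt N84615 F404496) (tt N99669 (iv2 F425668)) (tt N104898 F447847) (tt N41111 (iv4 D144064)) (tt N91961 F395145) (tt N108515 (iv6 F462903)) (tt N102110 (iv7 F435778)))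
theorem Q74075 : ∀ i, i < 74075 → P i := stepQ 74074 Q74074 (allL N74074 (tt N60140 (iv1 F226776)) (tt N97224 F415972) (tt N97222 F415964) (tt N108508 (iv3 F462893)) (tt N102110 (iv4 F435776)) (tt N41112 F226775) (tt N108529 D211753) (tt N41111 (iv7 D144065)))
theorem Q74076 : ∀ i, i < 74076 → P i := stepQ 74075 Q74075 (allL N74075 (tt N103127 F440191) (tt N93910 (iv0 F402397)) (tt N108484 F462788) (tt N41113 (iv3 D144066)) (tt N93521 (iv4 F401016)) (tt N108530 D211754) (tt N55267 F406832) (tt N99670 (iv7 F425674)))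
theorem Q74077 : ∀ i, i < 74077 → P i := stepQ 74076 Q74076 (allL N74076 (tt N97127 (iv1 F415582)) (tt N97129 (iv0 F415590)) (tt N97119 (iv2 F415527)) (tt N108530 (iv3 F462963)) (tt N108531 D211755) (tt N41113 (iv5 D144067)) (tt N108532 D211756) (tt N99671 (iv7 F425680)))
theorem Q74078 : ∀ i, i < 74078 → P i := stepQ 74077 Q74077 (allL N74077 (tt N41173 F226781) (tt N68122 (iv0 F226780)) (tt N66577 F226777) (tt N55267 F406830) (tt N41115 F226778) (tt N97357 (iv5 F416473)) (tt N41113 (iv6 D144068)) (tt N74037 F226779))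
theorem Q74079 : ∀ i, i < 74079 → P i := stepQ 74078 Q74078 (allL N74078 (tt N97129 (iv1 F415591)) (tt N97127 (iv0 F415581)) (tt N99671 (iv2 F425677)) (tt N51921 (iv3 F361797)) (tt N51934 F361798) (tt N41116 (iv5 D144069)) (tt N108533 D211757) (tt N97119 (iv7 F415529)))
theorem Q74080 : ∀ i, i < 74080 → P i := stepQ 74079 Q74079 (allL N74079 (tt N61850 (iv1 F226783)) (tt N41117 (iv0 D144070)) (tt N61849 (iv2 F392457)) (tt N71385 F226782) (tt N91266 F392456) (tt N103214 (iv5 F440601)) (tt N91265 (iv6 F392458)) (tt N61848 (iv7 F392461)))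
theorem Q74081 : ∀ i, i < 74081 → P i := stepQ 74080 Q74080 (allL N74080 (tt N41117 (iv1 D144071)) (tt N61850 F226788) (tt N61848 F392462) (tt N99089 (iv3 F423302)) (tt N99684 (iv4 F425735)) (tt N103215 (iv5 F440609)) (tt N108534 D211758) (tt N61849 F392460))
theorem Q74082 : ∀ i, i < 74082 → P i := stepQ 74081 Q74081 (allL N74081 (tt N61849 (iv1 F226789)) (tt N61848 F226787) (tt N41117 (iv2 D144072)) (tt N61858 F226784) (tt N41123 F226785) (tt N99071 (iv5 F423228)) (tt N108535 D211759) (tt N61850 F226786))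
theorem Q74083 : ∀ i, i < 74083 → P i := stepQ 74082 Q74082 (allL N74082 (tt N108536 D211760) (tt N108537 D211761) (tt N108535 (iv2 F462987)) (tt N41118 F226790) (tt N41125 F226791) (tt N108538 D211762) (tt N41117 (iv6 D144073)) (tt N108539 D211763))
theorem Q74084 : ∀ i, i < 74084 → P i := stepQ 74083 Q74083 (allL N74083 (tt N41118 (iv1 D144074)) (tt N44212 F226792) (tt N44214 (iv2 F226795)) (tt N108540 D211764) (tt N44163 F226794) (tt N108541 D211765) (tt N44202 (iv6 F226796)) (tt N44161 F226793))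
theorem Q74085 : ∀ i, i < 74085 → P i := stepQ 74084 Q74084 (allL N74084 (tt N108542 D211766) (tt N99290 (iv0 F423960)) (tt N61862 F226797) (tt N108538 (iv3 F462991)) (tt N89334 (iv4 F386158)) (tt N41118 (iv5 D144075)) (tt N99078 (iv6 F423255)) (tt N89339 (iv7 F386185)))
theorem Q74086 : ∀ i, i < 74086 → P i := stepQ 74085 Q74085 (allL N74085 (tt N44214 (iv1 F226801)) (tt N44161 F226802) (tt N44212 F226798) (tt N108539 (iv3 F462992)) (tt N41120 F226799) (tt N89339 (iv5 F386184)) (tt N61855 F226800) (tt N41118 (iv7 D144076)))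
theorem Q74087 : ∀ i, i < 74087 → P i := stepQ 74086 Q74086 (allL N74086 (tt N71581 (iv1 F410802)) (tt N93916 (iv0 F402425)) (tt N99717 (iv2 F425888)) (tt N41121 (iv3 D144077)) (tt N74120 F226832) (tt N99656 (iv5 F425617)) (tt N91622 F393798) (tt N95581 (iv7 F408748)))
theorem Q74088 : ∀ i, i < 74088 → P i := stepQ 74087 Q74087 (allL N74087 (tt N93543 F402383) (tt N102664 (iv0 F438127)) (tt N98872 (iv2 F422652)) (tt N107520 (iv3 F458640)) (tt N41121 (iv4 D144078)) (tt N94391 F404253) (tt N91467 F393254) (tt N99652 (iv7 F425596)))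
theorem Q74089 : ∀ i, i < 74089 → P i := stepQ 74088 Q74088 (allL N74088 (tt N87706 F380207) (tt N41184 F380208) (tt N99653 (iv2 F425599)) (tt N91622 (iv3 F393796)) (tt N91467 (iv4 F393253)) (tt N87869 (iv5 F380906)) (tt N41121 (iv6 D144080)) (tt N100346 (iv7 F428522)))
theorem Q74090 : ∀ i, i < 74090 → P i := stepQ 74089 Q74089 (allL N74089 (tt N71599 F408077) (tt N99714 F425878) (tt N95578 (iv2 F408737)) (tt N96856 (iv3 F414282)) (tt N62117 (iv4 F404227)) (tt N96855 F414279) (tt N41122 (iv6 D144082)) (tt N96884 (iv7 F414438)))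
theorem Q74091 : ∀ i, i < 74091 → P i := stepQ 74090 Q74090 (allL N74090 (tt N67154 (iv1 F365104)) (tt N67153 F365097) (tt N41124 F226804) (tt N98154 (iv3 F419747)) (tt N108246 (iv4 F461668)) (tt N41123 (iv5 D144083)) (tt N108543 D211767) (tt N99654 (iv7 F425608)))
theorem Q74092 : ∀ i, i < 74092 → P i := stepQ 74091 Q74091 (allL N74091 (tt N103974 F443601) (tt N108544 D211768) (tt N41125 F226805) (tt N99642 (iv3 F425558)) (tt N108535 (iv4 F462989)) (tt N108545 D211769) (tt N41123 (iv6 D144084)) (tt N108546 D211770))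
theorem Q74093 : ∀ i, i < 74093 → P i := stepQ 74092 Q74092 (allL N74092 (tt N99654 (iv1 F425610)) (tt N41124 (iv0 D144085)) (tt N67154 (iv2 F365086)) (tt N99639 (iv3 F425542)) (tt N60326 F365087) (tt N62609 (iv5 F365089)) (tt N108547 D211771) (tt N67153 (iv7 F365088)))
theorem Q74094 : ∀ i, i < 74094 → P i := stepQ 74093 Q74093 (allL N74093 (tt N41124 (iv1 D144086)) (tt N99654 (iv0 F425609)) (tt N67153 (iv2 F365079)) (tt N73624 (iv3 F365080)) (tt N74173 (iv4 F365082)) (tt N62077 F365078) (tt N107230 (iv6 F457559)) (tt N67154 (iv7 F365081)))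
theorem Q74095 : ∀ i, i < 74095 → P i := stepQ 74094 Q74094 (allL N74094 (tt N108548 D211772) (tt N87628 (iv0 F379940)) (tt N108246 (iv2 F461667)) (tt N74125 (iv3 F226837)) (tt N41124 (iv4 D144087)) (tt N95581 F408749) (tt N108549 D211773) (tt N99656 (iv7 F425616)))
theorem Q74096 : ∀ i, i < 74096 → P i := stepQ 74095 Q74095 (allL N74095 (tt N108550 D211774) (tt N81642 (iv0 F416422)) (tt N108543 (iv2 F463021)) (tt N41126 F226806) (tt N108549 (iv4 F463042)) (tt N108551 D211775) (tt N41124 (iv6 D144088)) (tt N108552 D211776))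
theorem Q74097 : ∀ i, i < 74097 → P i := stepQ 74096 Q74096 (allL N74096 (tt N108546 (iv1 F463033)) (tt N41125 (iv0 D144089)) (tt N103974 (iv2 F443599)) (tt N108553 D211777) (tt N78023 (iv4 F365084)) (tt N108554 D211778) (tt N68681 F365083) (tt N108544 (iv7 F463026)))
theorem Q74098 : ∀ i, i < 74098 → P i := stepQ 74097 Q74097 (allL N74097 (tt N41125 (iv1 D144090)) (tt N108546 F463032) (tt N108544 (iv2 F463028)) (tt N99722 (iv3 F443607)) (tt N108555 D211779) (tt N108556 D211780) (tt N100343 (iv6 F443608)) (tt N103974 F443606))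
theorem Q74099 : ∀ i, i < 74099 → P i := stepQ 74098 Q74098 (allL N74098 (tt N108557 D211781) (tt N108558 D211782) (tt N108545 (iv2 F463029)) (tt N41128 F226807) (tt N108559 D211783) (tt N41125 (iv5 D144091)) (tt N108551 (iv6 F463049)) (tt N108560 D211784))
theorem Q74100 : ∀ i, i < 74100 → P i := stepQ 74099 Q74099 (allL N74099 (tt N108544 (iv1 F463025)) (tt N103974 (iv0 F443605)) (tt N108546 (iv2 F463030)) (tt N41129 F226808) (tt N108539 (iv4 F462993)) (tt N108560 (iv5 F463066)) (tt N99661 (iv6 F425634)) (tt N41125 (iv7 D144092)))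
theorem Q74101 : ∀ i, i < 74101 → P i := stepQ 74100 Q74100 (allL N74100 (tt N99647 (iv1 F425568)) (tt N41126 (iv0 D144093)) (tt N97150 (iv2 F415681)) (tt N84682 (iv3 F415639)) (tt N99662 (iv4 F425636)) (tt N108561 D211785) (tt N97140 F415638) (tt N84679 (iv7 F415640)))
theorem Q74102 : ∀ i, i < 74102 → P i := stepQ 74101 Q74101 (allL N74101 (tt N41126 (iv1 D144094)) (tt N99647 F425567) (tt N84679 (iv2 F370185)) (tt N108562 D211786) (tt N99663 F425644) (tt N108563 D211787) (tt N84677 (iv6 F370181)) (tt N97150 F415684))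
theorem Q74103 : ∀ i, i < 74103 → P i := stepQ 74102 Q74102 (allL N74102 (tt N108564 D211788) (tt N108565 D211789) (tt N99646 (iv2 F425562)) (tt N108551 (iv3 F463048)) (tt N108566 D211790) (tt N41126 (iv5 D144095)) (tt N41128 F226809) (tt N108567 D211791))
theorem Q74104 : ∀ i, i < 74104 → P i := stepQ 74103 Q74103 (allL N74103 (tt N84679 (iv1 F370188)) (tt N97150 F415685) (tt N99647 (iv2 F425564)) (tt N108552 (iv3 F463051)) (tt N74133 (iv4 F226846)) (tt N108567 (iv5 F463079)) (tt N99665 (iv6 F425650)) (tt N41126 (iv7 D144096)))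
theorem Q74105 : ∀ i, i < 74105 → P i := stepQ 74104 Q74104 (allL N74104 (tt N69463 (iv1 F226814)) (tt N69462 F226815) (tt N69465 F226812) (tt N54534 (iv3 F365374)) (tt N84625 (iv4 F369905)) (tt N41127 (iv5 D144098)) (tt N108568 D211792) (tt N60248 F226813))
theorem Q74106 : ∀ i, i < 74106 → P i := stepQ 74105 Q74105 (allL N74105 (tt N69461 (iv1 F226820)) (tt N41128 (iv0 D144099)) (tt N99648 F425576) (tt N51929 F425577) (tt N108533 (iv4 F462977)) (tt N105867 (iv5 F452086)) (tt N51934 F425578) (tt N99649 (iv7 F425580)))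
theorem Q74107 : ∀ i, i < 74107 → P i := stepQ 74106 Q74106 (allL N74106 (tt N41128 (iv1 D144100)) (tt N69461 F226816) (tt N99649 F425583) (tt N52462 (iv3 F366034)) (tt N52484 F366035) (tt N74029 (iv5 F226817)) (tt N108503 (iv6 F462877)) (tt N99648 (iv7 F425575)))
theorem Q74108 : ∀ i, i < 74108 → P i := stepQ 74107 Q74107 (allL N74107 (tt N108525 (iv1 F462946)) (tt N108569 D211793) (tt N99650 (iv2 F425585)) (tt N108570 D211794) (tt N41128 (iv4 D144101)) (tt N103377 (iv5 F441352)) (tt N108566 (iv6 F463078)) (tt N87954 (iv7 F381280)))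
theorem Q74109 : ∀ i, i < 74109 → P i := stepQ 74108 Q74108 (allL N74108 (tt N99649 (iv1 F425579)) (tt N99648 F425570) (tt N69461 F226818) (tt N108560 (iv3 F463065)) (tt N87954 F381277) (tt N41129 F226819) (tt N87953 (iv6 F381279)) (tt N41128 (iv7 D144102)))
theorem Q74110 : ∀ i, i < 74110 → P i := stepQ 74109 Q74109 (allL N74109 (tt N93907 F402379) (tt N103138 F440250) (tt N55221 F361616) (tt N41130 (iv3 D144103)) (tt N93536 (iv4 F401070)) (tt N84611 F369858) (tt N55130 (iv6 F361618)) (tt N60219 F226821))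
theorem Q74111 : ∀ i, i < 74111 → P i := stepQ 74110 Q74110 (allL N74110 (tt N78271 (iv1 F247461)) (tt N78270 F247464) (tt N78273 (iv2 F247462)) (tt N84611 (iv3 F369859)) (tt N81181 (iv4 F366957)) (tt N41130 (iv5 D144104)) (tt N108571 D211795) (tt N60221 F226822))
theorem Q74112 : ∀ i, i < 74112 → P i := stepQ 74111 Q74111 (allL N74111 (tt N41150 F340473) (tt N91402 F392997) (tt N72967 F340474) (tt N41131 (iv3 D144106)) (tt N62189 F226824) (tt N60200 F340475) (tt N74627 (iv6 F340484)) (tt N72969 F340476))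
theorem Q74113 : ∀ i, i < 74113 → P i := stepQ 74112 Q74112 (allL N74112 (tt N108572 D211796) (tt N93574 (iv0 F410801)) (tt N99673 (iv2 F425688)) (tt N108573 D211797) (tt N41131 (iv4 D144107)) (tt N99056 F423167) (tt N92485 (iv6 F397130)) (tt N99672 (iv7 F425685)))
theorem Q74114 : ∀ i, i < 74114 → P i := stepQ 74113 Q74113 (allL N74113 (tt N88272 (iv1 F382415)) (tt N41159 F340511) (tt N88273 (iv2 F382421)) (tt N60200 (iv3 F340510)) (tt N108485 (iv4 F462792)) (tt N41131 (iv5 D144108)) (tt N83812 F362555) (tt N88262 (iv7 F382398)))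
theorem Q74115 : ∀ i, i < 74115 → P i := stepQ 74114 Q74114 (allL N74114 (tt N71049 F361842) (tt N68081 (iv0 F340486)) (tt N91394 (iv2 F392964)) (tt N74627 F340485) (tt N92485 F397129) (tt N108574 D211798) (tt N41131 (iv6 D144109)) (tt N91389 (iv7 F392954)))
theorem Q74116 : ∀ i, i < 74116 → P i := stepQ 74115 Q74115 (allL N74115 (tt N93574 F404250) (tt N108572 F463101) (tt N99672 (iv2 F425684)) (tt N74261 (iv3 F227186)) (tt N41132 (iv4 D144112)) (tt N99055 (iv5 F423165)) (tt N88278 (iv6 F382443)) (tt N99673 (iv7 F425690)))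
theorem Q74117 : ∀ i, i < 74117 → P i := stepQ 74116 Q74116 (allL N74116 (tt N92351 (iv1 F396803)) (tt N72713 F226827) (tt N41134 F226826) (tt N92345 (iv3 F396778)) (tt N41133 (iv4 D144115)) (tt N97326 (iv5 F416360)) (tt N108575 D211799) (tt N92352 (iv7 F396801)))
theorem Q74118 : ∀ i, i < 74118 → P i := stepQ 74117 Q74117 (allL N74117 (tt N92508 (iv1 F397193)) (tt N98156 (iv0 F419759)) (tt N41135 F226828) (tt N99685 (iv3 F425738)) (tt N67158 (iv4 F365102)) (tt N41133 (iv5 D144116)) (tt N108576 D211800) (tt N99674 (iv7 F425697)))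
theorem Q74119 : ∀ i, i < 74119 → P i := stepQ 74118 Q74118 (allL N74118 (tt N96812 (iv1 F414074)) (tt N58421 (iv0 F397194)) (tt N41136 F226829) (tt N99686 (iv3 F425744)) (tt N108575 (iv4 F463116)) (tt N108577 D211801) (tt N41133 (iv6 D144117)) (tt N96810 (iv7 F414063)))
theorem Q74120 : ∀ i, i < 74120 → P i := stepQ 74119 Q74119 (allL N74119 (tt N92352 (iv1 F396802)) (tt N41134 (iv0 D144118)) (tt N92351 F396804) (tt N41253 F226830) (tt N74323 (iv4 F227340)) (tt N98887 F422702) (tt N92441 (iv6 F397006)) (tt N72713 (iv7 F226831)))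
theorem Q74121 : ∀ i, i < 74121 → P i := stepQ 74120 Q74120 (allL N74120 (tt N41134 (iv1 D144119)) (tt N92352 F396807) (tt N72713 (iv2 F396806)) (tt N98908 F422762) (tt N74086 (iv4 F226832)) (tt N108578 D211802) (tt N100099 (iv6 F427514)) (tt N92351 F396805))
theorem Q74122 : ∀ i, i < 74122 → P i := stepQ 74121 Q74121 (allL N74121 (tt N59282 F336197) (tt N97327 F416364) (tt N97326 (iv2 F416359)) (tt N55933 F226833) (tt N62105 (iv4 F226834)) (tt N41134 (iv5 D144120)) (tt N108579 D211803) (tt N92353 (iv7 F396809)))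
theorem Q74123 : ∀ i, i < 74123 → P i := stepQ 74122 Q74122 (allL N74122 (tt N108580 D211804) (tt N92422 (iv0 F396962)) (tt N108575 (iv2 F463115)) (tt N58392 F226835) (tt N41136 F226836) (tt N108581 D211805) (tt N41134 (iv6 D144121)) (tt N108582 D211806))
theorem Q74124 : ∀ i, i < 74124 → P i := stepQ 74123 Q74123 (allL N74123 (tt N99674 (iv1 F425698)) (tt N41135 (iv0 D144122)) (tt N92508 (iv2 F397190)) (tt N92201 F396223) (tt N108488 (iv4 F462798)) (tt N59770 F365093) (tt N59771 (iv6 F365094)) (tt N98156 (iv7 F419758)))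
theorem Q74125 : ∀ i, i < 74125 → P i := stepQ 74124 Q74124 (allL N74124 (tt N41135 (iv1 D144123)) (tt N99674 F425699) (tt N98156 (iv2 F419755)) (tt N87898 F392704) (tt N88287 F410105) (tt N60324 F392705) (tt N87897 (iv6 F392703)) (tt N92508 (iv7 F397192)))
theorem Q74126 : ∀ i, i < 74126 → P i := stepQ 74125 Q74125 (allL N74125 (tt N67156 (iv1 F365092)) (tt N62611 (iv0 F365090)) (tt N67158 (iv2 F365101)) (tt N74094 F226837) (tt N41135 (iv4 D144124)) (tt N62624 (iv5 F226839)) (tt N82472 F365091) (tt N67157 (iv7 F365100)))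
theorem Q74127 : ∀ i, i < 74127 → P i := stepQ 74126 Q74126 (allL N74126 (tt N108583 D211807) (tt N108584 D211808) (tt N108576 (iv2 F463118)) (tt N41137 F226842) (tt N82472 (iv4 F365096)) (tt N108585 D211809) (tt N41135 (iv6 D144125)) (tt N108586 D211810))
theorem Q74128 : ∀ i, i < 74128 → P i := stepQ 74127 Q74127 (allL N74127 (tt N96810 F414065) (tt N41136 (iv0 D144126)) (tt N96812 (iv2 F414071)) (tt N90595 F414066) (tt N108587 D211811) (tt N108588 D211812) (tt N73982 F414067) (tt N58421 F414068))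
theorem Q74129 : ∀ i, i < 74129 → P i := stepQ 74128 Q74128 (allL N74128 (tt N108589 D211813) (tt N108590 D211814) (tt N108577 (iv2 F463125)) (tt N41138 F226843) (tt N108591 D211815) (tt N41136 (iv5 D144128)) (tt N108585 (iv6 F463159)) (tt N108592 D211816))
theorem Q74130 : ∀ i, i < 74130 → P i := stepQ 74129 Q74129 (allL N74129 (tt N58421 (iv1 F397195)) (tt N96812 F414073) (tt N96810 F414064) (tt N41139 F226844) (tt N108582 (iv4 F463143)) (tt N108592 (iv5 F463180)) (tt N78268 (iv6 F247455)) (tt N41136 (iv7 D144129)))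
theorem Q74131 : ∀ i, i < 74131 → P i := stepQ 74130 Q74130 (allL N74130 (tt N99694 (iv1 F425776)) (tt N41137 (iv0 D144130)) (tt N99691 F425760) (tt N86411 F376144) (tt N74149 F416401) (tt N91917 (iv5 F394952)) (tt N97319 F416338) (tt N99692 (iv7 F425763)))
theorem Q74132 : ∀ i, i < 74132 → P i := stepQ 74131 Q74131 (allL N74131 (tt N41137 (iv1 D144131)) (tt N99694 F425775) (tt N99692 (iv2 F425766)) (tt N105690 (iv3 F451275)) (tt N74150 F377508) (tt N108593 D211817) (tt N86868 (iv6 F377507)) (tt N99691 F425761))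
theorem Q74133 : ∀ i, i < 74133 → P i := stepQ 74132 Q74132 (allL N74132 (tt N108594 D211818) (tt N108595 D211819) (tt N99693 (iv2 F425769)) (tt N108585 (iv3 F463158)) (tt N108596 D211820) (tt N41137 (iv5 D144132)) (tt N41138 F226845) (tt N108597 D211821))
theorem Q74134 : ∀ i, i < 74134 → P i := stepQ 74133 Q74133 (allL N74133 (tt N99692 (iv1 F425762)) (tt N99691 F425767) (tt N99694 (iv2 F425771)) (tt N108586 (iv3 F463162)) (tt N74103 F226846) (tt N108597 (iv5 F463191)) (tt N99681 (iv6 F425718)) (tt N41137 (iv7 D144133)))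
theorem Q74135 : ∀ i, i < 74135 → P i := stepQ 74134 Q74134 (allL N74134 (tt N94443 (iv1 F404493)) (tt N41138 (iv0 D144134)) (tt N94444 (iv2 F404498)) (tt N49952 F366967) (tt N108528 (iv4 F462957)) (tt N55241 (iv5 F295868)) (tt N49950 F366968) (tt N60132 (iv7 F226848)))
theorem Q74136 : ∀ i, i < 74136 → P i := stepQ 74135 Q74135 (allL N74135 (tt N108598 D211822) (tt N97139 (iv0 F415632)) (tt N99695 (iv2 F425777)) (tt N49348 F345713) (tt N41138 (iv4 D144135)) (tt N49347 F345714) (tt N108596 (iv6 F463188)) (tt N108599 D211823))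
theorem Q74137 : ∀ i, i < 74137 → P i := stepQ 74136 Q74136 (allL N74136 (tt N60132 (iv1 F226850)) (tt N94444 F404502) (tt N94443 F404497) (tt N108592 (iv3 F463179)) (tt N108599 (iv4 F463201)) (tt N41139 F226849) (tt N108600 D211824) (tt N41138 (iv7 D144136)))
theorem Q74138 : ∀ i, i < 74138 → P i := stepQ 74137 Q74137 (allL N74137 (tt N93908 F402384) (tt N91407 (iv0 F393015)) (tt N91266 (iv2 F392453)) (tt N41140 (iv3 D144138)) (tt N61849 F226852) (tt N87871 (iv5 F380913)) (tt N55120 (iv6 F368784)) (tt N99684 (iv7 F425733)))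
theorem Q74139 : ∀ i, i < 74139 → P i := stepQ 74138 Q74138 (allL N74138 (tt N54899 F357462) (tt N41161 F357463) (tt N54900 F357464) (tt N87871 (iv3 F380912)) (tt N52753 F357465) (tt N41140 (iv5 D144139)) (tt N47671 F357466) (tt N44856 F357467))
theorem Q74140 : ∀ i, i < 74140 → P i := stepQ 74139 Q74139 (allL N74139 (tt N53922 F368779) (tt N41171 F368780) (tt N90785 (iv2 F390854)) (tt N55120 F368781) (tt N83196 F368782) (tt N86237 (iv5 F375510)) (tt N41140 (iv6 D144140)) (tt N91262 (iv7 F392439)))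
theorem Q74141 : ∀ i, i < 74141 → P i := stepQ 74140 Q74140 (allL N74140 (tt N93911 (iv1 F402403)) (tt N97624 F417655) (tt N44846 F356124) (tt N106735 (iv3 F455473)) (tt N101106 (iv4 F431700)) (tt N44683 F356125) (tt N41141 (iv6 D144144)) (tt N80926 (iv7 F356126)))
theorem Q74142 : ∀ i, i < 74142 → P i := stepQ 74141 Q74141 (allL N74141 (tt N91093 F391897) (tt N97287 (iv0 F416224)) (tt N41143 F226854) (tt N99674 (iv3 F425695)) (tt N108601 D211825) (tt N41142 (iv5 D144145)) (tt N108602 D211826) (tt N99685 (iv7 F425739)))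
theorem Q74143 : ∀ i, i < 74143 → P i := stepQ 74142 Q74142 (allL N74142 (tt N90755 (iv1 F390735)) (tt N90749 F390737) (tt N41144 F226855) (tt N99675 (iv3 F425701)) (tt N99375 (iv4 F424343)) (tt N108603 D211827) (tt N41142 (iv6 D144146)) (tt N90753 (iv7 F390725)))
theorem Q74144 : ∀ i, i < 74144 → P i := stepQ 74143 Q74143 (allL N74143 (tt N99685 (iv1 F425740)) (tt N41143 (iv0 D144147)) (tt N91093 (iv2 F391894)) (tt N108604 D211828) (tt N108605 D211829) (tt N66522 F385934) (tt N108606 D211830) (tt N97287 (iv7 F416222)))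
theorem Q74145 : ∀ i, i < 74145 → P i := stepQ 74144 Q74144 (allL N74144 (tt N41143 (iv1 D144148)) (tt N99685 (iv0 F425741)) (tt N97287 (iv2 F416221)) (tt N91096 (iv3 F391902)) (tt N86856 (iv4 F386898)) (tt N66523 (iv5 F386896)) (tt N86854 F386897) (tt N91093 (iv7 F391896)))
theorem Q74146 : ∀ i, i < 74146 → P i := stepQ 74145 Q74145 (allL N74145 (tt N108607 D211831) (tt N99735 (iv0 F425975)) (tt N108601 (iv2 F463207)) (tt N56209 (iv3 F331468)) (tt N41143 (iv4 D144149)) (tt N56205 (iv5 F340910)) (tt N103901 (iv6 F443278)) (tt N99687 (iv7 F425748)))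
theorem Q74147 : ∀ i, i < 74147 → P i := stepQ 74146 Q74146 (allL N74146 (tt N108608 D211832) (tt N108609 D211833) (tt N108602 (iv2 F463213)) (tt N41145 F226857) (tt N103901 F443280) (tt N108610 D211834) (tt N41143 (iv6 D144150)) (tt N108611 D211835))
theorem Q74148 : ∀ i, i < 74148 → P i := stepQ 74147 Q74147 (allL N74147 (tt N90753 (iv1 F390727)) (tt N41144 (iv0 D144151)) (tt N90755 (iv2 F390731)) (tt N108612 D211836) (tt N107466 (iv4 F473595)) (tt N108613 D211838) (tt N68066 (iv6 F390729)) (tt N90749 F390728))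
theorem Q74149 : ∀ i, i < 74149 → P i := stepQ 74148 Q74148 (allL N74148 (tt N101729 (iv1 F481192)) (tt N108614 D211840) (tt N108603 (iv2 F463215)) (tt N41146 F226858) (tt N108615 D211841) (tt N41144 (iv5 D144153)) (tt N108610 (iv6 F463236)) (tt N104905 (iv7 F447872)))
theorem Q74150 : ∀ i, i < 74150 → P i := stepQ 74149 Q74149 (allL N74149 (tt N99681 (iv1 F425720)) (tt N41145 (iv0 D144154)) (tt N99678 F425709) (tt N97340 (iv3 F416417)) (tt N74130 (iv4 F416401)) (tt N108616 D211842) (tt N97334 F416400) (tt N99679 (iv7 F425708)))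
theorem Q74151 : ∀ i, i < 74151 → P i := stepQ 74150 Q74150 (allL N74150 (tt N41145 (iv1 D144155)) (tt N99681 F425719) (tt N99679 (iv2 F425706)) (tt N51770 F350482) (tt N74131 (iv4 F377508)) (tt N108617 D211843) (tt N51768 (iv6 F350481)) (tt N99678 F425710))
theorem Q74152 : ∀ i, i < 74152 → P i := stepQ 74151 Q74151 (allL N74151 (tt N108618 D211844) (tt N108619 D211845) (tt N99680 (iv2 F425714)) (tt N108610 (iv3 F463235)) (tt N108620 D211846) (tt N41145 (iv5 D144156)) (tt N41146 F226859) (tt N108621 D211847))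
theorem Q74153 : ∀ i, i < 74153 → P i := stepQ 74152 Q74152 (allL N74152 (tt N99679 (iv1 F425704)) (tt N99678 F425713) (tt N99681 (iv2 F425716)) (tt N108611 (iv3 F463238)) (tt N74067 F226860) (tt N108621 (iv5 F463249)) (tt N99694 (iv6 F425774)) (tt N41145 (iv7 D144157)))
theorem Q74154 : ∀ i, i < 74154 → P i := stepQ 74153 Q74153 (allL N74153 (tt N78269 (iv1 F247460)) (tt N41146 (iv0 D144158)) (tt N99682 F425725) (tt N108622 D211848) (tt N108525 (iv4 F462943)) (tt N69138 F226861) (tt N108524 F462940) (tt N99683 (iv7 F425728)))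
theorem Q74155 : ∀ i, i < 74155 → P i := stepQ 74154 Q74154 (allL N74154 (tt N41146 (iv1 D144159)) (tt N78269 (iv0 F247459)) (tt N99683 F425730) (tt N108623 D211849) (tt N108569 (iv4 F463088)) (tt N74036 (iv5 F226862)) (tt N108624 D211850) (tt N99682 F425726))
theorem Q74156 : ∀ i, i < 74156 → P i := stepQ 74155 Q74155 (allL N74155 (tt N84576 F394885) (tt N88074 (iv0 F394883)) (tt N88072 F381681) (tt N95357 F407983) (tt N41146 (iv4 D144160)) (tt N91902 F394882) (tt N108620 (iv6 F463248)) (tt N88073 (iv7 F381682)))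
theorem Q74157 : ∀ i, i < 74157 → P i := stepQ 74156 Q74156 (allL N74156 (tt N108625 D211851) (tt N72740 (iv0 F420705)) (tt N62223 F226863) (tt N73122 F226864) (tt N41149 F226865) (tt N92584 (iv5 F397489)) (tt N41147 (iv6 D144161)) (tt N108626 D211852))
theorem Q74158 : ∀ i, i < 74158 → P i := stepQ 74157 Q74157 (allL N74157 (tt N99701 (iv1 F425805)) (tt N41149 (iv0 D144164)) (tt N95518 (iv2 F408445)) (tt N108484 (iv3 F462789)) (tt N41275 F393594) (tt N108627 D211853) (tt N89229 F393595) (tt N99699 (iv7 F425792)))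
theorem Q74159 : ∀ i, i < 74159 → P i := stepQ 74158 Q74158 (allL N74158 (tt N84535 F369647) (tt N72327 (iv0 F366204)) (tt N99700 (iv2 F425797)) (tt N106739 (iv3 F455490)) (tt N52427 F366205) (tt N41149 (iv5 D144166)) (tt N105692 (iv6 F451280)) (tt N87313 (iv7 F379035)))
theorem Q74160 : ∀ i, i < 74160 → P i := stepQ 74159 Q74159 (allL N74159 (tt N99699 (iv1 F425791)) (tt N95518 (iv0 F408451)) (tt N99701 (iv2 F425801)) (tt N90578 F390157) (tt N108626 (iv4 F463269)) (tt N87313 (iv5 F379036)) (tt N78263 F340804) (tt N41149 (iv7 D144167)))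
theorem Q74161 : ∀ i, i < 74161 → P i := stepQ 74160 Q74160 (allL N74160 (tt N88241 (iv1 F382319)) (tt N92201 (iv0 F396221)) (tt N98155 F419752) (tt N41151 F226870) (tt N61242 F331566) (tt N41150 (iv5 D144170)) (tt N93902 F402353) (tt N73672 F226871))
theorem Q74162 : ∀ i, i < 74162 → P i := stepQ 74161 Q74161 (allL N74161 (tt N90778 F434502) (tt N90771 (iv0 F390793)) (tt N90729 (iv2 F390667)) (tt N41152 F226872) (tt N73113 F226873) (tt N108628 D211854) (tt N41150 (iv6 D144171)) (tt N90777 (iv7 F443603)))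
theorem Q74163 : ∀ i, i < 74163 → P i := stepQ 74162 Q74162 (allL N74162 (tt N97340 F416419) (tt N52073 (iv0 F360334)) (tt N73671 F226876) (tt N93902 F402352) (tt N51586 (iv4 F359560)) (tt N108629 D211855) (tt N41151 (iv6 D144173)) (tt N83793 F359562))
theorem Q74164 : ∀ i, i < 74164 → P i := stepQ 74163 Q74163 (allL N74163 (tt N41152 (iv1 D144175)) (tt N78263 F340805) (tt N78265 (iv2 F340806)) (tt N55221 (iv3 F361615)) (tt N41285 F340807) (tt N108630 D211856) (tt N55219 F348140) (tt N78260 F340801))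
theorem Q74165 : ∀ i, i < 74165 → P i := stepQ 74164 Q74164 (allL N74164 (tt N108622 F463255) (tt N108631 D211857) (tt N99697 (iv2 F425785)) (tt N108628 (iv3 F463279)) (tt N108632 D211858) (tt N41152 (iv5 D144176)) (tt N108629 (iv6 F463282)) (tt N108633 D211859))
theorem Q74166 : ∀ i, i < 74166 → P i := stepQ 74165 Q74165 (allL N74165 (tt N78265 (iv1 F341116)) (tt N78260 (iv0 F341114)) (tt N78263 F340802) (tt N90777 F443602) (tt N72236 (iv4 F324368)) (tt N108633 (iv5 F463291)) (tt N99701 (iv6 F425803)) (tt N41152 (iv7 D144177)))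
theorem Q74167 : ∀ i, i < 74167 → P i := stepQ 74166 Q74166 (allL N74166 (tt N99568 (iv1 F425212)) (tt N76381 (iv0 F334850)) (tt N41154 F226878) (tt N41623 F226879) (tt N41153 (iv4 D144178)) (tt N41622 F226880) (tt N52044 (iv6 F364634)) (tt N74802 (iv7 F229206)))
theorem Q74168 : ∀ i, i < 74168 → P i := stepQ 74167 Q74167 (allL N74167 (tt N105848 (iv1 F452017)) (tt N70698 F366985) (tt N52044 F364635) (tt N87533 (iv3 F379680)) (tt N41155 F226890) (tt N108634 D211860) (tt N41154 (iv6 D144184)) (tt N87530 (iv7 F379672)))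
theorem Q74169 : ∀ i, i < 74169 → P i := stepQ 74168 Q74168 (allL N74168 (tt N51765 (iv1 F360331)) (tt N41155 (iv0 D144185)) (tt N52042 (iv2 F360333)) (tt N108635 D211861) (tt N104831 (iv4 F447513)) (tt N55154 F360332) (tt N108636 D211862) (tt N52043 (iv7 F360336)))
theorem Q74170 : ∀ i, i < 74170 → P i := stepQ 74169 Q74169 (allL N74169 (tt N41155 (iv1 D144186)) (tt N51765 F360339) (tt N52043 F360337) (tt N83714 F360340) (tt N70602 (iv4 F364264)) (tt N55584 F360341) (tt N70608 F364266) (tt N52042 F360335))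
theorem Q74171 : ∀ i, i < 74171 → P i := stepQ 74170 Q74170 (allL N74170 (tt N52043 F360342) (tt N52042 (iv0 F360328)) (tt N51765 (iv2 F360330)) (tt N41168 F226893) (tt N87530 (iv4 F379671)) (tt N51764 F360329) (tt N87527 (iv6 F379662)) (tt N41155 (iv7 D144188)))
theorem Q74172 : ∀ i, i < 74172 → P i := stepQ 74171 Q74171 (allL N74171 (tt N89230 (iv1 F385696)) (tt N89229 F385703) (tt N89233 (iv2 F385699)) (tt N90593 F390196) (tt N98381 (iv4 F420708)) (tt N91344 (iv5 F392818)) (tt N41157 (iv6 D144198)) (tt N89231 F385695))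
theorem Q74173 : ∀ i, i < 74173 → P i := stepQ 74172 Q74172 (allL N74172 (tt N41158 (iv1 D144200)) (tt N50627 (iv0 F352751)) (tt N52046 F323198) (tt N84641 F369971) (tt N108637 D211863) (tt N63195 F323199) (tt N84646 F370008) (tt N52045 F323200))
theorem Q74174 : ∀ i, i < 74174 → P i := stepQ 74173 Q74173 (allL N74173 (tt N88273 (iv1 F382426)) (tt N88262 (iv0 F382399)) (tt N41159 (iv2 D144205)) (tt N54899 (iv3 F355629)) (tt N74093 F365082) (tt N74018 F226899) (tt N72317 (iv6 F340028)) (tt N88272 (iv7 F382416)))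
theorem Q74175 : ∀ i, i < 74175 → P i := stepQ 74174 Q74174 (allL N74174 (tt N44470 F340017) (tt N82121 F340433) (tt N72317 F340018) (tt N41160 F226900) (tt N96916 (iv4 F414599)) (tt N44414 F340019) (tt N41159 (iv6 D144206)) (tt N72320 F340020))
theorem Q74176 : ∀ i, i < 74176 → P i := stepQ 74175 Q74175 (allL N74175 (tt N97164 F415723) (tt N41160 (iv0 D144207)) (tt N98283 F420320) (tt N108638 D211864) (tt N74180 (iv4 F415712)) (tt N107159 (iv5 F457247)) (tt N108639 D211865) (tt N99705 (iv7 F425824)))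
theorem Q74177 : ∀ i, i < 74177 → P i := stepQ 74176 Q74176 (allL N74176 (tt N41160 (iv1 D144208)) (tt N97164 F415722) (tt N99705 F425829) (tt N60340 (iv3 F379762)) (tt N74181 F379761) (tt N54562 F379763) (tt N108640 D211866) (tt N98283 (iv7 F420313)))
theorem Q74178 : ∀ i, i < 74178 → P i := stepQ 74177 Q74177 (allL N74177 (tt N85270 F372106) (tt N60332 F339997) (tt N99706 (iv2 F425830)) (tt N44414 F339998) (tt N78151 F339999) (tt N41160 (iv5 D144209)) (tt N74020 F226901) (tt N72319 F340000))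
theorem Q74179 : ∀ i, i < 74179 → P i := stepQ 74178 Q74178 (allL N74178 (tt N99705 (iv1 F425823)) (tt N98283 F420316) (tt N97164 (iv2 F415718)) (tt N72320 (iv3 F340016)) (tt N67163 F226902) (tt N72319 F340015) (tt N97157 (iv6 F415708)) (tt N41160 (iv7 D144210)))
theorem Q74180 : ∀ i, i < 74180 → P i := stepQ 74179 Q74179 (allL N74179 (tt N54900 F357481) (tt N44856 F357482) (tt N41161 (iv2 D144213)) (tt N88272 (iv3 F382420)) (tt N60262 F356089) (tt N60291 F226903) (tt N60261 (iv6 F356090)) (tt N54899 (iv7 F355626)))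
theorem Q74181 : ∀ i, i < 74181 → P i := stepQ 74180 Q74180 (allL N74180 (tt N97157 (iv1 F415711)) (tt N41162 (iv0 D144216)) (tt N97163 (iv2 F420319)) (tt N108272 (iv3 F461812)) (tt N74175 F415712) (tt N108641 D211867) (tt N108642 D211868) (tt N97162 F420321))
theorem Q74182 : ∀ i, i < 74182 → P i := stepQ 74181 Q74181 (allL N74181 (tt N41162 (iv1 D144217)) (tt N97157 (iv0 F415710)) (tt N97162 F420318) (tt N85697 F410020) (tt N74176 (iv4 F379761)) (tt N85695 (iv5 F410021)) (tt N108643 D211869) (tt N97163 (iv7 F420315)))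
theorem Q74183 : ∀ i, i < 74183 → P i := stepQ 74182 Q74182 (allL N74182 (tt N41164 (iv1 D144223)) (tt N52059 (iv0 F306982)) (tt N49353 F350474) (tt N81641 F350475) (tt N52685 (iv4 F360347)) (tt N49352 F350477) (tt N108644 D211870) (tt N62661 (iv7 F350531)))
theorem Q74184 : ∀ i, i < 74184 → P i := stepQ 74183 Q74183 (allL N74183 (tt N108643 F463336) (tt N87491 F439015) (tt N108490 (iv2 F462808)) (tt N88265 (iv3 F382408)) (tt N106717 (iv4 F455384)) (tt N91299 (iv5 F392614)) (tt N41165 (iv6 D144230)) (tt N108645 D211871))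
theorem Q74185 : ∀ i, i < 74185 → P i := stepQ 74184 Q74184 (allL N74184 (tt N47671 F365427) (tt N46785 F365428) (tt N47669 F364453) (tt N41166 (iv3 D144232)) (tt N83805 F365429) (tt N85453 (iv5 F372669)) (tt N108646 D211872) (tt N47670 F364454))
theorem Q74186 : ∀ i, i < 74186 → P i := stepQ 74185 Q74185 (allL N74185 (tt N108647 D211873) (tt N108639 (iv0 F463324)) (tt N108491 (iv2 F462813)) (tt N108646 (iv3 F463346)) (tt N106720 (iv4 F455397)) (tt N88158 (iv5 F381950)) (tt N41166 (iv6 D144235)) (tt N108648 D211874))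
theorem Q74187 : ∀ i, i < 74187 → P i := stepQ 74186 Q74186 (allL N74186 (tt N74506 F366316) (tt N100099 F427515) (tt N91285 (iv2 F392549)) (tt N58401 F226931) (tt N41169 (iv4 D144243)) (tt N108649 D211875) (tt N102808 (iv6 F438732)) (tt N91343 (iv7 F392815)))
theorem Q74188 : ∀ i, i < 74188 → P i := stepQ 74187 Q74187 (allL N74187 (tt N90762 (iv1 F390766)) (tt N87474 (iv0 F379461)) (tt N88092 (iv2 F381774)) (tt N41170 F226933) (tt N102808 (iv4 F438730)) (tt N51906 (iv5 F364426)) (tt N41169 (iv6 D144245)) (tt N68121 (iv7 F226934)))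
theorem Q74189 : ∀ i, i < 74189 → P i := stepQ 74188 Q74188 (allL N74188 (tt N41171 (iv1 D144251)) (tt N53922 F365279) (tt N91262 (iv2 F392437)) (tt N84271 F368767) (tt N83070 (iv4 F365274)) (tt N86235 (iv5 F375503)) (tt N80926 F365278) (tt N90785 (iv7 F390855)))
theorem Q74190 : ∀ i, i < 74190 → P i := stepQ 74189 Q74189 (allL N74189 (tt N90785 (iv1 F390859)) (tt N91262 F392441) (tt N41171 (iv2 D144252)) (tt N88277 F382441) (tt N53881 (iv4 F365273)) (tt N89511 (iv5 F386687)) (tt N89236 (iv6 F385717)) (tt N53922 (iv7 F365280)))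
theorem Q74191 : ∀ i, i < 74191 → P i := stepQ 74190 Q74190 (allL N74190 (tt N68122 F226949) (tt N41173 (iv0 D144257)) (tt N74037 (iv2 F226945)) (tt N89230 F385691) (tt N41187 F226944) (tt N97358 (iv5 F416481)) (tt N68072 F226946) (tt N66577 F226947))
theorem Q74192 : ∀ i, i < 74192 → P i := stepQ 74191 Q74191 (allL N74191 (tt N86237 (iv1 F375513)) (tt N86235 F375504) (tt N88274 (iv2 F382427)) (tt N41175 (iv3 D144263)) (tt N82893 F366944) (tt N53909 (iv5 F349157)) (tt N88299 (iv6 F382494)) (tt N108492 (iv7 F462819)))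
theorem Q74193 : ∀ i, i < 74193 → P i := stepQ 74192 Q74192 (allL N74192 (tt N85216 (iv1 F371929)) (tt N55332 (iv0 F345038)) (tt N85219 (iv2 F371945)) (tt N89634 (iv3 F387024)) (tt N41175 (iv4 D144264)) (tt N50348 F350467) (tt N51353 F350468) (tt N45149 F350469))
theorem Q74194 : ∀ i, i < 74194 → P i := stepQ 74193 Q74193 (allL N74193 (tt N41176 (iv1 D144267)) (tt N51096 F350551) (tt N51408 (iv2 F350547)) (tt N85377 (iv3 F372396)) (tt N52688 (iv4 F350548)) (tt N85903 (iv5 F374385)) (tt N60829 (iv6 F350549)) (tt N51407 F350545))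
theorem Q74195 : ∀ i, i < 74195 → P i := stepQ 74194 Q74194 (allL N74194 (tt N51408 (iv1 F345180)) (tt N51407 (iv0 F345179)) (tt N51096 (iv2 F345178)) (tt N84412 (iv3 F369199)) (tt N41177 F226957) (tt N66808 F345177) (tt N84426 (iv6 F369239)) (tt N41176 (iv7 D144270)))
theorem Q74196 : ∀ i, i < 74196 → P i := stepQ 74195 Q74195 (allL N74195 (tt N52062 F350458) (tt N52061 F350462) (tt N49919 (iv2 F350460)) (tt N96896 (iv3 F414493)) (tt N84426 (iv4 F369238)) (tt N91854 (iv5 F394706)) (tt N41177 (iv6 D144271)) (tt N52058 F350459))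
theorem Q74197 : ∀ i, i < 74197 → P i := stepQ 74196 Q74196 (allL N74196 (tt N91276 (iv1 F392504)) (tt N72970 (iv0 F372076)) (tt N87707 (iv2 F380209)) (tt N41178 (iv3 D144272)) (tt N41181 F226958) (tt N107224 (iv5 F457530)) (tt N90763 F390769) (tt N62204 F226959))
theorem Q74198 : ∀ i, i < 74198 → P i := stepQ 74197 Q74197 (allL N74197 (tt N55082 (iv1 F359412)) (tt N51706 F352904) (tt N54579 F346655) (tt N41180 (iv3 D144273)) (tt N53426 (iv4 F346658)) (tt N83221 (iv5 F340530)) (tt N71594 F226961) (tt N54582 (iv7 F346625)))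
theorem Q74199 : ∀ i, i < 74199 → P i := stepQ 74198 Q74198 (allL N74198 (tt N52688 F350550) (tt N52687 F345192) (tt N49972 (iv2 F345189)) (tt N83221 F345190) (tt N79016 (iv4 F345188)) (tt N41180 (iv5 D144274)) (tt N84562 (iv6 F369699)) (tt N52683 (iv7 F331262)))
theorem Q74200 : ∀ i, i < 74200 → P i := stepQ 74199 Q74199 (allL N74199 (tt N91265 F392452) (tt N91263 (iv0 F392445)) (tt N108650 D211876) (tt N41182 (iv3 D144282)) (tt N41184 F226968) (tt N106669 (iv5 F455230)) (tt N99287 (iv6 F423948)) (tt N61888 F226969))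
theorem Q74201 : ∀ i, i < 74201 → P i := stepQ 74200 Q74200 (allL N74200 (tt N78056 (iv1 F245621)) (tt N72670 (iv0 F226973)) (tt N61892 F226970) (tt N99287 F423947) (tt N41183 F226971) (tt N99287 (iv5 F423944)) (tt N41182 (iv6 D144283)) (tt N71879 F226972))
theorem Q74202 : ∀ i, i < 74202 → P i := stepQ 74201 Q74201 (allL N74201 (tt N94044 F402958) (tt N41183 (iv0 D144284)) (tt N66497 (iv2 F226975)) (tt N95915 (iv3 F410239)) (tt N98984 (iv4 F422912)) (tt N60055 F226974) (tt N68654 (iv6 F226976)) (tt N95746 (iv7 F409425)))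
theorem Q74203 : ∀ i, i < 74203 → P i := stepQ 74202 Q74202 (allL N74202 (tt N41183 (iv1 D144285)) (tt N94044 (iv0 F402957)) (tt N95746 (iv2 F409423)) (tt N41217 (iv3 F226978)) (tt N98866 (iv4 F422622)) (tt N57407 (iv5 F226979)) (tt N41214 (iv6 F226980)) (tt N66497 F226977))
theorem Q74204 : ∀ i, i < 74204 → P i := stepQ 74203 Q74203 (allL N74203 (tt N95746 F409429) (tt N66497 (iv0 F226983)) (tt N94044 (iv2 F402953)) (tt N41188 F226981) (tt N71879 (iv4 F226984)) (tt N41183 (iv5 D144286)) (tt N57524 F226982) (tt N41183 (iv7 F226985)))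
theorem Q74205 : ∀ i, i < 74205 → P i := stepQ 74204 Q74204 (allL N74204 (tt N99653 (iv1 F425605)) (tt N100346 F428524) (tt N41184 (iv2 D144289)) (tt N85281 (iv3 F372161)) (tt N108650 (iv4 F463355)) (tt N85280 F372159) (tt N108651 D211877) (tt N87706 (iv7 F380205)))
theorem Q74206 : ∀ i, i < 74206 → P i := stepQ 74205 Q74205 (allL N74205 (tt N55116 F365047) (tt N55114 F365048) (tt N85280 (iv2 F372153)) (tt N41185 F226989) (tt N85280 (iv4 F372154)) (tt N41184 (iv5 D144290)) (tt N85280 (iv6 F372155)) (tt N51628 F365049))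
theorem Q74207 : ∀ i, i < 74207 → P i := stepQ 74206 Q74206 (allL N74206 (tt N95573 F414168) (tt N108652 D211878) (tt N108651 (iv2 F463361)) (tt N41186 F226990) (tt N99287 (iv4 F423945)) (tt N108651 (iv5 F463364)) (tt N41184 (iv6 D144291)) (tt N103996 (iv7 F443705)))
theorem Q74208 : ∀ i, i < 74208 → P i := stepQ 74207 Q74207 (allL N74207 (tt N97125 F415569) (tt N41186 (iv0 D144294)) (tt N54400 (iv2 F357412)) (tt N108653 D211879) (tt N60314 F226991) (tt N74027 (iv5 F365020)) (tt N68676 (iv6 F226992)) (tt N97360 (iv7 F416492)))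
theorem Q74209 : ∀ i, i < 74209 → P i := stepQ 74208 Q74208 (allL N74208 (tt N74031 (iv1 F226994)) (tt N74028 F226993) (tt N91630 (iv2 F393835)) (tt N108651 (iv3 F463362)) (tt N108465 F462706) (tt N41186 (iv5 D144296)) (tt N85281 (iv6 F372162)) (tt N103997 (iv7 F443708)))
theorem Q74210 : ∀ i, i < 74210 → P i := stepQ 74209 Q74209 (allL N74209 (tt N59053 F227000) (tt N95898 (iv0 F410150)) (tt N89391 (iv2 F386341)) (tt N41191 F226996) (tt N73292 F226997) (tt N67224 F226998) (tt N41189 (iv6 D144297)) (tt N59004 F226999))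
theorem Q74211 : ∀ i, i < 74211 → P i := stepQ 74210 Q74210 (allL N74210 (tt N86248 (iv1 F375583)) (tt N59087 F368594) (tt N90047 (iv2 F388410)) (tt N41190 (iv3 D144298)) (tt N83088 (iv4 F363680)) (tt N102320 (iv5 F436713)) (tt N108654 D211880) (tt N89381 (iv7 F386297)))
theorem Q74212 : ∀ i, i < 74212 → P i := stepQ 74211 Q74211 (allL N74211 (tt N57163 (iv1 F227006)) (tt N93200 (iv0 F399943)) (tt N96176 (iv2 F411351)) (tt N108654 (iv3 F463378)) (tt N41191 F227004) (tt N108655 D211881) (tt N41190 (iv6 D144299)) (tt N57012 F227005))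
theorem Q74213 : ∀ i, i < 74213 → P i := stepQ 74212 Q74212 (allL N74212 (tt N101950 F435064) (tt N101954 F435079) (tt N101953 F453912) (tt N41193 (iv3 D144300)) (tt N71217 F227007) (tt N102321 (iv5 F436717)) (tt N57008 F227008) (tt N101932 (iv7 F434993)))
theorem Q74214 : ∀ i, i < 74214 → P i := stepQ 74213 Q74213 (allL N74213 (tt N108656 D211882) (tt N92879 (iv0 F398618)) (tt N67107 F346509) (tt N41194 (iv3 D144301)) (tt N66766 (iv4 F346507)) (tt N93895 (iv5 F402325)) (tt N80804 (iv6 F346508)) (tt N67110 F346506))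
theorem Q74215 : ∀ i, i < 74215 → P i := stepQ 74214 Q74214 (allL N74214 (tt N57149 (iv1 F227010)) (tt N67840 F227011) (tt N93430 (iv2 F400719)) (tt N80804 F332381) (tt N77936 (iv4 F245356)) (tt N101930 (iv5 F434987)) (tt N41194 (iv6 D144302)) (tt N59144 F227009))
theorem Q74216 : ∀ i, i < 74216 → P i := stepQ 74215 Q74215 (allL N74215 (tt N85105 F371643) (tt N85111 F371670) (tt N93461 F400796) (tt N41195 (iv3 D144303)) (tt N94606 (iv4 F405165)) (tt N93322 (iv5 F400396)) (tt N59140 F227012) (tt N93429 (iv7 F400717)))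
theorem Q74217 : ∀ i, i < 74217 → P i := stepQ 74216 Q74216 (allL N74216 (tt N108657 D211883) (tt N108658 D211884) (tt N93446 (iv2 F400761)) (tt N76217 (iv3 F354404)) (tt N98245 (iv4 F420125)) (tt N41207 F227013) (tt N41196 (iv6 D144305)) (tt N94861 (iv7 F406185)))
theorem Q74218 : ∀ i, i < 74218 → P i := stepQ 74217 Q74217 (allL N74217 (tt N56931 (iv1 F227015)) (tt N56934 F227016) (tt N49005 F345170) (tt N63198 F349172) (tt N51409 (iv4 F339944)) (tt N41197 F227014) (tt N108659 D211885) (tt N41196 (iv7 D144306)))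
theorem Q74219 : ∀ i, i < 74219 → P i := stepQ 74218 Q74218 (allL N74218 (tt N66348 (iv1 F227021)) (tt N41198 (iv0 D144307)) (tt N69777 (iv2 F227020)) (tt N57330 (iv3 F227023)) (tt N72149 F227018) (tt N67806 F227017) (tt N59052 F227019) (tt N67734 F227022))
theorem Q74220 : ∀ i, i < 74220 → P i := stepQ 74219 Q74219 (allL N74219 (tt N93373 (iv1 F400565)) (tt N41199 (iv0 D144308)) (tt N93372 F400837) (tt N107151 (iv3 F457210)) (tt N108660 D211886) (tt N93474 (iv5 F400831)) (tt N74539 (iv6 F400832)) (tt N93371 F400835))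
theorem Q74221 : ∀ i, i < 74221 → P i := stepQ 74220 Q74220 (allL N74220 (tt N41199 (iv1 D144309)) (tt N93373 F400568) (tt N93371 (iv2 F400836)) (tt N91573 (iv3 F406877)) (tt N108661 D211887) (tt N93475 (iv5 F400841)) (tt N91571 F406876) (tt N93372 (iv7 F400839)))
theorem Q74222 : ∀ i, i < 74222 → P i := stepQ 74221 Q74221 (allL N74221 (tt N93372 (iv1 F400566)) (tt N93371 F400561) (tt N41199 (iv2 D144310)) (tt N67314 F227024) (tt N78102 (iv4 F245987)) (tt N101877 F434783) (tt N108662 D211888) (tt N93373 (iv7 F400564)))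
theorem Q74223 : ∀ i, i < 74223 → P i := stepQ 74222 Q74222 (allL N74222 (tt N59081 F358648) (tt N59086 F361445) (tt N101877 (iv2 F434780)) (tt N41200 F227025) (tt N78702 (iv4 F358647)) (tt N41199 (iv5 D144311)) (tt N101868 (iv6 F434744)) (tt N93374 (iv7 F400570)))
theorem Q74224 : ∀ i, i < 74224 → P i := stepQ 74223 Q74223 (allL N74223 (tt N71663 F408545) (tt N108663 D211889) (tt N108662 (iv2 F463419)) (tt N41201 F227026) (tt N72088 (iv4 F329404)) (tt N108664 D211890) (tt N41199 (iv6 D144312)) (tt N74634 (iv7 F228451)))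
theorem Q74225 : ∀ i, i < 74225 → P i := stepQ 74224 Q74224 (allL N74224 (tt N93853 F402152) (tt N100538 F429389) (tt N67316 F227027) (tt N101868 (iv3 F434746)) (tt N74237 (iv4 F227057)) (tt N72974 (iv5 F401442)) (tt N41200 (iv6 D144313)) (tt N101879 (iv7 F434789)))
theorem Q74226 : ∀ i, i < 74226 → P i := stepQ 74225 Q74225 (allL N74225 (tt N57240 (iv1 F227030)) (tt N41201 (iv0 D144314)) (tt N67309 (iv2 F227031)) (tt N62355 (iv3 F353084)) (tt N57166 F227028) (tt N62354 F353085) (tt N57165 F227029) (tt N67310 (iv7 F227032)))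
theorem Q74227 : ∀ i, i < 74227 → P i := stepQ 74226 Q74226 (allL N74226 (tt N41201 (iv1 D144315)) (tt N57240 F227033) (tt N67310 (iv2 F227036)) (tt N108665 D211891) (tt N60025 F227035) (tt N93652 (iv5 F401436)) (tt N57179 (iv6 F227037)) (tt N67309 F227034))
theorem Q74228 : ∀ i, i < 74228 → P i := stepQ 74227 Q74227 (allL N74227 (tt N57016 F227040) (tt N56372 F227041) (tt N57013 F227038) (tt N108664 (iv3 F463436)) (tt N58419 (iv4 F349524)) (tt N41201 (iv5 D144316)) (tt N72974 F401437) (tt N57014 F227039))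
theorem Q74229 : ∀ i, i < 74229 → P i := stepQ 74228 Q74228 (allL N74228 (tt N56971 F227045) (tt N44441 (iv0 F227046)) (tt N67307 F227042) (tt N108666 D211892) (tt N41202 (iv4 D144317)) (tt N96086 (iv5 F410977)) (tt N59210 F227043) (tt N67308 F227044))
theorem Q74230 : ∀ i, i < 74230 → P i := stepQ 74229 Q74229 (allL N74229 (tt N67314 (iv1 F227047)) (tt N41203 (iv0 D144318)) (tt N67313 (iv2 F404451)) (tt N108667 D211893) (tt N90902 (iv4 F441215)) (tt N65490 (iv5 F435084)) (tt N90901 F441216) (tt N67312 (iv7 F404452)))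
theorem Q74231 : ∀ i, i < 74231 → P i := stepQ 74230 Q74230 (allL N74230 (tt N41203 (iv1 D144319)) (tt N67314 F227050) (tt N67312 F404449) (tt N94430 (iv3 F404448)) (tt N104965 (iv4 F448176)) (tt N65491 (iv5 F433312)) (tt N108668 D211894) (tt N67313 F404450))
theorem Q74232 : ∀ i, i < 74232 → P i := stepQ 74231 Q74231 (allL N74231 (tt N67313 (iv1 F227051)) (tt N67312 F227049) (tt N41203 (iv2 D144320)) (tt N93373 (iv3 F400562)) (tt N90324 (iv4 F389361)) (tt N101946 (iv5 F435057)) (tt N74640 (iv6 F228456)) (tt N67314 F227048))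
theorem Q74233 : ∀ i, i < 74233 → P i := stepQ 74232 Q74232 (allL N74232 (tt N91998 F413161) (tt N101937 (iv0 F435016)) (tt N101946 F435058) (tt N41204 F227052) (tt N95551 F408621) (tt N41203 (iv5 D144321)) (tt N91974 F400578) (tt N67315 F227053))
theorem Q74234 : ∀ i, i < 74234 → P i := stepQ 74233 Q74233 (allL N74233 (tt N101870 F434757) (tt N108669 D211895) (tt N93375 (iv2 F400573)) (tt N91974 (iv3 F400575)) (tt N74235 (iv4 F227055)) (tt N74643 (iv5 F228458)) (tt N41204 (iv6 D144322)) (tt N108670 D211896))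
theorem Q74235 : ∀ i, i < 74235 → P i := stepQ 74234 Q74234 (allL N74234 (tt N92873 F412036) (tt N92878 (iv0 F398629)) (tt N108671 D211897) (tt N41205 (iv3 D144323)) (tt N91926 F400580) (tt N44440 F227054) (tt N91925 (iv6 F400579)) (tt N93431 (iv7 F400725)))
theorem Q74236 : ∀ i, i < 74236 → P i := stepQ 74235 Q74235 (allL N74235 (tt N93828 F402051) (tt N108672 D211898) (tt N93434 (iv2 F400733)) (tt N91925 F400577) (tt N74233 F227055) (tt N93736 (iv5 F401715)) (tt N41205 (iv6 D144324)) (tt N108673 D211899))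
theorem Q74237 : ∀ i, i < 74237 → P i := stepQ 74236 Q74236 (allL N74236 (tt N81217 (iv1 F358641)) (tt N59494 F358642) (tt N93455 F400786) (tt N41206 (iv3 D144325)) (tt N80961 (iv4 F342032)) (tt N44442 F227056) (tt N108674 D211900) (tt N93433 (iv7 F400730)))
theorem Q74238 : ∀ i, i < 74238 → P i := stepQ 74237 Q74237 (allL N74237 (tt N108675 D211901) (tt N108676 D211902) (tt N93432 (iv2 F400726)) (tt N108674 (iv3 F463486)) (tt N74224 F227057) (tt N74623 (iv5 F228435)) (tt N41206 (iv6 D144326)) (tt N108677 D211903))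
theorem Q74239 : ∀ i, i < 74239 → P i := stepQ 74238 Q74238 (allL N74238 (tt N93447 (iv1 F400768)) (tt N41207 (iv0 D144327)) (tt N59383 (iv2 F361208)) (tt N89782 (iv3 F387534)) (tt N59381 (iv4 F361211)) (tt N42944 F363666) (tt N103050 (iv6 F439848)) (tt N59378 F361212))
theorem Q74240 : ∀ i, i < 74240 → P i := stepQ 74239 Q74239 (allL N74239 (tt N41207 (iv1 D144328)) (tt N93447 F400767) (tt N59378 (iv2 F361213)) (tt N70199 F361203) (tt N59376 (iv4 F361207)) (tt N96105 (iv5 F411076)) (tt N93824 F402078) (tt N59383 (iv7 F361204)))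
theorem Q74241 : ∀ i, i < 74241 → P i := stepQ 74240 Q74240 (allL N74240 (tt N68229 (iv1 F352093)) (tt N41209 (iv0 D144342)) (tt N68231 (iv2 F352089)) (tt N77341 F361751) (tt N71794 F347095) (tt N73957 F352094) (tt N101716 (iv6 F434018)) (tt N68230 F352091))
theorem Q74242 : ∀ i, i < 74242 → P i := stepQ 74241 Q74241 (allL N74241 (tt N41209 (iv1 D144343)) (tt N68229 F352080) (tt N68230 (iv2 F352087)) (tt N50896 F352086) (tt N71795 F352099) (tt N75617 F352081) (tt N76585 F352083) (tt N68231 (iv7 F352085)))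
theorem Q74243 : ∀ i, i < 74243 → P i := stepQ 74242 Q74242 (allL N74242 (tt N64713 F415296) (tt N67004 F415297) (tt N67002 F347142) (tt N41210 (iv3 D144346)) (tt N99666 (iv4 F425654)) (tt N108678 D211904) (tt N108679 D211905) (tt N67001 F346566))
theorem Q74244 : ∀ i, i < 74244 → P i := stepQ 74243 Q74243 (allL N74243 (tt N75602 (iv1 F353465)) (tt N73972 (iv0 F353464)) (tt N75595 (iv2 F350979)) (tt N108678 (iv3 F463503)) (tt N99447 (iv4 F424624)) (tt N41210 (iv5 D144347)) (tt N62536 (iv6 F337703)) (tt N75605 F337676))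
theorem Q74245 : ∀ i, i < 74245 → P i := stepQ 74244 Q74244 (allL N74244 (tt N71343 (iv1 F247414)) (tt N64116 (iv0 F323018)) (tt N79592 (iv2 F338802)) (tt N108679 (iv3 F463508)) (tt N71330 F227084) (tt N48374 F336482) (tt N41210 (iv6 D144348)) (tt N48373 F336483))
theorem Q74246 : ∀ i, i < 74246 → P i := stepQ 74245 Q74245 (allL N74245 (tt N71336 (iv1 F352357)) (tt N98118 (iv0 F419531)) (tt N106730 F455448) (tt N41211 (iv3 D144349)) (tt N71398 F227085) (tt N75481 (iv5 F332128)) (tt N99896 (iv6 F426724)) (tt N102685 (iv7 F438198)))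
theorem Q74247 : ∀ i, i < 74247 → P i := stepQ 74246 Q74246 (allL N74246 (tt N73972 F332100) (tt N75602 (iv0 F332097)) (tt N75605 F337675) (tt N75481 F332126) (tt N46631 F332092) (tt N41211 (iv5 D144350)) (tt N80172 (iv6 F334091)) (tt N75595 (iv7 F350982)))
theorem Q74248 : ∀ i, i < 74248 → P i := stepQ 74247 Q74247 (allL N74247 (tt N64042 (iv1 F331700)) (tt N41212 (iv0 D144351)) (tt N79124 (iv2 F344911)) (tt N64712 (iv3 F357695)) (tt N75984 F337161) (tt N57392 F227086) (tt N78717 (iv6 F350976)) (tt N57391 (iv7 F227087)))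
theorem Q74249 : ∀ i, i < 74249 → P i := stepQ 74248 Q74248 (allL N74248 (tt N91290 (iv1 F392579)) (tt N91292 (iv0 F392585)) (tt N99651 (iv2 F425587)) (tt N41216 F227090) (tt N59864 (iv4 F227093)) (tt N41214 (iv5 D144354)) (tt N56213 F227092) (tt N66044 F227091))
theorem Q74250 : ∀ i, i < 74250 → P i := stepQ 74249 Q74249 (allL N74249 (tt N98949 (iv1 F422844)) (tt N98946 (iv0 F422837)) (tt N75300 (iv2 F364896)) (tt N41215 (iv3 D144355)) (tt N62128 (iv4 F362475)) (tt N75294 F364895) (tt N108680 D211906) (tt N58067 F362474))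
theorem Q74251 : ∀ i, i < 74251 → P i := stepQ 74250 Q74250 (allL N74250 (tt N71371 F227098) (tt N94065 (iv0 F403043)) (tt N66507 F227095) (tt N108680 (iv3 F463515)) (tt N41217 F227096) (tt N75391 F349865) (tt N41215 (iv6 D144357)) (tt N66503 (iv7 F227097)))
theorem Q74252 : ∀ i, i < 74252 → P i := stepQ 74251 Q74251 (allL N74251 (tt N106223 (iv1 F453637)) (tt N96964 (iv0 F414822)) (tt N66037 F227099) (tt N82376 F335285) (tt N41216 (iv4 D144358)) (tt N68407 (iv5 F351645)) (tt N63566 (iv6 F326689)) (tt N66046 F227101))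
theorem Q74253 : ∀ i, i < 74253 → P i := stepQ 74252 Q74252 (allL N74252 (tt N72414 F227105) (tt N94114 (iv0 F403277)) (tt N72921 F227102) (tt N41220 F227103) (tt N94722 (iv4 F405670)) (tt N41218 (iv5 D144359)) (tt N45638 F327424) (tt N66036 F227104))
theorem Q74254 : ∀ i, i < 74254 → P i := stepQ 74253 Q74253 (allL N74253 (tt N96964 F414823) (tt N106223 (iv0 F453636)) (tt N66046 F227107) (tt N48266 (iv3 F328001)) (tt N41220 (iv4 D144362)) (tt N75604 F333759) (tt N45639 F327429) (tt N66037 F227109))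
theorem Q74255 : ∀ i, i < 74255 → P i := stepQ 74254 Q74254 (allL N74254 (tt N73129 F364018) (tt N73122 (iv0 F352562)) (tt N55184 F364507) (tt N41223 (iv3 D144379)) (tt N108681 D211907) (tt N55182 F322412) (tt N44134 F322413) (tt N73127 (iv7 F334907)))
theorem Q74256 : ∀ i, i < 74256 → P i := stepQ 74255 Q74255 (allL N74255 (tt N63074 F322402) (tt N63069 F322403) (tt N74822 F322404) (tt N108682 D211908) (tt N41224 (iv4 D144385)) (tt N63081 F322405) (tt N48154 F322406) (tt N65085 F322407))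
theorem Q74257 : ∀ i, i < 74257 → P i := stepQ 74256 Q74256 (allL N74256 (tt N72574 (iv1 F341125)) (tt N62278 (iv0 F366325)) (tt N72572 F349410) (tt N58121 F227158) (tt N41225 (iv4 D144394)) (tt N108683 D211909) (tt N77678 F366418) (tt N72487 F227159))
theorem Q74258 : ∀ i, i < 74258 → P i := stepQ 74257 Q74257 (allL N74257 (tt N55186 F353424) (tt N55817 F355713) (tt N72772 (iv2 F335037)) (tt N41226 F227160) (tt N42986 F320865) (tt N41225 (iv5 D144395)) (tt N42985 F320866) (tt N72694 F227161))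
theorem Q74259 : ∀ i, i < 74259 → P i := stepQ 74258 Q74258 (allL N74258 (tt N62194 F359814) (tt N72993 F359815) (tt N72991 F363686) (tt N58542 F227175) (tt N41227 (iv4 D144401)) (tt N96723 (iv5 F413612)) (tt N74519 (iv6 F366503)) (tt N72691 F227176))
theorem Q74260 : ∀ i, i < 74260 → P i := stepQ 74259 Q74259 (allL N74259 (tt N76198 (iv1 F360566)) (tt N73610 F350166) (tt N73142 (iv2 F360568)) (tt N41228 F227177) (tt N108684 D211910) (tt N41227 (iv5 D144402)) (tt N62711 F360567) (tt N72693 F227178))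
theorem Q74261 : ∀ i, i < 74261 → P i := stepQ 74260 Q74260 (allL N74260 (tt N93419 (iv1 F400676)) (tt N86102 (iv0 F375139)) (tt N93522 (iv2 F401018)) (tt N107567 (iv3 F458778)) (tt N108685 D211911) (tt N41229 (iv5 D144406)) (tt N108686 D211912) (tt N93524 (iv7 F401027)))
theorem Q74262 : ∀ i, i < 74262 → P i := stepQ 74261 Q74261 (allL N74261 (tt N72715 (iv1 F227187)) (tt N41230 (iv0 D144407)) (tt N92334 (iv2 F396739)) (tt N74115 F227186) (tt N102636 (iv4 F437980)) (tt N92316 (iv5 F438372)) (tt N100046 (iv6 F427363)) (tt N92333 F396740))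
theorem Q74263 : ∀ i, i < 74263 → P i := stepQ 74262 Q74262 (allL N74262 (tt N41230 (iv1 D144408)) (tt N72715 F227191) (tt N92333 F396738) (tt N107800 (iv3 F459772)) (tt N90467 (iv4 F389760)) (tt N92317 (iv5 F396681)) (tt N90466 F389761) (tt N92334 (iv7 F396737)))
theorem Q74264 : ∀ i, i < 74264 → P i := stepQ 74263 Q74263 (allL N74263 (tt N94374 (iv1 F404177)) (tt N94364 F404143) (tt N94373 F404171) (tt N41231 F227192) (tt N93661 (iv4 F401475)) (tt N41230 (iv5 D144410)) (tt N92405 (iv6 F436474)) (tt N92335 (iv7 F396742)))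
theorem Q74265 : ∀ i, i < 74265 → P i := stepQ 74264 Q74264 (allL N74264 (tt N102817 (iv1 F438783)) (tt N57545 (iv0 F396645)) (tt N92445 (iv2 F397014)) (tt N41232 F227193) (tt N71333 F227194) (tt N92304 F396644) (tt N41230 (iv6 D144411)) (tt N92448 (iv7 F397029)))
theorem Q74266 : ∀ i, i < 74266 → P i := stepQ 74265 Q74265 (allL N74265 (tt N108687 D211913) (tt N108688 D211914) (tt N41242 F227195) (tt N92405 F436475) (tt N59791 F227196) (tt N108689 D211915) (tt N41231 (iv6 D144412)) (tt N108451 (iv7 F462638)))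
theorem Q74267 : ∀ i, i < 74267 → P i := stepQ 74266 Q74266 (allL N74266 (tt N41232 (iv1 D144413)) (tt N41246 F227197) (tt N41244 (iv2 F227200)) (tt N108690 D211916) (tt N56816 F227199) (tt N108691 D211917) (tt N77866 (iv6 F245172)) (tt N41243 F227198))
theorem Q74268 : ∀ i, i < 74268 → P i := stepQ 74267 Q74267 (allL N74267 (tt N108692 D211918) (tt N105049 F448561) (tt N41245 F227201) (tt N92304 (iv3 F396647)) (tt N99502 (iv4 F424884)) (tt N41232 (iv5 D144414)) (tt N108689 (iv6 F463566)) (tt N92447 (iv7 F397021)))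
theorem Q74269 : ∀ i, i < 74269 → P i := stepQ 74268 Q74268 (allL N74268 (tt N41244 (iv1 F227204)) (tt N41243 F227205) (tt N41246 F227202) (tt N92448 (iv3 F397028)) (tt N41234 F227203) (tt N92447 F397023) (tt N92340 (iv6 F396757)) (tt N41232 (iv7 D144415)))
theorem Q74270 : ∀ i, i < 74270 → P i := stepQ 74269 Q74269 (allL N74269 (tt N61823 (iv1 F227206)) (tt N41235 (iv0 D144416)) (tt N61822 F422544) (tt N94803 (iv3 F406018)) (tt N99203 (iv4 F423684)) (tt N96921 (iv5 F414625)) (tt N94380 F414626) (tt N61821 (iv7 F422543)))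
theorem Q74271 : ∀ i, i < 74271 → P i := stepQ 74270 Q74270 (allL N74270 (tt N41235 (iv1 D144417)) (tt N61823 F227211) (tt N61821 F422546) (tt N108693 D211919) (tt N99100 (iv4 F423339)) (tt N96922 (iv5 F414628)) (tt N108694 D211920) (tt N61822 F422547))
theorem Q74272 : ∀ i, i < 74272 → P i := stepQ 74271 Q74271 (allL N74271 (tt N61822 (iv1 F227212)) (tt N61821 F227210) (tt N41235 (iv2 D144418)) (tt N56950 F227207) (tt N61767 F227208) (tt N92502 (iv5 F397185)) (tt N94400 (iv6 F404301)) (tt N61823 F227209))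
theorem Q74273 : ∀ i, i < 74273 → P i := stepQ 74272 Q74272 (allL N74272 (tt N94399 F404299) (tt N44286 F339887) (tt N94400 F404303) (tt N41236 F227213) (tt N61768 F227214) (tt N108695 D211921) (tt N41235 (iv6 D144419)) (tt N94401 (iv7 F404307)))
theorem Q74274 : ∀ i, i < 74274 → P i := stepQ 74273 Q74273 (allL N74273 (tt N108696 D211922) (tt N108697 D211923) (tt N56954 F227215) (tt N108695 (iv3 F463588)) (tt N108698 D211924) (tt N41236 (iv5 D144420)) (tt N92506 (iv6 F397188)) (tt N99732 (iv7 F425960)))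
theorem Q74275 : ∀ i, i < 74275 → P i := stepQ 74274 Q74274 (allL N74274 (tt N108693 F463586) (tt N107303 (iv0 F457884)) (tt N72499 (iv2 F227218)) (tt N41237 (iv3 D144421)) (tt N58129 F227216) (tt N67105 F349981) (tt N100044 (iv6 F427348)) (tt N72501 F227217))
theorem Q74276 : ∀ i, i < 74276 → P i := stepQ 74275 Q74275 (allL N74275 (tt N102750 (iv1 F438487)) (tt N95322 (iv0 F407849)) (tt N92428 (iv2 F396986)) (tt N41238 (iv3 D144423)) (tt N95524 (iv4 F408479)) (tt N61953 (iv5 F364301)) (tt N108699 D211925) (tt N72724 F227220))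
theorem Q74277 : ∀ i, i < 74277 → P i := stepQ 74276 Q74276 (allL N74276 (tt N41571 F343136) (tt N48224 F343137) (tt N72723 F227221) (tt N108699 (iv3 F463606)) (tt N95523 (iv4 F408473)) (tt N102810 (iv5 F438741)) (tt N41238 (iv6 D144424)) (tt N73187 (iv7 F245709)))
theorem Q74278 : ∀ i, i < 74278 → P i := stepQ 74277 Q74277 (allL N74277 (tt N55977 F227224) (tt N55974 F227225) (tt N41240 F227222) (tt N94373 (iv3 F404172)) (tt N95752 (iv4 F409464)) (tt N41239 (iv5 D144425)) (tt N108700 D211926) (tt N72716 F227223))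
theorem Q74279 : ∀ i, i < 74279 → P i := stepQ 74278 Q74278 (allL N74278 (tt N101854 F434678) (tt N100083 (iv0 F427473)) (tt N41241 F227226) (tt N92445 (iv3 F397015)) (tt N41255 F227227) (tt N92444 F397013) (tt N41239 (iv6 D144426)) (tt N108701 D211927))
theorem Q74280 : ∀ i, i < 74280 → P i := stepQ 74279 Q74279 (allL N74279 (tt N95750 (iv1 F409452)) (tt N57296 (iv0 F228556)) (tt N95752 F409465) (tt N82154 F353509) (tt N41240 (iv4 D144427)) (tt N60064 F227229) (tt N108702 D211928) (tt N72726 F227228))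
theorem Q74281 : ∀ i, i < 74281 → P i := stepQ 74280 Q74280 (allL N74280 (tt N79622 F463621) (tt N108703 D211929) (tt N108700 (iv2 F463609)) (tt N41242 F227230) (tt N108702 (iv4 F463619)) (tt N108704 D211930) (tt N41240 (iv6 D144428)) (tt N108705 D211931))
theorem Q74282 : ∀ i, i < 74282 → P i := stepQ 74281 Q74281 (allL N74281 (tt N108701 (iv1 F463617)) (tt N41241 (iv0 D144429)) (tt N101854 (iv2 F434675)) (tt N108706 D211932) (tt N80405 F363461) (tt N108707 D211933) (tt N48221 F363462) (tt N100083 (iv7 F427472)))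
theorem Q74283 : ∀ i, i < 74283 → P i := stepQ 74282 Q74282 (allL N74282 (tt N41241 (iv1 D144430)) (tt N108701 F463616) (tt N100083 (iv2 F427470)) (tt N100082 (iv3 F427468)) (tt N80404 (iv4 F348295)) (tt N100081 (iv5 F427467)) (tt N100038 F427327) (tt N101854 (iv7 F434677)))
theorem Q74284 : ∀ i, i < 74284 → P i := stepQ 74283 Q74283 (allL N74283 (tt N95319 (iv1 F407840)) (tt N92552 (iv0 F397349)) (tt N92444 (iv2 F397009)) (tt N41245 F227231) (tt N71048 (iv4 F397012)) (tt N41241 (iv5 D144431)) (tt N108704 (iv6 F463628)) (tt N106124 (iv7 F453235)))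
theorem Q74285 : ∀ i, i < 74285 → P i := stepQ 74284 Q74284 (allL N74284 (tt N100083 (iv1 F427474)) (tt N101854 F434679) (tt N108701 (iv2 F463611)) (tt N41246 F227232) (tt N41259 F227233) (tt N106124 (iv5 F453236)) (tt N72731 F227234) (tt N41241 (iv7 D144432)))
theorem Q74286 : ∀ i, i < 74286 → P i := stepQ 74285 Q74285 (allL N74285 (tt N108451 (iv1 F462640)) (tt N41242 (iv0 D144433)) (tt N108687 F463554) (tt N58176 F408007) (tt N95369 F408008) (tt N107342 (iv5 F458026)) (tt N108708 D211934) (tt N108688 (iv7 F463558)))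
theorem Q74287 : ∀ i, i < 74287 → P i := stepQ 74286 Q74286 (allL N74286 (tt N41242 (iv1 D144434)) (tt N108451 (iv0 F462639)) (tt N108688 F463561) (tt N108709 D211935) (tt N90565 (iv4 F425224)) (tt N83173 F427576) (tt N108710 D211936) (tt N108687 F463555))
theorem Q74288 : ∀ i, i < 74288 → P i := stepQ 74287 Q74287 (allL N74287 (tt N108711 D211937) (tt N108712 D211938) (tt N108689 (iv2 F463564)) (tt N108704 (iv3 F463627)) (tt N101182 F432092) (tt N41242 (iv5 D144435)) (tt N41245 F227235) (tt N108713 D211939))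
theorem Q74289 : ∀ i, i < 74289 → P i := stepQ 74288 Q74288 (allL N74288 (tt N108688 (iv1 F463557)) (tt N108687 F463552) (tt N108451 (iv2 F462637)) (tt N108705 (iv3 F463630)) (tt N95341 (iv4 F407924)) (tt N108713 (iv5 F463659)) (tt N97114 (iv6 F415504)) (tt N41242 (iv7 D144436)))
theorem Q74290 : ∀ i, i < 74290 → P i := stepQ 74289 Q74289 (allL N74289 (tt N108714 D211940) (tt N95324 (iv0 F407855)) (tt N94378 (iv2 F404185)) (tt N41243 (iv3 D144437)) (tt N56821 F227236) (tt N108715 D211941) (tt N56813 F227237) (tt N108690 (iv7 F463570)))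
theorem Q74291 : ∀ i, i < 74291 → P i := stepQ 74290 Q74290 (allL N74290 (tt N102809 F438738) (tt N108716 D211942) (tt N77888 (iv2 F245244)) (tt N108715 (iv3 F463664)) (tt N108717 D211943) (tt N41243 (iv5 D144438)) (tt N107347 F458046) (tt N108691 (iv7 F463573)))
theorem Q74292 : ∀ i, i < 74292 → P i := stepQ 74291 Q74291 (allL N74291 (tt N94380 (iv1 F404189)) (tt N94379 F404194) (tt N94382 (iv2 F404192)) (tt N41244 (iv3 D144439)) (tt N108540 (iv4 F462995)) (tt N103111 (iv5 F440124)) (tt N94386 (iv6 F404199)) (tt N77859 F245161))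
theorem Q74293 : ∀ i, i < 74293 → P i := stepQ 74292 Q74292 (allL N74292 (tt N108716 (iv1 F463666)) (tt N102809 (iv0 F438737)) (tt N108691 (iv2 F463572)) (tt N103111 F440125) (tt N103115 (iv4 F440141)) (tt N41244 (iv5 D144440)) (tt N106457 F454530) (tt N77888 (iv7 F245245)))
theorem Q74294 : ∀ i, i < 74294 → P i := stepQ 74293 Q74293 (allL N74293 (tt N57548 (iv1 F227240)) (tt N57547 F227241) (tt N77866 (iv2 F245170)) (tt N94386 (iv3 F404197)) (tt N44187 F227238) (tt N102876 (iv5 F439058)) (tt N41244 (iv6 D144441)) (tt N44185 F227239))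
theorem Q74295 : ∀ i, i < 74295 → P i := stepQ 74294 Q74294 (allL N74294 (tt N92447 (iv1 F397027)) (tt N41245 (iv0 D144442)) (tt N108692 F463579) (tt N108718 D211944) (tt N108719 D211945) (tt N108027 (iv5 F460799)) (tt N108022 F460779) (tt N105049 F448562))
theorem Q74296 : ∀ i, i < 74296 → P i := stepQ 74295 Q74295 (allL N74295 (tt N41245 (iv1 D144443)) (tt N92447 F397024) (tt N105049 (iv2 F448558)) (tt N102659 F438101) (tt N108720 D211946) (tt N94405 (iv5 F404324)) (tt N92410 (iv6 F438103)) (tt N108692 (iv7 F463581)))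
theorem Q74297 : ∀ i, i < 74297 → P i := stepQ 74296 Q74296 (allL N74296 (tt N99531 (iv1 F425010)) (tt N99365 F424890) (tt N99502 (iv2 F424889)) (tt N99526 (iv3 F424986)) (tt N41245 (iv4 D144444)) (tt N104514 (iv5 F446098)) (tt N101182 (iv6 F432091)) (tt N99532 (iv7 F425009)))
theorem Q74298 : ∀ i, i < 74298 → P i := stepQ 74297 Q74297 (allL N74297 (tt N105049 F448560) (tt N108692 F463580) (tt N92447 F397022) (tt N106124 (iv3 F453234)) (tt N99532 (iv4 F425007)) (tt N41246 F227242) (tt N108721 D211947) (tt N41245 (iv7 D144445)))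
theorem Q74299 : ∀ i, i < 74299 → P i := stepQ 74298 Q74298 (allL N74298 (tt N108239 (iv1 F461641)) (tt N82324 (iv0 F404354)) (tt N108240 (iv2 F461646)) (tt N41247 (iv3 D144446)) (tt N101912 (iv4 F434919)) (tt N63153 F404357) (tt N57502 F227243) (tt N106503 (iv7 F454683)))
theorem Q74300 : ∀ i, i < 74300 → P i := stepQ 74299 Q74299 (allL N74299 (tt N108025 (iv1 F460789)) (tt N89562 (iv0 F404031)) (tt N57560 F227244) (tt N63153 (iv3 F404358)) (tt N107135 (iv4 F457140)) (tt N41247 (iv5 D144447)) (tt N107372 (iv6 F458139)) (tt N107354 (iv7 F458067)))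
theorem Q74301 : ∀ i, i < 74301 → P i := stepQ 74300 Q74300 (allL N74300 (tt N92387 (iv1 F403891)) (tt N108722 D211948) (tt N108723 D211949) (tt N41249 (iv3 D144448)) (tt N99309 (iv4 F424042)) (tt N89366 F403892) (tt N102814 (iv6 F438757)) (tt N57557 F227245))
theorem Q74302 : ∀ i, i < 74302 → P i := stepQ 74301 Q74301 (allL N74301 (tt N89562 (iv1 F404032)) (tt N108025 (iv0 F460788)) (tt N107354 (iv2 F458064)) (tt N89366 (iv3 F403893)) (tt N107112 (iv4 F457033)) (tt N41249 (iv5 D144449)) (tt N78028 (iv6 F427534)) (tt N57560 F227246))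
theorem Q74303 : ∀ i, i < 74303 → P i := stepQ 74302 Q74302 (allL N74302 (tt N41251 (iv1 D144451)) (tt N41253 F227250) (tt N62585 (iv2 F227253)) (tt N72978 (iv3 F227254)) (tt N62584 F227252) (tt N108037 (iv5 F460834)) (tt N108724 D211950) (tt N72709 F227251))
theorem Q74304 : ∀ i, i < 74304 → P i := stepQ 74303 Q74303 (allL N74303 (tt N92357 F396818) (tt N98774 (iv0 F422267)) (tt N98908 (iv2 F422763)) (tt N41251 (iv3 D144452)) (tt N72645 F227255) (tt N106840 (iv5 F455930)) (tt N74504 (iv6 F366262)) (tt N72710 F227256))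
theorem Q74305 : ∀ i, i < 74305 → P i := stepQ 74304 Q74304 (allL N74304 (tt N73739 F227259) (tt N73803 F227260) (tt N72714 F227257) (tt N106840 (iv3 F455928)) (tt N92497 (iv4 F397166)) (tt N41251 (iv5 D144453)) (tt N102726 (iv6 F438377)) (tt N72711 F227258))
theorem Q74306 : ∀ i, i < 74306 → P i := stepQ 74305 Q74305 (allL N74305 (tt N73166 (iv1 F348110)) (tt N72222 F348116) (tt N73099 F227270) (tt N41254 F227271) (tt N59860 (iv4 F348112)) (tt N72708 F348062) (tt N41252 (iv6 D144459)) (tt N73165 (iv7 F348061)))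
theorem Q74307 : ∀ i, i < 74307 → P i := stepQ 74306 Q74306 (allL N74306 (tt N73803 F227276) (tt N73739 F227277) (tt N72711 F227273) (tt N98887 (iv3 F422700)) (tt N60067 F227275) (tt N41253 (iv5 D144460)) (tt N93698 (iv6 F401602)) (tt N72714 F227274))
theorem Q74308 : ∀ i, i < 74308 → P i := stepQ 74307 Q74307 (allL N74307 (tt N94404 (iv1 F404321)) (tt N74709 F228707) (tt N72712 F227279) (tt N92441 F397005) (tt N41254 F227280) (tt N102807 (iv5 F438726)) (tt N41253 (iv6 D144461)) (tt N73186 (iv7 F227281)))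
theorem Q74309 : ∀ i, i < 74309 → P i := stepQ 74308 Q74308 (allL N74308 (tt N68559 F333704) (tt N108053 (iv0 F460898)) (tt N41258 F227291) (tt N68573 (iv3 F318739)) (tt N108725 D211951) (tt N41255 (iv5 D144465)) (tt N68556 F333702) (tt N68521 (iv7 F333700)))
theorem Q74310 : ∀ i, i < 74310 → P i := stepQ 74309 Q74309 (allL N74309 (tt N41257 (iv1 F227296)) (tt N41256 F227297) (tt N41259 F227293) (tt N48147 F318499) (tt N108701 (iv4 F463613)) (tt N68521 F317338) (tt N72721 F227295) (tt N41255 (iv7 D144466)))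
theorem Q74311 : ∀ i, i < 74311 → P i := stepQ 74310 Q74310 (allL N74310 (tt N72787 (iv1 F458980)) (tt N72780 (iv0 F349481)) (tt N72784 F363474) (tt N41256 (iv3 D144467)) (tt N82082 F316712) (tt N74529 F316713) (tt N48218 F316714) (tt N72785 (iv7 F363477)))
theorem Q74312 : ∀ i, i < 74312 → P i := stepQ 74311 Q74311 (allL N74311 (tt N108726 D211952) (tt N108724 (iv0 F463708)) (tt N101852 (iv2 F434669)) (tt N94185 (iv3 F403607)) (tt N41256 (iv4 D144468)) (tt N91328 (iv5 F392756)) (tt N48219 F317337) (tt N100080 (iv7 F427462)))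
theorem Q74313 : ∀ i, i < 74313 → P i := stepQ 74312 Q74312 (allL N74312 (tt N73101 F357107) (tt N72236 F357110) (tt N73105 F357106) (tt N41257 (iv3 D144470)) (tt N74349 F341153) (tt N47693 F357108) (tt N89194 (iv6 F385525)) (tt N73104 (iv7 F357105)))
theorem Q74314 : ∀ i, i < 74314 → P i := stepQ 74313 Q74313 (allL N74313 (tt N108724 F463710) (tt N108726 F463718) (tt N100080 (iv2 F427460)) (tt N108727 D211953) (tt N41257 (iv4 D144471)) (tt N90761 (iv5 F390760)) (tt N77005 F366582) (tt N101852 (iv7 F434671)))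
theorem Q74315 : ∀ i, i < 74315 → P i := stepQ 74314 Q74314 (allL N74314 (tt N68521 F357079) (tt N41258 (iv0 D144474)) (tt N68559 (iv2 F359881)) (tt N89448 (iv3 F386543)) (tt N80313 (iv4 F357082)) (tt N77782 (iv5 F357080)) (tt N57703 F357078) (tt N108053 (iv7 F460897)))
theorem Q74316 : ∀ i, i < 74316 → P i := stepQ 74315 Q74315 (allL N74315 (tt N41258 (iv1 D144475)) (tt N68521 (iv0 F333696)) (tt N108053 (iv2 F460893)) (tt N80455 F364616) (tt N75212 (iv4 F350914)) (tt N77781 (iv5 F333692)) (tt N80454 (iv6 F333691)) (tt N68559 (iv7 F359879)))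
theorem Q74317 : ∀ i, i < 74317 → P i := stepQ 74316 Q74316 (allL N74316 (tt N108728 D211954) (tt N81265 (iv0 F363124)) (tt N108725 (iv2 F463711)) (tt N75656 (iv3 F366562)) (tt N41258 (iv4 D144476)) (tt N108729 D211955) (tt N44783 F366561) (tt N108730 D211956))
theorem Q74318 : ∀ i, i < 74318 → P i := stepQ 74317 Q74317 (allL N74317 (tt N108053 F460899) (tt N68559 F333707) (tt N68521 F333701) (tt N41263 F227301) (tt N108730 (iv4 F463735)) (tt N41259 F227302) (tt N57707 F333708) (tt N41258 (iv7 D144477)))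
theorem Q74319 : ∀ i, i < 74319 → P i := stepQ 74318 Q74318 (allL N74318 (tt N62276 (iv1 F363484)) (tt N72583 (iv0 F363481)) (tt N72581 (iv2 F341110)) (tt N44340 F227310) (tt N41260 (iv4 D144481)) (tt N108731 D211957) (tt N42903 (iv6 F315861)) (tt N44334 F227312))
theorem Q74320 : ∀ i, i < 74320 → P i := stepQ 74319 Q74319 (allL N74319 (tt N101930 (iv1 F434985)) (tt N93675 (iv0 F401527)) (tt N93537 (iv2 F401074)) (tt N87976 (iv3 F381350)) (tt N108732 D211958) (tt N41264 (iv5 D144490)) (tt N108733 D211959) (tt N57652 F227333))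
theorem Q74321 : ∀ i, i < 74321 → P i := stepQ 74320 Q74320 (allL N74320 (tt N42323 F333245) (tt N41267 (iv0 D144493)) (tt N55811 (iv2 F333249)) (tt N95520 F408463) (tt N72763 F359173) (tt N55800 F333246) (tt N44060 F333247) (tt N74968 F333248))
theorem Q74322 : ∀ i, i < 74322 → P i := stepQ 74321 Q74321 (allL N74321 (tt N41267 (iv1 D144494)) (tt N42323 F333257) (tt N74968 F333258) (tt N98407 (iv3 F420836)) (tt N72764 F334971) (tt N55812 F333259) (tt N92568 (iv6 F397410)) (tt N55811 (iv7 F333260)))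
theorem Q74323 : ∀ i, i < 74323 → P i := stepQ 74322 Q74322 (allL N74322 (tt N74968 F363466) (tt N55811 F363467) (tt N42323 F363468) (tt N41277 F227339) (tt N99412 (iv4 F424454)) (tt N41726 F363469) (tt N78277 F363470) (tt N41267 (iv7 D144496)))
theorem Q74324 : ∀ i, i < 74324 → P i := stepQ 74323 Q74323 (allL N74323 (tt N93916 F402426) (tt N71581 F410803) (tt N95581 (iv2 F408745)) (tt N41268 (iv3 D144497)) (tt N74119 F227340) (tt N108246 (iv5 F461669)) (tt N95532 (iv6 F408521)) (tt N99717 (iv7 F425891)))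
theorem Q74325 : ∀ i, i < 74325 → P i := stepQ 74324 Q74324 (allL N74324 (tt N41270 (iv1 D144500)) (tt N99718 F425897) (tt N72466 F357525) (tt N85626 (iv3 F373265)) (tt N62255 (iv4 F227342)) (tt N87157 (iv5 F378565)) (tt N85625 F373263) (tt N72464 (iv7 F357524)))
theorem Q74326 : ∀ i, i < 74326 → P i := stepQ 74325 Q74325 (allL N74325 (tt N72464 (iv1 F357564)) (tt N72466 F227344) (tt N41270 (iv2 D144501)) (tt N71575 F227343) (tt N99409 (iv4 F424440)) (tt N108734 D211960) (tt N108735 D211961) (tt N99718 (iv7 F425895)))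
theorem Q74327 : ∀ i, i < 74327 → P i := stepQ 74326 Q74326 (allL N74326 (tt N98277 F420294) (tt N107279 (iv0 F457770)) (tt N108734 (iv2 F463748)) (tt N41271 F227345) (tt N85755 (iv4 F377159)) (tt N41270 (iv5 D144502)) (tt N85753 F377161) (tt N99719 (iv7 F425899)))
theorem Q74328 : ∀ i, i < 74328 → P i := stepQ 74327 Q74327 (allL N74327 (tt N108501 F462873) (tt N108736 D211962) (tt N108735 (iv2 F463753)) (tt N41272 F227346) (tt N99410 (iv4 F424446)) (tt N108737 D211963) (tt N41270 (iv6 D144503)) (tt N108738 D211964))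
theorem Q74329 : ∀ i, i < 74329 → P i := stepQ 74328 Q74328 (allL N74328 (tt N41281 (iv1 F227348)) (tt N41271 (iv0 D144504)) (tt N73624 (iv2 F227349)) (tt N95397 (iv3 F408114)) (tt N60185 F330336) (tt N62472 F227347) (tt N95552 (iv6 F408626)) (tt N60182 (iv7 F330356)))
theorem Q74330 : ∀ i, i < 74330 → P i := stepQ 74329 Q74329 (allL N74329 (tt N41271 (iv1 D144505)) (tt N41281 F227351) (tt N60182 (iv2 F330354)) (tt N67154 (iv3 F227355)) (tt N60176 (iv4 F331684)) (tt N62473 F227353) (tt N58918 F364971) (tt N73624 F227352))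
theorem Q74331 : ∀ i, i < 74331 → P i := stepQ 74330 Q74330 (allL N74330 (tt N73648 F227358) (tt N58916 (iv0 F319083)) (tt N73676 F227356) (tt N43057 F342984) (tt N41271 (iv4 D144506)) (tt N61705 F363058) (tt N61706 (iv6 F363059)) (tt N73675 F227357))
theorem Q74332 : ∀ i, i < 74332 → P i := stepQ 74331 Q74331 (allL N74331 (tt N104833 (iv1 F447522)) (tt N96941 (iv0 F414700)) (tt N98762 (iv2 F422202)) (tt N85753 (iv3 F377162)) (tt N61706 F363063) (tt N108739 D211965) (tt N41271 (iv6 D144507)) (tt N108740 D211966))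
theorem Q74333 : ∀ i, i < 74333 → P i := stepQ 74332 Q74332 (allL N74332 (tt N99728 (iv1 F425938)) (tt N41272 (iv0 D144508)) (tt N99726 (iv2 F425935)) (tt N95572 (iv3 F425937)) (tt N99344 F425939) (tt N108741 D211967) (tt N100349 (iv6 F428535)) (tt N95568 F425936))
theorem Q74334 : ∀ i, i < 74334 → P i := stepQ 74333 Q74333 (allL N74333 (tt N41272 (iv1 D144509)) (tt N99728 F425933) (tt N95568 (iv2 F408693)) (tt N99659 (iv3 F425629)) (tt N99345 (iv4 F463264)) (tt N108742 D211968) (tt N95566 (iv6 F408687)) (tt N99726 (iv7 F425934)))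
theorem Q74335 : ∀ i, i < 74335 → P i := stepQ 74334 Q74334 (allL N74334 (tt N108743 D211969) (tt N108744 D211970) (tt N99727 (iv2 F425924)) (tt N108737 (iv3 F463760)) (tt N51913 F356588) (tt N41272 (iv5 D144510)) (tt N108739 (iv6 F463764)) (tt N108745 D211971))
theorem Q74336 : ∀ i, i < 74336 → P i := stepQ 74335 Q74335 (allL N74335 (tt N95568 (iv1 F408697)) (tt N99726 F425932) (tt N99728 (iv2 F425928)) (tt N108738 (iv3 F463761)) (tt N41277 F227360) (tt N108745 (iv5 F463785)) (tt N78278 F341157) (tt N41272 (iv7 D144511)))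
theorem Q74337 : ∀ i, i < 74337 → P i := stepQ 74336 Q74336 (allL N74336 (tt N41283 (iv1 F227362)) (tt N41273 (iv0 D144512)) (tt N61100 (iv2 F324239)) (tt N63247 F331682) (tt N73317 F227361) (tt N61093 F331683) (tt N63245 (iv6 F331681)) (tt N73693 (iv7 F227364)))
theorem Q74338 : ∀ i, i < 74338 → P i := stepQ 74337 Q74337 (allL N74337 (tt N41273 (iv1 D144513)) (tt N41283 F227365) (tt N73693 (iv2 F227368)) (tt N42446 F227369) (tt N73564 F227367) (tt N61101 (iv5 F331686)) (tt N63548 (iv6 F346400)) (tt N61100 (iv7 F324241)))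
theorem Q74339 : ∀ i, i < 74339 → P i := stepQ 74338 Q74338 (allL N74338 (tt N79066 F252118) (tt N95831 (iv0 F409850)) (tt N108746 D211972) (tt N41273 (iv3 D144514)) (tt N73381 F227370) (tt N100149 (iv5 F427705)) (tt N94572 (iv6 F405016)) (tt N73694 F227371))
theorem Q74340 : ∀ i, i < 74340 → P i := stepQ 74339 Q74339 (allL N74339 (tt N99605 (iv1 F425383)) (tt N81436 F332300) (tt N73696 F227372) (tt N100149 (iv3 F427707)) (tt N98761 (iv4 F422197)) (tt N41273 (iv5 D144515)) (tt N61007 (iv6 F331685)) (tt N57368 (iv7 F331690)))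
theorem Q74341 : ∀ i, i < 74341 → P i := stepQ 74340 Q74340 (allL N74340 (tt N108747 D211973) (tt N107564 (iv0 F458769)) (tt N73697 F227374) (tt N94572 (iv3 F405014)) (tt N41274 F227375) (tt N94570 F405010) (tt N41273 (iv6 D144516)) (tt N108748 D211974))
theorem Q74342 : ∀ i, i < 74342 → P i := stepQ 74341 Q74341 (allL N74341 (tt N78679 F322010) (tt N42251 F322011) (tt N42332 F322012) (tt N73865 (iv3 F333255)) (tt N64642 (iv4 F335194)) (tt N41274 (iv5 D144519)) (tt N41276 F227378) (tt N96291 (iv7 F411903)))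
theorem Q74343 : ∀ i, i < 74343 → P i := stepQ 74342 Q74342 (allL N74342 (tt N62499 (iv1 F320308)) (tt N62512 (iv0 F320305)) (tt N62469 (iv2 F321856)) (tt N73720 F364175) (tt N108748 (iv4 F463801)) (tt N96291 (iv5 F411904)) (tt N64043 (iv6 F322310)) (tt N41274 (iv7 D144520)))
theorem Q74344 : ∀ i, i < 74344 → P i := stepQ 74343 Q74343 (allL N74343 (tt N42241 F356604) (tt N99978 F427046) (tt N42331 F322279) (tt N83831 F356602) (tt N41276 (iv4 D144533)) (tt N51916 (iv5 F356601)) (tt N64642 F335196) (tt N83834 F356603))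
theorem Q74345 : ∀ i, i < 74345 → P i := stepQ 74344 Q74344 (allL N74344 (tt N103199 (iv1 F440535)) (tt N66453 (iv0 F227413)) (tt N103200 F440540) (tt N41281 F227407) (tt N104316 (iv4 F445206)) (tt N41280 (iv5 D144546)) (tt N84680 (iv6 F370190)) (tt N99724 (iv7 F425917)))
theorem Q74346 : ∀ i, i < 74346 → P i := stepQ 74345 Q74345 (allL N74345 (tt N67025 (iv1 F358452)) (tt N67022 (iv0 F354133)) (tt N69454 F379193) (tt N41282 F227408) (tt N81236 F354134) (tt N87216 (iv5 F378779)) (tt N41280 (iv6 D144547)) (tt N69453 F340951))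
theorem Q74347 : ∀ i, i < 74347 → P i := stepQ 74346 Q74346 (allL N74346 (tt N58916 (iv1 F319084)) (tt N73648 F227412) (tt N73675 F227409) (tt N56584 F338515) (tt N41281 (iv4 D144548)) (tt N98761 (iv5 F422198)) (tt N86831 (iv6 F377350)) (tt N73676 F227410))
theorem Q74348 : ∀ i, i < 74348 → P i := stepQ 74347 Q74347 (allL N74347 (tt N49365 F376738) (tt N86903 (iv0 F377647)) (tt N86907 F377665) (tt N84680 F370191) (tt N86831 (iv4 F377351)) (tt N108749 D211975) (tt N41281 (iv6 D144549)) (tt N86908 (iv7 F377669)))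
theorem Q74349 : ∀ i, i < 74349 → P i := stepQ 74348 Q74348 (allL N74348 (tt N78278 (iv1 F341158)) (tt N41282 (iv0 D144550)) (tt N99721 F425906) (tt N103974 (iv3 F443600)) (tt N81688 F361613) (tt N108750 D211976) (tt N48041 F361614) (tt N99722 (iv7 F425910)))
theorem Q74350 : ∀ i, i < 74350 → P i := stepQ 74349 Q74349 (allL N74349 (tt N41282 (iv1 D144551)) (tt N78278 (iv0 F341154)) (tt N99722 (iv2 F425912)) (tt N108751 D211977) (tt N74312 (iv4 F341153)) (tt N108752 D211978) (tt N96875 F414393) (tt N99721 F425908))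
theorem Q74351 : ∀ i, i < 74351 → P i := stepQ 74350 Q74350 (allL N74350 (tt N108753 D211979) (tt N108754 D211980) (tt N99723 (iv2 F425914)) (tt N87216 F378781) (tt N108755 D211981) (tt N41282 (iv5 D144552)) (tt N108749 (iv6 F463806)) (tt N108756 D211982))
theorem Q74352 : ∀ i, i < 74352 → P i := stepQ 74351 Q74351 (allL N74351 (tt N99722 (iv1 F425909)) (tt N99721 F425905) (tt N78278 F341156) (tt N69453 (iv3 F340950)) (tt N41287 F227414) (tt N108756 (iv5 F463824)) (tt N99728 (iv6 F425931)) (tt N41282 (iv7 D144553)))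
theorem Q74353 : ∀ i, i < 74353 → P i := stepQ 74352 Q74352 (allL N74352 (tt N41848 (iv1 F227417)) (tt N41850 (iv0 F227416)) (tt N41847 F230097) (tt N41283 (iv3 D144554)) (tt N62467 F350789) (tt N62780 (iv5 F350795)) (tt N63756 (iv6 F350794)) (tt N41846 F227415))
theorem Q74354 : ∀ i, i < 74354 → P i := stepQ 74353 Q74353 (allL N74353 (tt N81436 F332296) (tt N99605 (iv0 F425382)) (tt N57368 (iv2 F331688)) (tt N62780 F350797) (tt N61705 (iv4 F331693)) (tt N41283 (iv5 D144555)) (tt N57309 F331687) (tt N73696 F227419))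
theorem Q74355 : ∀ i, i < 74355 → P i := stepQ 74354 Q74354 (allL N74354 (tt N71352 F331699) (tt N64047 (iv0 F332299)) (tt N57371 (iv2 F331695)) (tt N63756 F334600) (tt N41284 F227421) (tt N57310 (iv5 F331694)) (tt N41283 (iv6 D144556)) (tt N77441 (iv7 F362039)))
theorem Q74356 : ∀ i, i < 74356 → P i := stepQ 74355 Q74355 (allL N74355 (tt N42268 F337164) (tt N42271 F337165) (tt N73695 F227423) (tt N42278 F322640) (tt N58893 F331698) (tt N41284 (iv5 D144559)) (tt N41286 F227424) (tt N68292 F322641))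
theorem Q74357 : ∀ i, i < 74357 → P i := stepQ 74356 Q74356 (allL N74356 (tt N108757 D211983) (tt N69305 (iv0 F364618)) (tt N88500 (iv2 F383293)) (tt N80698 F364970) (tt N41286 (iv4 D144573)) (tt N103952 (iv5 F443506)) (tt N58893 (iv6 F364969)) (tt N102801 (iv7 F438700)))
theorem Q74358 : ∀ i, i < 74358 → P i := stepQ 74357 Q74357 (allL N74357 (tt N108758 D211984) (tt N76984 (iv0 F366315)) (tt N108759 D211985) (tt N41289 (iv3 D144708)) (tt N90002 (iv4 F388255)) (tt N108760 D211986) (tt N92397 (iv6 F396911)) (tt N92291 F396600))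
theorem Q74359 : ∀ i, i < 74359 → P i := stepQ 74358 Q74358 (allL N74358 (tt N92373 (iv1 F396850)) (tt N92372 F396849) (tt N92375 (iv2 F396856)) (tt N108760 (iv3 F463833)) (tt N108761 D211987) (tt N41289 (iv5 D144709)) (tt N108762 D211988) (tt N92292 (iv7 F396602)))
theorem Q74360 : ∀ i, i < 74360 → P i := stepQ 74359 Q74359 (allL N74359 (tt N100046 (iv1 F427358)) (tt N100045 F427355) (tt N44125 F324695) (tt N41290 (iv3 D144710)) (tt N44132 (iv4 F325003)) (tt N108763 D211989) (tt N108703 F463626) (tt N92376 (iv7 F396860)))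
theorem Q74361 : ∀ i, i < 74361 → P i := stepQ 74360 Q74360 (allL N74360 (tt N94351 (iv1 F404098)) (tt N71374 F227544) (tt N41293 F227543) (tt N108763 (iv3 F463837)) (tt N100510 (iv4 F429248)) (tt N41290 (iv5 D144711)) (tt N74507 F351851) (tt N92377 (iv7 F396864)))
theorem Q74362 : ∀ i, i < 74362 → P i := stepQ 74361 Q74361 (allL N74361 (tt N99284 (iv1 F423940)) (tt N93851 (iv0 F402145)) (tt N41294 F227545) (tt N108703 F463624) (tt N41291 F227546) (tt N73186 F351848) (tt N41290 (iv6 D144712)) (tt N102807 (iv7 F438727)))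
theorem Q74363 : ∀ i, i < 74363 → P i := stepQ 74362 Q74362 (allL N74362 (tt N108764 D211990) (tt N108765 D211991) (tt N108766 D211992) (tt N41292 (iv3 D144713)) (tt N61879 F227547) (tt N108767 D211993) (tt N94401 F404310) (tt N61824 F227548))
theorem Q74364 : ∀ i, i < 74364 → P i := stepQ 74363 Q74363 (allL N74363 (tt N74511 F361832) (tt N95330 F407879) (tt N95332 (iv2 F407881)) (tt N108767 (iv3 F463852)) (tt N108768 D211994) (tt N41292 (iv5 D144714)) (tt N108769 D211995) (tt N61825 F227549))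
theorem Q74365 : ∀ i, i < 74365 → P i := stepQ 74364 Q74364 (allL N74364 (tt N92377 (iv1 F396867)) (tt N41293 (iv0 D144720)) (tt N94351 (iv2 F404095)) (tt N108770 D211996) (tt N106437 (iv4 F454431)) (tt N71375 F227560) (tt N108771 D211997) (tt N71374 (iv7 F227561)))
theorem Q74366 : ∀ i, i < 74366 → P i := stepQ 74365 Q74365 (allL N74365 (tt N108772 D211998) (tt N94325 (iv0 F404044)) (tt N100510 (iv2 F429246)) (tt N94328 (iv3 F404057)) (tt N41293 (iv4 D144721)) (tt N94327 F404054) (tt N63173 F351852) (tt N99630 (iv7 F425498)))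
theorem Q74367 : ∀ i, i < 74367 → P i := stepQ 74366 Q74366 (allL N74366 (tt N102807 F438729) (tt N41294 (iv0 D144723)) (tt N99284 (iv2 F423935)) (tt N73054 (iv3 F405729)) (tt N72613 F227562) (tt N73053 (iv5 F405734)) (tt N69036 (iv6 F227563)) (tt N93851 (iv7 F402144)))
theorem Q74368 : ∀ i, i < 74368 → P i := stepQ 74367 Q74367 (allL N74367 (tt N41294 (iv1 D144724)) (tt N102807 (iv0 F438728)) (tt N93851 (iv2 F402142)) (tt N108773 D211999) (tt N72614 (iv4 F227564)) (tt N92521 (iv5 F397223)) (tt N72666 F227565) (tt N99284 (iv7 F423937)))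
theorem Q74369 : ∀ i, i < 74369 → P i := stepQ 74368 Q74368 (allL N74368 (tt N93851 (iv1 F402146)) (tt N99284 (iv0 F423939)) (tt N102807 (iv2 F438724)) (tt N100090 (iv3 F427486)) (tt N41297 F227566) (tt N72712 F351850) (tt N57548 F227567) (tt N41294 (iv7 D144726)))
theorem Q74370 : ∀ i, i < 74370 → P i := stepQ 74369 Q74369 (allL N74369 (tt N78245 (iv1 F247357)) (tt N71517 (iv0 F227572)) (tt N72122 F227568) (tt N41295 (iv3 D144727)) (tt N64422 (iv4 F338809)) (tt N55996 F227569) (tt N69031 F227570) (tt N72127 F227571))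
theorem Q74371 : ∀ i, i < 74371 → P i := stepQ 74370 Q74370 (allL N74370 (tt N102810 F438743) (tt N92371 (iv0 F396846)) (tt N94410 (iv2 F404348)) (tt N108774 D212000) (tt N41295 (iv4 D144728)) (tt N73190 F351844) (tt N69032 F227573) (tt N94409 (iv7 F404344)))
theorem Q74372 : ∀ i, i < 74372 → P i := stepQ 74371 Q74371 (allL N74371 (tt N92371 F396847) (tt N102810 F438744) (tt N94409 (iv2 F404342)) (tt N108696 (iv3 F463594)) (tt N41296 (iv4 D144729)) (tt N108775 D212001) (tt N92341 (iv6 F396761)) (tt N94410 (iv7 F404351)))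
theorem Q74373 : ∀ i, i < 74373 → P i := stepQ 74372 Q74372 (allL N74372 (tt N95332 (iv1 F407884)) (tt N61825 F227608) (tt N95330 F407876) (tt N74516 (iv3 F366318)) (tt N108763 (iv4 F463838)) (tt N41298 (iv5 D144754)) (tt N108776 D212002) (tt N74511 F366317))
theorem Q74374 : ∀ i, i < 74374 → P i := stepQ 74373 Q74373 (allL N74373 (tt N92517 F397211) (tt N105321 (iv0 F449705)) (tt N102732 (iv2 F438396)) (tt N74517 (iv3 F366457)) (tt N41299 F227609) (tt N108716 (iv5 F463667)) (tt N41298 (iv6 D144755)) (tt N92429 (iv7 F396990)))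
theorem Q74375 : ∀ i, i < 74375 → P i := stepQ 74374 Q74374 (allL N74374 (tt N63743 (iv1 F348645)) (tt N60999 F348644) (tt N76622 (iv2 F348642)) (tt N64018 F348646) (tt N43184 F339226) (tt N63052 (iv5 F324083)) (tt N41300 (iv6 D144764)) (tt N75661 F339327))
theorem Q74376 : ∀ i, i < 74376 → P i := stepQ 74375 Q74375 (allL N74375 (tt N41301 (iv1 D144765)) (tt N42355 F227632) (tt N56238 F227637) (tt N42372 (iv3 F227636)) (tt N56238 (iv4 F227635)) (tt N60860 F227634) (tt N56603 F227638) (tt N56284 F227633))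
theorem Q74377 : ∀ i, i < 74377 → P i := stepQ 74376 Q74376 (allL N74376 (tt N97053 (iv1 F415234)) (tt N41305 (iv0 D144778)) (tt N92670 (iv2 F397821)) (tt N103457 (iv3 F441717)) (tt N56341 (iv4 F396124)) (tt N97518 (iv5 F417224)) (tt N56340 F396123) (tt N93988 (iv7 F402723)))
theorem Q74378 : ∀ i, i < 74378 → P i := stepQ 74377 Q74377 (allL N74377 (tt N41305 (iv1 D144779)) (tt N97053 F415233) (tt N93988 (iv2 F402721)) (tt N87788 (iv3 F397828)) (tt N60807 (iv4 F365045)) (tt N97048 (iv5 F415207)) (tt N68646 (iv6 F332870)) (tt N92670 (iv7 F397823)))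
theorem Q74379 : ∀ i, i < 74379 → P i := stepQ 74378 Q74378 (allL N74378 (tt N108777 D212003) (tt N87783 (iv0 F416705)) (tt N97052 (iv2 F415223)) (tt N65523 F364819) (tt N80248 (iv4 F364820)) (tt N41305 (iv5 D144780)) (tt N65648 F227656) (tt N65715 (iv7 F364821)))
theorem Q74380 : ∀ i, i < 74380 → P i := stepQ 74379 Q74379 (allL N74379 (tt N99806 (iv1 F426311)) (tt N41759 F258994) (tt N99805 F426302) (tt N41306 (iv3 D144782)) (tt N70597 (iv4 F364326)) (tt N108778 D212004) (tt N55831 F227658) (tt N97054 (iv7 F415235)))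
theorem Q74381 : ∀ i, i < 74381 → P i := stepQ 74380 Q74380 (allL N74380 (tt N97490 (iv1 F417075)) (tt N57261 F376521) (tt N61593 F227659) (tt N108779 D212005) (tt N41306 (iv4 D144783)) (tt N87776 (iv5 F380458)) (tt N55833 F227660) (tt N97055 (iv7 F415238)))
theorem Q74382 : ∀ i, i < 74382 → P i := stepQ 74381 Q74381 (allL N74381 (tt N108780 D212006) (tt N70789 (iv0 F364718)) (tt N61594 F227661) (tt N108778 (iv3 F463884)) (tt N108276 (iv4 F461828)) (tt N41306 (iv5 D144784)) (tt N55834 F227662) (tt N69603 F227663))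
theorem Q74383 : ∀ i, i < 74383 → P i := stepQ 74382 Q74382 (allL N74382 (tt N60849 F364806) (tt N87676 (iv0 F380122)) (tt N108781 D212007) (tt N41307 (iv3 D144785)) (tt N51692 (iv4 F364804)) (tt N86654 (iv5 F376673)) (tt N108782 D212008) (tt N61584 F227664))
theorem Q74384 : ∀ i, i < 74384 → P i := stepQ 74383 Q74383 (allL N74383 (tt N57261 (iv1 F376520)) (tt N97490 F417074) (tt N97055 (iv2 F415236)) (tt N51614 F364803) (tt N41307 (iv4 D144786)) (tt N51613 (iv5 F364802)) (tt N92926 F398787) (tt N61593 F227665))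
theorem Q74385 : ∀ i, i < 74385 → P i := stepQ 74384 Q74384 (allL N74384 (tt N70789 (iv1 F364719)) (tt N108780 F463895) (tt N69603 F227666) (tt N86654 F376674) (tt N108783 D212009) (tt N41307 (iv5 D144787)) (tt N58745 F227668) (tt N61594 F227667))
theorem Q74386 : ∀ i, i < 74386 → P i := stepQ 74385 Q74385 (allL N74385 (tt N61575 (iv1 F227671)) (tt N60839 F227672) (tt N61576 F227669) (tt N108782 (iv3 F463905)) (tt N92926 (iv4 F398784)) (tt N95894 (iv5 F410128)) (tt N41307 (iv6 D144788)) (tt N55827 F227670))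
theorem Q74387 : ∀ i, i < 74387 → P i := stepQ 74386 Q74386 (allL N74386 (tt N41315 (iv1 F227687)) (tt N41314 F227688) (tt N41316 F227684) (tt N74989 (iv3 F229989)) (tt N101031 (iv4 F431364)) (tt N63452 F227685) (tt N46100 F227686) (tt N41311 (iv7 D144794)))
theorem Q74388 : ∀ i, i < 74388 → P i := stepQ 74387 Q74387 (allL N74387 (tt N101031 F431367) (tt N41313 (iv0 D144801)) (tt N106860 F456041) (tt N86786 (iv3 F377193)) (tt N74785 F359381) (tt N108784 D212010) (tt N77631 F346083) (tt N79117 (iv7 F346086)))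
theorem Q74389 : ∀ i, i < 74389 → P i := stepQ 74388 Q74388 (allL N74388 (tt N41313 (iv1 D144802)) (tt N101031 F431368) (tt N79117 F338490) (tt N51852 F338491) (tt N46596 F338492) (tt N91705 (iv5 F394102)) (tt N46595 F338493) (tt N106860 (iv7 F456043)))
theorem Q74390 : ∀ i, i < 74390 → P i := stepQ 74389 Q74389 (allL N74389 (tt N79117 (iv1 F364101)) (tt N106860 F456042) (tt N101031 (iv2 F431363)) (tt N77659 F357698) (tt N41316 F227699) (tt N106248 (iv5 F453755)) (tt N74982 (iv6 F229954)) (tt N41313 (iv7 D144804)))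
theorem Q74391 : ∀ i, i < 74391 → P i := stepQ 74390 Q74390 (allL N74390 (tt N108785 D212011) (tt N62859 (iv0 F338166)) (tt N63662 F227701) (tt N92604 (iv3 F397600)) (tt N41314 (iv4 D144806)) (tt N108786 D212012) (tt N63526 F227702) (tt N64425 (iv7 F364026)))
theorem Q74392 : ∀ i, i < 74392 → P i := stepQ 74391 Q74391 (allL N74391 (tt N62859 (iv1 F338169)) (tt N108785 F463922) (tt N64425 F338171) (tt N65174 F338172) (tt N41315 (iv4 D144808)) (tt N106427 (iv5 F454383)) (tt N63908 (iv6 F338170)) (tt N63662 F227706))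
theorem Q74393 : ∀ i, i < 74393 → P i := stepQ 74392 Q74392 (allL N74392 (tt N77349 F361985) (tt N97522 (iv0 F417242)) (tt N82157 (iv2 F350803)) (tt N41318 (iv3 D144815)) (tt N75104 (iv4 F230276)) (tt N65953 F227723) (tt N82160 F356771) (tt N66647 F227724))
theorem Q74394 : ∀ i, i < 74394 → P i := stepQ 74393 Q74393 (allL N74393 (tt N75167 F230425) (tt N62838 F230426) (tt N44890 F323952) (tt N82160 F323953) (tt N42442 F227726) (tt N48063 F323954) (tt N41318 (iv6 D144816)) (tt N75168 (iv7 F230435)))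
theorem Q74395 : ∀ i, i < 74395 → P i := stepQ 74394 Q74394 (allL N74394 (tt N62774 F243105) (tt N74997 F243117) (tt N66648 F227727) (tt N64219 F348647) (tt N42443 F227728) (tt N68538 F339822) (tt N41319 (iv6 D144817)) (tt N75000 (iv7 F243011)))
theorem Q74396 : ∀ i, i < 74396 → P i := stepQ 74395 Q74395 (allL N74395 (tt N77030 F333979) (tt N48254 F333980) (tt N75195 (iv2 F230703)) (tt N91512 (iv3 F393429)) (tt N84630 (iv4 F369924)) (tt N79480 F333981) (tt N41320 (iv6 D144818)) (tt N79530 F340271))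
theorem Q74397 : ∀ i, i < 74397 → P i := stepQ 74396 Q74396 (allL N74396 (tt N47396 F333929) (tt N41321 (iv0 D144819)) (tt N75196 (iv2 F230715)) (tt N87824 (iv3 F380682)) (tt N42439 F230716) (tt N75776 (iv5 F334043)) (tt N82017 F334039) (tt N75197 F230717))
theorem Q74398 : ∀ i, i < 74398 → P i := stepQ 74397 Q74397 (allL N74397 (tt N75207 (iv1 F230746)) (tt N75183 (iv0 F230551)) (tt N75198 (iv2 F230721)) (tt N80194 (iv3 F346913)) (tt N41322 (iv4 D144823)) (tt N75764 F334533) (tt N80192 F346914) (tt N75200 (iv7 F230736)))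
theorem Q74399 : ∀ i, i < 74399 → P i := stepQ 74398 Q74398 (allL N74398 (tt N45201 (iv1 F233094)) (tt N74442 F233087) (tt N64004 F227733) (tt N41323 (iv3 D144825)) (tt N74449 (iv4 F229135)) (tt N76043 (iv5 F236031)) (tt N73820 F360675) (tt N74441 (iv7 F233066)))
theorem Q74400 : ∀ i, i < 74400 → P i := stepQ 74399 Q74399 (allL N74399 (tt N62467 (iv1 F316214)) (tt N62456 (iv0 F318123)) (tt N62465 (iv2 F318117)) (tt N73820 (iv3 F360676)) (tt N75768 (iv4 F355111)) (tt N57656 (iv5 F311293)) (tt N41323 (iv6 D144827)) (tt N62466 (iv7 F318122)))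
theorem Q74401 : ∀ i, i < 74401 → P i := stepQ 74400 Q74400 (allL N74400 (tt N55812 (iv1 F315495)) (tt N55800 F313056) (tt N55809 (iv2 F314151)) (tt N41327 F227743) (tt N56307 F313057) (tt N63076 (iv5 F227744)) (tt N41325 (iv6 D144832)) (tt N55810 (iv7 F315200)))
theorem Q74402 : ∀ i, i < 74402 → P i := stepQ 74401 Q74401 (allL N74401 (tt N80364 F354854) (tt N59782 (iv0 F354855)) (tt N84630 (iv2 F369920)) (tt N80168 (iv3 F364237)) (tt N75195 (iv4 F230704)) (tt N84629 F369917) (tt N41331 (iv6 D144839)) (tt N95499 (iv7 F408375)))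
theorem Q74403 : ∀ i, i < 74403 → P i := stepQ 74402 Q74402 (allL N74402 (tt N74786 (iv1 F338168)) (tt N66642 (iv0 F227766)) (tt N74785 F359377) (tt N41332 (iv3 D144844)) (tt N106860 (iv4 F456039)) (tt N89156 (iv5 F385378)) (tt N63620 F227765) (tt N46596 F317477))
theorem Q74404 : ∀ i, i < 74404 → P i := stepQ 74403 Q74403 (allL N74403 (tt N56128 (iv1 F341002)) (tt N81699 F316301) (tt N67058 F227769) (tt N89156 (iv3 F385376)) (tt N68414 (iv4 F227772)) (tt N41332 (iv5 D144846)) (tt N42835 F227770) (tt N46600 F316302))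
theorem Q74405 : ∀ i, i < 74405 → P i := stepQ 74404 Q74404 (allL N74404 (tt N105882 F452168) (tt N97811 (iv0 F437224)) (tt N92735 (iv2 F398028)) (tt N79059 (iv3 F252050)) (tt N69923 F359568) (tt N100166 (iv5 F427795)) (tt N41336 (iv6 D144853)) (tt N105794 (iv7 F451747)))
theorem Q74406 : ∀ i, i < 74406 → P i := stepQ 74405 Q74405 (allL N74405 (tt N108787 D212013) (tt N108788 D212014) (tt N94130 (iv2 F403349)) (tt N92727 (iv3 F397995)) (tt N49503 F363454) (tt N93137 (iv5 F399641)) (tt N41338 (iv6 D144854)) (tt N82998 (iv7 F363455)))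
theorem Q74407 : ∀ i, i < 74407 → P i := stepQ 74406 Q74406 (allL N74406 (tt N41352 (iv1 F227797)) (tt N41339 (iv0 D144858)) (tt N41350 F230320) (tt N74768 F230318) (tt N76443 (iv4 F238674)) (tt N63272 (iv5 F306257)) (tt N55183 (iv6 F319872)) (tt N41351 F230321))
theorem Q74408 : ∀ i, i < 74408 → P i := stepQ 74407 Q74407 (allL N74407 (tt N41351 (iv1 F227798)) (tt N41350 F227799) (tt N41352 F227794) (tt N66651 F227795) (tt N56052 F338212) (tt N66863 F227796) (tt N56130 (iv6 F307925)) (tt N41339 (iv7 D144860)))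
theorem Q74409 : ∀ i, i < 74409 → P i := stepQ 74408 Q74408 (allL N74408 (tt N79084 (iv1 F252194)) (tt N64212 F227802) (tt N55717 F227800) (tt N70310 (iv3 F365493)) (tt N41342 (iv4 D144861)) (tt N99833 (iv5 F426440)) (tt N85997 (iv6 F374821)) (tt N41768 F227801))
theorem Q74410 : ∀ i, i < 74410 → P i := stepQ 74409 Q74409 (allL N74409 (tt N83979 F367698) (tt N88657 F383758) (tt N88655 (iv2 F383754)) (tt N41343 (iv3 D144864)) (tt N56984 F227809) (tt N53603 F360363) (tt N94480 (iv6 F404656)) (tt N88654 F383733))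
theorem Q74411 : ∀ i, i < 74411 → P i := stepQ 74410 Q74410 (allL N74410 (tt N94478 F404648) (tt N94477 F404645) (tt N57794 (iv2 F328833)) (tt N94480 (iv3 F404653)) (tt N41344 F227810) (tt N105425 (iv5 F450205)) (tt N41343 (iv6 D144866)) (tt N94479 (iv7 F404652)))
theorem Q74412 : ∀ i, i < 74412 → P i := stepQ 74411 Q74411 (allL N74411 (tt N57323 (iv1 F328836)) (tt N41344 (iv0 D144867)) (tt N68244 (iv2 F347575)) (tt N42366 F347571) (tt N70297 F362913) (tt N78992 (iv5 F251686)) (tt N106856 (iv6 F456014)) (tt N78947 F347572))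
theorem Q74413 : ∀ i, i < 74413 → P i := stepQ 74412 Q74412 (allL N74412 (tt N78947 (iv1 F343525)) (tt N68244 (iv0 F328831)) (tt N57323 (iv2 F328837)) (tt N60836 F227811) (tt N94479 (iv4 F404650)) (tt N43042 F227812) (tt N97051 (iv6 F415221)) (tt N41344 (iv7 D144869)))
theorem Q74414 : ∀ i, i < 74414 → P i := stepQ 74413 Q74413 (allL N74413 (tt N64748 F340878) (tt N74767 F356479) (tt N66645 F227825) (tt N41349 F227826) (tt N75103 (iv4 F230275)) (tt N60863 F227827) (tt N41347 (iv6 D144874)) (tt N74805 (iv7 F353434)))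
theorem Q74415 : ∀ i, i < 74415 → P i := stepQ 74414 Q74414 (allL N74414 (tt N65295 (iv1 F317211)) (tt N65294 (iv0 F317207)) (tt N56042 F227829) (tt N62690 F359481) (tt N107994 (iv4 F460634)) (tt N41348 (iv5 D144876)) (tt N62687 (iv6 F352799)) (tt N56051 F227830))
theorem Q74416 : ∀ i, i < 74416 → P i := stepQ 74415 Q74415 (allL N74415 (tt N74969 F243196) (tt N74965 (iv0 F247809)) (tt N56043 F227831) (tt N99792 (iv3 F426235)) (tt N41349 F227832) (tt N72285 (iv5 F334954)) (tt N41348 (iv6 D144877)) (tt N72376 (iv7 F332529)))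
theorem Q74417 : ∀ i, i < 74417 → P i := stepQ 74416 Q74416 (allL N74416 (tt N42441 (iv1 F229095)) (tt N42424 (iv0 F229097)) (tt N42439 (iv2 F229093)) (tt N41350 (iv3 D144890)) (tt N75196 F230714) (tt N48158 (iv5 F229094)) (tt N73610 (iv6 F322980)) (tt N42440 F229092))
theorem Q74418 : ∀ i, i < 74418 → P i := stepQ 74417 Q74417 (allL N74417 (tt N76445 (iv1 F238679)) (tt N45220 (iv0 F233095)) (tt N76443 F238673) (tt N41842 F321733) (tt N41350 (iv4 D144891)) (tt N76000 F321734) (tt N41804 F321735) (tt N41810 (iv7 F323408)))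
theorem Q74419 : ∀ i, i < 74419 → P i := stepQ 74418 Q74418 (allL N74418 (tt N55185 (iv1 F319864)) (tt N55182 (iv0 F313335)) (tt N55183 (iv2 F319870)) (tt N73610 (iv3 F322979)) (tt N41804 F317659) (tt N73607 (iv5 F322970)) (tt N41350 (iv6 D144893)) (tt N41803 F317660))
theorem Q74420 : ∀ i, i < 74420 → P i := stepQ 74419 Q74419 (allL N74419 (tt N66820 F227856) (tt N74770 F229101) (tt N74769 (iv2 F229088)) (tt N41351 (iv3 D144895)) (tt N75126 (iv4 F230302)) (tt N47398 F227855) (tt N74816 F360611) (tt N74768 (iv7 F230319)))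
theorem Q74421 : ∀ i, i < 74421 → P i := stepQ 74420 Q74420 (allL N74420 (tt N41408 F243209) (tt N92578 F397460) (tt N62914 F349453) (tt N42103 F227865) (tt N62921 (iv4 F349452)) (tt N98920 (iv5 F422791)) (tt N41355 (iv6 D144901)) (tt N92579 (iv7 F397466)))
theorem Q74422 : ∀ i, i < 74422 → P i := stepQ 74421 Q74421 (allL N74421 (tt N65102 F341977) (tt N74817 (iv0 F340874)) (tt N41360 F227866) (tt N66642 F227867) (tt N41911 F227868) (tt N68500 F227869) (tt N41357 (iv6 D144902)) (tt N101302 (iv7 F432586)))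
theorem Q74423 : ∀ i, i < 74423 → P i := stepQ 74422 Q74422 (allL N74422 (tt N62725 F230427) (tt N59310 F364977) (tt N56047 F227870) (tt N42442 F227871) (tt N75105 (iv4 F230278)) (tt N79129 (iv5 F253030)) (tt N41359 (iv6 D144903)) (tt N105278 (iv7 F449528)))
theorem Q74424 : ∀ i, i < 74424 → P i := stepQ 74423 Q74423 (allL N74423 (tt N101302 F432590) (tt N41360 (iv0 D144904)) (tt N65102 F341978) (tt N56110 (iv3 F306063)) (tt N75114 (iv4 F230291)) (tt N56109 (iv5 F341979)) (tt N56140 F230222) (tt N74817 F230224))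
theorem Q74425 : ∀ i, i < 74425 → P i := stepQ 74424 Q74424 (allL N74424 (tt N41360 (iv1 D144905)) (tt N101302 (iv0 F432588)) (tt N74817 (iv2 F341981)) (tt N65089 (iv3 F341982)) (tt N75115 (iv4 F357743)) (tt N65088 (iv5 F341983)) (tt N64747 (iv6 F341996)) (tt N65102 F341980))
theorem Q74426 : ∀ i, i < 74426 → P i := stepQ 74425 Q74425 (allL N74425 (tt N74817 (iv1 F340876)) (tt N65102 (iv0 F332052)) (tt N101302 (iv2 F432584)) (tt N41369 F227872) (tt N84723 (iv4 F370347)) (tt N68506 F227873) (tt N74770 (iv6 F229100)) (tt N41360 (iv7 D144906)))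
theorem Q74427 : ∀ i, i < 74427 → P i := stepQ 74426 Q74426 (allL N74426 (tt N45137 F315218) (tt N41362 (iv0 D144907)) (tt N43851 (iv2 F233195)) (tt N46574 F315219) (tt N74792 F233197) (tt N61422 F335212) (tt N43842 F233194) (tt N46568 F315220))
theorem Q74428 : ∀ i, i < 74428 → P i := stepQ 74427 Q74427 (allL N74427 (tt N46568 F315224) (tt N43851 F252142) (tt N45137 F315225) (tt N77624 (iv3 F335013)) (tt N45136 F315226) (tt N80493 F337036) (tt N79070 (iv6 F252139)) (tt N41362 (iv7 D144909)))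
theorem Q74429 : ∀ i, i < 74429 → P i := stepQ 74428 Q74428 (allL N74428 (tt N69222 (iv1 F342093)) (tt N50756 (iv0 F342091)) (tt N81442 F342085) (tt N41363 (iv3 D144910)) (tt N41953 F227874) (tt N108789 D212015) (tt N76616 F343355) (tt N41994 F227875))
theorem Q74430 : ∀ i, i < 74430 → P i := stepQ 74429 Q74429 (allL N74429 (tt N62707 F227878) (tt N62703 F227879) (tt N74463 F227944) (tt N108789 (iv3 F463943)) (tt N41995 F227877) (tt N41363 (iv5 D144911)) (tt N70038 F345017) (tt N41995 F227876))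
theorem Q74431 : ∀ i, i < 74431 → P i := stepQ 74430 Q74430 (allL N74430 (tt N42754 F317021) (tt N63398 F317022) (tt N61426 (iv2 F316451)) (tt N76616 F334808) (tt N41951 F227880) (tt N98726 (iv5 F422032)) (tt N41363 (iv6 D144912)) (tt N61425 (iv7 F316449)))
theorem Q74432 : ∀ i, i < 74432 → P i := stepQ 74431 Q74431 (allL N74431 (tt N73778 F227881) (tt N92656 F397786) (tt N92658 (iv2 F397789)) (tt N41364 (iv3 D144913)) (tt N74811 (iv4 F229239)) (tt N98158 (iv5 F419766)) (tt N79941 (iv6 F331578)) (tt N74771 (iv7 F229103)))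
theorem Q74433 : ∀ i, i < 74433 → P i := stepQ 74432 Q74432 (allL N74432 (tt N62703 F227883) (tt N62707 F227884) (tt N41995 F227882) (tt N98158 (iv3 F419767)) (tt N74463 (iv4 F227943)) (tt N41364 (iv5 D144914)) (tt N100299 F428320) (tt N74463 (iv7 F227941)))
theorem Q74434 : ∀ i, i < 74434 → P i := stepQ 74433 Q74433 (allL N74433 (tt N62726 (iv1 F230835)) (tt N62728 (iv0 F230699)) (tt N41996 F227885) (tt N79941 F331579) (tt N41992 F227886) (tt N92992 (iv5 F399042)) (tt N41364 (iv6 D144915)) (tt N92649 (iv7 F397758)))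
theorem Q74435 : ∀ i, i < 74435 → P i := stepQ 74434 Q74434 (allL N74434 (tt N41365 (iv1 D144917)) (tt N74774 F229112) (tt N74772 (iv2 F366237)) (tt N70466 (iv3 F392175)) (tt N91175 (iv4 F392174)) (tt N108790 D212016) (tt N96232 (iv6 F411622)) (tt N74773 (iv7 F366240)))
theorem Q74436 : ∀ i, i < 74436 → P i := stepQ 74435 Q74435 (allL N74435 (tt N41366 (iv1 D144921)) (tt N41375 F227890) (tt N63414 (iv2 F317678)) (tt N56461 (iv3 F333547)) (tt N56458 (iv4 F316854)) (tt N41387 F227891) (tt N56457 F333548) (tt N56458 (iv7 F316855)))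
theorem Q74437 : ∀ i, i < 74437 → P i := stepQ 74436 Q74436 (allL N74436 (tt N41421 (iv1 F227901)) (tt N41370 (iv0 D144928)) (tt N41382 (iv2 F227900)) (tt N41416 F227899) (tt N50744 F227898) (tt N61378 F227897) (tt N42481 (iv6 F227903)) (tt N41422 F227902))
theorem Q74438 : ∀ i, i < 74438 → P i := stepQ 74437 Q74437 (allL N74437 (tt N74815 F259428) (tt N76126 F236559) (tt N41372 F227904) (tt N66820 F227905) (tt N78112 (iv4 F338235)) (tt N42483 F227906) (tt N41371 (iv6 D144929)) (tt N95921 (iv7 F410269)))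
theorem Q74439 : ∀ i, i < 74439 → P i := stepQ 74438 Q74438 (allL N74438 (tt N95921 (iv1 F410270)) (tt N41372 (iv0 D144931)) (tt N74815 F259432) (tt N76122 (iv3 F259431)) (tt N74980 (iv4 F259430)) (tt N80034 (iv5 F305846)) (tt N81700 (iv6 F366833)) (tt N76126 F259433))
theorem Q74440 : ∀ i, i < 74440 → P i := stepQ 74439 Q74439 (allL N74439 (tt N41372 (iv1 D144932)) (tt N95921 F410271) (tt N76126 (iv2 F259439)) (tt N66650 (iv3 F259440)) (tt N74981 (iv4 F259441)) (tt N81360 (iv5 F307158)) (tt N99500 (iv6 F424878)) (tt N74815 F259438))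
theorem Q74441 : ∀ i, i < 74441 → P i := stepQ 74440 Q74440 (allL N74440 (tt N76126 F236558) (tt N74815 F259442) (tt N95921 (iv2 F410267)) (tt N41377 F227909) (tt N82135 F278772) (tt N42487 F227910) (tt N74786 (iv6 F229158)) (tt N41372 (iv7 D144933)))
theorem Q74442 : ∀ i, i < 74442 → P i := stepQ 74441 Q74441 (allL N74441 (tt N79070 (iv1 F252141)) (tt N41373 (iv0 D144934)) (tt N79069 F252131) (tt N41970 F233064) (tt N74778 F233065) (tt N77546 (iv5 F357838)) (tt N61431 (iv6 F357840)) (tt N74398 F233066))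
theorem Q74443 : ∀ i, i < 74443 → P i := stepQ 74442 Q74442 (allL N74442 (tt N74398 (iv1 F233087)) (tt N79069 F252134) (tt N79070 (iv2 F252135)) (tt N41774 F227911) (tt N45139 F355272) (tt N42490 F227912) (tt N45137 F355273) (tt N41373 (iv7 D144936)))
theorem Q74444 : ∀ i, i < 74444 → P i := stepQ 74443 Q74443 (allL N74443 (tt N41374 (iv1 D144938)) (tt N74789 F229169) (tt N74787 F229162) (tt N56313 (iv3 F350231)) (tt N83844 (iv4 F341543)) (tt N98280 (iv5 F420304)) (tt N56310 F350248) (tt N74788 (iv7 F229161)))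
theorem Q74445 : ∀ i, i < 74445 → P i := stepQ 74444 Q74444 (allL N74444 (tt N74788 (iv1 F229165)) (tt N74787 F229159) (tt N41374 (iv2 D144939)) (tt N74774 (iv3 F229108)) (tt N99834 (iv4 F426444)) (tt N97273 (iv5 F416156)) (tt N107126 (iv6 F457098)) (tt N74789 (iv7 F229167)))
theorem Q74446 : ∀ i, i < 74446 → P i := stepQ 74445 Q74445 (allL N74445 (tt N108791 D212017) (tt N76259 F355815) (tt N97273 (iv2 F416155)) (tt N41375 F227914) (tt N76401 F355206) (tt N41374 (iv5 D144940)) (tt N108792 D212018) (tt N74790 (iv7 F229171)))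
theorem Q74447 : ∀ i, i < 74447 → P i := stepQ 74446 Q74446 (allL N74446 (tt N76273 F422008) (tt N108793 D212019) (tt N107126 (iv2 F457096)) (tt N41376 F227915) (tt N99835 (iv4 F426451)) (tt N105572 (iv5 F450788)) (tt N41374 (iv6 D144941)) (tt N108794 D212020))
theorem Q74448 : ∀ i, i < 74448 → P i := stepQ 74447 Q74447 (allL N74447 (tt N93193 F399893) (tt N51429 (iv0 F339783)) (tt N74777 (iv2 F229126)) (tt N108792 (iv3 F463962)) (tt N74485 (iv4 F227972)) (tt N66613 (iv5 F347380)) (tt N41375 (iv6 D144942)) (tt N108795 D212021))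
theorem Q74449 : ∀ i, i < 74449 → P i := stepQ 74448 Q74448 (allL N74448 (tt N74781 (iv1 F229140)) (tt N41376 (iv0 D144943)) (tt N74778 (iv2 F229138)) (tt N78843 (iv3 F355243)) (tt N79069 (iv4 F252130)) (tt N97866 (iv5 F418586)) (tt N63392 (iv6 F390818)) (tt N74779 F229139))
theorem Q74450 : ∀ i, i < 74450 → P i := stepQ 74449 Q74449 (allL N74449 (tt N41376 (iv1 D144944)) (tt N74781 F229134) (tt N74779 (iv2 F229136)) (tt N46441 F335157) (tt N74398 F229135) (tt N68194 F347377) (tt N108338 (iv6 F462135)) (tt N74778 (iv7 F229137)))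
theorem Q74451 : ∀ i, i < 74451 → P i := stepQ 74450 Q74450 (allL N74450 (tt N66135 F347601) (tt N69220 (iv0 F347617)) (tt N74780 (iv2 F229129)) (tt N105572 (iv3 F450790)) (tt N67856 F347618) (tt N41376 (iv5 D144945)) (tt N66613 F347379) (tt N84994 F371314))
theorem Q74452 : ∀ i, i < 74452 → P i := stepQ 74451 Q74451 (allL N74451 (tt N74779 (iv1 F229127)) (tt N74778 F229133) (tt N74781 (iv2 F229130)) (tt N108794 (iv3 F463975)) (tt N41377 F227916) (tt N84994 (iv5 F371305)) (tt N74793 (iv6 F229178)) (tt N41376 (iv7 D144946)))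
theorem Q74453 : ∀ i, i < 74453 → P i := stepQ 74452 Q74452 (allL N74452 (tt N43169 F319088) (tt N41378 (iv0 D144947)) (tt N76314 F338516) (tt N76030 (iv3 F338513)) (tt N98139 (iv4 F419649)) (tt N99568 (iv5 F425209)) (tt N77644 F419652) (tt N76379 (iv7 F338521)))
theorem Q74454 : ∀ i, i < 74454 → P i := stepQ 74453 Q74453 (allL N74453 (tt N62914 F349474) (tt N92579 F397468) (tt N92578 F397459) (tt N41381 (iv3 D144960)) (tt N63004 F227931) (tt N104660 (iv5 F446742)) (tt N101695 (iv6 F433910)) (tt N41408 F264348))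
theorem Q74455 : ∀ i, i < 74455 → P i := stepQ 74454 Q74454 (allL N74454 (tt N68517 F229146) (tt N68520 F264353) (tt N41415 F264354) (tt N101695 (iv3 F433906)) (tt N50026 (iv4 F333656)) (tt N81313 F333654) (tt N41381 (iv6 D144963)) (tt N85806 (iv7 F374033)))
theorem Q74456 : ∀ i, i < 74456 → P i := stepQ 74455 Q74455 (allL N74455 (tt N101699 F433934) (tt N92584 (iv0 F397492)) (tt N41386 F227934) (tt N97941 (iv3 F418893)) (tt N62998 F227935) (tt N98380 (iv5 F420704)) (tt N41385 (iv6 D144964)) (tt N108796 D212022))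
theorem Q74457 : ∀ i, i < 74457 → P i := stepQ 74456 Q74456 (allL N74456 (tt N108796 (iv1 F463989)) (tt N41386 (iv0 D144965)) (tt N101699 (iv2 F433930)) (tt N92561 (iv3 F397383)) (tt N82952 F356606) (tt N108626 (iv5 F463270)) (tt N92580 (iv6 F397471)) (tt N92584 (iv7 F397491)))
theorem Q74458 : ∀ i, i < 74458 → P i := stepQ 74457 Q74457 (allL N74457 (tt N41386 (iv1 D144966)) (tt N108796 F463988) (tt N92584 (iv2 F397487)) (tt N62230 F330015) (tt N49873 F346301) (tt N62223 (iv5 F330013)) (tt N101174 (iv6 F432055)) (tt N101699 F433937))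
theorem Q74459 : ∀ i, i < 74459 → P i := stepQ 74458 Q74458 (allL N74458 (tt N92584 (iv1 F397493)) (tt N101699 (iv0 F433933)) (tt N108796 (iv2 F463985)) (tt N41392 F227936) (tt N75578 (iv4 F231936)) (tt N94453 (iv5 F404529)) (tt N75646 (iv6 F233282)) (tt N41386 (iv7 D144967)))
theorem Q74460 : ∀ i, i < 74460 → P i := stepQ 74459 Q74459 (allL N74459 (tt N41388 (iv1 D144970)) (tt N55776 F343300) (tt N55777 (iv2 F343301)) (tt N61096 F343302) (tt N105042 (iv4 F448525)) (tt N83727 F343305) (tt N61131 F343303) (tt N55773 F343304))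
theorem Q74461 : ∀ i, i < 74461 → P i := stepQ 74460 Q74460 (allL N74460 (tt N55773 (iv1 F355819)) (tt N55777 F355818) (tt N41388 (iv2 D144971)) (tt N76258 F355820) (tt N63956 (iv4 F355822)) (tt N108607 (iv5 F463225)) (tt N85368 F372374) (tt N55776 F343299))
theorem Q74462 : ∀ i, i < 74462 → P i := stepQ 74461 Q74461 (allL N74461 (tt N99687 (iv1 F425751)) (tt N108601 (iv0 F463210)) (tt N108607 F463229) (tt N41389 F227938) (tt N105034 (iv4 F448486)) (tt N41388 (iv5 D144972)) (tt N89876 F387829) (tt N99735 (iv7 F425973)))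
theorem Q74463 : ∀ i, i < 74463 → P i := stepQ 74462 Q74462 (allL N74462 (tt N84391 (iv1 F370846)) (tt N85370 F372384) (tt N85368 F372373) (tt N41390 F227939) (tt N49674 (iv4 F347748)) (tt N89877 (iv5 F387831)) (tt N41388 (iv6 D144973)) (tt N85367 F372367))
theorem Q74464 : ∀ i, i < 74464 → P i := stepQ 74463 Q74463 (allL N74463 (tt N41389 (iv1 D144974)) (tt N41396 F227940) (tt N74429 (iv2 F227944)) (tt N108797 D212023) (tt N74432 F227943) (tt N41629 F227942) (tt N68204 (iv6 F345023)) (tt N74432 F227941))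
theorem Q74465 : ∀ i, i < 74465 → P i := stepQ 74464 Q74464 (allL N74464 (tt N101049 (iv1 F431448)) (tt N44501 F319885) (tt N99740 (iv2 F425996)) (tt N89876 (iv3 F387828)) (tt N74483 (iv4 F227970)) (tt N89874 (iv5 F387821)) (tt N41389 (iv6 D144975)) (tt N104133 (iv7 F444352)))
theorem Q74466 : ∀ i, i < 74466 → P i := stepQ 74465 Q74465 (allL N74465 (tt N94463 (iv1 F404567)) (tt N41390 (iv0 D144976)) (tt N99741 F426005) (tt N51089 F355315) (tt N74852 (iv4 F334437)) (tt N51082 F355317) (tt N51084 (iv6 F355314)) (tt N75496 (iv7 F278626)))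
theorem Q74467 : ∀ i, i < 74467 → P i := stepQ 74466 Q74466 (allL N74466 (tt N41390 (iv1 D144977)) (tt N94463 (iv0 F404566)) (tt N75496 F356609) (tt N97122 (iv3 F415544)) (tt N74687 (iv4 F356608)) (tt N76685 F356611) (tt N63406 (iv6 F356610)) (tt N99741 (iv7 F426007)))
theorem Q74468 : ∀ i, i < 74468 → P i := stepQ 74467 Q74467 (allL N74467 (tt N100288 (iv1 F428269)) (tt N100287 (iv0 F428265)) (tt N99742 (iv2 F426009)) (tt N89877 (iv3 F387830)) (tt N108798 D212024) (tt N41390 (iv5 D144978)) (tt N89874 (iv6 F387823)) (tt N108799 D212025))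
theorem Q74469 : ∀ i, i < 74469 → P i := stepQ 74468 Q74468 (allL N74468 (tt N75496 F366071) (tt N99741 F426006) (tt N94463 (iv2 F404563)) (tt N85367 (iv3 F372364)) (tt N41392 F227945) (tt N108799 (iv5 F464002)) (tt N46022 (iv6 F321740)) (tt N41390 (iv7 D144979)))
theorem Q74470 : ∀ i, i < 74470 → P i := stepQ 74469 Q74469 (allL N74469 (tt N98276 (iv1 F420292)) (tt N41400 F334953) (tt N92586 (iv2 F397501)) (tt N63746 (iv3 F366300)) (tt N41391 (iv4 D144982)) (tt N98347 (iv5 F420586)) (tt N98320 F420494) (tt N72743 F366301))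
theorem Q74471 : ∀ i, i < 74471 → P i := stepQ 74470 Q74470 (allL N74470 (tt N41415 F264364) (tt N85806 (iv0 F374035)) (tt N68520 (iv2 F323852)) (tt N57708 (iv3 F278610)) (tt N98320 (iv4 F420493)) (tt N57707 (iv5 F278611)) (tt N41391 (iv6 D144984)) (tt N68517 F339768))
theorem Q74472 : ∀ i, i < 74472 → P i := stepQ 74471 Q74471 (allL N74471 (tt N62909 (iv1 F227960)) (tt N62912 (iv0 F227959)) (tt N62918 F227956) (tt N76375 (iv3 F361666)) (tt N41394 F227957) (tt N108800 D212026) (tt N41393 (iv6 D144992)) (tt N62971 (iv7 F227958)))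
theorem Q74473 : ∀ i, i < 74473 → P i := stepQ 74472 Q74472 (allL N74472 (tt N76258 F324893) (tt N41395 (iv0 D144994)) (tt N76260 F324894) (tt N42204 F324895) (tt N99901 (iv4 F426739)) (tt N108791 (iv5 F463955)) (tt N42202 F324896) (tt N45204 F324897))
theorem Q74474 : ∀ i, i < 74474 → P i := stepQ 74473 Q74473 (allL N74473 (tt N76260 F343294) (tt N45204 F343295) (tt N41395 (iv2 D144995)) (tt N55776 F343296) (tt N71994 F343297) (tt N105015 F448384) (tt N108801 D212027) (tt N76258 (iv7 F353547)))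
theorem Q74475 : ∀ i, i < 74475 → P i := stepQ 74474 Q74474 (allL N74474 (tt N108802 D212028) (tt N87626 (iv0 F379927)) (tt N105015 (iv2 F448381)) (tt N41396 F227961) (tt N56089 (iv4 F353548)) (tt N41395 (iv5 D144996)) (tt N56092 (iv6 F341591)) (tt N99738 (iv7 F425990)))
theorem Q74476 : ∀ i, i < 74476 → P i := stepQ 74475 Q74475 (allL N74475 (tt N100787 F430472) (tt N80487 (iv0 F363495)) (tt N108801 (iv2 F464011)) (tt N41397 F227962) (tt N76375 F361667) (tt N46024 F319879) (tt N41395 (iv6 D144997)) (tt N99814 (iv7 F426355)))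
theorem Q74477 : ∀ i, i < 74477 → P i := stepQ 74476 Q74476 (allL N74476 (tt N78929 F319880) (tt N79899 F319881) (tt N99736 (iv2 F425976)) (tt N56092 F341590) (tt N74480 (iv4 F227966)) (tt N46025 F319882) (tt N41396 (iv6 D144998)) (tt N105011 (iv7 F448357)))
theorem Q74478 : ∀ i, i < 74478 → P i := stepQ 74477 Q74477 (allL N74477 (tt N46022 (iv1 F321738)) (tt N41397 (iv0 D144999)) (tt N75315 (iv2 F231129)) (tt N46035 F346173) (tt N75228 (iv4 F232255)) (tt N98148 (iv5 F419703)) (tt N63411 (iv6 F347589)) (tt N75473 (iv7 F231595)))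
theorem Q74479 : ∀ i, i < 74479 → P i := stepQ 74478 Q74478 (allL N74478 (tt N76395 F355696) (tt N76398 (iv0 F334849)) (tt N75561 F341576) (tt N41399 F227964) (tt N79073 F341185) (tt N41398 (iv5 D145005)) (tt N57272 F341588) (tt N75566 (iv7 F341578)))
theorem Q74480 : ∀ i, i < 74480 → P i := stepQ 74479 Q74479 (allL N74479 (tt N108803 D212029) (tt N75795 (iv0 F355705)) (tt N75562 (iv2 F349975)) (tt N41400 F227965) (tt N63063 F349974) (tt N98488 (iv5 F421101)) (tt N41398 (iv6 D145006)) (tt N100766 (iv7 F430367)))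
theorem Q74481 : ∀ i, i < 74481 → P i := stepQ 74480 Q74480 (allL N74480 (tt N104189 (iv1 F444603)) (tt N68142 (iv0 F366608)) (tt N98274 (iv2 F420282)) (tt N57272 (iv3 F341589)) (tt N74476 F227966) (tt N108804 D212030) (tt N41399 (iv6 D145007)) (tt N104188 (iv7 F444594)))
theorem Q74482 : ∀ i, i < 74482 → P i := stepQ 74481 Q74481 (allL N74481 (tt N61450 F349972) (tt N61446 (iv0 F357846)) (tt N98275 (iv2 F420285)) (tt N98488 F421105) (tt N108805 D212031) (tt N41400 (iv5 D145010)) (tt N108804 (iv6 F464032)) (tt N108806 D212032))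
theorem Q74483 : ∀ i, i < 74483 → P i := stepQ 74482 Q74482 (allL N74482 (tt N72743 (iv1 F334435)) (tt N92586 (iv0 F397505)) (tt N98276 (iv2 F420287)) (tt N100766 (iv3 F430365)) (tt N72355 (iv4 F314676)) (tt N108806 (iv5 F464038)) (tt N92585 F397500) (tt N41400 (iv7 D145011)))
theorem Q74484 : ∀ i, i < 74484 → P i := stepQ 74483 Q74483 (allL N74483 (tt N100657 F429879) (tt N100656 (iv0 F429874)) (tt N98358 (iv2 F420633)) (tt N92205 (iv3 F396235)) (tt N74464 F227970) (tt N80869 (iv5 F360268)) (tt N41401 (iv6 D145017)) (tt N108807 D212033))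
theorem Q74485 : ∀ i, i < 74485 → P i := stepQ 74484 Q74484 (allL N74484 (tt N54901 (iv1 F355634)) (tt N76390 (iv0 F339788)) (tt N79002 (iv2 F339793)) (tt N41403 (iv3 D145022)) (tt N108356 (iv4 F462225)) (tt N62721 F227971) (tt N51525 (iv6 F339782)) (tt N74796 (iv7 F229194)))
theorem Q74486 : ∀ i, i < 74486 → P i := stepQ 74485 Q74485 (allL N74485 (tt N108808 D212034) (tt N86413 (iv0 F376148)) (tt N74800 (iv2 F229201)) (tt N51525 F339780) (tt N74447 F227972) (tt N54866 (iv5 F339779)) (tt N41403 (iv6 D145023)) (tt N108809 D212035))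
theorem Q74487 : ∀ i, i < 74487 → P i := stepQ 74486 Q74486 (allL N74486 (tt N105840 (iv1 F451975)) (tt N104839 (iv0 F447545)) (tt N74798 (iv2 F229196)) (tt N92206 (iv3 F396246)) (tt N49317 F326239) (tt N98743 (iv5 F422114)) (tt N41404 (iv6 D145025)) (tt N83803 F326240))
theorem Q74488 : ∀ i, i < 74488 → P i := stepQ 74487 Q74487 (allL N74487 (tt N73676 (iv1 F227980)) (tt N73675 F227981) (tt N58916 (iv2 F319085)) (tt N41405 (iv3 D145026)) (tt N62484 F227976) (tt N46076 F316732) (tt N58911 F316733) (tt N73648 F227978))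
theorem Q74489 : ∀ i, i < 74489 → P i := stepQ 74488 Q74488 (allL N74488 (tt N98395 (iv1 F420766)) (tt N89751 (iv0 F387422)) (tt N61361 (iv2 F356870)) (tt N100599 (iv3 F429640)) (tt N64819 F356869) (tt N41406 (iv5 D145030)) (tt N41407 F227984) (tt N98256 (iv7 F420207)))
theorem Q74490 : ∀ i, i < 74490 → P i := stepQ 74489 Q74489 (allL N74489 (tt N92579 (iv1 F397467)) (tt N62914 F349477) (tt N41408 (iv2 D145054)) (tt N80461 (iv3 F337291)) (tt N63003 (iv4 F264372)) (tt N108810 D212036) (tt N102948 (iv6 F439388)) (tt N92578 (iv7 F397461)))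
theorem Q74491 : ∀ i, i < 74491 → P i := stepQ 74490 Q74490 (allL N74490 (tt N62945 (iv1 F321906)) (tt N62993 (iv0 F228000)) (tt N63003 F264371) (tt N61151 F349948) (tt N41408 (iv4 D145055)) (tt N106835 (iv5 F455899)) (tt N75654 (iv6 F233294)) (tt N63004 F264370))
theorem Q74492 : ∀ i, i < 74492 → P i := stepQ 74491 Q74491 (allL N74491 (tt N78126 F349451) (tt N98928 (iv0 F422809)) (tt N108810 (iv2 F464059)) (tt N41410 F228001) (tt N104182 (iv4 F444569)) (tt N41408 (iv5 D145056)) (tt N99437 F424574) (tt N104660 (iv7 F446744)))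
theorem Q74493 : ∀ i, i < 74493 → P i := stepQ 74492 Q74492 (allL N74492 (tt N92583 F397486) (tt N101692 F433893) (tt N102948 (iv2 F439384)) (tt N41411 F228002) (tt N75654 F233293) (tt N41653 (iv5 F228003)) (tt N41408 (iv6 D145057)) (tt N102947 (iv7 F439382)))
theorem Q74494 : ∀ i, i < 74494 → P i := stepQ 74493 Q74493 (allL N74493 (tt N70015 (iv1 F338640)) (tt N70030 F339567) (tt N63465 (iv2 F339563)) (tt N61153 F340917) (tt N41411 F228006) (tt N70562 (iv5 F338690)) (tt N41409 (iv6 D145063)) (tt N85807 (iv7 F374043)))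
theorem Q74495 : ∀ i, i < 74495 → P i := stepQ 74494 Q74494 (allL N74494 (tt N107345 (iv1 F458036)) (tt N107344 F458031) (tt N92346 (iv2 F396785)) (tt N97326 F416358) (tt N41410 (iv4 D145066)) (tt N92345 F396783) (tt N107584 (iv6 F458849)) (tt N104661 (iv7 F446752)))
theorem Q74496 : ∀ i, i < 74496 → P i := stepQ 74495 Q74495 (allL N74495 (tt N62891 (iv1 F228025)) (tt N62927 (iv0 F228024)) (tt N62925 F348012) (tt N63297 F347733) (tt N41412 (iv4 D145074)) (tt N108811 D212037) (tt N105274 F449507) (tt N62924 F264373))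
theorem Q74497 : ∀ i, i < 74497 → P i := stepQ 74496 Q74496 (allL N74496 (tt N107923 F460311) (tt N78083 (iv0 F362625)) (tt N102967 (iv2 F439486)) (tt N41414 F228026) (tt N58428 F347168) (tt N41412 (iv5 D145075)) (tt N77769 (iv6 F244889)) (tt N95567 (iv7 F408689)))
theorem Q74498 : ∀ i, i < 74498 → P i := stepQ 74497 Q74497 (allL N74497 (tt N105339 F449775) (tt N102992 (iv0 F439586)) (tt N102968 (iv2 F439490)) (tt N41415 F228027) (tt N105274 (iv4 F449504)) (tt N83975 F367682) (tt N41412 (iv6 D145076)) (tt N88659 (iv7 F383765)))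
theorem Q74499 : ∀ i, i < 74499 → P i := stepQ 74498 Q74498 (allL N74498 (tt N42202 F347728) (tt N45205 F347729) (tt N61149 F347730) (tt N41413 (iv3 D145077)) (tt N63297 (iv4 F347732)) (tt N108812 D212038) (tt N85814 F374078) (tt N63463 F347731))
theorem Q74500 : ∀ i, i < 74500 → P i := stepQ 74499 Q74499 (allL N74499 (tt N107367 (iv1 F458117)) (tt N107366 F458114) (tt N63462 F357972) (tt N108812 (iv3 F464072)) (tt N95020 (iv4 F406675)) (tt N41413 (iv5 D145078)) (tt N53841 (iv6 F362395)) (tt N63464 F357971))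
theorem Q74501 : ∀ i, i < 74501 → P i := stepQ 74500 Q74500 (allL N74500 (tt N85805 (iv1 F374025)) (tt N51084 F339572) (tt N50026 F339568) (tt N85814 (iv3 F374075)) (tt N41415 F228028) (tt N50025 F339569) (tt N41413 (iv6 D145079)) (tt N50069 (iv7 F339566)))
theorem Q74502 : ∀ i, i < 74502 → P i := stepQ 74501 Q74501 (allL N74501 (tt N61409 (iv1 F313479)) (tt N73974 (iv0 F228030)) (tt N81313 (iv2 F333655)) (tt N83975 (iv3 F367680)) (tt N45570 F333714) (tt N41415 (iv5 D145083)) (tt N77771 (iv6 F244891)) (tt N81303 F343400))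
theorem Q74503 : ∀ i, i < 74503 → P i := stepQ 74502 Q74502 (allL N74502 (tt N68520 F228032) (tt N68517 (iv0 F333604)) (tt N85806 (iv2 F374032)) (tt N88659 (iv3 F383763)) (tt N50069 F338694) (tt N81303 (iv5 F333695)) (tt N41652 F228031) (tt N41415 (iv7 D145084)))
theorem Q74504 : ∀ i, i < 74504 → P i := stepQ 74503 Q74503 (allL N74503 (tt N41420 (iv1 D145101)) (tt N41425 F228063) (tt N43527 (iv2 F228066)) (tt N108813 D212039) (tt N42191 F228065) (tt N76055 (iv5 F236064)) (tt N108814 D212040) (tt N43504 F228064))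
theorem Q74505 : ∀ i, i < 74505 → P i := stepQ 74504 Q74504 (allL N74504 (tt N108815 D212041) (tt N108816 D212042) (tt N108817 D212043) (tt N41420 (iv3 D145102)) (tt N43377 F228067) (tt N108818 D212044) (tt N74303 F366262) (tt N63164 F228068))
theorem Q74506 : ∀ i, i < 74506 → P i := stepQ 74505 Q74505 (allL N74505 (tt N100032 (iv1 F427300)) (tt N77497 (iv0 F242907)) (tt N63168 F228069) (tt N108818 (iv3 F464108)) (tt N74513 F228102) (tt N41420 (iv5 D145103)) (tt N107498 (iv6 F458534)) (tt N63165 F228070))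
theorem Q74507 : ∀ i, i < 74507 → P i := stepQ 74506 Q74506 (allL N74506 (tt N108819 D212045) (tt N74186 (iv0 F366316)) (tt N108820 D212046) (tt N41425 (iv3 D145109)) (tt N91623 (iv4 F393805)) (tt N108821 D212047) (tt N95576 (iv6 F408721)) (tt N63167 F228083))
theorem Q74508 : ∀ i, i < 74508 → P i := stepQ 74507 Q74507 (allL N74507 (tt N77497 (iv1 F242908)) (tt N100032 (iv0 F427299)) (tt N63165 F228084) (tt N108821 (iv3 F464123)) (tt N74512 F228098) (tt N41425 (iv5 D145110)) (tt N74360 (iv6 F351851)) (tt N63168 F228085))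
theorem Q74509 : ∀ i, i < 74509 → P i := stepQ 74508 Q74508 (allL N74508 (tt N89509 (iv1 F386683)) (tt N89014 (iv0 F384824)) (tt N89519 F386708) (tt N41426 (iv3 D145112)) (tt N42983 F228088) (tt N100108 (iv5 F427532)) (tt N59308 (iv6 F366478)) (tt N89518 F386705))
theorem Q74510 : ∀ i, i < 74510 → P i := stepQ 74509 Q74509 (allL N74509 (tt N96843 F414226) (tt N108822 D212048) (tt N108823 D212049) (tt N41427 (iv3 D145114)) (tt N100180 (iv4 F427873)) (tt N100110 (iv5 F427536)) (tt N108824 D212050) (tt N76045 (iv7 F236051)))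
theorem Q74511 : ∀ i, i < 74511 → P i := stepQ 74510 Q74510 (allL N74510 (tt N78160 F357855) (tt N94358 F404125) (tt N94360 (iv2 F404126)) (tt N108824 (iv3 F464133)) (tt N43523 F228090) (tt N108825 D212051) (tt N41427 (iv6 D145115)) (tt N72352 F361409))
theorem Q74512 : ∀ i, i < 74512 → P i := stepQ 74511 Q74511 (allL N74511 (tt N58399 (iv1 F361833)) (tt N74363 (iv0 F361832)) (tt N94328 (iv2 F404056)) (tt N41429 F228092) (tt N108826 D212052) (tt N41428 (iv5 D145119)) (tt N108827 D212053) (tt N74372 (iv7 F366317)))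
theorem Q74513 : ∀ i, i < 74513 → P i := stepQ 74512 Q74512 (allL N74512 (tt N74514 (iv1 F228105)) (tt N41429 (iv0 D145121)) (tt N63173 (iv2 F228096)) (tt N103183 (iv3 F440458)) (tt N74507 (iv4 F228098)) (tt N63123 F228095) (tt N100510 (iv6 F429249)) (tt N63170 (iv7 F228097)))
theorem Q74514 : ∀ i, i < 74514 → P i := stepQ 74513 Q74513 (allL N74513 (tt N41429 (iv1 D145122)) (tt N74514 (iv0 F228104)) (tt N63170 (iv2 F228101)) (tt N108828 D212054) (tt N74505 (iv4 F228102)) (tt N63122 F228100) (tt N72611 F351853) (tt N63173 F228099))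
theorem Q74515 : ∀ i, i < 74515 → P i := stepQ 74514 Q74514 (allL N74514 (tt N74513 F228104) (tt N74512 F228105) (tt N74516 (iv2 F228107)) (tt N77727 (iv3 F244797)) (tt N41429 (iv4 D145123)) (tt N44136 F228103) (tt N108649 (iv6 F463351)) (tt N67104 F228106))
theorem Q74516 : ∀ i, i < 74516 → P i := stepQ 74515 Q74515 (allL N74515 (tt N89521 F386769) (tt N108829 D212055) (tt N103183 (iv2 F440457)) (tt N108827 (iv3 F464148)) (tt N108649 (iv4 F463352)) (tt N89559 (iv5 F386768)) (tt N41429 (iv6 D145124)) (tt N108830 D212056))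
theorem Q74517 : ∀ i, i < 74517 → P i := stepQ 74516 Q74516 (allL N74516 (tt N63170 (iv1 F228110)) (tt N63173 F228111) (tt N74514 F228107) (tt N74372 F366318) (tt N67104 F228108) (tt N41430 F228109) (tt N108831 D212057) (tt N41429 (iv7 D145125)))
theorem Q74518 : ∀ i, i < 74518 → P i := stepQ 74517 Q74517 (allL N74517 (tt N108047 F460873) (tt N108832 D212058) (tt N77780 (iv2 F244939)) (tt N74373 F366457) (tt N41431 F228112) (tt N108833 D212059) (tt N41430 (iv6 D145126)) (tt N99501 (iv7 F424883)))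
theorem Q74519 : ∀ i, i < 74519 → P i := stepQ 74518 Q74518 (allL N74518 (tt N41431 (iv1 D145128)) (tt N77783 F244949) (tt N77782 (iv2 F359882)) (tt N81689 F408616) (tt N106122 (iv4 F453224)) (tt N68559 (iv5 F228113)) (tt N74733 (iv6 F318640)) (tt N77781 (iv7 F359880)))
theorem Q74520 : ∀ i, i < 74520 → P i := stepQ 74519 Q74519 (allL N74519 (tt N78065 F366695) (tt N101776 F434294) (tt N101774 F434283) (tt N69558 (iv3 F366504)) (tt N41432 (iv4 D145149)) (tt N108834 D212060) (tt N74258 F366503) (tt N99637 (iv7 F425532)))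
theorem Q74521 : ∀ i, i < 74521 → P i := stepQ 74520 Q74520 (allL N74520 (tt N98518 F421188) (tt N86170 (iv0 F428040)) (tt N100218 (iv2 F428042)) (tt N44616 F228216) (tt N85275 (iv4 F372136)) (tt N84883 (iv5 F374805)) (tt N41438 (iv6 D145233)) (tt N86062 (iv7 F375040)))
theorem Q74522 : ∀ i, i < 74522 → P i := stepQ 74521 Q74521 (allL N74521 (tt N85857 F374238) (tt N108835 D212061) (tt N61389 F228238) (tt N41441 F228239) (tt N53795 F361013) (tt N42655 F228240) (tt N41440 (iv6 D145257)) (tt N108836 D212062))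
theorem Q74523 : ∀ i, i < 74523 → P i := stepQ 74522 Q74522 (allL N74522 (tt N50342 (iv1 F228244)) (tt N41441 (iv0 D145258)) (tt N50120 (iv2 F228241)) (tt N50361 F228242) (tt N56846 F335541) (tt N79016 (iv5 F251843)) (tt N108837 D212063) (tt N50372 F228243))
theorem Q74524 : ∀ i, i < 74524 → P i := stepQ 74523 Q74523 (allL N74523 (tt N50372 (iv1 F362341)) (tt N50120 (iv0 F345197)) (tt N50342 F228245) (tt N108836 (iv3 F464183)) (tt N59105 (iv4 F339954)) (tt N42657 F228246) (tt N61321 F228247) (tt N41441 (iv7 D145259)))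
theorem Q74525 : ∀ i, i < 74525 → P i := stepQ 74524 Q74524 (allL N74524 (tt N69642 F235424) (tt N77611 F344088) (tt N68458 F228252) (tt N47436 F315646) (tt N43099 F228253) (tt N108838 D212064) (tt N41443 (iv6 D145261)) (tt N100397 (iv7 F428791)))
theorem Q74526 : ∀ i, i < 74526 → P i := stepQ 74525 Q74525 (allL N74525 (tt N54302 F342057) (tt N46982 F342058) (tt N47433 F315647) (tt N41444 (iv3 D145262)) (tt N75860 (iv4 F312030)) (tt N80008 (iv5 F342059)) (tt N63203 (iv6 F316888)) (tt N54300 (iv7 F342042)))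
theorem Q74527 : ∀ i, i < 74527 → P i := stepQ 74526 Q74526 (allL N74526 (tt N47390 F337078) (tt N69646 (iv0 F232866)) (tt N68482 F228255) (tt N63203 (iv3 F316887)) (tt N68461 F228256) (tt N95763 (iv5 F409522)) (tt N41444 (iv6 D145263)) (tt N76563 (iv7 F337609)))
theorem Q74528 : ∀ i, i < 74528 → P i := stepQ 74527 Q74527 (allL N74527 (tt N81802 (iv1 F346959)) (tt N79770 (iv0 F346958)) (tt N78591 (iv2 F346956)) (tt N82114 (iv3 F352044)) (tt N63853 F346957) (tt N91548 (iv5 F393601)) (tt N41445 (iv6 D145264)) (tt N100738 (iv7 F430235)))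
theorem Q74529 : ∀ i, i < 74529 → P i := stepQ 74528 Q74528 (allL N74528 (tt N58851 F361283) (tt N96962 F414809) (tt N96961 (iv2 F414804)) (tt N63738 F311009) (tt N54971 (iv4 F335518)) (tt N41446 (iv5 D145267)) (tt N91548 (iv6 F393602)) (tt N47379 F311010))
theorem Q74530 : ∀ i, i < 74530 → P i := stepQ 74529 Q74529 (allL N74529 (tt N81663 F348274) (tt N69644 (iv0 F228259)) (tt N81686 (iv2 F348271)) (tt N41447 (iv3 D145269)) (tt N49460 F348270) (tt N74310 (iv5 F316713)) (tt N42806 F228258) (tt N94135 (iv7 F403378)))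
theorem Q74531 : ∀ i, i < 74531 → P i := stepQ 74530 Q74530 (allL N74530 (tt N63441 (iv1 F343978)) (tt N63386 (iv0 F343984)) (tt N63438 F343968) (tt N77587 F341152) (tt N41448 (iv4 D145272)) (tt N102258 (iv5 F436413)) (tt N79385 (iv6 F357001)) (tt N63439 (iv7 F343975)))
theorem Q74532 : ∀ i, i < 74532 → P i := stepQ 74531 Q74531 (allL N74531 (tt N42478 F228267) (tt N42512 (iv0 F228266)) (tt N76073 (iv2 F236207)) (tt N81685 (iv3 F357089)) (tt N79385 (iv4 F356999)) (tt N56150 F228264) (tt N41448 (iv6 D145274)) (tt N42802 F228265))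
theorem Q74533 : ∀ i, i < 74533 → P i := stepQ 74532 Q74532 (allL N74532 (tt N64439 (iv1 F307624)) (tt N64438 (iv0 F331875)) (tt N64279 F363379) (tt N56143 (iv3 F332403)) (tt N41452 (iv4 D145288)) (tt N106488 (iv5 F454646)) (tt N64542 (iv6 F363380)) (tt N64437 (iv7 F308877)))
theorem Q74534 : ∀ i, i < 74534 → P i := stepQ 74533 Q74533 (allL N74533 (tt N56935 F228310) (tt N93848 (iv0 F402133)) (tt N59211 F228306) (tt N91620 (iv3 F406831)) (tt N41453 (iv4 D145292)) (tt N57159 F228309) (tt N56901 F228307) (tt N59210 F228308))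
theorem Q74535 : ∀ i, i < 74535 → P i := stepQ 74534 Q74534 (allL N74534 (tt N56961 (iv1 F228316)) (tt N41530 (iv0 F228315)) (tt N72924 F228311) (tt N41455 (iv3 D145293)) (tt N62170 F228314) (tt N59192 F228312) (tt N108839 D212065) (tt N72927 F228313))
theorem Q74536 : ∀ i, i < 74536 → P i := stepQ 74535 Q74535 (allL N74535 (tt N90049 (iv1 F388417)) (tt N56924 (iv0 F357574)) (tt N55258 (iv2 F363579)) (tt N108839 (iv3 F464204)) (tt N51117 F357572) (tt N98679 (iv5 F421830)) (tt N41455 (iv6 D145294)) (tt N53239 (iv7 F357573)))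
theorem Q74537 : ∀ i, i < 74537 → P i := stepQ 74536 Q74536 (allL N74536 (tt N41531 F228324) (tt N41543 F228325) (tt N73727 (iv2 F228326)) (tt N41456 (iv3 D145295)) (tt N96048 (iv4 F410791)) (tt N59195 F228322) (tt N108840 D212066) (tt N55259 (iv7 F363557)))
theorem Q74538 : ∀ i, i < 74538 → P i := stepQ 74537 Q74537 (allL N74537 (tt N41506 F357675) (tt N93958 F402599) (tt N93856 (iv2 F402170)) (tt N108840 (iv3 F464211)) (tt N75835 F357676) (tt N104246 (iv5 F444912)) (tt N41456 (iv6 D145296)) (tt N75834 F357677))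
theorem Q74539 : ∀ i, i < 74539 → P i := stepQ 74538 Q74538 (allL N74538 (tt N108841 D212067) (tt N108842 D212068) (tt N41458 F228327) (tt N93873 (iv3 F402239)) (tt N72553 F228328) (tt N108843 D212069) (tt N41457 (iv6 D145297)) (tt N108844 D212070))
theorem Q74540 : ∀ i, i < 74540 → P i := stepQ 74539 Q74539 (allL N74539 (tt N108844 (iv1 F464231)) (tt N41458 (iv0 D145298)) (tt N108841 F464217) (tt N108845 D212071) (tt N108846 D212072) (tt N88114 F381832) (tt N74219 F400832) (tt N108842 (iv7 F464220)))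
theorem Q74541 : ∀ i, i < 74541 → P i := stepQ 74540 Q74540 (allL N74540 (tt N41458 (iv1 D145299)) (tt N108844 F464230) (tt N108842 F464221) (tt N108847 D212073) (tt N108848 D212074) (tt N88117 (iv5 F483138)) (tt N108849 D212076) (tt N108841 F464218))
theorem Q74542 : ∀ i, i < 74542 → P i := stepQ 74541 Q74541 (allL N74541 (tt N108850 D212077) (tt N108851 D212078) (tt N108843 (iv2 F464224)) (tt N41461 F228329) (tt N87226 (iv4 F400067)) (tt N41458 (iv5 D145300)) (tt N93876 (iv6 F402243)) (tt N108852 D212079))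
theorem Q74543 : ∀ i, i < 74543 → P i := stepQ 74542 Q74542 (allL N74542 (tt N108842 (iv1 F464219)) (tt N108841 F464222) (tt N108844 (iv2 F464228)) (tt N41462 F228330) (tt N72559 F228331) (tt N108852 (iv5 F464254)) (tt N93862 (iv6 F402189)) (tt N41458 (iv7 D145301)))
theorem Q74544 : ∀ i, i < 74544 → P i := stepQ 74543 Q74543 (allL N74543 (tt N97016 (iv1 F415042)) (tt N56917 (iv0 F362963)) (tt N97014 F415030) (tt N41459 (iv3 D145302)) (tt N44210 F228332) (tt N108207 F461493) (tt N44205 F228333) (tt N93878 (iv7 F402249)))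
theorem Q74545 : ∀ i, i < 74545 → P i := stepQ 74544 Q74544 (allL N74544 (tt N102854 (iv1 F438955)) (tt N108655 (iv0 F463385)) (tt N56823 F228334) (tt N108207 (iv3 F461496)) (tt N108853 D212080) (tt N41459 (iv5 D145303)) (tt N101963 (iv6 F435104)) (tt N93879 (iv7 F402253)))
theorem Q74546 : ∀ i, i < 74546 → P i := stepQ 74545 Q74545 (allL N74545 (tt N56960 F340815) (tt N102315 F436695) (tt N102313 F436675) (tt N41460 (iv3 D145304)) (tt N108690 (iv4 F463569)) (tt N108175 (iv5 F461398)) (tt N107715 (iv6 F459362)) (tt N56821 F228335))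
theorem Q74547 : ∀ i, i < 74547 → P i := stepQ 74546 Q74546 (allL N74546 (tt N108655 (iv1 F463386)) (tt N102854 (iv0 F438954)) (tt N93879 (iv2 F402252)) (tt N108175 F461399) (tt N108854 D212081) (tt N41460 (iv5 D145305)) (tt N108174 F461396) (tt N56823 F228336))
theorem Q74548 : ∀ i, i < 74548 → P i := stepQ 74547 Q74547 (allL N74547 (tt N56809 (iv1 F228340)) (tt N56808 F228341) (tt N56811 F228337) (tt N107715 (iv3 F459358)) (tt N56360 F228338) (tt N107714 F459354) (tt N41460 (iv6 D145306)) (tt N56358 F228339))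
theorem Q74549 : ∀ i, i < 74549 → P i := stepQ 74548 Q74548 (allL N74548 (tt N93882 (iv1 F402265)) (tt N41461 (iv0 D145307)) (tt N93880 F402257) (tt N108855 D212082) (tt N108856 D212083) (tt N93234 (iv5 F400065)) (tt N108857 D212084) (tt N93847 (iv7 F402126)))
theorem Q74550 : ∀ i, i < 74550 → P i := stepQ 74549 Q74549 (allL N74549 (tt N41461 (iv1 D145308)) (tt N93882 F402264) (tt N93847 (iv2 F402125)) (tt N96592 (iv3 F413112)) (tt N108858 D212085) (tt N59203 (iv5 F228342)) (tt N96590 (iv6 F413104)) (tt N93880 (iv7 F402258)))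
theorem Q74551 : ∀ i, i < 74551 → P i := stepQ 74550 Q74550 (allL N74550 (tt N108859 D212086) (tt N108860 D212087) (tt N93881 (iv2 F402260)) (tt N108861 D212088) (tt N41461 (iv4 D145309)) (tt N108862 D212089) (tt N93881 (iv6 F402261)) (tt N108863 D212090))
theorem Q74552 : ∀ i, i < 74552 → P i := stepQ 74551 Q74551 (allL N74551 (tt N93847 (iv1 F402128)) (tt N93880 F402259) (tt N93882 (iv2 F402262)) (tt N108852 (iv3 F464252)) (tt N108863 (iv4 F464289)) (tt N41462 F228343) (tt N108864 D212091) (tt N41461 (iv7 D145310)))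
theorem Q74553 : ∀ i, i < 74553 → P i := stepQ 74552 Q74552 (allL N74552 (tt N101914 (iv1 F434933)) (tt N66026 (iv0 F228352)) (tt N95591 (iv2 F408797)) (tt N65928 F228344) (tt N95490 (iv4 F408350)) (tt N41463 (iv5 D145311)) (tt N65926 F228346) (tt N65940 F228345))
theorem Q74554 : ∀ i, i < 74554 → P i := stepQ 74553 Q74553 (allL N74553 (tt N71517 (iv1 F228351)) (tt N78245 (iv0 F247356)) (tt N72127 F228347) (tt N74016 F228348) (tt N95507 (iv4 F408405)) (tt N65462 F228349) (tt N41463 (iv6 D145312)) (tt N72122 (iv7 F228350)))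
theorem Q74555 : ∀ i, i < 74555 → P i := stepQ 74554 Q74554 (allL N74554 (tt N91545 F393588) (tt N108865 D212092) (tt N41467 F228353) (tt N93858 (iv3 F402185)) (tt N71426 F228354) (tt N108866 D212093) (tt N41466 (iv6 D145313)) (tt N108867 D212094))
theorem Q74556 : ∀ i, i < 74556 → P i := stepQ 74555 Q74555 (allL N74555 (tt N108867 (iv1 F464299)) (tt N41467 (iv0 D145314)) (tt N91545 (iv2 F393598)) (tt N108868 D212095) (tt N108869 D212096) (tt N108870 D212097) (tt N108871 D212098) (tt N108865 (iv7 F464292)))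
theorem Q74557 : ∀ i, i < 74557 → P i := stepQ 74556 Q74556 (allL N74556 (tt N41467 (iv1 D145315)) (tt N108867 F464298) (tt N108865 F464293) (tt N91547 (iv3 F393596)) (tt N108872 D212099) (tt N108873 D212100) (tt N103345 (iv6 F456402)) (tt N91545 F393597))
theorem Q74558 : ∀ i, i < 74558 → P i := stepQ 74557 Q74557 (allL N74557 (tt N108874 D212101) (tt N108875 D212102) (tt N108866 (iv2 F464294)) (tt N41470 F228355) (tt N108876 D212103) (tt N41467 (iv5 D145316)) (tt N93861 (iv6 F402187)) (tt N108877 D212104))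
theorem Q74559 : ∀ i, i < 74559 → P i := stepQ 74558 Q74558 (allL N74558 (tt N108865 (iv1 F464291)) (tt N91545 (iv0 F401025)) (tt N108867 (iv2 F464296)) (tt N41471 F228356) (tt N71432 F228357) (tt N108877 (iv5 F464313)) (tt N93877 (iv6 F402246)) (tt N41467 (iv7 D145317)))
theorem Q74560 : ∀ i, i < 74560 → P i := stepQ 74559 Q74559 (allL N74559 (tt N102309 (iv1 F436659)) (tt N56963 (iv0 F360135)) (tt N73085 F360132) (tt N41468 (iv3 D145318)) (tt N97107 (iv4 F415493)) (tt N59402 (iv5 F360131)) (tt N58260 F360133) (tt N93865 (iv7 F402199)))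
theorem Q74561 : ∀ i, i < 74561 → P i := stepQ 74560 Q74560 (allL N74560 (tt N94116 (iv1 F403284)) (tt N94119 (iv0 F403299)) (tt N93864 (iv2 F402194)) (tt N59402 F360130) (tt N108878 D212105) (tt N41468 (iv5 D145319)) (tt N59401 (iv6 F351069)) (tt N93866 (iv7 F402205)))
theorem Q74562 : ∀ i, i < 74562 → P i := stepQ 74561 Q74561 (allL N74561 (tt N56914 F400248) (tt N97022 F415075) (tt N97021 (iv2 F415069)) (tt N41469 (iv3 D145320)) (tt N72671 F228358) (tt N99335 (iv5 F424150)) (tt N93273 F400247) (tt N93863 (iv7 F402191)))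
theorem Q74563 : ∀ i, i < 74563 → P i := stepQ 74562 Q74562 (allL N74562 (tt N94119 (iv1 F403300)) (tt N94116 (iv0 F403283)) (tt N93866 (iv2 F402204)) (tt N99335 (iv3 F424148)) (tt N108879 D212106) (tt N41469 (iv5 D145321)) (tt N99334 F424146) (tt N93864 (iv7 F402196)))
theorem Q74564 : ∀ i, i < 74564 → P i := stepQ 74563 Q74563 (allL N74563 (tt N93415 (iv1 F400666)) (tt N41470 (iv0 D145322)) (tt N93417 (iv2 F400670)) (tt N64916 (iv3 F371923)) (tt N108880 D212107) (tt N60513 F228359) (tt N64915 F371922) (tt N65474 (iv7 F228360)))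
theorem Q74565 : ∀ i, i < 74565 → P i := stepQ 74564 Q74564 (allL N74564 (tt N108881 D212108) (tt N96029 (iv0 F410716)) (tt N93867 (iv2 F402208)) (tt N108882 D212109) (tt N41470 (iv4 D145323)) (tt N102909 (iv5 F439221)) (tt N93867 (iv6 F402209)) (tt N102908 (iv7 F439217)))
theorem Q74566 : ∀ i, i < 74566 → P i := stepQ 74565 Q74565 (allL N74565 (tt N65474 (iv1 F228362)) (tt N93417 F400672) (tt N93415 F400669) (tt N108877 (iv3 F464312)) (tt N102908 (iv4 F439216)) (tt N41471 F228361) (tt N108883 D212110) (tt N41470 (iv7 D145324)))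
theorem Q74567 : ∀ i, i < 74567 → P i := stepQ 74566 Q74566 (allL N74566 (tt N59098 (iv1 F410816)) (tt N93929 F410817) (tt N93927 F402456) (tt N41472 (iv3 D145325)) (tt N99670 (iv4 F425672)) (tt N108884 D212111) (tt N99498 (iv6 F424872)) (tt N93521 (iv7 F401017)))
theorem Q74568 : ∀ i, i < 74568 → P i := stepQ 74567 Q74567 (allL N74567 (tt N86102 (iv1 F375142)) (tt N93419 (iv0 F400675)) (tt N93524 (iv2 F401026)) (tt N108884 (iv3 F464361)) (tt N108885 D212112) (tt N41472 (iv5 D145326)) (tt N86100 (iv6 F401029)) (tt N93522 (iv7 F401019)))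
theorem Q74569 : ∀ i, i < 74569 → P i := stepQ 74568 Q74568 (allL N74568 (tt N41489 F228375) (tt N93887 F402286) (tt N72548 (iv2 F362373)) (tt N41474 (iv3 D145328)) (tt N62269 F228374) (tt N57104 (iv5 F336129)) (tt N86352 (iv6 F375896)) (tt N57102 (iv7 F362366)))
theorem Q74570 : ∀ i, i < 74570 → P i := stepQ 74569 Q74569 (allL N74569 (tt N97017 (iv1 F415048)) (tt N47215 F343456) (tt N57125 (iv2 F336135)) (tt N86354 (iv3 F375912)) (tt N41474 (iv4 D145329)) (tt N106435 (iv5 F454421)) (tt N86353 F375910) (tt N57111 (iv7 F343464)))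
theorem Q74571 : ∀ i, i < 74571 → P i := stepQ 74570 Q74570 (allL N74570 (tt N90150 (iv1 F388700)) (tt N59104 (iv0 F375900)) (tt N57126 (iv2 F364304)) (tt N86352 F375899) (tt N86353 (iv4 F375902)) (tt N108886 D212113) (tt N41474 (iv6 D145330)) (tt N90051 (iv7 F388420)))
theorem Q74572 : ∀ i, i < 74572 → P i := stepQ 74571 Q74571 (allL N74571 (tt N47215 F343457) (tt N97017 (iv0 F415047)) (tt N57111 F343465) (tt N66279 F228380) (tt N41475 (iv4 D145333)) (tt N72091 (iv5 F336103)) (tt N89432 F386479) (tt N57125 F336111))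
theorem Q74573 : ∀ i, i < 74573 → P i := stepQ 74572 Q74572 (allL N74572 (tt N47231 F330943) (tt N41477 (iv0 D145336)) (tt N79452 (iv2 F365173)) (tt N108887 D212114) (tt N47211 F330944) (tt N108888 D212115) (tt N78223 F359164) (tt N79449 F365174))
theorem Q74574 : ∀ i, i < 74574 → P i := stepQ 74573 Q74573 (allL N74573 (tt N41477 (iv1 D145337)) (tt N47231 F330945) (tt N79449 (iv2 F365170)) (tt N108889 D212116) (tt N47210 F330946) (tt N108890 D212117) (tt N108891 D212118) (tt N79452 (iv7 F365171)))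
theorem Q74575 : ∀ i, i < 74575 → P i := stepQ 74574 Q74574 (allL N74574 (tt N47226 F330949) (tt N47253 F330950) (tt N101721 (iv2 F434028)) (tt N41478 F228382) (tt N47236 F330951) (tt N41477 (iv5 D145338)) (tt N93535 (iv6 F401068)) (tt N101723 (iv7 F434041)))
theorem Q74576 : ∀ i, i < 74576 → P i := stepQ 74575 Q74575 (allL N74575 (tt N79449 F330952) (tt N79452 F330953) (tt N47231 F330954) (tt N41479 F228383) (tt N46689 F330955) (tt N101723 (iv5 F434040)) (tt N93520 (iv6 F401013)) (tt N41477 (iv7 D145339)))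
theorem Q74577 : ∀ i, i < 74577 → P i := stepQ 74576 Q74576 (allL N74576 (tt N93406 (iv1 F400653)) (tt N41478 (iv0 D145340)) (tt N93538 F401078) (tt N87341 F401259) (tt N108859 (iv4 F464277)) (tt N68727 F228384) (tt N87340 (iv6 F401258)) (tt N93539 (iv7 F401081)))
theorem Q74578 : ∀ i, i < 74578 → P i := stepQ 74577 Q74577 (allL N74577 (tt N41478 (iv1 D145341)) (tt N93406 (iv0 F400652)) (tt N93539 F401083) (tt N87425 F401261) (tt N108860 (iv4 F464281)) (tt N57154 (iv5 F228385)) (tt N108892 D212119) (tt N93538 F401079))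
theorem Q74579 : ∀ i, i < 74579 → P i := stepQ 74578 Q74578 (allL N74578 (tt N108893 D212120) (tt N108894 D212121) (tt N93540 (iv2 F401084)) (tt N70828 F335983) (tt N41478 (iv4 D145342)) (tt N70825 (iv5 F364319)) (tt N93540 (iv6 F401085)) (tt N108895 D212122))
theorem Q74580 : ∀ i, i < 74580 → P i := stepQ 74579 Q74579 (allL N74579 (tt N93539 (iv1 F401080)) (tt N93538 F401077) (tt N93406 (iv2 F400650)) (tt N101723 (iv3 F434044)) (tt N108895 (iv4 F464395)) (tt N41479 F228386) (tt N108896 D212123) (tt N41478 (iv7 D145343)))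
theorem Q74581 : ∀ i, i < 74581 → P i := stepQ 74580 Q74580 (allL N74580 (tt N59099 F228391) (tt N93922 F402440) (tt N71419 (iv2 F359142)) (tt N41480 (iv3 D145345)) (tt N70900 F228392) (tt N56388 F228390) (tt N108897 D212124) (tt N71423 F359130))
theorem Q74582 : ∀ i, i < 74582 → P i := stepQ 74581 Q74581 (allL N74581 (tt N90554 (iv1 F390080)) (tt N41498 F358646) (tt N89984 (iv2 F388191)) (tt N108897 (iv3 F464400)) (tt N107810 (iv4 F459796)) (tt N53585 F359735) (tt N41480 (iv6 D145346)) (tt N89981 (iv7 F388179)))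
theorem Q74583 : ∀ i, i < 74583 → P i := stepQ 74582 Q74582 (allL N74582 (tt N93495 (iv1 F400930)) (tt N41486 F387844) (tt N93883 F402271) (tt N41481 (iv3 D145348)) (tt N97009 (iv4 F415008)) (tt N56391 F228395) (tt N103156 (iv6 F440339)) (tt N93530 (iv7 F401053)))
theorem Q74584 : ∀ i, i < 74584 → P i := stepQ 74583 Q74583 (allL N74583 (tt N59102 F371645) (tt N93564 F401153) (tt N93529 (iv2 F401046)) (tt N103156 (iv3 F440338)) (tt N77040 F371646) (tt N50305 F371647) (tt N41481 (iv6 D145349)) (tt N93563 (iv7 F401145)))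
theorem Q74585 : ∀ i, i < 74585 → P i := stepQ 74584 Q74584 (allL N74584 (tt N108898 D212125) (tt N108899 D212126) (tt N41483 F228396) (tt N93516 (iv3 F401001)) (tt N99294 (iv4 F423974)) (tt N108900 D212127) (tt N41482 (iv6 D145350)) (tt N108901 D212128))
theorem Q74586 : ∀ i, i < 74586 → P i := stepQ 74585 Q74585 (allL N74585 (tt N108901 (iv1 F464426)) (tt N41483 (iv0 D145351)) (tt N108898 F464408) (tt N108902 D212129) (tt N107813 F459813) (tt N86103 F428096) (tt N108903 D212130) (tt N108899 (iv7 F464414)))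
theorem Q74587 : ∀ i, i < 74587 → P i := stepQ 74586 Q74586 (allL N74586 (tt N41483 (iv1 D145352)) (tt N108901 F464425) (tt N108899 F464415) (tt N99488 (iv3 F424817)) (tt N107814 (iv4 F459819)) (tt N86104 (iv5 F424808)) (tt N99486 (iv6 F424807)) (tt N108898 F464410))
theorem Q74588 : ∀ i, i < 74588 → P i := stepQ 74587 Q74587 (allL N74587 (tt N108904 D212131) (tt N96474 (iv0 F412673)) (tt N108900 (iv2 F464418)) (tt N41484 F228397) (tt N61515 (iv4 F353306)) (tt N41483 (iv5 D145353)) (tt N93519 (iv6 F401009)) (tt N98609 (iv7 F421566)))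
theorem Q74589 : ∀ i, i < 74589 → P i := stepQ 74588 Q74588 (allL N74588 (tt N108899 (iv1 F464413)) (tt N108898 F464412) (tt N108901 (iv2 F464421)) (tt N41485 F228398) (tt N99297 (iv4 F423980)) (tt N98609 F421567) (tt N93405 (iv6 F400648)) (tt N41483 (iv7 D145354)))
theorem Q74590 : ∀ i, i < 74590 → P i := stepQ 74589 Q74589 (allL N74589 (tt N93527 (iv1 F401040)) (tt N41484 (iv0 D145355)) (tt N93525 F401030) (tt N100133 (iv3 F427617)) (tt N108881 (iv4 F464353)) (tt N56856 F228399) (tt N108905 D212132) (tt N56855 (iv7 F228400)))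
theorem Q74591 : ∀ i, i < 74591 → P i := stepQ 74590 Q74590 (allL N74590 (tt N103695 (iv1 F442513)) (tt N101935 (iv0 F435007)) (tt N93526 (iv2 F401034)) (tt N61518 F353315) (tt N41484 (iv4 D145356)) (tt N97570 (iv5 F417412)) (tt N93526 (iv6 F401035)) (tt N97569 (iv7 F417409)))
theorem Q74592 : ∀ i, i < 74592 → P i := stepQ 74591 Q74591 (allL N74591 (tt N56855 (iv1 F228402)) (tt N93525 F401032) (tt N93527 (iv2 F401037)) (tt N98609 (iv3 F421564)) (tt N97569 (iv4 F417408)) (tt N41485 F228401) (tt N108906 D212133) (tt N41484 (iv7 D145357)))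
theorem Q74593 : ∀ i, i < 74593 → P i := stepQ 74592 Q74592 (allL N74592 (tt N41486 (iv1 D145359)) (tt N93495 F400931) (tt N93530 (iv2 F401051)) (tt N71419 (iv3 F228403)) (tt N97010 (iv4 F415015)) (tt N93804 (iv5 F401966)) (tt N108907 D212134) (tt N93883 (iv7 F402267)))
theorem Q74594 : ∀ i, i < 74594 → P i := stepQ 74593 Q74593 (allL N74593 (tt N108908 D212135) (tt N108909 D212136) (tt N99004 (iv2 F423006)) (tt N41488 F228404) (tt N77895 F366109) (tt N79216 (iv5 F401351)) (tt N41486 (iv6 D145360)) (tt N108910 D212137))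
theorem Q74595 : ∀ i, i < 74595 → P i := stepQ 74594 Q74594 (allL N74594 (tt N92602 (iv1 F397591)) (tt N72749 (iv0 F366103)) (tt N62293 F228405) (tt N72780 F228406) (tt N41488 F228407) (tt N100655 (iv5 F429864)) (tt N41487 (iv6 D145361)) (tt N81709 F357276))
theorem Q74596 : ∀ i, i < 74596 → P i := stepQ 74595 Q74595 (allL N74595 (tt N93891 (iv1 F402303)) (tt N41488 (iv0 D145362)) (tt N57650 F366100) (tt N93919 (iv3 F407858)) (tt N41535 F366101) (tt N87977 F381355) (tt N57648 F366102) (tt N93889 (iv7 F402289)))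
theorem Q74597 : ∀ i, i < 74597 → P i := stepQ 74596 Q74596 (allL N74596 (tt N87422 (iv1 F379298)) (tt N87425 (iv0 F380998)) (tt N93890 (iv2 F402295)) (tt N79216 F401352) (tt N87279 F378962) (tt N41488 (iv5 D145364)) (tt N93920 (iv6 F402433)) (tt N108911 D212138))
theorem Q74598 : ∀ i, i < 74598 → P i := stepQ 74597 Q74597 (allL N74597 (tt N93889 (iv1 F402288)) (tt N57650 F357277) (tt N93891 (iv2 F402299)) (tt N108910 (iv3 F464453)) (tt N81709 (iv4 F357275)) (tt N108911 (iv5 F464457)) (tt N81708 F357274) (tt N41488 (iv7 D145365)))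
theorem Q74599 : ∀ i, i < 74599 → P i := stepQ 74598 Q74598 (allL N74598 (tt N93887 (iv1 F402285)) (tt N41489 (iv0 D145366)) (tt N57102 F362372) (tt N93914 F402419) (tt N62268 F228408) (tt N57101 (iv5 F336148)) (tt N107727 (iv6 F459415)) (tt N72548 (iv7 F362371)))
theorem Q74600 : ∀ i, i < 74600 → P i := stepQ 74599 Q74599 (allL N74599 (tt N57102 F228411) (tt N72548 F228410) (tt N41489 (iv2 D145367)) (tt N93495 (iv3 F400928)) (tt N72756 F228409) (tt N93922 (iv5 F402439)) (tt N108912 D212139) (tt N93887 (iv7 F402284)))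
theorem Q74601 : ∀ i, i < 74601 → P i := stepQ 74600 Q74600 (allL N74600 (tt N108913 D212140) (tt N108914 D212141) (tt N108912 (iv2 F464460)) (tt N41490 F228412) (tt N72758 F228413) (tt N108915 D212142) (tt N41489 (iv6 D145368)) (tt N108916 D212143))
theorem Q74602 : ∀ i, i < 74602 → P i := stepQ 74601 Q74601 (allL N74601 (tt N41490 (iv1 D145370)) (tt N81708 F357270) (tt N93523 (iv2 F401022)) (tt N93927 (iv3 F402454)) (tt N41547 F357271) (tt N108917 D212144) (tt N75349 (iv6 F357269)) (tt N93885 (iv7 F402277)))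
theorem Q74603 : ∀ i, i < 74603 → P i := stepQ 74602 Q74602 (allL N74602 (tt N100133 (iv1 F427621)) (tt N96461 F412627) (tt N93886 (iv2 F402279)) (tt N108915 (iv3 F464467)) (tt N108918 D212145) (tt N41490 (iv5 D145371)) (tt N93928 (iv6 F402457)) (tt N108919 D212146))
theorem Q74604 : ∀ i, i < 74604 → P i := stepQ 74603 Q74603 (allL N74603 (tt N93523 F401023) (tt N93885 F402276) (tt N81708 F357273) (tt N108916 (iv3 F464468)) (tt N55192 (iv4 F341051)) (tt N108919 (iv5 F464482)) (tt N93891 (iv6 F402301)) (tt N41490 (iv7 D145372)))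
theorem Q74605 : ∀ i, i < 74605 → P i := stepQ 74604 Q74604 (allL N74604 (tt N41494 F228416) (tt N41491 (iv0 D145373)) (tt N41492 F348821) (tt N107882 F460103) (tt N62322 F228415) (tt N107940 (iv5 F460387)) (tt N108920 D212147) (tt N41493 F348822))
theorem Q74606 : ∀ i, i < 74606 → P i := stepQ 74605 Q74605 (allL N74605 (tt N41491 (iv1 D145374)) (tt N41494 F228417) (tt N41493 F348818) (tt N96729 (iv3 F413642)) (tt N73150 (iv4 F348839)) (tt N108921 D212148) (tt N57646 F348817) (tt N41492 F348819))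
theorem Q74607 : ∀ i, i < 74607 → P i := stepQ 74606 Q74606 (allL N74606 (tt N108922 D212149) (tt N108907 (iv0 F464449)) (tt N99028 (iv2 F423085)) (tt N41492 (iv3 D145378)) (tt N99014 (iv4 F423033)) (tt N99033 (iv5 F423094)) (tt N99487 (iv6 F424816)) (tt N96729 F413644))
theorem Q74608 : ∀ i, i < 74608 → P i := stepQ 74607 Q74607 (allL N74607 (tt N108923 D212150) (tt N73605 (iv0 F350122)) (tt N107940 (iv2 F460383)) (tt N99033 F423095) (tt N99046 (iv4 F423129)) (tt N41492 (iv5 D145380)) (tt N73574 F363145) (tt N108921 (iv7 F464493)))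
theorem Q74609 : ∀ i, i < 74609 → P i := stepQ 74608 Q74608 (allL N74608 (tt N75349 (iv1 F361196)) (tt N75352 F355146) (tt N108920 (iv2 F464485)) (tt N99487 F424814) (tt N73180 F348827) (tt N99894 (iv5 F426712)) (tt N41492 (iv6 D145381)) (tt N78230 (iv7 F348820)))
theorem Q74610 : ∀ i, i < 74610 → P i := stepQ 74609 Q74609 (allL N74609 (tt N107727 F459417) (tt N90046 (iv0 F388408)) (tt N107881 (iv2 F460099)) (tt N41493 (iv3 D145383)) (tt N76069 (iv4 F331766)) (tt N80307 F350962) (tt N78231 (iv6 F362454)) (tt N107882 (iv7 F460101)))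
theorem Q74611 : ∀ i, i < 74611 → P i := stepQ 74610 Q74610 (allL N74610 (tt N73605 (iv1 F351576)) (tt N108923 F464504) (tt N108921 (iv2 F464491)) (tt N80307 (iv3 F350963)) (tt N73989 (iv4 F342466)) (tt N41493 (iv5 D145385)) (tt N77495 F350062) (tt N107940 (iv7 F460386)))
theorem Q74612 : ∀ i, i < 74612 → P i := stepQ 74611 Q74611 (allL N74611 (tt N93615 (iv1 F401285)) (tt N41495 (iv0 D145391)) (tt N90543 (iv2 F390027)) (tt N90046 (iv3 F388406)) (tt N89207 (iv4 F385598)) (tt N95097 (iv5 F407022)) (tt N90051 (iv6 F388419)) (tt N57112 F385599))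
theorem Q74613 : ∀ i, i < 74613 → P i := stepQ 74612 Q74612 (allL N74612 (tt N90543 (iv1 F390031)) (tt N57112 F362959) (tt N41495 (iv2 D145393)) (tt N90554 (iv3 F390076)) (tt N47311 F362960) (tt N90553 F390073) (tt N108924 D212151) (tt N93615 (iv7 F401284)))
theorem Q74614 : ∀ i, i < 74614 → P i := stepQ 74613 Q74613 (allL N74613 (tt N108925 D212152) (tt N73551 (iv0 F364905)) (tt N90553 (iv2 F390070)) (tt N41496 F228428) (tt N107711 F459341) (tt N41495 (iv5 D145394)) (tt N94542 F404900) (tt N93616 (iv7 F401289)))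
theorem Q74615 : ∀ i, i < 74615 → P i := stepQ 74614 Q74614 (allL N74614 (tt N97409 F416762) (tt N97406 (iv0 F416754)) (tt N108924 (iv2 F464506)) (tt N41497 F228429) (tt N102765 (iv4 F438542)) (tt N96092 (iv5 F411005)) (tt N41495 (iv6 D145395)) (tt N78226 (iv7 F247326)))
theorem Q74616 : ∀ i, i < 74616 → P i := stepQ 74615 Q74615 (allL N74615 (tt N41499 (iv1 F228431)) (tt N41496 (iv0 D145396)) (tt N93609 F401249) (tt N108926 D212153) (tt N108927 D212154) (tt N57157 F228430) (tt N108928 D212155) (tt N93610 (iv7 F401252)))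
theorem Q74617 : ∀ i, i < 74617 → P i := stepQ 74616 Q74616 (allL N74616 (tt N41496 (iv1 D145397)) (tt N41499 F228432) (tt N93610 F401257) (tt N73605 F388151) (tt N108929 D212156) (tt N66040 (iv5 F228433)) (tt N73603 (iv6 F388152)) (tt N93609 F401250))
theorem Q74618 : ∀ i, i < 74618 → P i := stepQ 74617 Q74617 (allL N74617 (tt N108930 D212157) (tt N108931 D212158) (tt N93611 (iv2 F401262)) (tt N108932 D212159) (tt N41496 (iv4 D145398)) (tt N95032 (iv5 F406733)) (tt N74027 (iv6 F401268)) (tt N93617 (iv7 F401293)))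
theorem Q74619 : ∀ i, i < 74619 → P i := stepQ 74618 Q74618 (allL N74618 (tt N97323 (iv1 F416349)) (tt N108472 (iv0 F462739)) (tt N93612 (iv2 F401270)) (tt N94542 (iv3 F404898)) (tt N74027 F401269) (tt N96094 (iv5 F411018)) (tt N41496 (iv6 D145399)) (tt N108481 (iv7 F462779)))
theorem Q74620 : ∀ i, i < 74620 → P i := stepQ 74619 Q74619 (allL N74619 (tt N41498 (iv1 D145401)) (tt N90554 (iv0 F390079)) (tt N89981 (iv2 F388178)) (tt N108922 (iv3 F464497)) (tt N107837 F459938) (tt N53582 F366172) (tt N93563 (iv6 F401149)) (tt N89984 (iv7 F388192)))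
theorem Q74621 : ∀ i, i < 74621 → P i := stepQ 74620 Q74620 (allL N74620 (tt N89984 (iv1 F388194)) (tt N89981 (iv0 F388180)) (tt N41498 (iv2 D145402)) (tt N93615 (iv3 F401282)) (tt N95097 (iv4 F407021)) (tt N89439 (iv5 F386524)) (tt N78229 (iv6 F247328)) (tt N90554 (iv7 F390078)))
theorem Q74622 : ∀ i, i < 74622 → P i := stepQ 74621 Q74621 (allL N74621 (tt N89001 (iv1 F384769)) (tt N89008 (iv0 F384794)) (tt N89439 F386523) (tt N41499 F228434) (tt N53942 (iv4 F366171)) (tt N41498 (iv5 D145403)) (tt N89532 F386715) (tt N89214 (iv7 F385628)))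
theorem Q74623 : ∀ i, i < 74623 → P i := stepQ 74622 Q74622 (allL N74622 (tt N108931 (iv1 F464545)) (tt N108930 F464541) (tt N93617 (iv2 F401292)) (tt N79486 F365219) (tt N41499 (iv4 D145404)) (tt N79485 (iv5 F365218)) (tt N108933 D212160) (tt N93611 (iv7 F401264)))
theorem Q74624 : ∀ i, i < 74624 → P i := stepQ 74623 Q74623 (allL N74623 (tt N77514 F374992) (tt N108934 D212161) (tt N93618 (iv2 F401294)) (tt N89532 (iv3 F386716)) (tt N108933 (iv4 F464554)) (tt N74237 F228435) (tt N41499 (iv6 D145405)) (tt N108935 D212162))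
theorem Q74625 : ∀ i, i < 74625 → P i := stepQ 74624 Q74624 (allL N74624 (tt N65934 F362761) (tt N60039 (iv0 F228439)) (tt N89935 (iv2 F388042)) (tt N85624 (iv3 F373254)) (tt N41500 (iv4 D145407)) (tt N108936 D212163) (tt N85623 F373252) (tt N93606 (iv7 F401240)))
theorem Q74626 : ∀ i, i < 74626 → P i := stepQ 74625 Q74625 (allL N74625 (tt N65689 (iv1 F228441)) (tt N57151 F228438) (tt N89986 (iv2 F388199)) (tt N81096 (iv3 F343943)) (tt N60042 F228437) (tt N41500 (iv5 D145408)) (tt N59073 F228440) (tt N59155 F228436))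
theorem Q74627 : ∀ i, i < 74627 → P i := stepQ 74626 Q74626 (allL N74626 (tt N93948 (iv1 F402550)) (tt N41502 (iv0 D145413)) (tt N93945 F402527) (tt N54926 (iv3 F376045)) (tt N56966 (iv4 F228464)) (tt N55474 (iv5 F376046)) (tt N54925 F376040) (tt N93946 (iv7 F402533)))
theorem Q74628 : ∀ i, i < 74628 → P i := stepQ 74627 Q74627 (allL N74627 (tt N41502 (iv1 D145414)) (tt N93948 F402549) (tt N93946 (iv2 F402536)) (tt N74114 (iv3 F340485)) (tt N56967 F228443) (tt N108937 D212164) (tt N74111 F340484) (tt N93945 F402528))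
theorem Q74629 : ∀ i, i < 74629 → P i := stepQ 74628 Q74628 (allL N74628 (tt N101991 (iv1 F435258)) (tt N102138 F435906) (tt N93947 (iv2 F402539)) (tt N59793 F349716) (tt N93971 (iv4 F402662)) (tt N41502 (iv5 D145416)) (tt N71706 (iv6 F349715)) (tt N93969 (iv7 F402655)))
theorem Q74630 : ∀ i, i < 74630 → P i := stepQ 74629 Q74629 (allL N74629 (tt N93946 (iv1 F402532)) (tt N93945 F402529) (tt N93948 (iv2 F402545)) (tt N62658 F348052) (tt N41503 F228444) (tt N93969 (iv5 F402652)) (tt N94412 (iv6 F404367)) (tt N41502 (iv7 D145417)))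
theorem Q74631 : ∀ i, i < 74631 → P i := stepQ 74630 Q74630 (allL N74630 (tt N42787 F328497) (tt N72551 (iv0 F331762)) (tt N90045 F388402) (tt N41504 (iv3 D145419)) (tt N41506 F228445) (tt N56147 F328498) (tt N103761 (iv6 F442715)) (tt N62289 F228446))
theorem Q74632 : ∀ i, i < 74632 → P i := stepQ 74631 Q74631 (allL N74631 (tt N93958 (iv1 F402598)) (tt N41506 (iv0 D145421)) (tt N75834 F331763) (tt N107710 (iv3 F459331)) (tt N42767 F331764) (tt N107709 (iv5 F459329)) (tt N53239 F331765) (tt N93856 (iv7 F402173)))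
theorem Q74633 : ∀ i, i < 74633 → P i := stepQ 74632 Q74632 (allL N74632 (tt N75834 F388404) (tt N93856 F402174) (tt N41506 (iv2 D145423)) (tt N93952 (iv3 F402571)) (tt N90045 (iv4 F388403)) (tt N108938 D212165) (tt N106761 (iv6 F455581)) (tt N93958 (iv7 F402597)))
theorem Q74634 : ∀ i, i < 74634 → P i := stepQ 74633 Q74633 (allL N74633 (tt N89972 F388153) (tt N108939 D212166) (tt N108938 (iv2 F464577)) (tt N41507 F228449) (tt N100388 (iv4 F428742)) (tt N41506 (iv5 D145424)) (tt N108940 D212167) (tt N93959 (iv7 F402604)))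
theorem Q74635 : ∀ i, i < 74635 → P i := stepQ 74634 Q74634 (allL N74634 (tt N106764 F455587) (tt N106046 (iv0 F452889)) (tt N106761 F455580) (tt N41508 F228450) (tt N103761 (iv4 F442717)) (tt N93661 (iv5 F401476)) (tt N41506 (iv6 D145425)) (tt N74223 F228451))
theorem Q74636 : ∀ i, i < 74636 → P i := stepQ 74635 Q74635 (allL N74635 (tt N41510 (iv1 F228453)) (tt N41507 (iv0 D145426)) (tt N93854 (iv2 F402154)) (tt N108941 D212168) (tt N108942 D212169) (tt N59206 F228452) (tt N108943 D212170) (tt N93955 (iv7 F402581)))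
theorem Q74637 : ∀ i, i < 74637 → P i := stepQ 74636 Q74636 (allL N74636 (tt N41507 (iv1 D145427)) (tt N41510 F228454) (tt N93955 F402582) (tt N73049 F342474) (tt N102873 (iv4 F439037)) (tt N73047 (iv5 F342472)) (tt N73446 (iv6 F342475)) (tt N93854 (iv7 F402157)))
theorem Q74638 : ∀ i, i < 74638 → P i := stepQ 74637 Q74637 (allL N74637 (tt N108927 (iv1 F464526)) (tt N108929 (iv0 F464537)) (tt N93956 (iv2 F402583)) (tt N108944 D212171) (tt N41507 (iv4 D145428)) (tt N101991 (iv5 F435256)) (tt N97322 F416346) (tt N93960 (iv7 F402609)))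
theorem Q74639 : ∀ i, i < 74639 → P i := stepQ 74638 Q74638 (allL N74638 (tt N73468 F340482) (tt N70238 F340483) (tt N73470 (iv2 F339996)) (tt N108940 (iv3 F464584)) (tt N97322 (iv4 F416345)) (tt N93662 (iv5 F401480)) (tt N41507 (iv6 D145429)) (tt N73469 (iv7 F345309)))
theorem Q74640 : ∀ i, i < 74640 → P i := stepQ 74639 Q74639 (allL N74639 (tt N41509 (iv1 D145431)) (tt N93952 F402574) (tt N93951 F402566) (tt N43587 F348830) (tt N100264 (iv4 F428171)) (tt N101788 (iv5 F434346)) (tt N43584 F348831) (tt N93872 (iv7 F402234)))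
theorem Q74641 : ∀ i, i < 74641 → P i := stepQ 74640 Q74640 (allL N74640 (tt N93872 (iv1 F402570)) (tt N93951 F402567) (tt N41509 (iv2 D145432)) (tt N93958 (iv3 F402594)) (tt N71676 F228455) (tt N108945 D212172) (tt N74231 F228456) (tt N93952 (iv7 F402572)))
theorem Q74642 : ∀ i, i < 74642 → P i := stepQ 74641 Q74641 (allL N74641 (tt N108946 D212173) (tt N108947 D212174) (tt N108945 (iv2 F464611)) (tt N41510 F228457) (tt N108948 D212175) (tt N41509 (iv5 D145433)) (tt N108949 D212176) (tt N93953 (iv7 F402576)))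
theorem Q74643 : ∀ i, i < 74643 → P i := stepQ 74642 Q74642 (allL N74642 (tt N108929 (iv1 F464538)) (tt N108927 (iv0 F464525)) (tt N93960 (iv2 F402606)) (tt N108950 D212177) (tt N41510 (iv4 D145434)) (tt N102138 (iv5 F435904)) (tt N108951 D212178) (tt N93956 (iv7 F402584)))
theorem Q74644 : ∀ i, i < 74644 → P i := stepQ 74643 Q74643 (allL N74643 (tt N101152 F431959) (tt N108952 D212179) (tt N93961 (iv2 F402611)) (tt N108949 (iv3 F464623)) (tt N108951 (iv4 F464629)) (tt N74233 F228458) (tt N41510 (iv6 D145435)) (tt N108953 D212180))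
theorem Q74645 : ∀ i, i < 74645 → P i := stepQ 74644 Q74644 (allL N74644 (tt N97771 (iv1 F418246)) (tt N66588 (iv0 F412412)) (tt N97769 F418236) (tt N41511 (iv3 D145436)) (tt N94813 (iv4 F406042)) (tt N60525 (iv5 F406044)) (tt N67212 (iv6 F358265)) (tt N93966 (iv7 F402633)))
theorem Q74646 : ∀ i, i < 74646 → P i := stepQ 74645 Q74645 (allL N74645 (tt N65680 F228459) (tt N65682 F228460) (tt N93964 (iv2 F402622)) (tt N60525 F406046) (tt N108937 (iv4 F464572)) (tt N41511 (iv5 D145437)) (tt N108954 D212181) (tt N93967 (iv7 F402639)))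
theorem Q74647 : ∀ i, i < 74647 → P i := stepQ 74646 Q74646 (allL N74646 (tt N95033 (iv1 F406739)) (tt N57172 F228465) (tt N93965 (iv2 F402626)) (tt N108955 D212182) (tt N41512 (iv4 D145438)) (tt N56966 F228463) (tt N56832 F228461) (tt N57055 F228462))
theorem Q74648 : ∀ i, i < 74648 → P i := stepQ 74647 Q74647 (allL N74647 (tt N92119 F395831) (tt N97844 F418480) (tt N97842 (iv2 F418467)) (tt N41514 (iv3 D145439)) (tt N71706 F228470) (tt N102359 (iv5 F436896)) (tt N93971 (iv6 F402666)) (tt N93963 (iv7 F402619)))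
theorem Q74649 : ∀ i, i < 74649 → P i := stepQ 74648 Q74648 (allL N74648 (tt N65682 F228471) (tt N65680 F228472) (tt N93967 (iv2 F402636)) (tt N102359 F436893) (tt N55474 F376047) (tt N41514 (iv5 D145440)) (tt N55473 (iv6 F376048)) (tt N93964 (iv7 F402624)))
theorem Q74650 : ∀ i, i < 74650 → P i := stepQ 74649 Q74649 (allL N74649 (tt N57172 F228476) (tt N95033 (iv0 F406738)) (tt N57055 F228473) (tt N108956 D212183) (tt N41515 (iv4 D145441)) (tt N56967 F228475) (tt N56383 F228474) (tt N93965 (iv7 F402628)))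
theorem Q74651 : ∀ i, i < 74651 → P i := stepQ 74650 Q74650 (allL N74650 (tt N79541 F357897) (tt N60488 (iv0 F358949)) (tt N45756 F357899) (tt N41516 (iv3 D145442)) (tt N47334 F357900) (tt N44629 F357901) (tt N87853 (iv6 F380855)) (tt N82533 F357902))
theorem Q74652 : ∀ i, i < 74652 → P i := stepQ 74651 Q74651 (allL N74651 (tt N65688 F228477) (tt N65690 F228478) (tt N92074 F395634) (tt N44629 F332889) (tt N80927 F332890) (tt N41516 (iv5 D145443)) (tt N44628 F332891) (tt N82532 F332892))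
theorem Q74653 : ∀ i, i < 74653 → P i := stepQ 74652 Q74652 (allL N74652 (tt N60453 F417097) (tt N108957 D212184) (tt N81791 F357895) (tt N41517 (iv3 D145444)) (tt N96412 (iv4 F412405)) (tt N81788 (iv5 F332896)) (tt N95817 (iv6 F409781)) (tt N93619 (iv7 F401299)))
theorem Q74654 : ∀ i, i < 74654 → P i := stepQ 74653 Q74653 (allL N74653 (tt N65690 F228479) (tt N65688 F228480) (tt N82532 (iv2 F332894)) (tt N81788 F332895) (tt N108936 (iv4 F464567)) (tt N41517 (iv5 D145445)) (tt N108958 D212185) (tt N92074 (iv7 F395636)))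
theorem Q74655 : ∀ i, i < 74655 → P i := stepQ 74654 Q74654 (allL N74654 (tt N47681 F326463) (tt N41518 (iv0 D145446)) (tt N46463 F326464) (tt N97625 (iv3 F417656)) (tt N45689 F326465) (tt N81741 F326466) (tt N45842 F326467) (tt N46460 F326468))
theorem Q74656 : ∀ i, i < 74656 → P i := stepQ 74655 Q74655 (allL N74655 (tt N41518 (iv1 D145447)) (tt N47681 F326469) (tt N46460 F326470) (tt N108959 D212186) (tt N45729 F326471) (tt N81742 F326472) (tt N45728 F326473) (tt N46463 F326474))
theorem Q74657 : ∀ i, i < 74657 → P i := stepQ 74656 Q74656 (allL N74656 (tt N80230 F326475) (tt N65583 (iv0 F360404)) (tt N47751 F326476) (tt N41519 F228483) (tt N99552 (iv4 F425115)) (tt N41518 (iv5 D145449)) (tt N67213 (iv6 F358259)) (tt N47743 F326477))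
theorem Q74658 : ∀ i, i < 74658 → P i := stepQ 74657 Q74657 (allL N74657 (tt N102138 (iv1 F435907)) (tt N101991 (iv0 F435257)) (tt N93969 (iv2 F402650)) (tt N108960 D212187) (tt N41519 (iv4 D145451)) (tt N93948 (iv5 F402548)) (tt N108961 D212188) (tt N93947 F402543))
theorem Q74659 : ∀ i, i < 74659 → P i := stepQ 74658 Q74658 (allL N74658 (tt N79675 F362870) (tt N108962 D212189) (tt N93970 (iv2 F402656)) (tt N67213 (iv3 F358258)) (tt N108961 (iv4 F464681)) (tt N41525 F228487) (tt N41519 (iv6 D145452)) (tt N103454 (iv7 F441709)))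
theorem Q74660 : ∀ i, i < 74660 → P i := stepQ 74659 Q74659 (allL N74659 (tt N60454 F380725) (tt N93226 (iv0 F400033)) (tt N96817 (iv2 F414097)) (tt N41521 (iv3 D145453)) (tt N58417 F228488) (tt N92772 (iv5 F398154)) (tt N82561 (iv6 F353194)) (tt N86950 F377806))
theorem Q74661 : ∀ i, i < 74661 → P i := stepQ 74660 Q74660 (allL N74660 (tt N97758 F418196) (tt N60481 (iv0 F408442)) (tt N107740 F459492) (tt N41522 (iv3 D145455)) (tt N94835 (iv4 F406104)) (tt N92775 (iv5 F398169)) (tt N52249 F366015) (tt N95820 (iv7 F409796)))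
theorem Q74662 : ∀ i, i < 74662 → P i := stepQ 74661 Q74661 (allL N74661 (tt N58682 F228492) (tt N59150 (iv0 F349566)) (tt N41524 F228490) (tt N93976 (iv3 F402676)) (tt N108963 D212190) (tt N41523 (iv5 D145457)) (tt N67239 (iv6 F343532)) (tt N65983 F228491))
theorem Q74663 : ∀ i, i < 74663 → P i := stepQ 74662 Q74662 (allL N74662 (tt N66055 F228495) (tt N66060 F228496) (tt N108963 (iv2 F464690)) (tt N60802 F228494) (tt N41524 (iv4 D145458)) (tt N102186 (iv5 F436086)) (tt N102419 F437154) (tt N93980 (iv7 F402701)))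
theorem Q74664 : ∀ i, i < 74664 → P i := stepQ 74663 Q74663 (allL N74663 (tt N67164 F347586) (tt N67241 (iv0 F358260)) (tt N67239 F343531) (tt N41525 F228499) (tt N102419 (iv4 F437153)) (tt N67213 F358256) (tt N41524 (iv6 D145459)) (tt N67240 (iv7 F343530)))
theorem Q74665 : ∀ i, i < 74665 → P i := stepQ 74664 Q74664 (allL N74664 (tt N93979 (iv1 F402699)) (tt N41525 (iv0 D145460)) (tt N93977 (iv2 F402688)) (tt N105763 (iv3 F451584)) (tt N60718 F402689) (tt N65705 F349556) (tt N102015 (iv6 F435351)) (tt N93978 (iv7 F402691)))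
theorem Q74666 : ∀ i, i < 74666 → P i := stepQ 74665 Q74665 (allL N74665 (tt N41525 (iv1 D145461)) (tt N93979 F402698) (tt N93978 F402694) (tt N69773 (iv3 F336928)) (tt N60719 (iv4 F336927)) (tt N92073 (iv5 F395629)) (tt N77235 (iv6 F339646)) (tt N93977 F402686))
theorem Q74667 : ∀ i, i < 74667 → P i := stepQ 74666 Q74666 (allL N74666 (tt N93978 (iv1 F402690)) (tt N93977 F402687) (tt N93979 (iv2 F402695)) (tt N67240 F343529) (tt N60806 F228500) (tt N103454 (iv5 F441708)) (tt N93987 (iv6 F402719)) (tt N41525 (iv7 D145462)))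
theorem Q74668 : ∀ i, i < 74668 → P i := stepQ 74667 Q74667 (allL N74667 (tt N48447 F324151) (tt N48053 F324152) (tt N48445 F324153) (tt N41537 F228511) (tt N82341 F324154) (tt N44910 F324155) (tt N42182 F324156) (tt N41527 (iv7 D145469)))
theorem Q74669 : ∀ i, i < 74669 → P i := stepQ 74668 Q74668 (allL N74668 (tt N96112 (iv1 F411108)) (tt N56915 (iv0 F228514)) (tt N93331 (iv2 F400435)) (tt N41528 (iv3 D145470)) (tt N66298 F228512) (tt N73730 F228513) (tt N43588 F324040) (tt N93319 (iv7 F400382)))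
theorem Q74670 : ∀ i, i < 74670 → P i := stepQ 74669 Q74669 (allL N74669 (tt N41530 (iv1 D145473)) (tt N56961 F228516) (tt N72927 F228519) (tt N73727 F228521) (tt N62169 (iv4 F228518)) (tt N73726 F228520) (tt N107707 (iv6 F459320)) (tt N72924 F228517))
theorem Q74671 : ∀ i, i < 74671 → P i := stepQ 74670 Q74670 (allL N74670 (tt N93331 (iv1 F400439)) (tt N93319 (iv0 F400385)) (tt N56915 F228522) (tt N41531 F228523) (tt N47215 (iv4 F343455)) (tt N41530 (iv5 D145474)) (tt N47214 F343454) (tt N96112 (iv7 F411109)))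
theorem Q74672 : ∀ i, i < 74672 → P i := stepQ 74671 Q74671 (allL N74671 (tt N108845 F464236) (tt N108964 D212191) (tt N102310 (iv2 F436660)) (tt N41532 F228528) (tt N99325 (iv4 F424108)) (tt N108965 D212192) (tt N41530 (iv6 D145475)) (tt N108966 D212193))
theorem Q74673 : ∀ i, i < 74673 → P i := stepQ 74672 Q74672 (allL N74672 (tt N108967 D212194) (tt N108847 (iv0 F476921)) (tt N97008 (iv2 F415005)) (tt N47214 F362967) (tt N93907 (iv4 F402377)) (tt N108968 D212196) (tt N41531 (iv6 D145476)) (tt N79456 (iv7 F362968)))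
theorem Q74674 : ∀ i, i < 74674 → P i := stepQ 74673 Q74673 (allL N74673 (tt N99629 (iv1 F425493)) (tt N41532 (iv0 D145477)) (tt N99626 F425472) (tt N79455 (iv3 F341148)) (tt N65385 F341147) (tt N87293 (iv5 F378998)) (tt N65384 (iv6 F341149)) (tt N99627 (iv7 F425477)))
theorem Q74675 : ∀ i, i < 74675 → P i := stepQ 74674 Q74674 (allL N74674 (tt N41532 (iv1 D145478)) (tt N99629 F425492) (tt N99627 F425481) (tt N93875 F424527) (tt N99426 (iv4 F424523)) (tt N87290 F379321) (tt N43570 F360599) (tt N99626 F425474))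
theorem Q74676 : ∀ i, i < 74676 → P i := stepQ 74675 Q74675 (allL N74675 (tt N81256 F362765) (tt N87971 (iv0 F381333)) (tt N99628 (iv2 F425483)) (tt N108965 (iv3 F464703)) (tt N87421 (iv4 F379295)) (tt N41532 (iv5 D145479)) (tt N108968 (iv6 F464712)) (tt N88231 (iv7 F382283)))
theorem Q74677 : ∀ i, i < 74677 → P i := stepQ 74676 Q74676 (allL N74676 (tt N99627 (iv1 F425476)) (tt N99626 F425475) (tt N99629 (iv2 F425488)) (tt N108966 (iv3 F464706)) (tt N41537 F228529) (tt N88231 (iv5 F382284)) (tt N91544 (iv6 F393583)) (tt N41532 (iv7 D145480)))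
theorem Q74678 : ∀ i, i < 74678 → P i := stepQ 74677 Q74677 (allL N74677 (tt N41533 (iv1 D145481)) (tt N41545 F228530) (tt N73771 (iv2 F228533)) (tt N74788 F229160) (tt N71978 F228532) (tt N52124 F340513) (tt N87584 (iv6 F379809)) (tt N56313 (iv7 F350233)))
theorem Q74679 : ∀ i, i < 74679 → P i := stepQ 74678 Q74678 (allL N74678 (tt N44556 F322650) (tt N64053 F322651) (tt N64052 F322652) (tt N46565 F322653) (tt N55769 (iv4 F342994)) (tt N46564 F322655) (tt N73774 F228544) (tt N41534 (iv7 D145488)))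
theorem Q74680 : ∀ i, i < 74680 → P i := stepQ 74679 Q74679 (allL N74679 (tt N44518 F350133) (tt N44512 F350134) (tt N44510 F350135) (tt N63221 F350136) (tt N81699 F350137) (tt N41535 (iv5 D145492)) (tt N43442 F350138) (tt N44516 F350139))
theorem Q74681 : ∀ i, i < 74681 → P i := stepQ 74680 Q74680 (allL N74680 (tt N100249 (iv1 F428125)) (tt N41558 F245708) (tt N95523 (iv2 F408471)) (tt N48080 F343140) (tt N72723 F228552) (tt N95523 (iv5 F408474)) (tt N41538 (iv6 D145503)) (tt N43524 F343141))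
theorem Q74682 : ∀ i, i < 74682 → P i := stepQ 74681 Q74681 (allL N74681 (tt N95521 F408469) (tt N98407 (iv0 F420839)) (tt N41542 F228553) (tt N42186 F334979) (tt N107573 (iv4 F458802)) (tt N42184 F334980) (tt N41539 (iv6 D145504)) (tt N98408 (iv7 F420844)))
theorem Q74683 : ∀ i, i < 74683 → P i := stepQ 74682 Q74682 (allL N74682 (tt N73319 F228554) (tt N73316 F228555) (tt N92546 F397328) (tt N102306 (iv3 F436639)) (tt N101863 (iv4 F434721)) (tt N41540 (iv5 D145505)) (tt N108969 D212197) (tt N92545 F397325))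
theorem Q74684 : ∀ i, i < 74684 → P i := stepQ 74683 Q74683 (allL N74683 (tt N107583 (iv1 F458847)) (tt N107584 (iv0 F458851)) (tt N107573 (iv2 F458800)) (tt N102307 (iv3 F436642)) (tt N41542 F228557) (tt N108970 D212198) (tt N41540 (iv6 D145506)) (tt N107598 (iv7 F458889)))
theorem Q74685 : ∀ i, i < 74685 → P i := stepQ 74684 Q74684 (allL N74684 (tt N73320 F228561) (tt N59722 F228562) (tt N73813 F228558) (tt N108971 D212199) (tt N41541 (iv4 D145507)) (tt N59711 F228560) (tt N108972 D212200) (tt N73776 F228559))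
theorem Q74686 : ∀ i, i < 74686 → P i := stepQ 74685 Q74685 (allL N74685 (tt N73817 F346230) (tt N73806 F346243) (tt N73814 F228567) (tt N41546 F228568) (tt N108972 (iv4 F464722)) (tt N87886 (iv5 F380963)) (tt N41541 (iv6 D145508)) (tt N73816 (iv7 F364501)))
theorem Q74687 : ∀ i, i < 74687 → P i := stepQ 74686 Q74686 (allL N74686 (tt N41542 (iv1 D145510)) (tt N98408 F420843) (tt N98407 (iv2 F420835)) (tt N75564 F364529) (tt N72729 F364530) (tt N91559 (iv5 F393649)) (tt N75560 (iv6 F364528)) (tt N95521 (iv7 F408467)))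
theorem Q74688 : ∀ i, i < 74688 → P i := stepQ 74687 Q74687 (allL N74687 (tt N41716 F334439) (tt N72355 F334440) (tt N42184 F324924) (tt N41548 F228569) (tt N74466 F356608) (tt N41542 (iv5 D145511)) (tt N87886 (iv6 F380964)) (tt N74765 (iv7 F334975)))
theorem Q74689 : ∀ i, i < 74689 → P i := stepQ 74688 Q74688 (allL N74688 (tt N98407 (iv1 F420840)) (tt N95521 (iv0 F408468)) (tt N98408 F420842) (tt N41549 F228570) (tt N107598 (iv4 F458887)) (tt N74765 (iv5 F334974)) (tt N99625 (iv6 F425467)) (tt N41542 (iv7 D145512)))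
theorem Q74690 : ∀ i, i < 74690 → P i := stepQ 74689 Q74689 (allL N74689 (tt N108973 D212201) (tt N108974 D212202) (tt N99620 (iv2 F425449)) (tt N56914 F228571) (tt N93910 (iv4 F402391)) (tt N108975 D212203) (tt N41543 (iv6 D145513)) (tt N108976 D212204))
theorem Q74691 : ∀ i, i < 74691 → P i := stepQ 74690 Q74690 (allL N74690 (tt N41544 (iv1 D145515)) (tt N91544 F393586) (tt N91547 (iv2 F393590)) (tt N108977 D212205) (tt N47719 F341055) (tt N91577 (iv5 F393688)) (tt N82235 (iv6 F363402)) (tt N47718 F341056))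
theorem Q74692 : ∀ i, i < 74692 → P i := stepQ 74691 Q74691 (allL N74691 (tt N108978 D212206) (tt N108979 D212207) (tt N99621 (iv2 F425451)) (tt N102308 (iv3 F436645)) (tt N91564 (iv4 F393671)) (tt N41544 (iv5 D145516)) (tt N108975 (iv6 F464728)) (tt N108980 D212208))
theorem Q74693 : ∀ i, i < 74693 → P i := stepQ 74692 Q74692 (allL N74692 (tt N91547 (iv1 F393593)) (tt N47718 F330079) (tt N91544 F393584) (tt N102309 (iv3 F436655)) (tt N41549 F228572) (tt N108980 (iv5 F464750)) (tt N99629 (iv6 F425491)) (tt N41544 (iv7 D145517)))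
theorem Q74694 : ∀ i, i < 74694 → P i := stepQ 74693 Q74693 (allL N74693 (tt N92658 (iv1 F397793)) (tt N74771 (iv0 F229104)) (tt N92656 F397784) (tt N41545 (iv3 D145518)) (tt N108971 (iv4 F464718)) (tt N56459 F359235) (tt N97864 (iv6 F418576)) (tt N73778 F228573))
theorem Q74695 : ∀ i, i < 74695 → P i := stepQ 74694 Q74694 (allL N74694 (tt N93161 (iv1 F399734)) (tt N56290 (iv0 F348074)) (tt N60199 (iv2 F326247)) (tt N56459 (iv3 F359236)) (tt N93906 (iv4 F402366)) (tt N41545 (iv5 D145519)) (tt N97863 (iv6 F418565)) (tt N73779 F228575))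
theorem Q74696 : ∀ i, i < 74696 → P i := stepQ 74695 Q74695 (allL N74695 (tt N102964 (iv1 F439473)) (tt N62384 (iv0 F339792)) (tt N73772 F228576) (tt N97864 (iv3 F418575)) (tt N41546 F228577) (tt N93205 (iv5 F399964)) (tt N41545 (iv6 D145520)) (tt N88228 (iv7 F382273)))
theorem Q74697 : ∀ i, i < 74697 → P i := stepQ 74696 Q74696 (allL N74696 (tt N41546 (iv1 D145522)) (tt N73774 F228578) (tt N73718 F335128) (tt N62499 F335129) (tt N68180 F335849) (tt N42004 F335130) (tt N62496 F335131) (tt N73773 (iv7 F348978)))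
theorem Q74698 : ∀ i, i < 74698 → P i := stepQ 74697 Q74697 (allL N74697 (tt N41548 (iv1 D145536)) (tt N42180 F323816) (tt N44409 F323817) (tt N41868 F323818) (tt N84203 (iv4 F368495)) (tt N43581 F323819) (tt N42153 F323820) (tt N41862 F323821))
theorem Q74699 : ∀ i, i < 74699 → P i := stepQ 74698 Q74698 (allL N74698 (tt N44409 F324925) (tt N41862 F324926) (tt N42180 F324927) (tt N74765 F334972) (tt N66710 F324928) (tt N41549 F228589) (tt N78324 F324929) (tt N41548 (iv7 D145538)))
theorem Q74700 : ∀ i, i < 74700 → P i := stepQ 74699 Q74699 (allL N74699 (tt N43524 F342424) (tt N95523 F408477) (tt N100249 (iv2 F428128)) (tt N41550 (iv3 D145540)) (tt N92516 F397208) (tt N107252 (iv5 F457655)) (tt N108981 D212209) (tt N41558 F321165))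
theorem Q74701 : ∀ i, i < 74701 → P i := stepQ 74700 Q74700 (allL N74700 (tt N73989 (iv1 F342470)) (tt N99046 (iv0 F423131)) (tt N41556 F320595) (tt N107252 (iv3 F457652)) (tt N107840 (iv4 F459945)) (tt N41550 (iv5 D145542)) (tt N65285 F318456) (tt N41560 F320596))
theorem Q74702 : ∀ i, i < 74702 → P i := stepQ 74701 Q74701 (allL N74701 (tt N63010 F318457) (tt N75280 F318458) (tt N41557 F320597) (tt N108981 (iv3 F464753)) (tt N107934 (iv4 F460355)) (tt N62466 F228592) (tt N41550 (iv6 D145543)) (tt N57656 F318459))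
theorem Q74703 : ∀ i, i < 74703 → P i := stepQ 74702 Q74702 (allL N74702 (tt N73148 F353379) (tt N72226 F353389) (tt N41561 F228594) (tt N108982 D212210) (tt N41552 (iv4 D145549)) (tt N73764 (iv5 F353388)) (tt N62224 F348836) (tt N73170 (iv7 F348835)))
theorem Q74704 : ∀ i, i < 74704 → P i := stepQ 74703 Q74703 (allL N74703 (tt N107710 (iv1 F459335)) (tt N107707 (iv0 F459318)) (tt N107854 (iv2 F459998)) (tt N41555 (iv3 D145565)) (tt N107823 (iv4 F459860)) (tt N89436 (iv5 F388150)) (tt N108983 D212211) (tt N107839 (iv7 F459936)))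
theorem Q74705 : ∀ i, i < 74705 → P i := stepQ 74704 Q74704 (allL N74704 (tt N74707 (iv1 F351577)) (tt N73498 (iv0 F351588)) (tt N74004 F351574) (tt N89436 F388149) (tt N73576 F351575) (tt N41555 (iv5 D145566)) (tt N73479 (iv6 F351573)) (tt N107935 (iv7 F460363)))
theorem Q74706 : ∀ i, i < 74706 → P i := stepQ 74705 Q74705 (allL N74705 (tt N82235 F366270) (tt N108984 D212212) (tt N107934 (iv2 F460353)) (tt N108983 (iv3 F464764)) (tt N41557 F228612) (tt N108985 D212213) (tt N41555 (iv6 D145567)) (tt N78251 (iv7 F366242)))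
theorem Q74707 : ∀ i, i < 74707 → P i := stepQ 74706 Q74706 (allL N74706 (tt N41560 (iv1 F228620)) (tt N41556 (iv0 D145569)) (tt N73989 (iv2 F351585)) (tt N99047 (iv3 F423135)) (tt N108921 (iv4 F464494)) (tt N73751 F228616) (tt N52356 F351584) (tt N99046 (iv7 F423133)))
theorem Q74708 : ∀ i, i < 74708 → P i := stepQ 74707 Q74707 (allL N74707 (tt N74711 F350129) (tt N74704 F351577) (tt N107840 (iv2 F459943)) (tt N108986 D212214) (tt N41556 (iv4 D145571)) (tt N107824 (iv5 F459863)) (tt N75501 F366271) (tt N107841 (iv7 F459950)))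
theorem Q74709 : ∀ i, i < 74709 → P i := stepQ 74708 Q74708 (allL N74708 (tt N62456 F228621) (tt N62467 (iv0 F228622)) (tt N62466 F335073) (tt N91474 (iv3 F393281)) (tt N78373 F354561) (tt N41557 (iv5 D145576)) (tt N75003 F335071) (tt N62465 (iv7 F335072)))
theorem Q74710 : ∀ i, i < 74710 → P i := stepQ 74709 Q74709 (allL N74709 (tt N74307 (iv1 F228707)) (tt N63166 (iv0 F320846)) (tt N92519 (iv2 F397213)) (tt N107857 (iv3 F460014)) (tt N41558 (iv4 D145582)) (tt N57167 (iv5 F351846)) (tt N78252 F366370) (tt N92516 (iv7 F397206)))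
theorem Q74711 : ∀ i, i < 74711 → P i := stepQ 74710 Q74710 (allL N74710 (tt N107276 F457758) (tt N107937 F460371) (tt N101780 (iv2 F434311)) (tt N41560 F228624) (tt N94407 (iv4 F404333)) (tt N41558 (iv5 D145583)) (tt N77001 F351587) (tt N107252 (iv7 F457654)))
theorem Q74712 : ∀ i, i < 74712 → P i := stepQ 74711 Q74711 (allL N74711 (tt N73498 (iv1 F351589)) (tt N74707 (iv0 F350129)) (tt N107935 (iv2 F460360)) (tt N59887 F350124) (tt N59888 (iv4 F350123)) (tt N41559 (iv5 D145586)) (tt N80088 F350125) (tt N74004 F350126))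
theorem Q74713 : ∀ i, i < 74713 → P i := stepQ 74712 Q74712 (allL N74712 (tt N72884 F342399) (tt N73069 (iv0 F405308)) (tt N72941 (iv2 F354202)) (tt N41561 (iv3 D145605)) (tt N41565 F228632) (tt N107930 (iv5 F460337)) (tt N62179 F354204) (tt N73068 (iv7 F342420)))
theorem Q74714 : ∀ i, i < 74714 → P i := stepQ 74713 Q74713 (allL N74713 (tt N41565 (iv1 D145632)) (tt N104245 F444908) (tt N82045 F342402) (tt N64689 (iv3 F342401)) (tt N107709 (iv4 F459325)) (tt N46399 F342400) (tt N101807 F434433) (tt N75840 (iv7 F342403)))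
theorem Q74715 : ∀ i, i < 74715 → P i := stepQ 74714 Q74714 (allL N74714 (tt N75840 (iv1 F344054)) (tt N82045 (iv0 F356995)) (tt N41565 (iv2 D145633)) (tt N62139 (iv3 F350926)) (tt N72941 (iv4 F354203)) (tt N45598 F325024) (tt N72940 F354200) (tt N104245 (iv7 F444909)))
theorem Q74716 : ∀ i, i < 74716 → P i := stepQ 74715 Q74715 (allL N74715 (tt N82045 (iv1 F356996)) (tt N75840 F356997) (tt N104245 F444907) (tt N41566 F228654) (tt N73068 (iv4 F342418)) (tt N45535 F324095) (tt N42886 F318470) (tt N41565 (iv7 D145635)))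
theorem Q74717 : ∀ i, i < 74717 → P i := stepQ 74716 Q74716 (allL N74716 (tt N108987 D212215) (tt N108988 D212216) (tt N108989 D212217) (tt N41567 (iv3 D145640)) (tt N95607 (iv4 F408863)) (tt N108990 D212218) (tt N92364 (iv6 F396823)) (tt N92294 F396610))
theorem Q74718 : ∀ i, i < 74718 → P i := stepQ 74717 Q74717 (allL N74717 (tt N92405 (iv1 F396915)) (tt N92404 F396918) (tt N92407 (iv2 F396916)) (tt N108990 (iv3 F464795)) (tt N90005 (iv4 F409570)) (tt N41567 (iv5 D145641)) (tt N90004 F409571) (tt N92297 (iv7 F396619)))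
theorem Q74719 : ∀ i, i < 74719 → P i := stepQ 74718 Q74718 (allL N74718 (tt N90470 (iv1 F389779)) (tt N90466 (iv0 F389755)) (tt N100535 (iv2 F429376)) (tt N41568 (iv3 D145642)) (tt N80001 F360160) (tt N108991 D212219) (tt N55977 F361809) (tt N92408 (iv7 F396922)))
theorem Q74720 : ∀ i, i < 74720 → P i := stepQ 74719 Q74719 (allL N74719 (tt N94312 F404008) (tt N99733 F425965) (tt N41572 F228657) (tt N108991 (iv3 F464799)) (tt N102268 (iv4 F436465)) (tt N41568 (iv5 D145643)) (tt N108992 D212220) (tt N92409 (iv7 F396924)))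
theorem Q74721 : ∀ i, i < 74721 → P i := stepQ 74720 Q74720 (allL N74720 (tt N69037 (iv1 F228661)) (tt N69036 (iv0 F228662)) (tt N41573 F228658) (tt N55977 (iv3 F361808)) (tt N41569 F228659) (tt N55976 (iv5 F347220)) (tt N41568 (iv6 D145644)) (tt N57528 F228660))
theorem Q74722 : ∀ i, i < 74722 → P i := stepQ 74721 Q74721 (allL N74721 (tt N108697 (iv1 F463598)) (tt N108696 F463595) (tt N99732 (iv2 F425959)) (tt N95175 (iv3 F407311)) (tt N108993 D212221) (tt N41570 (iv5 D145646)) (tt N108758 F463831) (tt N56954 F228665))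
theorem Q74723 : ∀ i, i < 74723 → P i := stepQ 74722 Q74722 (allL N74722 (tt N73187 (iv1 F228671)) (tt N72723 (iv0 F245706)) (tt N41571 (iv2 D145649)) (tt N100535 (iv3 F429377)) (tt N41576 F228667) (tt N55997 F351843) (tt N101859 (iv6 F434705)) (tt N48224 F320845))
theorem Q74724 : ∀ i, i < 74724 → P i := stepQ 74723 Q74723 (allL N74723 (tt N101858 (iv1 F434699)) (tt N101857 F434697) (tt N101859 (iv2 F434701)) (tt N41573 F228674) (tt N41578 F228675) (tt N99364 (iv5 F424299)) (tt N41571 (iv6 D145651)) (tt N69038 F228676))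
theorem Q74725 : ∀ i, i < 74725 → P i := stepQ 74724 Q74724 (allL N74724 (tt N92409 (iv1 F396927)) (tt N41572 (iv0 D145652)) (tt N94312 (iv2 F404003)) (tt N108994 D212222) (tt N108995 D212223) (tt N93850 (iv5 F402140)) (tt N94190 F403633) (tt N99733 (iv7 F425966)))
theorem Q74726 : ∀ i, i < 74726 → P i := stepQ 74725 Q74725 (allL N74725 (tt N41572 (iv1 D145653)) (tt N92409 F396926) (tt N99733 F425964) (tt N108036 (iv3 F460827)) (tt N99469 (iv4 F424724)) (tt N96889 (iv5 F414456)) (tt N55944 F404006) (tt N94312 F404007))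
theorem Q74727 : ∀ i, i < 74727 → P i := stepQ 74726 Q74726 (allL N74726 (tt N94523 (iv1 F404841)) (tt N94647 F405355) (tt N102268 (iv2 F436464)) (tt N56792 F351854) (tt N41572 (iv4 D145654)) (tt N102252 (iv5 F436380)) (tt N108996 D212224) (tt N72844 (iv7 F351856)))
theorem Q74728 : ∀ i, i < 74728 → P i := stepQ 74727 Q74727 (allL N74727 (tt N108997 D212225) (tt N108998 D212226) (tt N108992 (iv2 F464805)) (tt N69114 F351855) (tt N108996 (iv4 F464823)) (tt N108999 D212227) (tt N41572 (iv6 D145655)) (tt N109000 D212228))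
theorem Q74729 : ∀ i, i < 74729 → P i := stepQ 74728 Q74728 (allL N74728 (tt N57528 (iv1 F228678)) (tt N41573 (iv0 D145656)) (tt N69037 (iv2 F228679)) (tt N93683 (iv3 F401554)) (tt N69434 F228677) (tt N95322 (iv5 F407847)) (tt N92338 F396752) (tt N69036 (iv7 F228680)))
theorem Q74730 : ∀ i, i < 74730 → P i := stepQ 74729 Q74729 (allL N74729 (tt N41573 (iv1 D145657)) (tt N57528 F228681) (tt N69036 (iv2 F228684)) (tt N94210 F404242) (tt N68332 F228683) (tt N102750 (iv5 F438485)) (tt N99284 (iv6 F423936)) (tt N69037 F228682))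
theorem Q74731 : ∀ i, i < 74731 → P i := stepQ 74730 Q74730 (allL N74730 (tt N55963 F228686) (tt N70975 F347273) (tt N55976 F347272) (tt N99364 (iv3 F424298)) (tt N71764 (iv4 F347243)) (tt N41573 (iv5 D145658)) (tt N108999 (iv6 F464835)) (tt N69039 F228685))
theorem Q74732 : ∀ i, i < 74732 → P i := stepQ 74731 Q74731 (allL N74731 (tt N70206 (iv1 F228696)) (tt N44326 F228695) (tt N70205 F228690) (tt N41575 (iv3 D145660)) (tt N72630 (iv4 F228694)) (tt N69110 F228691) (tt N74015 F228692) (tt N69034 F228693))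
theorem Q74733 : ∀ i, i < 74733 → P i := stepQ 74732 Q74732 (allL N74732 (tt N73189 F228713) (tt N73188 F228714) (tt N41577 F228710) (tt N41585 (iv3 F320624)) (tt N108775 (iv4 F463872)) (tt N41576 (iv5 D145665)) (tt N44377 F318641) (tt N48225 F317361))
theorem Q74734 : ∀ i, i < 74734 → P i := stepQ 74733 Q74733 (allL N74733 (tt N48225 F318639) (tt N41577 (iv0 D145667)) (tt N73189 F359892) (tt N109001 D212229) (tt N92324 (iv4 F396704)) (tt N74734 (iv5 F318637)) (tt N74518 F318640) (tt N73188 (iv7 F359888)))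
theorem Q74735 : ∀ i, i < 74735 → P i := stepQ 74734 Q74734 (allL N74734 (tt N41577 (iv1 D145668)) (tt N48225 F318636) (tt N73188 (iv2 F359891)) (tt N109002 D212230) (tt N57630 (iv4 F396705)) (tt N74733 F318637) (tt N57693 (iv6 F333706)) (tt N73189 F359893))
theorem Q74736 : ∀ i, i < 74736 → P i := stepQ 74735 Q74735 (allL N74735 (tt N92414 (iv1 F396939)) (tt N97329 (iv0 F416372)) (tt N108775 (iv2 F463870)) (tt N100499 (iv3 F429203)) (tt N41577 (iv4 D145669)) (tt N94409 (iv5 F404345)) (tt N107250 F457648) (tt N73190 F228722))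
theorem Q74737 : ∀ i, i < 74737 → P i := stepQ 74736 Q74736 (allL N74736 (tt N57673 F317358) (tt N57681 (iv0 F317366)) (tt N44377 F318624) (tt N41581 F228723) (tt N107250 (iv4 F457647)) (tt N74810 F317359) (tt N41577 (iv6 D145670)) (tt N57679 F317360))
theorem Q74738 : ∀ i, i < 74738 → P i := stepQ 74737 Q74737 (allL N74737 (tt N62324 F342379) (tt N62327 F361193) (tt N109003 D212231) (tt N41579 (iv3 D145673)) (tt N72065 F342377) (tt N58619 F228726) (tt N72063 (iv6 F342376)) (tt N73185 F228727))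
theorem Q74739 : ∀ i, i < 74739 → P i := stepQ 74738 Q74738 (allL N74738 (tt N41582 (iv1 D145686)) (tt N77616 F324076) (tt N77606 (iv2 F347067)) (tt N80968 (iv3 F333426)) (tt N76105 F331934) (tt N66496 (iv5 F228756)) (tt N79375 (iv6 F345358)) (tt N46359 F347068))
theorem Q74740 : ∀ i, i < 74740 → P i := stepQ 74739 Q74739 (allL N74739 (tt N65847 F228795) (tt N65345 (iv0 F350815)) (tt N79600 F359733) (tt N45606 F323460) (tt N72840 (iv4 F351690)) (tt N41583 (iv5 D145703)) (tt N45605 F323461) (tt N79589 F321759))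
theorem Q74741 : ∀ i, i < 74741 → P i := stepQ 74740 Q74740 (allL N74740 (tt N107864 (iv1 F460048)) (tt N92520 F397221) (tt N95776 (iv2 F409590)) (tt N108775 (iv3 F463871)) (tt N41584 (iv4 D145704)) (tt N108696 (iv5 F463592)) (tt N57580 F228797) (tt N92453 (iv7 F397052)))
theorem Q74742 : ∀ i, i < 74742 → P i := stepQ 74741 Q74741 (allL N74741 (tt N64064 F326480) (tt N79535 F326481) (tt N47742 F326482) (tt N67450 F364148) (tt N41587 (iv4 D145720)) (tt N80228 F326483) (tt N67448 (iv6 F337371)) (tt N47741 F326485))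
theorem Q74743 : ∀ i, i < 74743 → P i := stepQ 74742 Q74742 (allL N74742 (tt N109004 D212232) (tt N109005 D212233) (tt N109006 D212234) (tt N41589 (iv3 D145733)) (tt N41591 F228837) (tt N75334 (iv5 F231234)) (tt N48390 F355090) (tt N41973 F228838))
theorem Q74744 : ∀ i, i < 74744 → P i := stepQ 74743 Q74743 (allL N74743 (tt N43859 F231632) (tt N65120 F348880) (tt N41978 F228839) (tt N48390 F355088) (tt N41590 F228840) (tt N103425 (iv5 F441572)) (tt N41589 (iv6 D145734)) (tt N82560 (iv7 F348870)))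
theorem Q74745 : ∀ i, i < 74745 → P i := stepQ 74744 Q74744 (allL N74744 (tt N42447 (iv1 F228847)) (tt N41591 (iv0 D145738)) (tt N42446 (iv2 F228851)) (tt N95470 (iv3 F408302)) (tt N58849 F228846) (tt N74751 (iv5 F228889)) (tt N65156 (iv6 F336445)) (tt N42445 (iv7 F228848)))
theorem Q74746 : ∀ i, i < 74746 → P i := stepQ 74745 Q74745 (allL N74745 (tt N42446 (iv1 F228857)) (tt N42445 F228856) (tt N41591 (iv2 D145740)) (tt N74831 (iv3 F229411)) (tt N109006 (iv4 F464877)) (tt N45198 F228854) (tt N109007 D212235) (tt N42447 F228855))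
theorem Q74747 : ∀ i, i < 74747 → P i := stepQ 74746 Q74746 (allL N74746 (tt N109008 D212236) (tt N46688 F345564) (tt N109007 (iv2 F464883)) (tt N41592 F228858) (tt N48390 F355089) (tt N82180 (iv5 F279071)) (tt N41591 (iv6 D145741)) (tt N82589 (iv7 F282980)))
theorem Q74748 : ∀ i, i < 74748 → P i := stepQ 74747 Q74747 (allL N74747 (tt N41592 (iv1 D145743)) (tt N67100 F228862) (tt N74832 F229428) (tt N66844 (iv3 F338173)) (tt N41845 F228863) (tt N63069 (iv5 F228864)) (tt N53065 F338174) (tt N69211 (iv7 F314916)))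
theorem Q74749 : ∀ i, i < 74749 → P i := stepQ 74748 Q74748 (allL N74748 (tt N41611 (iv1 F228868)) (tt N41595 (iv0 D145744)) (tt N41608 (iv2 F228866)) (tt N78331 F360905) (tt N42248 F228865) (tt N67609 (iv5 F360904)) (tt N64224 F360903) (tt N41609 (iv7 F228867)))
theorem Q74750 : ∀ i, i < 74750 → P i := stepQ 74749 Q74749 (allL N74749 (tt N41595 (iv1 D145745)) (tt N41611 F228869) (tt N41609 F228873) (tt N51972 F306166) (tt N42405 F228871) (tt N45594 F306167) (tt N48058 (iv6 F228872)) (tt N41608 F228870))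
theorem Q74751 : ∀ i, i < 74751 → P i := stepQ 74750 Q74750 (allL N74750 (tt N87461 (iv1 F379407)) (tt N42111 F231358) (tt N75367 (iv2 F231351)) (tt N41596 (iv3 D145748)) (tt N45435 (iv4 F307677)) (tt N68594 F228881) (tt N75636 F350193) (tt N41615 F228882))
theorem Q74752 : ∀ i, i < 74752 → P i := stepQ 74751 Q74751 (allL N74751 (tt N47473 F346436) (tt N41598 (iv0 D145753)) (tt N61285 (iv2 F322753)) (tt N108252 (iv3 F461704)) (tt N61275 (iv4 F361649)) (tt N74744 F228889) (tt N101736 (iv6 F434101)) (tt N61273 (iv7 F322758)))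
theorem Q74753 : ∀ i, i < 74753 → P i := stepQ 74752 Q74752 (allL N74752 (tt N61285 (iv1 F322752)) (tt N61273 (iv0 F322755)) (tt N41598 (iv2 D145755)) (tt N99632 (iv3 F425503)) (tt N43264 F320999) (tt N99632 (iv5 F425505)) (tt N50753 F321000) (tt N47473 F346440))
theorem Q74754 : ∀ i, i < 74754 → P i := stepQ 74753 Q74753 (allL N74753 (tt N41601 (iv1 D145763)) (tt N99632 F425508) (tt N96970 (iv2 F414850)) (tt N42118 F346415) (tt N42115 (iv4 F228898)) (tt N45197 F342097) (tt N42115 F346416) (tt N46740 F342098))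
theorem Q74755 : ∀ i, i < 74755 → P i := stepQ 74754 Q74754 (allL N74754 (tt N46740 F346434) (tt N96970 (iv0 F414854)) (tt N41601 (iv2 D145764)) (tt N47473 F346431) (tt N45440 F347980) (tt N47473 F346435) (tt N47470 F346432) (tt N99632 (iv7 F425506)))
theorem Q74756 : ∀ i, i < 74756 → P i := stepQ 74755 Q74755 (allL N74755 (tt N47441 F346419) (tt N47444 F346420) (tt N47470 F346423) (tt N41602 F228899) (tt N75329 (iv4 F231225)) (tt N78607 F346421) (tt N41601 (iv6 D145765)) (tt N78161 (iv7 F346428)))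
theorem Q74757 : ∀ i, i < 74757 → P i := stepQ 74756 Q74756 (allL N74756 (tt N42070 F361639) (tt N75758 F248416) (tt N41603 (iv2 D145778)) (tt N99635 (iv3 F425520)) (tt N86996 (iv4 F377990)) (tt N99635 (iv5 F425522)) (tt N104656 (iv6 F446723)) (tt N88173 (iv7 F382014)))
theorem Q74758 : ∀ i, i < 74758 → P i := stepQ 74757 Q74757 (allL N74757 (tt N82207 F354320) (tt N104730 (iv0 F447024)) (tt N104656 (iv2 F446721)) (tt N41604 F228910) (tt N86997 (iv4 F377995)) (tt N67596 (iv5 F358024)) (tt N41603 (iv6 D145779)) (tt N103012 (iv7 F439666)))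
theorem Q74759 : ∀ i, i < 74759 → P i := stepQ 74758 Q74758 (allL N74758 (tt N99635 (iv1 F425524)) (tt N41605 (iv0 D145781)) (tt N78333 F347962) (tt N45438 F347963) (tt N77292 F347964) (tt N44599 F347965) (tt N45437 F347966) (tt N99634 (iv7 F425518)))
theorem Q74760 : ∀ i, i < 74760 → P i := stepQ 74759 Q74759 (allL N74759 (tt N41605 (iv1 D145782)) (tt N99635 F425525) (tt N99634 F425516) (tt N78337 F353678) (tt N99862 (iv4 F426591)) (tt N44600 F353675) (tt N82460 F353676) (tt N78333 (iv7 F353677)))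
theorem Q74761 : ∀ i, i < 74761 → P i := stepQ 74760 Q74760 (allL N74760 (tt N78333 F382019) (tt N99634 F425517) (tt N41605 (iv2 D145783)) (tt N88173 (iv3 F382017)) (tt N91018 (iv4 F391585)) (tt N88173 (iv5 F382018)) (tt N91017 (iv6 F391582)) (tt N99635 (iv7 F425523)))
theorem Q74762 : ∀ i, i < 74762 → P i := stepQ 74761 Q74761 (allL N74761 (tt N79402 F346296) (tt N79403 (iv0 F361642)) (tt N91017 (iv2 F391578)) (tt N41606 F228911) (tt N81323 (iv4 F346293)) (tt N95443 (iv5 F408196)) (tt N41605 (iv6 D145784)) (tt N64230 F366302))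
theorem Q74763 : ∀ i, i < 74763 → P i := stepQ 74762 Q74762 (allL N74762 (tt N52579 (iv1 F335033)) (tt N78940 (iv0 F335029)) (tt N79904 (iv2 F336884)) (tt N41614 F228940) (tt N47531 F324707) (tt N63055 (iv5 F310968)) (tt N41612 (iv6 D145804)) (tt N75967 F234778))
theorem Q74764 : ∀ i, i < 74764 → P i := stepQ 74763 Q74763 (allL N74763 (tt N42111 (iv1 F228964)) (tt N87461 F379408) (tt N41615 (iv2 D145811)) (tt N43246 (iv3 F307811)) (tt N43248 (iv4 F307682)) (tt N52386 F306554) (tt N78727 (iv6 F250526)) (tt N75367 (iv7 F231352)))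
theorem Q74765 : ∀ i, i < 74765 → P i := stepQ 74764 Q74764 (allL N74764 (tt N44881 F332447) (tt N52576 F310946) (tt N52578 F310947) (tt N41618 F228972) (tt N48069 F332448) (tt N41714 F228973) (tt N48069 F308960) (tt N41617 (iv7 D145827)))
theorem Q74766 : ∀ i, i < 74766 → P i := stepQ 74765 Q74765 (allL N74765 (tt N74854 (iv1 F229653)) (tt N41619 (iv0 D145889)) (tt N74852 F334973) (tt N74698 (iv3 F334972)) (tt N99741 (iv4 F426003)) (tt N74688 F334974) (tt N98404 (iv6 F420818)) (tt N74687 F334975))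
theorem Q74767 : ∀ i, i < 74767 → P i := stepQ 74766 Q74766 (allL N74766 (tt N41622 (iv1 D145897)) (tt N98760 F422194) (tt N98761 (iv2 F422195)) (tt N45115 F342987) (tt N73696 (iv4 F229067)) (tt N73675 F229066) (tt N45112 F342988) (tt N61705 (iv7 F342990)))
theorem Q74768 : ∀ i, i < 74768 → P i := stepQ 74767 Q74767 (allL N74767 (tt N74413 (iv1 F356479)) (tt N101272 F432479) (tt N101273 (iv2 F432480)) (tt N41625 (iv3 D145909)) (tt N62763 F229085) (tt N84230 (iv5 F368611)) (tt N107601 (iv6 F458892)) (tt N41651 F264325))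
theorem Q74769 : ∀ i, i < 74769 → P i := stepQ 74768 Q74768 (allL N74768 (tt N103059 (iv1 F439899)) (tt N41628 (iv0 D145912)) (tt N75779 (iv2 F233898)) (tt N74406 (iv3 F230318)) (tt N44868 (iv4 F230317)) (tt N68004 (iv5 F314651)) (tt N91530 (iv6 F393510)) (tt N74419 F230319))
theorem Q74770 : ∀ i, i < 74770 → P i := stepQ 74769 Q74769 (allL N74769 (tt N41628 (iv1 D145913)) (tt N103059 F439898) (tt N74419 F229088) (tt N67062 F229089) (tt N44869 F229091) (tt N67060 (iv5 F229087)) (tt N109009 D212237) (tt N75779 (iv7 F233899)))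
theorem Q74771 : ∀ i, i < 74771 → P i := stepQ 74770 Q74770 (allL N74770 (tt N74419 (iv1 F229101)) (tt N75779 (iv0 F233900)) (tt N103059 (iv2 F439893)) (tt N41634 F229098) (tt N75139 (iv4 F230333)) (tt N42777 F229099) (tt N74425 F229100) (tt N41628 (iv7 D145914)))
theorem Q74772 : ∀ i, i < 74772 → P i := stepQ 74771 Q74771 (allL N74771 (tt N74693 F229104) (tt N85776 (iv0 F373889)) (tt N56193 (iv2 F364254)) (tt N41629 (iv3 D145915)) (tt N41962 F229102) (tt N108797 (iv5 F463990)) (tt N46063 F324400) (tt N74431 F229103))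
theorem Q74773 : ∀ i, i < 74773 → P i := stepQ 74772 Q74772 (allL N74772 (tt N50033 (iv1 F322603)) (tt N41630 (iv0 D145917)) (tt N74434 F366237) (tt N56210 F366235) (tt N108066 (iv4 F460965)) (tt N99687 (iv5 F425749)) (tt N92842 (iv6 F398465)) (tt N56205 (iv7 F366236)))
theorem Q74774 : ∀ i, i < 74774 → P i := stepQ 74773 Q74773 (allL N74773 (tt N41630 (iv1 D145918)) (tt N50033 (iv0 F322602)) (tt N56205 (iv2 F366238)) (tt N92850 (iv3 F398506)) (tt N107323 (iv4 F457967)) (tt N108601 (iv5 F463209)) (tt N56202 F366239) (tt N74434 F366240))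
theorem Q74775 : ∀ i, i < 74775 → P i := stepQ 74774 Q74774 (allL N74774 (tt N74434 (iv1 F229112)) (tt N56205 (iv0 F340908)) (tt N41630 (iv2 D145919)) (tt N74444 F229108) (tt N75135 (iv4 F230328)) (tt N60270 F343308) (tt N85823 (iv6 F374125)) (tt N50033 (iv7 F322606)))
theorem Q74776 : ∀ i, i < 74776 → P i := stepQ 74775 Q74775 (allL N74775 (tt N60271 (iv1 F355666)) (tt N60262 (iv0 F355667)) (tt N60270 F324136) (tt N41631 F229113) (tt N91252 (iv4 F392409)) (tt N41630 (iv5 D145920)) (tt N83807 F324137) (tt N49319 F324138))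
theorem Q74777 : ∀ i, i < 74777 → P i := stepQ 74776 Q74776 (allL N74776 (tt N61559 F355276) (tt N69524 F357124) (tt N85823 (iv2 F374122)) (tt N41632 F229115) (tt N75137 (iv4 F230332)) (tt N70012 (iv5 F355300)) (tt N41630 (iv6 D145921)) (tt N50036 F355301))
theorem Q74778 : ∀ i, i < 74778 → P i := stepQ 74777 Q74777 (allL N74777 (tt N86451 F376251) (tt N86711 (iv0 F376870)) (tt N74447 F229126) (tt N83807 (iv3 F366052)) (tt N74800 (iv4 F229202)) (tt N102913 (iv5 F439240)) (tt N41631 (iv6 D145924)) (tt N83804 F366051))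
theorem Q74779 : ∀ i, i < 74779 → P i := stepQ 74778 Q74778 (allL N74778 (tt N74451 (iv1 F229133)) (tt N41632 (iv0 D145925)) (tt N74448 F229138) (tt N47507 F335158) (tt N74441 (iv4 F233065)) (tt N69532 (iv5 F335159)) (tt N98095 (iv6 F419440)) (tt N74449 F229137))
theorem Q74780 : ∀ i, i < 74780 → P i := stepQ 74779 Q74779 (allL N74779 (tt N41632 (iv1 D145926)) (tt N74451 F229127) (tt N74449 F229136) (tt N97789 (iv3 F418312)) (tt N64004 (iv4 F229128)) (tt N75080 (iv5 F355405)) (tt N109010 D212238) (tt N74448 (iv7 F229139)))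
theorem Q74781 : ∀ i, i < 74781 → P i := stepQ 74780 Q74780 (allL N74780 (tt N66207 F355298) (tt N92634 F397708) (tt N74450 F229129) (tt N70012 F355299) (tt N61674 (iv4 F355275)) (tt N41632 (iv5 D145927)) (tt N102913 F439242) (tt N85963 (iv7 F374643)))
theorem Q74782 : ∀ i, i < 74782 → P i := stepQ 74781 Q74781 (allL N74781 (tt N74449 (iv1 F229134)) (tt N74448 F229140) (tt N74451 F229130) (tt N50036 (iv3 F355354)) (tt N41634 F229131) (tt N85963 (iv5 F374640)) (tt N50034 (iv6 F315229)) (tt N41632 (iv7 D145928)))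
theorem Q74783 : ∀ i, i < 74783 → P i := stepQ 74782 Q74782 (allL N74782 (tt N41644 F233097) (tt N45139 F355274) (tt N48242 F229141) (tt N98765 (iv3 F422215)) (tt N41633 (iv4 D145929)) (tt N69510 (iv5 F355261)) (tt N73407 (iv6 F355398)) (tt N61447 (iv7 F335148)))
theorem Q74784 : ∀ i, i < 74784 → P i := stepQ 74783 Q74783 (allL N74783 (tt N71997 F359062) (tt N71966 (iv0 F341538)) (tt N71995 F354833) (tt N41635 (iv3 D145931)) (tt N41637 F229152) (tt N69536 F341536) (tt N45108 F341537) (tt N62856 F229153))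
theorem Q74785 : ∀ i, i < 74785 → P i := stepQ 74784 Q74784 (allL N74784 (tt N63662 F229156) (tt N64425 F364027) (tt N62859 F229154) (tt N45108 F354946) (tt N41636 F229155) (tt N69540 (iv5 F357697)) (tt N41635 (iv6 D145932)) (tt N108785 (iv7 F463923)))
theorem Q74786 : ∀ i, i < 74786 → P i := stepQ 74785 Q74785 (allL N74785 (tt N80452 (iv1 F359382)) (tt N41636 (iv0 D145933)) (tt N74402 (iv2 F359377)) (tt N92218 (iv3 F396313)) (tt N74387 (iv4 F359381)) (tt N88619 F383611) (tt N100361 (iv6 F428595)) (tt N80450 F359380))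
theorem Q74787 : ∀ i, i < 74787 → P i := stepQ 74786 Q74786 (allL N74786 (tt N80450 (iv1 F338167)) (tt N74402 F338168) (tt N80452 F359383) (tt N41641 F229157) (tt N108785 (iv4 F463919)) (tt N103063 (iv5 F439917)) (tt N74440 F229158) (tt N41636 (iv7 D145935)))
theorem Q74788 : ∀ i, i < 74788 → P i := stepQ 74787 Q74787 (allL N74787 (tt N74444 (iv1 F229159)) (tt N41637 (iv0 D145936)) (tt N74443 (iv2 F229162)) (tt N108295 (iv3 F461938)) (tt N73852 F341542) (tt N108802 (iv5 F464017)) (tt N42992 F357320) (tt N73851 (iv7 F341547)))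
theorem Q74789 : ∀ i, i < 74789 → P i := stepQ 74788 Q74788 (allL N74788 (tt N41637 (iv1 D145937)) (tt N74444 F229165) (tt N73851 (iv2 F341546)) (tt N74677 (iv3 F229160)) (tt N73801 F341548) (tt N87626 (iv5 F379928)) (tt N109011 D212239) (tt N74443 F229161))
theorem Q74790 : ∀ i, i < 74790 → P i := stepQ 74789 Q74789 (allL N74789 (tt N74443 (iv1 F229169)) (tt N73851 (iv0 F341544)) (tt N41637 (iv2 D145938)) (tt N50033 (iv3 F322605)) (tt N71995 (iv4 F354832)) (tt N83810 (iv5 F355695)) (tt N50031 (iv6 F354835)) (tt N74444 F229167))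
theorem Q74791 : ∀ i, i < 74791 → P i := stepQ 74790 Q74790 (allL N74790 (tt N79073 F355697) (tt N98266 F420245) (tt N83810 F355731) (tt N41638 F229170) (tt N109012 D212240) (tt N41637 (iv5 D145939)) (tt N83808 (iv6 F355757)) (tt N74445 F229171))
theorem Q74792 : ∀ i, i < 74792 → P i := stepQ 74791 Q74791 (allL N74791 (tt N85813 F374073) (tt N42966 F335783) (tt N50031 F317463) (tt N41639 F229172) (tt N45108 F317464) (tt N85432 (iv5 F372613)) (tt N41637 (iv6 D145940)) (tt N85821 (iv7 F374116)))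
theorem Q74793 : ∀ i, i < 74793 → P i := stepQ 74792 Q74792 (allL N74792 (tt N50034 F317455) (tt N41639 (iv0 D145942)) (tt N50071 F317456) (tt N46055 F317457) (tt N74426 (iv4 F233197)) (tt N50024 F317458) (tt N46028 (iv6 F319013)) (tt N42393 F317459))
theorem Q74794 : ∀ i, i < 74794 → P i := stepQ 74793 Q74793 (allL N74793 (tt N42393 F316440) (tt N50071 F316441) (tt N50034 F316442) (tt N85821 (iv3 F374113)) (tt N41641 F229177) (tt N50223 F316443) (tt N74451 F229178) (tt N41639 (iv7 D145945)))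
theorem Q74795 : ∀ i, i < 74795 → P i := stepQ 74794 Q74794 (allL N74794 (tt N45128 F339794) (tt N41642 (iv0 D145949)) (tt N73867 (iv2 F340690)) (tt N86782 (iv3 F377167)) (tt N76127 (iv4 F339796)) (tt N76395 (iv5 F355700)) (tt N74926 F355701) (tt N55819 (iv7 F361631)))
theorem Q74796 : ∀ i, i < 74796 → P i := stepQ 74795 Q74795 (allL N74795 (tt N41642 (iv1 D145950)) (tt N45128 F361627) (tt N55819 (iv2 F361629)) (tt N100777 (iv3 F430421)) (tt N81704 (iv4 F348029)) (tt N76398 F361626) (tt N55802 F361628) (tt N73867 (iv7 F361630)))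
theorem Q74797 : ∀ i, i < 74797 → P i := stepQ 74796 Q74796 (allL N74796 (tt N88436 F383039) (tt N55794 F355827) (tt N61253 F355826) (tt N41643 F229193) (tt N108802 (iv4 F464018)) (tt N41642 (iv5 D145952)) (tt N109013 D212241) (tt N74484 F229194))
theorem Q74798 : ∀ i, i < 74798 → P i := stepQ 74797 Q74797 (allL N74797 (tt N98483 F421081) (tt N66661 F339432) (tt N62826 (iv2 F339433)) (tt N41644 F229195) (tt N62798 (iv4 F324748)) (tt N61713 F338626) (tt N41642 (iv6 D145953)) (tt N62828 (iv7 F339787)))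
theorem Q74799 : ∀ i, i < 74799 → P i := stepQ 74798 Q74798 (allL N74798 (tt N104922 F447956) (tt N87550 (iv0 F379735)) (tt N74486 F229196) (tt N109013 (iv3 F464924)) (tt N51428 (iv4 F326237)) (tt N61715 F338627) (tt N41643 (iv6 D145954)) (tt N109014 D212242))
theorem Q74800 : ∀ i, i < 74800 → P i := stepQ 74799 Q74799 (allL N74799 (tt N48242 (iv1 F232609)) (tt N61447 (iv0 F335143)) (tt N45139 F338545) (tt N62828 F339791) (tt N79070 (iv4 F252137)) (tt N61709 (iv5 F335155)) (tt N45136 F338546) (tt N41644 (iv7 D145958)))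
theorem Q74801 : ∀ i, i < 74801 → P i := stepQ 74800 Q74800 (allL N74800 (tt N86758 (iv1 F383005)) (tt N105911 (iv0 F452310)) (tt N74485 F229201) (tt N51349 F366176) (tt N74777 F229202) (tt N88427 (iv5 F383003)) (tt N41646 (iv6 D145964)) (tt N109015 D212243))
theorem Q74802 : ∀ i, i < 74802 → P i := stepQ 74801 Q74801 (allL N74801 (tt N88426 (iv1 F382997)) (tt N90079 F388513) (tt N61410 F339760) (tt N45033 F319717) (tt N54725 F319718) (tt N41647 (iv5 D145967)) (tt N88427 F383001) (tt N45138 F319719))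
theorem Q74803 : ∀ i, i < 74803 → P i := stepQ 74802 Q74802 (allL N74802 (tt N73643 (iv1 F229207)) (tt N73631 (iv0 F229208)) (tt N62656 F229203) (tt N41648 (iv3 D145969)) (tt N62655 F229204) (tt N62716 F229205) (tt N104981 (iv6 F448252)) (tt N74166 F229206))
theorem Q74804 : ∀ i, i < 74804 → P i := stepQ 74803 Q74803 (allL N74803 (tt N61404 (iv1 F339565)) (tt N41650 (iv0 D145985)) (tt N61437 (iv2 F338663)) (tt N86003 (iv3 F374845)) (tt N102531 (iv4 F437536)) (tt N61428 F338664) (tt N60869 F338665) (tt N61436 F338666))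
theorem Q74805 : ∀ i, i < 74805 → P i := stepQ 74804 Q74804 (allL N74804 (tt N41650 (iv1 D145986)) (tt N61404 F338632) (tt N61436 F338662) (tt N55824 (iv3 F338636)) (tt N60896 F338631) (tt N70713 (iv5 F338630)) (tt N68171 F338635) (tt N61437 (iv7 F338659)))
theorem Q74806 : ∀ i, i < 74806 → P i := stepQ 74805 Q74805 (allL N74805 (tt N101273 (iv1 F432484)) (tt N41651 (iv0 D145994)) (tt N101272 F432477) (tt N41670 F353433) (tt N99785 (iv4 F426205)) (tt N97942 (iv5 F418898)) (tt N92571 (iv6 F397423)) (tt N74413 F353434))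
theorem Q74807 : ∀ i, i < 74807 → P i := stepQ 74806 Q74806 (allL N74806 (tt N84223 (iv1 F368577)) (tt N83851 (iv0 F346800)) (tt N84231 F369013) (tt N41652 F229225) (tt N83090 F346801) (tt N41651 (iv5 D145998)) (tt N88659 (iv6 F383764)) (tt N84230 F368613))
theorem Q74808 : ∀ i, i < 74808 → P i := stepQ 74807 Q74807 (allL N74807 (tt N70030 F338693) (tt N70015 (iv0 F338639)) (tt N85807 (iv2 F374039)) (tt N109016 D212244) (tt N41652 (iv4 D146007)) (tt N70837 F338691) (tt N50069 (iv6 F338692)) (tt N63465 (iv7 F339564)))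
theorem Q74809 : ∀ i, i < 74809 → P i := stepQ 74808 Q74808 (allL N74808 (tt N55370 (iv1 F321339)) (tt N62867 (iv0 F229235)) (tt N62866 F319320) (tt N61545 (iv3 F336785)) (tt N41653 (iv4 D146013)) (tt N48698 F319321) (tt N109017 D212245) (tt N48697 F319322))
theorem Q74810 : ∀ i, i < 74810 → P i := stepQ 74809 Q74809 (allL N74809 (tt N91538 (iv1 F393550)) (tt N47710 F393546) (tt N91537 F393544) (tt N41655 F229236) (tt N109017 (iv4 F464946)) (tt N99437 (iv5 F424576)) (tt N41653 (iv6 D146014)) (tt N80451 F333629))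
theorem Q74811 : ∀ i, i < 74811 → P i := stepQ 74810 Q74810 (allL N74810 (tt N61408 F333620) (tt N41655 (iv0 D146018)) (tt N61449 F313875) (tt N41674 F251070) (tt N61331 F313876) (tt N74736 (iv5 F317359)) (tt N62395 F333619) (tt N61445 (iv7 F315698)))
theorem Q74812 : ∀ i, i < 74812 → P i := stepQ 74811 Q74811 (allL N74811 (tt N77804 (iv1 F245008)) (tt N77803 F245007) (tt N58488 F229238) (tt N41656 (iv3 D146020)) (tt N74431 F229239) (tt N58487 F229240) (tt N109018 D212246) (tt N41962 F229241))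
theorem Q74813 : ∀ i, i < 74813 → P i := stepQ 74812 Q74812 (allL N74812 (tt N54980 (iv1 F340412)) (tt N41710 F229594) (tt N42003 F229242) (tt N109018 (iv3 F464951)) (tt N41966 F229243) (tt N52346 (iv5 F340407)) (tt N41656 (iv6 D146021)) (tt N52618 (iv7 F340409)))
theorem Q74814 : ∀ i, i < 74814 → P i := stepQ 74813 Q74813 (allL N74813 (tt N83778 F376764) (tt N96738 (iv0 F413698)) (tt N88190 (iv2 F382097)) (tt N45967 F334280) (tt N45812 F334281) (tt N52067 (iv5 F364484)) (tt N41657 (iv6 D146022)) (tt N68015 F363509))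
theorem Q74815 : ∀ i, i < 74815 → P i := stepQ 74814 Q74814 (allL N74814 (tt N51755 (iv1 F363587)) (tt N51758 (iv0 F363586)) (tt N52009 F366091) (tt N107597 (iv3 F458882)) (tt N109019 D212247) (tt N41658 (iv5 D146024)) (tt N52067 F364483) (tt N52008 F366090))
theorem Q74816 : ∀ i, i < 74816 → P i := stepQ 74815 Q74815 (allL N74815 (tt N74440 (iv1 F259442)) (tt N74437 (iv0 F259428)) (tt N74438 (iv2 F259432)) (tt N41659 (iv3 D146026)) (tt N80013 F259427) (tt N82557 F348720) (tt N47710 F307165) (tt N74439 (iv7 F259438)))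
theorem Q74817 : ∀ i, i < 74817 → P i := stepQ 74816 Q74816 (allL N74816 (tt N101314 (iv1 F432621)) (tt N92540 (iv0 F397306)) (tt N109009 (iv2 F464895)) (tt N41665 (iv3 D146036)) (tt N62865 F229274) (tt N78126 F360613) (tt N74419 (iv6 F360611)) (tt N62850 F229275))
theorem Q74818 : ∀ i, i < 74818 → P i := stepQ 74817 Q74817 (allL N74817 (tt N74421 F340874) (tt N74425 F340876) (tt N74424 F341981) (tt N41666 (iv3 D146048)) (tt N63648 F357745) (tt N87698 (iv5 F380173)) (tt N54962 F337022) (tt N74423 (iv7 F230224)))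
theorem Q74819 : ∀ i, i < 74819 → P i := stepQ 74818 Q74818 (allL N74818 (tt N41679 F229335) (tt N74956 F229872) (tt N54965 (iv2 F332534)) (tt N97942 (iv3 F418896)) (tt N61501 (iv4 F332531)) (tt N41670 (iv5 D146097)) (tt N102952 (iv6 F439412)) (tt N45194 (iv7 F243247)))
theorem Q74820 : ∀ i, i < 74820 → P i := stepQ 74819 Q74819 (allL N74819 (tt N99743 (iv1 F426011)) (tt N76123 (iv0 F243217)) (tt N41673 F229337) (tt N54970 F317777) (tt N75552 F231814) (tt N41671 (iv5 D146100)) (tt N75551 (iv6 F231815)) (tt N54964 F317778))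
theorem Q74821 : ∀ i, i < 74821 → P i := stepQ 74820 Q74820 (allL N74820 (tt N41673 (iv1 D146107)) (tt N54964 F317776) (tt N76123 F243256) (tt N84223 (iv3 F368578)) (tt N98497 (iv4 F421132)) (tt N56077 F243257) (tt N75968 (iv6 F243255)) (tt N99743 (iv7 F426012)))
theorem Q74822 : ∀ i, i < 74822 → P i := stepQ 74821 Q74821 (allL N74821 (tt N63060 F229344) (tt N105024 (iv0 F448438)) (tt N75552 (iv2 F231813)) (tt N47933 F317779) (tt N41673 (iv4 D146108)) (tt N74961 F231751) (tt N75531 F231749) (tt N99744 (iv7 F426018)))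
theorem Q74823 : ∀ i, i < 74823 → P i := stepQ 74822 Q74822 (allL N74822 (tt N42334 F229385) (tt N42329 F229386) (tt N74255 (iv2 F322404)) (tt N98462 F420980) (tt N41675 (iv4 D146125)) (tt N47938 F313773) (tt N47814 F313774) (tt N47815 F313775))
theorem Q74824 : ∀ i, i < 74824 → P i := stepQ 74823 Q74823 (allL N74823 (tt N45194 (iv1 F243202)) (tt N54965 F332538) (tt N41679 (iv2 D146135)) (tt N75219 (iv3 F243150)) (tt N74889 (iv4 F229733)) (tt N92560 (iv5 F397379)) (tt N91534 F393528) (tt N74956 (iv7 F229871)))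
theorem Q74825 : ∀ i, i < 74825 → P i := stepQ 74824 Q74824 (allL N74824 (tt N60101 F332157) (tt N59997 F358631) (tt N95841 F409893) (tt N41681 (iv3 D146140)) (tt N99786 (iv4 F426210)) (tt N64235 F318786) (tt N43766 F358629) (tt N80106 F318787))
theorem Q74826 : ∀ i, i < 74826 → P i := stepQ 74825 Q74825 (allL N74825 (tt N42650 F310159) (tt N61412 F310160) (tt N80111 (iv2 F319967)) (tt N43766 F310162) (tt N41836 F229392) (tt N45576 (iv5 F310242)) (tt N41681 (iv6 D146142)) (tt N45575 F310163))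
theorem Q74827 : ∀ i, i < 74827 → P i := stepQ 74826 Q74826 (allL N74826 (tt N46267 F346924) (tt N46271 F346925) (tt N100339 (iv2 F428480)) (tt N41682 (iv3 D146143)) (tt N87191 (iv4 F378650)) (tt N64234 F318783) (tt N91313 F392681) (tt N80110 F318784))
theorem Q74828 : ∀ i, i < 74828 → P i := stepQ 74827 Q74827 (allL N74827 (tt N41683 (iv1 D146147)) (tt N76543 F348633) (tt N81997 F348634) (tt N46795 F348635) (tt N43231 F348636) (tt N65148 F348637) (tt N44027 F348638) (tt N43229 F348639))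
theorem Q74829 : ∀ i, i < 74829 → P i := stepQ 74828 Q74828 (allL N74828 (tt N43229 F336455) (tt N81997 (iv0 F352062)) (tt N41683 (iv2 D146148)) (tt N47977 F323415) (tt N61441 F323416) (tt N46257 F321799) (tt N41694 F229395) (tt N76543 F323417))
theorem Q74830 : ∀ i, i < 74830 → P i := stepQ 74829 Q74829 (allL N74829 (tt N47707 F317066) (tt N92218 F396317) (tt N79919 (iv2 F337879)) (tt N41689 F229407) (tt N74949 (iv4 F229863)) (tt N57480 F229408) (tt N42833 F229409) (tt N41685 (iv7 D146156)))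
theorem Q74831 : ∀ i, i < 74831 → P i := stepQ 74830 Q74830 (allL N74830 (tt N45198 (iv1 F229410)) (tt N41686 (iv0 D146157)) (tt N45197 F334747) (tt N96971 (iv3 F414858)) (tt N98294 (iv4 F420369)) (tt N96970 (iv5 F414853)) (tt N47925 F334749) (tt N45196 F334748))
theorem Q74832 : ∀ i, i < 74832 → P i := stepQ 74831 Q74831 (allL N74831 (tt N45197 (iv1 F229416)) (tt N45196 F229414) (tt N41686 (iv2 D146159)) (tt N74745 F229411) (tt N74945 (iv4 F229857)) (tt N42447 F229412) (tt N79917 (iv6 F353817)) (tt N45198 F229413))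
theorem Q74833 : ∀ i, i < 74833 → P i := stepQ 74832 Q74832 (allL N74832 (tt N41687 (iv1 D146162)) (tt N48514 F229424) (tt N74747 (iv2 F229428)) (tt N92603 (iv3 F397593)) (tt N42418 F229426) (tt N42329 F229427) (tt N79255 (iv6 F338175)) (tt N67927 (iv7 F317159)))
theorem Q74834 : ∀ i, i < 74834 → P i := stepQ 74833 Q74833 (allL N74833 (tt N44601 (iv1 F229429)) (tt N41690 (iv0 D146163)) (tt N44600 F347919) (tt N108286 F461886) (tt N84269 (iv4 F368750)) (tt N99634 (iv5 F425514)) (tt N46267 F347918) (tt N44599 F347920))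
theorem Q74835 : ∀ i, i < 74835 → P i := stepQ 74834 Q74834 (allL N74834 (tt N41690 (iv1 D146164)) (tt N44601 F229433) (tt N44599 F357687) (tt N78336 (iv3 F357686)) (tt N109020 D212248) (tt N78333 F357688) (tt N58888 (iv6 F347825)) (tt N44600 F357689))
theorem Q74836 : ∀ i, i < 74836 → P i := stepQ 74835 Q74835 (allL N74835 (tt N44600 (iv1 F229434)) (tt N44599 F229432) (tt N41690 (iv2 D146165)) (tt N75754 (iv3 F233672)) (tt N95461 (iv4 F408267)) (tt N42414 F229430) (tt N109021 D212249) (tt N44601 F229431))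
theorem Q74837 : ∀ i, i < 74837 → P i := stepQ 74836 Q74836 (allL N74836 (tt N96982 (iv1 F414918)) (tt N43836 F347826) (tt N109021 (iv2 F464967)) (tt N41691 F229435) (tt N52416 F347828) (tt N65351 F229436) (tt N41690 (iv6 D146166)) (tt N48126 F229437))
theorem Q74838 : ∀ i, i < 74838 → P i := stepQ 74837 Q74837 (allL N74837 (tt N78336 F354105) (tt N99558 (iv0 F425152)) (tt N109022 D212250) (tt N41692 (iv3 D146167)) (tt N103175 (iv4 F440420)) (tt N66997 (iv5 F354088)) (tt N42014 F354103) (tt N108443 (iv7 F462594)))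
theorem Q74839 : ∀ i, i < 74839 → P i := stepQ 74838 Q74838 (allL N74838 (tt N109023 D212251) (tt N75756 (iv0 F361643)) (tt N79442 (iv2 F355109)) (tt N41693 (iv3 D146170)) (tt N94180 (iv4 F403577)) (tt N73698 F229440) (tt N79435 F355107) (tt N105685 (iv7 F451243)))
theorem Q74840 : ∀ i, i < 74840 → P i := stepQ 74839 Q74839 (allL N74839 (tt N109024 D212252) (tt N109025 D212253) (tt N109026 D212254) (tt N41697 (iv3 D146178)) (tt N97804 (iv4 F418365)) (tt N75039 (iv5 F335969)) (tt N109027 D212255) (tt N97900 (iv7 F418718)))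
theorem Q74841 : ∀ i, i < 74841 → P i := stepQ 74840 Q74840 (allL N74840 (tt N103876 F443179) (tt N109028 D212256) (tt N75038 (iv2 F335966)) (tt N109027 (iv3 F464991)) (tt N41698 F229454) (tt N109029 D212257) (tt N41697 (iv6 D146179)) (tt N109030 D212258))
theorem Q74842 : ∀ i, i < 74842 → P i := stepQ 74841 Q74841 (allL N74841 (tt N97899 (iv1 F418716)) (tt N41698 (iv0 D146180)) (tt N94773 (iv2 F405867)) (tt N92158 (iv3 F405876)) (tt N109031 D212259) (tt N94763 (iv5 F405842)) (tt N94022 F402850) (tt N97898 (iv7 F418705)))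
theorem Q74843 : ∀ i, i < 74843 → P i := stepQ 74842 Q74842 (allL N74842 (tt N41698 (iv1 D146181)) (tt N97899 F418715) (tt N97898 (iv2 F418707)) (tt N49239 F370733) (tt N109032 D212260) (tt N84819 F370734) (tt N49237 F370735) (tt N94773 (iv7 F405869)))
theorem Q74844 : ∀ i, i < 74844 → P i := stepQ 74843 Q74843 (allL N74843 (tt N97898 (iv1 F418704)) (tt N94773 (iv0 F405871)) (tt N97899 (iv2 F418710)) (tt N70833 F362728) (tt N109030 (iv4 F465002)) (tt N42947 F229455) (tt N70831 (iv6 F362727)) (tt N41698 (iv7 D146182)))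
theorem Q74845 : ∀ i, i < 74845 → P i := stepQ 74844 Q74844 (allL N74844 (tt N41699 (iv1 D146189)) (tt N42153 (iv0 F229475)) (tt N42059 (iv2 F229472)) (tt N42169 F229474) (tt N52025 (iv4 F317850)) (tt N76911 (iv5 F240750)) (tt N75490 (iv6 F231637)) (tt N42154 F229471))
theorem Q74846 : ∀ i, i < 74846 → P i := stepQ 74845 Q74845 (allL N74845 (tt N42059 (iv1 F229483)) (tt N42154 F229484) (tt N42153 F229480) (tt N41700 F229481) (tt N86998 (iv4 F377997)) (tt N43411 F229482) (tt N44409 (iv6 F312337)) (tt N41699 (iv7 D146190)))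
theorem Q74847 : ∀ i, i < 74847 → P i := stepQ 74846 Q74846 (allL N74846 (tt N52577 (iv1 F311480)) (tt N41714 F243380) (tt N75978 F243381) (tt N75635 (iv3 F313173)) (tt N72250 (iv4 F334941)) (tt N41707 (iv5 D146229)) (tt N75966 (iv6 F252902)) (tt N45314 F243384))
theorem Q74848 : ∀ i, i < 74848 → P i := stepQ 74847 Q74847 (allL N74847 (tt N107596 (iv1 F458880)) (tt N91455 (iv0 F393206)) (tt N87424 (iv2 F379300)) (tt N41710 (iv3 D146271)) (tt N41712 F229595) (tt N88209 (iv5 F382189)) (tt N52546 (iv6 F319354)) (tt N73403 F229596))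
theorem Q74849 : ∀ i, i < 74849 → P i := stepQ 74848 Q74848 (allL N74848 (tt N88228 (iv1 F382274)) (tt N73772 (iv0 F335126)) (tt N102964 (iv2 F439468)) (tt N62824 F348981) (tt N41711 (iv4 D146275)) (tt N97877 (iv5 F418630)) (tt N42615 F229598) (tt N62384 (iv7 F361086)))
theorem Q74850 : ∀ i, i < 74850 → P i := stepQ 74849 Q74849 (allL N74849 (tt N61351 F317835) (tt N82332 (iv0 F339770)) (tt N63810 F317836) (tt N41713 F229605) (tt N61348 F317837) (tt N41712 (iv5 D146279)) (tt N69667 F339769) (tt N63807 (iv7 F320021)))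
theorem Q74851 : ∀ i, i < 74851 → P i := stepQ 74850 Q74850 (allL N74850 (tt N75978 (iv1 F235081)) (tt N45314 F229614) (tt N41714 (iv2 D146286)) (tt N52586 (iv3 F308837)) (tt N72380 F334910) (tt N52578 (iv5 F334908)) (tt N44000 F334909) (tt N52577 (iv7 F311482)))
theorem Q74852 : ∀ i, i < 74852 → P i := stepQ 74851 Q74851 (allL N74851 (tt N72185 F330639) (tt N72189 (iv0 F330629)) (tt N72380 F349355) (tt N59309 (iv3 F356569)) (tt N41714 (iv4 D146287)) (tt N42978 F356807) (tt N75671 F340089) (tt N99755 (iv7 F426077)))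
theorem Q74853 : ∀ i, i < 74853 → P i := stepQ 74852 Q74852 (allL N74852 (tt N72355 (iv1 F314674)) (tt N41716 (iv0 D146313)) (tt N74765 (iv2 F334973)) (tt N41946 F334436) (tt N74465 F334437) (tt N98408 (iv5 F420841)) (tt N81309 F355316) (tt N42184 F334438))
theorem Q74854 : ∀ i, i < 74854 → P i := stepQ 74853 Q74853 (allL N74853 (tt N72354 (iv1 F334986)) (tt N72353 F363428) (tt N43523 F229645) (tt N41727 F229646) (tt N94360 (iv4 F404127)) (tt N41716 (iv5 D146315)) (tt N41717 F229647) (tt N72349 F334985))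
theorem Q74855 : ∀ i, i < 74855 → P i := stepQ 74854 Q74854 (allL N74854 (tt N42184 (iv1 F334976)) (tt N74765 F229653) (tt N72355 (iv2 F314675)) (tt N41728 F229649) (tt N98276 (iv4 F420289)) (tt N72349 (iv5 F334983)) (tt N42168 F232260) (tt N41716 (iv7 D146316)))
theorem Q74856 : ∀ i, i < 74856 → P i := stepQ 74855 Q74855 (allL N74855 (tt N45078 F229654) (tt N62803 F229655) (tt N74902 F229782) (tt N97785 (iv3 F418296)) (tt N41718 (iv4 D146317)) (tt N102957 (iv5 F439435)) (tt N70590 (iv6 F335896)) (tt N74901 F229778))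
theorem Q74857 : ∀ i, i < 74857 → P i := stepQ 74856 Q74856 (allL N74856 (tt N62801 F229656) (tt N41750 F335942) (tt N60970 (iv2 F335962)) (tt N86129 (iv3 F375186)) (tt N41719 (iv4 D146319)) (tt N86115 (iv5 F375159)) (tt N105845 (iv6 F452001)) (tt N74894 (iv7 F229754)))
theorem Q74858 : ∀ i, i < 74858 → P i := stepQ 74857 Q74857 (allL N74857 (tt N54745 F367269) (tt N61727 (iv0 F363718)) (tt N79062 (iv2 F252084)) (tt N94130 (iv3 F403350)) (tt N105845 (iv4 F451999)) (tt N94127 (iv5 F403340)) (tt N41719 (iv6 D146320)) (tt N105796 (iv7 F451757)))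
theorem Q74859 : ∀ i, i < 74859 → P i := stepQ 74858 Q74858 (allL N74858 (tt N41750 F335943) (tt N62801 F229659) (tt N74894 F229756) (tt N55762 (iv3 F335957)) (tt N41720 (iv4 D146321)) (tt N86113 (iv5 F375147)) (tt N91794 (iv6 F394458)) (tt N60970 (iv7 F335964)))
theorem Q74860 : ∀ i, i < 74860 → P i := stepQ 74859 Q74859 (allL N74859 (tt N41733 (iv1 F229662)) (tt N41721 (iv0 D146323)) (tt N55741 (iv2 F229661)) (tt N109033 D212261) (tt N41748 F229660) (tt N42213 (iv5 F229664)) (tt N70760 (iv6 F359587)) (tt N60908 F229663))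
theorem Q74861 : ∀ i, i < 74861 → P i := stepQ 74860 Q74860 (allL N74860 (tt N41791 F229666) (tt N41762 F229667) (tt N92592 (iv2 F397535)) (tt N43281 F335900) (tt N41736 F229665) (tt N41721 (iv5 D146325)) (tt N41722 F335901) (tt N99794 (iv7 F426245)))
theorem Q74862 : ∀ i, i < 74862 → P i := stepQ 74861 Q74861 (allL N74861 (tt N50821 (iv1 F329484)) (tt N50984 (iv0 F329797)) (tt N50985 F349242) (tt N109034 D212262) (tt N41722 (iv4 D146331)) (tt N51489 (iv5 F335905)) (tt N41736 F335902) (tt N42975 F229671))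
theorem Q74863 : ∀ i, i < 74863 → P i := stepQ 74862 Q74862 (allL N74862 (tt N61311 (iv1 F322802)) (tt N62816 F229674) (tt N74924 F229819) (tt N86054 (iv3 F375018)) (tt N86115 (iv4 F375158)) (tt N41723 (iv5 D146332)) (tt N109035 D212263) (tt N55799 (iv7 F314511)))
theorem Q74864 : ∀ i, i < 74864 → P i := stepQ 74863 Q74863 (allL N74863 (tt N41724 (iv1 D146339)) (tt N41736 F229677) (tt N92570 (iv2 F397417)) (tt N91451 F393184) (tt N102954 (iv4 F439419)) (tt N41769 F229678) (tt N109036 D212264) (tt N99795 (iv7 F426249)))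
theorem Q74865 : ∀ i, i < 74865 → P i := stepQ 74864 Q74864 (allL N74864 (tt N41762 F229680) (tt N41791 F229681) (tt N99794 (iv2 F426241)) (tt N107761 (iv3 F459609)) (tt N41724 (iv4 D146340)) (tt N41733 F229679) (tt N100165 (iv6 F427788)) (tt N92592 F397540))
theorem Q74866 : ∀ i, i < 74866 → P i := stepQ 74865 Q74865 (allL N74865 (tt N98526 F421207) (tt N76181 (iv0 F366684)) (tt N99796 (iv2 F426255)) (tt N60919 F366498) (tt N100165 (iv4 F427786)) (tt N98566 (iv5 F421348)) (tt N41724 (iv6 D146341)) (tt N100164 (iv7 F427783)))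
theorem Q74867 : ∀ i, i < 74867 → P i := stepQ 74866 Q74866 (allL N74866 (tt N98406 (iv1 F420834)) (tt N41725 (iv0 D146342)) (tt N99797 F426263) (tt N98474 (iv3 F421041)) (tt N72776 F341044) (tt N55731 (iv5 F355711)) (tt N98473 F421037) (tt N72775 F355712))
theorem Q74868 : ∀ i, i < 74868 → P i := stepQ 74867 Q74867 (allL N74867 (tt N41725 (iv1 D146343)) (tt N98406 (iv0 F420833)) (tt N72775 F339441) (tt N84489 F369520) (tt N62308 F339442) (tt N55732 (iv5 F339446)) (tt N78934 (iv6 F339440)) (tt N99797 (iv7 F426265)))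
theorem Q74869 : ∀ i, i < 74869 → P i := stepQ 74868 Q74868 (allL N74868 (tt N72775 (iv1 F334967)) (tt N99797 F426264) (tt N98406 (iv2 F420828)) (tt N60958 F356669) (tt N41728 F229682) (tt N92226 F396362) (tt N42285 F232266) (tt N41725 (iv7 D146345)))
theorem Q74870 : ∀ i, i < 74870 → P i := stepQ 74869 Q74869 (allL N74869 (tt N72282 (iv1 F334433)) (tt N42208 F339600) (tt N42322 F327713) (tt N83839 (iv3 F357771)) (tt N41726 (iv4 D146348)) (tt N109037 D212265) (tt N109038 D212266) (tt N99798 (iv7 F426270)))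
theorem Q74871 : ∀ i, i < 74871 → P i := stepQ 74870 Q74870 (allL N74870 (tt N42226 F333263) (tt N81308 F357750) (tt N42324 F327715) (tt N99760 (iv3 F426100)) (tt N109038 (iv4 F465040)) (tt N68294 (iv5 F328207)) (tt N41726 (iv6 D146350)) (tt N76492 F327716))
theorem Q74872 : ∀ i, i < 74872 → P i := stepQ 74871 Q74871 (allL N74871 (tt N48071 (iv1 F233224)) (tt N41727 (iv0 D146356)) (tt N42335 (iv2 F233153)) (tt N42954 F233154) (tt N72254 F334430) (tt N92213 F396292) (tt N73193 (iv6 F334432)) (tt N72328 (iv7 F361407)))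
theorem Q74873 : ∀ i, i < 74873 → P i := stepQ 74872 Q74872 (allL N74872 (tt N100122 (iv1 F427564)) (tt N99550 F425103) (tt N99799 (iv2 F426273)) (tt N107207 F457457) (tt N41727 (iv4 D146358)) (tt N109039 D212267) (tt N41729 F229685) (tt N101800 (iv7 F434398)))
theorem Q74874 : ∀ i, i < 74874 → P i := stepQ 74873 Q74873 (allL N74873 (tt N78173 F365253) (tt N53912 F365254) (tt N109040 D212268) (tt N41729 (iv3 D146360)) (tt N89518 (iv4 F386702)) (tt N109041 D212269) (tt N107207 (iv6 F457458)) (tt N42983 F229688))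
theorem Q74875 : ∀ i, i < 74875 → P i := stepQ 74874 Q74874 (allL N74874 (tt N72822 (iv1 F323746)) (tt N72825 F361590) (tt N85912 F374436) (tt N109041 (iv3 F465058)) (tt N86114 (iv4 F375151)) (tt N41729 (iv5 D146361)) (tt N109042 D212270) (tt N42984 F229689))
theorem Q74876 : ∀ i, i < 74876 → P i := stepQ 74875 Q74875 (allL N74875 (tt N55720 F229692) (tt N55723 F229693) (tt N92564 (iv2 F397397)) (tt N72011 F229690) (tt N41730 (iv4 D146362)) (tt N101805 (iv5 F434418)) (tt N109043 D212271) (tt N72030 F229691))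
theorem Q74877 : ∀ i, i < 74877 → P i := stepQ 74876 Q74876 (allL N74876 (tt N75668 F360953) (tt N105787 (iv0 F451717)) (tt N92565 (iv2 F397401)) (tt N84930 (iv3 F371115)) (tt N109043 (iv4 F465071)) (tt N42986 F229694) (tt N41730 (iv6 D146363)) (tt N109044 D212272))
theorem Q74878 : ∀ i, i < 74878 → P i := stepQ 74877 Q74877 (allL N74877 (tt N63461 (iv1 F349962)) (tt N63413 (iv0 F349958)) (tt N61300 (iv2 F349961)) (tt N41731 (iv3 D146364)) (tt N41735 F229695) (tt N101803 (iv5 F434409)) (tt N98405 (iv6 F420825)) (tt N61382 F349963))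
theorem Q74879 : ∀ i, i < 74879 → P i := stepQ 74878 Q74878 (allL N74878 (tt N92575 (iv1 F397443)) (tt N92576 (iv0 F397449)) (tt N56135 F342596) (tt N98405 (iv3 F420822)) (tt N41732 F229698) (tt N56113 F337031) (tt N41731 (iv6 D146366)) (tt N56141 F355220))
theorem Q74880 : ∀ i, i < 74880 → P i := stepQ 74879 Q74879 (allL N74879 (tt N54749 F364114) (tt N92788 (iv0 F398233)) (tt N97859 (iv2 F418544)) (tt N41733 (iv3 D146370)) (tt N78610 F364113) (tt N107761 (iv5 F459610)) (tt N78608 (iv6 F364112)) (tt N85002 (iv7 F371335)))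
theorem Q74881 : ∀ i, i < 74881 → P i := stepQ 74880 Q74880 (allL N74880 (tt N60952 F339458) (tt N98728 (iv0 F422043)) (tt N70835 F349036) (tt N78608 F337565) (tt N41734 F229702) (tt N42993 F337569) (tt N41733 (iv6 D146371)) (tt N41734 F337570))
theorem Q74882 : ∀ i, i < 74882 → P i := stepQ 74881 Q74881 (allL N74881 (tt N70835 (iv1 F349035)) (tt N41734 (iv0 D146372)) (tt N98728 (iv2 F422040)) (tt N92732 F398015) (tt N55758 (iv4 F349019)) (tt N109045 D212273) (tt N61724 F349018) (tt N60952 (iv7 F349022)))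
theorem Q74883 : ∀ i, i < 74883 → P i := stepQ 74882 Q74882 (allL N74882 (tt N98426 (iv1 F420893)) (tt N105057 (iv0 F448597)) (tt N61301 F366489) (tt N41736 F229705) (tt N109046 D212274) (tt N41735 (iv5 D146378)) (tt N109034 (iv6 F465024)) (tt N61383 F366603))
theorem Q74884 : ∀ i, i < 74884 → P i := stepQ 74883 Q74883 (allL N74883 (tt N63812 F339776) (tt N104242 (iv0 F444890)) (tt N61302 F339775) (tt N41737 F229706) (tt N98405 (iv4 F420823)) (tt N51488 (iv5 F339774)) (tt N41735 (iv6 D146379)) (tt N88521 (iv7 F383382)))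
theorem Q74885 : ∀ i, i < 74885 → P i := stepQ 74884 Q74884 (allL N74884 (tt N105788 F451722) (tt N105793 F451745) (tt N105791 (iv2 F451736)) (tt N41739 (iv3 D146394)) (tt N91077 F391839) (tt N99816 (iv5 F426362)) (tt N79078 F355293) (tt N99800 (iv7 F426282)))
theorem Q74886 : ∀ i, i < 74886 → P i := stepQ 74885 Q74885 (allL N74885 (tt N99495 F424852) (tt N41741 (iv0 D146399)) (tt N99801 F426287) (tt N98113 (iv3 F419505)) (tt N69767 F343207) (tt N76510 (iv5 F351274)) (tt N69766 (iv6 F343211)) (tt N98108 (iv7 F419482)))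
theorem Q74887 : ∀ i, i < 74887 → P i := stepQ 74886 Q74886 (allL N74886 (tt N41741 (iv1 D146400)) (tt N99495 F424853) (tt N98108 (iv2 F424854)) (tt N100325 (iv3 F428432)) (tt N100760 (iv4 F430338)) (tt N100324 (iv5 F428429)) (tt N92809 F424855) (tt N99801 (iv7 F426286)))
theorem Q74888 : ∀ i, i < 74888 → P i := stepQ 74887 Q74887 (allL N74887 (tt N109047 D212275) (tt N108812 (iv0 F464075)) (tt N85544 (iv2 F373014)) (tt N41742 F229723) (tt N85566 (iv4 F373083)) (tt N41741 (iv5 D146401)) (tt N85543 F373013) (tt N99802 (iv7 F426289)))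
theorem Q74889 : ∀ i, i < 74889 → P i := stepQ 74888 Q74888 (allL N74888 (tt N109048 D212276) (tt N109049 D212277) (tt N41792 F229725) (tt N85543 (iv3 F373006)) (tt N74955 (iv4 F356642)) (tt N86310 (iv5 F375787)) (tt N41742 (iv6 D146403)) (tt N74952 (iv7 F356764)))
theorem Q74890 : ∀ i, i < 74890 → P i := stepQ 74889 Q74889 (allL N74889 (tt N41743 (iv1 D146405)) (tt N41796 F229730) (tt N41794 (iv2 F229732)) (tt N43239 F338206) (tt N74823 F229733) (tt N100235 (iv5 F428099)) (tt N92588 (iv6 F397514)) (tt N41793 F229731))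
theorem Q74891 : ∀ i, i < 74891 → P i := stepQ 74890 Q74890 (allL N74890 (tt N109050 D212278) (tt N76436 (iv0 F355812)) (tt N41795 F229734) (tt N100161 (iv3 F427768)) (tt N86321 (iv4 F375822)) (tt N41743 (iv5 D146406)) (tt N86310 (iv6 F375788)) (tt N109051 D212279))
theorem Q74892 : ∀ i, i < 74892 → P i := stepQ 74891 Q74891 (allL N74891 (tt N41794 (iv1 F229737)) (tt N41793 F229738) (tt N41796 F229735) (tt N42969 F340888) (tt N41746 F229736) (tt N109051 (iv5 F465110)) (tt N98721 F422015) (tt N41743 (iv7 D146407)))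
theorem Q74893 : ∀ i, i < 74893 → P i := stepQ 74892 Q74892 (allL N74892 (tt N99871 F426630) (tt N63064 (iv0 F233181)) (tt N41800 F247770) (tt N61429 F338646) (tt N62786 (iv4 F332527)) (tt N41745 (iv5 D146415)) (tt N56062 (iv6 F317209)) (tt N41797 F247771))
theorem Q74894 : ∀ i, i < 74894 → P i := stepQ 74893 Q74893 (allL N74893 (tt N109052 D212280) (tt N98744 (iv0 F422121)) (tt N55742 F229746) (tt N60924 F229747) (tt N70760 F359588) (tt N68433 F229748) (tt N41748 (iv6 D146418)) (tt N91799 (iv7 F394473)))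
theorem Q74895 : ∀ i, i < 74895 → P i := stepQ 74894 Q74894 (allL N74894 (tt N41749 (iv1 D146420)) (tt N41753 F229753) (tt N74858 (iv2 F229756)) (tt N51022 F335953) (tt N45188 F229755) (tt N51016 (iv5 F335952)) (tt N55409 (iv6 F335958)) (tt N74856 F229754))
theorem Q74896 : ∀ i, i < 74896 → P i := stepQ 74895 Q74895 (allL N74895 (tt N102954 (iv1 F439421)) (tt N102957 (iv0 F439437)) (tt N61235 F229759) (tt N61388 F229760) (tt N62820 F335934) (tt N41750 (iv5 D146426)) (tt N41751 F229761) (tt N74898 (iv7 F335951)))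
theorem Q74897 : ∀ i, i < 74897 → P i := stepQ 74896 Q74896 (allL N74896 (tt N76183 (iv1 F237331)) (tt N76182 F237330) (tt N50418 (iv2 F360973)) (tt N85897 (iv3 F374351)) (tt N41751 (iv4 D146428)) (tt N76193 (iv5 F237351)) (tt N62820 (iv6 F335930)) (tt N43029 F229763))
theorem Q74898 : ∀ i, i < 74898 → P i := stepQ 74897 Q74897 (allL N74897 (tt N45181 F229767) (tt N45183 F229768) (tt N60822 F229764) (tt N105864 (iv3 F452063)) (tt N41752 (iv4 D146429)) (tt N60822 F229765) (tt N100779 (iv6 F430434)) (tt N60820 F229766))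
theorem Q74899 : ∀ i, i < 74899 → P i := stepQ 74898 Q74898 (allL N74898 (tt N98261 (iv1 F420225)) (tt N98045 F419288) (tt N98262 (iv2 F420227)) (tt N98390 (iv3 F420739)) (tt N41789 F229769) (tt N41753 (iv5 D146431)) (tt N76347 (iv6 F335937)) (tt N74895 F335951))
theorem Q74900 : ∀ i, i < 74900 → P i := stepQ 74899 Q74899 (allL N74899 (tt N41754 (iv1 D146434)) (tt N60950 (iv0 F336811)) (tt N55758 (iv2 F336805)) (tt N47479 F336800) (tt N98728 (iv4 F422041)) (tt N47478 F336801) (tt N70662 (iv6 F336806)) (tt N60951 F336810))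
theorem Q74901 : ∀ i, i < 74901 → P i := stepQ 74900 Q74900 (allL N74900 (tt N55758 (iv1 F349032)) (tt N60951 F349031) (tt N60950 (iv2 F336812)) (tt N90779 (iv3 F390807)) (tt N62802 F335971) (tt N43031 F229771) (tt N62801 (iv6 F335970)) (tt N41754 (iv7 D146435)))
theorem Q74902 : ∀ i, i < 74902 → P i := stepQ 74901 Q74901 (allL N74901 (tt N41758 (iv1 F229776)) (tt N41756 (iv0 D146437)) (tt N66656 (iv2 F229777)) (tt N97918 (iv3 F418801)) (tt N56244 F229775) (tt N98045 (iv5 F419285)) (tt N89615 (iv6 F386955)) (tt N74855 (iv7 F229778)))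
theorem Q74903 : ∀ i, i < 74903 → P i := stepQ 74902 Q74902 (allL N74902 (tt N41756 (iv1 D146438)) (tt N41758 F229779) (tt N74855 (iv2 F229782)) (tt N109053 D212281) (tt N56039 F229781) (tt N98261 (iv5 F420226)) (tt N70728 (iv6 F355834)) (tt N66656 F229780))
theorem Q74904 : ∀ i, i < 74904 → P i := stepQ 74903 Q74903 (allL N74903 (tt N98263 (iv1 F420235)) (tt N75703 (iv0 F363922)) (tt N70653 (iv2 F363921)) (tt N41756 (iv3 D146439)) (tt N75085 (iv4 F230262)) (tt N97991 (iv5 F419084)) (tt N70652 F363920) (tt N99804 (iv7 F426298)))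
theorem Q74905 : ∀ i, i < 74905 → P i := stepQ 74904 Q74904 (allL N74904 (tt N86113 F375148) (tt N86115 F375160) (tt N75538 (iv2 F231781)) (tt N97991 (iv3 F419083)) (tt N41787 F229783) (tt N41756 (iv5 D146440)) (tt N97987 (iv6 F419077)) (tt N75541 (iv7 F231789)))
theorem Q74906 : ∀ i, i < 74906 → P i := stepQ 74905 Q74905 (allL N74905 (tt N70588 (iv1 F333170)) (tt N70590 (iv0 F359576)) (tt N70670 (iv2 F333174)) (tt N68168 F355280) (tt N70667 F333169) (tt N78936 (iv5 F251438)) (tt N99806 (iv6 F426309)) (tt N41757 (iv7 D146444)))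
theorem Q74907 : ∀ i, i < 74907 → P i := stepQ 74906 Q74906 (allL N74906 (tt N86115 (iv1 F375161)) (tt N86113 F375149) (tt N75541 (iv2 F231787)) (tt N105918 (iv3 F452342)) (tt N41784 F229786) (tt N41758 (iv5 D146446)) (tt N109054 D212282) (tt N75538 (iv7 F231782)))
theorem Q74908 : ∀ i, i < 74908 → P i := stepQ 74907 Q74907 (allL N74907 (tt N98539 F421239) (tt N98551 F421299) (tt N98550 (iv2 F421293)) (tt N70678 F364741) (tt N41759 F229787) (tt N78287 F398985) (tt N41758 (iv6 D146447)) (tt N70671 (iv7 F364742)))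
theorem Q74909 : ∀ i, i < 74909 → P i := stepQ 74908 Q74908 (allL N74908 (tt N41759 (iv1 D146449)) (tt N99806 F426310) (tt N97054 (iv2 F426305)) (tt N108781 (iv3 F463898)) (tt N70596 (iv4 F364743)) (tt N109055 D212283) (tt N105837 F451960) (tt N99805 F426304))
theorem Q74910 : ∀ i, i < 74910 → P i := stepQ 74909 Q74909 (allL N74909 (tt N97054 (iv1 F421296)) (tt N99805 F426306) (tt N99806 (iv2 F426307)) (tt N78949 (iv3 F251517)) (tt N70671 F364744) (tt N78286 F349258) (tt N70670 (iv6 F333177)) (tt N41759 (iv7 D146450)))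
theorem Q74911 : ∀ i, i < 74911 → P i := stepQ 74910 Q74910 (allL N74910 (tt N68195 F365176) (tt N68318 F365179) (tt N68320 (iv2 F365178)) (tt N41760 (iv3 D146454)) (tt N68247 F365175) (tt N93336 (iv5 F400462)) (tt N104821 (iv6 F447457)) (tt N68315 F365177))
theorem Q74912 : ∀ i, i < 74912 → P i := stepQ 74911 Q74911 (allL N74911 (tt N75529 (iv1 F231746)) (tt N63017 F229791) (tt N75544 F231800) (tt N93336 (iv3 F400461)) (tt N41771 F229790) (tt N41760 (iv5 D146455)) (tt N109056 D212284) (tt N75543 F231795))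
theorem Q74913 : ∀ i, i < 74913 → P i := stepQ 74912 Q74912 (allL N74912 (tt N70597 F364327) (tt N70596 F364330) (tt N70599 (iv2 F364329)) (tt N104821 (iv3 F447454)) (tt N92559 (iv4 F397374)) (tt N109057 D212285) (tt N41760 (iv6 D146456)) (tt N70593 F364328))
theorem Q74914 : ∀ i, i < 74914 → P i := stepQ 74913 Q74913 (allL N74913 (tt N99809 (iv1 F426323)) (tt N41761 (iv0 D146457)) (tt N99808 F426314) (tt N92131 F409943) (tt N93676 F409941) (tt N109058 D212286) (tt N92130 (iv6 F409942)) (tt N99807 (iv7 F426318)))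
theorem Q74915 : ∀ i, i < 74915 → P i := stepQ 74914 Q74914 (allL N74914 (tt N41761 (iv1 D146458)) (tt N99809 F426324) (tt N99807 F426319) (tt N105887 (iv3 F452188)) (tt N93677 (iv4 F401530)) (tt N109059 D212287) (tt N109060 D212288) (tt N99808 F426315))
theorem Q74916 : ∀ i, i < 74916 → P i := stepQ 74915 Q74915 (allL N74915 (tt N99808 F426316) (tt N99807 F426312) (tt N41761 (iv2 D146459)) (tt N105791 F451735) (tt N60558 F229792) (tt N98226 F420059) (tt N97876 F418628) (tt N99809 (iv7 F426322)))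
theorem Q74917 : ∀ i, i < 74917 → P i := stepQ 74916 Q74916 (allL N74916 (tt N92770 F398150) (tt N98227 F420064) (tt N98226 (iv2 F420060)) (tt N41762 F229793) (tt N109061 D212289) (tt N41761 (iv5 D146460)) (tt N62383 (iv6 F356759)) (tt N82917 F356636))
theorem Q74918 : ∀ i, i < 74918 → P i := stepQ 74917 Q74917 (allL N74917 (tt N97878 F418637) (tt N60980 (iv0 F360948)) (tt N97876 F418627) (tt N41763 F229794) (tt N60561 F229795) (tt N62384 F335879) (tt N41761 (iv6 D146461)) (tt N97877 (iv7 F418629)))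
theorem Q74919 : ∀ i, i < 74919 → P i := stepQ 74918 Q74918 (allL N74918 (tt N41765 (iv1 D146478)) (tt N68343 (iv0 F317736)) (tt N66144 (iv2 F363638)) (tt N55712 F363639) (tt N73864 (iv4 F363637)) (tt N70700 F335882) (tt N106857 (iv6 F456022)) (tt N60837 (iv7 F363642)))
theorem Q74920 : ∀ i, i < 74920 → P i := stepQ 74919 Q74919 (allL N74919 (tt N66144 (iv1 F363648)) (tt N60837 (iv0 F363646)) (tt N68343 (iv2 F317737)) (tt N60843 F229800) (tt N105064 (iv4 F448624)) (tt N41766 F229801) (tt N83621 (iv6 F288083)) (tt N41765 (iv7 D146480)))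
theorem Q74921 : ∀ i, i < 74921 → P i := stepQ 74920 Q74920 (allL N74920 (tt N55726 F229805) (tt N55725 F229806) (tt N55730 F229802) (tt N73287 F342847) (tt N41767 (iv4 D146481)) (tt N56067 F229804) (tt N102845 (iv6 F438910)) (tt N55718 F229803))
theorem Q74922 : ∀ i, i < 74922 → P i := stepQ 74921 Q74921 (allL N74921 (tt N71498 F369360) (tt N109062 D212290) (tt N55734 F229807) (tt N60858 F229808) (tt N102845 (iv4 F438908)) (tt N76806 (iv5 F239985)) (tt N41767 (iv6 D146482)) (tt N105865 (iv7 F452070)))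
theorem Q74923 : ∀ i, i < 74923 → P i := stepQ 74922 Q74922 (allL N74922 (tt N101804 (iv1 F434416)) (tt N101805 (iv0 F434420)) (tt N72186 F322557) (tt N99254 F423846) (tt N44345 F322558) (tt N41768 (iv5 D146484)) (tt N44344 F322559) (tt N99833 (iv7 F426442)))
theorem Q74924 : ∀ i, i < 74924 → P i := stepQ 74923 Q74923 (allL N74923 (tt N73137 F229812) (tt N98465 (iv0 F420997)) (tt N90642 (iv2 F390375)) (tt N41769 (iv3 D146485)) (tt N71791 (iv4 F328479)) (tt N91451 (iv5 F393182)) (tt N61507 (iv6 F363411)) (tt N71790 (iv7 F356504)))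
theorem Q74925 : ∀ i, i < 74925 → P i := stepQ 74924 Q74924 (allL N74924 (tt N41778 (iv1 F229818)) (tt N41771 (iv0 D146492)) (tt N74862 (iv2 F229819)) (tt N78777 (iv3 F366606)) (tt N98038 (iv4 F419265)) (tt N45190 F229817) (tt N77674 F366607) (tt N63767 (iv7 F314418)))
theorem Q74926 : ∀ i, i < 74926 → P i := stepQ 74925 Q74925 (allL N74925 (tt N77671 F335906) (tt N109063 D212291) (tt N99813 (iv2 F426349)) (tt N78384 F366037) (tt N109056 (iv4 F465135)) (tt N92947 (iv5 F398868)) (tt N41771 (iv6 D146494)) (tt N109064 D212292))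
theorem Q74927 : ∀ i, i < 74927 → P i := stepQ 74926 Q74926 (allL N74926 (tt N41772 (iv1 D146496)) (tt N92219 F396324) (tt N82577 (iv2 F282918)) (tt N96227 (iv3 F411597)) (tt N42831 F236507) (tt N78285 F355702) (tt N74794 (iv6 F355701)) (tt N92216 (iv7 F396305)))
theorem Q74928 : ∀ i, i < 74928 → P i := stepQ 74927 Q74927 (allL N74927 (tt N73821 F360646) (tt N73820 F360674) (tt N73823 F360647) (tt N41775 (iv3 D146509)) (tt N41777 F229829) (tt N73807 (iv5 F350013)) (tt N77168 F360648) (tt N64214 F229830))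
theorem Q74929 : ∀ i, i < 74929 → P i := stepQ 74928 Q74928 (allL N74928 (tt N63523 (iv1 F337032)) (tt N63627 (iv0 F337027)) (tt N63629 (iv2 F340846)) (tt N77168 (iv3 F360663)) (tt N41776 F229834) (tt N99945 (iv5 F426907)) (tt N41775 (iv6 D146511)) (tt N63630 F340861))
theorem Q74930 : ∀ i, i < 74930 → P i := stepQ 74929 Q74929 (allL N74929 (tt N77624 (iv1 F335011)) (tt N41776 (iv0 D146512)) (tt N56142 (iv2 F340869)) (tt N41844 F232872) (tt N56115 (iv4 F321841)) (tt N42989 F337028) (tt N56131 (iv6 F340853)) (tt N56139 (iv7 F335021)))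
theorem Q74931 : ∀ i, i < 74931 → P i := stepQ 74930 Q74930 (allL N74930 (tt N41776 (iv1 D146513)) (tt N77624 (iv0 F335010)) (tt N56139 (iv2 F335019)) (tt N45302 F314863) (tt N55178 (iv4 F317131)) (tt N72374 (iv5 F232867)) (tt N45300 F314864) (tt N56142 (iv7 F340873)))
theorem Q74932 : ∀ i, i < 74932 → P i := stepQ 74931 Q74931 (allL N74931 (tt N56139 (iv1 F335018)) (tt N56142 (iv0 F340867)) (tt N77624 (iv2 F335012)) (tt N41782 F229835) (tt N63630 (iv4 F340860)) (tt N77630 (iv5 F244323)) (tt N43088 F229836) (tt N41776 (iv7 D146514)))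
theorem Q74933 : ∀ i, i < 74933 → P i := stepQ 74932 Q74932 (allL N74932 (tt N76343 (iv1 F420514)) (tt N61525 F420513) (tt N98326 (iv2 F420508)) (tt N98385 (iv3 F420720)) (tt N105884 (iv4 F452175)) (tt N109065 D212293) (tt N41778 (iv6 D146520)) (tt N98596 (iv7 F421500)))
theorem Q74934 : ∀ i, i < 74934 → P i := stepQ 74933 Q74933 (allL N74933 (tt N98477 (iv1 F421054)) (tt N78944 (iv0 F364219)) (tt N64183 F364428) (tt N98396 (iv3 F420772)) (tt N109066 D212294) (tt N41779 (iv5 D146523)) (tt N109065 (iv6 F465181)) (tt N43052 F364429))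
theorem Q74935 : ∀ i, i < 74935 → P i := stepQ 74934 Q74934 (allL N74934 (tt N43793 F314820) (tt N43912 F308172) (tt N43913 F308173) (tt N99773 (iv3 F426165)) (tt N64536 F308174) (tt N41780 (iv5 D146532)) (tt N64898 (iv6 F314466)) (tt N43900 F308175))
theorem Q74936 : ∀ i, i < 74936 → P i := stepQ 74935 Q74935 (allL N74935 (tt N109067 D212295) (tt N104258 (iv0 F444982)) (tt N43124 F229845) (tt N43803 F338135) (tt N41781 (iv4 D146536)) (tt N43801 F338136) (tt N43014 F229846) (tt N83278 (iv7 F338137)))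
theorem Q74937 : ∀ i, i < 74937 → P i := stepQ 74936 Q74936 (allL N74936 (tt N41783 (iv1 D146539)) (tt N46023 F353820) (tt N61588 (iv2 F353823)) (tt N98098 (iv3 F419455)) (tt N109068 D212296) (tt N76658 F353821) (tt N43237 F353822) (tt N69526 (iv7 F353824)))
theorem Q74938 : ∀ i, i < 74938 → P i := stepQ 74937 Q74937 (allL N74937 (tt N69526 F353818) (tt N61588 F353832) (tt N41783 (iv2 D146540)) (tt N79065 (iv3 F252110)) (tt N99597 (iv4 F425327)) (tt N43271 F346145) (tt N109069 D212297) (tt N46023 F353819))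
theorem Q74939 : ∀ i, i < 74939 → P i := stepQ 74938 Q74938 (allL N74938 (tt N94048 (iv1 F402976)) (tt N82453 (iv0 F352067)) (tt N99597 F425330) (tt N41952 F229853) (tt N41783 (iv4 D146541)) (tt N75336 (iv5 F231242)) (tt N101039 (iv6 F431414)) (tt N41976 F229854))
theorem Q74940 : ∀ i, i < 74940 → P i := stepQ 74939 Q74939 (allL N74939 (tt N43274 F354438) (tt N43200 F354439) (tt N43271 F346142) (tt N41784 F229855) (tt N109070 D212298) (tt N41783 (iv5 D146542)) (tt N109071 D212299) (tt N43272 F346143))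
theorem Q74941 : ∀ i, i < 74941 → P i := stepQ 74940 Q74940 (allL N74940 (tt N56196 F354441) (tt N105687 (iv0 F451256)) (tt N109069 (iv2 F465202)) (tt N41785 F229856) (tt N101039 (iv4 F431413)) (tt N105011 (iv5 F448356)) (tt N41783 (iv6 D146543)) (tt N46025 F362049))
theorem Q74942 : ∀ i, i < 74942 → P i := stepQ 74941 Q74941 (allL N74941 (tt N109072 D212300) (tt N109073 D212301) (tt N75542 (iv2 F231790)) (tt N109071 (iv3 F465216)) (tt N109054 (iv4 F465126)) (tt N105012 (iv5 F448364)) (tt N41784 (iv6 D146544)) (tt N109074 D212302))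
theorem Q74943 : ∀ i, i < 74943 → P i := stepQ 74942 Q74942 (allL N74942 (tt N68443 (iv1 F312193)) (tt N68437 (iv0 F312069)) (tt N76129 (iv2 F236568)) (tt N46025 F337876) (tt N68427 (iv4 F311218)) (tt N56092 (iv5 F335873)) (tt N46024 F337877) (tt N41785 (iv7 D146548)))
theorem Q74944 : ∀ i, i < 74944 → P i := stepQ 74943 Q74943 (allL N74943 (tt N79065 (iv1 F252113)) (tt N41786 (iv0 D146549)) (tt N79064 F355116) (tt N100289 (iv3 F428271)) (tt N80334 (iv4 F347975)) (tt N85301 (iv5 F387476)) (tt N98070 F419344) (tt N79063 (iv7 F355115)))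
theorem Q74945 : ∀ i, i < 74945 → P i := stepQ 74944 Q74944 (allL N74944 (tt N41786 (iv1 D146550)) (tt N79065 F252115) (tt N79063 (iv2 F355112)) (tt N98120 (iv3 F419545)) (tt N78370 (iv4 F248505)) (tt N85302 (iv5 F372217)) (tt N47506 F347973) (tt N79064 F355117))
theorem Q74946 : ∀ i, i < 74946 → P i := stepQ 74945 Q74945 (allL N74945 (tt N79064 (iv1 F252114)) (tt N79063 F252109) (tt N41786 (iv2 D146551)) (tt N46023 F353808) (tt N74831 F229857) (tt N98703 F421921) (tt N46020 F353809) (tt N79065 (iv7 F252112)))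
theorem Q74947 : ∀ i, i < 74947 → P i := stepQ 74946 Q74946 (allL N74946 (tt N98162 (iv1 F419785)) (tt N98704 F421928) (tt N98703 (iv2 F421923)) (tt N41787 F229858) (tt N105430 (iv4 F450232)) (tt N41786 (iv5 D146552)) (tt N109075 D212303) (tt N75540 (iv7 F231786)))
theorem Q74948 : ∀ i, i < 74948 → P i := stepQ 74947 Q74947 (allL N74947 (tt N100159 F427764) (tt N100161 (iv0 F427770)) (tt N75539 (iv2 F231784)) (tt N109075 (iv3 F465233)) (tt N97987 F419078) (tt N109076 D212304) (tt N41787 (iv6 D146554)) (tt N109077 D212305))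
theorem Q74949 : ∀ i, i < 74949 → P i := stepQ 74948 Q74948 (allL N74948 (tt N80487 F349013) (tt N100787 (iv0 F430473)) (tt N99814 (iv2 F426353)) (tt N98115 (iv3 F419514)) (tt N107185 (iv4 F457398)) (tt N41788 (iv5 D146556)) (tt N109076 (iv6 F465239)) (tt N108801 (iv7 F464016)))
theorem Q74950 : ∀ i, i < 74950 → P i := stepQ 74949 Q74949 (allL N74949 (tt N42450 F317051) (tt N79058 F317052) (tt N46024 F337878) (tt N85790 (iv3 F373948)) (tt N74829 F229863) (tt N108801 (iv5 F464014)) (tt N76129 (iv6 F236570)) (tt N41788 (iv7 D146557)))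
theorem Q74951 : ∀ i, i < 74951 → P i := stepQ 74950 Q74950 (allL N74950 (tt N109078 D212306) (tt N76281 F363412) (tt N99815 (iv2 F426357)) (tt N76664 F366500) (tt N76347 F335936) (tt N109079 D212307) (tt N41789 (iv6 D146559)) (tt N76346 (iv7 F335935)))
theorem Q74952 : ∀ i, i < 74952 → P i := stepQ 74951 Q74951 (allL N74951 (tt N100246 (iv1 F454798)) (tt N100179 (iv0 F427872)) (tt N84900 (iv2 F371027)) (tt N41791 (iv3 D146562)) (tt N84893 (iv4 F371019)) (tt N99800 (iv5 F426280)) (tt N84892 F371016) (tt N99816 (iv7 F426364)))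
theorem Q74953 : ∀ i, i < 74953 → P i := stepQ 74952 Q74952 (allL N74952 (tt N74954 (iv1 F356766)) (tt N74953 F356768) (tt N74955 (iv2 F356640)) (tt N84892 (iv3 F371015)) (tt N41792 F229868) (tt N82927 F356762) (tt N41791 (iv6 D146563)) (tt N74888 F356764))
theorem Q74954 : ∀ i, i < 74954 → P i := stepQ 74953 Q74953 (allL N74953 (tt N74952 (iv1 F356768)) (tt N41792 (iv0 D146564)) (tt N109048 F465098) (tt N109080 D212308) (tt N109081 D212309) (tt N84897 (iv5 F371023)) (tt N109082 D212310) (tt N109049 (iv7 F465101)))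
theorem Q74955 : ∀ i, i < 74955 → P i := stepQ 74954 Q74954 (allL N74954 (tt N41792 (iv1 D146565)) (tt N74952 F356766) (tt N109049 F465103) (tt N109083 D212311) (tt N109084 D212312) (tt N84898 F373012) (tt N109085 D212313) (tt N109048 F465099))
theorem Q74956 : ∀ i, i < 74956 → P i := stepQ 74955 Q74955 (allL N74955 (tt N109049 (iv1 F465100)) (tt N109048 F465097) (tt N74952 F356640) (tt N48737 F356641) (tt N74888 F356642) (tt N50859 F356643) (tt N62808 F356644) (tt N41792 (iv7 D146567)))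
theorem Q74957 : ∀ i, i < 74957 → P i := stepQ 74956 Q74956 (allL N74956 (tt N74818 (iv1 F229872)) (tt N56044 (iv0 F243111)) (tt N62709 F229870) (tt N66649 (iv3 F243301)) (tt N41793 (iv4 D146569)) (tt N109086 D212314) (tt N43232 F338197) (tt N74823 F229871))
theorem Q74958 : ∀ i, i < 74958 → P i := stepQ 74957 Q74957 (allL N74957 (tt N98070 (iv1 F419341)) (tt N81507 (iv0 F353309)) (tt N86222 (iv2 F375429)) (tt N41794 (iv3 D146572)) (tt N47468 F321088) (tt N85905 (iv5 F374394)) (tt N47467 F321089) (tt N85782 (iv7 F373914)))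
theorem Q74959 : ∀ i, i < 74959 → P i := stepQ 74958 Q74958 (allL N74958 (tt N100234 (iv1 F428091)) (tt N89620 (iv0 F386988)) (tt N100235 (iv2 F428097)) (tt N85905 F374396) (tt N71281 F359429) (tt N41794 (iv5 D146573)) (tt N100246 (iv6 F428120)) (tt N86224 (iv7 F375446)))
theorem Q74960 : ∀ i, i < 74960 → P i := stepQ 74959 Q74959 (allL N74959 (tt N92221 (iv1 F396337)) (tt N92220 (iv0 F396330)) (tt N92588 (iv2 F397511)) (tt N47467 F359174) (tt N72694 (iv4 F319649)) (tt N109044 (iv5 F465077)) (tt N41794 (iv6 D146574)) (tt N42986 F359206))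
theorem Q74961 : ∀ i, i < 74961 → P i := stepQ 74960 Q74960 (allL N74960 (tt N109051 (iv1 F465113)) (tt N41795 (iv0 D146575)) (tt N109050 F465105) (tt N100326 (iv3 F428436)) (tt N109087 D212315) (tt N91308 (iv5 F392650)) (tt N100324 F428430) (tt N76436 F392652))
theorem Q74962 : ∀ i, i < 74962 → P i := stepQ 74961 Q74961 (allL N74961 (tt N41795 (iv1 D146576)) (tt N109051 F465112) (tt N76436 (iv2 F355809)) (tt N82036 (iv3 F366567)) (tt N76513 (iv4 F355810)) (tt N74821 (iv5 F231751)) (tt N76324 F355806) (tt N109050 (iv7 F465106)))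
theorem Q74963 : ∀ i, i < 74963 → P i := stepQ 74962 Q74962 (allL N74962 (tt N76436 (iv1 F355813)) (tt N109050 F465107) (tt N109051 (iv2 F465108)) (tt N75970 F356757) (tt N86324 (iv4 F375828)) (tt N41796 F229877) (tt N109088 D212316) (tt N41795 (iv7 D146578)))
theorem Q74964 : ∀ i, i < 74964 → P i := stepQ 74963 Q74963 (allL N74963 (tt N41800 F229896) (tt N41797 (iv0 D146597)) (tt N63064 (iv2 F233211)) (tt N75644 (iv3 F233276)) (tt N56080 F363912) (tt N63058 (iv5 F232244)) (tt N45217 (iv6 F229895)) (tt N99871 (iv7 F426628)))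
theorem Q74965 : ∀ i, i < 74965 → P i := stepQ 74964 Q74964 (allL N74964 (tt N41797 (iv1 D146598)) (tt N41800 F229897) (tt N99871 (iv2 F426624)) (tt N41827 F233212) (tt N56079 F364015) (tt N46234 F314423) (tt N78710 (iv6 F250337)) (tt N63064 F233214))
theorem Q74966 : ∀ i, i < 74966 → P i := stepQ 74965 Q74965 (allL N74965 (tt N74415 F247809) (tt N48073 F353441) (tt N74966 (iv2 F353429)) (tt N91559 F393646) (tt N41798 (iv4 D146610)) (tt N75564 F353442) (tt N62854 F353430) (tt N53333 F353438))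
theorem Q74967 : ∀ i, i < 74967 → P i := stepQ 74966 Q74966 (allL N74966 (tt N56043 F353427) (tt N72376 (iv0 F319250)) (tt N74965 F353429) (tt N41801 F229905) (tt N62854 (iv4 F353428)) (tt N58546 F334948) (tt N41798 (iv6 D146612)) (tt N74969 F353431))
theorem Q74968 : ∀ i, i < 74968 → P i := stepQ 74967 Q74967 (allL N74967 (tt N61510 (iv1 F363438)) (tt N61509 F363439) (tt N61512 (iv2 F363437)) (tt N98350 (iv3 F420600)) (tt N107247 (iv4 F457636)) (tt N41799 (iv5 D146614)) (tt N109089 D212317) (tt N61503 F363436))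
theorem Q74969 : ∀ i, i < 74969 → P i := stepQ 74968 Q74968 (allL N74968 (tt N63072 (iv1 F324379)) (tt N74322 (iv0 F363466)) (tt N74321 (iv2 F333258)) (tt N58546 (iv3 F334949)) (tt N99441 (iv4 F424595)) (tt N41801 (iv5 D146619)) (tt N65295 (iv6 F233136)) (tt N74320 (iv7 F333248)))
theorem Q74970 : ∀ i, i < 74970 → P i := stepQ 74969 Q74969 (allL N74969 (tt N48073 F353439) (tt N74415 (iv0 F243196)) (tt N53333 F353437) (tt N55800 F353435) (tt N41802 (iv4 D146622)) (tt N95520 (iv5 F408458)) (tt N53308 F353436) (tt N74966 (iv7 F353431)))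
theorem Q74971 : ∀ i, i < 74971 → P i := stepQ 74970 Q74970 (allL N74970 (tt N72693 F330037) (tt N73142 (iv0 F350111)) (tt N76198 (iv2 F330039)) (tt N41803 (iv3 D146631)) (tt N41841 F229918) (tt N44373 F330038) (tt N41808 F229919) (tt N73610 (iv7 F330047)))
theorem Q74972 : ∀ i, i < 74972 → P i := stepQ 74971 Q74971 (allL N74971 (tt N71276 F330040) (tt N44996 F330041) (tt N82222 F330042) (tt N44373 F330043) (tt N107246 (iv4 F457631)) (tt N41803 (iv5 D146632)) (tt N62324 (iv6 F342381)) (tt N73607 F330044))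
theorem Q74973 : ∀ i, i < 74973 → P i := stepQ 74972 Q74972 (allL N74972 (tt N55723 F229930) (tt N55720 F229931) (tt N72030 F229929) (tt N109090 D212318) (tt N41805 (iv4 D146635)) (tt N101804 (iv5 F434414)) (tt N71441 (iv6 F395952)) (tt N92564 (iv7 F397398)))
theorem Q74974 : ∀ i, i < 74974 → P i := stepQ 74973 Q74973 (allL N74973 (tt N109033 F465019) (tt N109091 D212319) (tt N92563 (iv2 F397394)) (tt N41883 F229932) (tt N71441 F395953) (tt N100179 (iv5 F427871)) (tt N41805 (iv6 D146636)) (tt N109092 D212320))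
theorem Q74975 : ∀ i, i < 74975 → P i := stepQ 74974 Q74974 (allL N74974 (tt N103155 (iv1 F440335)) (tt N41808 (iv0 D146642)) (tt N103175 (iv2 F440416)) (tt N48156 F330053) (tt N109022 (iv4 F464973)) (tt N66544 F330054) (tt N66665 F330055) (tt N82337 F330056))
theorem Q74976 : ∀ i, i < 74976 → P i := stepQ 74975 Q74975 (allL N74975 (tt N41808 (iv1 D146643)) (tt N103155 (iv0 F440336)) (tt N82337 F365229) (tt N106995 (iv3 F456568)) (tt N108443 (iv4 F462591)) (tt N102997 (iv5 F439600)) (tt N77374 (iv6 F330052)) (tt N103175 (iv7 F440419)))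
theorem Q74977 : ∀ i, i < 74977 → P i := stepQ 74976 Q74976 (allL N74976 (tt N103175 (iv1 F440421)) (tt N82337 (iv0 F355128)) (tt N41808 (iv2 D146644)) (tt N99830 (iv3 F426427)) (tt N41848 F229937) (tt N73180 F355129) (tt N76198 F355130) (tt N103155 (iv7 F440333)))
theorem Q74978 : ∀ i, i < 74978 → P i := stepQ 74977 Q74977 (allL N74977 (tt N48153 F348849) (tt N80353 F348850) (tt N73180 F348847) (tt N41809 F229938) (tt N108920 (iv4 F464487)) (tt N41808 (iv5 D146645)) (tt N62322 (iv6 F348846)) (tt N72183 F348848))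
theorem Q74979 : ∀ i, i < 74979 → P i := stepQ 74978 Q74978 (allL N74978 (tt N44345 F322551) (tt N41809 (iv0 D146646)) (tt N56068 (iv2 F229940)) (tt N66686 F341079) (tt N55728 F229943) (tt N56035 F229939) (tt N62307 (iv6 F341085)) (tt N56056 F229942))
theorem Q74980 : ∀ i, i < 74980 → P i := stepQ 74979 Q74979 (allL N74979 (tt N101805 (iv1 F434421)) (tt N101804 (iv0 F434415)) (tt N99833 (iv2 F426439)) (tt N71661 F390013) (tt N41809 (iv4 D146647)) (tt N55717 F229944) (tt N62323 F362452) (tt N72186 (iv7 F362453)))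
theorem Q74981 : ∀ i, i < 74981 → P i := stepQ 74980 Q74980 (allL N74980 (tt N80017 (iv1 F259429)) (tt N41811 (iv0 D146655)) (tt N80013 F259435) (tt N96226 F411587) (tt N74438 F259430) (tt N107106 (iv5 F457001)) (tt N109093 D212321) (tt N80014 (iv7 F259434)))
theorem Q74982 : ∀ i, i < 74982 → P i := stepQ 74981 Q74981 (allL N74981 (tt N41811 (iv1 D146656)) (tt N80017 F259426) (tt N80014 (iv2 F259436)) (tt N109094 D212322) (tt N74439 F259441) (tt N107139 (iv5 F457155)) (tt N108072 F461001) (tt N80013 F259437))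
theorem Q74983 : ∀ i, i < 74983 → P i := stepQ 74982 Q74982 (allL N74982 (tt N80014 (iv1 F259418)) (tt N80013 F259425) (tt N80017 (iv2 F259423)) (tt N78175 F338222) (tt N41813 F229953) (tt N78174 (iv5 F338224)) (tt N74389 F229954) (tt N41811 (iv7 D146658)))
theorem Q74984 : ∀ i, i < 74984 → P i := stepQ 74983 Q74983 (allL N74983 (tt N82135 (iv1 F278770)) (tt N78112 (iv0 F338232)) (tt N44885 F229955) (tt N75150 (iv3 F361431)) (tt N41812 (iv4 D146659)) (tt N78100 (iv5 F358661)) (tt N100572 (iv6 F429519)) (tt N80012 (iv7 F259409)))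
theorem Q74985 : ∀ i, i < 74985 → P i := stepQ 74984 Q74984 (allL N74984 (tt N72685 F349375) (tt N45308 F345706) (tt N44886 F229956) (tt N72376 (iv3 F319252)) (tt N100572 (iv4 F429518)) (tt N43362 F229957) (tt N41812 (iv6 D146660)) (tt N99792 (iv7 F426240)))
theorem Q74986 : ∀ i, i < 74986 → P i := stepQ 74985 Q74985 (allL N74985 (tt N69799 (iv1 F336971)) (tt N41914 (iv0 F229960)) (tt N44865 F229958) (tt N105898 (iv3 F452244)) (tt N41814 (iv4 D146661)) (tt N67781 F336977) (tt N109095 D212323) (tt N44867 F229959))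
theorem Q74987 : ∀ i, i < 74987 → P i := stepQ 74986 Q74986 (allL N74986 (tt N72690 (iv1 F345711)) (tt N64637 (iv0 F340935)) (tt N44866 F229962) (tt N41816 F229963) (tt N109095 (iv4 F465313)) (tt N42337 F229964) (tt N41814 (iv6 D146662)) (tt N72331 (iv7 F346824)))
theorem Q74988 : ∀ i, i < 74988 → P i := stepQ 74987 Q74987 (allL N74987 (tt N81342 (iv1 F354847)) (tt N81341 (iv0 F354813)) (tt N81344 F354808) (tt N41817 (iv3 D146669)) (tt N71809 (iv4 F328577)) (tt N75380 (iv5 F231393)) (tt N81331 (iv6 F363208)) (tt N41967 F229980))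
theorem Q74989 : ∀ i, i < 74989 → P i := stepQ 74988 Q74988 (allL N74988 (tt N48481 F310641) (tt N67997 F342200) (tt N41820 F229981) (tt N81331 F363207) (tt N41818 F229982) (tt N67843 (iv5 F338383)) (tt N41817 (iv6 D146670)) (tt N67964 (iv7 F341972)))
theorem Q74990 : ∀ i, i < 74990 → P i := stepQ 74989 Q74989 (allL N74989 (tt N41822 (iv1 F229992)) (tt N41821 F229993) (tt N41823 F229988) (tt N74386 F229989) (tt N67964 F341971) (tt N43494 F229990) (tt N41972 F229991) (tt N41818 (iv7 D146672)))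
theorem Q74991 : ∀ i, i < 74991 → P i := stepQ 74990 Q74990 (allL N74990 (tt N82560 F310253) (tt N41978 F241226) (tt N43859 F229999) (tt N69132 (iv3 F348925)) (tt N41821 (iv4 D146679)) (tt N85959 (iv5 F374625)) (tt N43629 F230000) (tt N65120 (iv7 F348878)))
theorem Q74992 : ∀ i, i < 74992 → P i := stepQ 74991 Q74991 (allL N74991 (tt N41911 F338162) (tt N84723 (iv0 F370350)) (tt N64626 F310209) (tt N45282 F310210) (tt N41824 (iv4 D146685)) (tt N109096 D212324) (tt N45280 F310211) (tt N44040 F230020))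
theorem Q74993 : ∀ i, i < 74993 → P i := stepQ 74992 Q74992 (allL N74992 (tt N49695 (iv1 F337251)) (tt N41825 (iv0 D146686)) (tt N49416 (iv2 F337253)) (tt N49715 (iv3 F337254)) (tt N97942 (iv4 F418897)) (tt N83461 (iv5 F337255)) (tt N71805 (iv6 F337256)) (tt N49724 F337252))
theorem Q74994 : ∀ i, i < 74994 → P i := stepQ 74993 Q74993 (allL N74993 (tt N105265 (iv1 F449467)) (tt N109097 D212325) (tt N99839 (iv2 F426465)) (tt N60104 F366007) (tt N41826 (iv4 D146690)) (tt N109098 D212326) (tt N109099 D212327) (tt N99791 (iv7 F426233)))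
theorem Q74995 : ∀ i, i < 74995 → P i := stepQ 74994 Q74994 (allL N74994 (tt N99760 F426103) (tt N68291 (iv0 F237501)) (tt N99840 (iv2 F426467)) (tt N41828 F230022) (tt N109099 (iv4 F465334)) (tt N45307 F310777) (tt N41826 (iv6 D146691)) (tt N99977 (iv7 F427041)))
theorem Q74996 : ∀ i, i < 74996 → P i := stepQ 74995 Q74995 (allL N74995 (tt N63849 (iv1 F230033)) (tt N63851 F230034) (tt N78328 (iv2 F248277)) (tt N99977 (iv3 F427038)) (tt N82463 F311115) (tt N43999 F311116) (tt N42398 F230032) (tt N41828 (iv7 D146696)))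
theorem Q74997 : ∀ i, i < 74997 → P i := stepQ 74996 Q74996 (allL N74996 (tt N41984 F242981) (tt N41983 F242982) (tt N41986 F242983) (tt N81088 (iv3 F343362)) (tt N41829 (iv4 D146704)) (tt N81084 (iv5 F343369)) (tt N42017 F242984) (tt N41955 F242985))
theorem Q74998 : ∀ i, i < 74998 → P i := stepQ 74997 Q74997 (allL N74997 (tt N74394 (iv1 F243117)) (tt N99789 F426223) (tt N41831 F230041) (tt N81285 (iv3 F339384)) (tt N41830 (iv4 D146707)) (tt N81040 (iv5 F345657)) (tt N75012 (iv6 F345650)) (tt N41988 F243001))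
theorem Q74999 : ∀ i, i < 74999 → P i := stepQ 74998 Q74998 (allL N74998 (tt N75490 F243002) (tt N52007 (iv0 F312755)) (tt N41832 F230042) (tt N42316 F230043) (tt N52224 (iv4 F360232)) (tt N41830 (iv5 D146708)) (tt N42063 F243004) (tt N41989 F243005))
theorem Q75000 : ∀ i, i < 75000 → P i := stepQ 74999 Q74999 (allL N74999 (tt N99559 F425160) (tt N55201 (iv0 F308697)) (tt N41833 F230044) (tt N72685 (iv3 F349378)) (tt N75012 F345649) (tt N72683 (iv5 F360892)) (tt N41830 (iv6 D146709)) (tt N80431 (iv7 F335069)))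
theorem Q75001 : ∀ i, i < 75001 → P i := stepQ 75000 Q75000 (allL N75000 (tt N41831 (iv1 D146711)) (tt N41988 F243009) (tt N99789 F426222) (tt N45544 F339820) (tt N54966 (iv4 F317939)) (tt N79368 (iv5 F339821)) (tt N64017 F339819) (tt N74394 F243011))
theorem Q75002 : ∀ i, i < 75002 → P i := stepQ 75001 Q75001 (allL N75001 (tt N75013 F337731) (tt N47919 F337732) (tt N75012 F345646) (tt N47983 F337733) (tt N41833 F230045) (tt N46205 F334597) (tt N41831 (iv6 D146713)) (tt N47981 F337734))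
theorem Q75003 : ∀ i, i < 75003 → P i := stepQ 75002 Q75002 (allL N75002 (tt N41989 F243012) (tt N41832 (iv0 D146714)) (tt N75490 F243013) (tt N42061 F243014) (tt N52014 (iv4 F334502)) (tt N75324 F243016) (tt N42059 F243017) (tt N52007 (iv7 F312760)))
theorem Q75004 : ∀ i, i < 75004 → P i := stepQ 75003 Q75003 (allL N75003 (tt N80431 (iv1 F335068)) (tt N41833 (iv0 D146718)) (tt N99559 (iv2 F425155)) (tt N55127 (iv3 F335070)) (tt N109100 D212328) (tt N42188 F243024) (tt N74708 (iv6 F335071)) (tt N55201 (iv7 F308701)))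
theorem Q75005 : ∀ i, i < 75005 → P i := stepQ 75004 Q75004 (allL N75004 (tt N41833 (iv1 D146719)) (tt N80431 (iv0 F335067)) (tt N55201 (iv2 F308698)) (tt N61431 F357841) (tt N109101 D212329) (tt N42189 F243027) (tt N41970 F243028) (tt N99559 (iv7 F425158)))
theorem Q75006 : ∀ i, i < 75006 → P i := stepQ 75005 Q75005 (allL N75005 (tt N62576 (iv1 F322077)) (tt N75179 F243030) (tt N72683 (iv2 F360891)) (tt N41835 F230048) (tt N99353 (iv4 F424236)) (tt N41833 (iv5 D146720)) (tt N65236 (iv6 F243044)) (tt N75495 (iv7 F243047)))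
theorem Q75007 : ∀ i, i < 75007 → P i := stepQ 75006 Q75006 (allL N75006 (tt N66763 F230055) (tt N66762 F230056) (tt N60095 (iv2 F321474)) (tt N102261 (iv3 F436429)) (tt N41835 (iv4 D146724)) (tt N46280 F313799) (tt N45786 F313800) (tt N45787 F313801))
theorem Q75008 : ∀ i, i < 75008 → P i := stepQ 75007 Q75007 (allL N75007 (tt N46571 (iv1 F308132)) (tt N41836 (iv0 D146725)) (tt N75762 (iv2 F233696)) (tt N45299 (iv3 F308134)) (tt N53065 F306162) (tt N46567 F306163) (tt N41845 F230058) (tt N45303 F306164))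
theorem Q75009 : ∀ i, i < 75009 → P i := stepQ 75008 Q75008 (allL N75008 (tt N55127 (iv1 F342448)) (tt N55124 (iv0 F342449)) (tt N55200 (iv2 F313059)) (tt N41838 F230062) (tt N48913 F314955) (tt N58544 F342460) (tt N41837 (iv6 D146728)) (tt N46572 F314956))
theorem Q75010 : ∀ i, i < 75010 → P i := stepQ 75009 Q75009 (allL N75009 (tt N47505 F321090) (tt N61605 F334722) (tt N61470 F334691) (tt N41839 (iv3 D146729)) (tt N85782 (iv4 F373912)) (tt N47902 F317773) (tt N45032 F334692) (tt N47468 F321091))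
theorem Q75011 : ∀ i, i < 75011 → P i := stepQ 75010 Q75010 (allL N75010 (tt N53065 F309305) (tt N53064 F309306) (tt N46350 (iv2 F309857)) (tt N45032 F309307) (tt N62710 F230067) (tt N46349 F309308) (tt N41839 (iv6 D146731)) (tt N53062 F309309))
theorem Q75012 : ∀ i, i < 75012 → P i := stepQ 75011 Q75011 (allL N75011 (tt N65156 (iv1 F336448)) (tt N65161 (iv0 F342136)) (tt N79270 F315401) (tt N41840 (iv3 D146732)) (tt N46898 F315402) (tt N47901 F317771) (tt N47447 F315403) (tt N46351 F315404))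
theorem Q75013 : ∀ i, i < 75013 → P i := stepQ 75012 Q75012 (allL N75012 (tt N41841 (iv1 D146736)) (tt N82017 F321710) (tt N75001 (iv2 F345646)) (tt N95833 (iv3 F409864)) (tt N74999 (iv4 F345649)) (tt N64240 F345645) (tt N74997 F345650) (tt N80123 (iv7 F345647)))
theorem Q75014 : ∀ i, i < 75014 → P i := stepQ 75013 Q75013 (allL N75013 (tt N80123 (iv1 F337727)) (tt N75001 (iv0 F337731)) (tt N41841 (iv2 D146737)) (tt N49634 F321713) (tt N76198 F339606) (tt N46247 F321714) (tt N41848 F230073) (tt N82017 F321715))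
theorem Q75015 : ∀ i, i < 75015 → P i := stepQ 75014 Q75014 (allL N75014 (tt N41847 (iv1 F230096)) (tt N41846 (iv0 D146748)) (tt N41850 (iv2 F230094)) (tt N75382 (iv3 F316679)) (tt N103155 (iv4 F440334)) (tt N66937 (iv5 F312503)) (tt N75197 F334044) (tt N41848 F230095))
theorem Q75016 : ∀ i, i < 75016 → P i := stepQ 75015 Q75015 (allL N75015 (tt N41850 (iv1 F230100)) (tt N41848 F230099) (tt N41846 (iv2 D146749)) (tt N108746 (iv3 F463786)) (tt N62456 (iv4 F355125)) (tt N62781 F355127) (tt N75167 F355126) (tt N41847 F230098))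
theorem Q75017 : ∀ i, i < 75017 → P i := stepQ 75016 Q75016 (allL N75016 (tt N42105 F321141) (tt N42407 (iv0 F230103)) (tt N62781 (iv2 F355147)) (tt N73696 F230102) (tt N84132 (iv4 F368241)) (tt N41846 (iv5 D146751)) (tt N101216 (iv6 F432242)) (tt N62780 F350799))
theorem Q75018 : ∀ i, i < 75018 → P i := stepQ 75017 Q75017 (allL N75017 (tt N95831 F409852) (tt N79066 F252119) (tt N73694 F230106) (tt N41847 (iv3 D146753)) (tt N109102 D212330) (tt N100150 (iv5 F427715)) (tt N77439 F360237) (tt N108746 (iv7 F463789)))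
theorem Q75019 : ∀ i, i < 75019 → P i := stepQ 75018 Q75018 (allL N75018 (tt N42407 F350770) (tt N42105 F350771) (tt N62780 F350796) (tt N100150 F427716) (tt N84131 (iv4 F368234)) (tt N41847 (iv5 D146755)) (tt N78714 F356772) (tt N62781 (iv7 F355148)))
theorem Q75020 : ∀ i, i < 75020 → P i := stepQ 75019 Q75019 (allL N75019 (tt N66937 (iv1 F312501)) (tt N41849 (iv0 D146758)) (tt N75347 (iv2 F350766)) (tt N61099 F350763) (tt N44563 F350764) (tt N63009 F350765) (tt N81044 F429183) (tt N75350 (iv7 F350767)))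
theorem Q75021 : ∀ i, i < 75021 → P i := stepQ 75020 Q75020 (allL N75020 (tt N41849 (iv1 D146759)) (tt N66937 (iv0 F312500)) (tt N75350 F350786) (tt N95830 F409846) (tt N44562 F350721) (tt N75279 (iv5 F348852)) (tt N104571 (iv6 F446331)) (tt N75347 (iv7 F350785)))
theorem Q75022 : ∀ i, i < 75022 → P i := stepQ 75021 Q75021 (allL N75021 (tt N60727 F230131) (tt N60729 F230132) (tt N75058 F230231) (tt N109103 D212331) (tt N41855 (iv4 D146767)) (tt N103714 (iv5 F442559)) (tt N102437 (iv6 F437233)) (tt N75059 (iv7 F230234)))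
theorem Q75023 : ∀ i, i < 75023 → P i := stepQ 75022 Q75022 (allL N75022 (tt N109104 D212332) (tt N109105 D212333) (tt N109106 D212334) (tt N41856 (iv3 D146769)) (tt N97900 (iv4 F418717)) (tt N109107 D212335) (tt N105862 (iv6 F452059)) (tt N97804 (iv7 F418366)))
theorem Q75024 : ∀ i, i < 75024 → P i := stepQ 75023 Q75023 (allL N75023 (tt N41917 F230134) (tt N41892 F230135) (tt N97808 (iv2 F418376)) (tt N109107 (iv3 F465365)) (tt N41866 F230133) (tt N41856 (iv5 D146770)) (tt N53158 F346315) (tt N97805 (iv7 F418368)))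
theorem Q75025 : ∀ i, i < 75025 → P i := stepQ 75024 Q75024 (allL N75024 (tt N62752 F230138) (tt N42397 F230139) (tt N75112 F230290) (tt N62926 F361669) (tt N97959 (iv4 F418970)) (tt N41857 (iv5 D146776)) (tt N109108 D212336) (tt N75111 F230286))
theorem Q75026 : ∀ i, i < 75026 → P i := stepQ 75025 Q75025 (allL N75025 (tt N42397 F230142) (tt N62752 F230143) (tt N75111 F230285) (tt N77220 F366697) (tt N103714 (iv4 F442558)) (tt N41858 (iv5 D146779)) (tt N88900 F384484) (tt N75112 (iv7 F230288)))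
theorem Q75027 : ∀ i, i < 75027 → P i := stepQ 75026 Q75026 (allL N75026 (tt N91018 (iv1 F391596)) (tt N41859 (iv0 D146781)) (tt N99758 F426093) (tt N105042 (iv3 F448524)) (tt N75288 F419661) (tt N105041 (iv5 F448522)) (tt N75286 (iv6 F419662)) (tt N99757 F426090))
theorem Q75028 : ∀ i, i < 75028 → P i := stepQ 75027 Q75027 (allL N75027 (tt N41859 (iv1 D146782)) (tt N91018 F391588) (tt N99757 F426089) (tt N63277 (iv3 F391595)) (tt N98296 (iv4 F420380)) (tt N76506 (iv5 F391589)) (tt N63276 F391590) (tt N99758 (iv7 F426092)))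
theorem Q75029 : ∀ i, i < 75029 → P i := stepQ 75028 Q75028 (allL N75028 (tt N99758 (iv1 F426091)) (tt N99757 F426088) (tt N41859 (iv2 D146783)) (tt N87062 F378250) (tt N99635 (iv4 F425521)) (tt N109109 D212337) (tt N109110 D212338) (tt N91018 F391587))
theorem Q75030 : ∀ i, i < 75030 → P i := stepQ 75029 Q75029 (allL N75029 (tt N96439 F412525) (tt N109111 D212339) (tt N109109 (iv2 F465378)) (tt N41860 F230144) (tt N96370 (iv4 F412272)) (tt N41859 (iv5 D146784)) (tt N109112 D212340) (tt N99759 (iv7 F426097)))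
theorem Q75031 : ∀ i, i < 75031 → P i := stepQ 75030 Q75030 (allL N75030 (tt N109113 D212341) (tt N109114 D212342) (tt N109110 (iv2 F465383)) (tt N41861 F230145) (tt N99636 (iv4 F425527)) (tt N109115 D212343) (tt N41859 (iv6 D146785)) (tt N100009 (iv7 F427176)))
theorem Q75032 : ∀ i, i < 75032 → P i := stepQ 75031 Q75031 (allL N75031 (tt N41866 (iv1 F230147)) (tt N41860 (iv0 D146786)) (tt N75743 (iv2 F233615)) (tt N109116 D212344) (tt N97945 (iv4 F418908)) (tt N41898 F230146) (tt N109117 D212345) (tt N75740 (iv7 F233606)))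
theorem Q75033 : ∀ i, i < 75033 → P i := stepQ 75032 Q75032 (allL N75032 (tt N41860 (iv1 D146787)) (tt N41866 F230148) (tt N75740 (iv2 F233605)) (tt N82909 F359701) (tt N97944 (iv4 F418905)) (tt N41899 F230149) (tt N103519 (iv6 F441920)) (tt N75743 (iv7 F233616)))
theorem Q75034 : ∀ i, i < 75034 → P i := stepQ 75033 Q75033 (allL N75033 (tt N41892 F230151) (tt N41917 F230152) (tt N97805 (iv2 F418367)) (tt N96374 (iv3 F412287)) (tt N41860 (iv4 D146788)) (tt N41863 F230150) (tt N109118 D212346) (tt N97808 (iv7 F418378)))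
theorem Q75035 : ∀ i, i < 75035 → P i := stepQ 75034 Q75034 (allL N75034 (tt N109119 D212347) (tt N109120 D212348) (tt N99761 (iv2 F426104)) (tt N109112 (iv3 F465393)) (tt N109118 (iv4 F465417)) (tt N109121 D212349) (tt N41860 (iv6 D146789)) (tt N109122 D212350))
theorem Q75036 : ∀ i, i < 75036 → P i := stepQ 75035 Q75035 (allL N75035 (tt N42305 (iv1 F230153)) (tt N41861 (iv0 D146790)) (tt N99762 F426109) (tt N104151 (iv3 F444432)) (tt N92574 (iv4 F397437)) (tt N98584 (iv5 F421458)) (tt N102604 (iv6 F437866)) (tt N92582 (iv7 F397480)))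
theorem Q75037 : ∀ i, i < 75037 → P i := stepQ 75036 Q75036 (allL N75036 (tt N41861 (iv1 D146791)) (tt N42305 F230154) (tt N92582 (iv2 F397479)) (tt N109123 D212351) (tt N92581 F397477) (tt N109124 D212352) (tt N109097 F465327) (tt N99762 (iv7 F426111)))
theorem Q75038 : ∀ i, i < 75038 → P i := stepQ 75037 Q75037 (allL N75037 (tt N104200 (iv1 F444669)) (tt N85359 F372338) (tt N99763 (iv2 F426114)) (tt N109115 (iv3 F465405)) (tt N76560 F355592) (tt N41861 (iv5 D146792)) (tt N109121 (iv6 F465426)) (tt N76559 (iv7 F355594)))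
theorem Q75039 : ∀ i, i < 75039 → P i := stepQ 75038 Q75038 (allL N75038 (tt N109125 D212353) (tt N109126 D212354) (tt N74840 F335966) (tt N41863 (iv3 D146796)) (tt N60821 (iv4 F335948)) (tt N96374 (iv5 F412288)) (tt N60820 F335967) (tt N97807 (iv7 F418375)))
theorem Q75040 : ∀ i, i < 75040 → P i := stepQ 75039 Q75039 (allL N75039 (tt N109127 D212355) (tt N109128 D212356) (tt N97806 (iv2 F418373)) (tt N60820 (iv3 F335968)) (tt N41864 F230159) (tt N74839 F335969) (tt N41863 (iv6 D146797)) (tt N105864 (iv7 F452065)))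
theorem Q75041 : ∀ i, i < 75041 → P i := stepQ 75040 Q75040 (allL N75040 (tt N70833 (iv1 F362734)) (tt N41864 (iv0 D146798)) (tt N99756 F426080) (tt N70042 F349040) (tt N109129 D212357) (tt N105826 F451903) (tt N70041 (iv6 F349041)) (tt N97972 (iv7 F419025)))
theorem Q75042 : ∀ i, i < 75042 → P i := stepQ 75041 Q75041 (allL N75041 (tt N41864 (iv1 D146799)) (tt N70833 F362733) (tt N97972 (iv2 F419028)) (tt N109130 D212358) (tt N109131 D212359) (tt N105825 (iv5 F451901)) (tt N109132 D212360) (tt N99756 (iv7 F426082)))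
theorem Q75043 : ∀ i, i < 75043 → P i := stepQ 75042 Q75042 (allL N75042 (tt N41865 (iv1 D146802)) (tt N87062 (iv0 F378242)) (tt N91019 (iv2 F391601)) (tt N63027 (iv3 F321945)) (tt N66691 (iv4 F230162)) (tt N86335 (iv5 F375859)) (tt N63025 (iv6 F346319)) (tt N81198 F346318))
theorem Q75044 : ∀ i, i < 75044 → P i := stepQ 75043 Q75043 (allL N75043 (tt N72332 (iv1 F356600)) (tt N41867 (iv0 D146807)) (tt N82952 (iv2 F356596)) (tt N49861 F356597) (tt N101699 (iv4 F433932)) (tt N49444 F356598) (tt N101698 F433929) (tt N49873 F356599))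
theorem Q75045 : ∀ i, i < 75045 → P i := stepQ 75044 Q75044 (allL N75044 (tt N41867 (iv1 D146808)) (tt N72332 (iv0 F356593)) (tt N49873 (iv2 F356590)) (tt N82845 (iv3 F356591)) (tt N92584 (iv4 F397488)) (tt N49445 F356589) (tt N109133 D212361) (tt N82952 (iv7 F356592)))
theorem Q75046 : ∀ i, i < 75046 → P i := stepQ 75045 Q75045 (allL N75045 (tt N99540 (iv1 F425056)) (tt N41870 (iv0 D146822)) (tt N99765 (iv2 F426129)) (tt N77148 (iv3 F425059)) (tt N64180 (iv4 F425057)) (tt N103068 (iv5 F439938)) (tt N64178 F425058) (tt N99764 (iv7 F426125)))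
theorem Q75047 : ∀ i, i < 75047 → P i := stepQ 75046 Q75046 (allL N75046 (tt N41870 (iv1 D146823)) (tt N99540 F425053) (tt N99764 (iv2 F426124)) (tt N109134 D212362) (tt N98553 (iv4 F421309)) (tt N109135 D212363) (tt N98552 F421310) (tt N99765 (iv7 F426127)))
theorem Q75048 : ∀ i, i < 75048 → P i := stepQ 75047 Q75047 (allL N75047 (tt N100199 (iv1 F427958)) (tt N50596 F418372) (tt N108061 (iv2 F460937)) (tt N41871 F230171) (tt N63306 (iv4 F361652)) (tt N41870 (iv5 D146824)) (tt N109136 D212364) (tt N99766 (iv7 F426132)))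
theorem Q75049 : ∀ i, i < 75049 → P i := stepQ 75048 Q75048 (allL N75048 (tt N98735 F422082) (tt N78990 F426295) (tt N108062 (iv2 F460943)) (tt N41872 F230172) (tt N99803 (iv4 F426292)) (tt N107111 (iv5 F457028)) (tt N41870 (iv6 D146825)) (tt N105292 (iv7 F449594)))
theorem Q75050 : ∀ i, i < 75050 → P i := stepQ 75049 Q75049 (allL N75049 (tt N104514 F446099) (tt N69102 (iv0 F365823)) (tt N41918 F230173) (tt N109136 (iv3 F465507)) (tt N67515 F365822) (tt N107112 (iv5 F457034)) (tt N41871 (iv6 D146826)) (tt N109137 D212365))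
theorem Q75051 : ∀ i, i < 75051 → P i := stepQ 75050 Q75050 (allL N75050 (tt N109138 D212366) (tt N75741 F243397) (tt N41922 F230183) (tt N91115 (iv3 F391996)) (tt N41873 (iv4 D146832)) (tt N96265 (iv5 F411797)) (tt N62860 (iv6 F359454)) (tt N41924 F230184))
theorem Q75052 : ∀ i, i < 75052 → P i := stepQ 75051 Q75051 (allL N75051 (tt N75741 F243394) (tt N109138 F465518) (tt N41924 F230191) (tt N47996 F361423) (tt N41874 (iv4 D146835)) (tt N109139 D212367) (tt N44032 F230192) (tt N41922 F230193))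
theorem Q75053 : ∀ i, i < 75053 → P i := stepQ 75052 Q75052 (allL N75052 (tt N99608 F425395) (tt N109140 D212368) (tt N41928 F230199) (tt N94576 (iv3 F405027)) (tt N41875 (iv4 D146837)) (tt N109141 D212369) (tt N41877 F230200) (tt N105346 (iv7 F449804)))
theorem Q75054 : ∀ i, i < 75054 → P i := stepQ 75053 Q75053 (allL N75053 (tt N41927 (iv1 F230203)) (tt N41926 F230204) (tt N41929 F230201) (tt N79100 (iv3 F252552)) (tt N105346 (iv4 F449803)) (tt N41876 F230202) (tt N75995 (iv6 F235306)) (tt N41875 (iv7 D146838)))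
theorem Q75055 : ∀ i, i < 75055 → P i := stepQ 75054 Q75054 (allL N75054 (tt N61272 F230208) (tt N43196 (iv0 F230209)) (tt N64465 (iv2 F230210)) (tt N41877 (iv3 D146839)) (tt N63947 F230205) (tt N48421 F230206) (tt N94576 F405032) (tt N47422 F332284))
theorem Q75056 : ∀ i, i < 75056 → P i := stepQ 75055 Q75055 (allL N75055 (tt N55736 F230213) (tt N60923 F230214) (tt N60925 F230211) (tt N72018 (iv3 F230215)) (tt N41878 (iv4 D146840)) (tt N106569 (iv5 F454894)) (tt N109142 D212370) (tt N60926 F230212))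
theorem Q75057 : ∀ i, i < 75057 → P i := stepQ 75056 Q75056 (allL N75056 (tt N105318 F449689) (tt N70440 (iv0 F363750)) (tt N84930 (iv2 F371114)) (tt N41881 F230216) (tt N109142 (iv4 F465539)) (tt N43225 F230217) (tt N41878 (iv6 D146841)) (tt N105319 (iv7 F449695)))
theorem Q75058 : ∀ i, i < 75058 → P i := stepQ 75057 Q75057 (allL N75057 (tt N75428 F231473) (tt N56075 (iv0 F234157)) (tt N62701 F230218) (tt N66641 F230219) (tt N42239 F230220) (tt N43226 F230221) (tt N41879 (iv6 D146842)) (tt N83301 F355580))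
theorem Q75059 : ∀ i, i < 75059 → P i := stepQ 75058 Q75058 (allL N75058 (tt N41882 (iv1 F230230)) (tt N41880 (iv0 D146843)) (tt N75021 (iv2 F230231)) (tt N67795 F339348) (tt N60870 F230229) (tt N103841 (iv5 F443046)) (tt N67556 (iv6 F363937)) (tt N60883 (iv7 F230232)))
theorem Q75060 : ∀ i, i < 75060 → P i := stepQ 75059 Q75059 (allL N75059 (tt N41880 (iv1 D146844)) (tt N41882 F230233) (tt N60883 (iv2 F230236)) (tt N109143 D212371) (tt N60882 F230235) (tt N109144 D212372) (tt N109145 D212373) (tt N75021 F230234))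
theorem Q75061 : ∀ i, i < 75061 → P i := stepQ 75060 Q75060 (allL N75060 (tt N103785 F442806) (tt N95858 (iv0 F409981)) (tt N72019 (iv2 F230238)) (tt N41880 (iv3 D146845)) (tt N72018 F230237) (tt N106406 (iv5 F454319)) (tt N105935 (iv6 F452419)) (tt N97796 (iv7 F418339)))
theorem Q75062 : ∀ i, i < 75062 → P i := stepQ 75061 Q75061 (allL N75061 (tt N103520 (iv1 F441928)) (tt N109146 D212374) (tt N97803 (iv2 F418362)) (tt N106406 (iv3 F454317)) (tt N41916 F230239) (tt N41880 (iv5 D146846)) (tt N106404 F454314) (tt N97797 (iv7 F418345)))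
theorem Q75063 : ∀ i, i < 75063 → P i := stepQ 75062 Q75062 (allL N75062 (tt N92785 (iv1 F398216)) (tt N41881 (iv0 D146848)) (tt N56169 F361694) (tt N69221 (iv3 F361692)) (tt N102620 (iv4 F437927)) (tt N104961 (iv5 F448155)) (tt N69220 F361691) (tt N66080 (iv7 F361693)))
theorem Q75064 : ∀ i, i < 75064 → P i := stepQ 75063 Q75063 (allL N75063 (tt N66080 (iv1 F359186)) (tt N56169 F359187) (tt N92785 F398219) (tt N105319 (iv3 F449692)) (tt N70706 F359189) (tt N43231 F230241) (tt N97801 (iv6 F418358)) (tt N41881 (iv7 D146850)))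
theorem Q75065 : ∀ i, i < 75065 → P i := stepQ 75064 Q75064 (allL N75064 (tt N109147 D212375) (tt N109148 D212376) (tt N109149 D212377) (tt N41882 (iv3 D146851)) (tt N109090 (iv4 F465284)) (tt N109150 D212378) (tt N103701 F454806) (tt N97802 (iv7 F418361)))
theorem Q75066 : ∀ i, i < 75066 → P i := stepQ 75065 Q75065 (allL N75065 (tt N109146 (iv1 F465560)) (tt N103520 (iv0 F441927)) (tt N97797 (iv2 F418343)) (tt N109150 (iv3 F465583)) (tt N41915 F230242) (tt N41882 (iv5 D146852)) (tt N109151 D212379) (tt N97803 (iv7 F418364)))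
theorem Q75067 : ∀ i, i < 75067 → P i := stepQ 75066 Q75066 (allL N75066 (tt N104635 F446629) (tt N104709 F452057) (tt N97798 (iv2 F418347)) (tt N103701 (iv3 F454805)) (tt N41883 F230243) (tt N109152 D212380) (tt N41882 (iv6 D146853)) (tt N105939 (iv7 F452434)))
theorem Q75068 : ∀ i, i < 75068 → P i := stepQ 75067 Q75067 (allL N75067 (tt N97801 (iv1 F418360)) (tt N41883 (iv0 D146854)) (tt N97799 F418350) (tt N56176 F415797) (tt N109127 (iv4 F465454)) (tt N105673 (iv5 F451194)) (tt N70600 F415798) (tt N92791 F415799))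
theorem Q75069 : ∀ i, i < 75069 → P i := stepQ 75068 Q75068 (allL N75068 (tt N41883 (iv1 D146855)) (tt N97801 F418359) (tt N92791 (iv2 F398247)) (tt N54749 F230245) (tt N109128 F465458) (tt N89873 (iv5 F387817)) (tt N54748 (iv6 F230244)) (tt N97799 (iv7 F418352)))
theorem Q75070 : ∀ i, i < 75070 → P i := stepQ 75069 Q75069 (allL N75069 (tt N92791 F398251) (tt N97799 F418353) (tt N97801 (iv2 F418357)) (tt N109092 (iv3 F465297)) (tt N105939 (iv4 F452433)) (tt N100330 (iv5 F428444)) (tt N92785 F398221) (tt N41883 (iv7 D146856)))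
theorem Q75071 : ∀ i, i < 75071 → P i := stepQ 75070 Q75070 (allL N75070 (tt N109153 D212381) (tt N68201 (iv0 F367056)) (tt N84932 (iv2 F371122)) (tt N41886 F230246) (tt N82992 F367055) (tt N86464 F376294) (tt N41884 (iv6 D146857)) (tt N86721 (iv7 F376903)))
theorem Q75072 : ∀ i, i < 75072 → P i := stepQ 75071 Q75071 (allL N75071 (tt N41885 (iv1 D146859)) (tt N41887 F230251) (tt N60866 (iv2 F230254)) (tt N103736 (iv3 F442624)) (tt N42357 F230253) (tt N109146 (iv5 F465562)) (tt N103778 (iv6 F442775)) (tt N60865 F230252))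
theorem Q75073 : ∀ i, i < 75073 → P i := stepQ 75072 Q75072 (allL N75072 (tt N105498 (iv1 F450482)) (tt N71792 (iv0 F411284)) (tt N106522 F454765) (tt N41885 (iv3 D146860)) (tt N96158 F411283) (tt N95985 F411286) (tt N109154 D212382) (tt N97865 (iv7 F418581)))
theorem Q75074 : ∀ i, i < 75074 → P i := stepQ 75073 Q75073 (allL N75073 (tt N97959 (iv1 F418972)) (tt N103714 (iv0 F442560)) (tt N75579 (iv2 F231940)) (tt N95985 (iv3 F411287)) (tt N41913 F230255) (tt N41885 (iv5 D146861)) (tt N109155 D212383) (tt N75581 (iv7 F231948)))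
theorem Q75075 : ∀ i, i < 75075 → P i := stepQ 75074 Q75074 (allL N75074 (tt N68919 F379625) (tt N103780 F442785) (tt N97869 (iv2 F418597)) (tt N109154 (iv3 F465602)) (tt N41886 F230256) (tt N109156 D212384) (tt N41885 (iv6 D146862)) (tt N103705 (iv7 F442539)))
theorem Q75076 : ∀ i, i < 75076 → P i := stepQ 75075 Q75075 (allL N75075 (tt N97871 (iv1 F418610)) (tt N41886 (iv0 D146863)) (tt N92852 (iv2 F398511)) (tt N68198 (iv3 F398503)) (tt N103563 (iv4 F442056)) (tt N104829 (iv5 F447502)) (tt N92849 F398502) (tt N97870 (iv7 F418602)))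
theorem Q75077 : ∀ i, i < 75077 → P i := stepQ 75076 Q75076 (allL N75076 (tt N41886 (iv1 D146864)) (tt N97871 F418609) (tt N97870 (iv2 F418604)) (tt N57262 (iv3 F398516)) (tt N109157 D212385) (tt N104830 (iv5 F447508)) (tt N70764 (iv6 F398517)) (tt N92852 F398515))
theorem Q75078 : ∀ i, i < 75078 → P i := stepQ 75077 Q75077 (allL N75077 (tt N97870 (iv1 F418601)) (tt N92852 (iv0 F398514)) (tt N97871 (iv2 F418606)) (tt N86721 (iv3 F376902)) (tt N103705 (iv4 F442538)) (tt N86719 F376889) (tt N97867 (iv6 F418593)) (tt N41886 (iv7 D146865)))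
theorem Q75079 : ∀ i, i < 75079 → P i := stepQ 75078 Q75078 (allL N75078 (tt N109158 D212386) (tt N103774 (iv0 F453388)) (tt N106992 (iv2 F456550)) (tt N41887 (iv3 D146866)) (tt N79082 (iv4 F252189)) (tt N109159 D212387) (tt N103703 (iv6 F442533)) (tt N97868 (iv7 F418596)))
theorem Q75080 : ∀ i, i < 75080 → P i := stepQ 75079 Q75079 (allL N75079 (tt N103714 (iv1 F442561)) (tt N97959 (iv0 F418971)) (tt N75581 (iv2 F231946)) (tt N109159 (iv3 F465624)) (tt N41910 F230257) (tt N41887 (iv5 D146867)) (tt N109160 D212388) (tt N75579 (iv7 F231941)))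
theorem Q75081 : ∀ i, i < 75081 → P i := stepQ 75080 Q75080 (allL N75080 (tt N97867 (iv1 F418595)) (tt N41888 (iv0 D146869)) (tt N68194 (iv2 F355403)) (tt N60721 F355404) (tt N103745 (iv4 F442648)) (tt N74779 F355405) (tt N70443 F371308) (tt N97866 (iv7 F418585)))
theorem Q75082 : ∀ i, i < 75082 → P i := stepQ 75081 Q75081 (allL N75081 (tt N97866 (iv1 F418584)) (tt N68194 (iv0 F334259)) (tt N97867 (iv2 F418589)) (tt N79081 (iv3 F252183)) (tt N68894 F347376) (tt N79072 (iv5 F252146)) (tt N97871 (iv6 F418608)) (tt N41888 (iv7 D146871)))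
theorem Q75083 : ∀ i, i < 75083 → P i := stepQ 75082 Q75082 (allL N75082 (tt N109161 D212389) (tt N109162 D212390) (tt N109163 D212391) (tt N41889 (iv3 D146872)) (tt N75728 (iv4 F233566)) (tt N109164 D212392) (tt N102492 (iv6 F437421)) (tt N75695 (iv7 F233470)))
theorem Q75084 : ∀ i, i < 75084 → P i := stepQ 75083 Q75083 (allL N75083 (tt N63001 F230260) (tt N60733 F230261) (tt N75583 F231953) (tt N109164 (iv3 F465640)) (tt N41906 F230259) (tt N41889 (iv5 D146873)) (tt N92280 (iv6 F396563)) (tt N75584 (iv7 F231956)))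
theorem Q75085 : ∀ i, i < 75085 → P i := stepQ 75084 Q75084 (allL N75084 (tt N103563 F442055) (tt N109157 (iv0 F465622)) (tt N97873 (iv2 F418614)) (tt N102492 (iv3 F437420)) (tt N75696 (iv4 F233473)) (tt N88711 (iv5 F383950)) (tt N41889 (iv6 D146874)) (tt N109165 D212393))
theorem Q75086 : ∀ i, i < 75086 → P i := stepQ 75085 Q75085 (allL N75085 (tt N103740 (iv1 F442637)) (tt N66407 (iv0 F350888)) (tt N103661 (iv2 F442403)) (tt N41890 (iv3 D146875)) (tt N74903 F230262) (tt N109166 D212394) (tt N68868 (iv6 F363919)) (tt N97872 (iv7 F418612)))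
theorem Q75087 : ∀ i, i < 75087 → P i := stepQ 75086 Q75086 (allL N75086 (tt N60733 F230264) (tt N63001 F230265) (tt N75584 F231959) (tt N109166 (iv3 F465649)) (tt N41901 F230263) (tt N41890 (iv5 D146876)) (tt N109167 D212395) (tt N75583 F231954))
theorem Q75088 : ∀ i, i < 75088 → P i := stepQ 75087 Q75087 (allL N75087 (tt N103745 (iv1 F442650)) (tt N68963 (iv0 F363918)) (tt N75692 (iv2 F233453)) (tt N68868 F363917) (tt N69509 (iv4 F338614)) (tt N92275 (iv5 F396552)) (tt N41890 (iv6 D146877)) (tt N103659 (iv7 F442395)))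
theorem Q75089 : ∀ i, i < 75089 → P i := stepQ 75088 Q75088 (allL N75088 (tt N97676 F417877) (tt N41891 (iv0 D146878)) (tt N97687 (iv2 F417907)) (tt N66406 F365735) (tt N96096 (iv4 F411028)) (tt N98707 (iv5 F421943)) (tt N106132 (iv6 F453282)) (tt N97686 F417902))
theorem Q75090 : ∀ i, i < 75090 → P i := stepQ 75089 Q75089 (allL N75089 (tt N41891 (iv1 D146879)) (tt N97676 (iv0 F417876)) (tt N97686 (iv2 F417903)) (tt N105124 (iv3 F448902)) (tt N97493 (iv4 F417093)) (tt N67120 F417094) (tt N98713 (iv6 F421970)) (tt N97687 (iv7 F417905)))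
theorem Q75091 : ∀ i, i < 75091 → P i := stepQ 75090 Q75090 (allL N75090 (tt N97687 (iv1 F417904)) (tt N97686 F417900) (tt N41891 (iv2 D146880)) (tt N103604 (iv3 F442201)) (tt N66626 F230267) (tt N109168 D212396) (tt N97850 F418505) (tt N97676 (iv7 F417875)))
theorem Q75092 : ∀ i, i < 75092 → P i := stepQ 75091 Q75091 (allL N75091 (tt N109169 D212397) (tt N109170 D212398) (tt N109168 (iv2 F465657)) (tt N41892 F230268) (tt N86097 F375116) (tt N41891 (iv5 D146881)) (tt N86096 (iv6 F375117)) (tt N97688 (iv7 F417910)))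
theorem Q75093 : ∀ i, i < 75093 → P i := stepQ 75092 Q75092 (allL N75092 (tt N97853 (iv1 F418519)) (tt N66605 (iv0 F383701)) (tt N97850 F418504) (tt N41893 F230269) (tt N60506 (iv4 F395590)) (tt N109171 D212399) (tt N41891 (iv6 D146882)) (tt N97851 (iv7 F418507)))
theorem Q75094 : ∀ i, i < 75094 → P i := stepQ 75093 Q75093 (allL N75093 (tt N109172 D212400) (tt N109173 D212401) (tt N90073 (iv2 F388494)) (tt N86096 F375118) (tt N99767 (iv4 F426139)) (tt N109174 D212402) (tt N41892 (iv6 D146883)) (tt N109175 D212403))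
theorem Q75095 : ∀ i, i < 75095 → P i := stepQ 75094 Q75094 (allL N75094 (tt N67525 (iv1 F325466)) (tt N41893 (iv0 D146884)) (tt N84997 (iv2 F426335)) (tt N109176 D212404) (tt N85052 (iv4 F371466)) (tt N109177 D212405) (tt N109178 D212406) (tt N84998 F426340))
theorem Q75096 : ∀ i, i < 75096 → P i := stepQ 75095 Q75095 (allL N75095 (tt N41893 (iv1 D146885)) (tt N67525 (iv0 F325465)) (tt N84998 F426339) (tt N103491 (iv3 F441848)) (tt N85021 (iv4 F371389)) (tt N109179 D212407) (tt N109180 D212408) (tt N84997 (iv7 F426336)))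
theorem Q75097 : ∀ i, i < 75097 → P i := stepQ 75096 Q75096 (allL N75096 (tt N109181 D212409) (tt N109182 D212410) (tt N85000 (iv2 F371324)) (tt N109171 (iv3 F465667)) (tt N90904 (iv4 F391220)) (tt N41893 (iv5 D146886)) (tt N109174 (iv6 F465672)) (tt N102796 F438679))
theorem Q75098 : ∀ i, i < 75098 → P i := stepQ 75097 Q75097 (allL N75097 (tt N67536 F363894) (tt N103778 F442776) (tt N84995 (iv2 F371315)) (tt N109183 D212411) (tt N41894 (iv4 D146888)) (tt N109184 D212412) (tt N103708 (iv6 F442544)) (tt N84955 (iv7 F371173)))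
theorem Q75099 : ∀ i, i < 75099 → P i := stepQ 75098 Q75098 (allL N75098 (tt N104959 F448146) (tt N105799 (iv0 F451774)) (tt N84996 (iv2 F371318)) (tt N50914 F230272) (tt N103708 F442543) (tt N85304 (iv5 F372222)) (tt N41894 (iv6 D146889)) (tt N109185 D212413))
theorem Q75100 : ∀ i, i < 75100 → P i := stepQ 75099 Q75099 (allL N75099 (tt N53662 (iv1 F371161)) (tt N84933 (iv0 F371162)) (tt N50915 F230273) (tt N41895 (iv3 D146890)) (tt N86004 (iv4 F374846)) (tt N85784 (iv5 F373927)) (tt N109186 D212414) (tt N84948 (iv7 F371159)))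
theorem Q75101 : ∀ i, i < 75101 → P i := stepQ 75100 Q75100 (allL N75100 (tt N103778 (iv1 F442777)) (tt N67536 F371175) (tt N84955 (iv2 F371172)) (tt N109187 D212415) (tt N41895 (iv4 D146891)) (tt N109188 D212416) (tt N109189 D212417) (tt N84995 (iv7 F371316)))
theorem Q75102 : ∀ i, i < 75102 → P i := stepQ 75101 Q75101 (allL N75101 (tt N56195 (iv1 F397798)) (tt N92849 (iv0 F398501)) (tt N84956 (iv2 F371176)) (tt N109186 (iv3 F465702)) (tt N109189 (iv4 F465710)) (tt N76667 F239691) (tt N41895 (iv6 D146892)) (tt N76666 (iv7 F239692)))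
theorem Q75103 : ∀ i, i < 75103 → P i := stepQ 75102 Q75102 (allL N75102 (tt N69970 (iv1 F342810)) (tt N69979 (iv0 F342809)) (tt N69978 F363096) (tt N41898 (iv3 D146893)) (tt N73660 (iv4 F325092)) (tt N109116 (iv5 F465411)) (tt N109190 D212418) (tt N69977 (iv7 F363094)))
theorem Q75104 : ∀ i, i < 75104 → P i := stepQ 75103 Q75103 (allL N75103 (tt N89913 F387985) (tt N99768 (iv0 F426143)) (tt N75744 (iv2 F233619)) (tt N109190 (iv3 F465714)) (tt N74413 F230275) (tt N83512 F365327) (tt N41898 (iv6 D146894)) (tt N99785 (iv7 F426207)))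
theorem Q75105 : ∀ i, i < 75105 → P i := stepQ 75104 Q75104 (allL N75104 (tt N72796 F230277) (tt N81521 (iv0 F362988)) (tt N108069 F460984) (tt N41899 (iv3 D146895)) (tt N74392 F230276) (tt N82909 (iv5 F359700)) (tt N109191 D212419) (tt N75742 (iv7 F233613)))
theorem Q75106 : ∀ i, i < 75106 → P i := stepQ 75105 Q75105 (allL N75105 (tt N41922 F230279) (tt N41924 F230280) (tt N75741 (iv2 F233609)) (tt N109191 (iv3 F465720)) (tt N74422 F230278) (tt N109192 D212420) (tt N41899 (iv6 D146896)) (tt N109138 (iv7 F465519)))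
theorem Q75107 : ∀ i, i < 75107 → P i := stepQ 75106 Q75106 (allL N75106 (tt N75747 (iv1 F233625)) (tt N41900 (iv0 D146897)) (tt N75746 F403169) (tt N107323 (iv3 F457964)) (tt N95831 (iv4 F409849)) (tt N96439 (iv5 F412524)) (tt N95834 (iv6 F409866)) (tt N75745 F403167))
theorem Q75108 : ∀ i, i < 75108 → P i := stepQ 75107 Q75107 (allL N75107 (tt N41900 (iv1 D146898)) (tt N75747 F233627) (tt N75745 (iv2 F403165)) (tt N109193 D212421) (tt N79066 (iv4 F252117)) (tt N109111 (iv5 F465389)) (tt N109194 D212422) (tt N75746 (iv7 F403168)))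
theorem Q75109 : ∀ i, i < 75109 → P i := stepQ 75108 Q75108 (allL N75108 (tt N75746 (iv1 F233626)) (tt N75745 F233621) (tt N41900 (iv2 D146899)) (tt N99769 (iv3 F426144)) (tt N75754 (iv4 F233673)) (tt N109195 D212423) (tt N85824 (iv6 F374133)) (tt N75747 (iv7 F233624)))
theorem Q75110 : ∀ i, i < 75110 → P i := stepQ 75109 Q75109 (allL N75109 (tt N96477 F412684) (tt N109196 D212424) (tt N109195 (iv2 F465743)) (tt N41901 F230281) (tt N109197 D212425) (tt N41900 (iv5 D146900)) (tt N109198 D212426) (tt N75748 (iv7 F233629)))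
theorem Q75111 : ∀ i, i < 75111 → P i := stepQ 75110 Q75110 (allL N75110 (tt N85827 F374139) (tt N85826 (iv0 F374136)) (tt N85824 F374132) (tt N41902 F230282) (tt N75761 (iv4 F233683)) (tt N109199 D212427) (tt N41900 (iv6 D146901)) (tt N85825 (iv7 F374131)))
theorem Q75112 : ∀ i, i < 75112 → P i := stepQ 75111 Q75111 (allL N75111 (tt N41906 (iv1 F230284)) (tt N41901 (iv0 D146902)) (tt N75025 (iv2 F230285)) (tt N99887 (iv3 F426685)) (tt N103841 (iv4 F443045)) (tt N56064 F230283) (tt N101844 (iv6 F434624)) (tt N75024 (iv7 F230286)))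
theorem Q75113 : ∀ i, i < 75113 → P i := stepQ 75112 Q75112 (allL N75112 (tt N41901 (iv1 D146903)) (tt N41906 F230287) (tt N75024 (iv2 F230290)) (tt N75376 (iv3 F231387)) (tt N109144 (iv4 F465549)) (tt N62737 F230289) (tt N109200 D212428) (tt N75025 F230288))
theorem Q75114 : ∀ i, i < 75114 → P i := stepQ 75113 Q75113 (allL N75113 (tt N109201 D212429) (tt N109202 D212430) (tt N84761 F370530) (tt N109198 (iv3 F465759)) (tt N109167 (iv4 F465653)) (tt N109203 D212431) (tt N41901 (iv6 D146904)) (tt N109204 D212432))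
theorem Q75115 : ∀ i, i < 75115 → P i := stepQ 75114 Q75114 (allL N75114 (tt N99772 (iv1 F426163)) (tt N41902 (iv0 D146905)) (tt N99770 F426153) (tt N63526 F357749) (tt N74423 F230291) (tt N109205 D212433) (tt N92604 (iv6 F397601)) (tt N63648 (iv7 F357746)))
theorem Q75116 : ∀ i, i < 75116 → P i := stepQ 75115 Q75115 (allL N75115 (tt N41902 (iv1 D146906)) (tt N99772 F426162) (tt N63648 F357742) (tt N65172 (iv3 F357741)) (tt N74424 F357743) (tt N109206 D212434) (tt N65170 F357744) (tt N99770 (iv7 F426155)))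
theorem Q75117 : ∀ i, i < 75117 → P i := stepQ 75116 Q75116 (allL N75116 (tt N99949 (iv1 F426921)) (tt N107542 F458703) (tt N99771 (iv2 F426157)) (tt N109199 (iv3 F465763)) (tt N109207 D212435) (tt N41902 (iv5 D146907)) (tt N109203 (iv6 F465778)) (tt N109208 D212436))
theorem Q75118 : ∀ i, i < 75118 → P i := stepQ 75117 Q75117 (allL N75117 (tt N63648 F357748) (tt N99770 F426156) (tt N99772 (iv2 F426158)) (tt N85825 F374128) (tt N41904 F230292) (tt N109208 (iv5 F465792)) (tt N44872 F230293) (tt N41902 (iv7 D146908)))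
theorem Q75119 : ∀ i, i < 75119 → P i := stepQ 75118 Q75118 (allL N75118 (tt N84723 (iv1 F370352)) (tt N41911 F338164) (tt N44040 F230294) (tt N77356 (iv3 F354933)) (tt N41903 (iv4 D146909)) (tt N109209 D212437) (tt N44024 F230295) (tt N64626 (iv7 F354935)))
theorem Q75120 : ∀ i, i < 75120 → P i := stepQ 75119 Q75119 (allL N75119 (tt N99991 F427085) (tt N45307 F310775) (tt N44041 F230296) (tt N43900 (iv3 F306173)) (tt N101196 (iv4 F432139)) (tt N41903 (iv5 D146910)) (tt N43899 F305943) (tt N99773 (iv7 F426167)))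
theorem Q75121 : ∀ i, i < 75121 → P i := stepQ 75120 Q75120 (allL N75120 (tt N99769 (iv1 F426149)) (tt N41905 (iv0 D146911)) (tt N85583 F373117) (tt N59217 F343208) (tt N95151 (iv4 F407240)) (tt N53159 (iv5 F366644)) (tt N59215 (iv6 F343209)) (tt N69993 (iv7 F343210)))
theorem Q75122 : ∀ i, i < 75122 → P i := stepQ 75121 Q75121 (allL N75121 (tt N41905 (iv1 D146912)) (tt N99769 F426150) (tt N69993 (iv2 F343196)) (tt N72767 (iv3 F230298)) (tt N90782 (iv4 F390825)) (tt N53160 (iv5 F373126)) (tt N84345 (iv6 F373128)) (tt N85583 (iv7 F373116)))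
theorem Q75123 : ∀ i, i < 75123 → P i := stepQ 75122 Q75122 (allL N75122 (tt N85583 (iv1 F373129)) (tt N69993 F360248) (tt N41905 (iv2 D146913)) (tt N75747 (iv3 F233622)) (tt N102951 (iv4 F439403)) (tt N105593 (iv5 F450893)) (tt N69935 F354739) (tt N99769 (iv7 F426148)))
theorem Q75124 : ∀ i, i < 75124 → P i := stepQ 75123 Q75123 (allL N75123 (tt N105427 F450217) (tt N105650 F451115) (tt N105593 (iv2 F450891)) (tt N41906 F230299) (tt N53117 (iv4 F354742)) (tt N41905 (iv5 D146914)) (tt N53116 F354740) (tt N84763 (iv7 F370525)))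
theorem Q75125 : ∀ i, i < 75125 → P i := stepQ 75124 Q75124 (allL N75124 (tt N105616 (iv1 F450984)) (tt N105612 F450975) (tt N75749 (iv2 F233630)) (tt N53116 (iv3 F354741)) (tt N92280 F396564) (tt N103356 (iv5 F441254)) (tt N41906 (iv6 D146916)) (tt N105595 (iv7 F450905)))
theorem Q75126 : ∀ i, i < 75126 → P i := stepQ 75125 Q75125 (allL N75125 (tt N44872 (iv1 F230307)) (tt N41907 (iv0 D146917)) (tt N44868 F230314) (tt N52294 F339705) (tt N75779 (iv4 F233901)) (tt N52314 F347316) (tt N52292 (iv6 F360626)) (tt N44869 F230313))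
theorem Q75127 : ∀ i, i < 75127 → P i := stepQ 75126 Q75126 (allL N75126 (tt N41907 (iv1 D146918)) (tt N44872 F230301) (tt N44869 (iv2 F230303)) (tt N62868 F360610) (tt N74419 F230302) (tt N70985 (iv5 F347314)) (tt N62865 (iv6 F360608)) (tt N44868 (iv7 F230315)))
theorem Q75128 : ∀ i, i < 75128 → P i := stepQ 75127 Q75127 (allL N75127 (tt N66194 (iv1 F336998)) (tt N66199 F336997) (tt N44871 F230304) (tt N68685 (iv3 F354726)) (tt N67549 F336983) (tt N41907 (iv5 D146919)) (tt N103356 (iv6 F441255)) (tt N69936 F336986))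
theorem Q75129 : ∀ i, i < 75129 → P i := stepQ 75128 Q75128 (allL N75128 (tt N44869 (iv1 F230308)) (tt N44868 F230316) (tt N44872 F230305) (tt N69937 F354736) (tt N41908 F230306) (tt N69936 (iv5 F337000)) (tt N99772 (iv6 F426161)) (tt N41907 (iv7 D146920)))
theorem Q75130 : ∀ i, i < 75130 → P i := stepQ 75129 Q75129 (allL N75129 (tt N58960 (iv1 F341458)) (tt N41909 (iv0 D146921)) (tt N64755 (iv2 F357131)) (tt N75760 F233679) (tt N69989 F342816) (tt N100605 (iv5 F429671)) (tt N63928 (iv6 F356376)) (tt N59313 F341463))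
theorem Q75131 : ∀ i, i < 75131 → P i := stepQ 75130 Q75130 (allL N75130 (tt N63896 F341470) (tt N63962 F341477) (tt N63960 (iv2 F341494)) (tt N41910 F230326) (tt N94661 (iv4 F405416)) (tt N41909 (iv5 D146924)) (tt N94659 (iv6 F405405)) (tt N57726 (iv7 F341453)))
theorem Q75132 : ∀ i, i < 75132 → P i := stepQ 75131 Q75131 (allL N75131 (tt N109210 D212438) (tt N109211 D212439) (tt N75582 (iv2 F231949)) (tt N94659 (iv3 F405403)) (tt N109160 (iv4 F465626)) (tt N109212 D212440) (tt N41910 (iv6 D146926)) (tt N94656 (iv7 F405394)))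
theorem Q75133 : ∀ i, i < 75133 → P i := stepQ 75132 Q75132 (allL N75132 (tt N89354 (iv1 F386230)) (tt N89353 F386234) (tt N89356 (iv2 F386231)) (tt N64811 (iv3 F363299)) (tt N109213 D212441) (tt N41911 (iv5 D146929)) (tt N109212 (iv6 F465802)) (tt N89355 F386229))
theorem Q75134 : ∀ i, i < 75134 → P i := stepQ 75133 Q75133 (allL N75133 (tt N84722 (iv1 F370345)) (tt N41912 (iv0 D146931)) (tt N96228 (iv2 F411601)) (tt N85602 (iv3 F373187)) (tt N54839 F377180) (tt N85601 F373186) (tt N96225 F411583) (tt N99774 (iv7 F426177)))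
theorem Q75135 : ∀ i, i < 75135 → P i := stepQ 75134 Q75134 (allL N75134 (tt N41912 (iv1 D146932)) (tt N84722 F370344) (tt N99774 F426175) (tt N108071 (iv3 F460991)) (tt N54838 (iv4 F365208)) (tt N109214 D212442) (tt N92230 (iv6 F396377)) (tt N96228 F411605))
theorem Q75136 : ∀ i, i < 75136 → P i := stepQ 75135 Q75135 (allL N75135 (tt N96228 (iv1 F411604)) (tt N99774 F426176) (tt N41912 (iv2 D146933)) (tt N58960 F363300) (tt N74774 F230328) (tt N94589 (iv5 F405092)) (tt N58959 (iv6 F363301)) (tt N84722 (iv7 F370343)))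
theorem Q75137 : ∀ i, i < 75137 → P i := stepQ 75136 Q75136 (allL N75136 (tt N107480 (iv1 F458468)) (tt N101200 (iv0 F432163)) (tt N94589 (iv2 F405089)) (tt N41913 F230329) (tt N72423 (iv4 F357472)) (tt N41912 (iv5 D146934)) (tt N94586 (iv6 F405073)) (tt N75580 (iv7 F231945)))
theorem Q75138 : ∀ i, i < 75138 → P i := stepQ 75137 Q75137 (allL N75137 (tt N49717 (iv1 F368673)) (tt N71780 (iv0 F347383)) (tt N58959 F363302) (tt N41914 F230331) (tt N74776 F230332) (tt N58958 F336974) (tt N41912 (iv6 D146935)) (tt N84724 (iv7 F370356)))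
theorem Q75139 : ∀ i, i < 75139 → P i := stepQ 75138 Q75138 (allL N75138 (tt N94654 (iv1 F405391)) (tt N94653 F405381) (tt N57725 (iv2 F341454)) (tt N94586 (iv3 F405071)) (tt N109155 (iv4 F465609)) (tt N57724 F336975) (tt N41913 (iv6 D146936)) (tt N94655 (iv7 F405389)))
theorem Q75140 : ∀ i, i < 75140 → P i := stepQ 75139 Q75139 (allL N75139 (tt N44867 (iv1 F230334)) (tt N44865 F230335) (tt N69799 (iv2 F336972)) (tt N84724 (iv3 F370354)) (tt N74770 F230333) (tt N69850 F336976) (tt N84723 F370351) (tt N41914 (iv7 D146938)))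
theorem Q75141 : ∀ i, i < 75141 → P i := stepQ 75140 Q75140 (allL N75140 (tt N109215 D212443) (tt N107982 (iv0 F460588)) (tt N99776 (iv2 F426184)) (tt N95216 (iv3 F407508)) (tt N109151 (iv4 F465587)) (tt N109216 D212444) (tt N41915 (iv6 D146940)) (tt N109217 D212445))
theorem Q75142 : ∀ i, i < 75142 → P i := stepQ 75141 Q75141 (allL N75141 (tt N85601 (iv1 F393167)) (tt N109214 (iv0 F465812)) (tt N84063 (iv2 F367970)) (tt N41916 (iv3 D146941)) (tt N69690 (iv4 F230338)) (tt N42240 F230337) (tt N51144 (iv6 F347753)) (tt N99775 (iv7 F426181)))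
theorem Q75143 : ∀ i, i < 75143 → P i := stepQ 75142 Q75142 (allL N75142 (tt N88258 (iv1 F382390)) (tt N83824 (iv0 F381222)) (tt N88448 (iv2 F383088)) (tt N51144 F347754) (tt N106404 (iv4 F454313)) (tt N84871 (iv5 F370937)) (tt N41916 (iv6 D146942)) (tt N84064 (iv7 F367976)))
theorem Q75144 : ∀ i, i < 75144 → P i := stepQ 75143 Q75143 (allL N75143 (tt N109218 D212446) (tt N109219 D212447) (tt N103603 (iv2 F442199)) (tt N41917 (iv3 D146943)) (tt N90077 (iv4 F388504)) (tt N69042 (iv5 F365936)) (tt N104604 (iv6 F446499)) (tt N90075 F388502))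
theorem Q75145 : ∀ i, i < 75145 → P i := stepQ 75144 Q75144 (allL N75144 (tt N109137 (iv1 F465515)) (tt N41918 (iv0 D146945)) (tt N104514 (iv2 F446096)) (tt N99503 (iv3 F424892)) (tt N69103 F396490) (tt N99502 F424888) (tt N100569 (iv6 F429509)) (tt N69102 (iv7 F396491)))
theorem Q75146 : ∀ i, i < 75146 → P i := stepQ 75145 Q75145 (allL N75145 (tt N41918 (iv1 D146946)) (tt N109137 F465514) (tt N69102 F398424) (tt N109220 D212448) (tt N69071 (iv4 F398423)) (tt N99532 (iv5 F425008)) (tt N109221 D212449) (tt N104514 F446100))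
theorem Q75147 : ∀ i, i < 75147 → P i := stepQ 75146 Q75146 (allL N75146 (tt N96191 F411420) (tt N107136 F457148) (tt N107112 (iv2 F457032)) (tt N82164 (iv3 F364011)) (tt N107354 (iv4 F458068)) (tt N41918 (iv5 D146947)) (tt N41920 F230340) (tt N107135 (iv7 F457138)))
theorem Q75148 : ∀ i, i < 75148 → P i := stepQ 75147 Q75147 (allL N75147 (tt N69102 (iv1 F365824)) (tt N104514 F446101) (tt N109137 (iv2 F465511)) (tt N108077 (iv3 F461016)) (tt N104610 (iv4 F446526)) (tt N107135 (iv5 F457139)) (tt N99780 (iv6 F426188)) (tt N41918 (iv7 D146948)))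
theorem Q75149 : ∀ i, i < 75149 → P i := stepQ 75148 Q75148 (allL N75148 (tt N56047 F234630) (tt N105278 F449527) (tt N59310 F331663) (tt N62719 F230343) (tt N41919 (iv4 D146956)) (tt N75917 F234593) (tt N67093 (iv6 F230344)) (tt N62725 (iv7 F230345)))
theorem Q75150 : ∀ i, i < 75150 → P i := stepQ 75149 Q75149 (allL N75149 (tt N57512 F356552) (tt N78030 F403699) (tt N78028 F356556) (tt N65378 (iv3 F356548)) (tt N41920 (iv4 D146960)) (tt N94365 (iv5 F404145)) (tt N107354 (iv6 F458066)) (tt N78029 F356551))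
theorem Q75151 : ∀ i, i < 75151 → P i := stepQ 75150 Q75150 (allL N75150 (tt N41924 (iv1 F230353)) (tt N41922 (iv0 D146962)) (tt N109138 F465517) (tt N74983 F361431) (tt N92571 (iv4 F397422)) (tt N109222 D212450) (tt N99785 F426209) (tt N75741 F233611))
theorem Q75152 : ∀ i, i < 75152 → P i := stepQ 75151 Q75151 (allL N75151 (tt N109223 D212451) (tt N109194 (iv0 F465740)) (tt N48012 F361425) (tt N41922 (iv3 D146963)) (tt N47986 F361426) (tt N77959 F361427) (tt N99585 (iv6 F425290)) (tt N47996 F361428))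
theorem Q75153 : ∀ i, i < 75153 → P i := stepQ 75152 Q75152 (allL N75152 (tt N89517 F386701) (tt N96251 (iv0 F411749)) (tt N96265 (iv2 F411795)) (tt N77959 (iv3 F361429)) (tt N94337 (iv4 F404074)) (tt N41922 (iv5 D146964)) (tt N109224 D212452) (tt N109139 (iv7 F465524)))
theorem Q75154 : ∀ i, i < 75154 → P i := stepQ 75153 Q75153 (allL N75153 (tt N59215 F364976) (tt N96260 (iv0 F411782)) (tt N96262 F411788) (tt N41924 (iv3 D146975)) (tt N87208 (iv4 F378768)) (tt N59225 F374450) (tt N87206 F378763) (tt N91115 (iv7 F391997)))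
theorem Q75155 : ∀ i, i < 75155 → P i := stepQ 75154 Q75154 (allL N75154 (tt N96251 (iv1 F411748)) (tt N89517 (iv0 F404116)) (tt N109139 (iv2 F465520)) (tt N59225 (iv3 F374451)) (tt N94354 F404113) (tt N41924 (iv5 D146976)) (tt N73214 F374453) (tt N96265 (iv7 F411798)))
theorem Q75156 : ∀ i, i < 75156 → P i := stepQ 75155 Q75155 (allL N75155 (tt N82239 F339412) (tt N82238 F339413) (tt N44895 F339414) (tt N57390 F335848) (tt N41925 (iv4 D146977)) (tt N48235 F339415) (tt N99600 (iv6 F425352)) (tt N82240 F339416))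
theorem Q75157 : ∀ i, i < 75157 → P i := stepQ 75156 Q75156 (allL N75156 (tt N96291 F411906) (tt N42332 F237522) (tt N78679 (iv2 F250262)) (tt N48163 F230369) (tt N81353 F336909) (tt N41926 (iv5 D146979)) (tt N48162 F230370) (tt N42251 F230371))
theorem Q75158 : ∀ i, i < 75158 → P i := stepQ 75157 Q75157 (allL N75157 (tt N42026 (iv1 F230375)) (tt N75247 F230883) (tt N42277 (iv2 F315593)) (tt N41927 (iv3 D146980)) (tt N61757 F332566) (tt N46530 F313082) (tt N42275 (iv6 F315595)) (tt N61755 (iv7 F332565)))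
theorem Q75159 : ∀ i, i < 75159 → P i := stepQ 75158 Q75158 (allL N75158 (tt N42332 F239156) (tt N96291 (iv0 F411905)) (tt N42251 F230376) (tt N46530 F309430) (tt N109225 D212453) (tt N41927 (iv5 D146982)) (tt N42236 F230377) (tt N78679 (iv7 F250264)))
theorem Q75160 : ∀ i, i < 75160 → P i := stepQ 75159 Q75159 (allL N75159 (tt N105346 F449806) (tt N41928 (iv0 D146984)) (tt N99608 (iv2 F428693)) (tt N79241 (iv3 F428694)) (tt N103097 (iv4 F440053)) (tt N82584 (iv5 F428695)) (tt N99603 F428692) (tt N109140 (iv7 F465527)))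
theorem Q75161 : ∀ i, i < 75161 → P i := stepQ 75160 Q75160 (allL N75160 (tt N41928 (iv1 D146985)) (tt N105346 (iv0 F449805)) (tt N109140 (iv2 F465530)) (tt N94061 (iv3 F403117)) (tt N109226 D212454) (tt N94080 F403116) (tt N103913 (iv6 F443340)) (tt N99608 F428696))
theorem Q75162 : ∀ i, i < 75162 → P i := stepQ 75161 Q75161 (allL N75161 (tt N100650 (iv1 F429845)) (tt N44883 F339817) (tt N82152 F355160) (tt N41928 (iv3 D146986)) (tt N41940 F230379) (tt N65322 F339815) (tt N41933 F230380) (tt N82149 (iv7 F355429)))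
theorem Q75163 : ∀ i, i < 75163 → P i := stepQ 75162 Q75162 (allL N75162 (tt N106187 F453523) (tt N94057 (iv0 F403013)) (tt N109141 (iv2 F465532)) (tt N65322 (iv3 F339816)) (tt N101855 F434682) (tt N41928 (iv5 D146987)) (tt N80640 (iv6 F366671)) (tt N82147 (iv7 F355443)))
theorem Q75164 : ∀ i, i < 75164 → P i := stepQ 75163 Q75163 (allL N75163 (tt N109140 (iv1 F465526)) (tt N99608 F425396) (tt N105346 (iv2 F449801)) (tt N82149 F355430) (tt N41929 F230381) (tt N82147 F355444) (tt N99851 (iv6 F426533)) (tt N41928 (iv7 D146988)))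
theorem Q75165 : ∀ i, i < 75165 → P i := stepQ 75164 Q75164 (allL N75164 (tt N42582 F230393) (tt N42581 F230394) (tt N42530 F230389) (tt N42580 F230390) (tt N41931 (iv4 D146991)) (tt N42481 F230391) (tt N66741 F330012) (tt N42580 F230392))
theorem Q75166 : ∀ i, i < 75166 → P i := stepQ 75165 Q75165 (allL N75165 (tt N42114 (iv1 F305677)) (tt N42042 (iv0 F305672)) (tt N41933 (iv2 D146995)) (tt N64465 F230400) (tt N41942 F230401) (tt N76905 (iv5 F240688)) (tt N82152 (iv6 F355159)) (tt N42094 F305625))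
theorem Q75167 : ∀ i, i < 75167 → P i := stepQ 75166 Q75166 (allL N75166 (tt N42015 (iv1 F230408)) (tt N42014 F230410) (tt N42017 F230404) (tt N48124 F347957) (tt N41934 (iv4 D146996)) (tt N69424 (iv5 F335857)) (tt N41986 F230405) (tt N41987 F230406))
theorem Q75168 : ∀ i, i < 75168 → P i := stepQ 75167 Q75167 (allL N75167 (tt N64017 (iv1 F339813)) (tt N74393 (iv0 F230425)) (tt N41936 F230423) (tt N109227 D212455) (tt N41935 (iv4 D146998)) (tt N65332 (iv5 F355155)) (tt N75015 (iv6 F355126)) (tt N42018 F230424))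
theorem Q75169 : ∀ i, i < 75169 → P i := stepQ 75168 Q75168 (allL N75168 (tt N42018 (iv1 F230434)) (tt N41936 (iv0 D147001)) (tt N64017 F339814) (tt N78715 (iv3 F355446)) (tt N75781 (iv4 F233905)) (tt N65324 F355165) (tt N99789 (iv6 F426221)) (tt N74393 F230435))
theorem Q75170 : ∀ i, i < 75170 → P i := stepQ 75169 Q75169 (allL N75169 (tt N41937 (iv1 D147018)) (tt N70053 F339496) (tt N71805 F352608) (tt N49418 F352609) (tt N69971 (iv4 F339499)) (tt N68238 (iv5 F339497)) (tt N49416 (iv6 F352607)) (tt N70960 (iv7 F328460)))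
theorem Q75171 : ∀ i, i < 75171 → P i := stepQ 75170 Q75170 (allL N75170 (tt N42251 F314051) (tt N78679 F314052) (tt N96291 (iv2 F411902)) (tt N41939 (iv3 D147031)) (tt N64643 F352577) (tt N62469 (iv5 F317643)) (tt N68291 F314054) (tt N42332 (iv7 F315214)))
theorem Q75172 : ∀ i, i < 75172 → P i := stepQ 75171 Q75171 (allL N75171 (tt N41940 (iv1 D147034)) (tt N88208 F382186) (tt N87891 F380989) (tt N88227 (iv3 F382264)) (tt N94099 (iv4 F403201)) (tt N46644 F311834) (tt N46645 F311835) (tt N42187 F309625))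
theorem Q75173 : ∀ i, i < 75173 → P i := stepQ 75172 Q75172 (allL N75172 (tt N42187 F307870) (tt N87891 (iv0 F380987)) (tt N41940 (iv2 D147035)) (tt N99819 (iv3 F426374)) (tt N82152 F355162) (tt N42021 F307871) (tt N41942 F230496) (tt N88208 (iv7 F382187)))
theorem Q75174 : ∀ i, i < 75174 → P i := stepQ 75173 Q75173 (allL N75173 (tt N42045 (iv1 F230527)) (tt N41944 (iv0 D147049)) (tt N42044 F343334) (tt N43197 F343335) (tt N98165 (iv4 F419797)) (tt N79788 F354823) (tt N43196 F343336) (tt N42043 F343337))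
theorem Q75175 : ∀ i, i < 75175 → P i := stepQ 75174 Q75174 (allL N75174 (tt N41944 (iv1 D147050)) (tt N42045 F230528) (tt N42043 F343338) (tt N101736 (iv3 F434100)) (tt N109228 D212456) (tt N79790 F354868) (tt N108252 F461708) (tt N42044 F343339))
theorem Q75176 : ∀ i, i < 75176 → P i := stepQ 75175 Q75175 (allL N75175 (tt N94934 (iv1 F406402)) (tt N94933 (iv0 F406400)) (tt N94936 (iv2 F406407)) (tt N41945 F230529) (tt N99821 (iv4 F426386)) (tt N58863 (iv5 F353503)) (tt N41944 (iv6 D147051)) (tt N94922 (iv7 F406353)))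
theorem Q75177 : ∀ i, i < 75177 → P i := stepQ 75176 Q75176 (allL N75176 (tt N41945 (iv1 D147053)) (tt N42149 F230530) (tt N42151 F338184) (tt N49875 (iv3 F345962)) (tt N62230 F330016) (tt N64241 F338186) (tt N100650 (iv6 F429843)) (tt N42150 F338187))
theorem Q75178 : ∀ i, i < 75178 → P i := stepQ 75177 Q75177 (allL N75177 (tt N42151 (iv1 F230536)) (tt N42150 F230537) (tt N42149 F230532) (tt N94922 (iv3 F406351)) (tt N41949 F230533) (tt N47916 F335059) (tt N42054 F230534) (tt N41945 (iv7 D147055)))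
theorem Q75179 : ∀ i, i < 75179 → P i := stepQ 75178 Q75178 (allL N75178 (tt N107917 (iv1 F460280)) (tt N42067 F241182) (tt N42181 F241164) (tt N86227 (iv3 F375459)) (tt N41946 (iv4 D147058)) (tt N109229 D212457) (tt N65111 F348864) (tt N42185 F241165))
theorem Q75180 : ∀ i, i < 75180 → P i := stepQ 75179 Q75179 (allL N75179 (tt N75005 (iv1 F243030)) (tt N99618 F425443) (tt N42182 F241166) (tt N98408 F420845) (tt N99323 (iv4 F424097)) (tt N41946 (iv5 D147059)) (tt N48445 F351586) (tt N42186 F241167))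
theorem Q75181 : ∀ i, i < 75181 → P i := stepQ 75180 Q75180 (allL N75180 (tt N42067 F237421) (tt N107917 (iv0 F460279)) (tt N42185 F241156) (tt N46275 F354262) (tt N41947 (iv4 D147062)) (tt N109230 D212458) (tt N82212 F354263) (tt N42181 F241157))
theorem Q75182 : ∀ i, i < 75182 → P i := stepQ 75181 Q75181 (allL N75181 (tt N78158 F359424) (tt N78157 (iv0 F330021)) (tt N42190 F230543) (tt N64950 (iv3 F356030)) (tt N41948 (iv4 D147065)) (tt N81957 F356028) (tt N41950 F230544) (tt N101762 (iv7 F434232)))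
theorem Q75183 : ∀ i, i < 75183 → P i := stepQ 75182 Q75182 (allL N75182 (tt N53601 (iv1 F359355)) (tt N96444 (iv0 F412545)) (tt N109231 D212459) (tt N41950 (iv3 D147066)) (tt N43359 F230545) (tt N95698 (iv5 F409190)) (tt N64950 F356032) (tt N43407 F230546))
theorem Q75184 : ∀ i, i < 75184 → P i := stepQ 75183 Q75183 (allL N75183 (tt N74397 F230551) (tt N42429 F333944) (tt N41975 F230549) (tt N101039 (iv3 F431409)) (tt N42424 F230550) (tt N47553 F333945) (tt N41952 (iv6 D147070)) (tt N88474 (iv7 F383197)))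
theorem Q75185 : ∀ i, i < 75185 → P i := stepQ 75184 Q75184 (allL N75184 (tt N41953 (iv1 D147072)) (tt N42010 F230553) (tt N42008 F343349) (tt N99579 (iv3 F425262)) (tt N51288 F343350) (tt N58874 (iv5 F343348)) (tt N47570 F343351) (tt N42009 F343352))
theorem Q75186 : ∀ i, i < 75186 → P i := stepQ 75185 Q75185 (allL N75185 (tt N54426 F343357) (tt N54432 F343358) (tt N92653 (iv2 F397771)) (tt N41955 F230554) (tt N76616 F343359) (tt N81089 F343360) (tt N41953 (iv6 D147073)) (tt N81088 F343361))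
theorem Q75187 : ∀ i, i < 75187 → P i := stepQ 75186 Q75186 (allL N75186 (tt N41986 (iv1 F230561)) (tt N41955 (iv0 D147075)) (tt N41983 F243154) (tt N43235 F310745) (tt N66649 (iv4 F243302)) (tt N43954 F310746) (tt N43233 F310747) (tt N41984 F243156))
theorem Q75188 : ∀ i, i < 75188 → P i := stepQ 75187 Q75187 (allL N75187 (tt N41955 (iv1 D147076)) (tt N41986 F230556) (tt N41984 F243145) (tt N46898 F310750) (tt N62711 (iv4 F243144)) (tt N46887 F310751) (tt N108684 (iv6 F463539)) (tt N41983 F243146))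
theorem Q75189 : ∀ i, i < 75189 → P i := stepQ 75188 Q75188 (allL N75188 (tt N42179 (iv1 F231169)) (tt N42061 (iv0 F230591)) (tt N42177 F241127) (tt N75663 F242951) (tt N109232 D212460) (tt N41956 (iv5 D147094)) (tt N48487 F314819) (tt N42079 F241128))
theorem Q75190 : ∀ i, i < 75190 → P i := stepQ 75189 Q75189 (allL N75189 (tt N95146 (iv1 F407229)) (tt N95141 (iv0 F407212)) (tt N88038 (iv2 F381548)) (tt N41960 (iv3 D147114)) (tt N62751 F230656) (tt N87002 (iv5 F378014)) (tt N51861 (iv6 F366381)) (tt N66652 F230657))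
theorem Q75191 : ∀ i, i < 75191 → P i := stepQ 75190 Q75190 (allL N75190 (tt N42005 (iv1 F230690)) (tt N42004 (iv0 F230692)) (tt N42007 F230688) (tt N75232 (iv3 F230818)) (tt N52618 F340410) (tt N75268 (iv5 F230940)) (tt N41965 (iv6 D147134)) (tt N41966 F230689))
theorem Q75192 : ∀ i, i < 75192 → P i := stepQ 75191 Q75191 (allL N75191 (tt N42007 (iv1 F230696)) (tt N41966 (iv0 D147135)) (tt N42004 (iv2 F230695)) (tt N42409 (iv3 F230698)) (tt N66674 (iv4 F361089)) (tt N73718 (iv5 F335124)) (tt N78716 (iv6 F250379)) (tt N42005 F230697))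
theorem Q75193 : ∀ i, i < 75193 → P i := stepQ 75192 Q75192 (allL N75192 (tt N81344 (iv1 F354812)) (tt N41967 (iv0 D147136)) (tt N81341 (iv2 F354844)) (tt N94056 (iv3 F403008)) (tt N106991 (iv4 F456547)) (tt N96561 (iv5 F412997)) (tt N94054 (iv6 F403004)) (tt N81342 (iv7 F354845)))
theorem Q75194 : ∀ i, i < 75194 → P i := stepQ 75193 Q75193 (allL N75193 (tt N41967 (iv1 D147137)) (tt N81344 (iv0 F354810)) (tt N81342 F354846) (tt N80895 (iv3 F334774)) (tt N106993 (iv4 F456556)) (tt N97380 (iv5 F416611)) (tt N81315 F354871) (tt N81341 F354843))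
theorem Q75195 : ∀ i, i < 75195 → P i := stepQ 75194 Q75194 (allL N75194 (tt N75287 (iv1 F354861)) (tt N75291 (iv0 F343340)) (tt N81343 (iv2 F354851)) (tt N41968 F230701) (tt N97067 (iv4 F415299)) (tt N41967 (iv5 D147139)) (tt N81294 F354850) (tt N75380 (iv7 F231394)))
theorem Q75196 : ∀ i, i < 75196 → P i := stepQ 75195 Q75195 (allL N75195 (tt N45713 F336614) (tt N66881 F336615) (tt N74395 F230703) (tt N81294 (iv3 F354852)) (tt N74401 F230704) (tt N68014 (iv5 F333982)) (tt N41968 (iv6 D147141)) (tt N68013 (iv7 F340272)))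
theorem Q75197 : ∀ i, i < 75197 → P i := stepQ 75196 Q75196 (allL N75196 (tt N67994 (iv1 F333919)) (tt N41969 (iv0 D147142)) (tt N74396 F230715) (tt N47921 F334040) (tt N74416 (iv4 F230714)) (tt N66841 F340256) (tt N47919 F334041) (tt N66840 (iv7 F340253)))
theorem Q75198 : ∀ i, i < 75198 → P i := stepQ 75197 Q75197 (allL N75197 (tt N41969 (iv1 D147143)) (tt N67994 (iv0 F333918)) (tt N66840 (iv2 F340251)) (tt N104789 (iv3 F447284)) (tt N67062 (iv4 F230706)) (tt N43435 F340248) (tt N75014 (iv6 F334044)) (tt N74396 (iv7 F230717)))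
theorem Q75199 : ∀ i, i < 75199 → P i := stepQ 75198 Q75198 (allL N75198 (tt N88474 (iv1 F383199)) (tt N41975 F230738) (tt N74397 F230721) (tt N46442 F333951) (tt N41970 (iv4 D147147)) (tt N42430 F333952) (tt N109101 (iv6 F465346)) (tt N42429 F333953))
theorem Q75200 : ∀ i, i < 75200 → P i := stepQ 75199 Q75199 (allL N75199 (tt N65223 F230726) (tt N63705 F230727) (tt N65224 F230724) (tt N77546 F305630) (tt N47553 F305631) (tt N41970 (iv5 D147148)) (tt N77279 F242245) (tt N65221 F230725))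
theorem Q75201 : ∀ i, i < 75201 → P i := stepQ 75200 Q75200 (allL N75200 (tt N41975 F230737) (tt N88474 (iv0 F383198)) (tt N42429 F333948) (tt N58888 F346915) (tt N41971 (iv4 D147150)) (tt N42421 F333949) (tt N78336 F333950) (tt N74397 F230736))
theorem Q75202 : ∀ i, i < 75202 → P i := stepQ 75201 Q75201 (allL N75201 (tt N109006 (iv1 F464881)) (tt N41973 (iv0 D147151)) (tt N109005 (iv2 F464873)) (tt N82458 (iv3 F413368)) (tt N109233 D212461) (tt N82456 F413367) (tt N101837 (iv6 F434585)) (tt N109004 (iv7 F464868)))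
theorem Q75203 : ∀ i, i < 75203 → P i := stepQ 75202 Q75202 (allL N75202 (tt N41973 (iv1 D147152)) (tt N109006 F464882) (tt N109004 (iv2 F464867)) (tt N102328 (iv3 F436749)) (tt N80671 (iv4 F353664)) (tt N80963 F353662) (tt N46897 F353663) (tt N109005 (iv7 F464869)))
theorem Q75204 : ∀ i, i < 75204 → P i := stepQ 75203 Q75203 (allL N75203 (tt N109005 (iv1 F464875)) (tt N109004 F464865) (tt N41973 (iv2 D147153)) (tt N99597 (iv3 F425328)) (tt N42447 F230739) (tt N80991 (iv5 F355095)) (tt N109234 D212462) (tt N109006 (iv7 F464880)))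
theorem Q75205 : ∀ i, i < 75205 → P i := stepQ 75204 Q75204 (allL N75204 (tt N80182 (iv1 F353659)) (tt N45441 F353650) (tt N80991 F355093) (tt N41974 F230740) (tt N72893 (iv4 F230741)) (tt N41973 (iv5 D147154)) (tt N109235 D212463) (tt N75334 (iv7 F231235)))
theorem Q75206 : ∀ i, i < 75206 → P i := stepQ 75205 Q75205 (allL N75205 (tt N109236 D212464) (tt N109237 D212465) (tt N109234 (iv2 F465903)) (tt N41975 F230742) (tt N42444 F230743) (tt N88475 (iv5 F383201)) (tt N41973 (iv6 D147155)) (tt N82588 (iv7 F282977)))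
theorem Q75207 : ∀ i, i < 75207 → P i := stepQ 75206 Q75206 (allL N75206 (tt N46469 F344683) (tt N58802 F344684) (tt N75337 (iv2 F231246)) (tt N109235 (iv3 F465909)) (tt N87003 (iv4 F378017)) (tt N79492 F344685) (tt N41974 (iv6 D147156)) (tt N76168 F344686))
theorem Q75208 : ∀ i, i < 75208 → P i := stepQ 75207 Q75207 (allL N75207 (tt N42429 F333946) (tt N74397 F230746) (tt N88474 (iv2 F383193)) (tt N82588 (iv3 F282976)) (tt N42441 F230744) (tt N47554 F333947) (tt N82560 F348868) (tt N41975 (iv7 D147158)))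
theorem Q75209 : ∀ i, i < 75209 → P i := stepQ 75208 Q75208 (allL N75208 (tt N82453 F348620) (tt N94048 (iv0 F402975)) (tt N41976 (iv2 D147160)) (tt N109006 (iv3 F464876)) (tt N46023 F346136) (tt N79834 F348613) (tt N46021 F346137) (tt N99597 (iv7 F425332)))
theorem Q75210 : ∀ i, i < 75210 → P i := stepQ 75209 Q75209 (allL N75209 (tt N75599 F232077) (tt N58883 (iv0 F230749)) (tt N79834 (iv2 F348612)) (tt N41977 F230748) (tt N109238 D212466) (tt N41976 (iv5 D147161)) (tt N79431 (iv6 F339242)) (tt N75336 (iv7 F231243)))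
theorem Q75211 : ∀ i, i < 75211 → P i := stepQ 75210 Q75210 (allL N75210 (tt N64262 F344731) (tt N96984 (iv0 F414927)) (tt N75335 (iv2 F231241)) (tt N79431 F339244) (tt N78363 (iv4 F248417)) (tt N84088 (iv5 F368054)) (tt N41977 (iv6 D147163)) (tt N79829 (iv7 F348597)))
theorem Q75212 : ∀ i, i < 75212 → P i := stepQ 75211 Q75211 (allL N75211 (tt N41979 (iv1 D147169)) (tt N91311 (iv0 F392669)) (tt N91313 F392678) (tt N84341 (iv3 F368988)) (tt N84343 (iv4 F368991)) (tt N68464 (iv5 F337585)) (tt N100339 (iv6 F428482)) (tt N88093 F381784))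
theorem Q75213 : ∀ i, i < 75213 → P i := stepQ 75212 Q75212 (allL N75212 (tt N46407 F350913) (tt N104240 (iv0 F444880)) (tt N82039 F364626) (tt N41985 F230751) (tt N74315 F350914) (tt N41979 (iv5 D147170)) (tt N63555 (iv6 F333672)) (tt N91314 (iv7 F392685)))
theorem Q75214 : ∀ i, i < 75214 → P i := stepQ 75213 Q75213 (allL N75213 (tt N82456 F359053) (tt N80963 (iv0 F358633)) (tt N65443 (iv2 F358636)) (tt N41980 (iv3 D147172)) (tt N70200 F230755) (tt N42066 F230754) (tt N65441 F358635) (tt N79282 (iv7 F359845)))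
theorem Q75215 : ∀ i, i < 75215 → P i := stepQ 75214 Q75214 (allL N75214 (tt N45906 F344722) (tt N45889 F344723) (tt N45397 F344724) (tt N65441 F344725) (tt N45469 F344726) (tt N46342 F344727) (tt N41980 (iv6 D147173)) (tt N45905 F344728))
theorem Q75216 : ∀ i, i < 75216 → P i := stepQ 75215 Q75215 (allL N75215 (tt N65445 (iv1 F339251)) (tt N45930 F323591) (tt N65447 F339248) (tt N41981 (iv3 D147174)) (tt N109239 D212467) (tt N42068 F230756) (tt N45761 F336518) (tt N45399 F339249))
theorem Q75217 : ∀ i, i < 75217 → P i := stepQ 75216 Q75216 (allL N75216 (tt N45774 F353265) (tt N91858 (iv0 F394735)) (tt N102256 (iv2 F436401)) (tt N45761 F336519) (tt N81793 F336520) (tt N109240 D212468) (tt N41981 (iv6 D147175)) (tt N65433 F339262))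
theorem Q75218 : ∀ i, i < 75218 → P i := stepQ 75217 Q75217 (allL N75217 (tt N69300 F348711) (tt N41982 (iv0 D147176)) (tt N87809 (iv2 F380599)) (tt N80960 F348709) (tt N51667 (iv4 F348707)) (tt N81534 (iv5 F348708)) (tt N51666 F348706) (tt N102277 (iv7 F436515)))
theorem Q75219 : ∀ i, i < 75219 → P i := stepQ 75218 Q75218 (allL N75218 (tt N41982 (iv1 D147177)) (tt N69300 (iv0 F358080)) (tt N102277 F436513) (tt N65413 (iv3 F353908)) (tt N87811 (iv4 F380615)) (tt N81535 (iv5 F343962)) (tt N65410 F353907) (tt N87809 (iv7 F380603)))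
theorem Q75220 : ∀ i, i < 75220 → P i := stepQ 75219 Q75219 (allL N75219 (tt N42443 F243147) (tt N65097 (iv0 F315635)) (tt N62711 F243149) (tt N74823 F243150) (tt N41984 (iv4 D147186)) (tt N66687 F243151) (tt N73142 F355140) (tt N66649 (iv7 F243303)))
theorem Q75221 : ∀ i, i < 75221 → P i := stepQ 75220 Q75220 (allL N75220 (tt N109100 (iv1 F465343)) (tt N109101 (iv0 F465347)) (tt N108684 (iv2 F463537)) (tt N81997 F355142) (tt N73142 (iv4 F355141)) (tt N81995 (iv5 F355143)) (tt N41984 (iv6 D147188)) (tt N98072 (iv7 F419351)))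
theorem Q75222 : ∀ i, i < 75222 → P i := stepQ 75221 Q75221 (allL N75221 (tt N81084 F343372) (tt N41985 (iv0 D147189)) (tt N91310 (iv2 F392658)) (tt N80956 F362637) (tt N91341 (iv4 F392808)) (tt N65100 (iv5 F313329)) (tt N80954 (iv6 F344388)) (tt N91340 F392806))
theorem Q75223 : ∀ i, i < 75223 → P i := stepQ 75222 Q75222 (allL N75222 (tt N41985 (iv1 D147190)) (tt N81084 (iv0 F356294)) (tt N91340 (iv2 F392801)) (tt N77640 (iv3 F356293)) (tt N91270 (iv4 F392478)) (tt N77639 F356292) (tt N104239 F444875) (tt N91310 (iv7 F392660)))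
theorem Q75224 : ∀ i, i < 75224 → P i := stepQ 75223 Q75223 (allL N75223 (tt N91340 (iv1 F392804)) (tt N91310 (iv0 F392662)) (tt N81084 F343370) (tt N91314 (iv3 F392683)) (tt N69309 (iv4 F358073)) (tt N41986 F230764) (tt N81082 F358072) (tt N41985 (iv7 D147192)))
theorem Q75225 : ∀ i, i < 75225 → P i := stepQ 75224 Q75224 (allL N75224 (tt N42017 (iv1 F230766)) (tt N41987 (iv0 D147193)) (tt N42014 F230768) (tt N105684 (iv3 F451234)) (tt N66665 (iv4 F230934)) (tt N57388 F350211) (tt N109022 (iv6 F464975)) (tt N42015 (iv7 F230767)))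
theorem Q75226 : ∀ i, i < 75226 → P i := stepQ 75225 Q75225 (allL N75225 (tt N41987 (iv1 D147194)) (tt N42017 F230769) (tt N42015 (iv2 F230771)) (tt N57313 F339418) (tt N66666 (iv4 F230937)) (tt N55067 (iv5 F353767)) (tt N43835 (iv6 F237033)) (tt N42014 F230770))
theorem Q75227 : ∀ i, i < 75227 → P i := stepQ 75226 Q75226 (allL N75226 (tt N68108 (iv1 F350793)) (tt N83854 (iv0 F337133)) (tt N84237 F368639) (tt N109241 D212469) (tt N41989 (iv4 D147208)) (tt N54478 (iv5 F346002)) (tt N87075 (iv6 F378293)) (tt N52224 F360230))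
theorem Q75228 : ∀ i, i < 75228 → P i := stepQ 75227 Q75227 (allL N75227 (tt N78324 F248118) (tt N78322 (iv0 F248102)) (tt N80432 (iv2 F362750)) (tt N99840 (iv3 F426468)) (tt N87075 (iv4 F378291)) (tt N52353 (iv5 F304897)) (tt N41989 (iv6 D147209)) (tt N87073 (iv7 F378284)))
theorem Q75229 : ∀ i, i < 75229 → P i := stepQ 75228 Q75228 (allL N75228 (tt N42168 F232252) (tt N41991 (iv0 D147226)) (tt N42055 F232253) (tt N42154 F232254) (tt N74477 F232255) (tt N106587 (iv5 F454960)) (tt N52020 (iv6 F310422)) (tt N42169 F232257))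
theorem Q75230 : ∀ i, i < 75230 → P i := stepQ 75229 Q75229 (allL N75229 (tt N42169 (iv1 F232282)) (tt N42055 (iv0 F232283)) (tt N42168 F232258) (tt N72375 (iv3 F310042)) (tt N92585 (iv4 F397495)) (tt N43500 F230808) (tt N72355 (iv6 F314677)) (tt N41991 (iv7 D147228)))
theorem Q75231 : ∀ i, i < 75231 → P i := stepQ 75230 Q75230 (allL N75230 (tt N41992 (iv1 D147230)) (tt N42000 F230813) (tt N41998 F242767) (tt N76445 (iv3 F323402)) (tt N61420 (iv4 F363910)) (tt N101753 (iv5 F434189)) (tt N43848 F242768) (tt N41997 F242769))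
theorem Q75232 : ∀ i, i < 75232 → P i := stepQ 75231 Q75231 (allL N75231 (tt N87090 (iv1 F378343)) (tt N87092 F378351) (tt N41999 F230814) (tt N42026 F230815) (tt N87714 (iv4 F380240)) (tt N41992 (iv5 D147231)) (tt N41993 F230816) (tt N100516 (iv7 F429273)))
theorem Q75233 : ∀ i, i < 75233 → P i := stepQ 75232 Q75232 (allL N75232 (tt N41998 (iv1 F230821)) (tt N41997 F230822) (tt N42000 F230817) (tt N75190 F230818) (tt N92649 (iv4 F397757)) (tt N100516 (iv5 F429274)) (tt N61400 (iv6 F317647)) (tt N41992 (iv7 D147232)))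
theorem Q75234 : ∀ i, i < 75234 → P i := stepQ 75233 Q75233 (allL N75233 (tt N50756 F342090) (tt N69222 F342094) (tt N41994 (iv2 D147235)) (tt N92658 (iv3 F397790)) (tt N42010 F230824) (tt N109242 D212470) (tt N109243 D212471) (tt N81442 (iv7 F342079)))
theorem Q75235 : ∀ i, i < 75235 → P i := stepQ 75234 Q75234 (allL N75234 (tt N98145 (iv1 F419690)) (tt N100292 (iv0 F428285)) (tt N109242 (iv2 F465951)) (tt N41995 F230825) (tt N109244 D212472) (tt N41994 (iv5 D147236)) (tt N86665 (iv6 F376725)) (tt N108789 (iv7 F463945)))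
theorem Q75236 : ∀ i, i < 75236 → P i := stepQ 75235 Q75235 (allL N75235 (tt N91204 F392251) (tt N91206 (iv0 F392259)) (tt N109243 (iv2 F465953)) (tt N41996 F230826) (tt N42012 F230827) (tt N109245 D212473) (tt N41994 (iv6 D147237)) (tt N109246 D212474))
theorem Q75237 : ∀ i, i < 75237 → P i := stepQ 75236 Q75236 (allL N75236 (tt N68477 F345025) (tt N70793 F345026) (tt N100299 (iv2 F428322)) (tt N86665 F376726) (tt N70038 (iv4 F345024)) (tt N96768 (iv5 F413843)) (tt N41995 (iv6 D147238)) (tt N100298 F428317))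
theorem Q75238 : ∀ i, i < 75238 → P i := stepQ 75237 Q75237 (allL N75237 (tt N92649 (iv1 F397760)) (tt N41996 (iv0 D147239)) (tt N62726 (iv2 F230832)) (tt N105096 (iv3 F448769)) (tt N62718 F230834) (tt N91200 (iv5 F392237)) (tt N108039 (iv6 F460844)) (tt N62728 (iv7 F230833)))
theorem Q75239 : ∀ i, i < 75239 → P i := stepQ 75238 Q75238 (allL N75238 (tt N41996 (iv1 D147240)) (tt N92649 (iv0 F397759)) (tt N62728 F230829) (tt N61060 F352394) (tt N62719 (iv4 F230828)) (tt N91201 F392244) (tt N61057 (iv6 F347674)) (tt N62726 F230831))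
theorem Q75240 : ∀ i, i < 75240 → P i := stepQ 75239 Q75239 (allL N75239 (tt N97186 F415811) (tt N79926 F359664) (tt N92992 F399043) (tt N109245 (iv3 F465966)) (tt N95884 (iv4 F410087)) (tt N41996 (iv5 D147241)) (tt N96768 (iv6 F413842)) (tt N97185 (iv7 F415805)))
theorem Q75241 : ∀ i, i < 75241 → P i := stepQ 75240 Q75240 (allL N75240 (tt N62728 (iv1 F230837)) (tt N62726 F230838) (tt N92649 (iv2 F397755)) (tt N109246 (iv3 F465970)) (tt N42000 F230836) (tt N97185 (iv5 F415806)) (tt N61425 (iv6 F316448)) (tt N41996 (iv7 D147242)))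
theorem Q75242 : ∀ i, i < 75242 → P i := stepQ 75241 Q75241 (allL N75241 (tt N100516 (iv1 F429272)) (tt N41999 (iv0 D147253)) (tt N87090 (iv2 F378339)) (tt N75999 (iv3 F235351)) (tt N52324 F234575) (tt N88226 F382260) (tt N65193 F230847) (tt N87092 (iv7 F378348)))
theorem Q75243 : ∀ i, i < 75243 → P i := stepQ 75242 Q75242 (allL N75242 (tt N109247 D212475) (tt N109248 D212476) (tt N87714 (iv2 F380238)) (tt N46056 F230848) (tt N41999 (iv4 D147255)) (tt N109249 D212477) (tt N42002 F230849) (tt N109250 D212478))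
theorem Q75244 : ∀ i, i < 75244 → P i := stepQ 75243 Q75243 (allL N75243 (tt N87092 (iv1 F378350)) (tt N87090 (iv0 F378345)) (tt N100516 (iv2 F429277)) (tt N42023 F230850) (tt N109250 (iv4 F465991)) (tt N42000 F230851) (tt N100516 F429276) (tt N41999 (iv7 D147256)))
theorem Q75245 : ∀ i, i < 75245 → P i := stepQ 75244 Q75244 (allL N75244 (tt N80310 F334995) (tt N80489 F334998) (tt N45269 F230852) (tt N43108 F230853) (tt N42596 F230854) (tt N43099 F230855) (tt N42001 (iv6 D147257)) (tt N80491 (iv7 F337083)))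
theorem Q75246 : ∀ i, i < 75246 → P i := stepQ 75245 Q75245 (allL N75245 (tt N66676 (iv1 F230867)) (tt N66654 (iv0 F230857)) (tt N66674 F361087) (tt N96756 (iv3 F413791)) (tt N42004 (iv4 D147260)) (tt N109251 D212479) (tt N87076 (iv6 F378298)) (tt N51820 (iv7 F348972)))
theorem Q75247 : ∀ i, i < 75247 → P i := stepQ 75246 Q75246 (allL N75246 (tt N64006 F231217) (tt N91474 (iv0 F393285)) (tt N78716 (iv2 F250377)) (tt N62500 (iv3 F316206)) (tt N87076 (iv4 F378297)) (tt N43884 F230861) (tt N42004 (iv6 D147262)) (tt N77417 (iv7 F242595)))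
theorem Q75248 : ∀ i, i < 75248 → P i := stepQ 75247 Q75247 (allL N75247 (tt N75157 (iv1 F230883)) (tt N43675 F230884) (tt N75268 (iv2 F230939)) (tt N73980 (iv3 F315732)) (tt N60981 F230880) (tt N42007 F230881) (tt N73980 (iv6 F315735)) (tt N42006 (iv7 D147267)))
theorem Q75249 : ∀ i, i < 75249 → P i := stepQ 75248 Q75248 (allL N75248 (tt N102328 (iv1 F436752)) (tt N102330 (iv0 F436762)) (tt N99584 (iv2 F425281)) (tt N42008 (iv3 D147269)) (tt N91173 (iv4 F392167)) (tt N96975 (iv5 F414878)) (tt N43770 F346106) (tt N47585 F330309))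
theorem Q75250 : ∀ i, i < 75250 → P i := stepQ 75249 Q75249 (allL N75249 (tt N108288 (iv1 F461903)) (tt N103120 (iv0 F440167)) (tt N42012 F230887) (tt N48123 F347906) (tt N109243 (iv4 F465955)) (tt N60398 F230889) (tt N42010 (iv6 D147275)) (tt N100652 (iv7 F429857)))
theorem Q75251 : ∀ i, i < 75251 → P i := stepQ 75250 Q75250 (allL N75250 (tt N100652 F429859) (tt N42012 (iv0 D147276)) (tt N108288 (iv2 F461897)) (tt N103124 (iv3 F440181)) (tt N91225 (iv4 F392343)) (tt N92872 F398597) (tt N108287 F461896) (tt N103120 F440169))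
theorem Q75252 : ∀ i, i < 75252 → P i := stepQ 75251 Q75251 (allL N75251 (tt N42012 (iv1 D147277)) (tt N100652 (iv0 F429858)) (tt N103120 (iv2 F440163)) (tt N82239 (iv3 F366622)) (tt N61481 (iv4 F366621)) (tt N92877 (iv5 F398599)) (tt N61479 F366623) (tt N108288 (iv7 F461900)))
theorem Q75253 : ∀ i, i < 75253 → P i := stepQ 75252 Q75252 (allL N75252 (tt N81108 F359163) (tt N98303 (iv0 F420423)) (tt N60398 F230890) (tt N42016 F230891) (tt N109252 D212480) (tt N42012 (iv5 D147278)) (tt N60394 F230892) (tt N81086 (iv7 F343367)))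
theorem Q75254 : ∀ i, i < 75254 → P i := stepQ 75253 Q75253 (allL N75253 (tt N103120 F440168) (tt N108288 (iv0 F461901)) (tt N100652 (iv2 F429854)) (tt N42017 F230893) (tt N109246 (iv4 F465971)) (tt N81086 F343364) (tt N81088 (iv6 F343363)) (tt N42012 (iv7 D147279)))
theorem Q75255 : ∀ i, i < 75255 → P i := stepQ 75254 Q75254 (allL N75254 (tt N62136 (iv1 F230898)) (tt N62135 F230899) (tt N58808 F230894) (tt N60394 F230895) (tt N71041 (iv4 F355467)) (tt N42013 (iv5 D147280)) (tt N42016 F230896) (tt N62137 F230897))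
theorem Q75256 : ∀ i, i < 75256 → P i := stepQ 75255 Q75255 (allL N75255 (tt N66667 (iv1 F230903)) (tt N42442 (iv0 F230902)) (tt N66665 (iv2 F230932)) (tt N66662 (iv3 F339800)) (tt N42014 (iv4 D147282)) (tt N73140 F339615) (tt N103175 (iv6 F440418)) (tt N66666 (iv7 F230938)))
theorem Q75257 : ∀ i, i < 75257 → P i := stepQ 75256 Q75256 (allL N75256 (tt N101837 F434589) (tt N105683 F451231) (tt N47498 F319428) (tt N42015 (iv3 D147285)) (tt N47493 F319429) (tt N57395 (iv5 F344828)) (tt N69208 (iv6 F344837)) (tt N105684 (iv7 F451237)))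
theorem Q75258 : ∀ i, i < 75258 → P i := stepQ 75257 Q75257 (allL N75257 (tt N57387 (iv1 F350217)) (tt N48119 F355471) (tt N55067 F350215) (tt N57395 F344829) (tt N54932 F350216) (tt N42015 (iv5 D147286)) (tt N54931 F353851) (tt N57388 (iv7 F350214)))
theorem Q75259 : ∀ i, i < 75259 → P i := stepQ 75258 Q75258 (allL N75258 (tt N43623 (iv1 F230908)) (tt N43629 (iv0 F230907)) (tt N43835 F237032) (tt N69208 (iv3 F344836)) (tt N67091 F230906) (tt N75463 (iv5 F231577)) (tt N42015 (iv6 D147287)) (tt N43834 (iv7 F237031)))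
theorem Q75260 : ∀ i, i < 75260 → P i := stepQ 75259 Q75259 (allL N75259 (tt N82148 F355437) (tt N54988 (iv0 F355515)) (tt N103951 (iv2 F443498)) (tt N60122 F335867) (tt N42016 (iv4 D147290)) (tt N52087 (iv5 F355469)) (tt N71041 F355468) (tt N93165 (iv7 F399754)))
theorem Q75261 : ∀ i, i < 75261 → P i := stepQ 75260 Q75260 (allL N75260 (tt N94054 (iv1 F403003)) (tt N109253 D212481) (tt N109254 D212482) (tt N42018 (iv3 D147292)) (tt N69828 (iv4 F348522)) (tt N57790 (iv5 F360548)) (tt N101295 (iv6 F432571)) (tt N109227 (iv7 F465866)))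
theorem Q75262 : ∀ i, i < 75262 → P i := stepQ 75261 Q75261 (allL N75261 (tt N92603 (iv1 F397598)) (tt N49046 F337912) (tt N43832 F230912) (tt N101295 (iv3 F432570)) (tt N42020 F230913) (tt N75431 (iv5 F231489)) (tt N42018 (iv6 D147294)) (tt N43830 (iv7 F230914)))
theorem Q75263 : ∀ i, i < 75263 → P i := stepQ 75262 Q75262 (allL N75262 (tt N80388 F361432) (tt N73588 (iv0 F363628)) (tt N61435 F230915) (tt N76545 (iv3 F259178)) (tt N42019 (iv4 D147295)) (tt N109255 D212483) (tt N43677 F230916) (tt N99554 (iv7 F425132)))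
theorem Q75264 : ∀ i, i < 75264 → P i := stepQ 75263 Q75263 (allL N75263 (tt N75976 F235006) (tt N81460 (iv0 F363614)) (tt N98300 (iv2 F420404)) (tt N64033 F239638) (tt N42021 (iv4 D147296)) (tt N86771 (iv5 F377124)) (tt N84731 (iv6 F370398)) (tt N79992 (iv7 F259269)))
theorem Q75265 : ∀ i, i < 75265 → P i := stepQ 75264 Q75264 (allL N75264 (tt N77241 F242062) (tt N76002 F240642) (tt N87921 (iv2 F381131)) (tt N42264 F326244) (tt N84731 (iv4 F370396)) (tt N46580 F307872) (tt N42021 (iv6 D147298)) (tt N42269 F326245))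
theorem Q75266 : ∀ i, i < 75266 → P i := stepQ 75265 Q75265 (allL N75265 (tt N45064 (iv1 F230926)) (tt N42022 (iv0 D147299)) (tt N45062 (iv2 F230923)) (tt N45233 F253035) (tt N79130 (iv4 F253034)) (tt N103984 (iv5 F443650)) (tt N80141 (iv6 F261787)) (tt N45063 (iv7 F230924)))
theorem Q75267 : ∀ i, i < 75267 → P i := stepQ 75266 Q75266 (allL N75266 (tt N42022 (iv1 D147300)) (tt N45064 F230920) (tt N45063 F230925) (tt N42291 F312027) (tt N42300 F312028) (tt N69451 (iv5 F335864)) (tt N42289 F312029) (tt N45062 (iv7 F230922)))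
theorem Q75268 : ∀ i, i < 75268 → P i := stepQ 75267 Q75267 (allL N75267 (tt N45063 (iv1 F230930)) (tt N45062 F230931) (tt N45064 F230927) (tt N46059 F230928) (tt N42023 F230929) (tt N93156 (iv5 F399705)) (tt N88198 (iv6 F382138)) (tt N42022 (iv7 D147301)))
theorem Q75269 : ∀ i, i < 75269 → P i := stepQ 75268 Q75268 (allL N75268 (tt N42277 F313207) (tt N61755 (iv0 F332559)) (tt N75247 F230939) (tt N100516 F429275) (tt N88198 (iv4 F382135)) (tt N75190 F230940) (tt N42023 (iv6 D147302)) (tt N42026 F230941))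
theorem Q75270 : ∀ i, i < 75270 → P i := stepQ 75269 Q75269 (allL N75269 (tt N46630 F315506) (tt N46626 F315507) (tt N45294 F230944) (tt N61399 F230945) (tt N42025 F230946) (tt N45294 F230947) (tt N42024 (iv6 D147303)) (tt N80386 F315508))
theorem Q75271 : ∀ i, i < 75271 → P i := stepQ 75270 Q75270 (allL N75270 (tt N42181 F237575) (tt N42185 F237576) (tt N42067 F230978) (tt N76662 (iv3 F339602)) (tt N66646 F230979) (tt N85724 (iv5 F373663)) (tt N42028 (iv6 D147317)) (tt N107917 (iv7 F460278)))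
theorem Q75272 : ∀ i, i < 75272 → P i := stepQ 75271 Q75271 (allL N75271 (tt N42056 (iv1 F230985)) (tt N42060 (iv0 F230984)) (tt N42069 F230982) (tt N79283 (iv3 F361634)) (tt N62597 F230983) (tt N109256 D212484) (tt N42029 (iv6 D147319)) (tt N42158 (iv7 F230986)))
theorem Q75273 : ∀ i, i < 75273 → P i := stepQ 75272 Q75272 (allL N75272 (tt N42088 (iv1 F230987)) (tt N42030 (iv0 D147320)) (tt N42087 (iv2 F230991)) (tt N76112 F347993) (tt N76306 (iv4 F343316)) (tt N60361 (iv5 F232043)) (tt N109257 D212485) (tt N42086 (iv7 F230993)))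
theorem Q75274 : ∀ i, i < 75274 → P i := stepQ 75273 Q75273 (allL N75273 (tt N42030 (iv1 D147321)) (tt N42088 F230988) (tt N42086 F230992) (tt N42259 (iv3 F230989)) (tt N76305 (iv4 F334762)) (tt N60360 F232038) (tt N81498 (iv6 F361684)) (tt N42087 F230990))
theorem Q75275 : ∀ i, i < 75275 → P i := stepQ 75274 Q75274 (allL N75274 (tt N98297 F420388) (tt N84772 (iv0 F370569)) (tt N95839 (iv2 F409878)) (tt N42032 F230994) (tt N75537 (iv4 F352145)) (tt N109023 (iv5 F464979)) (tt N42030 (iv6 D147322)) (tt N98299 (iv7 F420397)))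
theorem Q75276 : ∀ i, i < 75276 → P i := stepQ 75275 Q75275 (allL N75275 (tt N42076 (iv1 F231001)) (tt N42032 (iv0 D147324)) (tt N42073 F243357) (tt N61106 F352142) (tt N75378 F243358) (tt N78335 (iv5 F350722)) (tt N77639 (iv6 F352144)) (tt N42074 F243359))
theorem Q75277 : ∀ i, i < 75277 → P i := stepQ 75276 Q75276 (allL N75276 (tt N42032 (iv1 D147325)) (tt N42076 F230996) (tt N42074 F243350) (tt N46432 F350791) (tt N62604 F243297) (tt N78334 F350773) (tt N65115 F361187) (tt N42073 F243351))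
theorem Q75278 : ∀ i, i < 75278 → P i := stepQ 75277 Q75277 (allL N75277 (tt N99577 F425253) (tt N99842 (iv0 F426483)) (tt N42075 F230997) (tt N109023 (iv3 F464981)) (tt N54189 F357252) (tt N42032 (iv5 D147326)) (tt N54191 (iv6 F357280)) (tt N103119 (iv7 F440158)))
theorem Q75279 : ∀ i, i < 75279 → P i := stepQ 75278 Q75278 (allL N75278 (tt N42074 (iv1 F231002)) (tt N42073 F231003) (tt N42076 F230998) (tt N98299 (iv3 F420395)) (tt N42035 F230999) (tt N103119 (iv5 F440160)) (tt N42093 F231000) (tt N42032 (iv7 D147327)))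
theorem Q75280 : ∀ i, i < 75280 → P i := stepQ 75279 Q75279 (allL N75279 (tt N42039 F243367) (tt N42106 F243368) (tt N42080 F241109) (tt N108253 (iv3 F461709)) (tt N42033 (iv4 D147334)) (tt N75020 F348852) (tt N101700 (iv6 F433940)) (tt N42077 F241110))
theorem Q75281 : ∀ i, i < 75281 → P i := stepQ 75280 Q75280 (allL N75280 (tt N74701 (iv1 F318458)) (tt N44459 F314354) (tt N42081 F241111) (tt N82118 (iv3 F278696)) (tt N109258 D212486) (tt N42033 (iv5 D147335)) (tt N76211 (iv6 F237836)) (tt N42078 F241112))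
theorem Q75282 : ∀ i, i < 75282 → P i := stepQ 75281 Q75281 (allL N75281 (tt N46645 (iv1 F310846)) (tt N42183 F241105) (tt N42082 F241106) (tt N99857 (iv3 F426570)) (tt N101700 (iv4 F433939)) (tt N48409 F310636) (tt N42033 (iv6 D147336)) (tt N48487 F310637))
theorem Q75283 : ∀ i, i < 75283 → P i := stepQ 75282 Q75282 (allL N75282 (tt N109259 D212487) (tt N73728 (iv0 F350011)) (tt N42084 F231013) (tt N92886 (iv3 F398651)) (tt N42034 (iv4 D147338)) (tt N106930 (iv5 F456323)) (tt N42933 F231014) (tt N62463 (iv7 F360682)))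
theorem Q75284 : ∀ i, i < 75284 → P i := stepQ 75283 Q75283 (allL N75283 (tt N42040 (iv1 D147355)) (tt N42099 F231068) (tt N42097 (iv2 F231069)) (tt N43261 F347811) (tt N63941 (iv4 F353625)) (tt N46303 F328755) (tt N79656 F328756) (tt N42098 (iv7 F231071)))
theorem Q75285 : ∀ i, i < 75285 → P i := stepQ 75284 Q75284 (allL N75284 (tt N68543 (iv1 F341908)) (tt N79525 (iv0 F345792)) (tt N42112 F231079) (tt N66838 F341899) (tt N87004 (iv4 F378023)) (tt N66837 (iv5 F341901)) (tt N42041 (iv6 D147358)) (tt N80162 (iv7 F341904)))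
theorem Q75286 : ∀ i, i < 75286 → P i := stepQ 75285 Q75285 (allL N75285 (tt N43261 F321005) (tt N43260 F321006) (tt N43263 F321007) (tt N42043 (iv3 D147362)) (tt N43201 F321008) (tt N59459 (iv5 F351725)) (tt N98140 (iv6 F419658)) (tt N43197 F321009))
theorem Q75287 : ∀ i, i < 75287 → P i := stepQ 75286 Q75286 (allL N75286 (tt N90998 F391516) (tt N99877 (iv0 F426650)) (tt N109228 (iv2 F465868)) (tt N98168 (iv3 F419810)) (tt N42043 (iv4 D147363)) (tt N109260 D212488) (tt N75026 F419662) (tt N98165 F419798))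
theorem Q75288 : ∀ i, i < 75288 → P i := stepQ 75287 Q75287 (allL N75287 (tt N80280 (iv1 F354858)) (tt N75194 F354861) (tt N79790 F354866) (tt N59459 F351727) (tt N58763 (iv4 F350840)) (tt N42043 (iv5 D147364)) (tt N80048 F352228) (tt N79788 (iv7 F354826)))
theorem Q75289 : ∀ i, i < 75289 → P i := stepQ 75288 Q75288 (allL N75288 (tt N99566 F425199) (tt N108253 F461713) (tt N108252 F461705) (tt N98140 (iv3 F419655)) (tt N75026 (iv4 F419661)) (tt N100151 (iv5 F427722)) (tt N42043 (iv6 D147365)) (tt N98138 (iv7 F419643)))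
theorem Q75290 : ∀ i, i < 75290 → P i := stepQ 75289 Q75289 (allL N75289 (tt N98144 (iv1 F419686)) (tt N47934 F343318) (tt N43258 F343319) (tt N42044 (iv3 D147367)) (tt N42998 F343320) (tt N81212 F343321) (tt N42997 F343322) (tt N101736 (iv7 F434102)))
theorem Q75291 : ∀ i, i < 75291 → P i := stepQ 75290 Q75290 (allL N75290 (tt N99877 F426651) (tt N90998 (iv0 F391514)) (tt N98165 (iv2 F419795)) (tt N43001 F343330) (tt N42044 (iv4 D147368)) (tt N109261 D212489) (tt N43000 F343331) (tt N109228 (iv7 F465871)))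
theorem Q75292 : ∀ i, i < 75292 → P i := stepQ 75291 Q75291 (allL N75291 (tt N75194 F343340) (tt N80280 F354856) (tt N79788 (iv2 F354824)) (tt N81212 (iv3 F343342)) (tt N58762 F343344) (tt N42044 (iv5 D147369)) (tt N68548 (iv6 F389864)) (tt N79790 (iv7 F354865)))
theorem Q75293 : ∀ i, i < 75293 → P i := stepQ 75292 Q75292 (allL N75292 (tt N64465 F343323) (tt N47422 F343324) (tt N43196 F343325) (tt N42997 F343326) (tt N43000 F343327) (tt N76939 F343328) (tt N42044 (iv6 D147370)) (tt N61272 F343329))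
theorem Q75294 : ∀ i, i < 75294 → P i := stepQ 75293 Q75293 (allL N75293 (tt N97380 F416614) (tt N96561 (iv0 F413000)) (tt N42046 F231087) (tt N42120 F231088) (tt N106099 (iv4 F453105)) (tt N42045 (iv5 D147371)) (tt N109262 D212490) (tt N94176 (iv7 F403555)))
theorem Q75295 : ∀ i, i < 75295 → P i := stepQ 75294 Q75294 (allL N75294 (tt N47428 F364023) (tt N109263 D212491) (tt N42047 F231089) (tt N42121 F231090) (tt N99864 (iv4 F426599)) (tt N74249 (iv5 F364895)) (tt N42045 (iv6 D147372)) (tt N94932 (iv7 F406394)))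
theorem Q75296 : ∀ i, i < 75296 → P i := stepQ 75295 Q75295 (allL N75295 (tt N42046 (iv1 D147374)) (tt N94176 (iv0 F403556)) (tt N96561 (iv2 F412996)) (tt N65431 (iv3 F353847)) (tt N65864 (iv4 F231093)) (tt N81341 (iv5 F354816)) (tt N102400 (iv6 F437073)) (tt N97380 (iv7 F416610)))
theorem Q75297 : ∀ i, i < 75297 → P i := stepQ 75296 Q75296 (allL N75296 (tt N68535 F361330) (tt N82457 (iv0 F353590)) (tt N106099 (iv2 F453104)) (tt N58751 F231092) (tt N42046 (iv4 D147375)) (tt N102785 (iv5 F438642)) (tt N100706 (iv6 F430108)) (tt N94031 (iv7 F402893)))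
theorem Q75298 : ∀ i, i < 75298 → P i := stepQ 75297 Q75297 (allL N75297 (tt N64143 F354859) (tt N47795 F354860) (tt N109262 (iv2 F466051)) (tt N42050 F231094) (tt N100706 (iv4 F430104)) (tt N97377 (iv5 F416594)) (tt N42046 (iv6 D147376)) (tt N79346 F359276))
theorem Q75299 : ∀ i, i < 75299 → P i := stepQ 75298 Q75298 (allL N75298 (tt N94932 F406396) (tt N42047 (iv0 D147377)) (tt N47428 F354818) (tt N109264 D212492) (tt N109265 D212493) (tt N100362 (iv5 F428601)) (tt N47371 F354819) (tt N109263 (iv7 F466059)))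
theorem Q75300 : ∀ i, i < 75300 → P i := stepQ 75299 Q75299 (allL N75299 (tt N42047 (iv1 D147378)) (tt N94932 F406395) (tt N109263 (iv2 F466064)) (tt N47481 F354820) (tt N88523 (iv4 F383392)) (tt N100405 (iv5 F428824)) (tt N47394 F354821) (tt N47428 F354822))
theorem Q75301 : ∀ i, i < 75301 → P i := stepQ 75300 Q75300 (allL N75300 (tt N94931 (iv1 F406387)) (tt N66303 F365199) (tt N74249 F364896) (tt N42053 F231095) (tt N98837 (iv4 F422515)) (tt N42047 (iv5 D147379)) (tt N97377 (iv6 F416595)) (tt N94037 (iv7 F402920)))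
theorem Q75302 : ∀ i, i < 75302 → P i := stepQ 75301 Q75301 (allL N75301 (tt N109263 (iv1 F466058)) (tt N47428 F376353) (tt N94932 (iv2 F406391)) (tt N42054 F231096) (tt N99866 (iv4 F426603)) (tt N94037 F402919) (tt N94922 (iv6 F406352)) (tt N42047 (iv7 D147380)))
theorem Q75303 : ∀ i, i < 75303 → P i := stepQ 75302 Q75302 (allL N75302 (tt N71037 (iv1 F351976)) (tt N71040 (iv0 F336555)) (tt N42131 F231099) (tt N60370 F358201) (tt N95560 (iv4 F408651)) (tt N82153 F355175) (tt N42049 (iv6 D147382)) (tt N95667 (iv7 F409051)))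
theorem Q75304 : ∀ i, i < 75304 → P i := stepQ 75303 Q75303 (allL N75303 (tt N44065 F333974) (tt N79528 F333975) (tt N42135 F231101) (tt N97377 (iv3 F416592)) (tt N90198 (iv4 F388861)) (tt N42050 (iv5 D147385)) (tt N42053 F231102) (tt N79350 (iv7 F336619)))
theorem Q75305 : ∀ i, i < 75305 → P i := stepQ 75304 Q75304 (allL N75304 (tt N47938 F338178) (tt N82451 F338179) (tt N75677 F334589) (tt N42051 (iv3 D147388)) (tt N44554 F334590) (tt N63077 F334591) (tt N47510 F338177) (tt N42141 F233774))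
theorem Q75306 : ∀ i, i < 75306 → P i := stepQ 75305 Q75305 (allL N75305 (tt N77442 (iv1 F242690)) (tt N77440 (iv0 F242678)) (tt N42139 F233777) (tt N63077 (iv3 F334596)) (tt N107180 (iv4 F457371)) (tt N42051 (iv5 D147389)) (tt N66423 (iv6 F334048)) (tt N42143 F233778))
theorem Q75307 : ∀ i, i < 75307 → P i := stepQ 75306 Q75306 (allL N75306 (tt N99850 F426527) (tt N47415 F354241) (tt N42140 F233772) (tt N47510 F334046) (tt N42437 F231108) (tt N47395 F334047) (tt N42051 (iv6 D147390)) (tt N100382 (iv7 F428710)))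
theorem Q75308 : ∀ i, i < 75308 → P i := stepQ 75307 Q75307 (allL N75307 (tt N102333 (iv1 F436778)) (tt N109266 D212494) (tt N109267 D212495) (tt N42052 (iv3 D147392)) (tt N109123 (iv4 F465435)) (tt N91437 F393128) (tt N109268 D212496) (tt N42137 F233782))
theorem Q75309 : ∀ i, i < 75309 → P i := stepQ 75308 Q75308 (allL N75308 (tt N49042 F310858) (tt N49043 F310859) (tt N42142 F233783) (tt N92581 (iv3 F397473)) (tt N42052 (iv4 D147393)) (tt N76011 (iv5 F235633)) (tt N54968 (iv6 F345669)) (tt N42138 F233784))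
theorem Q75310 : ∀ i, i < 75310 → P i := stepQ 75309 Q75309 (allL N75309 (tt N77440 (iv1 F242679)) (tt N77442 (iv0 F242689)) (tt N42143 F233785) (tt N91437 (iv3 F393127)) (tt N83187 F358564) (tt N42052 (iv5 D147394)) (tt N83186 (iv6 F358566)) (tt N42139 F233786))
theorem Q75311 : ∀ i, i < 75311 → P i := stepQ 75310 Q75310 (allL N75310 (tt N109232 (iv1 F465896)) (tt N99992 (iv0 F427090)) (tt N42144 F233787) (tt N109268 (iv3 F466087)) (tt N54968 (iv4 F345661)) (tt N79389 F345660) (tt N42052 (iv6 D147395)) (tt N101693 (iv7 F433898)))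
theorem Q75312 : ∀ i, i < 75312 → P i := stepQ 75311 Q75311 (allL N75311 (tt N42148 (iv1 F231117)) (tt N42053 (iv0 D147396)) (tt N42145 F337987) (tt N42329 F335063) (tt N49056 F337988) (tt N92603 (iv5 F397596)) (tt N81235 F354061) (tt N42146 F337989))
theorem Q75313 : ∀ i, i < 75313 → P i := stepQ 75312 Q75312 (allL N75312 (tt N42053 (iv1 D147397)) (tt N42148 F231110) (tt N42146 F337906) (tt N109269 D212497) (tt N107451 (iv4 F458381)) (tt N49046 F337905) (tt N66218 F337907) (tt N42145 F337908))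
theorem Q75314 : ∀ i, i < 75314 → P i := stepQ 75313 Q75313 (allL N75313 (tt N83403 (iv1 F352429)) (tt N83404 F337915) (tt N42147 F231111) (tt N109270 D212498) (tt N42053 (iv4 D147398)) (tt N43809 F231112) (tt N90198 F388859) (tt N43808 (iv7 F231113)))
theorem Q75315 : ∀ i, i < 75315 → P i := stepQ 75314 Q75314 (allL N75314 (tt N42146 (iv1 F231118)) (tt N42145 F231119) (tt N42148 F231114) (tt N94037 (iv3 F402917)) (tt N43808 F231115) (tt N42054 F231116) (tt N94036 (iv6 F402915)) (tt N42053 (iv7 D147399)))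
theorem Q75316 : ∀ i, i < 75316 → P i := stepQ 75315 Q75315 (allL N75315 (tt N66756 (iv1 F231597)) (tt N62704 (iv0 F231128)) (tt N74477 F231129) (tt N81496 (iv3 F347616)) (tt N42055 (iv4 D147403)) (tt N104080 (iv5 F444076)) (tt N79071 F347614) (tt N42170 F231127))
theorem Q75317 : ∀ i, i < 75317 → P i := stepQ 75316 Q75316 (allL N75316 (tt N77457 (iv1 F242766)) (tt N43518 (iv0 F241349)) (tt N106587 (iv2 F454958)) (tt N42057 F231131) (tt N90061 (iv4 F388456)) (tt N42055 (iv5 D147404)) (tt N77254 F242131) (tt N42171 F231132))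
theorem Q75318 : ∀ i, i < 75318 → P i := stepQ 75317 Q75317 (allL N75317 (tt N75686 (iv1 F308165)) (tt N75690 F338628) (tt N52020 (iv2 F310420)) (tt N42058 F231134) (tt N79071 (iv4 F347606)) (tt N45200 (iv5 F233085)) (tt N42055 (iv6 D147405)) (tt N75689 (iv7 F310419)))
theorem Q75319 : ∀ i, i < 75319 → P i := stepQ 75318 Q75318 (allL N75318 (tt N42060 (iv1 F231137)) (tt N42056 (iv0 D147406)) (tt N42158 (iv2 F231136)) (tt N85798 (iv3 F373995)) (tt N75427 F231485) (tt N109271 D212499) (tt N107917 (iv6 F460277)) (tt N42069 F231138))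
theorem Q75320 : ∀ i, i < 75320 → P i := stepQ 75319 Q75319 (allL N75319 (tt N77445 F242705) (tt N77443 (iv0 F242693)) (tt N42160 F231140) (tt N46219 F340234) (tt N86365 (iv4 F375960)) (tt N42056 (iv5 D147408)) (tt N46215 F340235) (tt N42174 F231141))
theorem Q75321 : ∀ i, i < 75321 → P i := stepQ 75320 Q75320 (allL N75320 (tt N42058 (iv1 D147411)) (tt N42167 F231147) (tt N42165 F231150) (tt N63709 F231151) (tt N47415 F334064) (tt N63705 (iv5 F231149)) (tt N88208 (iv6 F382184)) (tt N42095 F231148))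
theorem Q75322 : ∀ i, i < 75322 → P i := stepQ 75321 Q75321 (allL N75321 (tt N42165 (iv1 F231155)) (tt N42095 F231156) (tt N42167 F231152) (tt N75689 (iv3 F310416)) (tt N52797 (iv4 F334527)) (tt N43436 F231153) (tt N42179 F231154) (tt N42058 (iv7 D147412)))
theorem Q75323 : ∀ i, i < 75323 → P i := stepQ 75322 Q75322 (allL N75322 (tt N77443 (iv1 F242694)) (tt N77445 (iv0 F242704)) (tt N42174 F231161) (tt N101841 F434607) (tt N77395 F353739) (tt N42060 (iv5 D147414)) (tt N81060 (iv6 F353857)) (tt N42160 F231162))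
theorem Q75324 : ∀ i, i < 75324 → P i := stepQ 75323 Q75323 (allL N75323 (tt N65100 (iv1 F313328)) (tt N77639 F356290) (tt N42175 F231163) (tt N102258 (iv3 F436411)) (tt N42061 F231164) (tt N77587 (iv5 F343965)) (tt N42060 (iv6 D147415)) (tt N80759 (iv7 F334513)))
theorem Q75325 : ∀ i, i < 75325 → P i := stepQ 75324 Q75324 (allL N75324 (tt N42079 (iv1 F231172)) (tt N42177 (iv0 F231174)) (tt N42179 F231165) (tt N52007 (iv3 F312758)) (tt N80759 F334509) (tt N75002 (iv5 F243016)) (tt N42167 F231168) (tt N42061 (iv7 D147416)))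
theorem Q75326 : ∀ i, i < 75326 → P i := stepQ 75325 Q75325 (allL N75325 (tt N65212 F231195) (tt N65238 F231196) (tt N65236 F231193) (tt N68352 (iv3 F313721)) (tt N96084 (iv4 F410964)) (tt N42063 (iv5 D147425)) (tt N72683 (iv6 F360893)) (tt N65235 F231194))
theorem Q75327 : ∀ i, i < 75327 → P i := stepQ 75326 Q75326 (allL N75326 (tt N78322 F248103) (tt N78324 (iv0 F344003)) (tt N87073 (iv2 F378280)) (tt N78328 (iv3 F248278)) (tt N52221 F343998) (tt N65119 (iv5 F343997)) (tt N42064 (iv6 D147429)) (tt N80432 F344001))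
theorem Q75328 : ∀ i, i < 75328 → P i := stepQ 75327 Q75327 (allL N75327 (tt N43885 (iv1 F231207)) (tt N42065 (iv0 D147430)) (tt N43883 (iv2 F231202)) (tt N43346 (iv3 F231203)) (tt N99497 (iv4 F424862)) (tt N77417 (iv5 F242594)) (tt N43340 F231201) (tt N43884 F231204))
theorem Q75329 : ∀ i, i < 75329 → P i := stepQ 75328 Q75328 (allL N75328 (tt N62347 (iv1 F316881)) (tt N62344 F350026) (tt N43882 F231208) (tt N109272 D212500) (tt N42065 (iv4 D147431)) (tt N109273 D212501) (tt N42194 F231209) (tt N62345 (iv7 F349999)))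
theorem Q75330 : ∀ i, i < 75330 → P i := stepQ 75329 Q75329 (allL N75329 (tt N88644 (iv1 F383686)) (tt N88664 (iv0 F383787)) (tt N79284 (iv2 F347981)) (tt N42067 F231224) (tt N74755 F231225) (tt N95840 (iv5 F409887)) (tt N42066 (iv6 D147436)) (tt N109274 D212502))
theorem Q75331 : ∀ i, i < 75331 → P i := stepQ 75330 Q75330 (allL N75330 (tt N97528 F417270) (tt N46270 F339607) (tt N85724 (iv2 F373660)) (tt N95840 F409888) (tt N82019 F339608) (tt N42067 (iv5 D147439)) (tt N46342 F344729) (tt N109275 D212503))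
theorem Q75332 : ∀ i, i < 75332 → P i := stepQ 75331 Q75331 (allL N75331 (tt N42185 F237573) (tt N42181 F237574) (tt N107917 (iv2 F460274)) (tt N109274 (iv3 F466122)) (tt N44374 F317007) (tt N109275 (iv5 F466131)) (tt N42158 F231227) (tt N42067 (iv7 D147440)))
theorem Q75333 : ∀ i, i < 75333 → P i := stepQ 75332 Q75332 (allL N75332 (tt N109276 D212504) (tt N63747 (iv0 F338181)) (tt N76657 F363650) (tt N42069 F231229) (tt N76569 (iv4 F363649)) (tt N109277 D212505) (tt N42068 (iv6 D147443)) (tt N85798 (iv7 F373997)))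
theorem Q75334 : ∀ i, i < 75334 → P i := stepQ 75333 Q75333 (allL N75333 (tt N43837 F231230) (tt N43858 (iv0 F231631)) (tt N109256 (iv2 F466025)) (tt N109277 (iv3 F466143)) (tt N83317 F337994) (tt N42069 (iv5 D147444)) (tt N109240 (iv6 F465939)) (tt N109271 (iv7 F466108)))
theorem Q75335 : ∀ i, i < 75335 → P i := stepQ 75334 Q75334 (allL N75334 (tt N47120 F355092) (tt N79286 F353595) (tt N79285 (iv2 F353655)) (tt N42071 (iv3 D147449)) (tt N57989 F231236) (tt N74742 F231234) (tt N109278 D212506) (tt N75204 F231235))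
theorem Q75336 : ∀ i, i < 75336 → P i := stepQ 75335 Q75335 (allL N75335 (tt N100815 F430608) (tt N60003 (iv0 F351678)) (tt N75210 F231241) (tt N109278 (iv3 F466150)) (tt N81562 (iv4 F348602)) (tt N109279 D212507) (tt N42071 (iv6 D147450)) (tt N100816 (iv7 F430613)))
theorem Q75337 : ∀ i, i < 75337 → P i := stepQ 75336 Q75336 (allL N75336 (tt N59469 (iv1 F231245)) (tt N59472 (iv0 F231244)) (tt N95844 (iv2 F409915)) (tt N42072 (iv3 D147451)) (tt N109280 D212508) (tt N74938 F231242) (tt N101869 (iv6 F434749)) (tt N75209 F231243))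
theorem Q75338 : ∀ i, i < 75338 → P i := stepQ 75337 Q75337 (allL N75337 (tt N80361 F344687) (tt N42898 F344688) (tt N75206 F231246) (tt N101869 (iv3 F434748)) (tt N81170 (iv4 F362491)) (tt N80381 F344689) (tt N42072 (iv6 D147452)) (tt N80363 F344690))
theorem Q75339 : ∀ i, i < 75339 → P i := stepQ 75338 Q75338 (allL N75338 (tt N45438 F350710) (tt N46435 F350711) (tt N46433 F352164) (tt N42073 (iv3 D147458)) (tt N48344 F350712) (tt N98297 (iv5 F420384)) (tt N65165 F350713) (tt N46432 F352165))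
theorem Q75340 : ∀ i, i < 75340 → P i := stepQ 75339 Q75339 (allL N75339 (tt N75379 (iv1 F243366)) (tt N56061 (iv0 F243363)) (tt N75378 F243352) (tt N44604 F243346) (tt N42073 (iv4 D147459)) (tt N48153 (iv5 F243347)) (tt N62714 (iv6 F243348)) (tt N62604 (iv7 F243349)))
theorem Q75341 : ∀ i, i < 75341 → P i := stepQ 75340 Q75340 (allL N75340 (tt N42426 F355123) (tt N78337 F355124) (tt N78335 (iv2 F355521)) (tt N98297 (iv3 F420383)) (tt N76929 (iv4 F355535)) (tt N42073 (iv5 D147460)) (tt N109281 D212509) (tt N78334 F355522))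
theorem Q75342 : ∀ i, i < 75342 → P i := stepQ 75341 Q75341 (allL N75341 (tt N42175 F243360) (tt N80759 F334517) (tt N77639 (iv2 F352181)) (tt N65165 (iv3 F350714)) (tt N62714 F243361) (tt N91340 (iv5 F392802)) (tt N42073 (iv6 D147461)) (tt N65100 (iv7 F313330)))
theorem Q75343 : ∀ i, i < 75343 → P i := stepQ 75342 Q75342 (allL N75342 (tt N56061 (iv1 F243364)) (tt N75379 F243365) (tt N62604 (iv2 F243356)) (tt N87749 (iv3 F380354)) (tt N42074 (iv4 D147464)) (tt N80353 F330083) (tt N64926 (iv6 F348853)) (tt N75378 F243355))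
theorem Q75344 : ∀ i, i < 75344 → P i := stepQ 75343 Q75343 (allL N75343 (tt N65112 (iv1 F348860)) (tt N65111 (iv0 F348859)) (tt N65115 (iv2 F348855)) (tt N94043 F402950) (tt N64926 F348854) (tt N65134 (iv5 F348857)) (tt N42074 (iv6 D147466)) (tt N65091 (iv7 F348856)))
theorem Q75345 : ∀ i, i < 75345 → P i := stepQ 75344 Q75344 (allL N75344 (tt N103119 (iv1 F440157)) (tt N42075 (iv0 D147467)) (tt N99577 (iv2 F425252)) (tt N108287 (iv3 F461890)) (tt N91752 (iv4 F394305)) (tt N77444 F242695) (tt N103124 (iv6 F440182)) (tt N99842 (iv7 F426482)))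
theorem Q75346 : ∀ i, i < 75346 → P i := stepQ 75345 Q75345 (allL N75345 (tt N99842 (iv1 F426484)) (tt N99577 (iv0 F425251)) (tt N103119 (iv2 F440162)) (tt N75755 (iv3 F347938)) (tt N84133 (iv4 F368250)) (tt N42076 F231254) (tt N47583 F311872) (tt N42075 (iv7 D147470)))
theorem Q75347 : ∀ i, i < 75347 → P i := stepQ 75346 Q75346 (allL N75346 (tt N98138 F419645) (tt N108252 F461706) (tt N99566 (iv2 F425194)) (tt N42077 (iv3 D147486)) (tt N99888 (iv4 F426691)) (tt N88178 F382039) (tt N47391 F357760) (tt N108253 (iv7 F461711)))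
theorem Q75348 : ∀ i, i < 75348 → P i := stepQ 75347 Q75347 (allL N75347 (tt N44595 F350787) (tt N42102 F350788) (tt N75019 F350766) (tt N88178 (iv3 F382037)) (tt N76918 (iv4 F350782)) (tt N42077 (iv5 D147487)) (tt N109282 D212510) (tt N75020 F350785))
theorem Q75349 : ∀ i, i < 75349 → P i := stepQ 75348 Q75348 (allL N75348 (tt N42144 F350792) (tt N101693 (iv0 F433899)) (tt N99992 (iv2 F427086)) (tt N47391 F357759) (tt N42079 F231270) (tt N103939 (iv5 F443459)) (tt N42077 (iv6 D147488)) (tt N109232 (iv7 F465894)))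
theorem Q75350 : ∀ i, i < 75350 → P i := stepQ 75349 Q75349 (allL N75349 (tt N94422 F404422) (tt N74608 F361196) (tt N99993 (iv2 F427092)) (tt N77521 (iv3 F357268)) (tt N42078 (iv4 D147492)) (tt N71908 F357258) (tt N74601 F357269) (tt N109258 (iv7 F466039)))
theorem Q75351 : ∀ i, i < 75351 → P i := stepQ 75350 Q75350 (allL N75350 (tt N42102 F350728) (tt N44595 F350729) (tt N75020 (iv2 F350786)) (tt N76380 (iv3 F346404)) (tt N76382 F350730) (tt N42080 (iv5 D147504)) (tt N103819 (iv6 F442952)) (tt N75019 F350767))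
theorem Q75352 : ∀ i, i < 75352 → P i := stepQ 75351 Q75351 (allL N75351 (tt N80482 (iv1 F341975)) (tt N69139 (iv0 F354305)) (tt N101700 F433941) (tt N99572 (iv3 F425227)) (tt N42082 F231290) (tt N103576 (iv5 F442096)) (tt N42080 (iv6 D147505)) (tt N80401 F366789))
theorem Q75353 : ∀ i, i < 75353 → P i := stepQ 75352 Q75352 (allL N75352 (tt N74608 (iv1 F355146)) (tt N94422 (iv0 F404421)) (tt N109258 (iv2 F466036)) (tt N67307 F364420) (tt N42081 (iv4 D147506)) (tt N71909 F381494) (tt N76888 (iv6 F242941)) (tt N99993 (iv7 F427095)))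
theorem Q75354 : ∀ i, i < 75354 → P i := stepQ 75353 Q75353 (allL N75353 (tt N57075 F350027) (tt N57074 F350031) (tt N57077 (iv2 F350030)) (tt N96082 (iv3 F410957)) (tt N42083 (iv4 D147510)) (tt N107169 (iv5 F457306)) (tt N43568 F231296) (tt N57073 F350029))
theorem Q75355 : ∀ i, i < 75355 → P i := stepQ 75354 Q75354 (allL N75354 (tt N62463 F360680) (tt N42084 (iv0 D147513)) (tt N109259 F466044) (tt N97699 (iv3 F417955)) (tt N67078 F231300) (tt N109283 D212511) (tt N73789 (iv6 F322374)) (tt N73728 F360693))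
theorem Q75356 : ∀ i, i < 75356 → P i := stepQ 75355 Q75355 (allL N75355 (tt N42084 (iv1 D147514)) (tt N62463 F360683) (tt N73728 (iv2 F360685)) (tt N59196 (iv3 F360686)) (tt N67079 (iv4 F363002)) (tt N109284 D212512) (tt N59195 (iv6 F360687)) (tt N109259 (iv7 F466046)))
theorem Q75357 : ∀ i, i < 75357 → P i := stepQ 75356 Q75356 (allL N75356 (tt N96117 F452874) (tt N93320 (iv0 F424737)) (tt N96114 F411121) (tt N42084 (iv3 D147515)) (tt N109272 (iv4 F466111)) (tt N57109 F357300) (tt N67084 F231301) (tt N96115 (iv7 F411123)))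
theorem Q75358 : ∀ i, i < 75358 → P i := stepQ 75357 Q75357 (allL N75357 (tt N89590 F386866) (tt N91750 (iv0 F394302)) (tt N106930 (iv2 F456320)) (tt N57109 (iv3 F357297)) (tt N54190 (iv4 F357295)) (tt N42084 (iv5 D147516)) (tt N57107 F357296) (tt N54186 F357294))
theorem Q75359 : ∀ i, i < 75359 → P i := stepQ 75358 Q75358 (allL N75358 (tt N73728 F357290) (tt N109259 F466045) (tt N62463 F360681) (tt N96115 F411125) (tt N42085 F231302) (tt N54186 (iv5 F357281)) (tt N81254 (iv6 F366094)) (tt N42084 (iv7 D147517)))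
theorem Q75360 : ∀ i, i < 75360 → P i := stepQ 75359 Q75359 (allL N75359 (tt N76114 (iv1 F353619)) (tt N63939 F353611) (tt N76111 F350718) (tt N42086 (iv3 D147548)) (tt N75375 F231386) (tt N102255 (iv5 F436397)) (tt N103126 (iv6 F440188)) (tt N76112 (iv7 F347995)))
theorem Q75361 : ∀ i, i < 75361 → P i := stepQ 75360 Q75360 (allL N75360 (tt N80904 F360143) (tt N42173 F360144) (tt N81498 F361685) (tt N103126 (iv3 F440187)) (tt N81464 (iv4 F376352)) (tt N90561 (iv5 F390110)) (tt N42086 (iv6 D147551)) (tt N81497 F361689))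
theorem Q75362 : ∀ i, i < 75362 → P i := stepQ 75361 Q75361 (allL N75361 (tt N86227 (iv1 F375461)) (tt N109285 D212513) (tt N109257 (iv2 F466031)) (tt N77574 F358890) (tt N86111 (iv4 F375137)) (tt N82496 (iv5 F358889)) (tt N42087 (iv6 D147553)) (tt N109286 D212514))
theorem Q75363 : ∀ i, i < 75363 → P i := stepQ 75362 Q75362 (allL N75362 (tt N65574 (iv1 F231344)) (tt N65573 F231345) (tt N59994 F231341) (tt N65568 F231342) (tt N42089 (iv4 D147555)) (tt N102126 (iv5 F435863)) (tt N81214 (iv6 F355848)) (tt N65575 F231343))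
theorem Q75364 : ∀ i, i < 75364 → P i := stepQ 75363 Q75363 (allL N75363 (tt N109287 D212515) (tt N109288 D212516) (tt N59995 F231346) (tt N42090 F231347) (tt N81214 F355870) (tt N77023 F355872) (tt N42089 (iv6 D147556)) (tt N109289 D212517))
theorem Q75365 : ∀ i, i < 75365 → P i := stepQ 75364 Q75364 (allL N75364 (tt N91295 F392600) (tt N42090 (iv0 D147561)) (tt N46908 F308689) (tt N47078 F308690) (tt N81029 F354480) (tt N46904 F308691) (tt N76745 F308692) (tt N95842 (iv7 F409897)))
theorem Q75366 : ∀ i, i < 75366 → P i := stepQ 75365 Q75365 (allL N75365 (tt N42090 (iv1 D147562)) (tt N91295 (iv0 F392599)) (tt N95842 F409900) (tt N46917 F308693) (tt N81031 (iv4 F357678)) (tt N46909 F308694) (tt N109290 D212518) (tt N46908 F308695))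
theorem Q75367 : ∀ i, i < 75367 → P i := stepQ 75366 Q75366 (allL N75366 (tt N95842 (iv1 F409896)) (tt N46908 F353937) (tt N91295 (iv2 F392595)) (tt N109289 (iv3 F466208)) (tt N55176 F340605) (tt N78627 (iv5 F353938)) (tt N55175 (iv6 F340606)) (tt N42090 (iv7 D147564)))
theorem Q75368 : ∀ i, i < 75368 → P i := stepQ 75367 Q75367 (allL N75367 (tt N51993 F307323) (tt N68412 (iv0 F231355)) (tt N74750 F231351) (tt N46006 (iv3 F307975)) (tt N42091 (iv4 D147566)) (tt N46601 F307324) (tt N94104 (iv6 F403221)) (tt N74763 F231352))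
theorem Q75369 : ∀ i, i < 75369 → P i := stepQ 75368 Q75368 (allL N75368 (tt N52797 F334530) (tt N42161 (iv0 F231361)) (tt N76632 F308687) (tt N46430 F308688) (tt N44912 F231360) (tt N42428 F334531) (tt N42092 (iv6 D147571)) (tt N80149 (iv7 F261841)))
theorem Q75370 : ∀ i, i < 75370 → P i := stepQ 75369 Q75369 (allL N75369 (tt N43196 F334539) (tt N61272 F334540) (tt N47422 F334541) (tt N42094 (iv3 D147580)) (tt N63948 F334542) (tt N48418 F334543) (tt N47369 F334544) (tt N64465 F334545))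
theorem Q75371 : ∀ i, i < 75371 → P i := stepQ 75370 Q75370 (allL N75370 (tt N100382 (iv1 F428712)) (tt N42140 (iv0 F231479)) (tt N99850 (iv2 F426522)) (tt N47369 F334535) (tt N42095 F231369) (tt N42436 F334045) (tt N42094 (iv6 D147582)) (tt N47415 F334536))
theorem Q75372 : ∀ i, i < 75372 → P i := stepQ 75371 Q75371 (allL N75371 (tt N43263 F347790) (tt N43197 F347791) (tt N43260 F347792) (tt N42098 (iv3 D147592)) (tt N63301 F347793) (tt N94172 (iv5 F403532)) (tt N109291 D212519) (tt N43261 F347794))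
theorem Q75373 : ∀ i, i < 75373 → P i := stepQ 75372 Q75372 (allL N75372 (tt N63943 F347991) (tt N43737 F347992) (tt N63940 (iv2 F353598)) (tt N63302 (iv3 F314119)) (tt N42098 (iv4 D147593)) (tt N109061 (iv5 F465157)) (tt N101246 (iv6 F432387)) (tt N63941 F353627))
theorem Q75374 : ∀ i, i < 75374 → P i := stepQ 75373 Q75373 (allL N75373 (tt N42137 F392934) (tt N109267 F466084) (tt N102333 (iv2 F436773)) (tt N109291 (iv3 F466221)) (tt N101246 F432388) (tt N109292 D212520) (tt N42098 (iv6 D147594)) (tt N109266 (iv7 F466075)))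
theorem Q75375 : ∀ i, i < 75375 → P i := stepQ 75374 Q75374 (allL N75374 (tt N77219 F316670) (tt N77218 F316671) (tt N42100 F231384) (tt N62891 F348002) (tt N42099 (iv4 D147595)) (tt N109293 D212521) (tt N62889 (iv6 F314965)) (tt N43468 F316672))
theorem Q75376 : ∀ i, i < 75376 → P i := stepQ 75375 Q75375 (allL N75375 (tt N42100 (iv1 D147597)) (tt N43468 F316669) (tt N77218 F347999) (tt N107652 (iv3 F459087)) (tt N75359 (iv4 F231386)) (tt N82911 (iv5 F359699)) (tt N109294 D212522) (tt N77219 (iv7 F347998)))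
theorem Q75377 : ∀ i, i < 75377 → P i := stepQ 75376 Q75376 (allL N75376 (tt N107647 (iv1 F459061)) (tt N109295 D212523) (tt N109293 (iv2 F466230)) (tt N75112 F231387) (tt N109058 (iv4 F465145)) (tt N42100 (iv5 D147598)) (tt N87642 (iv6 F379975)) (tt N77220 (iv7 F366696)))
theorem Q75378 : ∀ i, i < 75378 → P i := stepQ 75377 Q75377 (allL N75377 (tt N62932 (iv1 F314958)) (tt N62931 (iv0 F314957)) (tt N62889 (iv2 F314964)) (tt N62921 F349454) (tt N42102 F231388) (tt N109296 D212524) (tt N42100 (iv6 D147599)) (tt N43465 F316673))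
theorem Q75379 : ∀ i, i < 75379 → P i := stepQ 75378 Q75378 (allL N75378 (tt N75752 (iv1 F350041)) (tt N42103 (iv0 D147605)) (tt N75339 (iv2 F243352)) (tt N75551 F243353) (tt N75275 (iv4 F243358)) (tt N82234 (iv5 F279744)) (tt N54970 (iv6 F330081)) (tt N75342 (iv7 F243355)))
theorem Q75380 : ∀ i, i < 75380 → P i := stepQ 75379 Q75379 (allL N75379 (tt N75342 (iv1 F243365)) (tt N75339 F243366) (tt N75752 F350040) (tt N92579 (iv3 F397462)) (tt N42106 F231392) (tt N102998 (iv5 F439608)) (tt N87461 (iv6 F379405)) (tt N42103 (iv7 D147607)))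
theorem Q75381 : ∀ i, i < 75381 → P i := stepQ 75380 Q75380 (allL N75380 (tt N79788 (iv1 F354857)) (tt N79790 (iv0 F354863)) (tt N80280 (iv2 F354811)) (tt N42104 (iv3 D147608)) (tt N95764 (iv4 F409527)) (tt N74987 F231393) (tt N79666 (iv6 F354849)) (tt N75194 F231394))
theorem Q75382 : ∀ i, i < 75382 → P i := stepQ 75381 Q75381 (allL N75381 (tt N62874 (iv1 F350045)) (tt N62873 F360602) (tt N55380 F350037) (tt N62862 (iv3 F360601)) (tt N42105 (iv4 D147626)) (tt N55362 F350038) (tt N48691 F350039) (tt N62875 (iv7 F350044)))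
theorem Q75383 : ∀ i, i < 75383 → P i := stepQ 75382 Q75382 (allL N75382 (tt N62781 F316676) (tt N62780 F316677) (tt N42407 F316678) (tt N75014 F316679) (tt N62875 F316680) (tt N42106 F231401) (tt N104789 (iv6 F447285)) (tt N42105 (iv7 D147627)))
theorem Q75384 : ∀ i, i < 75384 → P i := stepQ 75383 Q75383 (allL N75383 (tt N101736 (iv1 F434105)) (tt N43258 F347778) (tt N98144 (iv2 F419681)) (tt N42107 (iv3 D147628)) (tt N75553 (iv4 F347774)) (tt N47810 (iv5 F316337)) (tt N47539 F347634) (tt N47934 F313887))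
theorem Q75385 : ∀ i, i < 75385 → P i := stepQ 75384 Q75384 (allL N75384 (tt N75677 (iv1 F364020)) (tt N42141 F338176) (tt N82451 F313889) (tt N47539 F347631) (tt N78377 (iv4 F364021)) (tt N47815 F313890) (tt N42107 (iv6 D147630)) (tt N47938 F313891))
theorem Q75386 : ∀ i, i < 75386 → P i := stepQ 75385 Q75385 (allL N75385 (tt N80162 (iv1 F345799)) (tt N42112 (iv0 D147643)) (tt N68543 (iv2 F334255)) (tt N80633 (iv3 F357777)) (tt N91297 (iv4 F392604)) (tt N80631 F334247) (tt N64136 (iv6 F334248)) (tt N79525 (iv7 F345796)))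
theorem Q75387 : ∀ i, i < 75387 → P i := stepQ 75386 Q75386 (allL N75386 (tt N42112 (iv1 D147644)) (tt N80162 F341905) (tt N79525 F345797) (tt N68550 (iv3 F334258)) (tt N91296 (iv4 F392601)) (tt N109297 D212525) (tt N64100 (iv6 F362184)) (tt N68543 F334257))
theorem Q75388 : ∀ i, i < 75388 → P i := stepQ 75387 Q75387 (allL N75387 (tt N42113 (iv1 D147648)) (tt N43434 F303566) (tt N47090 F303567) (tt N68555 (iv3 F306205)) (tt N47089 F303569) (tt N64050 (iv5 F305668)) (tt N46876 F306033) (tt N66836 F303570))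
theorem Q75389 : ∀ i, i < 75389 → P i := stepQ 75388 Q75388 (allL N75388 (tt N42115 (iv1 D147651)) (tt N46760 F325854) (tt N80329 (iv2 F352166)) (tt N98144 (iv3 F419682)) (tt N79280 F350707) (tt N57496 F231419) (tt N109298 D212526) (tt N80331 (iv7 F352176)))
theorem Q75390 : ∀ i, i < 75390 → P i := stepQ 75389 Q75389 (allL N75389 (tt N97068 F415307) (tt N79653 F340641) (tt N58861 F231423) (tt N47923 F353486) (tt N95381 (iv4 F408063)) (tt N56337 (iv5 F346412)) (tt N42117 (iv6 D147654)) (tt N47927 F353487))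
theorem Q75391 : ∀ i, i < 75391 → P i := stepQ 75390 Q75390 (allL N75390 (tt N57368 (iv1 F362023)) (tt N73696 (iv0 F362021)) (tt N99605 (iv2 F425377)) (tt N45197 F346410) (tt N56339 (iv4 F346411)) (tt N42118 (iv5 D147657)) (tt N56337 F346409) (tt N81436 (iv7 F346413)))
theorem Q75392 : ∀ i, i < 75392 → P i := stepQ 75391 Q75391 (allL N75391 (tt N65854 (iv1 F351042)) (tt N97365 (iv0 F416527)) (tt N42124 F231426) (tt N109262 (iv3 F466052)) (tt N81622 F349864) (tt N74250 (iv5 F349865)) (tt N42120 (iv6 D147664)) (tt N81619 (iv7 F340644)))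
theorem Q75393 : ∀ i, i < 75393 → P i := stepQ 75392 Q75392 (allL N75392 (tt N42128 (iv1 F231431)) (tt N42121 (iv0 D147665)) (tt N42125 F344143) (tt N100530 (iv3 F429347)) (tt N66747 (iv4 F231433)) (tt N57369 (iv5 F344153)) (tt N99849 F426520) (tt N42126 F344144))
theorem Q75394 : ∀ i, i < 75394 → P i := stepQ 75393 Q75393 (allL N75393 (tt N42121 (iv1 D147666)) (tt N42128 F231427) (tt N42126 F344145) (tt N109299 D212527) (tt N109300 D212528) (tt N57370 (iv5 F349876)) (tt N108260 (iv6 F461745)) (tt N42125 F344146))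
theorem Q75395 : ∀ i, i < 75395 → P i := stepQ 75394 Q75394 (allL N75394 (tt N42126 (iv1 F231432)) (tt N42125 F231434) (tt N42128 F231429) (tt N94932 (iv3 F406392)) (tt N42266 F231430) (tt N66289 (iv5 F344159)) (tt N77572 F346271) (tt N42121 (iv7 D147668)))
theorem Q75396 : ∀ i, i < 75396 → P i := stepQ 75395 Q75395 (allL N75395 (tt N48032 F348544) (tt N43194 F348545) (tt N59967 F231435) (tt N47287 F334611) (tt N96915 (iv4 F414591)) (tt N47286 F334612) (tt N42122 (iv6 D147669)) (tt N95751 (iv7 F409458)))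
theorem Q75397 : ∀ i, i < 75397 → P i := stepQ 75396 Q75396 (allL N75396 (tt N42123 (iv1 D147670)) (tt N78668 F349847) (tt N59931 F349827) (tt N59577 F349828) (tt N78756 (iv4 F349826)) (tt N90993 (iv5 F391496)) (tt N66695 (iv6 F353239)) (tt N81627 (iv7 F349835)))
theorem Q75398 : ∀ i, i < 75398 → P i := stepQ 75397 Q75397 (allL N75397 (tt N91946 F395079) (tt N92000 F395318) (tt N87456 (iv2 F379386)) (tt N42123 (iv3 D147671)) (tt N42132 F231436) (tt N99217 (iv5 F423725)) (tt N91882 (iv6 F394813)) (tt N81624 F358430))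
theorem Q75399 : ∀ i, i < 75399 → P i := stepQ 75398 Q75398 (allL N75398 (tt N45769 F336340) (tt N79594 F353252) (tt N81622 F349860) (tt N91882 (iv3 F394812)) (tt N42124 F231437) (tt N101668 (iv5 F433769)) (tt N42123 (iv6 D147672)) (tt N78670 (iv7 F353270)))
theorem Q75400 : ∀ i, i < 75400 → P i := stepQ 75399 Q75399 (allL N75399 (tt N42124 (iv1 D147674)) (tt N81619 (iv0 F353273)) (tt N97365 (iv2 F416522)) (tt N65836 (iv3 F353278)) (tt N58594 F353275) (tt N57360 (iv5 F346277)) (tt N91861 F394748) (tt N65854 F353249))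
theorem Q75401 : ∀ i, i < 75401 → P i := stepQ 75400 Q75400 (allL N75400 (tt N97365 (iv1 F416528)) (tt N65854 F353271) (tt N81619 F334020) (tt N42136 F231440) (tt N78670 F334021) (tt N94113 (iv5 F403269)) (tt N46330 F334022) (tt N42124 (iv7 D147676)))
theorem Q75402 : ∀ i, i < 75402 → P i := stepQ 75401 Q75401 (allL N75401 (tt N100024 F427253) (tt N109298 (iv0 F466261)) (tt N109301 D212529) (tt N42125 (iv3 D147678)) (tt N69205 F356063) (tt N103014 F439676) (tt N47491 F356064) (tt N109299 (iv7 F466265)))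
theorem Q75403 : ∀ i, i < 75403 → P i := stepQ 75402 Q75402 (allL N75402 (tt N46631 F332124) (tt N99447 (iv0 F424626)) (tt N66747 F344147) (tt N109302 D212530) (tt N42125 (iv4 D147679)) (tt N46591 F332125) (tt N101133 (iv6 F431848)) (tt N109300 (iv7 F466273)))
theorem Q75404 : ∀ i, i < 75404 → P i := stepQ 75403 Q75403 (allL N75403 (tt N57372 (iv1 F362722)) (tt N57310 F344158) (tt N57369 F344154) (tt N103014 F439673) (tt N56835 (iv4 F344155)) (tt N42125 (iv5 D147680)) (tt N57067 (iv6 F344156)) (tt N57370 (iv7 F344157)))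
theorem Q75405 : ∀ i, i < 75405 → P i := stepQ 75404 Q75404 (allL N75404 (tt N47419 F344161) (tt N99851 F426534) (tt N99849 (iv2 F426521)) (tt N47491 F344162) (tt N101133 (iv4 F431849)) (tt N47403 F344163) (tt N42125 (iv6 D147681)) (tt N99848 (iv7 F426514)))
theorem Q75406 : ∀ i, i < 75406 → P i := stepQ 75405 Q75405 (allL N75405 (tt N94174 F408916) (tt N109303 D212531) (tt N109304 D212532) (tt N42126 (iv3 D147683)) (tt N58650 (iv4 F358574)) (tt N109305 D212533) (tt N100394 (iv6 F428779)) (tt N100530 (iv7 F429350)))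
theorem Q75407 : ∀ i, i < 75407 → P i := stepQ 75406 Q75406 (allL N75406 (tt N99447 (iv1 F424627)) (tt N46631 F344140) (tt N109300 (iv2 F466269)) (tt N42560 F319644) (tt N42126 (iv4 D147684)) (tt N46622 F344141) (tt N42553 F319645) (tt N66747 (iv7 F344142)))
theorem Q75408 : ∀ i, i < 75408 → P i := stepQ 75407 Q75407 (allL N75407 (tt N57310 F344148) (tt N57372 F344149) (tt N57370 F344150) (tt N109305 (iv3 F466299)) (tt N44363 F344151) (tt N42126 (iv5 D147685)) (tt N77610 F346279) (tt N57369 F344152))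
theorem Q75409 : ∀ i, i < 75409 → P i := stepQ 75408 Q75408 (allL N75408 (tt N77575 F346281) (tt N99567 (iv0 F425205)) (tt N108260 F461746) (tt N100394 (iv3 F428776)) (tt N42553 F346282) (tt N54297 (iv5 F346278)) (tt N42126 (iv6 D147686)) (tt N76546 F346280))
theorem Q75410 : ∀ i, i < 75410 → P i := stepQ 75409 Q75409 (allL N75409 (tt N55668 (iv1 F353613)) (tt N101996 (iv0 F435283)) (tt N66047 F231446) (tt N55648 F231447) (tt N42129 (iv4 D147691)) (tt N102924 (iv5 F439285)) (tt N67413 F349820) (tt N60600 F231448))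
theorem Q75411 : ∀ i, i < 75411 → P i := stepQ 75410 Q75410 (allL N75410 (tt N81510 F348430) (tt N79755 (iv0 F348428)) (tt N79373 (iv2 F348427)) (tt N42130 F231449) (tt N67413 (iv4 F349818)) (tt N69311 F348426) (tt N42129 (iv6 D147692)) (tt N104250 (iv7 F444934)))
theorem Q75412 : ∀ i, i < 75412 → P i := stepQ 75411 Q75411 (allL N75411 (tt N69310 F342738) (tt N42130 (iv0 D147693)) (tt N55546 F340284) (tt N68421 F340285) (tt N52288 (iv4 F340301)) (tt N67919 F340286) (tt N46236 F340287) (tt N81302 F340288))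
theorem Q75413 : ∀ i, i < 75413 → P i := stepQ 75412 Q75412 (allL N75412 (tt N42130 (iv1 D147694)) (tt N69310 (iv0 F361258)) (tt N81302 F340273) (tt N43194 F340274) (tt N55549 F340307) (tt N43190 F340275) (tt N45671 F336602) (tt N55546 F340289))
theorem Q75414 : ∀ i, i < 75414 → P i := stepQ 75413 Q75413 (allL N75413 (tt N95667 (iv1 F409052)) (tt N42131 (iv0 D147697)) (tt N71037 (iv2 F351977)) (tt N57293 (iv3 F351990)) (tt N58369 F351989) (tt N71044 F351991) (tt N79334 F336551) (tt N71040 (iv7 F336558)))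
theorem Q75415 : ∀ i, i < 75415 → P i := stepQ 75414 Q75414 (allL N75414 (tt N42131 (iv1 D147698)) (tt N95667 F409053) (tt N71040 F336569) (tt N104247 (iv3 F444916)) (tt N58368 (iv4 F351984)) (tt N77716 F345785) (tt N46160 F336570) (tt N71037 (iv7 F351979)))
theorem Q75416 : ∀ i, i < 75416 → P i := stepQ 75415 Q75415 (allL N75415 (tt N52561 F359865) (tt N42132 (iv0 D147701)) (tt N55579 (iv2 F358437)) (tt N109306 D212534) (tt N58554 F231450) (tt N87380 F379171) (tt N55527 F358439) (tt N87454 (iv7 F379377)))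
theorem Q75417 : ∀ i, i < 75417 → P i := stepQ 75416 Q75416 (allL N75416 (tt N95336 F407900) (tt N102323 (iv0 F436728)) (tt N91551 (iv2 F393612)) (tt N91883 (iv3 F394818)) (tt N109307 D212535) (tt N42133 (iv5 D147707)) (tt N87449 (iv6 F379354)) (tt N91601 (iv7 F393755)))
theorem Q75418 : ∀ i, i < 75418 → P i := stepQ 75417 Q75417 (allL N75417 (tt N55254 (iv1 F359597)) (tt N91859 F394744) (tt N79349 F334023) (tt N55556 (iv3 F358426)) (tt N42136 F231454) (tt N91601 (iv5 F393754)) (tt N46331 F334024) (tt N42133 (iv7 D147708)))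
theorem Q75419 : ∀ i, i < 75419 → P i := stepQ 75418 Q75418 (allL N75418 (tt N79321 (iv1 F353255)) (tt N79564 F336333) (tt N47791 F336334) (tt N109308 D212536) (tt N42134 (iv4 D147711)) (tt N109309 D212537) (tt N78500 F364272) (tt N79565 F336335))
theorem Q75420 : ∀ i, i < 75420 → P i := stepQ 75419 Q75419 (allL N75419 (tt N79568 F336325) (tt N66505 (iv0 F360761)) (tt N47792 F336327) (tt N79577 F336328) (tt N107962 (iv4 F460493)) (tt N42134 (iv5 D147712)) (tt N66230 F336322) (tt N79567 F336329))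
theorem Q75421 : ∀ i, i < 75421 → P i := stepQ 75420 Q75420 (allL N75420 (tt N79350 (iv1 F336618)) (tt N42135 (iv0 D147719)) (tt N44065 F336605) (tt N79557 F336606) (tt N55347 F336607) (tt N64101 F336608) (tt N44064 F336609) (tt N79528 F336610))
theorem Q75422 : ∀ i, i < 75422 → P i := stepQ 75421 Q75421 (allL N75421 (tt N49022 F354191) (tt N90199 F388865) (tt N90198 (iv2 F388860)) (tt N72477 (iv3 F349413)) (tt N42135 (iv4 D147721)) (tt N109310 D212538) (tt N42147 F231457) (tt N90197 (iv7 F388854)))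
theorem Q75423 : ∀ i, i < 75423 → P i := stepQ 75422 Q75422 (allL N75422 (tt N79528 F333976) (tt N44065 F333977) (tt N79350 F334025) (tt N94113 F403274) (tt N90197 F388852) (tt N42136 F231458) (tt N79717 F334026) (tt N42135 (iv7 D147722)))
theorem Q75424 : ∀ i, i < 75424 → P i := stepQ 75423 Q75423 (allL N75423 (tt N109267 (iv1 F466083)) (tt N42137 (iv0 D147733)) (tt N109266 (iv2 F466078)) (tt N109303 F466291) (tt N50656 (iv4 F361711)) (tt N109311 D212539) (tt N50660 F361710) (tt N102333 (iv7 F436776)))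
theorem Q75425 : ∀ i, i < 75425 → P i := stepQ 75424 Q75424 (allL N75424 (tt N109266 F466079) (tt N102333 (iv0 F436777)) (tt N42137 (iv2 D147735)) (tt N75677 (iv3 F361776)) (tt N77226 (iv4 F361777)) (tt N75676 F361780) (tt N77225 F361775) (tt N109267 (iv7 F466082)))
theorem Q75426 : ∀ i, i < 75426 → P i := stepQ 75425 Q75425 (allL N75425 (tt N83125 F426113) (tt N109294 F466238) (tt N77226 F361778) (tt N99762 F426112) (tt N42137 (iv4 D147736)) (tt N109312 D212540) (tt N65202 (iv6 F361779)) (tt N109123 (iv7 F465436)))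
theorem Q75427 : ∀ i, i < 75427 → P i := stepQ 75426 Q75426 (allL N75426 (tt N55022 F392932) (tt N82182 F392933) (tt N75676 (iv2 F361781)) (tt N42139 F231470) (tt N90676 (iv4 F390481)) (tt N42137 (iv5 D147737)) (tt N90675 F390479) (tt N91437 (iv7 F393125)))
theorem Q75428 : ∀ i, i < 75428 → P i := stepQ 75427 Q75427 (allL N75427 (tt N42142 (iv1 F231482)) (tt N42138 (iv0 D147740)) (tt N49043 F310454) (tt N75622 (iv3 F232196)) (tt N75318 (iv4 F231485)) (tt N43785 F231484) (tt N73143 F335050) (tt N49042 F310455))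
theorem Q75429 : ∀ i, i < 75429 → P i := stepQ 75428 Q75428 (allL N75428 (tt N75646 F233286) (tt N75057 (iv0 F231473)) (tt N92574 (iv2 F397435)) (tt N42138 (iv3 D147741)) (tt N99762 (iv4 F426108)) (tt N109313 D212541) (tt N76079 F236235) (tt N92581 (iv7 F397474)))
theorem Q75430 : ∀ i, i < 75430 → P i := stepQ 75429 Q75429 (allL N75429 (tt N83302 (iv1 F338006)) (tt N42868 F235858) (tt N76029 (iv2 F235854)) (tt N109313 (iv3 F466339)) (tt N43799 F231474) (tt N42138 (iv5 D147742)) (tt N45701 F231475) (tt N76011 (iv7 F235632)))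
theorem Q75431 : ∀ i, i < 75431 → P i := stepQ 75430 Q75430 (allL N75430 (tt N78727 (iv1 F250528)) (tt N46233 (iv0 F231478)) (tt N42437 (iv2 F233771)) (tt N76079 (iv3 F236233)) (tt N42140 F231476) (tt N42423 F231477) (tt N42138 (iv6 D147743)) (tt N42433 (iv7 F233744)))
theorem Q75432 : ∀ i, i < 75432 → P i := stepQ 75431 Q75431 (allL N75431 (tt N42143 (iv1 F231495)) (tt N42139 (iv0 D147745)) (tt N77442 (iv2 F242687)) (tt N100418 (iv3 F428878)) (tt N49106 F336311) (tt N75261 F231489) (tt N51215 F336312) (tt N77440 (iv7 F242677)))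
theorem Q75433 : ∀ i, i < 75433 → P i := stepQ 75432 Q75432 (allL N75432 (tt N42139 (iv1 D147746)) (tt N42143 F231490) (tt N77440 (iv2 F242676)) (tt N57310 F334598) (tt N59241 (iv4 F334599)) (tt N63756 (iv5 F231491)) (tt N57308 (iv6 F334601)) (tt N77442 (iv7 F242688)))
theorem Q75434 : ∀ i, i < 75434 → P i := stepQ 75433 Q75433 (allL N75433 (tt N55099 (iv1 F353757)) (tt N83310 F337998) (tt N107180 F457377) (tt N109314 D212542) (tt N42139 (iv4 D147747)) (tt N43802 (iv5 F231492)) (tt N109315 D212543) (tt N83187 F358565))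
theorem Q75435 : ∀ i, i < 75435 → P i := stepQ 75434 Q75434 (allL N75434 (tt N66420 F336323) (tt N66424 (iv0 F353102)) (tt N66423 F339303) (tt N90675 (iv3 F390478)) (tt N109315 (iv4 F466351)) (tt N63704 (iv5 F339302)) (tt N42139 (iv6 D147748)) (tt N66422 F339305))
theorem Q75436 : ∀ i, i < 75436 → P i := stepQ 75435 Q75435 (allL N75435 (tt N42140 (iv1 D147750)) (tt N100382 (iv0 F428711)) (tt N47415 F334537) (tt N99851 (iv3 F426530)) (tt N42165 F231497) (tt N42432 F334049) (tt N82149 F355431) (tt N99850 (iv7 F426528)))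
theorem Q75437 : ∀ i, i < 75437 → P i := stepQ 75436 Q75436 (allL N75436 (tt N47415 F334053) (tt N99850 (iv0 F426526)) (tt N100382 (iv2 F428706)) (tt N77222 (iv3 F349788)) (tt N42433 F233745) (tt N47329 F334054) (tt N101693 (iv6 F433897)) (tt N42140 (iv7 D147752)))
theorem Q75438 : ∀ i, i < 75438 → P i := stepQ 75437 Q75437 (allL N75437 (tt N82451 F334581) (tt N47938 F334582) (tt N42141 (iv2 D147756)) (tt N109267 (iv3 F466080)) (tt N44555 F334583) (tt N63075 F334584) (tt N47171 F334585) (tt N75677 F334586))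
theorem Q75439 : ∀ i, i < 75439 → P i := stepQ 75438 Q75438 (allL N75438 (tt N42868 F231503) (tt N83302 F338005) (tt N76011 (iv2 F235630)) (tt N42826 F231501) (tt N43803 F231502) (tt N42142 (iv5 D147760)) (tt N42824 F231504) (tt N76029 (iv7 F235857)))
theorem Q75440 : ∀ i, i < 75440 → P i := stepQ 75439 Q75439 (allL N75439 (tt N83310 F353432) (tt N55099 (iv0 F353756)) (tt N83187 (iv2 F358563)) (tt N75674 (iv3 F334594)) (tt N42143 (iv4 D147762)) (tt N43798 F231507) (tt N55338 F358562) (tt N107180 (iv7 F457373)))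
theorem Q75441 : ∀ i, i < 75441 → P i := stepQ 75440 Q75440 (allL N75440 (tt N101693 (iv1 F433900)) (tt N42144 (iv0 D147764)) (tt N109232 (iv2 F465890)) (tt N77575 (iv3 F355210)) (tt N42177 F355209) (tt N103932 (iv5 F443427)) (tt N80401 (iv6 F355211)) (tt N99992 (iv7 F427089)))
theorem Q75442 : ∀ i, i < 75442 → P i := stepQ 75441 Q75441 (allL N75441 (tt N99992 (iv1 F427091)) (tt N109232 (iv0 F465895)) (tt N101693 (iv2 F433895)) (tt N47159 F334577) (tt N54967 (iv4 F315760)) (tt N47158 F334578) (tt N100382 (iv6 F428709)) (tt N42144 (iv7 D147767)))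
theorem Q75443 : ∀ i, i < 75443 → P i := stepQ 75442 Q75442 (allL N75442 (tt N109311 (iv1 F466337)) (tt N109292 (iv0 F466229)) (tt N100021 (iv2 F427235)) (tt N42145 (iv3 D147769)) (tt N108521 F462922) (tt N76908 (iv5 F354072)) (tt N76909 F354078) (tt N109269 (iv7 F466095)))
theorem Q75444 : ∀ i, i < 75444 → P i := stepQ 75443 Q75443 (allL N75443 (tt N107454 (iv1 F458397)) (tt N107453 F458392) (tt N49056 F310368) (tt N109316 D212544) (tt N42145 (iv4 D147770)) (tt N43796 F231511) (tt N109317 D212545) (tt N107451 (iv7 F458384)))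
theorem Q75445 : ∀ i, i < 75445 → P i := stepQ 75444 Q75444 (allL N75444 (tt N43830 (iv1 F231512)) (tt N43832 F231510) (tt N92603 (iv2 F397592)) (tt N76908 F354068) (tt N43787 F231509) (tt N42145 (iv5 D147771)) (tt N76906 (iv6 F354067)) (tt N49046 F310880))
theorem Q75446 : ∀ i, i < 75446 → P i := stepQ 75445 Q75445 (allL N75445 (tt N100406 F428833) (tt N57351 (iv0 F342712)) (tt N81235 (iv2 F354062)) (tt N76909 (iv3 F354066)) (tt N109317 (iv4 F466356)) (tt N76907 F354063) (tt N42145 (iv6 D147772)) (tt N66357 (iv7 F354064)))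
theorem Q75447 : ∀ i, i < 75447 → P i := stepQ 75446 Q75446 (allL N75446 (tt N43832 (iv1 F231518)) (tt N43830 F231517) (tt N49046 F307912) (tt N67927 (iv3 F347827)) (tt N43795 F231516) (tt N42146 (iv5 D147776)) (tt N48481 F307913) (tt N92603 (iv7 F397595)))
theorem Q75448 : ∀ i, i < 75448 → P i := stepQ 75447 Q75447 (allL N75447 (tt N43808 (iv1 F231521)) (tt N42147 (iv0 D147778)) (tt N83403 F352426) (tt N109318 D212546) (tt N43837 F231519) (tt N43856 (iv5 F231520)) (tt N109319 D212547) (tt N83404 F352424))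
theorem Q75449 : ∀ i, i < 75449 → P i := stepQ 75448 Q75448 (allL N75448 (tt N42147 (iv1 D147779)) (tt N43808 F231522) (tt N83404 (iv2 F352355)) (tt N109320 D212548) (tt N43858 (iv4 F231523)) (tt N43826 F231524) (tt N66345 F352354) (tt N83403 (iv7 F352425)))
theorem Q75450 : ∀ i, i < 75450 → P i := stepQ 75449 Q75449 (allL N75449 (tt N43806 (iv1 F231528)) (tt N43805 F231529) (tt N43809 F231525) (tt N72476 (iv3 F349412)) (tt N43616 F231526) (tt N42147 (iv5 D147781)) (tt N109321 D212549) (tt N43615 F231527))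
theorem Q75451 : ∀ i, i < 75451 → P i := stepQ 75450 Q75450 (allL N75450 (tt N83404 F337914) (tt N83403 F352428) (tt N43808 F231530) (tt N58124 (iv3 F349414)) (tt N42148 F231531) (tt N43615 F231532) (tt N105521 (iv6 F450565)) (tt N42147 (iv7 D147782)))
theorem Q75452 : ∀ i, i < 75452 → P i := stepQ 75451 Q75451 (allL N75451 (tt N97373 (iv1 F416574)) (tt N96945 (iv0 F414722)) (tt N94036 (iv2 F402910)) (tt N67735 (iv3 F352232)) (tt N105521 (iv4 F450563)) (tt N79561 F341865) (tt N42148 (iv6 D147783)) (tt N79717 (iv7 F363242)))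
theorem Q75453 : ∀ i, i < 75453 → P i := stepQ 75452 Q75452 (allL N75452 (tt N50660 (iv1 F343031)) (tt N79656 (iv0 F356617)) (tt N47937 F337752) (tt N42150 (iv3 D147786)) (tt N49861 (iv4 F356615)) (tt N55458 F337753) (tt N69268 (iv6 F338394)) (tt N49875 (iv7 F345964)))
theorem Q75454 : ∀ i, i < 75454 → P i := stepQ 75453 Q75453 (allL N75453 (tt N92049 F395543) (tt N97429 F416860) (tt N79719 F355923) (tt N48450 F350076) (tt N42152 (iv4 D147797)) (tt N48449 F350077) (tt N64119 (iv6 F356027)) (tt N80159 F356025))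
theorem Q75455 : ∀ i, i < 75455 → P i := stepQ 75454 Q75454 (allL N75454 (tt N72411 (iv1 F366420)) (tt N43341 F240291) (tt N42156 F231536) (tt N106587 (iv3 F454959)) (tt N67023 F231538) (tt N42154 (iv5 D147798)) (tt N63732 F231537) (tt N76911 (iv7 F240751)))
theorem Q75456 : ∀ i, i < 75456 → P i := stepQ 75455 Q75455 (allL N75455 (tt N102326 F436744) (tt N77795 (iv0 F378451)) (tt N102257 (iv2 F436406)) (tt N42155 (iv3 D147799)) (tt N42159 F231539) (tt N109322 D212550) (tt N51757 F342245) (tt N66706 F231540))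
theorem Q75457 : ∀ i, i < 75457 → P i := stepQ 75456 Q75456 (allL N75456 (tt N52547 F363585) (tt N49957 (iv0 F340381)) (tt N52024 (iv2 F317846)) (tt N109322 (iv3 F466380)) (tt N69455 (iv4 F358455)) (tt N42155 (iv5 D147800)) (tt N109323 D212551) (tt N66707 F231542))
theorem Q75458 : ∀ i, i < 75458 → P i := stepQ 75457 Q75457 (allL N75457 (tt N76911 (iv1 F240753)) (tt N42156 (iv0 D147802)) (tt N72411 (iv2 F366421)) (tt N42314 (iv3 F231550)) (tt N102987 (iv4 F439558)) (tt N51818 (iv5 F348965)) (tt N72410 (iv6 F313930)) (tt N43341 (iv7 F231551)))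
theorem Q75459 : ∀ i, i < 75459 → P i := stepQ 75458 Q75458 (allL N75458 (tt N76170 (iv1 F237222)) (tt N66885 F231555) (tt N67023 F231552) (tt N79487 F354139) (tt N42156 (iv4 D147804)) (tt N66918 F231554) (tt N52814 (iv6 F300773)) (tt N67026 F231553))
theorem Q75460 : ∀ i, i < 75460 → P i := stepQ 75459 Q75459 (allL N75459 (tt N80762 F415440) (tt N109324 D212552) (tt N109325 D212553) (tt N42158 (iv3 D147806)) (tt N104572 (iv4 F446340)) (tt N79444 (iv5 F409646)) (tt N109274 (iv6 F466125)) (tt N79283 F361635))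
theorem Q75461 : ∀ i, i < 75461 → P i := stepQ 75460 Q75460 (allL N75460 (tt N43858 F231574) (tt N43837 (iv0 F231623)) (tt N109271 (iv2 F466105)) (tt N79444 F409647) (tt N83316 (iv4 F337992)) (tt N42158 (iv5 D147808)) (tt N97408 (iv6 F416759)) (tt N109256 (iv7 F466027)))
theorem Q75462 : ∀ i, i < 75462 → P i := stepQ 75461 Q75461 (allL N75461 (tt N42342 F358571) (tt N94628 F405302) (tt N101840 (iv2 F434603)) (tt N42160 F231575) (tt N109326 D212554) (tt N42159 (iv5 D147812)) (tt N103758 F442701) (tt N101841 (iv7 F434605)))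
theorem Q75463 : ∀ i, i < 75463 → P i := stepQ 75462 Q75462 (allL N75462 (tt N63235 (iv1 F342241)) (tt N63231 (iv0 F342239)) (tt N63838 F342254) (tt N42161 F231576) (tt N51757 (iv4 F342244)) (tt N69618 F342240) (tt N42159 (iv6 D147813)) (tt N52003 (iv7 F342249)))
theorem Q75464 : ∀ i, i < 75464 → P i := stepQ 75463 Q75463 (allL N75463 (tt N42174 (iv1 F231578)) (tt N42160 (iv0 D147814)) (tt N77445 (iv2 F242702)) (tt N104773 (iv3 F447196)) (tt N91283 (iv4 F392537)) (tt N75258 F231577) (tt N51217 (iv6 F353765)) (tt N77443 (iv7 F242692)))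
theorem Q75465 : ∀ i, i < 75465 → P i := stepQ 75464 Q75464 (allL N75464 (tt N42160 (iv1 D147815)) (tt N42174 F231579) (tt N77443 (iv2 F242691)) (tt N101825 (iv3 F434527)) (tt N91442 (iv4 F393135)) (tt N77177 (iv5 F241832)) (tt N101824 F434525) (tt N77445 (iv7 F242703)))
theorem Q75466 : ∀ i, i < 75466 → P i := stepQ 75465 Q75465 (allL N75465 (tt N49106 F353732) (tt N59241 F353733) (tt N86365 F375961) (tt N89585 F386834) (tt N42160 (iv4 D147816)) (tt N43806 F231629) (tt N109327 D212555) (tt N77395 (iv7 F353731)))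
theorem Q75467 : ∀ i, i < 75467 → P i := stepQ 75466 Q75466 (allL N75466 (tt N75949 F353852) (tt N75948 F353853) (tt N46215 F353854) (tt N103758 (iv3 F442703)) (tt N109327 (iv4 F466402)) (tt N43636 F353855) (tt N42160 (iv6 D147817)) (tt N66946 F353856))
theorem Q75468 : ∀ i, i < 75468 → P i := stepQ 75467 Q75467 (allL N75467 (tt N42161 (iv1 D147818)) (tt N52797 F334050) (tt N80149 (iv2 F261840)) (tt N69426 F334051) (tt N75778 (iv4 F233885)) (tt N42427 F334052) (tt N69425 F334526) (tt N76632 (iv7 F334525)))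
theorem Q75469 : ∀ i, i < 75469 → P i := stepQ 75468 Q75468 (allL N75468 (tt N80149 (iv1 F261843)) (tt N76632 (iv0 F334519)) (tt N52797 F334528) (tt N52003 F342255) (tt N42167 F231581) (tt N52791 F334524) (tt N80759 F334516) (tt N42161 (iv7 D147820)))
theorem Q75470 : ∀ i, i < 75470 → P i := stepQ 75469 Q75469 (allL N75469 (tt N42176 (iv1 F231584)) (tt N42163 (iv0 D147822)) (tt N77430 (iv2 F242653)) (tt N89453 (iv3 F386553)) (tt N76144 F237039) (tt N77174 (iv5 F241813)) (tt N77229 (iv6 F242042)) (tt N43560 F237046))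
theorem Q75471 : ∀ i, i < 75471 → P i := stepQ 75470 Q75470 (allL N75470 (tt N42163 (iv1 D147823)) (tt N42176 F231585) (tt N43560 (iv2 F237044)) (tt N75881 F335023) (tt N66872 F237043) (tt N49117 F338028) (tt N43489 (iv6 F237045)) (tt N77430 (iv7 F242654)))
theorem Q75472 : ∀ i, i < 75472 → P i := stepQ 75471 Q75471 (allL N75471 (tt N109328 D212556) (tt N88496 (iv0 F383279)) (tt N109329 D212557) (tt N42163 (iv3 D147824)) (tt N79487 (iv4 F358451)) (tt N90819 (iv5 F390968)) (tt N48928 F307390) (tt N100645 (iv7 F429824)))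
theorem Q75473 : ∀ i, i < 75473 → P i := stepQ 75472 Q75472 (allL N75472 (tt N43819 (iv1 F231588)) (tt N43648 F231586) (tt N77394 F353745) (tt N90819 (iv3 F390970)) (tt N43805 F231587) (tt N42163 (iv5 D147825)) (tt N77159 (iv6 F353746)) (tt N83556 F307391))
theorem Q75474 : ∀ i, i < 75474 → P i := stepQ 75473 Q75473 (allL N75473 (tt N62704 (iv1 F231598)) (tt N66756 (iv0 F231596)) (tt N42170 F231594) (tt N61067 F346171) (tt N42169 (iv4 D147830)) (tt N69535 F346151) (tt N70463 (iv6 F346153)) (tt N74477 F231595))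
theorem Q75475 : ∀ i, i < 75475 → P i := stepQ 75474 Q75474 (allL N75474 (tt N43518 F242764) (tt N77457 F242765) (tt N42171 F231604) (tt N76911 (iv3 F240748)) (tt N76083 (iv4 F236257)) (tt N42169 (iv5 D147831)) (tt N42489 F233075) (tt N106587 (iv7 F454962)))
theorem Q75476 : ∀ i, i < 75476 → P i := stepQ 75475 Q75475 (allL N75475 (tt N61401 F338676) (tt N61429 (iv0 F338674)) (tt N42172 F231605) (tt N75490 (iv3 F231635)) (tt N70463 F338675) (tt N75480 (iv5 F231616)) (tt N42169 (iv6 D147832)) (tt N61427 (iv7 F317672)))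
theorem Q75477 : ∀ i, i < 75477 → P i := stepQ 75476 Q75476 (allL N75476 (tt N61059 (iv1 F347666)) (tt N61055 F347652) (tt N79929 (iv2 F346172)) (tt N42170 (iv3 D147834)) (tt N42173 F231611) (tt N98088 (iv5 F419410)) (tt N84769 (iv6 F370554)) (tt N81496 F347627))
theorem Q75478 : ∀ i, i < 75478 → P i := stepQ 75477 Q75477 (allL N75477 (tt N106587 (iv1 F454964)) (tt N42171 (iv0 D147837)) (tt N43518 (iv2 F233222)) (tt N99945 F426909) (tt N72118 (iv4 F361080)) (tt N77168 (iv5 F241769)) (tt N43501 F233223) (tt N77457 (iv7 F242761)))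
theorem Q75479 : ∀ i, i < 75479 → P i := stepQ 75478 Q75478 (allL N75478 (tt N42171 (iv1 D147838)) (tt N106587 (iv0 F454963)) (tt N77457 (iv2 F242760)) (tt N42292 F233219) (tt N72117 F363924) (tt N63759 F233220) (tt N77558 (iv6 F243623)) (tt N43518 F233221))
theorem Q75480 : ∀ i, i < 75480 → P i := stepQ 75479 Q75479 (allL N75479 (tt N42172 (iv1 D147840)) (tt N61427 (iv0 F317667)) (tt N61429 (iv2 F338645)) (tt N42222 F252126) (tt N70713 (iv4 F338637)) (tt N61402 (iv5 F317646)) (tt N42219 F252128) (tt N61401 F338648))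
theorem Q75481 : ∀ i, i < 75481 → P i := stepQ 75480 Q75480 (allL N75480 (tt N61429 F338673) (tt N61401 (iv0 F338677)) (tt N61427 (iv2 F317668)) (tt N42179 F231614) (tt N70441 F338678) (tt N75475 F231616) (tt N75689 (iv6 F310418)) (tt N42172 (iv7 D147842)))
theorem Q75482 : ∀ i, i < 75482 → P i := stepQ 75481 Q75481 (allL N75481 (tt N42173 (iv1 D147844)) (tt N80904 (iv0 F347647)) (tt N81497 F361688) (tt N74246 (iv3 F332126)) (tt N80484 F332127) (tt N74245 F332128) (tt N109286 (iv6 F466190)) (tt N81498 (iv7 F361687)))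
theorem Q75483 : ∀ i, i < 75483 → P i := stepQ 75482 Q75482 (allL N75482 (tt N81498 (iv1 F361683)) (tt N81497 F361690) (tt N42173 (iv2 D147845)) (tt N95637 F408973) (tt N79929 (iv4 F357767)) (tt N90514 (iv5 F389906)) (tt N80715 F357765) (tt N80904 (iv7 F347649)))
theorem Q75484 : ∀ i, i < 75484 → P i := stepQ 75483 Q75483 (allL N75483 (tt N98466 F421003) (tt N98469 (iv0 F421016)) (tt N90514 (iv2 F389905)) (tt N42174 F231620) (tt N109330 D212558) (tt N42173 (iv5 D147846)) (tt N80708 F357768) (tt N46219 F357769))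
theorem Q75485 : ∀ i, i < 75485 → P i := stepQ 75484 Q75484 (allL N75484 (tt N80713 F357761) (tt N80712 F357766) (tt N80715 (iv2 F357764)) (tt N42175 F231621) (tt N84769 F370551) (tt N52799 (iv5 F357762)) (tt N42173 (iv6 D147847)) (tt N52798 F357763))
theorem Q75486 : ∀ i, i < 75486 → P i := stepQ 75485 Q75485 (allL N75485 (tt N59241 F355065) (tt N49106 F353726) (tt N77395 (iv2 F353740)) (tt N109331 D212559) (tt N42174 (iv4 D147848)) (tt N43805 F231622) (tt N49019 F353727) (tt N86365 (iv7 F375958)))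
theorem Q75487 : ∀ i, i < 75487 → P i := stepQ 75486 Q75486 (allL N75486 (tt N81052 F340224) (tt N81061 F340225) (tt N81060 F340226) (tt N80708 F340236) (tt N49019 F340227) (tt N80705 F340221) (tt N42174 (iv6 D147849)) (tt N75951 (iv7 F340233)))
theorem Q75488 : ∀ i, i < 75488 → P i := stepQ 75487 Q75487 (allL N75487 (tt N77639 (iv1 F356291)) (tt N65100 F334518) (tt N80759 F334514) (tt N52798 (iv3 F339585)) (tt N42179 F231625) (tt N52794 (iv5 F343961)) (tt N52797 F334532) (tt N42175 (iv7 D147853)))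
theorem Q75489 : ∀ i, i < 75489 → P i := stepQ 75488 Q75488 (allL N75488 (tt N89406 F386383) (tt N81914 (iv0 F366849)) (tt N89664 (iv2 F387153)) (tt N42176 (iv3 D147854)) (tt N90056 (iv4 F388435)) (tt N91149 (iv5 F392089)) (tt N89647 F387083) (tt N88997 F384736))
theorem Q75490 : ∀ i, i < 75490 → P i := stepQ 75489 Q75489 (allL N75489 (tt N43648 F231627) (tt N43819 F231626) (tt N83556 F338013) (tt N91149 (iv3 F392087)) (tt N43806 (iv4 F231628)) (tt N42176 (iv5 D147855)) (tt N83069 (iv6 F338018)) (tt N77394 (iv7 F353730)))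
theorem Q75491 : ∀ i, i < 75491 → P i := stepQ 75490 Q75490 (allL N75490 (tt N62775 (iv1 F242994)) (tt N74998 (iv0 F243002)) (tt N75002 (iv2 F243013)) (tt N75475 F231635) (tt N87123 (iv4 F378428)) (tt N42179 F231636) (tt N74844 F231637) (tt N42178 (iv7 D147859)))
theorem Q75492 : ∀ i, i < 75492 → P i := stepQ 75491 Q75491 (allL N75491 (tt N87073 (iv1 F378286)) (tt N80432 F340816) (tt N78324 (iv2 F248116)) (tt N42183 F231650) (tt N87894 (iv4 F381003)) (tt N76903 (iv5 F240648)) (tt N42180 (iv6 D147871)) (tt N78322 (iv7 F248101)))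
theorem Q75493 : ∀ i, i < 75493 → P i := stepQ 75492 Q75492 (allL N75492 (tt N46277 F342272) (tt N46273 F342273) (tt N46274 F342275) (tt N42181 (iv3 D147875)) (tt N88207 (iv4 F382178)) (tt N64084 F342274) (tt N104730 (iv6 F447022)) (tt N46275 F342276))
theorem Q75494 : ∀ i, i < 75494 → P i := stepQ 75493 Q75493 (allL N75493 (tt N109332 D212560) (tt N101725 F434052) (tt N109229 (iv2 F465874)) (tt N64084 (iv3 F342277)) (tt N80737 (iv4 F352250)) (tt N42181 (iv5 D147876)) (tt N64082 F354294) (tt N109230 (iv7 F465881)))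
theorem Q75495 : ∀ i, i < 75495 → P i := stepQ 75494 Q75494 (allL N75494 (tt N65115 F354281) (tt N65091 F354282) (tt N65111 (iv2 F354284)) (tt N104730 (iv3 F447021)) (tt N42183 F231653) (tt N70479 (iv5 F354285)) (tt N42181 (iv6 D147877)) (tt N65112 F354283))
theorem Q75496 : ∀ i, i < 75496 → P i := stepQ 75495 Q75495 (allL N75495 (tt N42182 (iv1 D147880)) (tt N42186 F231662) (tt N99618 F425442) (tt N42328 F243045) (tt N73133 F360590) (tt N64055 (iv5 F306848)) (tt N43865 (iv6 F231664)) (tt N75005 F243047))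
theorem Q75497 : ∀ i, i < 75497 → P i := stepQ 75496 Q75496 (allL N75496 (tt N62708 (iv1 F366072)) (tt N74468 (iv0 F366071)) (tt N74466 (iv2 F356609)) (tt N86228 (iv3 F375464)) (tt N42184 (iv4 D147889)) (tt N86216 (iv5 F375409)) (tt N79924 F355313) (tt N74465 F278626))
theorem Q75498 : ∀ i, i < 75498 → P i := stepQ 75497 Q75497 (allL N75497 (tt N109257 (iv1 F466035)) (tt N109286 F466191) (tt N109285 (iv2 F466187)) (tt N42185 (iv3 D147892)) (tt N86228 (iv4 F375465)) (tt N109333 D212561) (tt N98302 (iv6 F420417)) (tt N86227 F375462))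
theorem Q75499 : ∀ i, i < 75499 → P i := stepQ 75498 Q75498 (allL N75498 (tt N101725 F434051) (tt N109332 F466420) (tt N109230 (iv2 F465878)) (tt N109333 (iv3 F466423)) (tt N109334 D212562) (tt N42185 (iv5 D147893)) (tt N109335 D212563) (tt N109229 (iv7 F465876)))
theorem Q75500 : ∀ i, i < 75500 → P i := stepQ 75499 Q75499 (allL N75499 (tt N69425 F335860) (tt N79276 (iv0 F354259)) (tt N82212 (iv2 F354261)) (tt N98302 F420416) (tt N42187 F231673) (tt N82210 F354255) (tt N42185 (iv6 D147894)) (tt N94099 (iv7 F403199)))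
theorem Q75501 : ∀ i, i < 75501 → P i := stepQ 75500 Q75500 (allL N75500 (tt N62461 (iv1 F317988)) (tt N62455 (iv0 F318656)) (tt N62460 (iv2 F318653)) (tt N73814 F334988) (tt N73595 F364492) (tt N42187 (iv5 D147897)) (tt N62520 (iv6 F334991)) (tt N46644 F313102))
theorem Q75502 : ∀ i, i < 75502 → P i := stepQ 75501 Q75501 (allL N75501 (tt N44354 F316990) (tt N66891 F237582) (tt N76195 F237579) (tt N109336 D212564) (tt N42188 (iv4 D147899)) (tt N109337 D212565) (tt N74707 (iv6 F366271)) (tt N73501 (iv7 F322940)))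
theorem Q75503 : ∀ i, i < 75503 → P i := stepQ 75502 Q75502 (allL N75502 (tt N43523 F357843) (tt N72349 F357844) (tt N72353 (iv2 F363424)) (tt N42189 (iv3 D147901)) (tt N109338 D212566) (tt N61431 F357845) (tt N73792 (iv6 F357851)) (tt N72354 (iv7 F363422)))
theorem Q75504 : ∀ i, i < 75504 → P i := stepQ 75503 Q75503 (allL N75503 (tt N66891 F237577) (tt N44354 F316989) (tt N73501 (iv2 F322938)) (tt N109339 D212567) (tt N42189 (iv4 D147902)) (tt N96658 (iv5 F439982)) (tt N73484 (iv6 F319314)) (tt N76195 F237580))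
theorem Q75505 : ∀ i, i < 75505 → P i := stepQ 75504 Q75504 (allL N75504 (tt N62516 (iv1 F322132)) (tt N43340 F241437) (tt N62524 (iv2 F322141)) (tt N73792 (iv3 F357850)) (tt N73484 (iv4 F319313)) (tt N77279 F242246) (tt N42189 (iv6 D147903)) (tt N62523 (iv7 F322139)))
theorem Q75506 : ∀ i, i < 75506 → P i := stepQ 75505 Q75505 (allL N75505 (tt N101762 (iv1 F434234)) (tt N42190 (iv0 D147904)) (tt N78158 (iv2 F363744)) (tt N109340 D212568) (tt N42920 F363743) (tt N108454 (iv5 F462654)) (tt N107932 (iv6 F460346)) (tt N78157 (iv7 F363745)))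
theorem Q75507 : ∀ i, i < 75507 → P i := stepQ 75506 Q75506 (allL N75506 (tt N78148 F366600) (tt N94632 F405320) (tt N94633 (iv2 F405317)) (tt N42190 (iv3 D147906)) (tt N42342 F231677) (tt N96435 (iv5 F412504)) (tt N42200 F231678) (tt N94624 (iv7 F405277)))
theorem Q75508 : ∀ i, i < 75508 → P i := stepQ 75507 Q75507 (allL N75507 (tt N109341 D212569) (tt N73135 F360895) (tt N81957 (iv2 F356029)) (tt N96435 (iv3 F412502)) (tt N97430 (iv4 F416865)) (tt N42190 (iv5 D147907)) (tt N95695 (iv6 F409173)) (tt N101799 (iv7 F434393)))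
theorem Q75509 : ∀ i, i < 75509 → P i := stepQ 75508 Q75508 (allL N75508 (tt N100279 F428233) (tt N87899 (iv0 F381022)) (tt N43528 F231679) (tt N42193 F231680) (tt N108814 (iv4 F464087)) (tt N44519 F231681) (tt N42191 (iv6 D147908)) (tt N100396 (iv7 F428785)))
theorem Q75510 : ∀ i, i < 75510 → P i := stepQ 75509 Q75509 (allL N75509 (tt N107792 F459745) (tt N109342 D212570) (tt N109343 D212571) (tt N42192 (iv3 D147909)) (tt N108813 (iv4 F464077)) (tt N77128 (iv5 F241642)) (tt N109344 D212572) (tt N43867 F231682))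
theorem Q75511 : ∀ i, i < 75511 → P i := stepQ 75510 Q75510 (allL N75510 (tt N109345 D212573) (tt N74012 (iv0 F320346)) (tt N43863 F231683) (tt N109344 (iv3 F466487)) (tt N42193 F231684) (tt N77438 (iv5 F242670)) (tt N42192 (iv6 D147910)) (tt N109346 D212574))
theorem Q75512 : ∀ i, i < 75512 → P i := stepQ 75511 Q75511 (allL N75511 (tt N42193 (iv1 D147912)) (tt N43866 F231689) (tt N43865 (iv2 F231691)) (tt N43386 F243063) (tt N90282 (iv4 F389212)) (tt N46552 F307655) (tt N99618 (iv6 F425441)) (tt N43864 F231690))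
theorem Q75513 : ∀ i, i < 75513 → P i := stepQ 75512 Q75512 (allL N75512 (tt N43865 (iv1 F231695)) (tt N43864 F231696) (tt N43866 F231692) (tt N100396 (iv3 F428789)) (tt N109346 (iv4 F466499)) (tt N44522 F231693) (tt N43871 F231694) (tt N42193 (iv7 D147913)))
theorem Q75514 : ∀ i, i < 75514 → P i := stepQ 75513 Q75513 (allL N75513 (tt N98202 (iv1 F419975)) (tt N98173 (iv0 F419846)) (tt N98199 F419947) (tt N42194 (iv3 D147914)) (tt N67084 F231698) (tt N86036 F374974) (tt N109272 (iv6 F466112)) (tt N43873 F231699))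
theorem Q75515 : ∀ i, i < 75515 → P i := stepQ 75514 Q75514 (allL N75514 (tt N42926 F231702) (tt N77464 (iv0 F242838)) (tt N43881 F231700) (tt N86036 (iv3 F374972)) (tt N76213 (iv4 F237853)) (tt N42194 (iv5 D147915)) (tt N109347 D212575) (tt N43874 F231701))
theorem Q75516 : ∀ i, i < 75516 → P i := stepQ 75515 Q75515 (allL N75515 (tt N73945 F360580) (tt N109348 D212576) (tt N76044 (iv2 F236047)) (tt N42197 F231703) (tt N76049 (iv4 F236059)) (tt N46528 F308556) (tt N42195 (iv6 D147916)) (tt N46527 F308557))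
theorem Q75517 : ∀ i, i < 75517 → P i := stepQ 75516 Q75516 (allL N75516 (tt N109349 D212577) (tt N109350 D212578) (tt N109351 D212579) (tt N42196 (iv3 D147917)) (tt N76047 (iv4 F236056)) (tt N109352 D212580) (tt N109353 D212581) (tt N43880 F231705))
theorem Q75518 : ∀ i, i < 75518 → P i := stepQ 75517 Q75517 (allL N75517 (tt N77464 (iv1 F242839)) (tt N42926 F231708) (tt N43874 F231706) (tt N109352 (iv3 F466526)) (tt N76216 (iv4 F237859)) (tt N42196 (iv5 D147918)) (tt N109354 D212582) (tt N43881 F231707))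
theorem Q75519 : ∀ i, i < 75519 → P i := stepQ 75518 Q75518 (allL N75518 (tt N80089 F360576) (tt N80088 F360577) (tt N43875 F231709) (tt N109353 (iv3 F466528)) (tt N42197 F231710) (tt N87907 (iv5 F381078)) (tt N42196 (iv6 D147919)) (tt N46531 F308558))
theorem Q75520 : ∀ i, i < 75520 → P i := stepQ 75519 Q75519 (allL N75519 (tt N55276 (iv1 F372092)) (tt N89583 (iv0 F386824)) (tt N91364 (iv2 F392874)) (tt N42198 (iv3 D147922)) (tt N85268 (iv4 F372097)) (tt N86100 (iv5 F375125)) (tt N93666 F401495) (tt N43886 F231719))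
theorem Q75521 : ∀ i, i < 75521 → P i := stepQ 75520 Q75520 (allL N75520 (tt N66896 F231722) (tt N66893 F231723) (tt N43890 F231720) (tt N86100 (iv3 F375126)) (tt N76887 (iv4 F240281)) (tt N42198 (iv5 D147923)) (tt N108884 (iv6 F464362)) (tt N43887 F231721))
theorem Q75522 : ∀ i, i < 75522 → P i := stepQ 75521 Q75521 (allL N75521 (tt N109355 D212583) (tt N57759 (iv0 F366398)) (tt N109356 D212584) (tt N42199 (iv3 D147924)) (tt N78823 (iv4 F251033)) (tt N109357 D212585) (tt N100794 (iv6 F430502)) (tt N43889 F231724))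
theorem Q75523 : ∀ i, i < 75523 → P i := stepQ 75522 Q75522 (allL N75522 (tt N66893 F231727) (tt N66896 F231728) (tt N43887 F231725) (tt N109357 (iv3 F466550)) (tt N71907 (iv4 F350049)) (tt N42199 (iv5 D147925)) (tt N59505 F350053) (tt N43890 F231726))
theorem Q75524 : ∀ i, i < 75524 → P i := stepQ 75523 Q75523 (allL N75523 (tt N42200 (iv1 D147928)) (tt N43894 F231736) (tt N43892 F359338) (tt N107225 (iv3 F457533)) (tt N67106 (iv4 F231732)) (tt N96501 (iv5 F412775)) (tt N81246 (iv6 F359346)) (tt N43893 F359339))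
theorem Q75525 : ∀ i, i < 75525 → P i := stepQ 75524 Q75524 (allL N75524 (tt N43893 (iv1 F231737)) (tt N43892 F231735) (tt N42200 (iv2 D147929)) (tt N109231 (iv3 F465884)) (tt N42345 F231733) (tt N109358 D212586) (tt N94633 (iv6 F405319)) (tt N43894 F231734))
theorem Q75526 : ∀ i, i < 75526 → P i := stepQ 75525 Q75525 (allL N75525 (tt N96519 F412829) (tt N89627 (iv0 F387010)) (tt N109358 (iv2 F466556)) (tt N42201 F231738) (tt N109359 D212587) (tt N42200 (iv5 D147930)) (tt N96434 F412500) (tt N43895 F231739))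
theorem Q75527 : ∀ i, i < 75527 → P i := stepQ 75526 Q75526 (allL N75526 (tt N96952 (iv1 F414754)) (tt N58010 F406699) (tt N95696 (iv2 F409175)) (tt N96434 (iv3 F412498)) (tt N77125 (iv4 F241638)) (tt N95695 F409174) (tt N42201 (iv6 D147931)) (tt N109360 D212588))
theorem Q75528 : ∀ i, i < 75528 → P i := stepQ 75527 Q75527 (allL N75527 (tt N45205 F318935) (tt N42202 (iv0 D147932)) (tt N63463 (iv2 F347723)) (tt N61129 F347722) (tt N63298 F347725) (tt N109047 (iv5 F465092)) (tt N109361 D212589) (tt N61149 (iv7 F347724)))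
theorem Q75529 : ∀ i, i < 75529 → P i := stepQ 75528 Q75528 (allL N75528 (tt N109362 D212590) (tt N100196 (iv0 F428312)) (tt N107918 (iv2 F460281)) (tt N42203 F231740) (tt N109363 D212591) (tt N42202 (iv5 D147934)) (tt N109364 D212592) (tt N66860 (iv7 F366613)))
theorem Q75530 : ∀ i, i < 75530 → P i := stepQ 75529 Q75529 (allL N75529 (tt N70736 (iv1 F327877)) (tt N74911 F231746) (tt N42213 F231742) (tt N102377 (iv3 F436976)) (tt N42203 (iv4 D147936)) (tt N55741 F231743) (tt N109073 F465225) (tt N60910 F231744))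
theorem Q75531 : ∀ i, i < 75531 → P i := stepQ 75530 Q75530 (allL N75530 (tt N109056 F465137) (tt N109365 D212593) (tt N42214 F231747) (tt N109364 (iv3 F466590)) (tt N109073 (iv4 F465228)) (tt N105014 (iv5 F448377)) (tt N42203 (iv6 D147937)) (tt N76178 F350245))
theorem Q75532 : ∀ i, i < 75532 → P i := stepQ 75531 Q75531 (allL N75531 (tt N42218 F231750) (tt N42204 (iv0 D147938)) (tt N42215 F231808) (tt N63400 (iv3 F334758)) (tt N62603 F231748) (tt N76319 (iv5 F355797)) (tt N74821 (iv6 F231749)) (tt N42216 F231809))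
theorem Q75533 : ∀ i, i < 75533 → P i := stepQ 75532 Q75532 (allL N75532 (tt N42204 (iv1 D147939)) (tt N42218 F231752) (tt N42216 F231810) (tt N61094 F355801) (tt N87749 (iv4 F380353)) (tt N76403 (iv5 F355799)) (tt N109366 D212594) (tt N42215 F231811))
theorem Q75534 : ∀ i, i < 75534 → P i := stepQ 75533 Q75533 (allL N75533 (tt N105017 (iv1 F448394)) (tt N105016 F448391) (tt N42217 F231753) (tt N108791 (iv3 F463957)) (tt N99738 (iv4 F425991)) (tt N42204 (iv5 D147940)) (tt N105014 (iv6 F448378)) (tt N56089 (iv7 F353557)))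
theorem Q75535 : ∀ i, i < 75535 → P i := stepQ 75534 Q75534 (allL N75534 (tt N76492 F278367) (tt N42324 F278368) (tt N42226 F247827) (tt N81312 (iv3 F354927)) (tt N61241 F354915) (tt N43912 F332492) (tt N42206 (iv6 D147949)) (tt N81308 (iv7 F354910)))
theorem Q75536 : ∀ i, i < 75536 → P i := stepQ 75535 Q75535 (allL N75535 (tt N109367 D212595) (tt N92812 (iv0 F398342)) (tt N99994 (iv2 F427098)) (tt N76666 F366499) (tt N109368 D212596) (tt N42208 (iv5 D147959)) (tt N109079 (iv6 F465249)) (tt N109186 F465704))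
theorem Q75537 : ∀ i, i < 75537 → P i := stepQ 75536 Q75536 (allL N75536 (tt N99798 (iv1 F426272)) (tt N42322 F338190) (tt N72282 (iv2 F339595)) (tt N76667 F341094) (tt N72276 (iv4 F335048)) (tt N109186 (iv5 F465703)) (tt N42288 F231774) (tt N42208 (iv7 D147960)))
theorem Q75538 : ∀ i, i < 75538 → P i := stepQ 75537 Q75537 (allL N75537 (tt N76570 (iv1 F352149)) (tt N42209 (iv0 D147961)) (tt N76654 F352150) (tt N63415 (iv3 F352146)) (tt N75274 F352145) (tt N109369 D212597) (tt N63402 (iv6 F352147)) (tt N63403 F352148))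
theorem Q75539 : ∀ i, i < 75539 → P i := stepQ 75538 Q75538 (allL N75538 (tt N51016 F335955) (tt N98038 (iv0 F419267)) (tt N74904 F231781) (tt N70780 F363822) (tt N42211 (iv4 D147967)) (tt N45078 F231783) (tt N70777 (iv6 F363821)) (tt N74906 F231782))
theorem Q75540 : ∀ i, i < 75540 → P i := stepQ 75539 Q75539 (allL N75539 (tt N76272 F427791) (tt N76275 F427792) (tt N74947 F231784) (tt N76672 (iv3 F346147)) (tt N70777 F363823) (tt N109370 D212598) (tt N42211 (iv6 D147968)) (tt N109371 D212599))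
theorem Q75541 : ∀ i, i < 75541 → P i := stepQ 75540 Q75540 (allL N75540 (tt N109369 (iv1 F466616)) (tt N61663 F362020) (tt N76668 (iv2 F346144)) (tt N42212 (iv3 D147969)) (tt N94819 (iv4 F406060)) (tt N45195 F231785) (tt N53849 F387758) (tt N74946 F231786))
theorem Q75542 : ∀ i, i < 75542 → P i := stepQ 75541 Q75541 (allL N75541 (tt N98038 (iv1 F419268)) (tt N51016 F335956) (tt N74906 F231787) (tt N94772 F405866) (tt N42212 (iv4 D147970)) (tt N62803 F231788) (tt N77673 (iv6 F421589)) (tt N74904 F231789))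
theorem Q75543 : ∀ i, i < 75543 → P i := stepQ 75542 Q75542 (allL N75542 (tt N109372 D212600) (tt N75546 (iv0 F364332)) (tt N74941 F231790) (tt N53849 (iv3 F387760)) (tt N77673 (iv4 F421588)) (tt N94140 (iv5 F403401)) (tt N42212 (iv6 D147971)) (tt N109373 D212601))
theorem Q75544 : ∀ i, i < 75544 → P i := stepQ 75543 Q75543 (allL N75543 (tt N60910 (iv1 F231793)) (tt N42213 (iv0 D147972)) (tt N70736 (iv2 F327878)) (tt N89882 (iv3 F387855)) (tt N61311 (iv4 F322804)) (tt N62806 F231791) (tt N109374 D212602) (tt N74911 (iv7 F231795)))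
theorem Q75545 : ∀ i, i < 75545 → P i := stepQ 75544 Q75544 (allL N75544 (tt N42213 (iv1 D147973)) (tt N60910 F231796) (tt N74911 (iv2 F231800)) (tt N70743 (iv3 F365706)) (tt N62816 F231799) (tt N62805 F231798) (tt N75547 (iv6 F356767)) (tt N70736 (iv7 F327880)))
theorem Q75546 : ∀ i, i < 75546 → P i := stepQ 75545 Q75545 (allL N75545 (tt N109375 D212603) (tt N109376 D212604) (tt N109377 D212605) (tt N42213 (iv3 D147974)) (tt N76477 F356692) (tt N109033 (iv5 F465016)) (tt N76434 (iv6 F356693)) (tt N99995 (iv7 F427103)))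
theorem Q75547 : ∀ i, i < 75547 → P i := stepQ 75546 Q75546 (allL N75546 (tt N75542 F364332) (tt N109074 F465231) (tt N109073 (iv2 F465226)) (tt N76434 (iv3 F356689)) (tt N42214 F231801) (tt N76454 F356694) (tt N42213 (iv6 D147975)) (tt N109072 F465224))
theorem Q75548 : ∀ i, i < 75548 → P i := stepQ 75547 Q75547 (allL N75547 (tt N76178 (iv1 F350246)) (tt N42214 (iv0 D147976)) (tt N109056 (iv2 F465134)) (tt N76721 F365707) (tt N99813 (iv4 F426350)) (tt N109378 D212606) (tt N75544 F356767) (tt N109365 (iv7 F466595)))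
theorem Q75549 : ∀ i, i < 75549 → P i := stepQ 75548 Q75548 (allL N75548 (tt N42214 (iv1 D147977)) (tt N76178 F350247) (tt N109365 F466596) (tt N109379 D212607) (tt N109064 (iv4 F465175)) (tt N86538 F448372) (tt N109380 D212608) (tt N109056 F465138))
theorem Q75550 : ∀ i, i < 75550 → P i := stepQ 75549 Q75549 (allL N75549 (tt N105013 (iv1 F448368)) (tt N93995 (iv0 F402751)) (tt N105014 (iv2 F448375)) (tt N52035 F350238) (tt N109381 D212609) (tt N42214 (iv5 D147978)) (tt N42217 F231802) (tt N68426 (iv7 F350241)))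
theorem Q75551 : ∀ i, i < 75551 → P i := stepQ 75550 Q75550 (allL N75550 (tt N109365 (iv1 F466594)) (tt N109056 (iv0 F465136)) (tt N76178 (iv2 F350243)) (tt N88454 F383117) (tt N109072 (iv4 F465221)) (tt N68426 F350242) (tt N56102 (iv6 F350244)) (tt N42214 (iv7 D147979)))
theorem Q75552 : ∀ i, i < 75552 → P i := stepQ 75551 Q75551 (allL N75551 (tt N63388 F353661) (tt N45191 (iv0 F243218)) (tt N62603 F231812) (tt N75378 (iv3 F243353)) (tt N42215 (iv4 D147982)) (tt N101865 (iv5 F434729)) (tt N74819 F231815) (tt N87749 (iv7 F380357)))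
theorem Q75553 : ∀ i, i < 75553 → P i := stepQ 75552 Q75552 (allL N75552 (tt N100017 F427216) (tt N80145 (iv0 F355207)) (tt N74821 F231813) (tt N61108 (iv3 F356296)) (tt N74819 (iv4 F231814)) (tt N76436 F355811) (tt N42215 (iv6 D147984)) (tt N91308 (iv7 F392649)))
theorem Q75554 : ∀ i, i < 75554 → P i := stepQ 75553 Q75553 (allL N75553 (tt N63402 F347777) (tt N63399 (iv0 F347773)) (tt N61102 (iv2 F355802)) (tt N42216 (iv3 D147986)) (tt N75383 F347774) (tt N109382 D212610) (tt N81470 (iv6 F347775)) (tt N63400 (iv7 F347776)))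
theorem Q75555 : ∀ i, i < 75555 → P i := stepQ 75554 Q75554 (allL N75554 (tt N45191 (iv1 F243219)) (tt N63388 F334857) (tt N87749 F380355) (tt N44605 F231805) (tt N42216 (iv4 D147987)) (tt N48152 (iv5 F231806)) (tt N109383 D212611) (tt N62603 (iv7 F231807)))
theorem Q75556 : ∀ i, i < 75556 → P i := stepQ 75555 Q75555 (allL N75555 (tt N76402 (iv1 F355690)) (tt N76401 F355814) (tt N76403 F355692) (tt N109382 (iv3 F466676)) (tt N76320 (iv4 F355691)) (tt N42216 (iv5 D147988)) (tt N109384 D212612) (tt N76319 F355693))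
theorem Q75557 : ∀ i, i < 75557 → P i := stepQ 75556 Q75556 (allL N75556 (tt N46635 F363496) (tt N109038 (iv0 F465043)) (tt N109366 (iv2 F466598)) (tt N81470 F361665) (tt N109383 (iv4 F466683)) (tt N92810 F398331) (tt N42216 (iv6 D147989)) (tt N98107 (iv7 F419478)))
theorem Q75558 : ∀ i, i < 75558 → P i := stepQ 75557 Q75557 (allL N75557 (tt N56089 F349342) (tt N42217 (iv0 D147990)) (tt N105017 (iv2 F448399)) (tt N60184 (iv3 F355698)) (tt N76385 F355694) (tt N77628 F349341) (tt N86905 (iv6 F377655)) (tt N105016 F448393))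
theorem Q75559 : ∀ i, i < 75559 → P i := stepQ 75558 Q75558 (allL N75558 (tt N42217 (iv1 D147991)) (tt N56089 F359058) (tt N105016 F448392) (tt N81443 (iv3 F359060)) (tt N76384 (iv4 F353558)) (tt N81441 F359059) (tt N109385 D212613) (tt N105017 (iv7 F448395)))
theorem Q75560 : ∀ i, i < 75560 → P i := stepQ 75559 Q75559 (allL N75559 (tt N87626 F379929) (tt N108802 F464021) (tt N99738 (iv2 F425988)) (tt N108607 (iv3 F463227)) (tt N42217 (iv4 D147992)) (tt N76258 (iv5 F353535)) (tt N109381 (iv6 F466669)) (tt N105015 (iv7 F448385)))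
theorem Q75561 : ∀ i, i < 75561 → P i := stepQ 75560 Q75560 (allL N75560 (tt N94433 F404464) (tt N108340 (iv0 F462149)) (tt N98382 (iv2 F420711)) (tt N42221 F231825) (tt N104649 F446686) (tt N42219 (iv5 D148003)) (tt N74686 F364528) (tt N98314 (iv7 F420466)))
theorem Q75562 : ∀ i, i < 75562 → P i := stepQ 75561 Q75561 (allL N75561 (tt N108361 (iv1 F462253)) (tt N92234 (iv0 F396393)) (tt N74478 (iv2 F341576)) (tt N55788 F341582) (tt N76259 F341575) (tt N42220 (iv5 D148009)) (tt N76261 (iv6 F341577)) (tt N61240 (iv7 F341581)))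
theorem Q75563 : ∀ i, i < 75563 → P i := stepQ 75562 Q75562 (allL N75562 (tt N98496 (iv1 F421128)) (tt N98497 F421133) (tt N74479 F349975) (tt N55789 F338638) (tt N42222 F231829) (tt N98598 (iv5 F421505)) (tt N42220 (iv6 D148010)) (tt N100020 (iv7 F427232)))
theorem Q75564 : ∀ i, i < 75564 → P i := stepQ 75563 Q75563 (allL N75563 (tt N82575 F282907) (tt N108354 (iv0 F462215)) (tt N99902 (iv2 F426745)) (tt N99976 (iv3 F427035)) (tt N42221 (iv4 D148014)) (tt N99901 F426744) (tt N107911 F460244) (tt N104970 (iv7 F448203)))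
theorem Q75565 : ∀ i, i < 75565 → P i := stepQ 75564 Q75564 (allL N75564 (tt N58547 (iv1 F353446)) (tt N58549 (iv0 F353444)) (tt N58546 F334951) (tt N74686 (iv3 F364529)) (tt N107911 (iv4 F460242)) (tt N74965 (iv5 F353442)) (tt N42221 (iv6 D148015)) (tt N58545 F353443))
theorem Q75566 : ∀ i, i < 75566 → P i := stepQ 75565 Q75565 (allL N75565 (tt N56042 (iv1 F321488)) (tt N56051 (iv0 F321482)) (tt N65294 F243242) (tt N42225 F231838) (tt N107033 (iv4 F456721)) (tt N42223 (iv5 D148025)) (tt N76285 (iv6 F247797)) (tt N65295 F243240))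
theorem Q75567 : ∀ i, i < 75567 → P i := stepQ 75566 Q75566 (allL N75566 (tt N92234 F396394) (tt N108361 (iv0 F462252)) (tt N61240 F341580) (tt N61352 (iv3 F341579)) (tt N108791 (iv4 F463956)) (tt N42224 (iv5 D148028)) (tt N86845 F377401) (tt N74478 F341578))
theorem Q75568 : ∀ i, i < 75568 → P i := stepQ 75567 Q75567 (allL N75567 (tt N78941 (iv1 F421038)) (tt N98473 (iv0 F421035)) (tt N61241 (iv2 F354914)) (tt N61353 F354913) (tt N42226 F231840) (tt N64171 (iv5 F354912)) (tt N42224 (iv6 D148029)) (tt N64179 (iv7 F354920)))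
theorem Q75569 : ∀ i, i < 75569 → P i := stepQ 75568 Q75568 (allL N75568 (tt N63327 (iv1 F305891)) (tt N63295 (iv0 F231842)) (tt N63371 F247830) (tt N76285 (iv3 F247796)) (tt N53342 (iv4 F348214)) (tt N72407 (iv5 F332514)) (tt N42225 (iv6 D148031)) (tt N63372 (iv7 F247832)))
theorem Q75570 : ∀ i, i < 75570 → P i := stepQ 75569 Q75569 (allL N75569 (tt N42324 F278370) (tt N76492 F278371) (tt N81308 F337183) (tt N92598 (iv3 F397562)) (tt N64179 F354924) (tt N43793 F337184) (tt N80150 (iv6 F355216)) (tt N42226 (iv7 D148035)))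
theorem Q75571 : ∀ i, i < 75571 → P i := stepQ 75570 Q75570 (allL N75570 (tt N108292 F461922) (tt N85604 (iv0 F393571)) (tt N85499 (iv2 F372854)) (tt N99450 (iv3 F424639)) (tt N95156 F407259) (tt N42228 (iv5 D148051)) (tt N51157 (iv6 F338452)) (tt N99889 (iv7 F426695)))
theorem Q75572 : ∀ i, i < 75572 → P i := stepQ 75571 Q75571 (allL N75571 (tt N94411 F404363) (tt N96095 (iv0 F411026)) (tt N82132 (iv2 F278749)) (tt N67769 (iv3 F347165)) (tt N42229 (iv4 D148053)) (tt N109386 D212614) (tt N72689 F347166) (tt N82131 (iv7 F278748)))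
theorem Q75573 : ∀ i, i < 75573 → P i := stepQ 75572 Q75572 (allL N75572 (tt N109363 (iv1 F466588)) (tt N109387 D212615) (tt N100206 (iv2 F427989)) (tt N42234 F231913) (tt N100170 (iv4 F427818)) (tt N42233 (iv5 D148104)) (tt N57458 F357325) (tt N99974 (iv7 F427029)))
theorem Q75574 : ∀ i, i < 75574 → P i := stepQ 75573 Q75573 (allL N75573 (tt N69086 (iv1 F357330)) (tt N64824 (iv0 F357329)) (tt N42245 F231915) (tt N57458 (iv3 F357326)) (tt N67749 (iv4 F357328)) (tt N57457 F357327) (tt N42234 (iv6 D148106)) (tt N100609 (iv7 F429691)))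
theorem Q75575 : ∀ i, i < 75575 → P i := stepQ 75574 Q75574 (allL N75574 (tt N43463 F309426) (tt N64593 F309427) (tt N42249 F231925) (tt N49548 F309428) (tt N42236 (iv4 D148112)) (tt N64523 F309429) (tt N109225 (iv6 F465852)) (tt N42252 F231926))
theorem Q75576 : ∀ i, i < 75576 → P i := stepQ 75575 Q75575 (allL N75575 (tt N64593 F305367) (tt N43463 F305368) (tt N42252 F231929) (tt N76309 F305369) (tt N42237 (iv4 D148114)) (tt N64587 F305370) (tt N78680 (iv6 F250268)) (tt N42249 F231930))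
theorem Q75577 : ∀ i, i < 75577 → P i := stepQ 75576 Q75576 (allL N75576 (tt N100494 (iv1 F429175)) (tt N44039 (iv0 F231932)) (tt N99980 (iv2 F427051)) (tt N64494 (iv3 F355609)) (tt N86220 F375419) (tt N42239 (iv5 D148119)) (tt N109216 (iv6 F465820)) (tt N64795 F355575))
theorem Q75578 : ∀ i, i < 75578 → P i := stepQ 75577 Q75577 (allL N75577 (tt N92198 F396210) (tt N42240 (iv0 D148120)) (tt N64666 (iv2 F347739)) (tt N77287 F347740) (tt N80022 F347741) (tt N109388 D212616) (tt N61025 F347742) (tt N91254 (iv7 F392420)))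
theorem Q75579 : ∀ i, i < 75579 → P i := stepQ 75578 Q75578 (allL N75578 (tt N42331 F356574) (tt N83834 F356605) (tt N99978 (iv2 F427043)) (tt N83862 F362406) (tt N74458 F231936) (tt N89092 (iv5 F385136)) (tt N42309 F231937) (tt N42241 (iv7 D148127)))
theorem Q75580 : ∀ i, i < 75580 → P i := stepQ 75579 Q75579 (allL N75579 (tt N109144 (iv1 F465552)) (tt N103841 (iv0 F443047)) (tt N75073 F231940) (tt N109389 D212617) (tt N42242 (iv4 D148129)) (tt N60798 F231942) (tt N94493 (iv6 F404705)) (tt N75079 F231941))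
theorem Q75581 : ∀ i, i < 75581 → P i := stepQ 75580 Q75580 (allL N75580 (tt N109388 (iv1 F466717)) (tt N99897 (iv0 F426728)) (tt N100607 (iv2 F429680)) (tt N42243 (iv3 D148131)) (tt N69697 (iv4 F357528)) (tt N62757 F231944) (tt N85474 (iv6 F372746)) (tt N75136 F231945))
theorem Q75582 : ∀ i, i < 75582 → P i := stepQ 75581 Q75581 (allL N75581 (tt N103841 (iv1 F443048)) (tt N109144 (iv0 F465551)) (tt N75079 F231946) (tt N103855 F443106) (tt N42243 (iv4 D148132)) (tt N60796 F231947) (tt N109390 D212618) (tt N75073 F231948))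
theorem Q75583 : ∀ i, i < 75583 → P i := stepQ 75582 Q75582 (allL N75582 (tt N109391 D212619) (tt N100219 (iv0 F428046)) (tt N75131 F231949) (tt N85474 F372747) (tt N109390 (iv4 F466724)) (tt N109392 D212620) (tt N42243 (iv6 D148133)) (tt N109393 D212621))
theorem Q75584 : ∀ i, i < 75584 → P i := stepQ 75583 Q75583 (allL N75583 (tt N66610 (iv1 F231952)) (tt N42244 (iv0 D148134)) (tt N75083 (iv2 F231953)) (tt N96386 (iv3 F412316)) (tt N42397 F231951) (tt N60800 F231950) (tt N103626 (iv6 F442287)) (tt N75086 (iv7 F231954)))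
theorem Q75585 : ∀ i, i < 75585 → P i := stepQ 75584 Q75584 (allL N75584 (tt N42244 (iv1 D148135)) (tt N66610 F231955) (tt N75086 (iv2 F231959)) (tt N109394 D212622) (tt N62752 F231958) (tt N42358 F231957) (tt N98684 (iv6 F421843)) (tt N75083 F231956))
theorem Q75586 : ∀ i, i < 75586 → P i := stepQ 75585 Q75585 (allL N75585 (tt N92261 F442906) (tt N105208 F449214) (tt N105207 (iv2 F449211)) (tt N42244 (iv3 D148136)) (tt N71184 (iv4 F413434)) (tt N97792 (iv5 F418324)) (tt N104585 (iv6 F446420)) (tt N99981 (iv7 F427056)))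
theorem Q75587 : ∀ i, i < 75587 → P i := stepQ 75586 Q75586 (allL N75586 (tt N64824 (iv1 F357331)) (tt N69086 F357332) (tt N100609 (iv2 F429688)) (tt N107659 (iv3 F459119)) (tt N67743 (iv4 F357333)) (tt N100567 (iv5 F429493)) (tt N99986 (iv6 F427062)) (tt N42245 (iv7 D148141)))
theorem Q75588 : ∀ i, i < 75588 → P i := stepQ 75587 Q75587 (allL N75587 (tt N78676 F280346) (tt N78677 F280347) (tt N64454 (iv2 F311647)) (tt N61031 F347367) (tt N82333 (iv4 F280342)) (tt N69787 (iv5 F361791)) (tt N42246 (iv6 D148151)) (tt N78681 F280345))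
theorem Q75589 : ∀ i, i < 75589 → P i := stepQ 75588 Q75588 (allL N75588 (tt N109133 F465495) (tt N77259 (iv0 F335199)) (tt N109225 (iv2 F465849)) (tt N78011 (iv3 F335200)) (tt N42251 F231974) (tt N78010 F335201) (tt N42249 (iv6 D148160)) (tt N81353 (iv7 F342232)))
theorem Q75590 : ∀ i, i < 75590 → P i := stepQ 75589 Q75589 (allL N75589 (tt N77221 (iv1 F360772)) (tt N102604 (iv0 F437868)) (tt N78680 (iv2 F250267)) (tt N86987 (iv3 F377952)) (tt N42253 F231978) (tt N88662 (iv5 F383771)) (tt N42252 (iv6 D148167)) (tt N78678 (iv7 F250261)))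
theorem Q75591 : ∀ i, i < 75591 → P i := stepQ 75590 Q75590 (allL N75590 (tt N64447 F312006) (tt N64462 F312007) (tt N64345 F312008) (tt N47833 F312009) (tt N43852 F312010) (tt N42254 (iv5 D148184)) (tt N54372 F351784) (tt N43847 F312011))
theorem Q75592 : ∀ i, i < 75592 → P i := stepQ 75591 Q75591 (allL N75591 (tt N84224 F368584) (tt N84234 F368628) (tt N78705 (iv2 F250310)) (tt N75998 F362456) (tt N42256 F232003) (tt N78123 (iv5 F362455)) (tt N42254 (iv6 D148185)) (tt N78703 (iv7 F250305)))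
theorem Q75593 : ∀ i, i < 75593 → P i := stepQ 75592 Q75592 (allL N75592 (tt N42255 (iv1 D148186)) (tt N46579 F306157) (tt N45301 F306158) (tt N46567 F306159) (tt N78541 F306160) (tt N45299 (iv5 F308135)) (tt N68979 (iv6 F232008)) (tt N45304 F306161))
theorem Q75594 : ∀ i, i < 75594 → P i := stepQ 75593 Q75593 (allL N75593 (tt N63939 F353601) (tt N76114 F353610) (tt N76112 (iv2 F347994)) (tt N42258 (iv3 D148203)) (tt N72809 F232031) (tt N78752 (iv5 F349825)) (tt N84473 (iv6 F369438)) (tt N76111 F350719))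
theorem Q75595 : ∀ i, i < 75595 → P i := stepQ 75594 Q75594 (allL N75594 (tt N63544 (iv1 F337708)) (tt N46279 F330655) (tt N77574 (iv2 F337704)) (tt N84473 (iv3 F369436)) (tt N72808 F232034) (tt N45952 F330657) (tt N42258 (iv6 D148205)) (tt N77573 (iv7 F337696)))
theorem Q75596 : ∀ i, i < 75596 → P i := stepQ 75595 Q75595 (allL N75595 (tt N42267 F350977) (tt N42270 F350978) (tt N74243 F350979) (tt N81498 F361686) (tt N80438 F350980) (tt N66285 F350981) (tt N42259 (iv6 D148207)) (tt N74246 F350982))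
theorem Q75597 : ∀ i, i < 75597 → P i := stepQ 75596 Q75596 (allL N75596 (tt N42263 (iv1 F232048)) (tt N42260 (iv0 D148209)) (tt N85737 (iv2 F373733)) (tt N97527 (iv3 F417262)) (tt N58433 F232047) (tt N62509 F232046) (tt N46165 F357450) (tt N95845 (iv7 F409922)))
theorem Q75598 : ∀ i, i < 75598 → P i := stepQ 75597 Q75597 (allL N75597 (tt N42260 (iv1 D148210)) (tt N42263 F232049) (tt N95845 F409920) (tt N59992 (iv3 F232051)) (tt N58434 (iv4 F232052)) (tt N62510 F232050) (tt N80371 (iv6 F340172)) (tt N85737 (iv7 F373735)))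
theorem Q75599 : ∀ i, i < 75599 → P i := stepQ 75598 Q75598 (allL N75598 (tt N73138 F232065) (tt N73120 F232066) (tt N76001 (iv2 F366343)) (tt N79988 F366342) (tt N109395 D212623) (tt N42261 (iv5 D148234)) (tt N84775 (iv6 F370580)) (tt N99604 (iv7 F425373)))
theorem Q75600 : ∀ i, i < 75600 → P i := stepQ 75599 Q75599 (allL N75599 (tt N95844 (iv1 F409911)) (tt N75209 (iv0 F232077)) (tt N59472 F232072) (tt N42263 F232073) (tt N59321 (iv4 F232075)) (tt N42262 (iv5 D148241)) (tt N47086 F336510) (tt N59469 F232074))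
theorem Q75601 : ∀ i, i < 75601 → P i := stepQ 75600 Q75600 (allL N75600 (tt N91513 F393440) (tt N96806 (iv0 F414046)) (tt N58479 F232086) (tt N96804 F414030) (tt N42263 (iv4 D148243)) (tt N99216 (iv5 F423720)) (tt N109396 D212624) (tt N96850 (iv7 F414248)))
theorem Q75602 : ∀ i, i < 75602 → P i := stepQ 75601 Q75601 (allL N75601 (tt N100808 (iv1 F430569)) (tt N100807 F430566) (tt N47785 F357449) (tt N47086 F336512) (tt N109396 (iv4 F466750)) (tt N76532 F357448) (tt N42263 (iv6 D148244)) (tt N100804 (iv7 F430552)))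
theorem Q75603 : ∀ i, i < 75603 → P i := stepQ 75602 Q75602 (allL N75602 (tt N74246 F332097) (tt N74243 F353465) (tt N42267 F320884) (tt N109276 (iv3 F466137)) (tt N42264 (iv4 D148265)) (tt N57373 F334103) (tt N80909 (iv6 F334095)) (tt N42270 F320885))
theorem Q75604 : ∀ i, i < 75604 → P i := stepQ 75603 Q75603 (allL N75603 (tt N68292 (iv1 F340958)) (tt N73695 (iv0 F340953)) (tt N42268 F320886) (tt N46580 F324846) (tt N48272 F324847) (tt N42264 (iv5 D148266)) (tt N46579 F324848) (tt N42271 F320887))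
theorem Q75605 : ∀ i, i < 75605 → P i := stepQ 75604 Q75604 (allL N75604 (tt N60480 F363238) (tt N95784 (iv0 F409629)) (tt N42273 F232094) (tt N67954 (iv3 F333766)) (tt N42265 (iv4 D148275)) (tt N74253 (iv5 F333759)) (tt N77619 (iv6 F333755)) (tt N96492 (iv7 F412748)))
theorem Q75606 : ∀ i, i < 75606 → P i := stepQ 75605 Q75605 (allL N75605 (tt N42270 (iv1 F232115)) (tt N42267 (iv0 D148290)) (tt N74246 (iv2 F337675)) (tt N103125 (iv3 F440184)) (tt N75665 F233326) (tt N66286 F337674) (tt N77573 F337689) (tt N74243 (iv7 F337676)))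
theorem Q75607 : ∀ i, i < 75607 → P i := stepQ 75606 Q75606 (allL N75606 (tt N46280 F354264) (tt N82463 F354265) (tt N77760 F354266) (tt N42267 (iv3 D148292)) (tt N57706 F354267) (tt N42341 F354268) (tt N64225 F354269) (tt N64232 F354270))
theorem Q75608 : ∀ i, i < 75608 → P i := stepQ 75607 Q75607 (allL N75607 (tt N42271 (iv1 F232119)) (tt N42268 (iv0 D148296)) (tt N68292 F337171) (tt N76449 F337172) (tt N58788 (iv4 F337176)) (tt N64043 (iv5 F337170)) (tt N63233 F337175) (tt N73695 F337173))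
theorem Q75609 : ∀ i, i < 75609 → P i := stepQ 75608 Q75608 (allL N75608 (tt N42269 (iv1 D148307)) (tt N87921 (iv0 F381136)) (tt N77241 F346197) (tt N42274 F346192) (tt N98083 (iv4 F419387)) (tt N68363 (iv5 F346193)) (tt N63713 F346196) (tt N76002 (iv7 F346194)))
theorem Q75610 : ∀ i, i < 75610 → P i := stepQ 75609 Q75609 (allL N75609 (tt N50788 F346195) (tt N50760 (iv0 F317795)) (tt N84730 F370392) (tt N109397 D212625) (tt N42269 (iv4 D148309)) (tt N50101 (iv5 F364343)) (tt N77196 (iv6 F364344)) (tt N84731 (iv7 F370395)))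
theorem Q75611 : ∀ i, i < 75611 → P i := stepQ 75610 Q75610 (allL N75610 (tt N46651 F324851) (tt N46564 F324852) (tt N46650 F324853) (tt N42271 F232121) (tt N42299 F324854) (tt N42269 (iv5 D148310)) (tt N43444 F324855) (tt N46580 F324856))
theorem Q75612 : ∀ i, i < 75612 → P i := stepQ 75611 Q75611 (allL N75611 (tt N76657 F363832) (tt N85798 F373998) (tt N63747 F363831) (tt N42270 (iv3 D148312)) (tt N109397 (iv4 F466752)) (tt N106222 (iv5 F453626)) (tt N63739 (iv6 F363825)) (tt N109276 (iv7 F466140)))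
theorem Q75613 : ∀ i, i < 75613 → P i := stepQ 75612 Q75612 (allL N75612 (tt N81333 F348584) (tt N81337 (iv0 F348585)) (tt N81202 (iv2 F333758)) (tt N42273 (iv3 D148333)) (tt N42284 F232126) (tt N91941 (iv5 F395048)) (tt N63587 F364608) (tt N48284 (iv7 F232127)))
theorem Q75614 : ∀ i, i < 75614 → P i := stepQ 75613 Q75613 (allL N75613 (tt N46637 F317893) (tt N46563 F317894) (tt N46033 F317895) (tt N46049 F317896) (tt N42274 (iv4 D148339)) (tt N46032 F317897) (tt N80144 (iv6 F353111)) (tt N46634 F317898))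
theorem Q75615 : ∀ i, i < 75615 → P i := stepQ 75614 Q75614 (allL N75614 (tt N80389 F317882) (tt N80387 F317883) (tt N42276 F232135) (tt N61764 (iv3 F338535)) (tt N42275 (iv4 D148347)) (tt N48411 F317884) (tt N61757 (iv6 F332570)) (tt N52756 F317885))
theorem Q75616 : ∀ i, i < 75616 → P i := stepQ 75615 Q75615 (allL N75615 (tt N61754 (iv1 F349000)) (tt N61753 (iv0 F348998)) (tt N61757 (iv2 F332569)) (tt N75687 (iv3 F336938)) (tt N42277 F232138) (tt N61743 F338620) (tt N42276 (iv6 D148353)) (tt N61752 (iv7 F332622)))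
theorem Q75617 : ∀ i, i < 75617 → P i := stepQ 75616 Q75616 (allL N75616 (tt N99607 (iv1 F425393)) (tt N103913 (iv0 F443344)) (tt N100007 (iv2 F427162)) (tt N80401 (iv3 F363210)) (tt N42280 (iv4 D148379)) (tt N102782 F438625) (tt N77575 F363211) (tt N99572 (iv7 F425229)))
theorem Q75618 : ∀ i, i < 75618 → P i := stepQ 75617 Q75617 (allL N75617 (tt N42282 (iv1 D148386)) (tt N94042 (iv0 F402945)) (tt N100008 F427170) (tt N50762 (iv3 F352108)) (tt N75631 (iv4 F233246)) (tt N74241 (iv5 F352081)) (tt N63703 F352082) (tt N84771 (iv7 F370561)))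
theorem Q75619 : ∀ i, i < 75619 → P i := stepQ 75618 Q75618 (allL N75618 (tt N46488 F319989) (tt N42283 (iv0 D148389)) (tt N42869 F319990) (tt N56104 F319991) (tt N63128 F319992) (tt N62508 F361077) (tt N99341 (iv6 F424187)) (tt N52755 F319993))
theorem Q75620 : ∀ i, i < 75620 → P i := stepQ 75619 Q75619 (allL N75619 (tt N42283 (iv1 D148390)) (tt N46488 F319994) (tt N52755 F319995) (tt N42849 F319996) (tt N76963 F319997) (tt N64041 F340115) (tt N63450 (iv6 F340116)) (tt N42869 F319998))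
theorem Q75621 : ∀ i, i < 75621 → P i := stepQ 75620 Q75620 (allL N75620 (tt N64371 F319999) (tt N64370 F320000) (tt N46655 F320001) (tt N52801 F320002) (tt N42283 (iv4 D148391)) (tt N109398 D212626) (tt N46728 F320003) (tt N64369 F320004))
theorem Q75622 : ∀ i, i < 75622 → P i := stepQ 75621 Q75621 (allL N75621 (tt N50021 F369492) (tt N85814 (iv0 F374077)) (tt N85815 F374084) (tt N42286 (iv3 D148439)) (tt N100010 (iv4 F427177)) (tt N84941 F372618) (tt N45234 F366754) (tt N85816 (iv7 F374088)))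
theorem Q75623 : ∀ i, i < 75623 → P i := stepQ 75622 Q75622 (allL N75622 (tt N66719 (iv1 F233830)) (tt N66678 (iv0 F233827)) (tt N43921 F308945) (tt N75427 F232196) (tt N42288 (iv4 D148447)) (tt N43902 F308946) (tt N72276 (iv6 F335049)) (tt N43916 F308947))
theorem Q75624 : ∀ i, i < 75624 → P i := stepQ 75623 Q75623 (allL N75623 (tt N100018 (iv1 F427224)) (tt N42289 (iv0 D148449)) (tt N98083 (iv2 F419385)) (tt N85766 (iv3 F373845)) (tt N77241 F366303) (tt N85765 (iv5 F373843)) (tt N77240 (iv6 F366304)) (tt N85772 (iv7 F373872)))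
theorem Q75625 : ∀ i, i < 75625 → P i := stepQ 75624 Q75624 (allL N75624 (tt N98083 (iv1 F419390)) (tt N85772 (iv0 F373875)) (tt N42289 (iv2 D148451)) (tt N85815 (iv3 F374081)) (tt N42298 F232199) (tt N109399 D212627) (tt N45063 F366731) (tt N100018 (iv7 F427223)))
theorem Q75626 : ∀ i, i < 75626 → P i := stepQ 75625 Q75625 (allL N75625 (tt N109400 D212628) (tt N61014 (iv0 F333333)) (tt N109399 (iv2 F466763)) (tt N42290 F232200) (tt N52744 F333334) (tt N42289 (iv5 D148452)) (tt N52748 (iv6 F335774)) (tt N85854 (iv7 F374227)))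
theorem Q75627 : ∀ i, i < 75627 → P i := stepQ 75626 Q75626 (allL N75626 (tt N77564 (iv1 F333331)) (tt N77561 F349360) (tt N91047 (iv2 F391745)) (tt N54177 (iv3 F360955)) (tt N42290 (iv4 D148456)) (tt N72816 (iv5 F349357)) (tt N83719 (iv6 F360956)) (tt N83245 F349291))
theorem Q75628 : ∀ i, i < 75628 → P i := stepQ 75627 Q75627 (allL N75627 (tt N42291 (iv1 D148459)) (tt N69660 (iv0 F312072)) (tt N76631 F307834) (tt N80899 (iv3 F355327)) (tt N42612 (iv4 F232204)) (tt N68435 (iv5 F363494)) (tt N80898 (iv6 F335188)) (tt N45226 F307835))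
theorem Q75629 : ∀ i, i < 75629 → P i := stepQ 75628 Q75628 (allL N75628 (tt N76631 F307827) (tt N45226 F307828) (tt N69660 F312176) (tt N45062 F307829) (tt N42295 F232206) (tt N45100 F312177) (tt N80145 F307830) (tt N42291 (iv7 D148461)))
theorem Q75630 : ∀ i, i < 75630 → P i := stepQ 75629 Q75629 (allL N75629 (tt N72192 (iv1 F309727)) (tt N76021 (iv0 F335025)) (tt N57697 (iv2 F309730)) (tt N94121 (iv3 F403301)) (tt N42292 (iv4 D148464)) (tt N77560 (iv5 F333329)) (tt N77559 (iv6 F243640)) (tt N66866 (iv7 F307737)))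
theorem Q75631 : ∀ i, i < 75631 → P i := stepQ 75630 Q75630 (allL N75630 (tt N42459 F313231) (tt N42458 F313232) (tt N42460 F313233) (tt N61349 F313234) (tt N42294 (iv4 D148475)) (tt N68432 (iv5 F340679)) (tt N78936 F313235) (tt N42451 F313236))
theorem Q75632 : ∀ i, i < 75632 → P i := stepQ 75631 Q75631 (allL N75631 (tt N66750 (iv1 F383449)) (tt N109302 (iv0 F466286)) (tt N109401 D212629) (tt N42297 (iv3 D148484)) (tt N75617 F233246) (tt N68417 F366565) (tt N100486 (iv6 F429122)) (tt N99359 F424267))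
theorem Q75633 : ∀ i, i < 75633 → P i := stepQ 75632 Q75632 (allL N75632 (tt N69682 F317806) (tt N69681 F317807) (tt N42299 F233249) (tt N42892 F317808) (tt N46650 F317809) (tt N42298 (iv5 D148493)) (tt N46601 F317810) (tt N69680 F317811))
theorem Q75634 : ∀ i, i < 75634 → P i := stepQ 75633 Q75633 (allL N75633 (tt N42624 F313176) (tt N79131 F313177) (tt N42300 F233250) (tt N79127 F313178) (tt N45063 F313179) (tt N94104 (iv5 F403222)) (tt N42298 (iv6 D148494)) (tt N79130 F313180))
theorem Q75635 : ∀ i, i < 75635 → P i := stepQ 75634 Q75634 (allL N75634 (tt N42299 (iv1 D148496)) (tt N69680 F333337) (tt N69681 (iv2 F350183)) (tt N46559 F333338) (tt N68567 F350180) (tt N63763 (iv5 F333336)) (tt N68566 F333339) (tt N69682 F340964))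
theorem Q75636 : ∀ i, i < 75636 → P i := stepQ 75635 Q75635 (allL N75635 (tt N42300 (iv1 D148500)) (tt N79130 F313171) (tt N79131 F313172) (tt N74846 F313173) (tt N98770 (iv4 F422243)) (tt N66667 F313174) (tt N46619 F313241) (tt N42624 F313175))
theorem Q75637 : ∀ i, i < 75637 → P i := stepQ 75636 Q75636 (allL N75636 (tt N73590 F350186) (tt N65110 (iv0 F350196)) (tt N94104 (iv2 F403219)) (tt N42302 F233252) (tt N79276 (iv4 F335863)) (tt N42300 (iv5 D148501)) (tt N74750 (iv6 F350193)) (tt N80147 F360563))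
theorem Q75638 : ∀ i, i < 75638 → P i := stepQ 75637 Q75637 (allL N75637 (tt N62730 F310972) (tt N42567 F310973) (tt N62731 F310974) (tt N42301 (iv3 D148510)) (tt N51743 F310975) (tt N62720 F310976) (tt N62731 F310977) (tt N42583 F310978))
theorem Q75639 : ∀ i, i < 75639 → P i := stepQ 75638 Q75638 (allL N75638 (tt N44787 F233266) (tt N100342 F428499) (tt N99954 (iv2 F426935)) (tt N44801 F233263) (tt N42303 (iv4 D148513)) (tt N63614 F233265) (tt N77578 (iv6 F243739)) (tt N43397 F233264))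
theorem Q75640 : ∀ i, i < 75640 → P i := stepQ 75639 Q75639 (allL N75639 (tt N85359 F372343) (tt N104200 (iv0 F444668)) (tt N76559 (iv2 F355596)) (tt N53220 (iv3 F355598)) (tt N61231 F355593) (tt N42305 (iv5 D148516)) (tt N53218 F355597) (tt N99763 (iv7 F426118)))
theorem Q75641 : ∀ i, i < 75641 → P i := stepQ 75640 Q75640 (allL N75640 (tt N86475 (iv1 F376334)) (tt N84197 (iv0 F374092)) (tt N108416 (iv2 F462481)) (tt N42306 (iv3 D148517)) (tt N85816 (iv4 F374091)) (tt N109402 D212630) (tt N108414 F462477) (tt N100010 (iv7 F427179)))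
theorem Q75642 : ∀ i, i < 75642 → P i := stepQ 75641 Q75641 (allL N75641 (tt N77657 (iv1 F244523)) (tt N69718 (iv0 F331641)) (tt N42311 F233269) (tt N109402 (iv3 F466784)) (tt N76552 F339221) (tt N42306 (iv5 D148518)) (tt N104060 (iv6 F443972)) (tt N100011 (iv7 F427181)))
theorem Q75643 : ∀ i, i < 75643 → P i := stepQ 75642 Q75642 (allL N75642 (tt N108421 (iv1 F462496)) (tt N99987 (iv0 F427065)) (tt N42312 F233270) (tt N108414 (iv3 F462475)) (tt N42308 F233271) (tt N101274 (iv5 F432485)) (tt N42306 (iv6 D148519)) (tt N78683 (iv7 F250274)))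
theorem Q75644 : ∀ i, i < 75644 → P i := stepQ 75643 Q75643 (allL N75643 (tt N43329 F233274) (tt N77640 F244464) (tt N42315 F233272) (tt N99599 (iv3 F425341)) (tt N42307 (iv4 D148520)) (tt N76554 (iv5 F339219)) (tt N43299 F233273) (tt N100012 (iv7 F427189)))
theorem Q75645 : ∀ i, i < 75645 → P i := stepQ 75644 Q75644 (allL N75644 (tt N62769 (iv1 F233281)) (tt N62767 (iv0 F233280)) (tt N42317 F233275) (tt N74963 F233276) (tt N82845 F339710) (tt N42308 (iv5 D148521)) (tt N43300 F233277) (tt N62913 F233278))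
theorem Q75646 : ∀ i, i < 75646 → P i := stepQ 75645 Q75645 (allL N75645 (tt N109403 D212631) (tt N105338 (iv0 F449770)) (tt N84187 (iv2 F368458)) (tt N42309 (iv3 D148522)) (tt N79918 (iv4 F366174)) (tt N89096 (iv5 F385148)) (tt N83862 (iv6 F362413)) (tt N99979 (iv7 F427050)))
theorem Q75647 : ∀ i, i < 75647 → P i := stepQ 75646 Q75646 (allL N75646 (tt N56075 (iv1 F234158)) (tt N75428 (iv0 F233286)) (tt N83301 F355579) (tt N56081 F233285) (tt N42309 (iv4 D148523)) (tt N44026 F233284) (tt N74458 F233282) (tt N62701 F233283))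
theorem Q75648 : ∀ i, i < 75648 → P i := stepQ 75647 Q75647 (allL N75647 (tt N44039 F233287) (tt N100494 (iv0 F429174)) (tt N64795 F355574) (tt N89096 (iv3 F385147)) (tt N43238 F353537) (tt N42309 (iv5 D148524)) (tt N43242 F353538) (tt N99980 (iv7 F427053)))
theorem Q75649 : ∀ i, i < 75649 → P i := stepQ 75648 Q75648 (allL N75648 (tt N42310 (iv1 D148526)) (tt N100014 F427199) (tt N100013 F427193) (tt N105216 (iv3 F449242)) (tt N77553 (iv4 F356854)) (tt N109404 D212632) (tt N77552 F356858) (tt N99453 (iv7 F424655)))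
theorem Q75650 : ∀ i, i < 75650 → P i := stepQ 75649 Q75649 (allL N75649 (tt N106246 (iv1 F453747)) (tt N73350 (iv0 F348311)) (tt N108420 (iv2 F462491)) (tt N42311 F233289) (tt N99515 (iv4 F424951)) (tt N42310 (iv5 D148528)) (tt N109405 D212633) (tt N100015 (iv7 F427203)))
theorem Q75651 : ∀ i, i < 75651 → P i := stepQ 75650 Q75650 (allL N75650 (tt N42311 (iv1 D148531)) (tt N100011 (iv0 F427184)) (tt N69718 (iv2 F331643)) (tt N98114 (iv3 F419511)) (tt N100326 (iv4 F428437)) (tt N63753 F233292) (tt N69715 F364975) (tt N77657 (iv7 F244518)))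
theorem Q75652 : ∀ i, i < 75652 → P i := stepQ 75651 Q75651 (allL N75651 (tt N109406 D212634) (tt N109407 D212635) (tt N76552 F339336) (tt N103106 (iv3 F440102)) (tt N42311 (iv4 D148532)) (tt N63201 F339334) (tt N69519 (iv6 F339337)) (tt N76555 F339335))
theorem Q75653 : ∀ i, i < 75653 → P i := stepQ 75652 Q75652 (allL N75652 (tt N100311 F428384) (tt N70638 (iv0 F339351)) (tt N104060 (iv2 F443971)) (tt N109405 (iv3 F466795)) (tt N69519 F339350) (tt N109408 D212636) (tt N42311 (iv6 D148533)) (tt N104202 (iv7 F444672)))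
theorem Q75654 : ∀ i, i < 75654 → P i := stepQ 75653 Q75653 (allL N75653 (tt N78683 (iv1 F250276)) (tt N42312 (iv0 D148534)) (tt N108421 F462501) (tt N84348 (iv3 F369018)) (tt N100999 (iv4 F431199)) (tt N99782 (iv5 F426191)) (tt N109409 D212637) (tt N99987 F427068))
theorem Q75655 : ∀ i, i < 75655 → P i := stepQ 75654 Q75654 (allL N75654 (tt N42312 (iv1 D148535)) (tt N78683 F250275) (tt N99987 (iv2 F427063)) (tt N98188 (iv3 F419902)) (tt N74492 (iv4 F233293)) (tt N99783 (iv5 F426196)) (tt N74490 F233294) (tt N108421 (iv7 F462497)))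
theorem Q75656 : ∀ i, i < 75656 → P i := stepQ 75655 Q75655 (allL N75655 (tt N101276 (iv1 F432502)) (tt N101271 (iv0 F432473)) (tt N101274 (iv2 F432489)) (tt N80102 F366566) (tt N109410 D212638) (tt N42312 (iv5 D148536)) (tt N109408 (iv6 F466812)) (tt N101275 (iv7 F432492)))
theorem Q75657 : ∀ i, i < 75657 → P i := stepQ 75656 Q75656 (allL N75656 (tt N102767 (iv1 F438558)) (tt N80005 F259386) (tt N43344 F233296) (tt N74316 F366562) (tt N42313 (iv4 D148538)) (tt N109411 D212639) (tt N43212 F233297) (tt N77650 (iv7 F244497)))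
theorem Q75658 : ∀ i, i < 75658 → P i := stepQ 75657 Q75657 (allL N75657 (tt N80005 F259385) (tt N102767 (iv0 F438557)) (tt N77650 (iv2 F244495)) (tt N109412 D212640) (tt N42314 (iv4 D148539)) (tt N98143 (iv5 F419678)) (tt N108261 (iv6 F461752)) (tt N43344 F233298))
theorem Q75659 : ∀ i, i < 75659 → P i := stepQ 75658 Q75658 (allL N75658 (tt N43337 F233302) (tt N43313 (iv0 F233303)) (tt N43339 F233299) (tt N72410 F316093) (tt N108261 (iv4 F461751)) (tt N62532 (iv5 F322167)) (tt N42314 (iv6 D148540)) (tt N43211 F233301))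
theorem Q75660 : ∀ i, i < 75660 → P i := stepQ 75659 Q75659 (allL N75659 (tt N100012 (iv1 F427191)) (tt N42315 (iv0 D148541)) (tt N43329 (iv2 F233307)) (tt N91310 (iv3 F392659)) (tt N101313 (iv4 F432613)) (tt N63744 F233305) (tt N43209 F233306) (tt N77640 (iv7 F244462)))
theorem Q75661 : ∀ i, i < 75661 → P i := stepQ 75660 Q75660 (allL N75660 (tt N42315 (iv1 D148542)) (tt N100012 (iv0 F427190)) (tt N77640 (iv2 F244461)) (tt N80964 (iv3 F338123)) (tt N103180 (iv4 F440437)) (tt N63745 (iv5 F233313)) (tt N108442 (iv6 F462586)) (tt N43329 F233312))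
theorem Q75662 : ∀ i, i < 75662 → P i := stepQ 75661 Q75661 (allL N75661 (tt N43235 F303498) (tt N44027 F233315) (tt N76554 F339220) (tt N45577 F233314) (tt N61448 (iv4 F339324)) (tt N42315 (iv5 D148543)) (tt N82453 (iv6 F348622)) (tt N74374 (iv7 F339327)))
theorem Q75663 : ∀ i, i < 75663 → P i := stepQ 75662 Q75662 (allL N75662 (tt N109097 (iv1 F465324)) (tt N105265 (iv0 F449466)) (tt N99791 (iv2 F426230)) (tt N109413 D212641) (tt N42316 (iv4 D148544)) (tt N109414 D212642) (tt N62919 F349473) (tt N99839 (iv7 F426466)))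
theorem Q75664 : ∀ i, i < 75664 → P i := stepQ 75663 Q75663 (allL N75663 (tt N42317 (iv1 D148545)) (tt N62913 F233317) (tt N62767 F233320) (tt N75188 (iv3 F242951)) (tt N49702 (iv4 F344224)) (tt N62748 (iv5 F233319)) (tt N82563 F354312) (tt N62769 F233318))
theorem Q75665 : ∀ i, i < 75665 → P i := stepQ 75664 Q75664 (allL N75664 (tt N87034 (iv1 F378123)) (tt N83090 F345988) (tt N82845 (iv2 F345987)) (tt N49862 F345997) (tt N42317 (iv4 D148546)) (tt N42793 F345989) (tt N44876 F233321) (tt N49865 (iv7 F345995)))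
theorem Q75666 : ∀ i, i < 75666 → P i := stepQ 75665 Q75665 (allL N75665 (tt N109300 (iv1 F466275)) (tt N66747 (iv0 F337680)) (tt N46631 F337677) (tt N42319 (iv3 D148553)) (tt N75605 (iv4 F233326)) (tt N68455 F337673) (tt N103095 F440045) (tt N99447 (iv7 F424628)))
theorem Q75667 : ∀ i, i < 75667 → P i := stepQ 75666 Q75666 (allL N75666 (tt N73938 (iv1 F366648)) (tt N105080 (iv0 F448693)) (tt N91114 (iv2 F391991)) (tt N83125 (iv3 F360917)) (tt N42319 (iv4 D148554)) (tt N53722 (iv5 F360918)) (tt N49811 F360915) (tt N99449 (iv7 F424636)))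
theorem Q75668 : ∀ i, i < 75668 → P i := stepQ 75667 Q75667 (allL N75667 (tt N77240 (iv1 F339621)) (tt N61180 (iv0 F356668)) (tt N80488 F314923) (tt N42322 (iv3 D148593)) (tt N42325 F233348) (tt N56263 (iv5 F366676)) (tt N46637 F314924) (tt N66573 F233349))
theorem Q75669 : ∀ i, i < 75669 → P i := stepQ 75668 Q75668 (allL N75668 (tt N109415 D212643) (tt N74876 (iv0 F360953)) (tt N109037 (iv2 F465033)) (tt N56263 F366677) (tt N70364 F363110) (tt N42322 (iv5 D148594)) (tt N70362 (iv6 F363109)) (tt N100022 (iv7 F427241)))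
theorem Q75670 : ∀ i, i < 75670 → P i := stepQ 75669 Q75669 (allL N75669 (tt N109366 F466603) (tt N98107 (iv0 F419480)) (tt N109038 (iv2 F465039)) (tt N46637 F354928) (tt N42324 F233350) (tt N79077 (iv5 F360945)) (tt N42322 (iv6 D148595)) (tt N46635 F354930))
theorem Q75671 : ∀ i, i < 75671 → P i := stepQ 75670 Q75670 (allL N75670 (tt N90409 F389547) (tt N48079 (iv0 F247761)) (tt N78277 F363465) (tt N42330 F233351) (tt N78109 F341133) (tt N68296 F233352) (tt N42323 (iv6 D148599)) (tt N99406 (iv7 F424428)))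
theorem Q75672 : ∀ i, i < 75672 → P i := stepQ 75671 Q75671 (allL N75671 (tt N77554 F340087) (tt N77552 F340085) (tt N77623 (iv2 F349344)) (tt N42331 (iv3 D148630)) (tt N42333 F233386) (tt N76297 (iv5 F356579)) (tt N74851 (iv6 F340089)) (tt N66569 F233387))
theorem Q75673 : ∀ i, i < 75673 → P i := stepQ 75672 Q75672 (allL N75672 (tt N82527 F356582) (tt N83833 F356583) (tt N51916 (iv2 F356585)) (tt N76297 (iv3 F356577)) (tt N49894 (iv4 F356581)) (tt N42331 (iv5 D148631)) (tt N76296 F356572) (tt N51912 F356584))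
theorem Q75674 : ∀ i, i < 75674 → P i := stepQ 75673 Q75673 (allL N75673 (tt N109292 (iv1 F466228)) (tt N109311 (iv0 F466336)) (tt N109269 (iv2 F466092)) (tt N42334 (iv3 D148645)) (tt N99725 (iv4 F425920)) (tt N101237 (iv5 F432345)) (tt N69059 F366550) (tt N100021 (iv7 F427238)))
theorem Q75675 : ∀ i, i < 75675 → P i := stepQ 75674 Q75674 (allL N75674 (tt N72249 F348386) (tt N63187 (iv0 F233408)) (tt N72254 (iv2 F334431)) (tt N75439 F334594) (tt N42335 (iv4 D148650)) (tt N77393 (iv5 F364524)) (tt N73197 F348383) (tt N72253 F360545))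
theorem Q75676 : ∀ i, i < 75676 → P i := stepQ 75675 Q75675 (allL N75675 (tt N100503 F429220) (tt N101821 (iv0 F434511)) (tt N72329 (iv2 F363704)) (tt N55095 (iv3 F331348)) (tt N42337 (iv4 D148655)) (tt N87376 F385456) (tt N62495 (iv6 F322198)) (tt N72330 (iv7 F366528)))
theorem Q75677 : ∀ i, i < 75677 → P i := stepQ 75676 Q75676 (allL N75676 (tt N91272 F392488) (tt N91380 F392931) (tt N75426 F361781) (tt N42338 (iv3 D148656)) (tt N55095 (iv4 F331349)) (tt N75424 (iv5 F361780)) (tt N91320 (iv6 F392721)) (tt N91378 F392915))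
theorem Q75678 : ∀ i, i < 75678 → P i := stepQ 75677 Q75677 (allL N75677 (tt N63081 (iv1 F308905)) (tt N75384 F364020) (tt N75304 (iv2 F334589)) (tt N75424 F361776) (tt N63849 F233420) (tt N42338 (iv5 D148657)) (tt N67923 (iv6 F336915)) (tt N75437 (iv7 F334586)))
theorem Q75679 : ∀ i, i < 75679 → P i := stepQ 75678 Q75678 (allL N75678 (tt N101825 F434531) (tt N94102 (iv0 F403216)) (tt N106222 (iv2 F453625)) (tt N42340 (iv3 D148659)) (tt N109416 D212644) (tt N63747 (iv5 F366113)) (tt N63750 F366114) (tt N77759 (iv7 F244869)))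
theorem Q75680 : ∀ i, i < 75680 → P i := stepQ 75679 Q75679 (allL N75679 (tt N82463 F349406) (tt N46280 F349407) (tt N64232 F324821) (tt N63747 F324822) (tt N57708 F233423) (tt N42340 (iv5 D148660)) (tt N48516 F324823) (tt N77760 (iv7 F244872)))
theorem Q75681 : ∀ i, i < 75681 → P i := stepQ 75680 Q75680 (allL N75680 (tt N94628 (iv1 F405303)) (tt N42342 (iv0 D148665)) (tt N101841 (iv2 F434609)) (tt N90514 F408981) (tt N109417 D212645) (tt N95637 F408978) (tt N79409 (iv6 F408980)) (tt N101840 F434602))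
theorem Q75682 : ∀ i, i < 75682 → P i := stepQ 75681 Q75681 (allL N75681 (tt N101841 (iv1 F434604)) (tt N101840 F434600) (tt N42342 (iv2 D148667)) (tt N77750 (iv3 F244850)) (tt N94633 (iv4 F405318)) (tt N77446 (iv5 F359974)) (tt N42345 F233428) (tt N94628 (iv7 F405301)))
theorem Q75683 : ∀ i, i < 75683 → P i := stepQ 75682 Q75682 (allL N75682 (tt N57396 F353024) (tt N55092 (iv0 F347873)) (tt N86358 (iv2 F375927)) (tt N42343 (iv3 D148669)) (tt N78830 F251056) (tt N91408 (iv5 F393017)) (tt N106823 (iv6 F455840)) (tt N44111 F353025))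
theorem Q75684 : ∀ i, i < 75684 → P i := stepQ 75683 Q75683 (allL N75683 (tt N89601 (iv1 F386916)) (tt N89600 F386915) (tt N44115 F353027) (tt N89589 (iv3 F386851)) (tt N42343 (iv4 D148670)) (tt N109418 D212646) (tt N106945 (iv6 F456394)) (tt N44112 F353028))
theorem Q75685 : ∀ i, i < 75685 → P i := stepQ 75684 Q75684 (allL N75684 (tt N76158 (iv1 F357006)) (tt N63765 F357005) (tt N44116 F353029) (tt N91408 F393021) (tt N99261 (iv4 F423859)) (tt N42343 (iv5 D148671)) (tt N95761 F409509) (tt N44113 F353030))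
theorem Q75686 : ∀ i, i < 75686 → P i := stepQ 75685 Q75685 (allL N75685 (tt N60379 (iv1 F359356)) (tt N66477 F359357) (tt N44117 F353031) (tt N106823 F455843) (tt N106945 (iv4 F456393)) (tt N45925 F353032) (tt N42343 (iv6 D148672)) (tt N82057 F353033))
theorem Q75687 : ∀ i, i < 75687 → P i := stepQ 75686 Q75686 (allL N75686 (tt N79068 F308164) (tt N75317 F308165) (tt N42350 F233431) (tt N43906 F307283) (tt N42349 F233432) (tt N43905 F307284) (tt N42348 (iv6 D148678)) (tt N87495 (iv7 F379550)))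
theorem Q75688 : ∀ i, i < 75688 → P i := stepQ 75687 Q75687 (allL N75687 (tt N42349 (iv1 D148680)) (tt N42354 F233435) (tt N42352 F336937) (tt N75615 F336938) (tt N42784 F336939) (tt N61708 (iv5 F338617)) (tt N56082 F336940) (tt N42351 F336941))
theorem Q75689 : ∀ i, i < 75689 → P i := stepQ 75688 Q75688 (allL N75688 (tt N42352 (iv1 F233438)) (tt N42351 F233439) (tt N42354 F233436) (tt N78936 (iv3 F251437)) (tt N87495 (iv4 F379552)) (tt N68168 (iv5 F355278)) (tt N61349 F233437) (tt N42349 (iv7 D148681)))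
theorem Q75690 : ∀ i, i < 75690 → P i := stepQ 75689 Q75689 (allL N75689 (tt N87495 (iv1 F379549)) (tt N42350 (iv0 D148682)) (tt N79068 F310415) (tt N75321 F310416) (tt N63410 (iv4 F347596)) (tt N42489 F310417) (tt N75480 F310418) (tt N75317 F310419))
theorem Q75691 : ∀ i, i < 75691 → P i := stepQ 75690 Q75690 (allL N75690 (tt N75317 (iv1 F338628)) (tt N79068 (iv0 F347610)) (tt N87495 (iv2 F379554)) (tt N68575 (iv3 F309871)) (tt N42354 F233440) (tt N69638 F347611) (tt N63805 F233441) (tt N42350 (iv7 D148685)))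
theorem Q75692 : ∀ i, i < 75692 → P i := stepQ 75691 Q75691 (allL N75691 (tt N66759 F315073) (tt N61353 (iv0 F318211)) (tt N56082 F315075) (tt N57401 F338536) (tt N44926 F315076) (tt N94105 (iv5 F403228)) (tt N42352 (iv6 D148695)) (tt N66757 F315077))
theorem Q75693 : ∀ i, i < 75693 → P i := stepQ 75692 Q75692 (allL N75692 (tt N67742 F355269) (tt N104584 F446411) (tt N75087 F233453) (tt N109419 D212647) (tt N42353 (iv4 D148698)) (tt N92287 F396584) (tt N42358 F233454) (tt N104583 (iv7 F446402)))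
theorem Q75694 : ∀ i, i < 75694 → P i := stepQ 75693 Q75693 (allL N75693 (tt N60860 F233460) (tt N60850 (iv0 F233461)) (tt N56245 F233457) (tt N42357 (iv3 D148700)) (tt N97874 (iv4 F418618)) (tt N50089 F233458) (tt N50090 (iv6 F233462)) (tt N56241 F233459))
theorem Q75695 : ∀ i, i < 75695 → P i := stepQ 75694 Q75694 (allL N75694 (tt N99811 F426337) (tt N104817 F447432) (tt N60867 F233463) (tt N50090 F233464) (tt N103778 (iv4 F442773)) (tt N50086 F233465) (tt N42357 (iv6 D148701)) (tt N68305 (iv7 F363898)))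
theorem Q75696 : ∀ i, i < 75696 → P i := stepQ 75695 Q75695 (allL N75695 (tt N109420 D212648) (tt N109421 D212649) (tt N109422 D212650) (tt N42358 (iv3 D148703)) (tt N42383 F233469) (tt N109394 (iv5 F466741)) (tt N109419 (iv6 F466864)) (tt N75082 F233470))
theorem Q75697 : ∀ i, i < 75697 → P i := stepQ 75696 Q75696 (allL N75696 (tt N108634 (iv1 F463299)) (tt N68211 (iv0 F363172)) (tt N66625 F233471) (tt N42386 F233472) (tt N75084 F233473) (tt N58927 F233474) (tt N42359 (iv6 D148704)) (tt N104942 (iv7 F448049)))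
theorem Q75698 : ∀ i, i < 75698 → P i := stepQ 75697 Q75697 (allL N75697 (tt N98545 (iv1 F421274)) (tt N84196 (iv0 F368486)) (tt N47478 F327771) (tt N42362 F233476) (tt N101099 (iv4 F431667)) (tt N55758 (iv5 F233477)) (tt N42360 (iv6 D148710)) (tt N60953 (iv7 F233478)))
theorem Q75699 : ∀ i, i < 75699 → P i := stepQ 75698 Q75698 (allL N75698 (tt N70582 F363273) (tt N104741 F447073) (tt N67776 (iv2 F327300)) (tt N70348 (iv3 F363272)) (tt N42361 (iv4 D148713)) (tt N68753 F341593) (tt N104684 (iv6 F446858)) (tt N78945 (iv7 F251494)))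
theorem Q75700 : ∀ i, i < 75700 → P i := stepQ 75699 Q75699 (allL N75699 (tt N98464 F420991) (tt N98471 (iv0 F421026)) (tt N47537 F326558) (tt N42365 F233488) (tt N47019 F326559) (tt N100768 (iv5 F430375)) (tt N42363 (iv6 D148720)) (tt N109423 D212651))
theorem Q75701 : ∀ i, i < 75701 → P i := stepQ 75700 Q75700 (allL N75700 (tt N70831 F362725) (tt N64198 (iv0 F233489)) (tt N78946 (iv2 F251495)) (tt N44797 F327791) (tt N92616 (iv4 F397657)) (tt N100769 (iv5 F430382)) (tt N42364 (iv6 D148722)) (tt N97902 (iv7 F418724)))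
theorem Q75702 : ∀ i, i < 75702 → P i := stepQ 75701 Q75701 (allL N75701 (tt N55787 (iv1 F233494)) (tt N61245 F233495) (tt N60960 F233490) (tt N109423 (iv3 F466885)) (tt N66774 F233491) (tt N61485 F233492) (tt N55756 F233493) (tt N42365 (iv7 D148723)))
theorem Q75703 : ∀ i, i < 75703 → P i := stepQ 75702 Q75702 (allL N75702 (tt N78901 (iv1 F251299)) (tt N60987 F233497) (tt N67543 (iv2 F327308)) (tt N70298 (iv3 F362912)) (tt N42366 (iv4 D148725)) (tt N93104 (iv5 F399508)) (tt N109424 D212652) (tt N78900 (iv7 F251293)))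
theorem Q75704 : ∀ i, i < 75704 → P i := stepQ 75703 Q75703 (allL N75703 (tt N74903 F363922) (tt N105820 F451880) (tt N76245 F237978) (tt N106856 (iv3 F456019)) (tt N109424 (iv4 F466893)) (tt N61238 F233498) (tt N42366 (iv6 D148726)) (tt N76242 (iv7 F237981)))
theorem Q75705 : ∀ i, i < 75705 → P i := stepQ 75704 Q75704 (allL N75704 (tt N98673 F421810) (tt N98676 (iv0 F421816)) (tt N78948 (iv2 F251500)) (tt N68240 (iv3 F366005)) (tt N104620 (iv4 F446578)) (tt N61519 F233502) (tt N42367 (iv6 D148729)) (tt N109425 D212653))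
theorem Q75706 : ∀ i, i < 75706 → P i := stepQ 75705 Q75705 (allL N75705 (tt N102478 (iv1 F437371)) (tt N102477 F437368) (tt N66186 (iv2 F364737)) (tt N42368 (iv3 D148732)) (tt N109419 (iv4 F466863)) (tt N66185 F364736) (tt N42383 F233505) (tt N102475 (iv7 F437360)))
theorem Q75707 : ∀ i, i < 75707 → P i := stepQ 75706 Q75706 (allL N75706 (tt N78953 (iv1 F251524)) (tt N78952 F251523) (tt N78949 (iv2 F251516)) (tt N104942 (iv3 F448047)) (tt N103489 (iv4 F441841)) (tt N58937 F233507) (tt N42369 (iv6 D148735)) (tt N42386 F233508))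
theorem Q75708 : ∀ i, i < 75708 → P i := stepQ 75707 Q75707 (allL N75707 (tt N109426 D212654) (tt N109427 D212655) (tt N103713 (iv2 F442555)) (tt N42370 (iv3 D148736)) (tt N92141 (iv4 F395934)) (tt N68903 (iv5 F325510)) (tt N109428 D212656) (tt N78917 (iv7 F251352)))
theorem Q75709 : ∀ i, i < 75709 → P i := stepQ 75708 Q75708 (allL N75708 (tt N106141 F453322) (tt N109429 D212657) (tt N78914 (iv2 F251341)) (tt N109428 (iv3 F466911)) (tt N42371 F233509) (tt N109430 D212658) (tt N42370 (iv6 D148737)) (tt N109431 D212659))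
theorem Q75710 : ∀ i, i < 75710 → P i := stepQ 75709 Q75709 (allL N75709 (tt N78916 (iv1 F251350)) (tt N42371 (iv0 D148738)) (tt N70684 (iv2 F364692)) (tt N97979 F419049) (tt N92264 (iv4 F396516)) (tt N98511 F421174) (tt N70683 F364691) (tt N78915 (iv7 F364722)))
theorem Q75711 : ∀ i, i < 75711 → P i := stepQ 75710 Q75710 (allL N75710 (tt N42371 (iv1 D148739)) (tt N78916 F251349) (tt N78915 F364723) (tt N70687 (iv3 F364724)) (tt N109432 D212660) (tt N98510 (iv5 F421173)) (tt N105849 (iv6 F452019)) (tt N70684 F364721))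
theorem Q75712 : ∀ i, i < 75712 → P i := stepQ 75711 Q75711 (allL N75711 (tt N78915 (iv1 F251344)) (tt N70684 (iv0 F325506)) (tt N78916 (iv2 F251345)) (tt N92144 (iv3 F395944)) (tt N109431 (iv4 F466922)) (tt N78789 (iv5 F250883)) (tt N78921 (iv6 F251360)) (tt N42371 (iv7 D148740)))
theorem Q75713 : ∀ i, i < 75713 → P i := stepQ 75712 Q75712 (allL N75712 (tt N102841 (iv1 F438893)) (tt N109433 D212661) (tt N103558 (iv2 F442033)) (tt N42374 (iv3 D148742)) (tt N66310 F233517) (tt N75717 (iv5 F233521)) (tt N102442 F437258) (tt N78913 (iv7 F251340)))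
theorem Q75714 : ∀ i, i < 75714 → P i := stepQ 75713 Q75713 (allL N75713 (tt N109434 D212662) (tt N102935 (iv0 F439332)) (tt N78918 (iv2 F251353)) (tt N102442 F437257) (tt N42375 F233518) (tt N103783 (iv5 F442793)) (tt N42374 (iv6 D148743)) (tt N103555 (iv7 F442021)))
theorem Q75715 : ∀ i, i < 75715 → P i := stepQ 75714 Q75714 (allL N75714 (tt N78921 (iv1 F251363)) (tt N42375 (iv0 D148744)) (tt N78919 (iv2 F251480)) (tt N97961 F418977) (tt N102504 (iv4 F437456)) (tt N88473 F383190) (tt N83657 F288312) (tt N78920 F251479))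
theorem Q75716 : ∀ i, i < 75716 → P i := stepQ 75715 Q75715 (allL N75715 (tt N42375 (iv1 D148745)) (tt N78921 F251362) (tt N78920 F251477) (tt N92169 (iv3 F396071)) (tt N102498 (iv4 F437440)) (tt N61254 (iv5 F233519)) (tt N78942 (iv6 F251476)) (tt N78919 (iv7 F251478)))
theorem Q75717 : ∀ i, i < 75717 → P i := stepQ 75716 Q75716 (allL N75716 (tt N78920 (iv1 F251356)) (tt N78919 F251361) (tt N78921 (iv2 F251358)) (tt N83653 F288301) (tt N103555 (iv4 F442019)) (tt N68139 F233520) (tt N78916 (iv6 F251347)) (tt N42375 (iv7 D148746)))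
theorem Q75718 : ∀ i, i < 75718 → P i := stepQ 75717 Q75717 (allL N75717 (tt N69018 F362141) (tt N102556 (iv0 F437642)) (tt N104631 (iv2 F446609)) (tt N42376 (iv3 D148747)) (tt N70310 F365494) (tt N75712 F233521) (tt N67792 (iv6 F374827)) (tt N60844 F233522))
theorem Q75719 : ∀ i, i < 75719 → P i := stepQ 75718 Q75718 (allL N75718 (tt N84917 F371085) (tt N84921 (iv0 F371094)) (tt N50276 F233523) (tt N67792 F374825) (tt N42377 F233524) (tt N67791 (iv5 F374828)) (tt N42376 (iv6 D148748)) (tt N109435 D212663))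
theorem Q75720 : ∀ i, i < 75720 → P i := stepQ 75719 Q75719 (allL N75719 (tt N49262 (iv1 F233530)) (tt N42377 (iv0 D148749)) (tt N50274 (iv2 F283562)) (tt N50252 F283595) (tt N109436 D212664) (tt N86829 (iv5 F377335)) (tt N98676 (iv6 F421815)) (tt N50275 F283561))
theorem Q75721 : ∀ i, i < 75721 → P i := stepQ 75720 Q75720 (allL N75720 (tt N42377 (iv1 D148750)) (tt N49262 F233525) (tt N50275 F283559) (tt N104817 F447434) (tt N109437 D212665) (tt N51293 (iv5 F233526)) (tt N109438 D212666) (tt N50274 (iv7 F283560)))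
theorem Q75722 : ∀ i, i < 75722 → P i := stepQ 75721 Q75721 (allL N75721 (tt N50275 (iv1 F233531)) (tt N50274 F233532) (tt N49262 F233527) (tt N83621 (iv3 F288082)) (tt N109435 (iv4 F466946)) (tt N49261 F233528) (tt N60843 F233529) (tt N42377 (iv7 D148751)))
theorem Q75723 : ∀ i, i < 75723 → P i := stepQ 75722 Q75722 (allL N75722 (tt N109436 (iv1 F466954)) (tt N109437 (iv0 F466957)) (tt N50178 F233553) (tt N68877 (iv3 F365667)) (tt N45048 F233554) (tt N109439 D212667) (tt N42381 (iv6 D148759)) (tt N68872 F365668))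
theorem Q75724 : ∀ i, i < 75724 → P i := stepQ 75723 Q75723 (allL N75723 (tt N70984 (iv1 F233558)) (tt N70571 (iv0 F329378)) (tt N68885 (iv2 F347253)) (tt N42382 (iv3 D148760)) (tt N71461 F233555) (tt N75733 (iv5 F233571)) (tt N68883 F347264) (tt N71952 F233556))
theorem Q75725 : ∀ i, i < 75725 → P i := stepQ 75724 Q75724 (allL N75724 (tt N102590 (iv1 F437821)) (tt N42383 (iv0 D148762)) (tt N109440 D212668) (tt N109441 D212669) (tt N103652 (iv4 F443069)) (tt N109127 (iv5 F465453)) (tt N109442 D212670) (tt N109443 D212671))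
theorem Q75726 : ∀ i, i < 75726 → P i := stepQ 75725 Q75725 (allL N75725 (tt N42383 (iv1 D148763)) (tt N102590 F437820) (tt N109443 (iv2 F466979)) (tt N105121 (iv3 F448892)) (tt N102431 F442355) (tt N109128 F465459) (tt N102430 (iv6 F442356)) (tt N109440 F466969))
theorem Q75727 : ∀ i, i < 75727 → P i := stepQ 75726 Q75726 (allL N75726 (tt N109440 (iv1 F466972)) (tt N109443 F466982) (tt N42383 (iv2 D148764)) (tt N66188 (iv3 F333188)) (tt N109422 (iv4 F466879)) (tt N102591 (iv5 F437825)) (tt N66186 F364738) (tt N102590 F437819))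
theorem Q75728 : ∀ i, i < 75728 → P i := stepQ 75727 Q75727 (allL N75727 (tt N102589 (iv1 F437808)) (tt N102588 F437816) (tt N102591 (iv2 F437822)) (tt N42384 F233562) (tt N70781 (iv4 F333186)) (tt N42383 (iv5 D148765)) (tt N102577 (iv6 F437740)) (tt N45088 (iv7 F233564)))
theorem Q75729 : ∀ i, i < 75729 → P i := stepQ 75728 Q75728 (allL N75728 (tt N109443 (iv1 F466983)) (tt N109440 (iv0 F466971)) (tt N102590 (iv2 F437817)) (tt N42385 F233565) (tt N75082 F233566) (tt N45088 F233567) (tt N66117 (iv6 F362859)) (tt N42383 (iv7 D148766)))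
theorem Q75730 : ∀ i, i < 75730 → P i := stepQ 75729 Q75729 (allL N75729 (tt N109444 D212672) (tt N67569 (iv0 F399940)) (tt N75730 (iv2 F233569)) (tt N102577 (iv3 F437737)) (tt N45089 F233568) (tt N102488 (iv5 F437415)) (tt N42384 (iv6 D148767)) (tt N102572 (iv7 F437717)))
theorem Q75731 : ∀ i, i < 75731 → P i := stepQ 75730 Q75730 (allL N75730 (tt N95807 F409753) (tt N103559 F442040) (tt N75729 F233569) (tt N66117 F362855) (tt N42386 F233570) (tt N66116 (iv5 F343669)) (tt N42385 (iv6 D148768)) (tt N103489 (iv7 F441843)))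
theorem Q75732 : ∀ i, i < 75732 → P i := stepQ 75731 Q75731 (allL N75731 (tt N78949 (iv1 F251521)) (tt N42386 (iv0 D148769)) (tt N78952 (iv2 F444288)) (tt N97049 F430419) (tt N109445 D212673) (tt N103464 (iv5 F441741)) (tt N100776 (iv6 F430418)) (tt N78953 (iv7 F444290)))
theorem Q75733 : ∀ i, i < 75733 → P i := stepQ 75732 Q75732 (allL N75732 (tt N42386 (iv1 D148770)) (tt N78949 F251520) (tt N78953 F444289) (tt N68253 (iv3 F365181)) (tt N109446 D212674) (tt N103467 (iv5 F441754)) (tt N104855 (iv6 F447644)) (tt N78952 F444287))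
theorem Q75734 : ∀ i, i < 75734 → P i := stepQ 75733 Q75733 (allL N75733 (tt N72082 F233572) (tt N99059 (iv0 F423180)) (tt N69113 (iv2 F347255)) (tt N42387 (iv3 D148771)) (tt N69033 (iv4 F336169)) (tt N75723 F233571) (tt N69075 F347261) (tt N69162 (iv7 F328663)))
theorem Q75735 : ∀ i, i < 75735 → P i := stepQ 75734 Q75734 (allL N75734 (tt N92264 F419050) (tt N109432 (iv0 F466930)) (tt N79053 (iv2 F252005)) (tt N69075 (iv3 F347262)) (tt N42388 F233574) (tt N109447 D212675) (tt N42387 (iv6 D148772)) (tt N69106 F347263))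
theorem Q75736 : ∀ i, i < 75736 → P i := stepQ 75735 Q75735 (allL N75735 (tt N79056 (iv1 F252014)) (tt N42388 (iv0 D148773)) (tt N79054 (iv2 F364678)) (tt N92741 (iv3 F406148)) (tt N98670 F421804) (tt N98563 F421342) (tt N66149 F364677) (tt N79055 (iv7 F364680)))
theorem Q75737 : ∀ i, i < 75737 → P i := stepQ 75736 Q75736 (allL N75736 (tt N50913 F233577) (tt N84947 F371156) (tt N70467 (iv2 F364211)) (tt N42391 F233575) (tt N105226 (iv4 F449291)) (tt N68126 F233576) (tt N42389 (iv6 D148776)) (tt N84946 (iv7 F374720)))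
theorem Q75738 : ∀ i, i < 75738 → P i := stepQ 75737 Q75737 (allL N75737 (tt N102504 F437457) (tt N102498 (iv0 F437441)) (tt N69160 (iv2 F365590)) (tt N104645 (iv3 F446668)) (tt N42391 F233581) (tt N109448 D212676) (tt N42390 (iv6 D148778)) (tt N102502 (iv7 F437452)))
theorem Q75739 : ∀ i, i < 75739 → P i := stepQ 75738 Q75738 (allL N75738 (tt N42391 (iv1 D148780)) (tt N70468 (iv0 F328780)) (tt N66622 (iv2 F331445)) (tt N92746 (iv3 F398061)) (tt N109449 D212677) (tt N60201 (iv5 F233582)) (tt N70462 (iv6 F358368)) (tt N79057 (iv7 F252030)))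
theorem Q75740 : ∀ i, i < 75740 → P i := stepQ 75739 Q75739 (allL N75739 (tt N66622 (iv1 F331444)) (tt N79057 F252028) (tt N70468 (iv2 F328782)) (tt N84946 (iv3 F374719)) (tt N102502 F437453) (tt N68129 F233583) (tt N79056 (iv6 F252011)) (tt N42391 (iv7 D148781)))
theorem Q75741 : ∀ i, i < 75741 → P i := stepQ 75740 Q75740 (allL N75740 (tt N62743 F233607) (tt N62739 F233608) (tt N75032 F233605) (tt N105281 (iv3 F449538)) (tt N103520 (iv4 F441926)) (tt N42394 (iv5 D148788)) (tt N104618 (iv6 F446570)) (tt N75031 F233606))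
theorem Q75742 : ∀ i, i < 75742 → P i := stepQ 75741 Q75741 (allL N75741 (tt N75050 (iv1 F243397)) (tt N75051 (iv0 F243394)) (tt N75105 F233609) (tt N80012 (iv3 F348298)) (tt N56047 F233610) (tt N107117 (iv5 F457054)) (tt N42394 (iv6 D148789)) (tt N75150 (iv7 F233611)))
theorem Q75743 : ∀ i, i < 75743 → P i := stepQ 75742 Q75742 (allL N75742 (tt N73371 F233614) (tt N91173 F392169) (tt N105282 (iv2 F449540)) (tt N42395 (iv3 D148790)) (tt N66647 F233612) (tt N109450 D212678) (tt N43552 F356775) (tt N75104 F233613))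
theorem Q75744 : ∀ i, i < 75744 → P i := stepQ 75743 Q75743 (allL N75743 (tt N62739 F233617) (tt N62743 F233618) (tt N75031 F233615) (tt N109450 (iv3 F467016)) (tt N109146 (iv4 F465563)) (tt N42395 (iv5 D148791)) (tt N109451 D212679) (tt N75032 F233616))
theorem Q75745 : ∀ i, i < 75745 → P i := stepQ 75744 Q75744 (allL N75744 (tt N62766 F243335) (tt N62768 (iv0 F243338)) (tt N75103 F233619) (tt N43552 F356778) (tt N66645 F233620) (tt N109452 D212680) (tt N42395 (iv6 D148792)) (tt N109453 D212681))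
theorem Q75746 : ∀ i, i < 75746 → P i := stepQ 75745 Q75745 (allL N75745 (tt N75108 (iv1 F233621)) (tt N42396 (iv0 D148793)) (tt N75107 F403165) (tt N91175 F392176) (tt N81326 (iv4 F403164)) (tt N96548 (iv5 F412943)) (tt N81325 F403166) (tt N75106 (iv7 F403167)))
theorem Q75747 : ∀ i, i < 75747 → P i := stepQ 75746 Q75746 (allL N75746 (tt N42396 (iv1 D148794)) (tt N75108 F233626) (tt N75106 (iv2 F403169)) (tt N100952 (iv3 F431084)) (tt N96971 (iv4 F414861)) (tt N109454 D212682) (tt N96973 (iv6 F414873)) (tt N75107 F403168))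
theorem Q75748 : ∀ i, i < 75748 → P i := stepQ 75747 Q75747 (allL N75747 (tt N75107 (iv1 F233627)) (tt N75106 F233625) (tt N42396 (iv2 D148795)) (tt N75122 F233622) (tt N42414 F233623) (tt N109455 D212683) (tt N78697 (iv6 F250299)) (tt N75108 F233624))
theorem Q75749 : ∀ i, i < 75749 → P i := stepQ 75748 Q75748 (allL N75748 (tt N105041 F448521) (tt N76506 (iv0 F351275)) (tt N109455 (iv2 F467042)) (tt N42397 F233628) (tt N96385 (iv4 F412317)) (tt N42396 (iv5 D148796)) (tt N109456 D212684) (tt N75109 F233629))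
theorem Q75750 : ∀ i, i < 75750 → P i := stepQ 75749 Q75749 (allL N75749 (tt N70397 F442322) (tt N109457 D212685) (tt N75124 F233630) (tt N109456 (iv3 F467049)) (tt N103626 F442289) (tt N70383 (iv5 F363952)) (tt N42397 (iv6 D148797)) (tt N109458 D212686))
theorem Q75751 : ∀ i, i < 75751 → P i := stepQ 75750 Q75750 (allL N75750 (tt N92564 (iv1 F397400)) (tt N72030 F233633) (tt N55723 F233631) (tt N105568 (iv3 F450764)) (tt N42400 (iv4 D148798)) (tt N73358 F350019) (tt N105566 F450755) (tt N55720 F233632))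
theorem Q75752 : ∀ i, i < 75752 → P i := stepQ 75751 Q75751 (allL N75751 (tt N83962 F367634) (tt N60933 F364606) (tt N55724 F233634) (tt N45060 F233635) (tt N105566 (iv4 F450754)) (tt N57265 F233636) (tt N42400 (iv6 D148799)) (tt N83973 (iv7 F367676)))
theorem Q75753 : ∀ i, i < 75753 → P i := stepQ 75752 Q75752 (allL N75752 (tt N62604 F353596) (tt N75378 F350041) (tt N75379 (iv2 F350040)) (tt N42401 (iv3 D148800)) (tt N42403 F233637) (tt N67080 (iv5 F350028)) (tt N51993 (iv6 F359052)) (tt N56061 (iv7 F316396)))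
theorem Q75754 : ∀ i, i < 75754 → P i := stepQ 75753 Q75753 (allL N75753 (tt N80871 F349813) (tt N100148 (iv0 F427702)) (tt N104789 F447286) (tt N42408 F233662) (tt N62876 F233663) (tt N81261 F355022) (tt N42407 (iv6 D148812)) (tt N80163 F363721))
theorem Q75755 : ∀ i, i < 75755 → P i := stepQ 75754 Q75754 (allL N75754 (tt N42413 (iv1 F233676)) (tt N42412 (iv0 D148815)) (tt N42415 (iv2 F233671)) (tt N74835 F233672) (tt N75108 F233673) (tt N44601 F233674) (tt N109459 D212687) (tt N42414 F233675))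
theorem Q75756 : ∀ i, i < 75756 → P i := stepQ 75755 Q75755 (allL N75755 (tt N42415 F347932) (tt N42414 F347933) (tt N42412 (iv2 D148816)) (tt N75345 F347938) (tt N96300 (iv4 F411917)) (tt N52556 F347934) (tt N81519 (iv6 F347935)) (tt N42413 (iv7 F233677)))
theorem Q75757 : ∀ i, i < 75757 → P i := stepQ 75756 Q75756 (allL N75756 (tt N74838 F361643) (tt N109460 D212688) (tt N109233 (iv2 F465897)) (tt N42412 (iv3 D148817)) (tt N109005 (iv4 F464871)) (tt N92640 (iv5 F397722)) (tt N82075 (iv6 F361640)) (tt N80671 (iv7 F358632)))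
theorem Q75758 : ∀ i, i < 75758 → P i := stepQ 75757 Q75757 (allL N75757 (tt N109102 F465355) (tt N73381 (iv0 F365403)) (tt N96300 (iv2 F411915)) (tt N109461 D212689) (tt N42412 (iv4 D148818)) (tt N109462 D212690) (tt N82076 (iv6 F361641)) (tt N109463 D212691))
theorem Q75759 : ∀ i, i < 75759 → P i := stepQ 75758 Q75758 (allL N75758 (tt N74756 (iv1 F248416)) (tt N62600 (iv0 F248415)) (tt N52556 (iv2 F347821)) (tt N92640 (iv3 F397720)) (tt N52554 F347819) (tt N42412 (iv5 D148819)) (tt N52553 (iv6 F347822)) (tt N58878 F347824))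
theorem Q75760 : ∀ i, i < 75760 → P i := stepQ 75759 Q75759 (allL N75759 (tt N42414 F353667) (tt N42415 F353668) (tt N42413 F233678) (tt N80671 F353669) (tt N109463 (iv4 F467094)) (tt N58878 F353671) (tt N58879 F353670) (tt N42412 (iv7 D148821)))
theorem Q75761 : ∀ i, i < 75761 → P i := stepQ 75760 Q75760 (allL N75760 (tt N73381 F354106) (tt N109102 (iv0 F465354)) (tt N109463 (iv2 F467092)) (tt N75129 (iv3 F233679)) (tt N42413 (iv4 D148823)) (tt N109464 D212692) (tt N96981 (iv6 F414910)) (tt N96300 F411918))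
theorem Q75762 : ∀ i, i < 75762 → P i := stepQ 75761 Q75761 (allL N75761 (tt N97088 F415425) (tt N64710 (iv0 F347967)) (tt N109459 (iv2 F467068)) (tt N42416 F233682) (tt N75110 F233683) (tt N48127 F233684) (tt N42415 (iv6 D148828)) (tt N65350 F233685))
theorem Q75763 : ∀ i, i < 75763 → P i := stepQ 75762 Q75762 (allL N75762 (tt N68268 (iv1 F233700)) (tt N46521 (iv0 F306213)) (tt N75007 F233696) (tt N53332 F304123) (tt N79255 F304124) (tt N43152 F233697) (tt N42418 (iv6 D148830)) (tt N69579 F233698))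
theorem Q75764 : ∀ i, i < 75764 → P i := stepQ 75763 Q75763 (allL N75763 (tt N42421 (iv1 D148832)) (tt N42430 F233703) (tt N42428 (iv2 F233706)) (tt N76635 (iv3 F332317)) (tt N43412 F233705) (tt N76632 F334520) (tt N52813 (iv6 F300771)) (tt N42427 F233704))
theorem Q75765 : ∀ i, i < 75765 → P i := stepQ 75764 Q75764 (allL N75764 (tt N42428 (iv1 F233711)) (tt N42427 F233712) (tt N42430 F233708) (tt N63230 F330750) (tt N42425 F233709) (tt N74397 (iv5 F334533)) (tt N66834 F233710) (tt N42421 (iv7 D148834)))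
theorem Q75766 : ∀ i, i < 75766 → P i := stepQ 75765 Q75765 (allL N75765 (tt N66841 F233840) (tt N43435 (iv0 F233841)) (tt N42432 F233837) (tt N47417 F334056) (tt N42422 (iv4 D148836)) (tt N47415 F334057) (tt N66726 F233838) (tt N42436 F233839))
theorem Q75767 : ∀ i, i < 75767 → P i := stepQ 75766 Q75766 (allL N75766 (tt N46233 F233845) (tt N78727 F250529) (tt N42433 F233842) (tt N76137 (iv3 F236762)) (tt N100382 (iv4 F428708)) (tt N42422 (iv5 D148837)) (tt N54967 (iv6 F315762)) (tt N42437 F233844))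
theorem Q75768 : ∀ i, i < 75768 → P i := stepQ 75767 Q75767 (allL N75767 (tt N42440 (iv1 F233856)) (tt N42439 F233857) (tt N42441 F233854) (tt N68427 (iv3 F311217)) (tt N88474 (iv4 F383195)) (tt N42425 F233855) (tt N65103 (iv6 F355137)) (tt N42424 (iv7 D148839)))
theorem Q75769 : ∀ i, i < 75769 → P i := stepQ 75768 Q75768 (allL N75768 (tt N108443 F462596) (tt N109022 F464978) (tt N78336 (iv2 F248336)) (tt N46434 F233858) (tt N74399 F355111) (tt N42426 (iv5 D148842)) (tt N42429 F233859) (tt N99558 (iv7 F425150)))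
theorem Q75770 : ∀ i, i < 75770 → P i := stepQ 75769 Q75769 (allL N75769 (tt N78335 (iv1 F248335)) (tt N78334 F248340) (tt N78337 (iv2 F248338)) (tt N46435 F233860) (tt N76920 (iv4 F240828)) (tt N99558 (iv5 F425151)) (tt N76114 (iv6 F236448)) (tt N42426 (iv7 D148843)))
theorem Q75771 : ∀ i, i < 75771 → P i := stepQ 75770 Q75770 (allL N75770 (tt N89733 (iv1 F387351)) (tt N75997 (iv0 F342607)) (tt N80606 (iv2 F268815)) (tt N42427 (iv3 D148844)) (tt N48979 F233861) (tt N69426 (iv5 F332324)) (tt N69428 F332326) (tt N76635 (iv7 F332319)))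
theorem Q75772 : ∀ i, i < 75772 → P i := stepQ 75771 Q75771 (allL N75771 (tt N66885 (iv1 F233865)) (tt N76170 F237221) (tt N67026 F233862) (tt N69428 (iv3 F332327)) (tt N76911 (iv4 F240749)) (tt N66919 F233863) (tt N42427 (iv6 D148846)) (tt N67023 (iv7 F233864)))
theorem Q75773 : ∀ i, i < 75773 → P i := stepQ 75772 Q75772 (allL N75772 (tt N77022 F361354) (tt N100622 (iv0 F429746)) (tt N47046 F361350) (tt N42428 (iv3 D148847)) (tt N76334 F361351) (tt N46430 F361352) (tt N47037 F361353) (tt N100643 (iv7 F429812)))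
theorem Q75774 : ∀ i, i < 75774 → P i := stepQ 75773 Q75773 (allL N75773 (tt N52815 (iv1 F300779)) (tt N52812 (iv0 F300766)) (tt N52813 (iv2 F300768)) (tt N47037 F312374) (tt N63731 F233866) (tt N47036 (iv5 F314802)) (tt N42428 (iv6 D148849)) (tt N52814 (iv7 F300774)))
theorem Q75775 : ∀ i, i < 75775 → P i := stepQ 75774 Q75774 (allL N75774 (tt N75905 F234561) (tt N101011 (iv0 F431261)) (tt N76077 (iv2 F236230)) (tt N42433 F233870) (tt N77221 F349789) (tt N42431 (iv5 D148854)) (tt N101692 (iv6 F433891)) (tt N76079 (iv7 F236234)))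
theorem Q75776 : ∀ i, i < 75776 → P i := stepQ 75775 Q75775 (allL N75775 (tt N63142 F416632) (tt N103143 (iv0 F440273)) (tt N76078 (iv2 F236231)) (tt N42434 F233871) (tt N63624 F233872) (tt N62959 F233873) (tt N42431 (iv6 D148855)) (tt N66712 (iv7 F233874)))
theorem Q75777 : ∀ i, i < 75777 → P i := stepQ 75776 Q75776 (allL N75776 (tt N42436 (iv1 F233878)) (tt N42432 (iv0 D148856)) (tt N66841 (iv2 F233877)) (tt N100145 F427686) (tt N43437 F233876) (tt N74396 F334043) (tt N66839 (iv6 F233880)) (tt N43435 F233879))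
theorem Q75778 : ∀ i, i < 75778 → P i := stepQ 75777 Q75777 (allL N75777 (tt N66882 (iv1 F233884)) (tt N100506 (iv0 F429232)) (tt N66726 F233881) (tt N100146 (iv3 F427689)) (tt N42434 F233882) (tt N82150 (iv5 F355434)) (tt N42432 (iv6 D148859)) (tt N66717 (iv7 F233883)))
theorem Q75779 : ∀ i, i < 75779 → P i := stepQ 75778 Q75778 (allL N75778 (tt N42437 (iv1 F233888)) (tt N42433 (iv0 D148860)) (tt N46233 (iv2 F233887)) (tt N69636 (iv3 F309833)) (tt N75467 F233885) (tt N46226 F233886) (tt N101701 F433949) (tt N78727 (iv7 F250527)))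
theorem Q75780 : ∀ i, i < 75780 → P i := stepQ 75779 Q75779 (allL N75779 (tt N74770 F233900) (tt N66820 (iv0 F233902)) (tt N74768 F233898) (tt N42439 (iv3 D148866)) (tt N75125 F233901) (tt N80148 (iv5 F261826)) (tt N87823 (iv6 F380679)) (tt N74769 F233899))
theorem Q75781 : ∀ i, i < 75781 → P i := stepQ 75780 Q75780 (allL N75780 (tt N73142 (iv1 F345648)) (tt N72693 (iv0 F319652)) (tt N73610 (iv2 F322978)) (tt N87823 (iv3 F380678)) (tt N82017 (iv4 F334042)) (tt N44372 F316998) (tt N42439 (iv6 D148867)) (tt N76198 (iv7 F237587)))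
theorem Q75782 : ∀ i, i < 75782 → P i := stepQ 75781 Q75781 (allL N75781 (tt N66666 (iv1 F233907)) (tt N66665 F233908) (tt N66667 F233904) (tt N105278 (iv3 F449524)) (tt N75168 F233905) (tt N79131 (iv5 F253055)) (tt N65097 (iv6 F315638)) (tt N42442 (iv7 D148869)))
theorem Q75783 : ∀ i, i < 75783 → P i := stepQ 75782 Q75782 (allL N75782 (tt N82585 (iv1 F282973)) (tt N42444 (iv0 D148873)) (tt N82587 F344861) (tt N94083 (iv3 F403127)) (tt N47497 F344862) (tt N71126 F346441) (tt N47445 F346442) (tt N82586 (iv7 F346446)))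
theorem Q75784 : ∀ i, i < 75784 → P i := stepQ 75783 Q75783 (allL N75783 (tt N42444 (iv1 D148874)) (tt N82585 F282972) (tt N82586 F346449) (tt N107564 (iv3 F458765)) (tt N47496 F346450) (tt N71122 (iv5 F346456)) (tt N94179 (iv6 F403572)) (tt N82587 F346452))
theorem Q75785 : ∀ i, i < 75785 → P i := stepQ 75784 Q75784 (allL N75784 (tt N82587 (iv1 F282975)) (tt N82586 F282974) (tt N42444 (iv2 D148875)) (tt N76132 (iv3 F236573)) (tt N109234 (iv4 F465904)) (tt N82224 (iv5 F279620)) (tt N42447 F233919) (tt N82585 (iv7 F282971)))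
theorem Q75786 : ∀ i, i < 75786 → P i := stepQ 75785 Q75785 (allL N75785 (tt N99793 (iv1 F427712)) (tt N94085 (iv0 F403140)) (tt N63247 F354560) (tt N42445 (iv3 D148876)) (tt N59720 F233920) (tt N98296 (iv5 F420381)) (tt N63211 (iv6 F354562)) (tt N95470 (iv7 F408304)))
theorem Q75787 : ∀ i, i < 75787 → P i := stepQ 75786 Q75786 (allL N75786 (tt N47009 F334736) (tt N47493 F334737) (tt N47496 F334738) (tt N63211 F334739) (tt N82586 F346448) (tt N63210 F334740) (tt N42445 (iv6 D148878)) (tt N47497 F334741))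
theorem Q75788 : ∀ i, i < 75788 → P i := stepQ 75787 Q75787 (allL N75787 (tt N94181 (iv1 F403582)) (tt N94180 F403580) (tt N58849 F233926) (tt N73712 F233927) (tt N42446 (iv4 D148879)) (tt N48343 F323079) (tt N47446 F334609) (tt N94179 (iv7 F403573)))
theorem Q75789 : ∀ i, i < 75789 → P i := stepQ 75788 Q75788 (allL N75788 (tt N46351 F336427) (tt N79270 F336428) (tt N65156 (iv2 F336444)) (tt N63548 F346401) (tt N47446 F336429) (tt N65153 (iv5 F347459)) (tt N42446 (iv6 D148881)) (tt N65161 F347460))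
theorem Q75790 : ∀ i, i < 75790 → P i := stepQ 75789 Q75789 (allL N75789 (tt N42460 (iv1 F233946)) (tt N42451 (iv0 D148890)) (tt N42458 F359660) (tt N86602 (iv3 F376578)) (tt N75968 F314439) (tt N45239 F314440) (tt N98497 (iv6 F421131)) (tt N42459 F359661))
theorem Q75791 : ∀ i, i < 75791 → P i := stepQ 75790 Q75790 (allL N75790 (tt N42451 (iv1 D148891)) (tt N42460 F233943) (tt N42459 F352658) (tt N46073 F259264) (tt N45250 F312024) (tt N78280 F312025) (tt N91170 (iv6 F392146)) (tt N42458 F352659))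
theorem Q75792 : ∀ i, i < 75792 → P i := stepQ 75791 Q75791 (allL N75791 (tt N80457 (iv1 F351937)) (tt N68558 F359901) (tt N46447 F233949) (tt N42453 F233950) (tt N66831 F233951) (tt N107145 (iv5 F457192)) (tt N42452 (iv6 D148893)) (tt N68424 (iv7 F351512)))
theorem Q75793 : ∀ i, i < 75793 → P i := stepQ 75792 Q75792 (allL N75792 (tt N45249 F307337) (tt N45229 F234068) (tt N42470 F234042) (tt N78312 (iv3 F339006)) (tt N42454 (iv4 D148898)) (tt N77696 F307338) (tt N76135 (iv6 F236700)) (tt N42474 F234043))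
theorem Q75794 : ∀ i, i < 75794 → P i := stepQ 75793 Q75793 (allL N75793 (tt N45241 F308764) (tt N45722 F308765) (tt N42471 F234044) (tt N76060 (iv3 F236165)) (tt N53340 (iv4 F351910)) (tt N42454 (iv5 D148899)) (tt N53339 (iv6 F346689)) (tt N42475 F234045))
theorem Q75795 : ∀ i, i < 75795 → P i := stepQ 75794 Q75794 (allL N75794 (tt N45722 F308761) (tt N45241 F308762) (tt N42475 F234066) (tt N76140 (iv3 F236806)) (tt N64645 F308763) (tt N42455 (iv5 D148902)) (tt N69650 (iv6 F233966)) (tt N42471 (iv7 F234065)))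
theorem Q75796 : ∀ i, i < 75796 → P i := stepQ 75795 Q75795 (allL N75795 (tt N74479 F355705) (tt N100020 (iv0 F427234)) (tt N98497 (iv2 F421130)) (tt N68117 (iv3 F355707)) (tt N76123 (iv4 F355706)) (tt N98485 F421090) (tt N42458 (iv6 D148915)) (tt N98496 (iv7 F421126)))
theorem Q75797 : ∀ i, i < 75797 → P i := stepQ 75796 Q75796 (allL N75796 (tt N42461 (iv1 D148920)) (tt N46502 F233990) (tt N42866 F308412) (tt N52755 F235906) (tt N63333 (iv4 F233992)) (tt N73858 F348310) (tt N68284 (iv6 F354315)) (tt N56104 F233991))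
theorem Q75798 : ∀ i, i < 75798 → P i := stepQ 75797 Q75797 (allL N75797 (tt N42837 F234026) (tt N54138 (iv0 F310908)) (tt N76139 (iv2 F236798)) (tt N42471 F234025) (tt N78154 (iv4 F344024)) (tt N42469 (iv5 D148951)) (tt N72310 F345677) (tt N76140 (iv7 F236807)))
theorem Q75799 : ∀ i, i < 75799 → P i := stepQ 75798 Q75798 (allL N75798 (tt N109465 D212693) (tt N52937 (iv0 F344055)) (tt N76062 (iv2 F236171)) (tt N42475 F234096) (tt N89163 (iv4 F385404)) (tt N42473 (iv5 D148961)) (tt N103060 (iv6 F439902)) (tt N76060 (iv7 F236166)))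
theorem Q75800 : ∀ i, i < 75800 → P i := stepQ 75799 Q75799 (allL N75799 (tt N109466 D212694) (tt N63137 F425347) (tt N76063 (iv2 F236174)) (tt N42476 F234097) (tt N76737 (iv4 F239807)) (tt N75890 (iv5 F234536)) (tt N42473 (iv6 D148962)) (tt N76166 (iv7 F237194)))
theorem Q75801 : ∀ i, i < 75801 → P i := stepQ 75800 Q75800 (allL N75800 (tt N78313 (iv1 F307670)) (tt N68354 (iv0 F308521)) (tt N76515 (iv2 F338999)) (tt N42474 (iv3 D148963)) (tt N68553 (iv4 F333434)) (tt N82189 F361580) (tt N107571 (iv6 F458790)) (tt N78312 (iv7 F339008)))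
theorem Q75802 : ∀ i, i < 75802 → P i := stepQ 75801 Q75801 (allL N75801 (tt N69652 F234100) (tt N65395 (iv0 F313747)) (tt N69650 F234099) (tt N103060 (iv3 F439901)) (tt N77316 F361929) (tt N75965 (iv5 F234773)) (tt N42475 (iv6 D148967)) (tt N69651 (iv7 F234107)))
theorem Q75803 : ∀ i, i < 75803 → P i := stepQ 75802 Q75802 (allL N75802 (tt N107101 (iv1 F456974)) (tt N77265 (iv0 F361475)) (tt N76072 (iv2 F236199)) (tt N45380 F234109) (tt N93713 (iv4 F401641)) (tt N42477 (iv5 D148968)) (tt N93711 F401637) (tt N76075 (iv7 F236216)))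
theorem Q75804 : ∀ i, i < 75804 → P i := stepQ 75803 Q75803 (allL N75803 (tt N42512 (iv1 F234112)) (tt N42478 (iv0 D148969)) (tt N42802 (iv2 F234111)) (tt N52937 F344052) (tt N52777 (iv4 F344051)) (tt N54371 (iv5 F321075)) (tt N42756 (iv6 F234113)) (tt N76073 (iv7 F236205)))
theorem Q75805 : ∀ i, i < 75805 → P i := stepQ 75804 Q75804 (allL N75804 (tt N42569 F234586) (tt N103100 (iv0 F440075)) (tt N48493 F234120) (tt N42620 F234121) (tt N75889 F346285) (tt N42480 (iv5 D148977)) (tt N42482 F234122) (tt N100484 (iv7 F429113)))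
theorem Q75806 : ∀ i, i < 75806 → P i := stepQ 75805 Q75805 (allL N75805 (tt N42525 (iv1 F234125)) (tt N42551 F234126) (tt N42550 F234123) (tt N43735 F234124) (tt N78572 F306921) (tt N100484 (iv5 F429114)) (tt N77600 F243942) (tt N42480 (iv7 D148978)))
theorem Q75807 : ∀ i, i < 75807 → P i := stepQ 75806 Q75806 (allL N75806 (tt N42487 (iv1 F234131)) (tt N42483 (iv0 D148979)) (tt N42485 (iv2 F234129)) (tt N42689 F234127) (tt N46093 F234128) (tt N52387 (iv5 F352635)) (tt N109467 D212695) (tt N42486 F234130))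
theorem Q75808 : ∀ i, i < 75808 → P i := stepQ 75807 Q75807 (allL N75807 (tt N42486 (iv1 F234140)) (tt N42485 F234141) (tt N42487 F234137) (tt N66821 F234138) (tt N43319 F234139) (tt N95921 (iv5 F410268)) (tt N76059 (iv6 F236161)) (tt N42483 (iv7 D148980)))
theorem Q75809 : ∀ i, i < 75809 → P i := stepQ 75808 Q75808 (allL N75808 (tt N42484 (iv1 D148981)) (tt N46501 F234142) (tt N43327 F234146) (tt N61375 (iv3 F234145)) (tt N43209 (iv4 F234144)) (tt N109468 D212696) (tt N101313 (iv6 F432615)) (tt N43323 F234143))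
theorem Q75810 : ∀ i, i < 75810 → P i := stepQ 75809 Q75809 (allL N75809 (tt N63148 F239484) (tt N107141 (iv0 F457171)) (tt N56096 F234147) (tt N66733 F234148) (tt N76791 F239941) (tt N42484 (iv5 D148982)) (tt N56093 F234149) (tt N82651 (iv7 F330098)))
theorem Q75811 : ∀ i, i < 75811 → P i := stepQ 75810 Q75810 (allL N75810 (tt N87466 (iv1 F379427)) (tt N78737 (iv0 F355402)) (tt N52387 F352636) (tt N75968 F234827) (tt N84224 (iv4 F368581)) (tt N42485 (iv5 D148984)) (tt N84223 F368579) (tt N76124 (iv7 F236542)))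
theorem Q75812 : ∀ i, i < 75812 → P i := stepQ 75811 Q75811 (allL N75811 (tt N101313 (iv1 F432614)) (tt N103180 (iv0 F440440)) (tt N109467 (iv2 F467112)) (tt N46509 (iv3 F259390)) (tt N68530 (iv4 F314763)) (tt N56075 (iv5 F234156)) (tt N42485 (iv6 D148985)) (tt N109469 D212697))
theorem Q75813 : ∀ i, i < 75813 → P i := stepQ 75812 Q75812 (allL N75812 (tt N76105 (iv1 F266075)) (tt N76102 (iv0 F239772)) (tt N76103 (iv2 F238780)) (tt N42720 F234159) (tt N66368 (iv4 F331951)) (tt N102983 (iv5 F439544)) (tt N42486 (iv6 D148986)) (tt N76104 (iv7 F238783)))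
theorem Q75814 : ∀ i, i < 75814 → P i := stepQ 75813 Q75813 (allL N75813 (tt N42495 (iv1 D148993)) (tt N42501 F234174) (tt N42499 F234227) (tt N42682 F234176) (tt N63428 (iv4 F234175)) (tt N76020 F344900) (tt N109470 D212698) (tt N42498 (iv7 F234226)))
theorem Q75815 : ∀ i, i < 75815 → P i := stepQ 75814 Q75814 (allL N75814 (tt N52385 (iv1 F311341)) (tt N52383 (iv0 F310080)) (tt N42500 F234178) (tt N66827 F234179) (tt N100136 (iv4 F427634)) (tt N42495 (iv5 D148994)) (tt N42496 F234180) (tt N52384 (iv7 F364466)))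
theorem Q75816 : ∀ i, i < 75816 → P i := stepQ 75815 Q75815 (allL N75815 (tt N42499 (iv1 F234186)) (tt N42498 F234188) (tt N42501 F234183) (tt N76059 (iv3 F236159)) (tt N67636 F335255) (tt N52384 (iv5 F335249)) (tt N66821 F234184) (tt N42495 (iv7 D148995)))
theorem Q75817 : ∀ i, i < 75817 → P i := stepQ 75816 Q75816 (allL N75816 (tt N100344 (iv1 F428513)) (tt N63151 (iv0 F234192)) (tt N61376 F234189) (tt N44987 F234190) (tt N49733 (iv4 F335758)) (tt N42497 (iv5 D148996)) (tt N44984 F234191) (tt N53365 F346754))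
theorem Q75818 : ∀ i, i < 75818 → P i := stepQ 75817 Q75817 (allL N75817 (tt N42683 F234208) (tt N42680 (iv0 F234210)) (tt N42681 F234207) (tt N42498 (iv3 D148999)) (tt N45242 F234209) (tt N45725 F307438) (tt N43084 F307730) (tt N42682 (iv7 F234224)))
theorem Q75819 : ∀ i, i < 75819 → P i := stepQ 75818 Q75818 (allL N75818 (tt N82526 (iv1 F332054)) (tt N81685 (iv0 F357087)) (tt N45718 (iv2 F309484)) (tt N45725 F307435) (tt N66970 F307436) (tt N42498 (iv5 D149000)) (tt N80976 F344127) (tt N76020 F307437))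
theorem Q75820 : ∀ i, i < 75820 → P i := stepQ 75819 Q75819 (allL N75819 (tt N66823 (iv1 F239708)) (tt N57686 F311106) (tt N68019 F311107) (tt N43084 (iv3 F306301)) (tt N63855 F234269) (tt N44397 (iv5 F313376)) (tt N42498 (iv6 D149001)) (tt N72191 F311108))
theorem Q75821 : ∀ i, i < 75821 → P i := stepQ 75820 Q75820 (allL N75820 (tt N103099 (iv1 F440069)) (tt N100335 F428466) (tt N109470 (iv2 F467131)) (tt N46483 F234271) (tt N63858 F234272) (tt N75903 (iv5 F278141)) (tt N42499 (iv6 D149003)) (tt N105025 (iv7 F448443)))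
theorem Q75822 : ∀ i, i < 75822 → P i := stepQ 75821 Q75821 (allL N75821 (tt N52384 (iv1 F335256)) (tt N42500 (iv0 D149004)) (tt N52385 (iv2 F311342)) (tt N66956 (iv3 F309740)) (tt N63840 F234273) (tt N66955 (iv5 F335257)) (tt N68978 F234276) (tt N52383 (iv7 F310084)))
theorem Q75823 : ∀ i, i < 75823 → P i := stepQ 75822 Q75822 (allL N75822 (tt N52383 (iv1 F310081)) (tt N52385 (iv0 F311340)) (tt N52384 (iv2 F335254)) (tt N42515 F234278) (tt N63618 (iv4 F335244)) (tt N42501 F234279) (tt N68506 F234280) (tt N42500 (iv7 D149005)))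
theorem Q75824 : ∀ i, i < 75824 → P i := stepQ 75823 Q75823 (allL N75823 (tt N68558 (iv1 F359904)) (tt N80457 (iv0 F351935)) (tt N68424 F234283) (tt N46450 F309198) (tt N63834 F234285) (tt N47731 (iv5 F311407)) (tt N42502 (iv6 D149006)) (tt N46447 F309199))
theorem Q75825 : ∀ i, i < 75825 → P i := stepQ 75824 Q75824 (allL N75824 (tt N76446 F309797) (tt N79411 F309798) (tt N48430 F309799) (tt N43457 F234287) (tt N79386 F309800) (tt N42503 (iv5 D149007)) (tt N63599 F347176) (tt N44577 F234288))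
theorem Q75826 : ∀ i, i < 75826 → P i := stepQ 75825 Q75825 (allL N75825 (tt N77558 F243625) (tt N43516 F243626) (tt N44578 F234290) (tt N72409 (iv3 F313934)) (tt N76068 (iv4 F236185)) (tt N73932 (iv5 F346238)) (tt N42504 (iv6 D149009)) (tt N100229 (iv7 F428070)))
theorem Q75827 : ∀ i, i < 75827 → P i := stepQ 75826 Q75826 (allL N75826 (tt N52368 F311826) (tt N42505 (iv0 D149010)) (tt N52370 F311827) (tt N43460 (iv3 F234327)) (tt N47965 (iv4 F314261)) (tt N77170 (iv5 F241790)) (tt N44520 F234328) (tt N44533 F234329))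
theorem Q75828 : ∀ i, i < 75828 → P i := stepQ 75827 Q75827 (allL N75827 (tt N44533 (iv1 F234293)) (tt N52370 F311819) (tt N52368 F311820) (tt N43080 F234291) (tt N47349 F311821) (tt N42506 F234292) (tt N80493 F337037) (tt N42505 (iv7 D149011)))
theorem Q75829 : ∀ i, i < 75829 → P i := stepQ 75828 Q75828 (allL N75828 (tt N54374 (iv1 F350966)) (tt N109471 D212699) (tt N76065 (iv2 F236178)) (tt N90174 (iv3 F388783)) (tt N107773 (iv4 F459660)) (tt N42507 (iv5 D149012)) (tt N96144 (iv6 F411233)) (tt N76067 (iv7 F236183)))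
theorem Q75830 : ∀ i, i < 75830 → P i := stepQ 75829 Q75829 (allL N75829 (tt N85996 F374818) (tt N104136 F444370) (tt N90175 (iv2 F388784)) (tt N42508 (iv3 D149014)) (tt N44579 F234295) (tt N109472 D212700) (tt N109473 D212701) (tt N76064 (iv7 F236177)))
theorem Q75831 : ∀ i, i < 75831 → P i := stepQ 75830 Q75830 (allL N75830 (tt N109471 (iv1 F467137)) (tt N54374 F350965) (tt N76067 (iv2 F236182)) (tt N109472 (iv3 F467143)) (tt N107880 (iv4 F460093)) (tt N42508 (iv5 D149015)) (tt N109474 D212702) (tt N76065 (iv7 F236179)))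
theorem Q75832 : ∀ i, i < 75832 → P i := stepQ 75831 Q75831 (allL N75831 (tt N109475 D212703) (tt N63139 (iv0 F234297)) (tt N76068 (iv2 F236184)) (tt N109473 (iv3 F467149)) (tt N44578 F234296) (tt N75892 (iv5 F234544)) (tt N42508 (iv6 D149016)) (tt N109476 D212704))
theorem Q75833 : ∀ i, i < 75833 → P i := stepQ 75832 Q75832 (allL N75832 (tt N76071 (iv1 F236195)) (tt N42509 (iv0 D149017)) (tt N76069 (iv2 F241768)) (tt N90178 (iv3 F388793)) (tt N107881 (iv4 F460095)) (tt N90538 (iv5 F390000)) (tt N109477 D212705) (tt N76070 F241767))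
theorem Q75834 : ∀ i, i < 75834 → P i := stepQ 75833 Q75833 (allL N75833 (tt N42509 (iv1 D149018)) (tt N76071 F236194) (tt N76070 F241765) (tt N62323 (iv3 F342380)) (tt N107882 (iv4 F460102)) (tt N77167 (iv5 F241764)) (tt N71661 (iv6 F390012)) (tt N76069 (iv7 F241766)))
theorem Q75835 : ∀ i, i < 75835 → P i := stepQ 75834 Q75834 (allL N75834 (tt N57242 F363157) (tt N74632 (iv0 F388404)) (tt N74631 (iv2 F331763)) (tt N91487 (iv3 F393337)) (tt N42509 (iv4 D149019)) (tt N109478 D212706) (tt N89064 (iv6 F385027)) (tt N74537 (iv7 F357677)))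
theorem Q75836 : ∀ i, i < 75836 → P i := stepQ 75835 Q75835 (allL N75835 (tt N76070 (iv1 F236186)) (tt N76069 F236193) (tt N76071 (iv2 F236190)) (tt N72465 F357495) (tt N74537 (iv4 F357676)) (tt N42510 F234298) (tt N72463 (iv6 F357672)) (tt N42509 (iv7 D149020)))
theorem Q75837 : ∀ i, i < 75837 → P i := stepQ 75836 Q75836 (allL N75836 (tt N77265 F340784) (tt N107101 (iv0 F456973)) (tt N76075 (iv2 F236214)) (tt N94163 (iv3 F403491)) (tt N109479 D212707) (tt N42511 (iv5 D149022)) (tt N107192 (iv6 F457413)) (tt N76072 (iv7 F236200)))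
theorem Q75838 : ∀ i, i < 75838 → P i := stepQ 75837 Q75837 (allL N75837 (tt N107097 (iv1 F456957)) (tt N63130 (iv0 F243629)) (tt N76076 (iv2 F236217)) (tt N94164 (iv3 F403494)) (tt N42513 F234300) (tt N75870 (iv5 F234496)) (tt N42511 (iv6 D149023)) (tt N57692 (iv7 F364033)))
theorem Q75839 : ∀ i, i < 75839 → P i := stepQ 75838 Q75838 (allL N75838 (tt N77609 (iv1 F340785)) (tt N79394 F350939) (tt N54307 (iv2 F344063)) (tt N79339 (iv3 F344046)) (tt N42512 (iv4 D149024)) (tt N106439 (iv5 F454442)) (tt N69642 F234301) (tt N76074 (iv7 F236210)))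
theorem Q75840 : ∀ i, i < 75840 → P i := stepQ 75839 Q75839 (allL N75839 (tt N46485 (iv1 F234306)) (tt N42513 (iv0 D149025)) (tt N42571 (iv2 F234304)) (tt N103099 (iv3 F440065)) (tt N109475 (iv4 F467157)) (tt N42527 F234303) (tt N63147 F234302) (tt N42575 F234305))
theorem Q75841 : ∀ i, i < 75841 → P i := stepQ 75840 Q75840 (allL N75840 (tt N74715 (iv1 F356997)) (tt N74714 F344054) (tt N68527 F234313) (tt N89976 (iv3 F388164)) (tt N89479 (iv4 F386619)) (tt N42514 (iv5 D149029)) (tt N95757 (iv6 F409487)) (tt N74713 F342403))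
theorem Q75842 : ∀ i, i < 75842 → P i := stepQ 75841 Q75841 (allL N75841 (tt N45922 F330815) (tt N46171 (iv0 F330820)) (tt N45861 F322687) (tt N95775 (iv3 F409584)) (tt N46341 F330833) (tt N42516 (iv5 D149035)) (tt N95774 F409578) (tt N46341 F330836))
theorem Q75843 : ∀ i, i < 75843 → P i := stepQ 75842 Q75842 (allL N75842 (tt N64273 F312889) (tt N47198 (iv0 F315266)) (tt N64274 F312890) (tt N47965 (iv3 F314260)) (tt N44519 F234357) (tt N109480 D212708) (tt N42516 (iv6 D149036)) (tt N47961 F312891))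
theorem Q75844 : ∀ i, i < 75844 → P i := stepQ 75843 Q75843 (allL N75843 (tt N47097 F317093) (tt N42517 (iv0 D149037)) (tt N68508 F348436) (tt N80696 (iv3 F348439)) (tt N78637 (iv4 F348443)) (tt N103278 (iv5 F440949)) (tt N47066 F348438) (tt N68507 (iv7 F348448)))
theorem Q75845 : ∀ i, i < 75845 → P i := stepQ 75844 Q75844 (allL N75844 (tt N42517 (iv1 D149038)) (tt N47097 F317094) (tt N68507 (iv2 F348450)) (tt N80291 (iv3 F348452)) (tt N78213 (iv4 F247160)) (tt N101809 (iv5 F434442)) (tt N89430 F386465) (tt N68508 F348451))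
theorem Q75846 : ∀ i, i < 75846 → P i := stepQ 75845 Q75845 (allL N75845 (tt N67415 (iv1 F348454)) (tt N81512 (iv0 F345389)) (tt N89745 (iv2 F387392)) (tt N42518 F234365) (tt N97435 (iv4 F416898)) (tt N42517 (iv5 D149040)) (tt N97379 (iv6 F416605)) (tt N68509 F234366))
theorem Q75847 : ∀ i, i < 75847 → P i := stepQ 75846 Q75846 (allL N75846 (tt N101502 (iv1 F433169)) (tt N101501 F433166) (tt N47820 F234369) (tt N42521 F234370) (tt N90854 (iv4 F391053)) (tt N42519 (iv5 D149044)) (tt N83076 (iv6 F285804)) (tt N100278 (iv7 F428224)))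
theorem Q75848 : ∀ i, i < 75848 → P i := stepQ 75847 Q75847 (allL N75847 (tt N94468 (iv1 F404594)) (tt N101086 F431612) (tt N42545 F234382) (tt N104135 (iv3 F444364)) (tt N109481 D212709) (tt N42520 (iv5 D149049)) (tt N109482 D212710) (tt N42543 F234383))
theorem Q75849 : ∀ i, i < 75849 → P i := stepQ 75848 Q75848 (allL N75848 (tt N42549 (iv1 F234391)) (tt N42521 (iv0 D149051)) (tt N42546 F234522) (tt N43825 F338053) (tt N109483 D212711) (tt N107097 (iv5 F456954)) (tt N105287 F449567) (tt N42547 F234523))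
theorem Q75850 : ∀ i, i < 75850 → P i := stepQ 75849 Q75849 (allL N75849 (tt N42521 (iv1 D149052)) (tt N42549 F234386) (tt N42547 F234519) (tt N109484 D212712) (tt N109485 D212713) (tt N63130 (iv5 F234387)) (tt N83426 F338051) (tt N42546 F234520))
theorem Q75851 : ∀ i, i < 75851 → P i := stepQ 75850 Q75850 (allL N75850 (tt N109486 D212714) (tt N90621 (iv0 F390300)) (tt N42548 F234388) (tt N109487 D212715) (tt N42521 (iv4 D149053)) (tt N109488 D212716) (tt N62067 (iv6 F346026)) (tt N106653 (iv7 F455159)))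
theorem Q75852 : ∀ i, i < 75852 → P i := stepQ 75851 Q75851 (allL N75851 (tt N90614 (iv1 F390274)) (tt N90613 F390273) (tt N42555 F234394) (tt N86785 (iv3 F377188)) (tt N109489 D212717) (tt N42523 (iv5 D149055)) (tt N62960 F346071) (tt N42564 F234395))
theorem Q75853 : ∀ i, i < 75853 → P i := stepQ 75852 Q75852 (allL N75852 (tt N102875 (iv1 F439052)) (tt N108331 (iv0 F462102)) (tt N42559 F234408) (tt N80200 F363702) (tt N42524 (iv4 D149057)) (tt N100343 (iv5 F428502)) (tt N66751 (iv6 F366432)) (tt N42566 F234409))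
theorem Q75854 : ∀ i, i < 75854 → P i := stepQ 75853 Q75853 (allL N75853 (tt N80101 (iv1 F362047)) (tt N100486 (iv0 F429125)) (tt N103096 (iv2 F440046)) (tt N42526 F234410) (tt N76546 (iv4 F353141)) (tt N42525 (iv5 D149058)) (tt N109490 D212718) (tt N42553 F234411))
theorem Q75855 : ∀ i, i < 75855 → P i := stepQ 75854 Q75854 (allL N75854 (tt N108331 (iv1 F462103)) (tt N102875 F439054) (tt N42566 F234416) (tt N109491 D212719) (tt N42526 (iv4 D149061)) (tt N103973 F443596) (tt N109247 (iv6 F465978)) (tt N42559 F234417))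
theorem Q75856 : ∀ i, i < 75856 → P i := stepQ 75855 Q75855 (allL N75855 (tt N62731 F234419) (tt N42583 (iv0 F234420)) (tt N42567 F234418) (tt N109490 (iv3 F467238)) (tt N109247 (iv4 F465976)) (tt N82332 (iv5 F280336)) (tt N42526 (iv6 D149062)) (tt N62730 (iv7 F234421)))
theorem Q75857 : ∀ i, i < 75857 → P i := stepQ 75856 Q75856 (allL N75856 (tt N103995 (iv1 F443701)) (tt N65196 (iv0 F234424)) (tt N42570 F234422) (tt N87189 (iv3 F378642)) (tt N42527 (iv4 D149063)) (tt N67155 (iv5 F408124)) (tt N99752 (iv6 F426064)) (tt N42574 F234423))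
theorem Q75858 : ∀ i, i < 75858 → P i := stepQ 75857 Q75857 (allL N75857 (tt N48493 F234428) (tt N100484 (iv0 F429115)) (tt N103100 (iv2 F440070)) (tt N42528 (iv3 D149064)) (tt N63712 F234427) (tt N63137 F234425) (tt N62094 F361273) (tt N42569 F234426))
theorem Q75859 : ∀ i, i < 75859 → P i := stepQ 75858 Q75858 (allL N75858 (tt N65196 F234431) (tt N103995 (iv0 F443703)) (tt N42574 F234429) (tt N59723 (iv3 F361275)) (tt N42528 (iv4 D149065)) (tt N95398 (iv5 F408119)) (tt N59722 F361276) (tt N42570 F234430))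
theorem Q75860 : ∀ i, i < 75860 → P i := stepQ 75859 Q75859 (allL N75859 (tt N72221 (iv1 F314450)) (tt N48216 F278738) (tt N44314 F312127) (tt N48135 F234446) (tt N57636 F312128) (tt N42533 (iv5 D149071)) (tt N109492 D212720) (tt N48499 F234447))
theorem Q75861 : ∀ i, i < 75861 → P i := stepQ 75860 Q75860 (allL N75860 (tt N82120 (iv1 F278727)) (tt N49038 F307022) (tt N81360 (iv2 F307157)) (tt N42611 F234448) (tt N74525 F312030) (tt N76126 (iv5 F236557)) (tt N42533 (iv6 D149072)) (tt N80034 (iv7 F305848)))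
theorem Q75862 : ∀ i, i < 75862 → P i := stepQ 75861 Q75861 (allL N75861 (tt N48226 F280213) (tt N77602 (iv0 F280170)) (tt N48500 F234451) (tt N72227 F360596) (tt N90468 F389766) (tt N99592 (iv5 F425319)) (tt N42534 (iv6 D149074)) (tt N100030 (iv7 F427288)))
theorem Q75863 : ∀ i, i < 75863 → P i := stepQ 75862 Q75862 (allL N75862 (tt N77456 (iv1 F242746)) (tt N77455 F242745) (tt N77166 (iv2 F241760)) (tt N90232 (iv3 F389010)) (tt N86015 (iv4 F374891)) (tt N42535 (iv5 D149083)) (tt N106859 (iv6 F456036)) (tt N77451 (iv7 F242713)))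
theorem Q75864 : ∀ i, i < 75864 → P i := stepQ 75863 Q75863 (allL N75863 (tt N42538 (iv1 D149089)) (tt N53111 F234473) (tt N49465 (iv2 F272716)) (tt N53121 F234476) (tt N82531 (iv4 F281874)) (tt N109493 D212721) (tt N109494 D212722) (tt N53112 F234474))
theorem Q75865 : ∀ i, i < 75865 → P i := stepQ 75864 Q75864 (allL N75864 (tt N53132 F384543) (tt N105732 (iv0 F451461)) (tt N82630 (iv2 F283406)) (tt N42539 F234477) (tt N68905 F355252) (tt N42538 (iv5 D149090)) (tt N52870 F234478) (tt N101842 (iv7 F434614)))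
theorem Q75866 : ∀ i, i < 75866 → P i := stepQ 75865 Q75865 (allL N75865 (tt N101787 (iv1 F434342)) (tt N109495 D212723) (tt N82854 (iv2 F284630)) (tt N109496 D212724) (tt N42539 (iv4 D149093)) (tt N94356 (iv5 F404119)) (tt N82851 (iv6 F284615)) (tt N101843 (iv7 F434619)))
theorem Q75867 : ∀ i, i < 75867 → P i := stepQ 75866 Q75866 (allL N75866 (tt N54498 (iv1 F289781)) (tt N42541 (iv0 D149107)) (tt N82731 (iv2 F346019)) (tt N83166 (iv3 F346018)) (tt N62025 F335560) (tt N71136 (iv5 F335559)) (tt N109497 D212725) (tt N62024 F346032))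
theorem Q75868 : ∀ i, i < 75868 → P i := stepQ 75867 Q75867 (allL N75867 (tt N42541 (iv1 D149108)) (tt N54498 (iv0 F289780)) (tt N62024 F346022) (tt N49870 (iv3 F346055)) (tt N61781 (iv4 F346021)) (tt N49866 (iv5 F335595)) (tt N62977 (iv6 F345999)) (tt N82731 F346033))
theorem Q75869 : ∀ i, i < 75869 → P i := stepQ 75868 Q75868 (allL N75868 (tt N43818 F312625) (tt N42542 (iv0 D149111)) (tt N82956 F312626) (tt N47462 F312627) (tt N94135 (iv4 F403382)) (tt N109498 D212726) (tt N52940 F312628) (tt N49460 F312629))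
theorem Q75870 : ∀ i, i < 75870 → P i := stepQ 75869 Q75869 (allL N75869 (tt N89455 F386559) (tt N109499 D212727) (tt N101738 (iv2 F434112)) (tt N42543 F234494) (tt N109500 D212728) (tt N42542 (iv5 D149115)) (tt N100431 (iv6 F428950)) (tt N104135 (iv7 F444365)))
theorem Q75871 : ∀ i, i < 75871 → P i := stepQ 75870 Q75870 (allL N75870 (tt N42545 (iv1 F234497)) (tt N42543 (iv0 D149117)) (tt N101086 F431611) (tt N101093 (iv3 F431639)) (tt N109501 D212729) (tt N75837 F234496) (tt N109502 D212730) (tt N94468 (iv7 F404593)))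
theorem Q75872 : ∀ i, i < 75872 → P i := stepQ 75871 Q75871 (allL N75871 (tt N42543 (iv1 D149118)) (tt N42545 F234498) (tt N94468 (iv2 F404590)) (tt N47852 F264403) (tt N109503 D212731) (tt N80384 (iv5 F264401)) (tt N109504 D212732) (tt N101086 (iv7 F431609)))
theorem Q75873 : ∀ i, i < 75873 → P i := stepQ 75872 Q75872 (allL N75872 (tt N109505 D212733) (tt N99140 (iv0 F423439)) (tt N101132 (iv2 F431843)) (tt N109506 D212734) (tt N42543 (iv4 D149119)) (tt N54547 (iv5 F346246)) (tt N99931 F426877) (tt N109481 (iv7 F467190)))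
theorem Q75874 : ∀ i, i < 75874 → P i := stepQ 75873 Q75873 (allL N75873 (tt N83556 (iv1 F338009)) (tt N77394 (iv0 F353760)) (tt N43819 F306619) (tt N42545 F234509) (tt N77391 F306620) (tt N42544 (iv5 D149129)) (tt N83492 (iv6 F366809)) (tt N43648 F306621))
theorem Q75875 : ∀ i, i < 75875 → P i := stepQ 75874 Q75874 (allL N75874 (tt N99140 (iv1 F431846)) (tt N109505 F467297) (tt N109481 (iv2 F467188)) (tt N109507 D212735) (tt N42545 (iv4 D149131)) (tt N106912 F456254) (tt N109508 D212736) (tt N101132 (iv7 F431844)))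
theorem Q75876 : ∀ i, i < 75876 → P i := stepQ 75875 Q75875 (allL N75875 (tt N106342 F454090) (tt N83479 (iv0 F346052)) (tt N109482 (iv2 F467191)) (tt N83492 F366811) (tt N109508 (iv4 F467299)) (tt N98683 F421841) (tt N42545 (iv6 D149132)) (tt N100438 (iv7 F428977)))
theorem Q75877 : ∀ i, i < 75877 → P i := stepQ 75876 Q75876 (allL N75876 (tt N109498 F467282) (tt N82955 (iv0 F467305)) (tt N109509 D212738) (tt N42546 (iv3 D149136)) (tt N109510 D212739) (tt N109511 D212740) (tt N109512 D212741) (tt N109484 (iv7 F467204)))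
theorem Q75878 : ∀ i, i < 75878 → P i := stepQ 75877 Q75877 (allL N75877 (tt N109513 D212742) (tt N101752 (iv0 F434183)) (tt N109483 (iv2 F467196)) (tt N54675 F353164) (tt N42546 (iv4 D149137)) (tt N54674 (iv5 F353163)) (tt N62528 (iv6 F360849)) (tt N109485 (iv7 F467208)))
theorem Q75879 : ∀ i, i < 75879 → P i := stepQ 75878 Q75878 (allL N75878 (tt N57692 (iv1 F364032)) (tt N76076 F236220) (tt N107097 (iv2 F456951)) (tt N109511 (iv3 F467310)) (tt N77003 (iv4 F241370)) (tt N42546 (iv5 D149138)) (tt N101135 (iv6 F431862)) (tt N63130 F234521))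
theorem Q75880 : ∀ i, i < 75880 → P i := stepQ 75879 Q75879 (allL N75879 (tt N105264 (iv1 F449463)) (tt N70410 (iv0 F431868)) (tt N105287 (iv2 F449564)) (tt N109512 (iv3 F467316)) (tt N62528 F360850) (tt N101136 (iv5 F431865)) (tt N42546 (iv6 D149139)) (tt N105286 F449560))
theorem Q75881 : ∀ i, i < 75881 → P i := stepQ 75880 Q75880 (allL N75880 (tt N101752 (iv1 F434185)) (tt N109513 F467322) (tt N109485 (iv2 F467206)) (tt N109514 D212743) (tt N42547 (iv4 D149142)) (tt N103212 (iv5 F440591)) (tt N83427 F338052) (tt N109483 (iv7 F467198)))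
theorem Q75882 : ∀ i, i < 75882 → P i := stepQ 75881 Q75881 (allL N75881 (tt N76076 F236221) (tt N57692 (iv0 F364031)) (tt N63130 (iv2 F234517)) (tt N75470 (iv3 F335023)) (tt N63329 (iv4 F234518)) (tt N42547 (iv5 D149143)) (tt N63114 F234516) (tt N107097 (iv7 F456955)))
theorem Q75883 : ∀ i, i < 75883 → P i := stepQ 75882 Q75882 (allL N75882 (tt N106653 F455160) (tt N42548 (iv0 D149145)) (tt N109486 F467213) (tt N109515 D212744) (tt N81382 F338054) (tt N62097 F366577) (tt N62099 (iv6 F366578)) (tt N90621 (iv7 F390299)))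
theorem Q75884 : ∀ i, i < 75884 → P i := stepQ 75883 Q75883 (allL N75883 (tt N42548 (iv1 D149146)) (tt N106653 F455161) (tt N90621 (iv2 F390298)) (tt N109516 D212745) (tt N90025 F388330) (tt N109517 D212746) (tt N109518 D212747) (tt N109486 (iv7 F467215)))
theorem Q75885 : ∀ i, i < 75885 → P i := stepQ 75884 Q75884 (allL N75884 (tt N109519 D212748) (tt N109520 D212749) (tt N109521 D212750) (tt N42548 (iv3 D149147)) (tt N47866 F234524) (tt N101642 (iv5 F433675)) (tt N101617 F433576) (tt N109522 D212751))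
theorem Q75886 : ∀ i, i < 75886 → P i := stepQ 75885 Q75885 (allL N75885 (tt N109523 D212752) (tt N109524 D212753) (tt N109488 (iv2 F467228)) (tt N101642 (iv3 F433674)) (tt N54545 (iv4 F337146)) (tt N42548 (iv5 D149148)) (tt N101640 (iv6 F433663)) (tt N91456 (iv7 F393214)))
theorem Q75887 : ∀ i, i < 75887 → P i := stepQ 75886 Q75886 (allL N75886 (tt N90621 F390301) (tt N109486 F467214) (tt N106653 (iv2 F455156)) (tt N109522 (iv3 F467351)) (tt N42549 F234525) (tt N91456 (iv5 F393215)) (tt N106033 (iv6 F452817)) (tt N42548 (iv7 D149149)))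
theorem Q75888 : ∀ i, i < 75888 → P i := stepQ 75887 Q75887 (allL N75887 (tt N103100 F440076) (tt N42569 F397574) (tt N100484 (iv2 F429110)) (tt N42603 F234527) (tt N99598 F425336) (tt N42550 (iv5 D149151)) (tt N100383 (iv6 F428717)) (tt N48493 F234528))
theorem Q75889 : ∀ i, i < 75889 → P i := stepQ 75888 Q75888 (allL N75888 (tt N100486 (iv1 F429126)) (tt N80101 (iv0 F362046)) (tt N42553 F234529) (tt N82048 (iv3 F278136)) (tt N108260 (iv4 F461743)) (tt N42551 (iv5 D149152)) (tt N109300 (iv6 F466272)) (tt N103096 (iv7 F440049)))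
theorem Q75890 : ∀ i, i < 75890 → P i := stepQ 75889 Q75889 (allL N75889 (tt N63710 (iv1 F316419)) (tt N62530 (iv0 F353462)) (tt N63699 F234534) (tt N78886 F353461) (tt N75804 (iv4 F346285)) (tt N42552 (iv5 D149155)) (tt N64039 (iv6 F339399)) (tt N63700 F234535))
theorem Q75891 : ∀ i, i < 75891 → P i := stepQ 75890 Q75890 (allL N75890 (tt N103096 (iv1 F440051)) (tt N42553 (iv0 D149156)) (tt N100486 (iv2 F429120)) (tt N42608 (iv3 F234537)) (tt N73971 F362048) (tt N75799 F234536) (tt N109401 (iv6 F466780)) (tt N80101 (iv7 F261568)))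
theorem Q75892 : ∀ i, i < 75892 → P i := stepQ 75891 Q75891 (allL N75891 (tt N81369 F348237) (tt N79115 (iv0 F332406)) (tt N83963 (iv2 F367635)) (tt N42554 (iv3 D149162)) (tt N48783 F304373) (tt N106614 (iv5 F455056)) (tt N77252 (iv6 F242118)) (tt N65191 F234540))
theorem Q75893 : ∀ i, i < 75893 → P i := stepQ 75892 Q75892 (allL N75892 (tt N42564 (iv1 F234545)) (tt N42555 (iv0 D149169)) (tt N90614 F390276) (tt N91153 (iv3 F467370)) (tt N109525 D212755) (tt N75831 F234544) (tt N106637 F455115) (tt N90613 (iv7 F390277)))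
theorem Q75894 : ∀ i, i < 75894 → P i := stepQ 75893 Q75893 (allL N75893 (tt N42555 (iv1 D149170)) (tt N42564 F234546) (tt N90613 (iv2 F390279)) (tt N100905 (iv3 F430911)) (tt N109526 D212756) (tt N100067 (iv5 F427416)) (tt N90830 F467162) (tt N90614 F390278))
theorem Q75895 : ∀ i, i < 75895 → P i := stepQ 75894 Q75894 (allL N75894 (tt N109501 (iv1 F467286)) (tt N109503 (iv0 F467289)) (tt N109489 (iv2 F467235)) (tt N106598 (iv3 F455000)) (tt N42555 (iv4 D149171)) (tt N109523 (iv5 F467353)) (tt N109527 D212757) (tt N90615 (iv7 F390282)))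
theorem Q75896 : ∀ i, i < 75896 → P i := stepQ 75895 Q75895 (allL N75895 (tt N62963 (iv1 F362112)) (tt N62907 (iv0 F346076)) (tt N62960 (iv2 F346072)) (tt N81377 (iv3 F346075)) (tt N109527 (iv4 F467378)) (tt N67040 F346073) (tt N42555 (iv6 D149172)) (tt N62961 (iv7 F346074)))
theorem Q75897 : ∀ i, i < 75897 → P i := stepQ 75896 Q75896 (allL N75896 (tt N49815 F337136) (tt N73933 (iv0 F346231)) (tt N80103 (iv2 F261595)) (tt N66709 (iv3 F353138)) (tt N42557 (iv4 D149175)) (tt N89303 (iv5 F385999)) (tt N66700 (iv6 F353139)) (tt N56031 F353137))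
theorem Q75898 : ∀ i, i < 75898 → P i := stepQ 75897 Q75897 (allL N75897 (tt N73933 F346267) (tt N49815 (iv0 F337125)) (tt N56031 (iv2 F353136)) (tt N51986 F290462) (tt N42558 (iv4 D149176)) (tt N89302 (iv5 F385992)) (tt N51984 (iv6 F290461)) (tt N80103 (iv7 F261596)))
theorem Q75899 : ∀ i, i < 75899 → P i := stepQ 75898 Q75898 (allL N75898 (tt N42566 (iv1 F234548)) (tt N42559 (iv0 D149177)) (tt N102875 (iv2 F439048)) (tt N109528 D212758) (tt N77239 F242059) (tt N102874 (iv5 F439043)) (tt N109529 D212759) (tt N108331 (iv7 F462104)))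
theorem Q75900 : ∀ i, i < 75900 → P i := stepQ 75899 Q75899 (allL N75899 (tt N42559 (iv1 D149178)) (tt N42566 F234549) (tt N108331 (iv2 F462098)) (tt N71829 F353146) (tt N77549 (iv4 F346254)) (tt N71828 (iv5 F353147)) (tt N66738 F346255) (tt N102875 (iv7 F439050)))
theorem Q75901 : ∀ i, i < 75901 → P i := stepQ 75900 Q75900 (allL N75900 (tt N84355 F369042) (tt N87796 (iv0 F380542)) (tt N96874 (iv2 F414377)) (tt N42559 (iv3 D149179)) (tt N100394 (iv4 F428778)) (tt N89371 (iv5 F386271)) (tt N58650 (iv6 F358575)) (tt N109491 (iv7 F467246)))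
theorem Q75902 : ∀ i, i < 75902 → P i := stepQ 75901 Q75901 (allL N75901 (tt N103994 (iv1 F443694)) (tt N97124 F415564) (tt N100343 (iv2 F428501)) (tt N89371 F386272) (tt N109524 (iv4 F467361)) (tt N42559 (iv5 D149180)) (tt N108544 F463027) (tt N103973 (iv7 F443597)))
theorem Q75903 : ∀ i, i < 75903 → P i := stepQ 75902 Q75902 (allL N75902 (tt N98125 F419570) (tt N109529 (iv0 F467390)) (tt N66751 F366433) (tt N58650 F358573) (tt N42560 F234550) (tt N109530 D212760) (tt N42559 (iv6 D149181)) (tt N66748 (iv7 F366434)))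
theorem Q75904 : ∀ i, i < 75904 → P i := stepQ 75903 Q75903 (allL N75903 (tt N42561 (iv1 D149185)) (tt N82048 F278139) (tt N103095 F440041) (tt N42598 F278140) (tt N80172 (iv4 F334090)) (tt N75820 F278141) (tt N46631 F316530) (tt N80142 F278142))
theorem Q75905 : ∀ i, i < 75905 → P i := stepQ 75904 Q75904 (allL N75904 (tt N109531 D212761) (tt N79129 (iv0 F253031)) (tt N103097 (iv2 F440052)) (tt N42567 F234559) (tt N99608 (iv4 F425394)) (tt N109532 D212762) (tt N42561 (iv6 D149187)) (tt N109226 (iv7 F465859)))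
theorem Q75906 : ∀ i, i < 75906 → P i := stepQ 75905 Q75905 (allL N75905 (tt N103058 (iv1 F439890)) (tt N75774 (iv0 F234561)) (tt N103098 (iv2 F440058)) (tt N42568 F234560) (tt N78681 (iv4 F250269)) (tt N42562 (iv5 D149190)) (tt N109532 (iv6 F467403)) (tt N82333 (iv7 F280338)))
theorem Q75907 : ∀ i, i < 75907 → P i := stepQ 75906 Q75906 (allL N75906 (tt N90604 (iv1 F390228)) (tt N90603 F390221) (tt N81379 F366711) (tt N42564 F234562) (tt N88409 (iv4 F382917)) (tt N42563 (iv5 D149192)) (tt N90835 (iv6 F391010)) (tt N86785 F377191))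
theorem Q75908 : ∀ i, i < 75908 → P i := stepQ 75907 Q75907 (allL N75907 (tt N109503 (iv1 F467290)) (tt N109501 (iv0 F467285)) (tt N90615 (iv2 F390280)) (tt N109533 D212763) (tt N42564 (iv4 D149194)) (tt N109524 (iv5 F467360)) (tt N106630 (iv6 F455096)) (tt N109489 (iv7 F467237)))
theorem Q75909 : ∀ i, i < 75909 → P i := stepQ 75908 Q75908 (allL N75908 (tt N106285 F453898) (tt N90091 (iv0 F388539)) (tt N90616 (iv2 F390285)) (tt N90835 (iv3 F391008)) (tt N106630 (iv4 F455095)) (tt N109534 D212764) (tt N42564 (iv6 D149195)) (tt N90832 (iv7 F391006)))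
theorem Q75910 : ∀ i, i < 75910 → P i := stepQ 75909 Q75909 (allL N75909 (tt N54004 (iv1 F236262)) (tt N54002 F234566) (tt N82331 (iv2 F280330)) (tt N101057 (iv3 F431484)) (tt N71095 (iv4 F347619)) (tt N42565 (iv5 D149197)) (tt N109534 (iv6 F467409)) (tt N82334 (iv7 F280359)))
theorem Q75911 : ∀ i, i < 75911 → P i := stepQ 75910 Q75910 (allL N75910 (tt N97124 F415563) (tt N103994 F443695) (tt N103973 (iv2 F443593)) (tt N96877 (iv3 F414398)) (tt N109523 (iv4 F467354)) (tt N42566 (iv5 D149199)) (tt N68682 (iv6 F414404)) (tt N100343 (iv7 F428503)))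
theorem Q75912 : ∀ i, i < 75912 → P i := stepQ 75911 Q75911 (allL N75911 (tt N109250 (iv1 F465993)) (tt N87714 (iv0 F380241)) (tt N109247 F465979) (tt N87734 (iv3 F380283)) (tt N42567 F234567) (tt N97198 (iv5 F415849)) (tt N42566 (iv6 D149200)) (tt N109248 (iv7 F465982)))
theorem Q75913 : ∀ i, i < 75913 → P i := stepQ 75912 Q75912 (allL N75912 (tt N63810 F333606) (tt N63807 (iv0 F313223)) (tt N82332 (iv2 F280335)) (tt N109532 (iv3 F467402)) (tt N79927 (iv4 F334456)) (tt N42567 (iv5 D149202)) (tt N42568 F234576) (tt N61351 (iv7 F311524)))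
theorem Q75914 : ∀ i, i < 75914 → P i := stepQ 75913 Q75913 (allL N75913 (tt N42583 (iv1 F234581)) (tt N62731 F234582) (tt N62730 F234579) (tt N109226 (iv3 F465861)) (tt N109248 (iv4 F465983)) (tt N61351 (iv5 F311523)) (tt N66744 F363631) (tt N42567 (iv7 D149203)))
theorem Q75915 : ∀ i, i < 75915 → P i := stepQ 75914 Q75914 (allL N75914 (tt N100484 (iv1 F429116)) (tt N48493 F234583) (tt N42569 (iv2 D149207)) (tt N82062 F278233) (tt N63711 (iv4 F234589)) (tt N109466 (iv5 F467107)) (tt N96296 F411913) (tt N103100 (iv7 F440074)))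
theorem Q75916 : ∀ i, i < 75916 → P i := stepQ 75915 Q75915 (allL N75915 (tt N63707 (iv1 F339385)) (tt N54298 (iv0 F304863)) (tt N63711 F234588) (tt N96962 (iv3 F414806)) (tt N42569 (iv4 D149208)) (tt N76737 (iv5 F339378)) (tt N108747 (iv6 F463795)) (tt N63712 F234584))
theorem Q75917 : ∀ i, i < 75917 → P i := stepQ 75916 Q75916 (allL N75916 (tt N76166 (iv1 F353455)) (tt N76063 (iv0 F397576)) (tt N109466 F467109) (tt N42571 F234590) (tt N108442 (iv4 F462585)) (tt N42569 (iv5 D149209)) (tt N103180 (iv6 F440438)) (tt N63137 F234591))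
theorem Q75918 : ∀ i, i < 75918 → P i := stepQ 75917 Q75917 (allL N75917 (tt N73388 (iv1 F360158)) (tt N73583 (iv0 F359172)) (tt N96296 (iv2 F411910)) (tt N42572 F234592) (tt N108747 (iv4 F463793)) (tt N75148 (iv5 F234593)) (tt N42569 (iv6 D149210)) (tt N92539 (iv7 F397302)))
theorem Q75919 : ∀ i, i < 75919 → P i := stepQ 75918 Q75918 (allL N75918 (tt N42574 (iv1 F234595)) (tt N42570 (iv0 D149211)) (tt N103995 (iv2 F443697)) (tt N79972 (iv3 F259120)) (tt N65197 F234594) (tt N103994 F443696) (tt N103995 (iv6 F443702)) (tt N65196 (iv7 F234596)))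
theorem Q75920 : ∀ i, i < 75920 → P i := stepQ 75919 Q75919 (allL N75919 (tt N42570 (iv1 D149212)) (tt N42574 F234597) (tt N65196 (iv2 F234598)) (tt N51629 F234600) (tt N65189 (iv4 F234599)) (tt N97124 (iv5 F415558)) (tt N42589 F234601) (tt N103995 (iv7 F443699)))
theorem Q75921 : ∀ i, i < 75921 → P i := stepQ 75920 Q75920 (allL N75920 (tt N84343 F368995) (tt N48908 F366333) (tt N88530 F383425) (tt N42570 (iv3 D149213)) (tt N96962 (iv4 F414807)) (tt N90978 F391443) (tt N95473 (iv6 F408318)) (tt N59723 F361277))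
theorem Q75922 : ∀ i, i < 75922 → P i := stepQ 75921 Q75921 (allL N75921 (tt N106882 (iv1 F456117)) (tt N66540 (iv0 F397575)) (tt N67155 F408123) (tt N90978 (iv3 F391445)) (tt N109517 (iv4 F467338)) (tt N42570 (iv5 D149214)) (tt N62609 (iv6 F408122)) (tt N95398 F408120))
theorem Q75923 : ∀ i, i < 75923 → P i := stepQ 75922 Q75922 (allL N75922 (tt N109535 D212765) (tt N108972 (iv0 F464724)) (tt N99752 (iv2 F426062)) (tt N95473 (iv3 F408316)) (tt N42572 F234604) (tt N108547 (iv5 F463037)) (tt N42570 (iv6 D149215)) (tt N92549 (iv7 F397338)))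
theorem Q75924 : ∀ i, i < 75924 → P i := stepQ 75923 Q75923 (allL N75923 (tt N109476 (iv1 F467168)) (tt N76068 F243628) (tt N109475 F467159) (tt N81384 F338056) (tt N42571 (iv4 D149216)) (tt N81382 (iv5 F338055)) (tt N90060 F388454) (tt N63139 F234605))
theorem Q75925 : ∀ i, i < 75925 → P i := stepQ 75924 Q75924 (allL N75924 (tt N109470 F467136) (tt N105025 (iv0 F448444)) (tt N100335 (iv2 F428462)) (tt N42575 F234609) (tt N82056 (iv4 F278193)) (tt N42573 (iv5 D149220)) (tt N61374 (iv6 F234610)) (tt N103099 (iv7 F440067)))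
theorem Q75926 : ∀ i, i < 75926 → P i := stepQ 75925 Q75925 (allL N75925 (tt N87188 F378641) (tt N87191 F378653) (tt N87190 (iv2 F378648)) (tt N42574 (iv3 D149222)) (tt N82063 (iv4 F278238)) (tt N82099 F366579) (tt N92556 (iv6 F397356)) (tt N87189 F378644))
theorem Q75927 : ∀ i, i < 75927 → P i := stepQ 75926 Q75926 (allL N75926 (tt N66540 F385990) (tt N106882 F456118) (tt N95398 (iv2 F408117)) (tt N82099 (iv3 F366575)) (tt N62097 (iv4 F366576)) (tt N42574 (iv5 D149223)) (tt N62096 F366574) (tt N67155 (iv7 F408125)))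
theorem Q75928 : ∀ i, i < 75928 → P i := stepQ 75927 Q75927 (allL N75927 (tt N76068 F366717) (tt N109476 F467167) (tt N63139 F234613) (tt N88480 (iv3 F383223)) (tt N42575 (iv4 D149225)) (tt N90025 F388328) (tt N43510 F234614) (tt N109475 (iv7 F467160)))
theorem Q75929 : ∀ i, i < 75929 → P i := stepQ 75928 Q75928 (allL N75928 (tt N49736 F357193) (tt N54575 F357203) (tt N49728 F353226) (tt N42576 (iv3 D149230)) (tt N91013 F391566) (tt N54782 (iv5 F353238)) (tt N109536 D212766) (tt N54574 (iv7 F357213)))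
theorem Q75930 : ∀ i, i < 75930 → P i := stepQ 75929 Q75929 (allL N75929 (tt N54703 (iv1 F353159)) (tt N54702 F353167) (tt N53458 (iv2 F353161)) (tt N54782 F353165) (tt N103212 (iv4 F440590)) (tt N42576 (iv5 D149231)) (tt N102861 (iv6 F438985)) (tt N54704 F353160))
theorem Q75931 : ∀ i, i < 75931 → P i := stepQ 75930 Q75930 (allL N75930 (tt N87424 (iv1 F379305)) (tt N73403 (iv0 F378338)) (tt N91455 (iv2 F393201)) (tt N109536 (iv3 F467423)) (tt N101753 (iv4 F434188)) (tt N87096 (iv5 F378361)) (tt N42576 (iv6 D149232)) (tt N107596 (iv7 F458878)))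
theorem Q75932 : ∀ i, i < 75932 → P i := stepQ 75931 Q75931 (allL N75931 (tt N54545 (iv1 F337142)) (tt N42578 (iv0 D149236)) (tt N53421 (iv2 F337139)) (tt N54552 F337140) (tt N106912 (iv4 F456252)) (tt N73933 (iv5 F346268)) (tt N109537 D212767) (tt N54546 F337141))
theorem Q75933 : ∀ i, i < 75933 → P i := stepQ 75932 Q75932 (allL N75932 (tt N109524 (iv1 F467359)) (tt N109523 F467356) (tt N91456 (iv2 F393212)) (tt N100422 (iv3 F428901)) (tt N42578 (iv4 D149238)) (tt N106653 (iv5 F455158)) (tt N54917 F234623) (tt N109488 (iv7 F467232)))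
theorem Q75934 : ∀ i, i < 75934 → P i := stepQ 75933 Q75933 (allL N75933 (tt N54546 (iv1 F359293)) (tt N53421 F353153) (tt N54545 F337143) (tt N54922 F234624) (tt N109488 (iv4 F467230)) (tt N42579 F234625) (tt N109538 D212768) (tt N42578 (iv7 D149239)))
theorem Q75935 : ∀ i, i < 75935 → P i := stepQ 75934 Q75934 (allL N75934 (tt N103097 F440054) (tt N109226 (iv0 F465860)) (tt N79129 (iv2 F253027)) (tt N42630 F234627) (tt N66976 F234628) (tt N56047 F234629) (tt N42581 (iv6 D149241)) (tt N109531 (iv7 F467400)))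
theorem Q75936 : ∀ i, i < 75936 → P i := stepQ 75935 Q75935 (allL N75935 (tt N109490 F467242) (tt N101133 (iv0 F431850)) (tt N79126 (iv2 F252884)) (tt N42622 F234632) (tt N80340 F334110) (tt N60868 F234633) (tt N42582 (iv6 D149242)) (tt N88197 (iv7 F382132)))
theorem Q75937 : ∀ i, i < 75937 → P i := stepQ 75936 Q75936 (allL N75936 (tt N77633 F361085) (tt N70069 (iv0 F334636)) (tt N42588 F234640) (tt N104219 (iv3 F444762)) (tt N64045 F234641) (tt N94134 (iv5 F403375)) (tt N42586 (iv6 D149257)) (tt N107628 (iv7 F459002)))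
theorem Q75938 : ∀ i, i < 75938 → P i := stepQ 75937 Q75937 (allL N75937 (tt N43172 F234646) (tt N44773 (iv0 F300638)) (tt N46137 F234642) (tt N42587 (iv3 D149258)) (tt N42590 F234643) (tt N46135 F234644) (tt N95477 (iv6 F408334)) (tt N64046 F234645))
theorem Q75939 : ∀ i, i < 75939 → P i := stepQ 75938 Q75938 (allL N75938 (tt N73713 F362061) (tt N103910 (iv0 F443328)) (tt N64045 F234648) (tt N95477 (iv3 F408333)) (tt N42588 F234649) (tt N102698 (iv5 F438243)) (tt N42587 (iv6 D149259)) (tt N102697 (iv7 F438240)))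
theorem Q75940 : ∀ i, i < 75940 → P i := stepQ 75939 Q75939 (allL N75939 (tt N42588 (iv1 D149261)) (tt N107628 F459001) (tt N70069 F362055) (tt N63762 F362056) (tt N47564 F362057) (tt N88537 (iv5 F383453)) (tt N47563 F362058) (tt N77633 F362059))
theorem Q75941 : ∀ i, i < 75941 → P i := stepQ 75940 Q75940 (allL N75940 (tt N70069 (iv1 F334646)) (tt N77633 F361084) (tt N107628 F459000) (tt N42594 F234650) (tt N102697 (iv4 F438238)) (tt N103011 (iv5 F439660)) (tt N102699 (iv6 F438246)) (tt N42588 (iv7 D149262)))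
theorem Q75942 : ∀ i, i < 75942 → P i := stepQ 75941 Q75941 (allL N75941 (tt N104226 (iv1 F444801)) (tt N42591 (iv0 D149264)) (tt N79950 (iv2 F362083)) (tt N79037 (iv3 F362062)) (tt N73777 F362060) (tt N109539 D212769) (tt N73776 (iv6 F362063)) (tt N87173 (iv7 F378620)))
theorem Q75943 : ∀ i, i < 75943 → P i := stepQ 75942 Q75942 (allL N75942 (tt N42591 (iv1 D149265)) (tt N104226 F444800) (tt N87173 (iv2 F378618)) (tt N52404 F362068) (tt N46640 F344114) (tt N109540 D212770) (tt N109535 F467420) (tt N79950 (iv7 F362069)))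
theorem Q75944 : ∀ i, i < 75944 → P i := stepQ 75943 Q75943 (allL N75943 (tt N109541 D212771) (tt N109542 D212772) (tt N104225 (iv2 F444794)) (tt N95478 (iv3 F408337)) (tt N109543 D212773) (tt N42591 (iv5 D149266)) (tt N87859 (iv6 F380879)) (tt N109544 D212774))
theorem Q75945 : ∀ i, i < 75945 → P i := stepQ 75944 Q75944 (allL N75944 (tt N87173 (iv1 F378622)) (tt N79950 (iv0 F362084)) (tt N104226 (iv2 F444796)) (tt N87201 (iv3 F378740)) (tt N42594 F234652) (tt N109544 (iv5 F467450)) (tt N104226 (iv6 F444799)) (tt N42591 (iv7 D149267)))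
theorem Q75946 : ∀ i, i < 75946 → P i := stepQ 75945 Q75945 (allL N75945 (tt N77346 F361978) (tt N98129 (iv0 F419591)) (tt N84031 (iv2 F367870)) (tt N42596 F234655) (tt N89422 (iv4 F386444)) (tt N109545 D212775) (tt N42595 (iv6 D149274)) (tt N109546 D212776))
theorem Q75947 : ∀ i, i < 75947 → P i := stepQ 75946 Q75946 (allL N75946 (tt N87382 F379180) (tt N87428 (iv0 F379309)) (tt N87084 (iv2 F378318)) (tt N109545 (iv3 F467451)) (tt N109547 D212777) (tt N42596 (iv5 D149277)) (tt N52323 F234656) (tt N102976 (iv7 F439523)))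
theorem Q75948 : ∀ i, i < 75948 → P i := stepQ 75947 Q75947 (allL N75947 (tt N52546 (iv1 F362065)) (tt N52518 (iv0 F362067)) (tt N87085 (iv2 F378321)) (tt N109546 (iv3 F467454)) (tt N80491 F362066) (tt N102976 (iv5 F439524)) (tt N87085 (iv6 F378323)) (tt N42596 (iv7 D149278)))
theorem Q75949 : ∀ i, i < 75949 → P i := stepQ 75948 Q75948 (allL N75948 (tt N75466 (iv1 F353853)) (tt N42597 (iv0 D149279)) (tt N80132 F264133) (tt N102661 (iv3 F438109)) (tt N109548 D212778) (tt N80366 (iv5 F264129)) (tt N109549 D212779) (tt N80131 (iv7 F264134)))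
theorem Q75950 : ∀ i, i < 75950 → P i := stepQ 75949 Q75949 (allL N75949 (tt N42597 (iv1 D149280)) (tt N75466 (iv0 F353852)) (tt N80131 (iv2 F264136)) (tt N93800 (iv3 F401943)) (tt N95974 (iv4 F410494)) (tt N80367 F264139) (tt N93798 F401936) (tt N80132 F264135))
theorem Q75951 : ∀ i, i < 75951 → P i := stepQ 75950 Q75950 (allL N75950 (tt N86318 F375814) (tt N86315 F375803) (tt N83276 (iv2 F362977)) (tt N54764 F365501) (tt N42597 (iv4 D149281)) (tt N88458 (iv5 F383135)) (tt N54092 F362980) (tt N80133 (iv7 F261708)))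
theorem Q75952 : ∀ i, i < 75952 → P i := stepQ 75951 Q75951 (allL N75951 (tt N77270 F340229) (tt N47186 F340230) (tt N83275 F340231) (tt N46832 F304711) (tt N54092 F340232) (tt N46831 F304712) (tt N42597 (iv6 D149282)) (tt N75486 F340233))
theorem Q75953 : ∀ i, i < 75953 → P i := stepQ 75952 Q75952 (allL N75952 (tt N73976 (iv1 F346264)) (tt N62556 (iv0 F346258)) (tt N73978 (iv2 F315723)) (tt N109550 D212780) (tt N42598 (iv4 D149287)) (tt N86314 (iv5 F375797)) (tt N46632 F316531) (tt N73961 (iv7 F333390)))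
theorem Q75954 : ∀ i, i < 75954 → P i := stepQ 75953 Q75953 (allL N75953 (tt N62556 (iv1 F346263)) (tt N73976 F346265) (tt N73961 (iv2 F333388)) (tt N84189 F368465) (tt N42599 (iv4 D149290)) (tt N86317 (iv5 F375808)) (tt N61338 (iv6 F253015)) (tt N73978 (iv7 F315725)))
theorem Q75955 : ∀ i, i < 75955 → P i := stepQ 75954 Q75954 (allL N75954 (tt N103040 (iv1 F439794)) (tt N56316 F234663) (tt N103039 F439786) (tt N100019 (iv3 F427227)) (tt N109551 D212781) (tt N42600 (iv5 D149294)) (tt N85853 F374222) (tt N80146 (iv7 F261821)))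
theorem Q75956 : ∀ i, i < 75956 → P i := stepQ 75955 Q75955 (allL N75955 (tt N91309 F392657) (tt N56077 F338192) (tt N109086 (iv2 F465257)) (tt N42601 (iv3 D149300)) (tt N56078 F338191) (tt N62709 (iv5 F338195)) (tt N56071 (iv6 F338207)) (tt N56072 (iv7 F316395)))
theorem Q75957 : ∀ i, i < 75957 → P i := stepQ 75956 Q75956 (allL N75956 (tt N92599 (iv1 F397568)) (tt N78108 (iv0 F356471)) (tt N80099 (iv2 F261535)) (tt N43554 (iv3 F234745)) (tt N42603 (iv4 D149320)) (tt N109552 D212782) (tt N49809 F356478) (tt N43548 F234744))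
theorem Q75958 : ∀ i, i < 75958 → P i := stepQ 75957 Q75957 (allL N75957 (tt N42653 (iv1 F234747)) (tt N77560 F243661) (tt N73596 (iv2 F320161)) (tt N100383 (iv3 F428714)) (tt N49809 F333330) (tt N63263 (iv5 F307088)) (tt N42603 (iv6 D149321)) (tt N42626 F234746))
theorem Q75959 : ∀ i, i < 75959 → P i := stepQ 75958 Q75958 (allL N75958 (tt N79128 (iv1 F252907)) (tt N42629 (iv0 F234755)) (tt N42609 F234754) (tt N79130 (iv3 F253038)) (tt N99817 (iv4 F426366)) (tt N88192 (iv5 F382104)) (tt N42604 (iv6 D149326)) (tt N79127 (iv7 F252896)))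
theorem Q75960 : ∀ i, i < 75960 → P i := stepQ 75959 Q75959 (allL N75959 (tt N62235 (iv1 F322674)) (tt N90730 F390674) (tt N80084 (iv2 F261448)) (tt N42875 F306079) (tt N71405 F366628) (tt N42605 (iv5 D149328)) (tt N42873 F306080) (tt N48144 F306081))
theorem Q75961 : ∀ i, i < 75961 → P i := stepQ 75960 Q75960 (allL N75960 (tt N42606 (iv1 D149330)) (tt N80085 F261452) (tt N80086 (iv2 F261464)) (tt N44139 F309024) (tt N108427 (iv4 F462513)) (tt N69683 F309025) (tt N73185 (iv6 F342373)) (tt N67101 F309026))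
theorem Q75962 : ∀ i, i < 75962 → P i := stepQ 75961 Q75961 (allL N75961 (tt N107278 F457766) (tt N108090 (iv0 F461068)) (tt N105020 (iv2 F448411)) (tt N109553 D212783) (tt N42606 (iv4 D149331)) (tt N108418 (iv5 F462489)) (tt N44988 F309992) (tt N80087 (iv7 F261471)))
theorem Q75963 : ∀ i, i < 75963 → P i := stepQ 75962 Q75962 (allL N75962 (tt N73897 (iv1 F346251)) (tt N73899 (iv0 F346249)) (tt N73901 (iv2 F321932)) (tt N109554 D212784) (tt N42607 (iv4 D149336)) (tt N109555 D212785) (tt N63023 F366294) (tt N73935 (iv7 F314566)))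
theorem Q75964 : ∀ i, i < 75964 → P i := stepQ 75963 Q75963 (allL N75963 (tt N42891 F234769) (tt N42896 (iv0 F234767)) (tt N42895 F234765) (tt N78089 (iv3 F309279)) (tt N72705 (iv4 F342568)) (tt N42607 (iv5 D149337)) (tt N42843 (iv6 F234768)) (tt N42894 F234766))
theorem Q75965 : ∀ i, i < 75965 → P i := stepQ 75964 Q75964 (allL N75964 (tt N73899 (iv1 F346250)) (tt N73897 F346252) (tt N73935 (iv2 F314564)) (tt N109556 D212786) (tt N42608 (iv4 D149339)) (tt N109557 D212787) (tt N107179 F457369) (tt N73901 (iv7 F321934)))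
theorem Q75966 : ∀ i, i < 75966 → P i := stepQ 75965 Q75965 (allL N75965 (tt N66570 (iv1 F332440)) (tt N46560 F332438) (tt N80100 (iv2 F261562)) (tt N109401 (iv3 F466777)) (tt N107179 (iv4 F457365)) (tt N75801 F234773) (tt N42608 (iv6 D149340)) (tt N99456 (iv7 F424665)))
theorem Q75967 : ∀ i, i < 75967 → P i := stepQ 75966 Q75966 (allL N75966 (tt N79127 F252899) (tt N42609 (iv0 D149346)) (tt N79128 (iv2 F252904)) (tt N46619 F313239) (tt N105079 (iv4 F448686)) (tt N66664 F252901) (tt N74846 F252902) (tt N42629 F252903))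
theorem Q75968 : ∀ i, i < 75968 → P i := stepQ 75967 Q75967 (allL N75967 (tt N46615 F336873) (tt N73375 (iv0 F336868)) (tt N88192 F382105) (tt N42613 F234776) (tt N80898 F335187) (tt N42609 (iv5 D149347)) (tt N42612 F234777) (tt N74762 (iv7 F234778)))
theorem Q75969 : ∀ i, i < 75969 → P i := stepQ 75968 Q75968 (allL N75968 (tt N42612 (iv1 D149353)) (tt N68442 F310074) (tt N42825 (iv2 F234826)) (tt N75810 (iv3 F234827)) (tt N75789 (iv4 F314439)) (tt N42822 F234825) (tt N74820 F243255) (tt N42828 F234824))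
theorem Q75970 : ∀ i, i < 75970 → P i := stepQ 75969 Q75969 (allL N75969 (tt N56315 (iv1 F234845)) (tt N42615 (iv0 D149365)) (tt N56314 (iv2 F234844)) (tt N61085 (iv3 F234847)) (tt N65208 F234843) (tt N103040 (iv5 F439791)) (tt N56302 (iv6 F234848)) (tt N56286 F234846))
theorem Q75971 : ∀ i, i < 75971 → P i := stepQ 75970 Q75970 (allL N75970 (tt N109558 D212788) (tt N98559 (iv0 F421331)) (tt N103104 (iv2 F440088)) (tt N74962 (iv3 F356757)) (tt N51168 (iv4 F356758)) (tt N42615 (iv5 D149367)) (tt N86743 (iv6 F377051)) (tt N51165 F356653))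
theorem Q75972 : ∀ i, i < 75972 → P i := stepQ 75971 Q75971 (allL N75971 (tt N76522 (iv1 F353865)) (tt N76118 (iv0 F239788)) (tt N103105 (iv2 F440094)) (tt N46477 F234856) (tt N42616 (iv4 D149369)) (tt N77192 (iv5 F241912)) (tt N76170 (iv6 F237220)) (tt N46470 F234857))
theorem Q75973 : ∀ i, i < 75973 → P i := stepQ 75972 Q75972 (allL N75972 (tt N63531 F234894) (tt N77567 F243676) (tt N42618 F234893) (tt N76274 (iv3 F348663)) (tt N42617 (iv4 D149374)) (tt N73928 (iv5 F349353)) (tt N62434 F349354) (tt N79122 (iv7 F252713)))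
theorem Q75974 : ∀ i, i < 75974 → P i := stepQ 75973 Q75973 (allL N75973 (tt N42618 (iv1 D149376)) (tt N79122 F252712) (tt N77567 (iv2 F243673)) (tt N101028 (iv3 F431352)) (tt N63532 (iv4 F234897)) (tt N108417 (iv5 F462484)) (tt N73889 (iv6 F312308)) (tt N63531 F234896))
theorem Q75975 : ∀ i, i < 75975 → P i := stepQ 75974 Q75974 (allL N75974 (tt N73931 (iv1 F366601)) (tt N73895 F366177) (tt N73928 F349352) (tt N62764 (iv3 F366452)) (tt N90731 (iv4 F390677)) (tt N42618 (iv5 D149378)) (tt N109559 D212789) (tt N73929 (iv7 F349351)))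
theorem Q75976 : ∀ i, i < 75976 → P i := stepQ 75975 Q75975 (allL N75975 (tt N73598 (iv1 F320173)) (tt N42620 (iv0 D149416)) (tt N42652 (iv2 F234969)) (tt N77560 F243660) (tt N56300 F234968) (tt N94121 (iv5 F403303)) (tt N73589 F350225) (tt N56311 F234970))
theorem Q75977 : ∀ i, i < 75977 → P i := stepQ 75976 Q75976 (allL N75976 (tt N63806 F235007) (tt N75263 (iv0 F235006)) (tt N61280 F235004) (tt N86031 (iv3 F374959)) (tt N42624 F235005) (tt N87569 (iv5 F379774)) (tt N42623 (iv6 D149423)) (tt N98770 (iv7 F422244)))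
theorem Q75978 : ∀ i, i < 75978 → P i := stepQ 75977 Q75977 (allL N75977 (tt N42626 (iv1 D149459)) (tt N73596 (iv0 F320159)) (tt N42653 F235053) (tt N56311 (iv3 F235054)) (tt N77544 (iv4 F243499)) (tt N66866 (iv5 F235052)) (tt N71982 F350227) (tt N77560 (iv7 F243658)))
theorem Q75979 : ∀ i, i < 75979 → P i := stepQ 75978 Q75978 (allL N75978 (tt N62735 (iv1 F235080)) (tt N74850 F235081) (tt N74846 (iv2 F243381)) (tt N109531 (iv3 F467397)) (tt N65292 (iv4 F328076)) (tt N56053 F235079) (tt N79128 (iv6 F252905)) (tt N42630 (iv7 D149467)))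
theorem Q75980 : ∀ i, i < 75980 → P i := stepQ 75979 Q75979 (allL N75979 (tt N80616 F366229) (tt N80619 (iv0 F374819)) (tt N79120 (iv2 F252705)) (tt N64368 F235086) (tt N85996 (iv4 F374816)) (tt N99907 (iv5 F426765)) (tt N42632 (iv6 D149470)) (tt N104977 (iv7 F448231)))
theorem Q75981 : ∀ i, i < 75981 → P i := stepQ 75980 Q75980 (allL N75980 (tt N45262 F235107) (tt N63290 F235108) (tt N44982 F235105) (tt N53395 (iv3 F346613)) (tt N42636 (iv4 D149486)) (tt N107273 (iv5 F457738)) (tt N53344 F346612) (tt N44986 F235106))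
theorem Q75982 : ∀ i, i < 75982 → P i := stepQ 75981 Q75981 (allL N75981 (tt N71484 (iv1 F362172)) (tt N71487 (iv0 F362163)) (tt N42637 (iv2 D149521)) (tt N76154 (iv3 F237110)) (tt N100269 (iv4 F428185)) (tt N76154 (iv5 F237111)) (tt N71463 (iv6 F337552)) (tt N54323 (iv7 F326899)))
theorem Q75983 : ∀ i, i < 75983 → P i := stepQ 75982 Q75982 (allL N75982 (tt N42643 (iv1 D149574)) (tt N77660 (iv0 F319416)) (tt N77659 (iv2 F319413)) (tt N101022 F431319) (tt N73858 (iv4 F314030)) (tt N73350 F348308) (tt N72275 (iv6 F348304)) (tt N73856 (iv7 F316512)))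
theorem Q75984 : ∀ i, i < 75984 → P i := stepQ 75983 Q75983 (allL N75983 (tt N109560 D212790) (tt N109561 D212791) (tt N79114 (iv2 F252672)) (tt N63754 (iv3 F366588)) (tt N88866 (iv4 F384386)) (tt N42643 (iv5 D149575)) (tt N88865 F384384) (tt N77661 F366587))
theorem Q75985 : ∀ i, i < 75985 → P i := stepQ 75984 Q75984 (allL N75984 (tt N104219 (iv1 F444767)) (tt N102699 (iv0 F438249)) (tt N46624 F337162) (tt N42645 (iv3 D149582)) (tt N74247 (iv4 F337161)) (tt N46623 F337163) (tt N73388 (iv6 F360157)) (tt N77668 (iv7 F354093)))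
theorem Q75986 : ∀ i, i < 75986 → P i := stepQ 75985 Q75985 (allL N75985 (tt N45271 F252641) (tt N100976 F431135) (tt N77667 (iv2 F356828)) (tt N101232 (iv3 F432327)) (tt N42645 (iv4 D149583)) (tt N99414 (iv5 F424468)) (tt N65327 F356827) (tt N77669 (iv7 F356829)))
theorem Q75987 : ∀ i, i < 75987 → P i := stepQ 75986 Q75986 (allL N75986 (tt N89421 (iv1 F386435)) (tt N43483 F235197) (tt N53884 F235195) (tt N77337 (iv3 F242416)) (tt N42646 (iv4 D149587)) (tt N43462 F235196) (tt N62766 (iv6 F361670)) (tt N79125 (iv7 F252763)))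
theorem Q75988 : ∀ i, i < 75988 → P i := stepQ 75987 Q75987 (allL N75987 (tt N45575 F310115) (tt N80111 (iv0 F319965)) (tt N42650 F235210) (tt N43227 F235211) (tt N42649 (iv4 D149620)) (tt N47038 (iv5 F235213)) (tt N48128 F307291) (tt N61412 F235212))
theorem Q75989 : ∀ i, i < 75989 → P i := stepQ 75988 Q75988 (allL N75988 (tt N42655 (iv1 D149657)) (tt N53590 F235258) (tt N50098 F235262) (tt N54014 (iv3 F235261)) (tt N51197 (iv4 F235260)) (tt N109562 D212792) (tt N83333 (iv6 F344233)) (tt N54083 F235259))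
theorem Q75990 : ∀ i, i < 75990 → P i := stepQ 75989 Q75989 (allL N75989 (tt N50098 (iv1 F235267)) (tt N54083 F235268) (tt N53590 F235263) (tt N42657 F235264) (tt N50438 F235265) (tt N108836 (iv5 F464185)) (tt N53780 F235266) (tt N42655 (iv7 D149658)))
theorem Q75991 : ∀ i, i < 75991 → P i := stepQ 75990 Q75990 (allL N75990 (tt N50349 F235272) (tt N50348 F235273) (tt N50111 F235269) (tt N50317 F235270) (tt N65923 (iv4 F335539)) (tt N42656 (iv5 D149659)) (tt N107220 (iv6 F457504)) (tt N50344 F235271))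
theorem Q75992 : ∀ i, i < 75992 → P i := stepQ 75991 Q75991 (allL N75991 (tt N50273 (iv1 F251250)) (tt N54886 (iv0 F293759)) (tt N49276 F235275) (tt N50318 F235276) (tt N55058 F235277) (tt N51373 (iv5 F235281)) (tt N42656 (iv6 D149660)) (tt N54887 (iv7 F293646)))
theorem Q75993 : ∀ i, i < 75993 → P i := stepQ 75992 Q75992 (allL N75992 (tt N42658 (iv1 D149662)) (tt N54571 (iv0 F311506)) (tt N64197 (iv2 F355721)) (tt N92229 (iv3 F396371)) (tt N79970 (iv4 F346747)) (tt N109563 D212793) (tt N109564 D212794) (tt N64196 (iv7 F355724)))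
theorem Q75994 : ∀ i, i < 75994 → P i := stepQ 75993 Q75993 (allL N75993 (tt N64197 (iv1 F235294)) (tt N64196 F235295) (tt N54571 (iv2 F311508)) (tt N43176 F235291) (tt N54568 (iv4 F314186)) (tt N70831 (iv5 F362726)) (tt N64200 F235292) (tt N42658 (iv7 D149663)))
theorem Q75995 : ∀ i, i < 75995 → P i := stepQ 75994 Q75994 (allL N75994 (tt N43923 F235300) (tt N63034 (iv0 F356813)) (tt N42666 F235296) (tt N42661 F235297) (tt N72189 (iv4 F330631)) (tt N45222 F235299) (tt N42659 (iv6 D149664)) (tt N107178 (iv7 F457359)))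
theorem Q75996 : ∀ i, i < 75996 → P i := stepQ 75995 Q75995 (allL N75995 (tt N62882 (iv1 F235307)) (tt N62559 (iv0 F313425)) (tt N62884 F235304) (tt N107178 F457362) (tt N70099 (iv4 F331617)) (tt N62835 F235305) (tt N75053 F235306) (tt N42661 (iv7 D149666)))
theorem Q75997 : ∀ i, i < 75997 → P i := stepQ 75996 Q75996 (allL N75996 (tt N44914 F315585) (tt N57314 (iv0 F322418)) (tt N66976 F235310) (tt N61281 F235311) (tt N79129 (iv4 F253029)) (tt N65389 F351001) (tt N42663 (iv6 D149668)) (tt N82327 F350986))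
theorem Q75998 : ∀ i, i < 75998 → P i := stepQ 75997 Q75997 (allL N75997 (tt N75770 F342607) (tt N70550 (iv0 F341209)) (tt N88517 (iv2 F383362)) (tt N70559 F361335) (tt N53482 F235328) (tt N73960 (iv5 F361357)) (tt N42664 (iv6 D149674)) (tt N104185 (iv7 F444581)))
theorem Q75999 : ∀ i, i < 75999 → P i := stepQ 75998 Q75998 (allL N75998 (tt N72380 F330633) (tt N99755 (iv0 F426078)) (tt N72189 F330634) (tt N75591 (iv3 F362456)) (tt N42666 F235350) (tt N44342 F330635) (tt N42665 (iv6 D149685)) (tt N72185 F330636))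
theorem Q76000 : ∀ i, i < 76000 → P i := stepQ 75999 Q75999 (allL N75999 (tt N107178 (iv1 F457358)) (tt N42666 (iv0 D149686)) (tt N43923 (iv2 F235353)) (tt N75241 F235351) (tt N49812 (iv4 F337118)) (tt N77557 F334943) (tt N43903 F235352) (tt N63034 (iv7 F356812)))
theorem Q76001 : ∀ i, i < 76001 → P i := stepQ 76000 Q76000 (allL N76000 (tt N63034 F337185) (tt N43923 (iv0 F235358)) (tt N107178 (iv2 F457364)) (tt N42667 F235355) (tt N72185 (iv4 F330637)) (tt N74417 (iv5 F321734)) (tt N62833 F235357) (tt N42666 (iv7 D149688)))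
theorem Q76002 : ∀ i, i < 76002 → P i := stepQ 76001 Q76001 (allL N76001 (tt N73587 (iv1 F349005)) (tt N73592 (iv0 F349004)) (tt N75598 F366343) (tt N61354 F235473) (tt N109565 D212795) (tt N42671 (iv5 D149726)) (tt N56294 F235474) (tt N73967 (iv7 F366344)))
theorem Q76003 : ∀ i, i < 76003 → P i := stepQ 76002 Q76002 (allL N76002 (tt N75264 (iv1 F240642)) (tt N62557 (iv0 F359300)) (tt N73968 (iv2 F346200)) (tt N46653 F309884) (tt N66769 F290488) (tt N46652 (iv5 F311841)) (tt N42672 (iv6 D149728)) (tt N75608 F346194))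
theorem Q76004 : ∀ i, i < 76004 → P i := stepQ 76003 Q76003 (allL N76003 (tt N43887 F235497) (tt N43890 F235498) (tt N66896 F235494) (tt N107774 (iv3 F459661)) (tt N43586 F235496) (tt N42676 (iv5 D149735)) (tt N101265 F432444) (tt N66893 F235495))
theorem Q76005 : ∀ i, i < 76005 → P i := stepQ 76004 Q76004 (allL N76004 (tt N73940 F356852) (tt N63035 F356856) (tt N73620 F356521) (tt N42678 F235516) (tt N72813 (iv4 F366427)) (tt N69580 F235517) (tt N42677 (iv6 D149746)) (tt N73939 F356520))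
theorem Q76006 : ∀ i, i < 76006 → P i := stepQ 76005 Q76005 (allL N76005 (tt N76156 (iv1 F237140)) (tt N76155 F237137) (tt N42679 (iv2 D149762)) (tt N76158 (iv3 F237143)) (tt N99304 (iv4 F424013)) (tt N76158 (iv5 F237144)) (tt N99303 (iv6 F424010)) (tt N76157 (iv7 F237138)))
theorem Q76007 : ∀ i, i < 76007 → P i := stepQ 76006 Q76006 (allL N76006 (tt N42682 (iv1 F235553)) (tt N42681 F235554) (tt N42683 F235548) (tt N66830 F235549) (tt N43093 F235550) (tt N68574 F235551) (tt N66863 F235552) (tt N42680 (iv7 D149763)))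
theorem Q76008 : ∀ i, i < 76008 → P i := stepQ 76007 Q76007 (allL N76007 (tt N57697 (iv1 F310509)) (tt N66866 F264310) (tt N76021 (iv2 F309477)) (tt N109470 (iv3 F467132)) (tt N76022 (iv4 F307658)) (tt N72811 (iv5 F360913)) (tt N42682 (iv6 D149769)) (tt N72192 (iv7 F310292)))
theorem Q76009 : ∀ i, i < 76009 → P i := stepQ 76008 Q76008 (allL N76008 (tt N42690 (iv1 F235620)) (tt N42689 F235621) (tt N42691 F235615) (tt N66863 F235616) (tt N43470 F235617) (tt N66651 F235618) (tt N66830 F235619) (tt N42686 (iv7 D149792)))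
theorem Q76010 : ∀ i, i < 76010 → P i := stepQ 76009 Q76009 (allL N76009 (tt N76499 F359905) (tt N88999 F384746) (tt N89420 (iv2 F386430)) (tt N42688 F235626) (tt N42694 F235627) (tt N88900 (iv5 F384481)) (tt N42687 (iv6 D149793)) (tt N100531 (iv7 F429355)))
theorem Q76011 : ∀ i, i < 76011 → P i := stepQ 76010 Q76010 (allL N76010 (tt N48717 F307404) (tt N48716 F307405) (tt N43469 F235628) (tt N88900 F384483) (tt N107922 (iv4 F460302)) (tt N42688 (iv5 D149794)) (tt N77220 (iv6 F241996)) (tt N100644 (iv7 F429817)))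
theorem Q76012 : ∀ i, i < 76012 → P i := stepQ 76011 Q76011 (allL N76011 (tt N66872 (iv1 F237041)) (tt N76144 (iv0 F237038)) (tt N75438 F235630) (tt N109467 (iv3 F467113)) (tt N63944 F235631) (tt N75308 F235633) (tt N42689 (iv6 D149795)) (tt N75429 F235632))
theorem Q76013 : ∀ i, i < 76013 → P i := stepQ 76012 Q76012 (allL N76012 (tt N52378 (iv1 F267618)) (tt N73985 (iv0 F318433)) (tt N42694 F235636) (tt N44545 (iv3 F309501)) (tt N89420 (iv4 F386432)) (tt N67904 F308196) (tt N42693 (iv6 D149797)) (tt N69575 (iv7 F309760)))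
theorem Q76014 : ∀ i, i < 76014 → P i := stepQ 76013 Q76013 (allL N76013 (tt N69575 (iv1 F309759)) (tt N42694 (iv0 D149798)) (tt N52378 (iv2 F235637)) (tt N69577 (iv3 F312779)) (tt N63964 F235638) (tt N68975 F355256) (tt N77706 (iv6 F355259)) (tt N73985 (iv7 F318436)))
theorem Q76015 : ∀ i, i < 76015 → P i := stepQ 76014 Q76014 (allL N76014 (tt N47672 F235689) (tt N64451 F235690) (tt N47689 F235685) (tt N42700 (iv3 D149840)) (tt N64523 F235686) (tt N61407 F235687) (tt N108055 (iv6 F460905)) (tt N64622 F235688))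
theorem Q76016 : ∀ i, i < 76016 → P i := stepQ 76015 Q76015 (allL N76015 (tt N73974 F343397) (tt N61409 F343399) (tt N81303 (iv2 F274217)) (tt N47688 F235692) (tt N45571 F319557) (tt N85806 (iv5 F374034)) (tt N42701 (iv6 D149842)) (tt N81313 (iv7 F333730)))
theorem Q76017 : ∀ i, i < 76017 → P i := stepQ 76016 Q76016 (allL N76016 (tt N46513 F305389) (tt N42703 (iv0 D149872)) (tt N46514 F305390) (tt N42721 (iv3 F235736)) (tt N44012 F309678) (tt N45242 F307769) (tt N46508 F235732) (tt N45247 F309679))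
theorem Q76018 : ∀ i, i < 76018 → P i := stepQ 76017 Q76017 (allL N76017 (tt N42704 (iv1 D149875)) (tt N63726 (iv0 F307707)) (tt N73606 (iv2 F322963)) (tt N103921 (iv3 F443381)) (tt N67063 F330124) (tt N54463 (iv5 F334896)) (tt N63272 (iv6 F306258)) (tt N72190 F342524))
theorem Q76019 : ∀ i, i < 76019 → P i := stepQ 76018 Q76018 (allL N76018 (tt N76440 F311956) (tt N42705 (iv0 D149876)) (tt N56136 F306938) (tt N47738 (iv3 F276626)) (tt N45741 F306939) (tt N44059 F311957) (tt N56113 F306940) (tt N55808 F311958))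
theorem Q76020 : ∀ i, i < 76020 → P i := stepQ 76019 Q76019 (allL N76019 (tt N44549 F314059) (tt N64547 (iv0 F235760)) (tt N76447 (iv2 F238693)) (tt N42707 (iv3 D149891)) (tt N43754 F235756) (tt N44010 F306292) (tt N68405 (iv6 F307622)) (tt N43749 F235757))
theorem Q76021 : ∀ i, i < 76021 → P i := stepQ 76020 Q76020 (allL N76020 (tt N79534 (iv1 F257117)) (tt N48419 F311868) (tt N48432 F235763) (tt N42708 (iv3 D149893)) (tt N77281 (iv4 F242262)) (tt N75813 (iv5 F344900)) (tt N68455 F337671) (tt N75818 (iv7 F307437)))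
theorem Q76022 : ∀ i, i < 76022 → P i := stepQ 76021 Q76021 (allL N76021 (tt N75629 F335025) (tt N42865 F309476) (tt N76007 F309477) (tt N42819 (iv3 F311665)) (tt N79095 F309478) (tt N66568 (iv5 F314076)) (tt N42712 (iv6 D149903)) (tt N76442 (iv7 F308656)))
theorem Q76023 : ∀ i, i < 76023 → P i := stepQ 76022 Q76022 (allL N76022 (tt N77559 F307657) (tt N66868 (iv0 F235781)) (tt N79095 (iv2 F307743)) (tt N66680 F235778) (tt N76007 F307658) (tt N66678 F235779) (tt N42713 (iv6 D149908)) (tt N66721 F235780))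
theorem Q76024 : ∀ i, i < 76024 → P i := stepQ 76023 Q76023 (allL N76023 (tt N77601 (iv1 F243944)) (tt N66822 F243886) (tt N76080 (iv2 F236236)) (tt N42714 (iv3 D149909)) (tt N69677 (iv4 F308677)) (tt N80400 (iv5 F305405)) (tt N66819 F235782) (tt N79094 (iv7 F303698)))
theorem Q76025 : ∀ i, i < 76025 → P i := stepQ 76024 Q76024 (allL N76024 (tt N69580 F312138) (tt N68399 F312139) (tt N48503 F235806) (tt N63037 (iv3 F316798)) (tt N42715 (iv4 D149917)) (tt N73857 F312141) (tt N48134 F235807) (tt N44497 F312142))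
theorem Q76026 : ∀ i, i < 76026 → P i := stepQ 76025 Q76025 (allL N76025 (tt N77602 (iv1 F280171)) (tt N48226 F280172) (tt N100030 (iv2 F427293)) (tt N42716 (iv3 D149918)) (tt N90458 (iv4 F389721)) (tt N62441 (iv5 F319700)) (tt N80034 (iv6 F305847)) (tt N48500 F235808))
theorem Q76027 : ∀ i, i < 76027 → P i := stepQ 76026 Q76026 (allL N76026 (tt N77282 (iv1 F242267)) (tt N42718 (iv0 D149939)) (tt N45681 F314800) (tt N70547 (iv3 F328948)) (tt N96902 (iv4 F414526)) (tt N70545 (iv5 F334186)) (tt N77597 F354131) (tt N79488 F256950))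
theorem Q76028 : ∀ i, i < 76028 → P i := stepQ 76027 Q76027 (allL N76027 (tt N80705 F343498) (tt N79400 F343502) (tt N79379 (iv2 F331989)) (tt N80763 F343471) (tt N42718 (iv4 D149941)) (tt N77273 (iv5 F242195)) (tt N81525 (iv6 F347493)) (tt N79489 (iv7 F256955)))
theorem Q76029 : ∀ i, i < 76029 → P i := stepQ 76028 Q76028 (allL N76028 (tt N103064 (iv1 F439926)) (tt N78354 (iv0 F248374)) (tt N101080 (iv2 F431571)) (tt N46914 F304263) (tt N66057 (iv4 F326143)) (tt N42719 (iv5 D149944)) (tt N78561 (iv6 F347497)) (tt N47106 F304264))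
theorem Q76030 : ∀ i, i < 76030 → P i := stepQ 76029 Q76029 (allL N76029 (tt N76144 F237037) (tt N66872 F237042) (tt N75429 F235854) (tt N46508 F235855) (tt N49020 F306444) (tt N56073 F235856) (tt N42721 (iv6 D149947)) (tt N75438 F235857))
theorem Q76031 : ∀ i, i < 76031 → P i := stepQ 76030 Q76030 (allL N76030 (tt N42730 (iv1 D149995)) (tt N80023 F259544) (tt N43053 (iv2 F338507)) (tt N74452 F338513) (tt N52570 F338506) (tt N93121 (iv5 F399578)) (tt N98476 (iv6 F421051)) (tt N64190 F235972))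
theorem Q76032 : ∀ i, i < 76032 → P i := stepQ 76031 Q76031 (allL N76031 (tt N43053 F338509) (tt N64190 F259540) (tt N80023 (iv2 F259541)) (tt N55795 F235973) (tt N52202 F235974) (tt N56585 F235975) (tt N79061 (iv6 F316762)) (tt N42730 (iv7 D149996)))
theorem Q76033 : ∀ i, i < 76033 → P i := stepQ 76032 Q76032 (allL N76032 (tt N49883 F235980) (tt N85830 F374154) (tt N55798 F235976) (tt N42732 F235977) (tt N64667 F235978) (tt N61628 F235979) (tt N42731 (iv6 D149997)) (tt N85829 (iv7 F374149)))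
theorem Q76034 : ∀ i, i < 76034 → P i := stepQ 76033 Q76033 (allL N76033 (tt N79061 (iv1 F316759)) (tt N42732 (iv0 D149998)) (tt N80024 F283546) (tt N61367 (iv3 F347803)) (tt N60611 F347795) (tt N109566 D212796) (tt N79041 F251976) (tt N80025 (iv7 F283547)))
theorem Q76035 : ∀ i, i < 76035 → P i := stepQ 76034 Q76034 (allL N76034 (tt N80025 (iv1 F259550)) (tt N80024 (iv0 F259548)) (tt N79061 (iv2 F316760)) (tt N85829 (iv3 F374148)) (tt N86968 (iv4 F377886)) (tt N61633 F235981) (tt N80023 (iv6 F259543)) (tt N42732 (iv7 D150000)))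
theorem Q76036 : ∀ i, i < 76036 → P i := stepQ 76035 Q76035 (allL N76035 (tt N78892 (iv1 F336930)) (tt N52198 (iv0 F335184)) (tt N78889 (iv2 F336922)) (tt N52216 (iv3 F350618)) (tt N42734 (iv4 D150006)) (tt N97282 F416198) (tt N102994 (iv6 F439594)) (tt N78890 (iv7 F336919)))
theorem Q76037 : ∀ i, i < 76037 → P i := stepQ 76036 Q76036 (allL N76036 (tt N100203 F427980) (tt N86479 (iv0 F376341)) (tt N80031 (iv2 F259582)) (tt N72775 F334970) (tt N102994 (iv4 F439592)) (tt N100778 F430427) (tt N42734 (iv6 D150007)) (tt N98474 (iv7 F421043)))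
theorem Q76038 : ∀ i, i < 76038 → P i := stepQ 76037 Q76037 (allL N76037 (tt N47535 F336931) (tt N98769 (iv0 F422239)) (tt N78939 F364187) (tt N42735 (iv3 D150008)) (tt N64669 F361070) (tt N84970 (iv5 F371206)) (tt N98467 F421007) (tt N80030 (iv7 F259574)))
theorem Q76039 : ∀ i, i < 76039 → P i := stepQ 76038 Q76038 (allL N76038 (tt N52198 (iv1 F336925)) (tt N78892 F336926) (tt N78890 (iv2 F336917)) (tt N86988 F377971) (tt N42735 (iv4 D150009)) (tt N109567 D212797) (tt N79933 F259032) (tt N78889 (iv7 F336924)))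
theorem Q76040 : ∀ i, i < 76040 → P i := stepQ 76039 Q76039 (allL N76039 (tt N68486 (iv1 F311432)) (tt N42739 (iv0 D150013)) (tt N80454 F359874) (tt N103057 (iv3 F439881)) (tt N47948 (iv4 F274049)) (tt N76040 F343401) (tt N108053 (iv6 F460896)) (tt N68561 F359877))
theorem Q76041 : ∀ i, i < 76041 → P i := stepQ 76040 Q76040 (allL N76040 (tt N42739 (iv1 D150014)) (tt N68486 (iv0 F311431)) (tt N68561 (iv2 F359873)) (tt N68587 F343402) (tt N47949 F343403) (tt N76039 (iv5 F343401)) (tt N57704 F343404) (tt N80454 (iv7 F359878)))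
theorem Q76042 : ∀ i, i < 76042 → P i := stepQ 76041 Q76041 (allL N76041 (tt N109568 D212798) (tt N100118 F428536) (tt N98381 (iv2 F420706)) (tt N57464 F236014) (tt N89233 (iv4 F385701)) (tt N57459 F236015) (tt N42743 (iv6 D150024)) (tt N89169 (iv7 F385427)))
theorem Q76043 : ∀ i, i < 76043 → P i := stepQ 76042 Q76042 (allL N76042 (tt N81690 (iv1 F344487)) (tt N81689 F344485) (tt N81691 (iv2 F344480)) (tt N69637 F236016) (tt N100128 (iv4 F427591)) (tt N69635 F236017) (tt N42744 (iv6 D150025)) (tt N81683 F344484))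
theorem Q76044 : ∀ i, i < 76044 → P i := stepQ 76043 Q76043 (allL N76043 (tt N64906 (iv1 F306490)) (tt N64588 (iv0 F306459)) (tt N65210 F236029) (tt N65221 F236030) (tt N82330 F280321) (tt N74398 F236031) (tt N42747 (iv6 D150029)) (tt N77546 F357837))
theorem Q76045 : ∀ i, i < 76045 → P i := stepQ 76044 Q76044 (allL N76044 (tt N77693 (iv1 F340772)) (tt N80406 F366805) (tt N75515 F236047) (tt N44517 F236048) (tt N100033 (iv4 F427302)) (tt N44513 F236049) (tt N42748 (iv6 D150033)) (tt N80403 F340766))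
theorem Q76046 : ∀ i, i < 76046 → P i := stepQ 76045 Q76045 (allL N76045 (tt N106332 F454068) (tt N106336 (iv0 F454076)) (tt N109569 D212799) (tt N42749 (iv3 D150034)) (tt N63346 F236050) (tt N109570 D212800) (tt N57611 (iv6 F366664)) (tt N74509 F236051))
theorem Q76047 : ∀ i, i < 76047 → P i := stepQ 76046 Q76046 (allL N76046 (tt N63177 F236054) (tt N63125 F236055) (tt N63174 F236052) (tt N109570 (iv3 F467576)) (tt N77017 (iv4 F241397)) (tt N42749 (iv5 D150035)) (tt N109571 D212801) (tt N63175 F236053))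
theorem Q76048 : ∀ i, i < 76048 → P i := stepQ 76047 Q76047 (allL N76047 (tt N94316 F404017) (tt N94313 (iv0 F405242)) (tt N94314 F404012) (tt N42750 (iv3 D150036)) (tt N75516 F236056) (tt N109572 D212802) (tt N108998 F464832) (tt N77496 (iv7 F242903)))
theorem Q76049 : ∀ i, i < 76049 → P i := stepQ 76048 Q76048 (allL N76048 (tt N63165 F236057) (tt N63168 F236058) (tt N100032 (iv2 F427296)) (tt N109572 (iv3 F467581)) (tt N77497 (iv4 F242906)) (tt N42750 (iv5 D150037)) (tt N109573 D212803) (tt N77497 (iv7 F242905)))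
theorem Q76050 : ∀ i, i < 76050 → P i := stepQ 76049 Q76049 (allL N76049 (tt N108052 F460892) (tt N106122 (iv0 F453225)) (tt N100033 (iv2 F427301)) (tt N108998 F464830) (tt N75515 F236059) (tt N90705 (iv5 F390574)) (tt N42750 (iv6 D150038)) (tt N80407 (iv7 F363486)))
theorem Q76051 : ∀ i, i < 76051 → P i := stepQ 76050 Q76050 (allL N76050 (tt N109574 D212804) (tt N109575 D212805) (tt N109576 D212806) (tt N42751 (iv3 D150039)) (tt N76215 (iv4 F237856)) (tt N109577 D212807) (tt N108336 (iv6 F462129)) (tt N100031 (iv7 F427295)))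
theorem Q76052 : ∀ i, i < 76052 → P i := stepQ 76051 Q76051 (allL N76051 (tt N63168 F236060) (tt N63165 F236061) (tt N77497 (iv2 F242904)) (tt N109577 (iv3 F467586)) (tt N100032 (iv4 F427297)) (tt N42751 (iv5 D150040)) (tt N109578 D212808) (tt N100032 (iv7 F427298)))
theorem Q76053 : ∀ i, i < 76053 → P i := stepQ 76052 Q76052 (allL N76052 (tt N92367 (iv1 F396833)) (tt N42752 (iv0 D150042)) (tt N91346 (iv2 F392822)) (tt N89938 (iv3 F388057)) (tt N87372 F383081) (tt N109579 D212809) (tt N92401 (iv6 F396913)) (tt N91348 (iv7 F392830)))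
theorem Q76054 : ∀ i, i < 76054 → P i := stepQ 76053 Q76053 (allL N76053 (tt N91346 (iv1 F392826)) (tt N91348 (iv0 F392831)) (tt N42752 (iv2 D150044)) (tt N66343 F366546) (tt N83154 F358512) (tt N109580 D212810) (tt N60317 (iv6 F366547)) (tt N92367 (iv7 F396834)))
theorem Q76055 : ∀ i, i < 76055 → P i := stepQ 76054 Q76054 (allL N76054 (tt N109581 D212811) (tt N108649 (iv0 F463353)) (tt N109580 (iv2 F467589)) (tt N42753 F236063) (tt N109582 D212812) (tt N42752 (iv5 D150045)) (tt N109583 D212813) (tt N100092 (iv7 F427497)))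
theorem Q76056 : ∀ i, i < 76056 → P i := stepQ 76055 Q76055 (allL N76055 (tt N77017 (iv1 F241394)) (tt N42753 (iv0 D150046)) (tt N77018 (iv2 F241399)) (tt N108769 (iv3 F464082)) (tt N76985 (iv4 F241314)) (tt N74503 F236064) (tt N108767 F464083) (tt N76985 (iv7 F241313)))
theorem Q76057 : ∀ i, i < 76057 → P i := stepQ 76056 Q76056 (allL N76056 (tt N63125 F236068) (tt N63177 F236069) (tt N63175 F236065) (tt N109584 D212814) (tt N42753 (iv4 D150047)) (tt N67103 F236067) (tt N109585 D212815) (tt N63174 F236066))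
theorem Q76058 : ∀ i, i < 76058 → P i := stepQ 76057 Q76057 (allL N76057 (tt N108769 F463856) (tt N109586 D212816) (tt N94315 (iv2 F404013)) (tt N109583 (iv3 F467600)) (tt N109585 (iv4 F467606)) (tt N94313 (iv5 F404011)) (tt N42753 (iv6 D150048)) (tt N109587 D212817))
theorem Q76059 : ∀ i, i < 76059 → P i := stepQ 76058 Q76058 (allL N76058 (tt N42763 (iv1 F236157)) (tt N42760 (iv0 D150076)) (tt N42761 (iv2 F236155)) (tt N42857 F236153) (tt N43307 F236154) (tt N88620 (iv5 F383614)) (tt N78088 (iv6 F366609)) (tt N42762 F236156))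
theorem Q76060 : ∀ i, i < 76060 → P i := stepQ 76059 Q76059 (allL N76059 (tt N42762 (iv1 F236162)) (tt N42761 F236163) (tt N42763 F236158) (tt N75815 F236159) (tt N63215 F236160) (tt N87924 (iv5 F381151)) (tt N75807 F236161) (tt N42760 (iv7 D150077)))
theorem Q76061 : ∀ i, i < 76061 → P i := stepQ 76060 Q76060 (allL N76060 (tt N88617 F383603) (tt N88621 F383620) (tt N88620 (iv2 F383616)) (tt N75793 F236165) (tt N64652 (iv4 F346682)) (tt N42761 (iv5 D150078)) (tt N64650 F346681) (tt N75798 F236166))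
theorem Q76062 : ∀ i, i < 76062 → P i := stepQ 76061 Q76061 (allL N76061 (tt N80289 F344470) (tt N57483 (iv0 F312659)) (tt N78088 (iv2 F309275)) (tt N42844 (iv3 F236654)) (tt N72408 (iv4 F309289)) (tt N48507 (iv5 F236168)) (tt N42761 (iv6 D150079)) (tt N94464 (iv7 F404573)))
theorem Q76063 : ∀ i, i < 76063 → P i := stepQ 76062 Q76062 (allL N76062 (tt N88621 (iv1 F383621)) (tt N88617 (iv0 F383601)) (tt N75798 F236171) (tt N68418 F236172) (tt N53335 F351873) (tt N42762 (iv5 D150080)) (tt N68417 (iv6 F236173)) (tt N88620 (iv7 F383613)))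
theorem Q76064 : ∀ i, i < 76064 → P i := stepQ 76063 Q76063 (allL N76063 (tt N75916 F397576) (tt N76756 F353456) (tt N75799 F236174) (tt N94472 (iv3 F404614)) (tt N79999 (iv4 F259326)) (tt N100486 (iv5 F429124)) (tt N42762 (iv6 D150081)) (tt N100062 (iv7 F427394)))
theorem Q76065 : ∀ i, i < 76065 → P i := stepQ 76064 Q76064 (allL N76064 (tt N107604 (iv1 F458910)) (tt N76986 (iv0 F339026)) (tt N100844 (iv2 F430730)) (tt N42765 (iv3 D150083)) (tt N53711 (iv4 F308573)) (tt N99547 (iv5 F425093)) (tt N53709 F338844) (tt N75829 F236177))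
theorem Q76066 : ∀ i, i < 76066 → P i := stepQ 76065 Q76065 (allL N76065 (tt N90539 (iv1 F390011)) (tt N90542 F390024) (tt N75828 F236178) (tt N99547 (iv3 F425091)) (tt N107930 (iv4 F460336)) (tt N42765 (iv5 D150084)) (tt N99545 F425087) (tt N75830 F236179))
theorem Q76067 : ∀ i, i < 76067 → P i := stepQ 76066 Q76066 (allL N76066 (tt N42809 F274422) (tt N57484 (iv0 F312662)) (tt N70525 (iv2 F312669)) (tt N53709 (iv3 F338842)) (tt N65266 F236181) (tt N90431 (iv5 F389628)) (tt N42765 (iv6 D150085)) (tt N84144 (iv7 F368316)))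
theorem Q76068 : ∀ i, i < 76068 → P i := stepQ 76067 Q76067 (allL N76067 (tt N90542 (iv1 F390025)) (tt N90539 (iv0 F390010)) (tt N75830 F236182) (tt N100846 (iv3 F430742)) (tt N109588 D212818) (tt N42766 (iv5 D150086)) (tt N109589 D212819) (tt N75828 F236183))
theorem Q76069 : ∀ i, i < 76069 → P i := stepQ 76068 Q76068 (allL N76068 (tt N75923 (iv1 F243628)) (tt N75927 (iv0 F366717)) (tt N75831 F236184) (tt N100847 (iv3 F430748)) (tt N75825 F236185) (tt N90614 (iv5 F390275)) (tt N42766 (iv6 D150087)) (tt N100067 (iv7 F427413)))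
theorem Q76070 : ∀ i, i < 76070 → P i := stepQ 76069 Q76069 (allL N76069 (tt N75835 (iv1 F236193)) (tt N42767 (iv0 D150088)) (tt N75832 F241768) (tt N76201 (iv3 F344903)) (tt N74609 F331766) (tt N54372 F351783) (tt N78123 F362446) (tt N75833 F241766))
theorem Q76071 : ∀ i, i < 76071 → P i := stepQ 76070 Q76070 (allL N76070 (tt N42767 (iv1 D150089)) (tt N75835 F236186) (tt N75833 (iv2 F241765)) (tt N100848 F430761) (tt N109590 D212820) (tt N54373 (iv5 F350960)) (tt N106044 (iv6 F452876)) (tt N75832 (iv7 F241767)))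
theorem Q76072 : ∀ i, i < 76072 → P i := stepQ 76071 Q76071 (allL N76071 (tt N75833 (iv1 F236194)) (tt N75832 F236195) (tt N75835 F236190) (tt N53248 F236191) (tt N93856 (iv4 F402172)) (tt N42768 F236192) (tt N93855 F402169) (tt N42767 (iv7 D150091)))
theorem Q76073 : ∀ i, i < 76073 → P i := stepQ 76072 Q76072 (allL N76072 (tt N100028 (iv1 F427279)) (tt N101000 (iv0 F431203)) (tt N75802 F236199) (tt N57476 F366723) (tt N109591 D212821) (tt N42769 (iv5 D150093)) (tt N91063 (iv6 F391805)) (tt N75836 F236200))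
theorem Q76074 : ∀ i, i < 76074 → P i := stepQ 76073 Q76073 (allL N76073 (tt N42770 (iv1 D150095)) (tt N42772 F236204) (tt N74531 F236207) (tt N88621 (iv3 F383617)) (tt N45597 F337583) (tt N48228 (iv5 F236206)) (tt N68423 F236208) (tt N75803 F236205))
theorem Q76075 : ∀ i, i < 76075 → P i := stepQ 76074 Q76074 (allL N76074 (tt N90457 F389717) (tt N81305 (iv0 F343506)) (tt N63604 (iv2 F344036)) (tt N80770 F344044) (tt N42770 (iv4 D150096)) (tt N102766 (iv5 F438548)) (tt N63506 (iv6 F344040)) (tt N75838 F236210))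
theorem Q76076 : ∀ i, i < 76076 → P i := stepQ 76075 Q76075 (allL N76075 (tt N101000 (iv1 F431204)) (tt N100028 (iv0 F427278)) (tt N75836 F236214) (tt N44934 F236215) (tt N108955 (iv4 F464649)) (tt N42771 (iv5 D150098)) (tt N72263 F364786) (tt N75802 F236216))
theorem Q76077 : ∀ i, i < 76077 → P i := stepQ 76076 Q76076 (allL N76076 (tt N75878 (iv1 F236220)) (tt N75881 (iv0 F236221)) (tt N75837 F236217) (tt N44935 F236218) (tt N42773 F236219) (tt N101086 (iv5 F431608)) (tt N42771 (iv6 D150099)) (tt N80384 (iv7 F264400)))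
theorem Q76078 : ∀ i, i < 76078 → P i := stepQ 76077 Q76077 (allL N76077 (tt N103098 (iv1 F440064)) (tt N82333 (iv0 F280339)) (tt N75774 F236230) (tt N51995 (iv3 F337010)) (tt N69955 F337006) (tt N42775 (iv5 D150103)) (tt N109592 D212822) (tt N103058 (iv7 F439888)))
theorem Q76079 : ∀ i, i < 76079 → P i := stepQ 76078 Q76078 (allL N76078 (tt N98379 F420702) (tt N100071 F427432) (tt N75775 F236231) (tt N102989 (iv3 F439571)) (tt N44787 F236232) (tt N99867 (iv5 F426607)) (tt N42775 (iv6 D150104)) (tt N99925 (iv7 F426847)))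
theorem Q76080 : ∀ i, i < 76080 → P i := stepQ 76079 Q76079 (allL N76079 (tt N82333 (iv1 F280340)) (tt N103098 (iv0 F440063)) (tt N103058 (iv2 F439885)) (tt N75430 F236233) (tt N101755 (iv4 F434198)) (tt N42776 (iv5 D150105)) (tt N75428 (iv6 F236235)) (tt N75774 F236234))
theorem Q76081 : ∀ i, i < 76081 → P i := stepQ 76080 Q76080 (allL N76080 (tt N63101 F236240) (tt N95843 (iv0 F409909)) (tt N76023 F236236) (tt N42838 F236237) (tt N44790 F236238) (tt N76104 (iv5 F238785)) (tt N42776 (iv6 D150106)) (tt N102983 (iv7 F439545)))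
theorem Q76082 : ∀ i, i < 76082 → P i := stepQ 76081 Q76081 (allL N76081 (tt N64832 F355371) (tt N64498 (iv0 F302088)) (tt N53258 F236246) (tt N42781 F236247) (tt N94558 (iv4 F404962)) (tt N42778 (iv5 D150108)) (tt N53256 F236248) (tt N64834 (iv7 F366655)))
theorem Q76083 : ∀ i, i < 76083 → P i := stepQ 76082 Q76082 (allL N76082 (tt N82331 (iv1 F280331)) (tt N82334 (iv0 F280360)) (tt N54002 F236254) (tt N83233 (iv3 F286418)) (tt N92276 (iv4 F396555)) (tt N42779 (iv5 D150110)) (tt N101924 (iv6 F434962)) (tt N54004 F236255))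
theorem Q76084 : ∀ i, i < 76084 → P i := stepQ 76083 Q76083 (allL N76083 (tt N76996 (iv1 F242774)) (tt N100077 F427457) (tt N54003 F236256) (tt N83234 (iv3 F286422)) (tt N75474 F236257) (tt N71496 F346157) (tt N42779 (iv6 D150111)) (tt N71495 (iv7 F338568)))
theorem Q76085 : ∀ i, i < 76085 → P i := stepQ 76084 Q76084 (allL N76084 (tt N53294 (iv1 F338836)) (tt N68274 F342641) (tt N83235 (iv2 F286424)) (tt N42780 (iv3 D150112)) (tt N53703 F236258) (tt N109593 D212823) (tt N80616 F366228) (tt N54001 F236259))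
theorem Q76086 : ∀ i, i < 76086 → P i := stepQ 76085 Q76085 (allL N76085 (tt N82334 (iv1 F280361)) (tt N82331 F280332) (tt N54004 F236260) (tt N109593 (iv3 F467630)) (tt N55853 F347615) (tt N42780 (iv5 D150113)) (tt N55852 (iv6 F344178)) (tt N54002 F236261))
theorem Q76087 : ∀ i, i < 76087 → P i := stepQ 76086 Q76086 (allL N76086 (tt N63103 (iv1 F236397)) (tt N42799 (iv0 F236265)) (tt N54005 F236263) (tt N80616 (iv3 F366227)) (tt N64003 F236264) (tt N61909 F362714) (tt N42780 (iv6 D150114)) (tt N70954 F338812))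
theorem Q76088 : ∀ i, i < 76088 → P i := stepQ 76087 Q76087 (allL N76087 (tt N54009 (iv1 F236272)) (tt N42781 (iv0 D150115)) (tt N54006 F280316) (tt N64484 F357856) (tt N109594 D212824) (tt N64482 (iv5 F357835)) (tt N109595 D212825) (tt N54007 (iv7 F280317)))
theorem Q76089 : ∀ i, i < 76089 → P i := stepQ 76088 Q76088 (allL N76088 (tt N42781 (iv1 D150116)) (tt N54009 F236266) (tt N54007 (iv2 F280318)) (tt N107658 (iv3 F459112)) (tt N104585 (iv4 F446417)) (tt N54276 F236267) (tt N71184 F388443) (tt N54006 (iv7 F280314)))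
theorem Q76090 : ∀ i, i < 76090 → P i := stepQ 76089 Q76089 (allL N76089 (tt N64911 (iv1 F355370)) (tt N67699 (iv0 F355369)) (tt N54008 F236268) (tt N109596 D212826) (tt N42781 (iv4 D150117)) (tt N61673 F355366) (tt N53992 F236269) (tt N103831 (iv7 F443005)))
theorem Q76091 : ∀ i, i < 76091 → P i := stepQ 76090 Q76090 (allL N76090 (tt N54007 (iv1 F236273)) (tt N54006 F236275) (tt N54009 F236270) (tt N64834 (iv3 F366653)) (tt N103831 (iv4 F443004)) (tt N42782 F236271) (tt N106184 (iv6 F453504)) (tt N42781 (iv7 D150118)))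
theorem Q76092 : ∀ i, i < 76092 → P i := stepQ 76091 Q76091 (allL N76091 (tt N46722 F342605) (tt N100638 F429789) (tt N44917 F236276) (tt N42783 (iv3 D150119)) (tt N66857 (iv4 F309165)) (tt N71301 (iv5 F341529)) (tt N71306 (iv6 F342608)) (tt N71299 (iv7 F313530)))
theorem Q76093 : ∀ i, i < 76093 → P i := stepQ 76092 Q76092 (allL N76092 (tt N89012 (iv1 F386610)) (tt N89471 F386607) (tt N48922 F236290) (tt N42787 F236291) (tt N101191 (iv4 F432114)) (tt N42786 (iv5 D150124)) (tt N48918 F236292) (tt N89444 (iv7 F386531)))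
theorem Q76094 : ∀ i, i < 76094 → P i := stepQ 76093 Q76093 (allL N76093 (tt N72551 F361450) (tt N42787 (iv0 D150125)) (tt N62289 (iv2 F361447)) (tt N64541 (iv3 F361448)) (tt N93958 (iv4 F402595)) (tt N64429 (iv5 F361449)) (tt N72161 F361446) (tt N90045 (iv7 F388401)))
theorem Q76095 : ∀ i, i < 76095 → P i := stepQ 76094 Q76094 (allL N76094 (tt N90045 (iv1 F388400)) (tt N62289 (iv0 F364470)) (tt N72551 F361452) (tt N89444 (iv3 F386530)) (tt N107727 (iv4 F459414)) (tt N42788 F236295) (tt N62268 (iv6 F362369)) (tt N42787 (iv7 D150128)))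
theorem Q76096 : ∀ i, i < 76096 → P i := stepQ 76095 Q76095 (allL N76095 (tt N42789 (iv1 D150129)) (tt N64910 F361480) (tt N48207 F236297) (tt N64900 F355286) (tt N67699 (iv4 F355282)) (tt N48206 (iv5 F236296)) (tt N71240 F366378) (tt N64908 F355288))
theorem Q76097 : ∀ i, i < 76097 → P i := stepQ 76096 Q76096 (allL N76096 (tt N90062 (iv1 F388461)) (tt N90064 (iv0 F388463)) (tt N98695 (iv2 F421881)) (tt N109597 D212827) (tt N42789 (iv4 D150130)) (tt N61710 (iv5 F338629)) (tt N48870 F236298) (tt N102618 (iv7 F437920)))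
theorem Q76098 : ∀ i, i < 76098 → P i := stepQ 76097 Q76097 (allL N76097 (tt N48207 (iv1 F236301)) (tt N64908 F355291) (tt N64910 F361477) (tt N48879 F236299) (tt N102618 (iv4 F437919)) (tt N42790 F236300) (tt N59040 F338281) (tt N42789 (iv7 D150131)))
theorem Q76099 : ∀ i, i < 76099 → P i := stepQ 76098 Q76098 (allL N76098 (tt N49163 F289959) (tt N83474 F289960) (tt N48694 F236303) (tt N88582 (iv3 F383528)) (tt N99783 (iv4 F426197)) (tt N42791 (iv5 D150134)) (tt N63116 F236304) (tt N83483 (iv7 F290069)))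
theorem Q76100 : ∀ i, i < 76100 → P i := stepQ 76099 Q76099 (allL N76099 (tt N49574 (iv1 F337237)) (tt N43509 F337233) (tt N49284 F335681) (tt N49539 (iv3 F335742)) (tt N42792 (iv4 D150138)) (tt N109410 (iv5 F466822)) (tt N54526 F335683) (tt N49572 (iv7 F337272)))
theorem Q76101 : ∀ i, i < 76101 → P i := stepQ 76100 Q76100 (allL N76100 (tt N83090 F285873) (tt N87034 (iv0 F378124)) (tt N49865 (iv2 F345992)) (tt N82952 F356595) (tt N62913 (iv4 F339709)) (tt N42792 (iv5 D150139)) (tt N62912 (iv6 F345996)) (tt N82845 F345990))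
theorem Q76102 : ∀ i, i < 76102 → P i := stepQ 76101 Q76101 (allL N76101 (tt N71871 (iv1 F346046)) (tt N71867 F346040) (tt N49866 F346037) (tt N53002 F356798) (tt N54526 F346039) (tt N62024 (iv5 F346036)) (tt N42792 (iv6 D150140)) (tt N71136 F346038))
theorem Q76103 : ∀ i, i < 76103 → P i := stepQ 76102 Q76102 (allL N76102 (tt N75812 F239772) (tt N80400 (iv0 F305403)) (tt N42797 F236363) (tt N95843 (iv3 F409905)) (tt N63219 F236364) (tt N47954 F236365) (tt N42796 (iv6 D150188)) (tt N81263 (iv7 F274023)))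
theorem Q76104 : ∀ i, i < 76104 → P i := stepQ 76103 Q76103 (allL N76103 (tt N81263 (iv1 F274026)) (tt N42797 (iv0 D150196)) (tt N75812 F238780) (tt N42829 F238781) (tt N71613 (iv4 F331941)) (tt N79094 (iv5 F303697)) (tt N42827 F238782) (tt N80400 (iv7 F305406)))
theorem Q76105 : ∀ i, i < 76105 → P i := stepQ 76104 Q76104 (allL N76104 (tt N42797 (iv1 D150197)) (tt N81263 (iv0 F274024)) (tt N80400 F307444) (tt N45701 (iv3 F238784)) (tt N47312 (iv4 F307481)) (tt N76080 F238785) (tt N109313 (iv6 F466340)) (tt N75812 F238783))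
theorem Q76106 : ∀ i, i < 76106 → P i := stepQ 76105 Q76105 (allL N76105 (tt N80400 (iv1 F305404)) (tt N75812 F266075) (tt N81263 (iv2 F274021)) (tt N42804 F236381) (tt N74738 (iv4 F331934)) (tt N47952 F236382) (tt N57483 (iv6 F312661)) (tt N42797 (iv7 D150198)))
theorem Q76107 : ∀ i, i < 76107 → P i := stepQ 76106 Q76106 (allL N76106 (tt N54295 F303977) (tt N47262 F303978) (tt N46981 F303979) (tt N46900 F303980) (tt N42801 (iv4 D150214)) (tt N52380 F303981) (tt N69646 F236402) (tt N47161 F303982))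
theorem Q76108 : ∀ i, i < 76108 → P i := stepQ 76107 Q76107 (allL N76107 (tt N57484 F315122) (tt N42809 (iv0 D150235)) (tt N84144 F368314) (tt N43160 F315123) (tt N68022 F315124) (tt N90430 (iv5 F389621)) (tt N100067 F427414) (tt N70525 F315125))
theorem Q76109 : ∀ i, i < 76109 → P i := stepQ 76108 Q76108 (allL N76108 (tt N54278 (iv1 F236437)) (tt N54275 F236436) (tt N84145 (iv2 F368317)) (tt N81430 F275196) (tt N82259 (iv4 F279969)) (tt N42809 (iv5 D150237)) (tt N99900 (iv6 F426737)) (tt N94466 (iv7 F404584)))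
theorem Q76110 : ∀ i, i < 76110 → P i := stepQ 76109 Q76109 (allL N76109 (tt N46825 F353877) (tt N82364 F353881) (tt N65416 (iv2 F330647)) (tt N42811 F236442) (tt N46742 F236443) (tt N65397 (iv5 F341200)) (tt N42810 (iv6 D150241)) (tt N65412 (iv7 F353904)))
theorem Q76111 : ∀ i, i < 76111 → P i := stepQ 76110 Q76110 (allL N76110 (tt N45909 F344676) (tt N46857 F304292) (tt N43533 F236444) (tt N65397 (iv3 F344668)) (tt N51664 F344667) (tt N42811 (iv5 D150242)) (tt N51663 (iv6 F344672)) (tt N65410 (iv7 F353897)))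
theorem Q76112 : ∀ i, i < 76112 → P i := stepQ 76111 Q76111 (allL N76111 (tt N100595 (iv1 F429620)) (tt N42812 (iv0 D150243)) (tt N75359 (iv2 F350718)) (tt N62536 F350716) (tt N77218 F350717) (tt N97629 F417681) (tt N108678 (iv6 F463506)) (tt N75593 (iv7 F350719)))
theorem Q76113 : ∀ i, i < 76113 → P i := stepQ 76112 Q76112 (allL N76112 (tt N42812 (iv1 D150244)) (tt N100595 F429619) (tt N75593 F347994) (tt N75272 (iv3 F347993)) (tt N77219 F347996) (tt N97369 (iv5 F416544)) (tt N84124 F368204) (tt N75359 F347995))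
theorem Q76114 : ∀ i, i < 76114 → P i := stepQ 76113 Q76113 (allL N76113 (tt N109598 D212828) (tt N96975 (iv0 F414880)) (tt N60486 (iv2 F353636)) (tt N45441 F236445) (tt N55622 (iv4 F353643)) (tt N42812 (iv5 D150245)) (tt N42815 F236446) (tt N60482 (iv7 F353641)))
theorem Q76115 : ∀ i, i < 76115 → P i := stepQ 76114 Q76114 (allL N76114 (tt N75593 (iv1 F353610)) (tt N75359 F353619) (tt N100595 (iv2 F429614)) (tt N45442 F236447) (tt N77294 (iv4 F242327)) (tt N60482 F353600) (tt N75769 F236448) (tt N42812 (iv7 D150246)))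
theorem Q76116 : ∀ i, i < 76116 → P i := stepQ 76115 Q76115 (allL N76115 (tt N101080 (iv1 F431577)) (tt N47106 F330168) (tt N78354 (iv2 F248372)) (tt N44942 F330170) (tt N82538 (iv4 F330165)) (tt N42813 (iv5 D150248)) (tt N107078 (iv6 F456872)) (tt N103064 (iv7 F439924)))
theorem Q76117 : ∀ i, i < 76117 → P i := stepQ 76116 Q76116 (allL N76116 (tt N76897 F355875) (tt N90562 (iv0 F390114)) (tt N97393 (iv2 F416685)) (tt N42814 (iv3 D150250)) (tt N76923 (iv4 F240857)) (tt N79765 (iv5 F345740)) (tt N109599 D212829) (tt N78353 (iv7 F248371)))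
theorem Q76118 : ∀ i, i < 76118 → P i := stepQ 76117 Q76117 (allL N76117 (tt N47106 F355892) (tt N101080 (iv0 F431576)) (tt N103064 (iv2 F439921)) (tt N79765 F345738) (tt N82539 (iv4 F330166)) (tt N42814 (iv5 D150251)) (tt N97385 (iv6 F416642)) (tt N78354 (iv7 F248373)))
theorem Q76119 : ∀ i, i < 76119 → P i := stepQ 76118 Q76118 (allL N76118 (tt N75971 F239788) (tt N80362 F264114) (tt N80366 F264131) (tt N109599 (iv3 F467661)) (tt N76729 (iv4 F239787)) (tt N80132 (iv5 F261707)) (tt N42814 (iv6 D150252)) (tt N80367 (iv7 F264137)))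
theorem Q76120 : ∀ i, i < 76120 → P i := stepQ 76119 Q76119 (allL N76119 (tt N80193 F363241) (tt N42815 (iv0 D150253)) (tt N80939 F341698) (tt N79885 F362179) (tt N46585 F341700) (tt N52789 (iv5 F304708)) (tt N79883 F343514) (tt N67015 (iv7 F242260)))
theorem Q76121 : ∀ i, i < 76121 → P i := stepQ 76120 Q76120 (allL N76120 (tt N42815 (iv1 D150254)) (tt N80193 F341691) (tt N67015 F236451) (tt N90503 (iv3 F389859)) (tt N87920 (iv4 F381127)) (tt N43813 (iv5 F236450)) (tt N109600 D212830) (tt N80939 (iv7 F363255)))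
theorem Q76122 : ∀ i, i < 76122 → P i := stepQ 76121 Q76121 (allL N76121 (tt N45756 F341692) (tt N82533 F341693) (tt N60488 (iv2 F358951)) (tt N107743 (iv3 F459506)) (tt N42815 (iv4 D150255)) (tt N46583 F341695) (tt N55622 (iv6 F353644)) (tt N79541 F341696))
theorem Q76123 : ∀ i, i < 76123 → P i := stepQ 76122 Q76122 (allL N76122 (tt N42833 (iv1 F236500)) (tt N42823 (iv0 D150279)) (tt N42830 (iv2 F236498)) (tt N74438 F259431) (tt N92216 (iv4 F396304)) (tt N46130 F305850) (tt N91535 (iv6 F393533)) (tt N42831 F236499))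
theorem Q76124 : ∀ i, i < 76124 → P i := stepQ 76123 Q76123 (allL N76123 (tt N74819 F243217) (tt N62712 F243220) (tt N74820 (iv2 F243256)) (tt N51998 (iv3 F308816)) (tt N75795 F355706) (tt N92577 (iv5 F397454)) (tt N42825 (iv6 D150304)) (tt N66722 F236539))
theorem Q76125 : ∀ i, i < 76125 → P i := stepQ 76124 Q76124 (allL N76124 (tt N87702 (iv1 F380191)) (tt N82328 (iv0 F280307)) (tt N51999 (iv2 F308808)) (tt N42828 F236541) (tt N62958 F236544) (tt N42827 (iv5 D150305)) (tt N62957 (iv6 F236543)) (tt N75810 F236542))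
theorem Q76126 : ∀ i, i < 76126 → P i := stepQ 76125 Q76125 (allL N76125 (tt N43921 F308948) (tt N43916 F308949) (tt N66678 F236550) (tt N62957 F236551) (tt N54835 (iv4 F314438)) (tt N79095 F308950) (tt N42828 (iv6 D150311)) (tt N66719 F236555))
theorem Q76127 : ∀ i, i < 76127 → P i := stepQ 76126 Q76126 (allL N76126 (tt N74437 (iv1 F236559)) (tt N74440 (iv0 F236558)) (tt N74439 F259439) (tt N42831 (iv3 D150313)) (tt N80014 (iv4 F259419)) (tt N75860 F236557) (tt N108291 (iv6 F461916)) (tt N74438 (iv7 F259433)))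
theorem Q76128 : ∀ i, i < 76128 → P i := stepQ 76127 Q76127 (allL N76127 (tt N82237 F279757) (tt N71983 (iv0 F339797)) (tt N82576 (iv2 F282908)) (tt N108291 (iv3 F461915)) (tt N74794 F339796) (tt N82221 (iv5 F279560)) (tt N42831 (iv6 D150314)) (tt N92231 (iv7 F396383)))
theorem Q76129 : ∀ i, i < 76129 → P i := stepQ 76128 Q76128 (allL N76128 (tt N109246 (iv1 F465975)) (tt N109243 (iv0 F465957)) (tt N91204 (iv2 F392248)) (tt N42832 (iv3 D150316)) (tt N42834 F236565) (tt N83757 (iv5 F355118)) (tt N45195 F236566) (tt N91206 (iv7 F392256)))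
theorem Q76130 : ∀ i, i < 76130 → P i := stepQ 76129 Q76129 (allL N76129 (tt N69633 (iv1 F313461)) (tt N69639 (iv0 F314148)) (tt N74942 F236568) (tt N91206 (iv3 F392255)) (tt N42833 F236569) (tt N69625 F335874) (tt N74949 F236570) (tt N42832 (iv7 D150318)))
theorem Q76131 : ∀ i, i < 76131 → P i := stepQ 76130 Q76130 (allL N76130 (tt N97362 (iv1 F416510)) (tt N42834 (iv0 D150319)) (tt N81398 (iv2 F361992)) (tt N109253 F466008) (tt N92235 (iv4 F396397)) (tt N82145 F361991) (tt N80879 (iv6 F361993)) (tt N81445 (iv7 F361994)))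
theorem Q76132 : ∀ i, i < 76132 → P i := stepQ 76131 Q76131 (allL N76131 (tt N42834 (iv1 D150320)) (tt N97362 (iv0 F416509)) (tt N81445 F345565) (tt N57367 F345573) (tt N92237 (iv4 F396405)) (tt N68052 (iv5 F345572)) (tt N80894 (iv6 F345563)) (tt N81398 F345566))
theorem Q76133 : ∀ i, i < 76133 → P i := stepQ 76132 Q76132 (allL N76132 (tt N81398 F336051) (tt N81445 (iv0 F353634)) (tt N42834 (iv2 D150321)) (tt N75784 F236573) (tt N91204 (iv4 F392249)) (tt N82178 (iv5 F279063)) (tt N45198 F236574) (tt N97362 (iv7 F416508)))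
theorem Q76134 : ∀ i, i < 76134 → P i := stepQ 76133 Q76133 (allL N76133 (tt N42845 (iv1 F236658)) (tt N42842 (iv0 D150356)) (tt N42843 (iv2 F236651)) (tt N94464 (iv3 F404571)) (tt N72393 (iv4 F311608)) (tt N48138 F236650) (tt N42895 F236649) (tt N42844 (iv7 F236657)))
theorem Q76135 : ∀ i, i < 76135 → P i := stepQ 76134 Q76134 (allL N76134 (tt N44546 (iv1 F311605)) (tt N44545 F310090) (tt N72393 (iv2 F311606)) (tt N83253 F303965) (tt N42843 (iv4 D150376)) (tt N76519 F310091) (tt N72705 F342573) (tt N72392 F310092))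
theorem Q76136 : ∀ i, i < 76136 → P i := stepQ 76135 Q76135 (allL N76135 (tt N44545 (iv1 F309500)) (tt N44546 (iv0 F311604)) (tt N72392 F309387) (tt N76913 (iv3 F310533)) (tt N42844 (iv4 D150377)) (tt N89102 (iv5 F385157)) (tt N75792 F236700) (tt N72393 (iv7 F311609)))
theorem Q76137 : ∀ i, i < 76137 → P i := stepQ 76136 Q76136 (allL N76136 (tt N80100 (iv1 F361505)) (tt N99456 (iv0 F424666)) (tt N46560 F236705) (tt N42847 F236706) (tt N99909 (iv4 F426771)) (tt N42846 (iv5 D150387)) (tt N62735 (iv6 F309258)) (tt N66570 (iv7 F350253)))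
theorem Q76138 : ∀ i, i < 76138 → P i := stepQ 76137 Q76137 (allL N76137 (tt N51997 (iv1 F334925)) (tt N51994 F334926) (tt N51995 F337011) (tt N75766 F236762) (tt N73716 (iv4 F334931)) (tt N42850 (iv5 D150406)) (tt N91309 (iv6 F392655)) (tt N51996 (iv7 F306306)))
theorem Q76139 : ∀ i, i < 76139 → P i := stepQ 76138 Q76138 (allL N76138 (tt N51994 (iv1 F307000)) (tt N51997 (iv0 F334924)) (tt N51996 (iv2 F306302)) (tt N103058 (iv3 F439886)) (tt N109601 D212831) (tt N42851 (iv5 D150407)) (tt N56058 F236766) (tt N51995 (iv7 F337013)))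
theorem Q76140 : ∀ i, i < 76140 → P i := stepQ 76139 Q76139 (allL N76139 (tt N48459 (iv1 F309643)) (tt N48473 (iv0 F308732)) (tt N75797 F236798) (tt N88620 F383615) (tt N72310 (iv4 F345680)) (tt N42857 (iv5 D150420)) (tt N78154 (iv6 F345678)) (tt N68418 F236799))
theorem Q76141 : ∀ i, i < 76141 → P i := stepQ 76140 Q76140 (allL N76140 (tt N48473 F310907) (tt N48459 F307641) (tt N68418 F236805) (tt N75794 F236806) (tt N62374 F344012) (tt N42858 (iv5 D150422)) (tt N66851 F236808) (tt N75797 F236807))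
theorem Q76142 : ∀ i, i < 76142 → P i := stepQ 76141 Q76141 (allL N76141 (tt N57419 (iv1 F312648)) (tt N77060 F241538) (tt N94472 F404616) (tt N42894 F236811) (tt N44570 F236812) (tt N66571 (iv5 F315742)) (tt N42858 (iv6 D150423)) (tt N78089 (iv7 F339626)))
theorem Q76143 : ∀ i, i < 76143 → P i := stepQ 76142 Q76142 (allL N76142 (tt N46554 F236883) (tt N63917 F236884) (tt N46589 F236879) (tt N42862 (iv3 D150449)) (tt N53553 (iv4 F301797)) (tt N61350 F236881) (tt N88538 (iv6 F383461)) (tt N53550 (iv7 F301168)))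
theorem Q76144 : ∀ i, i < 76144 → P i := stepQ 76143 Q76143 (allL N76143 (tt N66557 (iv1 F321587)) (tt N42867 (iv0 D150534)) (tt N66564 (iv2 F321314)) (tt N99212 F423701) (tt N73753 F353398) (tt N82558 (iv5 F330089)) (tt N47712 F330087) (tt N66563 (iv7 F350098)))
theorem Q76145 : ∀ i, i < 76145 → P i := stepQ 76144 Q76144 (allL N76144 (tt N76011 F237038) (tt N76029 (iv0 F237037)) (tt N83302 F338003) (tt N42872 F237034) (tt N75469 (iv4 F237039)) (tt N67091 F237035) (tt N57419 (iv6 F312651)) (tt N42868 (iv7 D150538)))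
theorem Q76146 : ∀ i, i < 76146 → P i := stepQ 76145 Q76145 (allL N76145 (tt N101197 F432147) (tt N47260 F344757) (tt N47548 F344753) (tt N42870 (iv3 D150549)) (tt N108324 (iv4 F462063)) (tt N68040 F344754) (tt N60631 (iv6 F344752)) (tt N66565 (iv7 F347449)))
theorem Q76147 : ∀ i, i < 76147 → P i := stepQ 76146 Q76146 (allL N76146 (tt N63328 (iv1 F305897)) (tt N63287 (iv0 F237071)) (tt N63338 F237072) (tt N80124 (iv3 F356223)) (tt N42873 (iv4 D150554)) (tt N88584 (iv5 F383532)) (tt N71405 (iv6 F366629)) (tt N63339 F237068))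
theorem Q76148 : ∀ i, i < 76148 → P i := stepQ 76147 Q76147 (allL N76147 (tt N81475 F346542) (tt N81474 F345590) (tt N64665 (iv2 F345588)) (tt N42877 (iv3 D150560)) (tt N77090 (iv4 F241569)) (tt N54248 F345589) (tt N48150 F237081) (tt N77687 (iv7 F244684)))
theorem Q76149 : ∀ i, i < 76149 → P i := stepQ 76148 Q76148 (allL N76148 (tt N79610 (iv1 F342303)) (tt N100432 F428953) (tt N88461 (iv2 F383143)) (tt N42878 (iv3 D150562)) (tt N103077 (iv4 F439973)) (tt N45591 F320686) (tt N82049 (iv6 F359350)) (tt N88462 (iv7 F383150)))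
theorem Q76150 : ∀ i, i < 76150 → P i := stepQ 76149 Q76149 (allL N76149 (tt N109602 D212832) (tt N91736 F394252) (tt N90487 (iv2 F389812)) (tt N42881 (iv3 D150576)) (tt N42883 F237091) (tt N109603 D212833) (tt N81421 F337657) (tt N63363 F237092))
theorem Q76151 : ∀ i, i < 76151 → P i := stepQ 76150 Q76150 (allL N76150 (tt N66581 F237095) (tt N100237 (iv0 F428106)) (tt N63361 F237093) (tt N109603 (iv3 F467684)) (tt N109604 D212834) (tt N42881 (iv5 D150577)) (tt N107410 (iv6 F458248)) (tt N63364 F237094))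
theorem Q76152 : ∀ i, i < 76152 → P i := stepQ 76151 Q76151 (allL N76151 (tt N58612 (iv1 F313706)) (tt N71694 F353371) (tt N63362 F237096) (tt N81421 (iv3 F337656)) (tt N42882 F237097) (tt N107411 (iv5 F458251)) (tt N42881 (iv6 D150578)) (tt N62329 (iv7 F353381)))
theorem Q76153 : ∀ i, i < 76153 → P i := stepQ 76152 Q76152 (allL N76152 (tt N42882 (iv1 D150580)) (tt N62312 F348041) (tt N62328 F348039) (tt N73166 (iv3 F348047)) (tt N100257 (iv4 F428149)) (tt N72280 F348043) (tt N101864 F434725) (tt N48505 F237100))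
theorem Q76154 : ∀ i, i < 76154 → P i := stepQ 76153 Q76153 (allL N76153 (tt N77684 (iv1 F244655)) (tt N42885 (iv0 D150589)) (tt N71367 F346534) (tt N102720 (iv3 F438348)) (tt N90150 (iv4 F388699)) (tt N44997 F346535) (tt N81475 F346538) (tt N77683 (iv7 F349903)))
theorem Q76155 : ∀ i, i < 76155 → P i := stepQ 76154 Q76154 (allL N76154 (tt N71367 (iv1 F349896)) (tt N77683 F244651) (tt N42885 (iv2 D150591)) (tt N75981 F237110) (tt N77114 (iv4 F241615)) (tt N75981 F237111) (tt N71350 F337553) (tt N77684 (iv7 F244654)))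
theorem Q76156 : ∀ i, i < 76156 → P i := stepQ 76155 Q76155 (allL N76155 (tt N76005 (iv1 F237137)) (tt N42886 (iv0 D150600)) (tt N63799 F357009) (tt N71342 F362970) (tt N109605 D212835) (tt N44119 F357010) (tt N58796 F357011) (tt N63797 F357012))
theorem Q76157 : ∀ i, i < 76157 → P i := stepQ 76156 Q76156 (allL N76156 (tt N42886 (iv1 D150601)) (tt N76005 F237140) (tt N63797 (iv2 F357013)) (tt N51115 F357015) (tt N51119 (iv4 F357084)) (tt N44120 F357016) (tt N100432 F428955) (tt N63799 (iv7 F357014)))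
theorem Q76158 : ∀ i, i < 76158 → P i := stepQ 76157 Q76157 (allL N76157 (tt N63799 (iv1 F354180)) (tt N63797 (iv0 F354181)) (tt N42886 (iv2 D150602)) (tt N77741 (iv3 F360753)) (tt N103081 (iv4 F439990)) (tt N77741 (iv5 F360755)) (tt N104245 (iv6 F444906)) (tt N76005 F237138))
theorem Q76159 : ∀ i, i < 76159 → P i := stepQ 76158 Q76158 (allL N76158 (tt N54928 (iv1 F357008)) (tt N75684 F357006) (tt N42887 (iv2 D150607)) (tt N76005 F237143) (tt N109606 D212836) (tt N76005 F237144) (tt N103749 (iv6 F442661)) (tt N77741 (iv7 F360757)))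
theorem Q76160 : ∀ i, i < 76160 → P i := stepQ 76159 Q76159 (allL N76159 (tt N98932 F422818) (tt N109607 D212837) (tt N109606 (iv2 F467699)) (tt N43219 F237145) (tt N42887 (iv4 D150608)) (tt N109608 D212838) (tt N98906 (iv6 F422749)) (tt N43366 F237146))
theorem Q76161 : ∀ i, i < 76161 → P i := stepQ 76160 Q76160 (allL N76160 (tt N64395 F237160) (tt N64392 F332491) (tt N53929 F304002) (tt N42888 (iv3 D150622)) (tt N48532 F304003) (tt N63029 (iv5 F332523)) (tt N48531 F304004) (tt N43097 F237159))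
theorem Q76162 : ∀ i, i < 76162 → P i := stepQ 76161 Q76161 (allL N76161 (tt N73939 (iv1 F356523)) (tt N73620 (iv0 F342590)) (tt N73940 (iv2 F314868)) (tt N63029 F356843) (tt N105080 (iv4 F448691)) (tt N42888 (iv5 D150623)) (tt N62831 (iv6 F356848)) (tt N63035 (iv7 F318167)))
theorem Q76163 : ∀ i, i < 76163 → P i := stepQ 76162 Q76162 (allL N76162 (tt N92595 (iv1 F397548)) (tt N92594 F397546) (tt N72195 (iv2 F315880)) (tt N71682 (iv3 F360990)) (tt N42889 (iv4 D150624)) (tt N109609 D212839) (tt N71680 F360989) (tt N72193 (iv7 F315870)))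
theorem Q76164 : ∀ i, i < 76164 → P i := stepQ 76163 Q76163 (allL N76163 (tt N46591 F317486) (tt N46622 F301936) (tt N46561 F301937) (tt N42890 (iv3 D150626)) (tt N46852 F301938) (tt N77668 F354091) (tt N107275 (iv6 F457753)) (tt N46623 F301939))
theorem Q76165 : ∀ i, i < 76165 → P i := stepQ 76164 Q76164 (allL N76164 (tt N42895 (iv1 F237176)) (tt N42894 F237177) (tt N42896 F237173) (tt N66949 F237174) (tt N69665 F334081) (tt N56119 F237175) (tt N69664 (iv6 F334079)) (tt N42891 (iv7 D150631)))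
theorem Q76166 : ∀ i, i < 76166 → P i := stepQ 76165 Q76165 (allL N76165 (tt N72241 F353445) (tt N72399 (iv0 F342562)) (tt N72704 (iv2 F342582)) (tt N73953 F349700) (tt N42894 (iv4 D150653)) (tt N76221 (iv5 F342559)) (tt N73950 (iv6 F339075)) (tt N72705 F342574))
theorem Q76167 : ∀ i, i < 76167 → P i := stepQ 76166 Q76166 (allL N76166 (tt N76756 F353454) (tt N75916 F353455) (tt N100062 (iv2 F427399)) (tt N42895 (iv3 D150654)) (tt N100490 (iv4 F429147)) (tt N80101 (iv5 F261566)) (tt N94464 (iv6 F404572)) (tt N75799 F237194))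
theorem Q76168 : ∀ i, i < 76168 → P i := stepQ 76167 Q76167 (allL N76167 (tt N46857 F304293) (tt N45909 F344691) (tt N65410 (iv2 F353895)) (tt N80983 F353951) (tt N79473 (iv4 F358730)) (tt N42897 (iv5 D150666)) (tt N102277 (iv6 F436512)) (tt N43533 F237209))
theorem Q76169 : ∀ i, i < 76169 → P i := stepQ 76168 Q76168 (allL N76168 (tt N42898 (iv1 D150668)) (tt N80361 (iv0 F264109)) (tt N80363 F264120) (tt N109610 D212840) (tt N81169 (iv4 F364236)) (tt N67034 (iv5 F237210)) (tt N100816 (iv6 F430610)) (tt N75206 (iv7 F344686)))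
theorem Q76170 : ∀ i, i < 76170 → P i := stepQ 76169 Q76169 (allL N76169 (tt N84630 F369925) (tt N95499 F408374) (tt N59782 F344636) (tt N95350 (iv3 F407957)) (tt N42898 (iv4 D150669)) (tt N88143 F381916) (tt N59780 (iv6 F344640)) (tt N80364 (iv7 F264127)))
theorem Q76171 : ∀ i, i < 76171 → P i := stepQ 76170 Q76170 (allL N76170 (tt N75771 (iv1 F237221)) (tt N75458 F237222) (tt N102986 (iv2 F439552)) (tt N46850 F302237) (tt N42901 F237218) (tt N67013 F237219) (tt N75971 F237220) (tt N42899 (iv7 D150672)))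
theorem Q76172 : ∀ i, i < 76172 → P i := stepQ 76171 Q76171 (allL N76171 (tt N72168 (iv1 F366640)) (tt N63768 F237229) (tt N42903 F237228) (tt N89024 F384858) (tt N42902 (iv4 D150685)) (tt N109611 D212841) (tt N72581 (iv6 F341112)) (tt N72165 (iv7 F312927)))
theorem Q76173 : ∀ i, i < 76173 → P i := stepQ 76172 Q76172 (allL N76172 (tt N72165 (iv1 F312926)) (tt N42903 (iv0 D150687)) (tt N72168 F366639) (tt N91722 (iv3 F394174)) (tt N63770 F237234) (tt N99515 (iv5 F424946)) (tt N77680 (iv6 F244638)) (tt N63768 (iv7 F237235)))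
theorem Q76174 : ∀ i, i < 76174 → P i := stepQ 76173 Q76173 (allL N76173 (tt N42903 (iv1 D150688)) (tt N72165 (iv0 F312925)) (tt N63768 F237237) (tt N109612 D212842) (tt N63273 (iv4 F237236)) (tt N53100 F365644) (tt N42922 F237238) (tt N72168 (iv7 F366638)))
theorem Q76175 : ∀ i, i < 76175 → P i := stepQ 76174 Q76174 (allL N76174 (tt N109613 D212843) (tt N109614 D212844) (tt N109611 (iv2 F467728)) (tt N72177 F366563) (tt N53722 F360919) (tt N42903 (iv5 D150690)) (tt N53721 (iv6 F360920)) (tt N72169 (iv7 F366564)))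
theorem Q76176 : ∀ i, i < 76176 → P i := stepQ 76175 Q76175 (allL N76175 (tt N42904 (iv1 D150708)) (tt N77483 F242875) (tt N77485 (iv2 F242878)) (tt N90327 F389342) (tt N43542 (iv4 F237266)) (tt N87332 F379057) (tt N77473 (iv6 F242861)) (tt N43541 F237265))
theorem Q76177 : ∀ i, i < 76177 → P i := stepQ 76176 Q76176 (allL N76176 (tt N73497 F351591) (tt N73500 (iv0 F353408)) (tt N103076 (iv2 F439971)) (tt N44309 F315252) (tt N84548 (iv4 F369665)) (tt N42904 (iv5 D150710)) (tt N109615 D212845) (tt N100120 (iv7 F427555)))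
theorem Q76178 : ∀ i, i < 76178 → P i := stepQ 76177 Q76177 (allL N76177 (tt N76702 (iv1 F328910)) (tt N50405 (iv0 F329563)) (tt N85933 F374499) (tt N109616 D212846) (tt N42905 (iv4 D150751)) (tt N53052 (iv5 F349236)) (tt N109372 (iv6 F466632)) (tt N78809 (iv7 F250943)))
theorem Q76179 : ∀ i, i < 76179 → P i := stepQ 76178 Q76178 (allL N76178 (tt N75548 (iv1 F350247)) (tt N75547 F350246) (tt N75550 F350243) (tt N78815 (iv3 F250990)) (tt N109372 (iv4 F466630)) (tt N69623 F237313) (tt N42905 (iv6 D150752)) (tt N75530 (iv7 F350245)))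
theorem Q76180 : ∀ i, i < 76180 → P i := stepQ 76179 Q76179 (allL N76179 (tt N85912 F374438) (tt N42984 F237314) (tt N72825 F361588) (tt N49705 (iv3 F349208)) (tt N53834 F349212) (tt N42906 (iv5 D150754)) (tt N71856 F349211) (tt N72822 (iv7 F323748)))
theorem Q76181 : ∀ i, i < 76181 → P i := stepQ 76180 Q76180 (allL N76180 (tt N109617 D212847) (tt N109618 D212848) (tt N72826 (iv2 F366163)) (tt N70946 F360984) (tt N42907 F237315) (tt N71857 (iv5 F360983)) (tt N42906 (iv6 D150755)) (tt N71680 (iv7 F360987)))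
theorem Q76182 : ∀ i, i < 76182 → P i := stepQ 76181 Q76181 (allL N76181 (tt N74865 F366684) (tt N76278 (iv0 F369157)) (tt N76349 (iv2 F238406)) (tt N85078 (iv3 F371558)) (tt N76345 F360960) (tt N78955 (iv5 F251541)) (tt N42909 (iv6 D150763)) (tt N105912 (iv7 F452312)))
theorem Q76183 : ∀ i, i < 76183 → P i := stepQ 76182 Q76182 (allL N76182 (tt N74896 (iv1 F237330)) (tt N42910 (iv0 D150764)) (tt N76350 F238411) (tt N85850 (iv3 F374204)) (tt N42973 F237329) (tt N50867 (iv5 F340078)) (tt N109619 D212849) (tt N76351 (iv7 F238414)))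
theorem Q76184 : ∀ i, i < 76184 → P i := stepQ 76183 Q76183 (allL N76183 (tt N42910 (iv1 D150765)) (tt N74896 F237331) (tt N76351 F238416) (tt N53667 F335927) (tt N42974 F237332) (tt N50868 (iv5 F335926)) (tt N76276 (iv6 F335931)) (tt N76350 F238412))
theorem Q76185 : ∀ i, i < 76185 → P i := stepQ 76184 Q76184 (allL N76184 (tt N76281 F360982) (tt N109078 F465245) (tt N76346 (iv2 F238396)) (tt N53837 F365333) (tt N42911 F237334) (tt N84950 (iv5 F371166)) (tt N42910 (iv6 D150768)) (tt N99815 (iv7 F426360)))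
theorem Q76186 : ∀ i, i < 76186 → P i := stepQ 76185 Q76185 (allL N76185 (tt N42911 (iv1 D150770)) (tt N76347 F238401) (tt N61532 F238458) (tt N85874 (iv3 F374293)) (tt N105912 (iv4 F452313)) (tt N76361 (iv5 F238437)) (tt N86066 (iv6 F375044)) (tt N76345 (iv7 F238459)))
theorem Q76187 : ∀ i, i < 76187 → P i := stepQ 76186 Q76186 (allL N76186 (tt N61532 (iv1 F237337)) (tt N76345 F238400) (tt N76347 (iv2 F238398)) (tt N66816 F237335) (tt N99815 (iv4 F426359)) (tt N61522 (iv5 F335499)) (tt N98262 (iv6 F420231)) (tt N42911 (iv7 D150771)))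
theorem Q76188 : ∀ i, i < 76188 → P i := stepQ 76187 Q76187 (allL N76187 (tt N86245 (iv1 F375564)) (tt N49707 (iv0 F364323)) (tt N53236 (iv2 F364321)) (tt N42912 (iv3 D150772)) (tt N100130 (iv4 F427599)) (tt N53231 F364320) (tt N109620 D212850) (tt N53235 (iv7 F364322)))
theorem Q76189 : ∀ i, i < 76189 → P i := stepQ 76188 Q76188 (allL N76188 (tt N50930 (iv1 F349193)) (tt N50982 (iv0 F331245)) (tt N54086 F335921) (tt N53231 (iv3 F335922)) (tt N50868 (iv4 F335923)) (tt N42912 (iv5 D150773)) (tt N109621 D212851) (tt N53234 F335914))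
theorem Q76190 : ∀ i, i < 76190 → P i := stepQ 76189 Q76189 (allL N76189 (tt N108058 F460923) (tt N108080 F461027) (tt N94148 (iv2 F403431)) (tt N109620 (iv3 F467778)) (tt N42913 F237338) (tt N109622 D212852) (tt N42912 (iv6 D150774)) (tt N108065 (iv7 F460959)))
theorem Q76191 : ∀ i, i < 76191 → P i := stepQ 76190 Q76190 (allL N76190 (tt N51203 F349191) (tt N86374 F375998) (tt N54084 F349189) (tt N42915 (iv3 D150779)) (tt N99967 (iv4 F426994)) (tt N51198 F349188) (tt N99163 (iv6 F423540)) (tt N54087 (iv7 F349186)))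
theorem Q76192 : ∀ i, i < 76192 → P i := stepQ 76191 Q76191 (allL N76191 (tt N50982 (iv1 F331246)) (tt N50930 (iv0 F349192)) (tt N53234 F335912) (tt N51198 (iv3 F349190)) (tt N50867 (iv4 F335929)) (tt N42915 (iv5 D150780)) (tt N82766 (iv6 F361054)) (tt N54086 (iv7 F335924)))
theorem Q76193 : ∀ i, i < 76193 → P i := stepQ 76192 Q76192 (allL N76192 (tt N83199 (iv1 F354450)) (tt N83198 F354453) (tt N55342 F354447) (tt N42916 (iv3 D150783)) (tt N55288 (iv4 F354452)) (tt N53182 (iv5 F354446)) (tt N107967 (iv6 F460522)) (tt N76288 (iv7 F238090)))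
theorem Q76194 : ∀ i, i < 76194 → P i := stepQ 76193 Q76193 (allL N76193 (tt N53834 (iv1 F349215)) (tt N53052 F349237) (tt N49806 F340072) (tt N53832 (iv3 F340071)) (tt N42917 (iv4 D150792)) (tt N74896 F237351) (tt N49805 F340076) (tt N53835 (iv7 F329547)))
theorem Q76195 : ∀ i, i < 76195 → P i := stepQ 76194 Q76194 (allL N76194 (tt N93894 (iv1 F402320)) (tt N93893 (iv0 F402312)) (tt N42934 F237415) (tt N50642 F345167) (tt N42918 (iv4 D150847)) (tt N42929 F237417) (tt N58008 (iv6 F354398)) (tt N43577 F237416))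
theorem Q76196 : ∀ i, i < 76196 → P i := stepQ 76195 Q76195 (allL N76195 (tt N78136 (iv1 F353409)) (tt N42919 (iv0 D150849)) (tt N75501 (iv2 F237579)) (tt N109623 D212853) (tt N65285 F237581) (tt N109624 D212854) (tt N107840 (iv6 F459947)) (tt N75503 (iv7 F237580)))
theorem Q76197 : ∀ i, i < 76197 → P i := stepQ 76196 Q76196 (allL N76196 (tt N107741 F459498) (tt N72992 (iv0 F363684)) (tt N103079 (iv2 F439977)) (tt N58991 (iv3 F362487)) (tt N65510 F362486) (tt N42919 (iv5 D150851)) (tt N58990 (iv6 F362488)) (tt N78139 F362489))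
theorem Q76198 : ∀ i, i < 76198 → P i := stepQ 76197 Q76197 (allL N76197 (tt N94453 F404531) (tt N98380 F433935) (tt N100091 F427495) (tt N42920 (iv3 D150853)) (tt N72326 (iv4 F366535)) (tt N109625 D212855) (tt N107931 (iv6 F460345)) (tt N78156 (iv7 F366593)))
theorem Q76199 : ∀ i, i < 76199 → P i := stepQ 76198 Q76198 (allL N76198 (tt N99356 (iv1 F424253)) (tt N74259 F360566) (tt N74970 F330039) (tt N109625 (iv3 F467801)) (tt N75013 (iv4 F339606)) (tt N42920 (iv5 D150855)) (tt N74976 (iv6 F355130)) (tt N75780 F237587))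
theorem Q76200 : ∀ i, i < 76200 → P i := stepQ 76199 Q76199 (allL N76199 (tt N87051 (iv1 F378188)) (tt N91711 (iv0 F394139)) (tt N48941 F328506) (tt N42922 (iv3 D150897)) (tt N52258 (iv4 F329986)) (tt N53098 F328507) (tt N109612 (iv6 F467738)) (tt N72593 (iv7 F323762)))
theorem Q76201 : ∀ i, i < 76201 → P i := stepQ 76200 Q76200 (allL N76200 (tt N42923 (iv1 D150906)) (tt N62280 (iv0 F320755)) (tt N62285 (iv2 F320759)) (tt N109626 D212856) (tt N62687 (iv4 F352798)) (tt N64566 (iv5 F334423)) (tt N107994 (iv6 F460635)) (tt N62286 (iv7 F320765)))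
theorem Q76202 : ∀ i, i < 76202 → P i := stepQ 76201 Q76201 (allL N76201 (tt N72753 F353382) (tt N92597 (iv0 F397559)) (tt N62326 (iv2 F327176)) (tt N76069 F344903) (tt N42924 (iv4 D150910)) (tt N81864 (iv5 F351774)) (tt N44342 F313382) (tt N62323 (iv7 F362447)))
theorem Q76203 : ∀ i, i < 76203 → P i := stepQ 76202 Q76202 (allL N76202 (tt N109003 (iv1 F464861)) (tt N73185 (iv0 F342374)) (tt N62327 (iv2 F327178)) (tt N73181 (iv3 F319308)) (tt N108357 (iv4 F462231)) (tt N42924 (iv5 D150911)) (tt N72004 (iv6 F319304)) (tt N62324 (iv7 F361191)))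
theorem Q76204 : ∀ i, i < 76204 → P i := stepQ 76203 Q76203 (allL N76203 (tt N76842 (iv1 F351435)) (tt N72708 F351434) (tt N73178 (iv2 F348825)) (tt N42925 (iv3 D150913)) (tt N61940 (iv4 F351431)) (tt N109627 D212857) (tt N99831 (iv6 F426435)) (tt N62325 F351436))
theorem Q76205 : ∀ i, i < 76205 → P i := stepQ 76204 Q76204 (allL N76204 (tt N92597 (iv1 F397560)) (tt N72753 (iv0 F351437)) (tt N62323 (iv2 F362449)) (tt N90179 F388797) (tt N42925 (iv4 D150914)) (tt N88845 (iv5 F384323)) (tt N99833 (iv6 F426441)) (tt N62326 F362450))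
theorem Q76206 : ∀ i, i < 76206 → P i := stepQ 76205 Q76205 (allL N76205 (tt N73185 (iv1 F342369)) (tt N109003 F464862) (tt N62324 F361192) (tt N109627 (iv3 F467813)) (tt N107266 (iv4 F457707)) (tt N42925 (iv5 D150915)) (tt N82222 (iv6 F279616)) (tt N62327 F342375))
theorem Q76207 : ∀ i, i < 76207 → P i := stepQ 76206 Q76206 (allL N76206 (tt N67076 F237668) (tt N67070 (iv0 F237669)) (tt N43404 F237665) (tt N50616 F345142) (tt N42926 (iv4 D150956)) (tt N43403 F237667) (tt N65279 (iv6 F350066)) (tt N43583 F237666))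
theorem Q76208 : ∀ i, i < 76208 → P i := stepQ 76207 Q76207 (allL N76207 (tt N72293 F402502) (tt N109628 D212858) (tt N86204 (iv2 F375361)) (tt N62202 F331049) (tt N65279 (iv4 F350064)) (tt N62201 (iv5 F331048)) (tt N42926 (iv6 D150957)) (tt N95265 (iv7 F407634)))
theorem Q76209 : ∀ i, i < 76209 → P i := stepQ 76208 Q76208 (allL N76208 (tt N108839 F464208) (tt N55256 (iv0 F366085)) (tt N102316 (iv2 F436697)) (tt N42927 (iv3 D151154)) (tt N43861 F237825) (tt N50313 (iv5 F237827)) (tt N106785 (iv6 F455675)) (tt N43497 F237826))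
theorem Q76210 : ∀ i, i < 76210 → P i := stepQ 76209 Q76209 (allL N76209 (tt N43595 F237832) (tt N43594 F237833) (tt N43598 F237828) (tt N50313 F237829) (tt N43546 F237830) (tt N42927 (iv5 D151155)) (tt N109629 D212859) (tt N43498 F237831))
theorem Q76211 : ∀ i, i < 76211 → P i := stepQ 76210 Q76210 (allL N76210 (tt N47736 F312885) (tt N47679 F312886) (tt N43599 F237834) (tt N106785 F455672) (tt N42928 F237835) (tt N109630 D212860) (tt N42927 (iv6 D151156)) (tt N47733 F312887))
theorem Q76212 : ∀ i, i < 76212 → P i := stepQ 76211 Q76211 (allL N76211 (tt N43575 F237837) (tt N42928 (iv0 D151157)) (tt N43405 F242940) (tt N100125 F427583) (tt N80355 F308515) (tt N45735 F308516) (tt N75280 F237836) (tt N43600 (iv7 F241146)))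
theorem Q76213 : ∀ i, i < 76213 → P i := stepQ 76212 Q76212 (allL N76212 (tt N109631 D212861) (tt N55283 (iv0 F365231)) (tt N109632 D212862) (tt N42930 (iv3 D151162)) (tt N43873 F237849) (tt N61292 F241266) (tt N109633 D212863) (tt N67084 F237850))
theorem Q76214 : ∀ i, i < 76214 → P i := stepQ 76213 Q76213 (allL N76213 (tt N76975 (iv1 F241264)) (tt N76976 (iv0 F241273)) (tt N67082 F237851) (tt N61292 (iv3 F241265)) (tt N75514 F237853) (tt N42930 (iv5 D151163)) (tt N109634 D212864) (tt N67085 F237852))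
theorem Q76215 : ∀ i, i < 76215 → P i := stepQ 76214 Q76214 (allL N76214 (tt N81257 F360019) (tt N81255 F381883) (tt N67083 F237854) (tt N109633 (iv3 F467852)) (tt N42931 F237855) (tt N87433 (iv5 F379318)) (tt N42930 (iv6 D151164)) (tt N81254 (iv7 F366095)))
theorem Q76216 : ∀ i, i < 76216 → P i := stepQ 76215 Q76215 (allL N76215 (tt N93425 (iv1 F400714)) (tt N93428 (iv0 F400713)) (tt N93426 F400712) (tt N42933 (iv3 D151166)) (tt N76050 F237856) (tt N107221 (iv5 F457511)) (tt N92886 F398652) (tt N67081 F237857))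
theorem Q76217 : ∀ i, i < 76217 → P i := stepQ 76216 Q76216 (allL N76216 (tt N76976 (iv1 F241274)) (tt N76975 (iv0 F241263)) (tt N67085 F237858) (tt N107221 (iv3 F457510)) (tt N75517 F237859) (tt N42933 (iv5 D151167)) (tt N96537 F412903) (tt N67082 F237860))
theorem Q76218 : ∀ i, i < 76218 → P i := stepQ 76217 Q76217 (allL N76217 (tt N57885 (iv1 F355983)) (tt N58006 (iv0 F354405)) (tt N58008 F354399) (tt N74216 F354404) (tt N59641 (iv4 F354400)) (tt N57905 (iv5 F354401)) (tt N42934 (iv6 D151173)) (tt N58009 (iv7 F354402)))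
theorem Q76219 : ∀ i, i < 76219 → P i := stepQ 76218 Q76218 (allL N76218 (tt N44992 (iv1 F237878)) (tt N42935 (iv0 D151179)) (tt N44995 (iv2 F237877)) (tt N109635 D212865) (tt N44980 F237876) (tt N100187 (iv5 F427907)) (tt N71282 F359428) (tt N44979 F237879))
theorem Q76220 : ∀ i, i < 76220 → P i := stepQ 76219 Q76219 (allL N76219 (tt N63361 F237883) (tt N63364 F237884) (tt N100237 (iv2 F428104)) (tt N71220 (iv3 F366459)) (tt N109636 D212866) (tt N42935 (iv5 D151181)) (tt N109637 D212867) (tt N66581 F237882))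
theorem Q76221 : ∀ i, i < 76221 → P i := stepQ 76220 Q76220 (allL N76220 (tt N72061 (iv1 F363873)) (tt N108427 F462517) (tt N100238 (iv2 F428108)) (tt N71221 F366471) (tt N42936 F237885) (tt N108429 (iv5 F462520)) (tt N42935 (iv6 D151182)) (tt N71813 (iv7 F366472)))
theorem Q76222 : ∀ i, i < 76222 → P i := stepQ 76221 Q76221 (allL N76221 (tt N42936 (iv1 D151184)) (tt N73417 (iv0 F342561)) (tt N73418 (iv2 F342579)) (tt N44075 F342556) (tt N108404 (iv4 F462439)) (tt N76165 F342559) (tt N73615 (iv6 F342557)) (tt N72406 F342554))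
theorem Q76223 : ∀ i, i < 76223 → P i := stepQ 76222 Q76222 (allL N76222 (tt N92797 (iv1 F398274)) (tt N86033 F374966) (tt N85074 (iv2 F371536)) (tt N42937 (iv3 D151222)) (tt N103035 (iv4 F439773)) (tt N50092 F237950) (tt N97953 (iv6 F418951)) (tt N85073 (iv7 F371533)))
theorem Q76224 : ∀ i, i < 76224 → P i := stepQ 76223 Q76223 (allL N76223 (tt N61091 F237951) (tt N63470 F237952) (tt N76630 F239592) (tt N109638 D212868) (tt N42937 (iv4 D151223)) (tt N87516 (iv5 F379627)) (tt N97956 (iv6 F418959)) (tt N76629 F239589))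
theorem Q76225 : ∀ i, i < 76225 → P i := stepQ 76224 Q76224 (allL N76224 (tt N63470 F237953) (tt N61091 F237954) (tt N76629 F239588) (tt N53820 (iv3 F366025)) (tt N42938 (iv4 D151224)) (tt N87517 (iv5 F379628)) (tt N104975 F448225) (tt N76630 (iv7 F239590)))
theorem Q76226 : ∀ i, i < 76226 → P i := stepQ 76225 Q76225 (allL N76225 (tt N109639 D212869) (tt N109640 D212870) (tt N98257 (iv2 F420208)) (tt N97975 (iv3 F419033)) (tt N104975 F448224) (tt N58910 F237955) (tt N42938 (iv6 D151225)) (tt N105681 (iv7 F451223)))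
theorem Q76227 : ∀ i, i < 76227 → P i := stepQ 76226 Q76226 (allL N76226 (tt N98390 (iv1 F420750)) (tt N42939 (iv0 D151231)) (tt N98388 (iv2 F420747)) (tt N109641 D212871) (tt N109642 D212872) (tt N70655 F420748) (tt N109643 D212873) (tt N98389 F420749))
theorem Q76228 : ∀ i, i < 76228 → P i := stepQ 76227 Q76227 (allL N76227 (tt N42939 (iv1 D151232)) (tt N98390 F420743) (tt N98389 (iv2 F420737)) (tt N62002 F338619) (tt N107365 (iv4 F458110)) (tt N62001 (iv5 F338618)) (tt N98316 (iv6 F420474)) (tt N98388 (iv7 F420744)))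
theorem Q76229 : ∀ i, i < 76229 → P i := stepQ 76228 Q76228 (allL N76228 (tt N98389 (iv1 F420735)) (tt N98388 F420742) (tt N98390 (iv2 F420738)) (tt N42947 F237963) (tt N89776 (iv4 F387513)) (tt N70833 (iv5 F362730)) (tt N98258 (iv6 F420213)) (tt N42939 (iv7 D151233)))
theorem Q76230 : ∀ i, i < 76230 → P i := stepQ 76229 Q76229 (allL N76229 (tt N93322 (iv1 F400399)) (tt N61126 F237966) (tt N50301 F237964) (tt N93298 F400302) (tt N42940 (iv4 D151234)) (tt N93563 (iv5 F401146)) (tt N109644 D212874) (tt N50305 F237965))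
theorem Q76231 : ∀ i, i < 76231 → P i := stepQ 76230 Q76230 (allL N76230 (tt N86826 F377325) (tt N86825 (iv0 F377319)) (tt N50302 F237967) (tt N42942 F237968) (tt N109644 (iv4 F467900)) (tt N51514 F237969) (tt N42940 (iv6 D151235)) (tt N109645 D212875))
theorem Q76232 : ∀ i, i < 76232 → P i := stepQ 76231 Q76231 (allL N76231 (tt N105443 F450291) (tt N109646 D212876) (tt N92969 (iv2 F398955)) (tt N82424 F360003) (tt N42942 F237970) (tt N71093 (iv5 F366020)) (tt N42941 (iv6 D151237)) (tt N109647 D212877))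
theorem Q76233 : ∀ i, i < 76233 → P i := stepQ 76232 Q76232 (allL N76232 (tt N92970 (iv1 F398964)) (tt N42942 (iv0 D151238)) (tt N92967 F399558) (tt N109639 F467877) (tt N109648 D212878) (tt N109649 D212879) (tt N98287 (iv6 F420340)) (tt N92968 F399556))
theorem Q76234 : ∀ i, i < 76234 → P i := stepQ 76233 Q76233 (allL N76233 (tt N42942 (iv1 D151239)) (tt N92970 F398963) (tt N92968 (iv2 F399554)) (tt N98652 F421745) (tt N109650 D212880) (tt N92954 (iv5 F398902)) (tt N109651 D212881) (tt N92967 (iv7 F399557)))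
theorem Q76235 : ∀ i, i < 76235 → P i := stepQ 76234 Q76234 (allL N76234 (tt N92968 (iv1 F398954)) (tt N92967 F398962) (tt N92970 (iv2 F398959)) (tt N109645 (iv3 F467903)) (tt N109647 (iv4 F467913)) (tt N56606 F237971) (tt N92167 (iv6 F396060)) (tt N42942 (iv7 D151240)))
theorem Q76236 : ∀ i, i < 76236 → P i := stepQ 76235 Q76235 (allL N76235 (tt N94716 F405649) (tt N103052 (iv0 F439858)) (tt N109652 D212882) (tt N42943 (iv3 D151241)) (tt N109653 D212883) (tt N93135 (iv5 F399633)) (tt N109654 D212884) (tt N92128 (iv7 F395877)))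
theorem Q76237 : ∀ i, i < 76237 → P i := stepQ 76236 Q76236 (allL N76236 (tt N109648 F467921) (tt N109650 (iv0 F467928)) (tt N93133 (iv2 F399626)) (tt N109654 (iv3 F467942)) (tt N56450 F237972) (tt N109655 D212885) (tt N42943 (iv6 D151242)) (tt N109656 D212886))
theorem Q76238 : ∀ i, i < 76238 → P i := stepQ 76237 Q76237 (allL N76237 (tt N96105 F411079) (tt N42944 (iv0 D151247)) (tt N95051 (iv2 F406846)) (tt N95682 F409122) (tt N66799 F400769) (tt N97767 (iv5 F418225)) (tt N109657 D212887) (tt N98232 (iv7 F420075)))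
theorem Q76239 : ∀ i, i < 76239 → P i := stepQ 76238 Q76238 (allL N76238 (tt N42944 (iv1 D151248)) (tt N96105 F411078) (tt N98232 (iv2 F420074)) (tt N58004 F406848) (tt N66800 F406849) (tt N58002 F406850) (tt N98208 (iv6 F419995)) (tt N95051 F406851))
theorem Q76240 : ∀ i, i < 76240 → P i := stepQ 76239 Q76239 (allL N76239 (tt N98232 (iv1 F420077)) (tt N95051 (iv0 F406852)) (tt N96105 (iv2 F411073)) (tt N89783 (iv3 F387539)) (tt N42947 F237974) (tt N59378 F363668) (tt N57092 F339966) (tt N42944 (iv7 D151250)))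
theorem Q76241 : ∀ i, i < 76241 → P i := stepQ 76240 Q76240 (allL N76240 (tt N109089 (iv1 F465282)) (tt N63314 (iv0 F421874)) (tt N106542 (iv2 F454819)) (tt N42945 (iv3 D151252)) (tt N107405 (iv4 F458235)) (tt N106539 (iv5 F454813)) (tt N109658 D212888) (tt N98265 (iv7 F420239)))
theorem Q76242 : ∀ i, i < 76242 → P i := stepQ 76241 Q76241 (allL N76241 (tt N94747 (iv1 F405799)) (tt N61201 F363679) (tt N57978 F363670) (tt N82447 (iv3 F363677)) (tt N42945 (iv4 D151253)) (tt N57977 (iv5 F363678)) (tt N95135 (iv6 F407185)) (tt N94757 (iv7 F405826)))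
theorem Q76243 : ∀ i, i < 76243 → P i := stepQ 76242 Q76242 (allL N76242 (tt N99804 (iv1 F426300)) (tt N70653 (iv0 F405875)) (tt N98263 (iv2 F420232)) (tt N106539 (iv3 F454815)) (tt N109659 D212889) (tt N42945 (iv5 D151254)) (tt N109660 D212890) (tt N75703 F237981))
theorem Q76244 : ∀ i, i < 76244 → P i := stepQ 76243 Q76243 (allL N76243 (tt N109651 F467932) (tt N109661 D212891) (tt N98264 (iv2 F420236)) (tt N109658 (iv3 F467966)) (tt N95135 F407186) (tt N98524 (iv5 F421200)) (tt N42945 (iv6 D151255)) (tt N98322 (iv7 F420498)))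
theorem Q76245 : ∀ i, i < 76245 → P i := stepQ 76244 Q76244 (allL N76244 (tt N93766 (iv1 F401821)) (tt N93787 (iv0 F401885)) (tt N98313 (iv2 F420463)) (tt N42946 (iv3 D151257)) (tt N62172 F363673) (tt N69545 (iv5 F363675)) (tt N89854 F387734) (tt N72933 (iv7 F363674)))
theorem Q76246 : ∀ i, i < 76246 → P i := stepQ 76245 Q76245 (allL N76245 (tt N70653 F365711) (tt N99804 (iv0 F426299)) (tt N75703 (iv2 F237978)) (tt N69545 F363676) (tt N103531 (iv4 F441959)) (tt N42946 (iv5 D151259)) (tt N45083 F237977) (tt N98263 (iv7 F420234)))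
theorem Q76247 : ∀ i, i < 76247 → P i := stepQ 76246 Q76246 (allL N76246 (tt N63499 F237986) (tt N63497 F237987) (tt N44091 F237985) (tt N85668 (iv3 F373446)) (tt N55306 F326521) (tt N42948 (iv5 D151261)) (tt N88370 (iv6 F382772)) (tt N88061 F381636))
theorem Q76248 : ∀ i, i < 76248 → P i := stepQ 76247 Q76247 (allL N76247 (tt N89089 (iv1 F385117)) (tt N89093 (iv0 F385140)) (tt N90683 (iv2 F390511)) (tt N42949 (iv3 D151262)) (tt N71209 (iv4 F352873)) (tt N81557 (iv5 F362617)) (tt N73684 (iv6 F344499)) (tt N100127 (iv7 F427588)))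
theorem Q76249 : ∀ i, i < 76249 → P i := stepQ 76248 Q76248 (allL N76248 (tt N73983 F344483) (tt N100505 (iv0 F429224)) (tt N100128 (iv2 F427590)) (tt N91365 (iv3 F392879)) (tt N81691 (iv4 F344481)) (tt N109662 D212892) (tt N42950 (iv6 D151267)) (tt N73689 (iv7 F344498)))
theorem Q76250 : ∀ i, i < 76250 → P i := stepQ 76249 Q76249 (allL N76249 (tt N72316 (iv1 F366531)) (tt N42953 (iv0 D151277)) (tt N72326 (iv2 F366596)) (tt N90654 (iv3 F390412)) (tt N100091 (iv4 F427493)) (tt N87377 F379160) (tt N96821 (iv6 F414119)) (tt N72325 F366597))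
theorem Q76251 : ∀ i, i < 76251 → P i := stepQ 76250 Q76250 (allL N76250 (tt N42953 (iv1 D151278)) (tt N72316 F366533) (tt N72325 F366595) (tt N91371 F466467) (tt N78156 F366536) (tt N87378 (iv5 F379161)) (tt N62490 (iv6 F366537)) (tt N72326 (iv7 F366594)))
theorem Q76252 : ∀ i, i < 76252 → P i := stepQ 76251 Q76251 (allL N76251 (tt N87313 (iv1 F379037)) (tt N99700 (iv0 F425800)) (tt N84535 (iv2 F369643)) (tt N94444 (iv3 F404499)) (tt N49904 F362036) (tt N42953 (iv5 D151279)) (tt N84534 F369642) (tt N72327 (iv7 F362037)))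
theorem Q76253 : ∀ i, i < 76253 → P i := stepQ 76252 Q76252 (allL N76252 (tt N101821 F434512) (tt N100503 (iv0 F429219)) (tt N72330 F366527) (tt N91653 F393911) (tt N42954 (iv4 D151281)) (tt N87373 F379157) (tt N59867 (iv6 F363692)) (tt N72329 (iv7 F363705)))
theorem Q76254 : ∀ i, i < 76254 → P i := stepQ 76253 Q76253 (allL N76253 (tt N64637 (iv1 F340937)) (tt N72690 (iv0 F345702)) (tt N72331 (iv2 F346820)) (tt N92213 (iv3 F396295)) (tt N89177 (iv4 F385455)) (tt N42954 (iv5 D151282)) (tt N82094 (iv6 F278484)) (tt N44866 F238005))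
theorem Q76255 : ∀ i, i < 76255 → P i := stepQ 76254 Q76254 (allL N76254 (tt N73207 (iv1 F318332)) (tt N62563 (iv0 F318306)) (tt N62331 (iv2 F318334)) (tt N73193 F364531) (tt N59867 F339855) (tt N62330 (iv5 F316908)) (tt N42954 (iv6 D151283)) (tt N59866 (iv7 F339849)))
theorem Q76256 : ∀ i, i < 76256 → P i := stepQ 76255 Q76255 (allL N76255 (tt N44270 F423710) (tt N100450 F429038) (tt N99962 (iv2 F426971)) (tt N44230 F320478) (tt N42955 (iv4 D151303)) (tt N109663 D212893) (tt N109664 D212894) (tt N72284 F320479))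
theorem Q76257 : ∀ i, i < 76257 → P i := stepQ 76256 Q76256 (allL N76256 (tt N73198 (iv1 F348118)) (tt N61943 (iv0 F351427)) (tt N62689 F348131) (tt N42957 F238016) (tt N109664 (iv4 F467996)) (tt N62685 (iv5 F318342)) (tt N42955 (iv6 D151305)) (tt N62444 F319187))
theorem Q76258 : ∀ i, i < 76258 → P i := stepQ 76257 Q76257 (allL N76257 (tt N71282 (iv1 F359430)) (tt N71272 (iv0 F314611)) (tt N71280 F359421) (tt N44380 F320467) (tt N42958 (iv4 D151311)) (tt N98493 (iv5 F421112)) (tt N62445 F320468) (tt N71197 F320469))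
theorem Q76259 : ∀ i, i < 76259 → P i := stepQ 76258 Q76258 (allL N76258 (tt N42961 (iv1 D151316)) (tt N74472 (iv0 F324893)) (tt N62706 (iv2 F353555)) (tt N74460 (iv3 F355820)) (tt N43046 F353554) (tt N75559 F353535) (tt N109665 D212895) (tt N74473 F353547))
theorem Q76260 : ∀ i, i < 76260 → P i := stepQ 76259 Q76259 (allL N76259 (tt N74445 (iv1 F355815)) (tt N83810 (iv0 F349278)) (tt N79073 (iv2 F252152)) (tt N56637 F238035) (tt N75561 (iv4 F341575)) (tt N42961 (iv5 D151317)) (tt N42962 F238036) (tt N98266 (iv7 F420241)))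
theorem Q76261 : ∀ i, i < 76261 → P i := stepQ 76260 Q76260 (allL N76260 (tt N62706 (iv1 F343310)) (tt N74473 (iv0 F343294)) (tt N74472 (iv2 F324894)) (tt N73147 (iv3 F318362)) (tt N62943 F343311) (tt N98266 (iv5 F420242)) (tt N73145 (iv6 F318939)) (tt N42961 (iv7 D151318)))
theorem Q76262 : ∀ i, i < 76262 → P i := stepQ 76261 Q76261 (allL N76261 (tt N57275 F238039) (tt N57268 F238040) (tt N57272 F238037) (tt N68132 (iv3 F341584)) (tt N42962 (iv4 D151319)) (tt N109666 D212896) (tt N75561 F341577) (tt N57273 F238038))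
theorem Q76263 : ∀ i, i < 76263 → P i := stepQ 76262 Q76262 (allL N76262 (tt N64178 F355078) (tt N64181 (iv0 F353785)) (tt N76337 (iv2 F238383)) (tt N64626 F238041) (tt N42964 F238042) (tt N109667 D212897) (tt N42963 (iv6 D151320)) (tt N77356 (iv7 F354934)))
theorem Q76264 : ∀ i, i < 76264 → P i := stepQ 76263 Q76263 (allL N76263 (tt N42964 (iv1 D151322)) (tt N92811 F398338) (tt N92810 (iv2 F398332)) (tt N46027 F355081) (tt N100755 (iv4 F430305)) (tt N109366 (iv5 F466602)) (tt N99750 (iv6 F426054)) (tt N92809 F398324))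
theorem Q76265 : ∀ i, i < 76265 → P i := stepQ 76264 Q76264 (allL N76264 (tt N92810 (iv1 F398328)) (tt N92809 (iv0 F398327)) (tt N92811 (iv2 F398334)) (tt N79058 (iv3 F252036)) (tt N77356 F354932) (tt N79058 (iv5 F252037)) (tt N85813 (iv6 F374069)) (tt N42964 (iv7 D151323)))
theorem Q76266 : ∀ i, i < 76266 → P i := stepQ 76265 Q76265 (allL N76265 (tt N78968 (iv1 F354956)) (tt N64719 F354955) (tt N76338 (iv2 F238385)) (tt N45279 F238043) (tt N42966 F238044) (tt N89846 (iv5 F387708)) (tt N42965 (iv6 D151324)) (tt N78981 (iv7 F355769)))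
theorem Q76267 : ∀ i, i < 76267 → P i := stepQ 76266 Q76266 (allL N76266 (tt N85821 (iv1 F374117)) (tt N50031 (iv0 F355775)) (tt N85813 (iv2 F374067)) (tt N92191 F396174) (tt N78981 F355774) (tt N50019 (iv5 F349338)) (tt N92811 (iv6 F398337)) (tt N42966 (iv7 D151327)))
theorem Q76268 : ∀ i, i < 76268 → P i := stepQ 76267 Q76267 (allL N76267 (tt N77050 F348674) (tt N109190 (iv0 F465717)) (tt N63909 F238046) (tt N42968 F238047) (tt N80451 (iv4 F267780)) (tt N109668 D212898) (tt N42967 (iv6 D151328)) (tt N109017 (iv7 F464947)))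
theorem Q76269 : ∀ i, i < 76269 → P i := stepQ 76268 Q76268 (allL N76268 (tt N64391 (iv1 F238053)) (tt N42968 (iv0 D151329)) (tt N61598 (iv2 F357120)) (tt N109669 D212899) (tt N43024 F348665) (tt N109670 D212900) (tt N109671 D212901) (tt N64389 F357119))
theorem Q76270 : ∀ i, i < 76270 → P i := stepQ 76269 Q76269 (allL N76269 (tt N109672 D212902) (tt N88566 (iv0 F429298)) (tt N64390 F238049) (tt N109668 (iv3 F468021)) (tt N109673 D212903) (tt N42968 (iv5 D151331)) (tt N64388 F238050) (tt N109674 D212904))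
theorem Q76271 : ∀ i, i < 76271 → P i := stepQ 76270 Q76270 (allL N76270 (tt N64389 (iv1 F238054)) (tt N61598 (iv0 F356465)) (tt N64391 F238051) (tt N109017 (iv3 F464945)) (tt N42972 F238052) (tt N109674 (iv5 F468048)) (tt N61545 (iv6 F349048)) (tt N42968 (iv7 D151332)))
theorem Q76272 : ∀ i, i < 76272 → P i := stepQ 76271 Q76271 (allL N76271 (tt N76342 F340892) (tt N63296 (iv0 F353310)) (tt N76339 (iv2 F357218)) (tt N64749 (iv3 F340887)) (tt N42969 (iv4 D151335)) (tt N109675 D212905) (tt N105292 (iv6 F449593)) (tt N76340 (iv7 F348653)))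
theorem Q76273 : ∀ i, i < 76273 → P i := stepQ 76272 Q76272 (allL N76272 (tt N109077 (iv1 F465243)) (tt N75539 (iv0 F427791)) (tt N100159 (iv2 F427762)) (tt N109051 (iv3 F465109)) (tt N109676 D212906) (tt N42969 (iv5 D151336)) (tt N109677 D212907) (tt N100161 (iv7 F427769)))
theorem Q76274 : ∀ i, i < 76274 → P i := stepQ 76273 Q76273 (allL N76273 (tt N85822 F426348) (tt N74446 (iv0 F422008)) (tt N100160 (iv2 F427765)) (tt N98721 (iv3 F422010)) (tt N105292 (iv4 F449592)) (tt N98720 (iv5 F422007)) (tt N42969 (iv6 D151337)) (tt N99803 (iv7 F426293)))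
theorem Q76275 : ∀ i, i < 76275 → P i := stepQ 76274 Q76274 (allL N76274 (tt N63296 (iv1 F348675)) (tt N76342 (iv0 F348666)) (tt N76340 (iv2 F348650)) (tt N75972 F348663) (tt N42970 (iv4 D151340)) (tt N108423 (iv5 F462503)) (tt N99540 (iv6 F425051)) (tt N76339 (iv7 F357216)))
theorem Q76276 : ∀ i, i < 76276 → P i := stepQ 76275 Q76275 (allL N76275 (tt N75539 (iv1 F427792)) (tt N109077 F465242) (tt N100161 (iv2 F427767)) (tt N82931 (iv3 F356760)) (tt N109678 D212908) (tt N42970 (iv5 D151341)) (tt N82930 F356761) (tt N100159 (iv7 F427763)))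
theorem Q76277 : ∀ i, i < 76277 → P i := stepQ 76276 Q76276 (allL N76276 (tt N100165 (iv1 F427790)) (tt N42971 (iv0 D151343)) (tt N100162 F427772) (tt N89620 (iv3 F386987)) (tt N76281 (iv4 F335932)) (tt N109679 D212909) (tt N76183 F335931) (tt N100163 (iv7 F427776)))
theorem Q76278 : ∀ i, i < 76278 → P i := stepQ 76277 Q76277 (allL N76277 (tt N42971 (iv1 D151344)) (tt N100165 F427789) (tt N100163 F427777) (tt N92821 F398379) (tt N109078 (iv4 F465244)) (tt N79087 (iv5 F252359)) (tt N109680 D212910) (tt N100162 F427774))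
theorem Q76279 : ∀ i, i < 76279 → P i := stepQ 76278 Q76278 (allL N76278 (tt N76181 F369157) (tt N98526 (iv0 F421206)) (tt N100164 (iv2 F427778)) (tt N104059 (iv3 F443966)) (tt N42971 (iv4 D151345)) (tt N104058 F443964) (tt N42975 F238058) (tt N99796 (iv7 F426258)))
theorem Q76280 : ∀ i, i < 76280 → P i := stepQ 76279 Q76279 (allL N76279 (tt N100163 (iv1 F427775)) (tt N100162 (iv0 F427773)) (tt N100165 (iv2 F427784)) (tt N86215 F375405) (tt N99796 (iv4 F426257)) (tt N42972 F238059) (tt N99794 (iv6 F426244)) (tt N42971 (iv7 D151346)))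
theorem Q76281 : ∀ i, i < 76281 → P i := stepQ 76280 Q76280 (allL N76280 (tt N109681 D212911) (tt N109682 D212912) (tt N94141 (iv2 F403402)) (tt N100231 (iv3 F428083)) (tt N109619 (iv4 F467776)) (tt N94132 (iv5 F403365)) (tt N42973 (iv6 D151347)) (tt N109683 D212913))
theorem Q76282 : ∀ i, i < 76282 → P i := stepQ 76281 Q76281 (allL N76281 (tt N74950 (iv1 F363412)) (tt N76184 (iv0 F360982)) (tt N100166 (iv2 F427793)) (tt N92742 (iv3 F398048)) (tt N76276 F335932) (tt N92735 (iv5 F398030)) (tt N42974 (iv6 D151348)) (tt N109684 D212914))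
theorem Q76283 : ∀ i, i < 76283 → P i := stepQ 76282 Q76282 (allL N76282 (tt N42975 (iv1 D151350)) (tt N50985 F349243) (tt N50821 (iv2 F329485)) (tt N51001 F360957) (tt N43028 F238064) (tt N50820 (iv5 F349244)) (tt N61611 F360958) (tt N50984 (iv7 F329800)))
theorem Q76284 : ∀ i, i < 76284 → P i := stepQ 76283 Q76283 (allL N76283 (tt N90182 (iv1 F388813)) (tt N84783 F376457) (tt N85179 (iv2 F371826)) (tt N42975 (iv3 D151351)) (tt N85355 (iv4 F372331)) (tt N86542 (iv5 F376456)) (tt N104059 (iv6 F443970)) (tt N109034 (iv7 F465025)))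
theorem Q76285 : ∀ i, i < 76285 → P i := stepQ 76284 Q76284 (allL N76284 (tt N109685 D212915) (tt N109054 (iv0 F465129)) (tt N44053 F238075) (tt N85080 (iv3 F371568)) (tt N85881 (iv4 F374311)) (tt N68431 F238076) (tt N42979 (iv6 D151366)) (tt N109035 (iv7 F465029)))
theorem Q76286 : ∀ i, i < 76286 → P i := stepQ 76285 Q76285 (allL N76285 (tt N44061 (iv1 F238087)) (tt N42980 (iv0 D151370)) (tt N44059 F247795) (tt N75568 F247796) (tt N109617 (iv4 F467762)) (tt N56136 (iv5 F312015)) (tt N75565 F247797) (tt N44060 F247798))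
theorem Q76287 : ∀ i, i < 76287 → P i := stepQ 76286 Q76286 (allL N76286 (tt N42980 (iv1 D151371)) (tt N44061 F238085) (tt N44060 F247792) (tt N87899 (iv3 F381019)) (tt N109618 (iv4 F467771)) (tt N55808 (iv5 F312013)) (tt N55811 F333264) (tt N44059 F247793))
theorem Q76288 : ∀ i, i < 76288 → P i := stepQ 76287 Q76287 (allL N76287 (tt N44060 (iv1 F238088)) (tt N44059 F238089) (tt N44061 F238086) (tt N88438 (iv3 F383047)) (tt N107125 (iv4 F457091)) (tt N64216 (iv5 F304000)) (tt N100167 (iv6 F427802)) (tt N42980 (iv7 D151372)))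
theorem Q76289 : ∀ i, i < 76289 → P i := stepQ 76288 Q76288 (allL N76288 (tt N89490 (iv1 F386638)) (tt N89936 (iv0 F388052)) (tt N48936 F354448) (tt N42981 (iv3 D151373)) (tt N89921 (iv4 F387996)) (tt N48935 F354449) (tt N109686 D212916) (tt N76192 F238090))
theorem Q76290 : ∀ i, i < 76290 → P i := stepQ 76289 Q76289 (allL N76289 (tt N73993 (iv1 F362321)) (tt N89534 F386725) (tt N44073 F238091) (tt N109686 (iv3 F468106)) (tt N42982 F238092) (tt N109687 D212917) (tt N42981 (iv6 D151374)) (tt N73268 (iv7 F348145)))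
theorem Q76291 : ∀ i, i < 76291 → P i := stepQ 76290 Q76290 (allL N76290 (tt N44076 (iv1 F238095)) (tt N42982 (iv0 D151375)) (tt N44074 F252475) (tt N72406 F339085) (tt N108058 (iv4 F460920)) (tt N107572 (iv5 F458794)) (tt N48103 (iv6 F252467)) (tt N44075 F252476))
theorem Q76292 : ∀ i, i < 76292 → P i := stepQ 76291 Q76291 (allL N76291 (tt N42982 (iv1 D151376)) (tt N44076 F238093) (tt N44075 F252477) (tt N109348 F466509) (tt N108080 (iv4 F461024)) (tt N76517 (iv5 F239078)) (tt N73195 (iv6 F333272)) (tt N44074 F252478))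
theorem Q76293 : ∀ i, i < 76293 → P i := stepQ 76292 Q76292 (allL N76292 (tt N44075 (iv1 F238096)) (tt N44074 F238097) (tt N44076 F238094) (tt N73659 (iv3 F340826)) (tt N73268 (iv4 F340830)) (tt N53330 (iv5 F340836)) (tt N56065 (iv6 F340834)) (tt N42982 (iv7 D151377)))
theorem Q76294 : ∀ i, i < 76294 → P i := stepQ 76293 Q76293 (allL N76293 (tt N109040 (iv1 F465054)) (tt N42983 (iv0 D151378)) (tt N53912 (iv2 F349222)) (tt N59290 F349224) (tt N102733 (iv4 F438403)) (tt N53282 F349225) (tt N108032 (iv6 F460817)) (tt N78173 (iv7 F349223)))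
theorem Q76295 : ∀ i, i < 76295 → P i := stepQ 76294 Q76294 (allL N76294 (tt N42983 (iv1 D151379)) (tt N109040 F465055) (tt N78173 F349219) (tt N53877 F349220) (tt N109688 D212918) (tt N53281 (iv5 F349218)) (tt N105053 (iv6 F448575)) (tt N53912 F349221))
theorem Q76296 : ∀ i, i < 76296 → P i := stepQ 76295 Q76295 (allL N76295 (tt N53912 (iv1 F365256)) (tt N78173 F365255) (tt N42983 (iv2 D151380)) (tt N53640 (iv3 F359359)) (tt N89519 (iv4 F386707)) (tt N85910 (iv5 F374425)) (tt N59307 (iv6 F366477)) (tt N109040 (iv7 F465053)))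
theorem Q76297 : ∀ i, i < 76297 → P i := stepQ 76296 Q76296 (allL N76296 (tt N72617 F357139) (tt N86236 F375508) (tt N85910 (iv2 F374424)) (tt N42984 F238098) (tt N52633 (iv4 F349216)) (tt N42983 (iv5 D151381)) (tt N75672 (iv6 F356572)) (tt N109041 (iv7 F465059)))
theorem Q76298 : ∀ i, i < 76298 → P i := stepQ 76297 Q76297 (allL N76297 (tt N43930 F356575) (tt N85783 (iv0 F373922)) (tt N49395 F356576) (tt N75672 F356577) (tt N51484 F356578) (tt N75671 F356579) (tt N42984 (iv6 D151383)) (tt N51486 F356580))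
theorem Q76299 : ∀ i, i < 76299 → P i := stepQ 76298 Q76298 (allL N76298 (tt N42986 (iv1 D151386)) (tt N92588 F397515) (tt N92221 (iv2 F396332)) (tt N42992 F353425) (tt N92213 (iv4 F396291)) (tt N109367 (iv5 F466605)) (tt N108295 (iv6 F461939)) (tt N92220 (iv7 F396329)))
theorem Q76300 : ∀ i, i < 76300 → P i := stepQ 76299 Q76299 (allL N76299 (tt N42990 (iv1 D151395)) (tt N61545 F336780) (tt N55830 F336781) (tt N84339 (iv3 F368973)) (tt N43030 F336782) (tt N89152 (iv5 F385365)) (tt N71997 (iv6 F353553)) (tt N61542 F336783))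
theorem Q76301 : ∀ i, i < 76301 → P i := stepQ 76300 Q76300 (allL N76300 (tt N55830 F356345) (tt N61542 F349029) (tt N61545 F349047) (tt N54683 (iv3 F304014)) (tt N42993 F238117) (tt N80594 F349046) (tt N64391 F238118) (tt N42990 (iv7 D151397)))
theorem Q76302 : ∀ i, i < 76302 → P i := stepQ 76301 Q76301 (allL N76301 (tt N49401 F356339) (tt N49385 F356340) (tt N49399 F356341) (tt N43928 F356342) (tt N42991 (iv4 D151400)) (tt N54721 F356343) (tt N109689 D212919) (tt N49400 F356344))
theorem Q76303 : ∀ i, i < 76303 → P i := stepQ 76302 Q76302 (allL N76302 (tt N105866 (iv1 F452081)) (tt N85007 F371353) (tt N100156 (iv2 F427745)) (tt N92805 (iv3 F398302)) (tt N55831 F349033) (tt N42991 (iv5 D151401)) (tt N70597 F364325) (tt N61551 (iv7 F357313)))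
theorem Q76304 : ∀ i, i < 76304 → P i := stepQ 76303 Q76303 (allL N76303 (tt N99750 F426055) (tt N69766 (iv0 F399777)) (tt N100157 (iv2 F427750)) (tt N92806 (iv3 F398307)) (tt N109689 (iv4 F468120)) (tt N93167 (iv5 F399766)) (tt N42991 (iv6 D151402)) (tt N109011 (iv7 F464913)))
theorem Q76305 : ∀ i, i < 76305 → P i := stepQ 76304 Q76304 (allL N76304 (tt N85007 F372616) (tt N105866 (iv0 F452080)) (tt N61551 F357314) (tt N109367 F466607) (tt N61543 F349043) (tt N42992 (iv5 D151406)) (tt N102880 (iv6 F439073)) (tt N100156 (iv7 F427747)))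
theorem Q76306 : ∀ i, i < 76306 → P i := stepQ 76305 Q76305 (allL N76305 (tt N55785 (iv1 F238152)) (tt N42998 (iv0 D151422)) (tt N55783 (iv2 F347786)) (tt N61337 F343313) (tt N75273 F334762) (tt N98580 (iv5 F421442)) (tt N98471 (iv6 F421027)) (tt N55784 (iv7 F347784)))
theorem Q76307 : ∀ i, i < 76307 → P i := stepQ 76306 Q76306 (allL N76306 (tt N42998 (iv1 D151423)) (tt N55785 F238144) (tt N55784 (iv2 F347781)) (tt N91253 F392416) (tt N75272 F343316) (tt N98579 (iv5 F421435)) (tt N109690 D212920) (tt N55783 (iv7 F347788)))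
theorem Q76308 : ∀ i, i < 76308 → P i := stepQ 76307 Q76307 (allL N76307 (tt N55784 (iv1 F238153)) (tt N55783 F238154) (tt N55785 F238149) (tt N43005 F238150) (tt N101736 (iv4 F434104)) (tt N91231 (iv5 F392363)) (tt N61275 F238151) (tt N42998 (iv7 D151425)))
theorem Q76309 : ∀ i, i < 76309 → P i := stepQ 76308 Q76308 (allL N76308 (tt N92977 (iv1 F398997)) (tt N61030 F238157) (tt N51311 F238155) (tt N109691 D212921) (tt N42999 (iv4 D151426)) (tt N109692 D212922) (tt N91241 (iv6 F392383)) (tt N51309 F238156))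
theorem Q76310 : ∀ i, i < 76310 → P i := stepQ 76309 Q76309 (allL N76309 (tt N76943 (iv1 F240898)) (tt N43000 (iv0 D151427)) (tt N46970 (iv2 F238161)) (tt N75575 (iv3 F305369)) (tt N66911 F238159) (tt N46762 F238158) (tt N109693 D212923) (tt N46962 (iv7 F238162)))
theorem Q76311 : ∀ i, i < 76311 → P i := stepQ 76310 Q76310 (allL N76310 (tt N43000 (iv1 D151428)) (tt N76943 (iv0 F240897)) (tt N46962 (iv2 F238167)) (tt N51710 (iv3 F238165)) (tt N66912 (iv4 F238166)) (tt N46765 F238164) (tt N47424 F342218) (tt N46970 F238163))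
theorem Q76312 : ∀ i, i < 76312 → P i := stepQ 76311 Q76311 (allL N76311 (tt N106796 F455717) (tt N69536 F341191) (tt N43047 F238170) (tt N109261 (iv3 F466049)) (tt N82233 (iv4 F355807)) (tt N43001 (iv5 D151432)) (tt N64387 F238171) (tt N106798 (iv7 F455729)))
theorem Q76313 : ∀ i, i < 76313 → P i := stepQ 76312 Q76312 (allL N76312 (tt N43046 (iv1 F238175)) (tt N43045 F238176) (tt N43048 F238172) (tt N109228 (iv3 F465869)) (tt N43005 F238173) (tt N106798 (iv5 F455725)) (tt N100168 (iv6 F427810)) (tt N43001 (iv7 D151433)))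
theorem Q76314 : ∀ i, i < 76314 → P i := stepQ 76313 Q76313 (allL N76313 (tt N92247 (iv1 F396461)) (tt N107004 (iv0 F456615)) (tt N43051 F335459) (tt N98478 (iv3 F421060)) (tt N55794 F335460) (tt N43002 (iv5 D151437)) (tt N55796 F335461) (tt N43055 F335462))
theorem Q76315 : ∀ i, i < 76315 → P i := stepQ 76314 Q76314 (allL N76314 (tt N46076 F330348) (tt N73678 F330349) (tt N74452 (iv2 F338516)) (tt N43003 (iv3 D151440)) (tt N61099 F238180) (tt N73631 F330350) (tt N100495 F429180) (tt N43049 F335450))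
theorem Q76316 : ∀ i, i < 76316 → P i := stepQ 76315 Q76315 (allL N76315 (tt N107004 (iv1 F456614)) (tt N92247 (iv0 F396460)) (tt N43055 F335451) (tt N73631 (iv3 F330351)) (tt N88436 (iv4 F383036)) (tt N43003 (iv5 D151442)) (tt N104011 (iv6 F443778)) (tt N43051 F335452))
theorem Q76317 : ∀ i, i < 76317 → P i := stepQ 76316 Q76316 (allL N76316 (tt N109694 D212924) (tt N63815 F363932) (tt N43056 F335453) (tt N100495 (iv3 F429182)) (tt N108396 (iv4 F462401)) (tt N98596 (iv5 F421497)) (tt N43003 (iv6 D151443)) (tt N109065 (iv7 F465182)))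
theorem Q76318 : ∀ i, i < 76318 → P i := stepQ 76317 Q76317 (allL N76317 (tt N43060 (iv1 F238187)) (tt N43004 (iv0 D151444)) (tt N43057 F251619) (tt N56583 (iv3 F342983)) (tt N108361 (iv4 F462249)) (tt N108353 (iv5 F462209)) (tt N98003 F419135) (tt N43058 F251620))
theorem Q76319 : ∀ i, i < 76319 → P i := stepQ 76318 Q76318 (allL N76318 (tt N43004 (iv1 D151445)) (tt N43060 F238181) (tt N43058 F251616) (tt N73675 F342986) (tt N92234 (iv4 F396392)) (tt N45115 (iv5 F238182)) (tt N51328 (iv6 F349247)) (tt N43057 F251617))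
theorem Q76320 : ∀ i, i < 76320 → P i := stepQ 76319 Q76319 (allL N76319 (tt N109695 D212925) (tt N109012 (iv0 F464921)) (tt N43059 F238183) (tt N100292 (iv3 F428283)) (tt N43004 (iv4 D151446)) (tt N75531 F355797) (tt N43007 F238184) (tt N75555 (iv7 F355693)))
theorem Q76321 : ∀ i, i < 76321 → P i := stepQ 76320 Q76320 (allL N76320 (tt N43058 (iv1 F238188)) (tt N43057 F238189) (tt N43060 F238185) (tt N91231 F392365) (tt N75555 F355691) (tt N43005 F238186) (tt N94001 (iv6 F402773)) (tt N43004 (iv7 D151447)))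
theorem Q76322 : ∀ i, i < 76322 → P i := stepQ 76321 Q76321 (allL N76321 (tt N43074 (iv1 F238198)) (tt N43007 (iv0 D151450)) (tt N43070 (iv2 F238199)) (tt N93152 (iv3 F399683)) (tt N57431 F238197) (tt N90453 (iv5 F389702)) (tt N105776 F451657) (tt N43071 (iv7 F238200)))
theorem Q76323 : ∀ i, i < 76323 → P i := stepQ 76322 Q76322 (allL N76322 (tt N43007 (iv1 D151451)) (tt N43074 F238201) (tt N43071 (iv2 F238204)) (tt N94132 (iv3 F403363)) (tt N57432 F238203) (tt N100231 (iv5 F428085)) (tt N45238 F334833) (tt N43070 F238202))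
theorem Q76324 : ∀ i, i < 76324 → P i := stepQ 76323 Q76323 (allL N76323 (tt N109696 D212926) (tt N56446 (iv0 F341617)) (tt N109697 D212927) (tt N43007 (iv3 D151452)) (tt N109691 (iv4 F468131)) (tt N86705 (iv5 F376861)) (tt N100292 (iv6 F428284)) (tt N93998 (iv7 F402759)))
theorem Q76325 : ∀ i, i < 76325 → P i := stepQ 76324 Q76324 (allL N76324 (tt N109698 D212928) (tt N89624 F387003) (tt N43073 F238205) (tt N86705 F376860) (tt N43141 F238207) (tt N43007 (iv5 D151453)) (tt N74961 (iv6 F355806)) (tt N43139 F238206))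
theorem Q76326 : ∀ i, i < 76326 → P i := stepQ 76325 Q76325 (allL N76325 (tt N57264 F238331) (tt N57266 F238332) (tt N43101 F238328) (tt N87599 F379853) (tt N43008 (iv4 D151492)) (tt N109698 (iv5 F468167)) (tt N53058 F238329) (tt N43113 F238330))
theorem Q76327 : ∀ i, i < 76327 → P i := stepQ 76326 Q76326 (allL N76326 (tt N57461 F238336) (tt N57458 F238337) (tt N43105 F238334) (tt N52769 F366584) (tt N89624 (iv4 F386999)) (tt N43009 (iv5 D151494)) (tt N89623 (iv6 F386997)) (tt N43115 F238335))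
theorem Q76328 : ∀ i, i < 76328 → P i := stepQ 76327 Q76327 (allL N76327 (tt N77316 (iv1 F361931)) (tt N53337 (iv0 F361919)) (tt N43106 F238338) (tt N52770 F361485) (tt N43010 F238339) (tt N109699 D212929) (tt N43009 (iv6 D151495)) (tt N64730 (iv7 F361483)))
theorem Q76329 : ∀ i, i < 76329 → P i := stepQ 76328 Q76328 (allL N76328 (tt N57266 F238342) (tt N57264 F238343) (tt N43113 F238340) (tt N109700 D212930) (tt N43011 (iv4 D151496)) (tt N89624 (iv5 F387000)) (tt N86658 F376703) (tt N43101 F238341))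
theorem Q76330 : ∀ i, i < 76330 → P i := stepQ 76329 Q76329 (allL N76329 (tt N109701 D212931) (tt N52123 (iv0 F364664)) (tt N43114 F238344) (tt N68477 F238345) (tt N86658 (iv4 F376702)) (tt N92589 (iv5 F397519)) (tt N43011 (iv6 D151497)) (tt N105841 (iv7 F451980)))
theorem Q76331 : ∀ i, i < 76331 → P i := stepQ 76330 Q76330 (allL N76330 (tt N57458 F238350) (tt N57461 F238351) (tt N43115 F238348) (tt N49564 F366586) (tt N109698 (iv4 F468168)) (tt N43012 (iv5 D151499)) (tt N109702 D212932) (tt N43105 F238349))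
theorem Q76332 : ∀ i, i < 76332 → P i := stepQ 76331 Q76331 (allL N76331 (tt N64727 (iv1 F316789)) (tt N64690 (iv0 F342016)) (tt N43116 F238352) (tt N49565 F354643) (tt N43013 F238353) (tt N54047 (iv5 F357802)) (tt N43012 (iv6 D151500)) (tt N64728 F342024))
theorem Q76333 : ∀ i, i < 76333 → P i := stepQ 76332 Q76332 (allL N76332 (tt N57450 F238358) (tt N57439 F238359) (tt N43123 F238356) (tt N49031 F362842) (tt N100231 (iv4 F428084)) (tt N43014 (iv5 D151502)) (tt N78764 (iv6 F362840)) (tt N43127 F238357))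
theorem Q76334 : ∀ i, i < 76334 → P i := stepQ 76333 Q76333 (allL N76333 (tt N70519 (iv1 F238368)) (tt N43017 (iv0 D151505)) (tt N64001 (iv2 F361345)) (tt N53702 (iv3 F342636)) (tt N80914 F342643) (tt N88862 (iv5 F384379)) (tt N109703 D212933) (tt N76945 F361339))
theorem Q76335 : ∀ i, i < 76335 → P i := stepQ 76334 Q76334 (allL N76334 (tt N43017 (iv1 D151506)) (tt N70519 F238371) (tt N76945 (iv2 F361341)) (tt N55337 (iv3 F344786)) (tt N75772 (iv4 F361351)) (tt N109704 D212934) (tt N55335 F361349) (tt N64001 (iv7 F361346)))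
theorem Q76336 : ∀ i, i < 76336 → P i := stepQ 76335 Q76335 (allL N76335 (tt N106364 (iv1 F454158)) (tt N82870 (iv0 F334743)) (tt N76946 F354515) (tt N43018 F238372) (tt N71171 (iv4 F354512)) (tt N43017 (iv5 D151508)) (tt N92196 (iv6 F396198)) (tt N94151 (iv7 F403448)))
theorem Q76337 : ∀ i, i < 76337 → P i := stepQ 76336 Q76336 (allL N76336 (tt N89624 F387002) (tt N109698 F468170) (tt N43139 F238377) (tt N97350 (iv3 F416456)) (tt N43018 (iv4 D151510)) (tt N43074 F238378) (tt N100196 (iv6 F427943)) (tt N43073 F238379))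
theorem Q76338 : ∀ i, i < 76338 → P i := stepQ 76337 Q76337 (allL N76337 (tt N100758 (iv1 F430328)) (tt N43778 F354931) (tt N76262 F238383) (tt N79097 (iv3 F252525)) (tt N56305 F238384) (tt N101094 (iv5 F431644)) (tt N43021 (iv6 D151514)) (tt N100764 (iv7 F430358)))
theorem Q76339 : ∀ i, i < 76339 → P i := stepQ 76338 Q76338 (allL N76338 (tt N45113 F355767) (tt N45117 F355768) (tt N76265 F238385) (tt N63741 (iv3 F355740)) (tt N63258 F238386) (tt N109705 D212935) (tt N43022 (iv6 D151515)) (tt N77636 F355760))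
theorem Q76340 : ∀ i, i < 76340 → P i := stepQ 76339 Q76339 (allL N76339 (tt N83845 (iv1 F357215)) (tt N43023 (iv0 D151516)) (tt N76271 F357218) (tt N79122 (iv3 F357217)) (tt N63265 F357219) (tt N109706 D212936) (tt N109707 D212937) (tt N76274 F357216))
theorem Q76341 : ∀ i, i < 76341 → P i := stepQ 76340 Q76340 (allL N76340 (tt N43023 (iv1 D151517)) (tt N83845 F357209) (tt N76274 F348650) (tt N62747 F348651) (tt N63266 (iv4 F348656)) (tt N109708 D212938) (tt N62745 F348652) (tt N76271 F348653))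
theorem Q76342 : ∀ i, i < 76342 → P i := stepQ 76341 Q76341 (allL N76341 (tt N108415 (iv1 F462480)) (tt N109709 D212939) (tt N100191 (iv2 F427928)) (tt N43764 F238387) (tt N109710 D212940) (tt N43023 (iv5 D151518)) (tt N100592 (iv6 F429598)) (tt N109711 D212941))
theorem Q76343 : ∀ i, i < 76343 → P i := stepQ 76342 Q76342 (allL N76342 (tt N76274 F348666) (tt N76271 (iv0 F340892)) (tt N83845 (iv2 F357207)) (tt N43765 F238388) (tt N43026 F238389) (tt N109711 (iv5 F468231)) (tt N61541 (iv6 F259161)) (tt N43023 (iv7 D151519)))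
theorem Q76344 : ∀ i, i < 76344 → P i := stepQ 76343 Q76343 (allL N76343 (tt N76393 F238515) (tt N74932 F420514) (tt N61599 F364427) (tt N98503 (iv3 F421152)) (tt N105913 (iv4 F452317)) (tt N43024 (iv5 D151523)) (tt N105913 (iv6 F452318)) (tt N98513 (iv7 F421179)))
theorem Q76345 : ∀ i, i < 76345 → P i := stepQ 76344 Q76344 (allL N76344 (tt N45119 F335490) (tt N61703 (iv0 F335488)) (tt N61600 (iv2 F335491)) (tt N47503 F335489) (tt N109671 (iv4 F468036)) (tt N69550 (iv5 F329172)) (tt N43024 (iv6 D151524)) (tt N98757 (iv7 F422179)))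
theorem Q76346 : ∀ i, i < 76346 → P i := stepQ 76345 Q76345 (allL N76345 (tt N76186 (iv1 F238400)) (tt N43025 (iv0 D151530)) (tt N61611 (iv2 F238394)) (tt N50823 F238395) (tt N76181 (iv4 F360960)) (tt N109694 (iv5 F468143)) (tt N50821 F238393) (tt N76185 F238459))
theorem Q76347 : ∀ i, i < 76347 → P i := stepQ 76346 Q76346 (allL N76346 (tt N100166 F427797) (tt N109684 F468097) (tt N76184 F238396) (tt N86213 (iv3 F375394)) (tt N43025 (iv4 D151531)) (tt N109712 D212942) (tt N43029 F238397) (tt N74950 F335935))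
theorem Q76348 : ∀ i, i < 76348 → P i := stepQ 76347 Q76347 (allL N76347 (tt N76185 (iv1 F238401)) (tt N61611 (iv0 F238460)) (tt N76186 F238398) (tt N76560 (iv3 F239297)) (tt N74950 (iv4 F335936)) (tt N43026 F238399) (tt N74898 F335937) (tt N43025 (iv7 D151532)))
theorem Q76349 : ∀ i, i < 76349 → P i := stepQ 76348 Q76348 (allL N76348 (tt N109713 D212943) (tt N109714 D212944) (tt N61634 F238403) (tt N50971 F238404) (tt N50986 (iv4 F365303)) (tt N57267 F238405) (tt N43027 (iv6 D151533)) (tt N109715 D212945))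
theorem Q76350 : ∀ i, i < 76350 → P i := stepQ 76349 Q76349 (allL N76349 (tt N99796 F426259) (tt N100164 (iv0 F427781)) (tt N76181 F238406) (tt N44965 F238407) (tt N61611 (iv4 F360959)) (tt N55721 F238408) (tt N43028 (iv6 D151534)) (tt N98526 (iv7 F421205)))
theorem Q76351 : ∀ i, i < 76351 → P i := stepQ 76350 Q76350 (allL N76350 (tt N50418 (iv1 F360972)) (tt N43029 (iv0 D151535)) (tt N76182 (iv2 F238411)) (tt N86177 (iv3 F375279)) (tt N57448 F238409) (tt N50403 F335916) (tt N109716 D212946) (tt N76183 (iv7 F238412)))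
theorem Q76352 : ∀ i, i < 76352 → P i := stepQ 76351 Q76351 (allL N76351 (tt N43029 (iv1 D151536)) (tt N50418 (iv0 F360971)) (tt N76183 (iv2 F238416)) (tt N84785 (iv3 F370624)) (tt N63269 F238415) (tt N50402 F335915) (tt N100162 (iv6 F427771)) (tt N76182 F238414))
theorem Q76353 : ∀ i, i < 76353 → P i := stepQ 76352 Q76352 (allL N76352 (tt N61550 (iv1 F259190)) (tt N61549 F259189) (tt N55831 (iv2 F259187)) (tt N61578 F259186) (tt N100156 (iv4 F427746)) (tt N43030 (iv5 D151553)) (tt N99805 (iv6 F426301)) (tt N61543 F259188))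
theorem Q76354 : ∀ i, i < 76354 → P i := stepQ 76353 Q76353 (allL N76353 (tt N108353 F462208) (tt N45115 F259142) (tt N55832 F259143) (tt N61579 F259144) (tt N71997 (iv4 F353549)) (tt N76384 (iv5 F238501)) (tt N43030 (iv6 D151554)) (tt N71996 (iv7 F353850)))
theorem Q76355 : ∀ i, i < 76355 → P i := stepQ 76354 Q76354 (allL N76354 (tt N78958 (iv1 F251558)) (tt N43034 (iv0 D151557)) (tt N78682 (iv2 F347364)) (tt N99817 (iv3 F426367)) (tt N45233 F253047) (tt N70177 F355353) (tt N108383 (iv6 F462348)) (tt N78957 (iv7 F253048)))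
theorem Q76356 : ∀ i, i < 76356 → P i := stepQ 76355 Q76355 (allL N76355 (tt N43034 (iv1 D151558)) (tt N78958 F251557) (tt N78957 (iv2 F253050)) (tt N78677 F347360) (tt N45234 F253051) (tt N70182 (iv5 F347361)) (tt N100010 (iv6 F427178)) (tt N78682 (iv7 F347366)))
theorem Q76357 : ∀ i, i < 76357 → P i := stepQ 76356 Q76356 (allL N76356 (tt N73798 (iv1 F335423)) (tt N73846 (iv0 F335422)) (tt N73844 (iv2 F355776)) (tt N64694 F238432) (tt N103315 (iv4 F441104)) (tt N43034 (iv5 D151559)) (tt N64691 F238433) (tt N69793 F336397))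
theorem Q76358 : ∀ i, i < 76358 → P i := stepQ 76357 Q76357 (allL N76357 (tt N78957 (iv1 F251550)) (tt N78682 (iv0 F347362)) (tt N78958 (iv2 F251553)) (tt N64695 F238434) (tt N43038 F238435) (tt N69793 (iv5 F336395)) (tt N77313 (iv6 F242375)) (tt N43034 (iv7 D151560)))
theorem Q76359 : ∀ i, i < 76359 → P i := stepQ 76358 Q76358 (allL N76358 (tt N47534 F326574) (tt N55781 F238455) (tt N45995 F238453) (tt N43035 (iv3 D151562)) (tt N47527 F350990) (tt N51554 (iv5 F238452)) (tt N109717 D212947) (tt N51553 (iv7 F238448)))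
theorem Q76360 : ∀ i, i < 76360 → P i := stepQ 76359 Q76359 (allL N76359 (tt N69926 (iv1 F329093)) (tt N43043 F252356) (tt N63813 (iv2 F238456)) (tt N109718 D212948) (tt N43035 (iv4 D151563)) (tt N69755 (iv5 F355340)) (tt N109719 D212949) (tt N69762 (iv7 F355346)))
theorem Q76361 : ∀ i, i < 76361 → P i := stepQ 76360 Q76360 (allL N76360 (tt N98267 (iv1 F420251)) (tt N109720 D212950) (tt N63814 F238450) (tt N51554 F238451) (tt N76438 (iv4 F392241)) (tt N43035 (iv5 D151564)) (tt N91218 (iv6 F392305)) (tt N51548 (iv7 F238449)))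
theorem Q76362 : ∀ i, i < 76362 → P i := stepQ 76361 Q76361 (allL N76361 (tt N43056 F465185) (tt N109065 (iv0 F465183)) (tt N63815 (iv2 F238457)) (tt N109717 (iv3 F468261)) (tt N109719 (iv4 F468275)) (tt N76185 F238437) (tt N43035 (iv6 D151565)) (tt N109694 (iv7 F468148)))
theorem Q76363 : ∀ i, i < 76363 → P i := stepQ 76362 Q76362 (allL N76362 (tt N43043 F252352) (tt N69926 (iv0 F329092)) (tt N69762 (iv2 F355344)) (tt N78895 (iv3 F251273)) (tt N43036 (iv4 D151568)) (tt N69759 (iv5 F355341)) (tt N109721 D212951) (tt N63813 F238462))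
theorem Q76364 : ∀ i, i < 76364 → P i := stepQ 76363 Q76363 (allL N76363 (tt N109720 (iv1 F468278)) (tt N98267 (iv0 F420250)) (tt N51548 F238440) (tt N45998 F238441) (tt N76439 F363066) (tt N43036 (iv5 D151569)) (tt N51546 (iv6 F238439)) (tt N63814 (iv7 F238447)))
theorem Q76365 : ∀ i, i < 76365 → P i := stepQ 76364 Q76364 (allL N76364 (tt N78996 (iv1 F283739)) (tt N78999 F283738) (tt N78959 (iv2 F251564)) (tt N45999 F238463) (tt N109721 (iv4 F468285)) (tt N83640 (iv5 F288144)) (tt N43036 (iv6 D151570)) (tt N86470 (iv7 F376323)))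
theorem Q76366 : ∀ i, i < 76366 → P i := stepQ 76365 Q76365 (allL N76365 (tt N78962 (iv1 F251576)) (tt N43037 (iv0 D151571)) (tt N58933 (iv2 F259160)) (tt N94014 (iv3 F402823)) (tt N109722 D212952) (tt N98541 (iv5 F421246)) (tt N109723 D212953) (tt N78960 F259153))
theorem Q76367 : ∀ i, i < 76367 → P i := stepQ 76366 Q76366 (allL N76366 (tt N109724 D212954) (tt N104979 F448242) (tt N78961 (iv2 F251569)) (tt N109725 D212955) (tt N43037 (iv4 D151573)) (tt N109726 D212956) (tt N64167 F238465) (tt N88813 (iv7 F384232)))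
theorem Q76368 : ∀ i, i < 76368 → P i := stepQ 76367 Q76367 (allL N76367 (tt N78960 (iv1 F251568)) (tt N58933 (iv0 F258979)) (tt N78962 (iv2 F251571)) (tt N98772 (iv3 F422255)) (tt N88813 (iv4 F384231)) (tt N43038 F238466) (tt N88812 (iv6 F384230)) (tt N43037 (iv7 D151574)))
theorem Q76369 : ∀ i, i < 76369 → P i := stepQ 76368 Q76368 (allL N76368 (tt N77313 (iv1 F242378)) (tt N43040 (iv0 D151576)) (tt N77310 (iv2 F349065)) (tt N64642 (iv3 F335193)) (tt N45208 F335191) (tt N89575 (iv5 F386798)) (tt N83831 (iv6 F356612)) (tt N77311 F349070))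
theorem Q76370 : ∀ i, i < 76370 → P i := stepQ 76369 Q76369 (allL N76369 (tt N43040 (iv1 D151577)) (tt N77313 F242377) (tt N77311 F349069) (tt N82162 F360925) (tt N45209 F342710) (tt N82161 (iv5 F360929)) (tt N99916 (iv6 F426808)) (tt N77310 (iv7 F349068)))
theorem Q76371 : ∀ i, i < 76371 → P i := stepQ 76370 Q76370 (allL N76370 (tt N107111 F457031) (tt N82165 (iv0 F385072)) (tt N77312 (iv2 F242369)) (tt N53952 F366824) (tt N105641 (iv4 F451069)) (tt N43040 (iv5 D151578)) (tt N53951 (iv6 F366828)) (tt N109727 D212957))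
theorem Q76372 : ∀ i, i < 76372 → P i := stepQ 76371 Q76371 (allL N76371 (tt N77311 (iv1 F242368)) (tt N77310 F242376) (tt N77313 (iv2 F242372)) (tt N83865 (iv3 F367284)) (tt N43042 F238469) (tt N109727 (iv5 F468309)) (tt N78958 (iv6 F251555)) (tt N43040 (iv7 D151579)))
theorem Q76373 : ∀ i, i < 76373 → P i := stepQ 76372 Q76372 (allL N76372 (tt N64183 (iv1 F335477)) (tt N43052 F335476) (tt N78944 (iv2 F332649)) (tt N47537 F332648) (tt N101100 (iv4 F431673)) (tt N98269 F420262) (tt N43041 (iv6 D151589)) (tt N98477 (iv7 F421055)))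
theorem Q76374 : ∀ i, i < 76374 → P i := stepQ 76373 Q76373 (allL N76373 (tt N69762 (iv1 F355343)) (tt N63813 F251563) (tt N69926 (iv2 F329094)) (tt N69957 F347357) (tt N64206 F238472) (tt N104113 (iv5 F444246)) (tt N79074 (iv6 F252175)) (tt N43043 (iv7 D151593)))
theorem Q76375 : ∀ i, i < 76375 → P i := stepQ 76374 Q76374 (allL N76374 (tt N100025 (iv1 F427260)) (tt N100190 (iv0 F427926)) (tt N64387 F238474) (tt N47807 (iv3 F339095)) (tt N47812 F339094) (tt N43044 (iv5 D151596)) (tt N43047 F238475) (tt N77779 (iv7 F341194)))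
theorem Q76376 : ∀ i, i < 76376 → P i := stepQ 76375 Q76375 (allL N76375 (tt N101100 F431675) (tt N109728 D212958) (tt N107003 (iv2 F456606)) (tt N74471 F361666) (tt N74475 (iv4 F361667)) (tt N91158 F403507) (tt N43045 (iv6 D151602)) (tt N99946 (iv7 F426913)))
theorem Q76377 : ∀ i, i < 76377 → P i := stepQ 76376 Q76376 (allL N76376 (tt N109729 D212959) (tt N109719 (iv0 F468277)) (tt N99873 (iv2 F426634)) (tt N69927 F363030) (tt N109665 (iv4 F468003)) (tt N105238 F449348) (tt N43046 (iv6 D151607)) (tt N109730 D212960))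
theorem Q76378 : ∀ i, i < 76378 → P i := stepQ 76377 Q76377 (allL N76377 (tt N43047 (iv1 D151609)) (tt N106798 F455728) (tt N69536 F354837) (tt N101110 F431721) (tt N47991 F353550) (tt N71995 (iv5 F354836)) (tt N47990 F353551) (tt N106796 (iv7 F455715)))
theorem Q76379 : ∀ i, i < 76379 → P i := stepQ 76378 Q76378 (allL N76378 (tt N69536 F355800) (tt N106796 F455716) (tt N106798 F455727) (tt N98186 (iv3 F419892)) (tt N65391 F355798) (tt N43048 F238483) (tt N95510 F408418) (tt N43047 (iv7 D151611)))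
theorem Q76380 : ∀ i, i < 76380 → P i := stepQ 76379 Q76379 (allL N76379 (tt N73678 F338522) (tt N46076 F338523) (tt N43049 (iv2 D151620)) (tt N64190 (iv3 F338532)) (tt N61098 F338524) (tt N73643 F338525) (tt N64188 F338531) (tt N74452 F338521))
theorem Q76381 : ∀ i, i < 76381 → P i := stepQ 76380 Q76380 (allL N76380 (tt N61101 F238492) (tt N61093 F346407) (tt N61098 F346403) (tt N75350 F346404) (tt N43049 (iv4 D151621)) (tt N62481 (iv5 F346402)) (tt N97364 F416520) (tt N61099 F346405))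
theorem Q76382 : ∀ i, i < 76382 → P i := stepQ 76381 Q76381 (allL N76381 (tt N74166 F334850) (tt N62656 F355227) (tt N73643 (iv2 F362025)) (tt N43051 F238493) (tt N62475 F346406) (tt N43049 (iv5 D151622)) (tt N98403 (iv6 F420808)) (tt N73631 (iv7 F362026)))
theorem Q76383 : ∀ i, i < 76383 → P i := stepQ 76382 Q76382 (allL N76382 (tt N44565 F353680) (tt N43451 F353681) (tt N44562 F350760) (tt N43050 (iv3 D151627)) (tt N75350 (iv4 F350730)) (tt N73847 (iv5 F357254)) (tt N77366 F353682) (tt N44563 F350761))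
theorem Q76384 : ∀ i, i < 76384 → P i := stepQ 76383 Q76383 (allL N76383 (tt N99916 F426809) (tt N83840 (iv0 F341562)) (tt N84212 (iv2 F368528)) (tt N77366 (iv3 F353684)) (tt N43052 F238497) (tt N77364 F353685) (tt N43050 (iv6 D151629)) (tt N109066 (iv7 F465188)))
theorem Q76385 : ∀ i, i < 76385 → P i := stepQ 76384 Q76384 (allL N76384 (tt N43055 (iv1 F238506)) (tt N43051 (iv0 D151631)) (tt N92247 (iv2 F396457)) (tt N98575 (iv3 F421408)) (tt N75558 F353558) (tt N76353 F238501) (tt N109731 D212961) (tt N107004 (iv7 F456613)))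
theorem Q76386 : ∀ i, i < 76386 → P i := stepQ 76385 Q76385 (allL N76385 (tt N43051 (iv1 D151632)) (tt N43055 F238502) (tt N107004 (iv2 F456610)) (tt N61242 F355728) (tt N75557 (iv4 F355694)) (tt N78985 (iv5 F355730)) (tt N86819 (iv6 F377297)) (tt N92247 (iv7 F396459)))
theorem Q76387 : ∀ i, i < 76387 → P i := stepQ 76386 Q76386 (allL N76386 (tt N43052 (iv1 D151637)) (tt N64183 F335472) (tt N98477 (iv2 F421059)) (tt N60960 F335473) (tt N109728 (iv4 F468316)) (tt N98268 (iv5 F420253)) (tt N60953 (iv6 F335474)) (tt N78944 (iv7 F335475)))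
theorem Q76388 : ∀ i, i < 76388 → P i := stepQ 76387 Q76387 (allL N76387 (tt N105003 F448320) (tt N109732 D212962) (tt N93121 (iv2 F399577)) (tt N43055 F238508) (tt N109733 D212963) (tt N43053 (iv5 D151644)) (tt N56432 F342970) (tt N98478 (iv7 F421062)))
theorem Q76389 : ∀ i, i < 76389 → P i := stepQ 76388 Q76388 (allL N76388 (tt N84190 (iv1 F368467)) (tt N68117 (iv0 F401680)) (tt N98476 (iv2 F421047)) (tt N43056 F238509) (tt N93724 F401679) (tt N93727 (iv5 F401692)) (tt N43053 (iv6 D151645)) (tt N64187 F363928))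
theorem Q76390 : ∀ i, i < 76390 → P i := stepQ 76389 Q76389 (allL N76389 (tt N108414 (iv1 F462476)) (tt N108383 (iv0 F462350)) (tt N108396 (iv2 F462399)) (tt N90682 (iv3 F390510)) (tt N43056 F238510) (tt N109734 D212964) (tt N43054 (iv6 D151648)) (tt N108413 F462474))
theorem Q76391 : ∀ i, i < 76391 → P i := stepQ 76390 Q76390 (allL N76390 (tt N74484 F339788) (tt N61253 (iv0 F355729)) (tt N88436 (iv2 F383035)) (tt N56585 (iv3 F339790)) (tt N43055 (iv4 D151649)) (tt N55795 (iv5 F334859)) (tt N92950 (iv6 F398879)) (tt N55794 F339789))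
theorem Q76392 : ∀ i, i < 76392 → P i := stepQ 76391 Q76391 (allL N76391 (tt N104012 (iv1 F443787)) (tt N57267 (iv0 F238511)) (tt N104011 F443779) (tt N56432 (iv3 F342971)) (tt N92950 (iv4 F398877)) (tt N109064 (iv5 F465176)) (tt N43055 (iv6 D151650)) (tt N92947 (iv7 F398869)))
theorem Q76393 : ∀ i, i < 76393 → P i := stepQ 76392 Q76392 (allL N76392 (tt N109065 (iv1 F465184)) (tt N43056 (iv0 D151651)) (tt N109694 F468146) (tt N61250 (iv3 F238513)) (tt N109729 (iv4 F468320)) (tt N61611 F238512) (tt N86470 (iv6 F376320)) (tt N63815 (iv7 F238514)))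
theorem Q76394 : ∀ i, i < 76394 → P i := stepQ 76393 Q76393 (allL N76393 (tt N61525 F401695) (tt N76343 (iv0 F238515)) (tt N98596 F421498) (tt N93727 F401693) (tt N109380 (iv4 F466666)) (tt N43056 (iv5 D151653)) (tt N109064 (iv6 F465177)) (tt N98326 F420511))
theorem Q76395 : ∀ i, i < 76395 → P i := stepQ 76394 Q76394 (allL N76394 (tt N63815 F363931) (tt N109694 F468147) (tt N109065 (iv2 F465179)) (tt N64187 (iv3 F363929)) (tt N108413 (iv4 F462472)) (tt N98326 (iv5 F420510)) (tt N64183 F363930) (tt N43056 (iv7 D151654)))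
theorem Q76396 : ∀ i, i < 76396 → P i := stepQ 76395 Q76395 (allL N76395 (tt N61240 (iv1 F355699)) (tt N74478 (iv0 F355696)) (tt N108361 (iv2 F462248)) (tt N85755 F377160) (tt N43057 (iv4 D151657)) (tt N74794 F355700) (tt N68440 F355828) (tt N92234 (iv7 F396391)))
theorem Q76397 : ∀ i, i < 76397 → P i := stepQ 76396 Q76396 (allL N76396 (tt N71996 (iv1 F354840)) (tt N55832 F354842) (tt N108353 (iv2 F462204)) (tt N61705 (iv3 F335486)) (tt N108330 (iv4 F462094)) (tt N43057 (iv5 D151658)) (tt N61703 F335485) (tt N45115 F251618))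
theorem Q76398 : ∀ i, i < 76398 → P i := stepQ 76397 Q76397 (allL N76397 (tt N94008 F402803) (tt N109735 D212965) (tt N98003 (iv2 F419132)) (tt N61706 F363062) (tt N68440 (iv4 F355829)) (tt N61704 (iv5 F335487)) (tt N43057 (iv6 D151659)) (tt N109736 D212966))
theorem Q76399 : ∀ i, i < 76399 → P i := stepQ 76398 Q76398 (allL N76398 (tt N74478 F334849) (tt N61240 F341583) (tt N92234 (iv2 F396388)) (tt N109732 F468334) (tt N43058 (iv4 D151662)) (tt N74795 (iv5 F361626)) (tt N109737 D212967) (tt N108361 (iv7 F462251)))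
theorem Q76400 : ∀ i, i < 76400 → P i := stepQ 76399 Q76399 (allL N76399 (tt N55832 (iv1 F354841)) (tt N71996 F354838) (tt N45115 F251615) (tt N92936 (iv3 F398832)) (tt N84265 F368738) (tt N43058 (iv5 D151663)) (tt N45103 F238518) (tt N108353 (iv7 F462206)))
theorem Q76401 : ∀ i, i < 76401 → P i := stepQ 76400 Q76400 (allL N76400 (tt N51325 (iv1 F288412)) (tt N51259 F288413) (tt N51328 (iv2 F349246)) (tt N84450 (iv3 F369328)) (tt N109737 (iv4 F468356)) (tt N83681 (iv5 F288409)) (tt N43058 (iv6 D151664)) (tt N51327 F288418))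
theorem Q76402 : ∀ i, i < 76402 → P i := stepQ 76401 Q76401 (allL N76401 (tt N75555 (iv1 F355814)) (tt N43059 (iv0 D151665)) (tt N109695 F468152) (tt N108356 (iv3 F462224)) (tt N74445 (iv4 F355206)) (tt N73866 F355205) (tt N109738 D212968) (tt N109012 (iv7 F464919)))
theorem Q76403 : ∀ i, i < 76403 → P i := stepQ 76402 Q76402 (allL N76402 (tt N43059 (iv1 D151666)) (tt N75555 F355690) (tt N109012 (iv2 F464916)) (tt N98152 (iv3 F419732)) (tt N83810 (iv4 F355688)) (tt N73725 (iv5 F355732)) (tt N83809 F355689) (tt N109695 (iv7 F468154)))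
theorem Q76404 : ∀ i, i < 76404 → P i := stepQ 76403 Q76403 (allL N76403 (tt N109012 (iv1 F464922)) (tt N109695 F468153) (tt N75555 (iv2 F355692)) (tt N73667 F355224) (tt N43060 F238521) (tt N75532 F355799) (tt N109739 D212969) (tt N43059 (iv7 D151669)))
theorem Q76405 : ∀ i, i < 76405 → P i := stepQ 76404 Q76404 (allL N76404 (tt N86843 F398890) (tt N92951 (iv0 F398885)) (tt N94001 (iv2 F402771)) (tt N61258 F238522) (tt N109739 (iv4 F468370)) (tt N70188 (iv5 F351264)) (tt N43060 (iv6 D151670)) (tt N43075 F238523))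
theorem Q76406 : ∀ i, i < 76406 → P i := stepQ 76405 Q76405 (allL N76405 (tt N69410 F238526) (tt N100526 F429327) (tt N63225 F238524) (tt N81585 F360274) (tt N43061 (iv4 D151671)) (tt N59727 F360275) (tt N109740 D212970) (tt N59726 (iv7 F360273)))
theorem Q76407 : ∀ i, i < 76407 → P i := stepQ 76406 Q76406 (allL N76406 (tt N100519 F429291) (tt N86772 F377128) (tt N63226 F238527) (tt N43064 F238528) (tt N109740 (iv4 F468377)) (tt N51279 F238529) (tt N43061 (iv6 D151672)) (tt N109741 D212971))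
theorem Q76408 : ∀ i, i < 76408 → P i := stepQ 76407 Q76407 (allL N76407 (tt N43113 F238532) (tt N43101 F238533) (tt N57264 F238530) (tt N86457 F376271) (tt N43062 (iv4 D151673)) (tt N104206 (iv5 F444685)) (tt N87581 F395957) (tt N57266 F238531))
theorem Q76409 : ∀ i, i < 76409 → P i := stepQ 76408 Q76408 (allL N76408 (tt N91086 (iv1 F391868)) (tt N109742 D212972) (tt N57265 F238534) (tt N51314 F238535) (tt N87581 (iv4 F395956)) (tt N55724 F238536) (tt N43062 (iv6 D151674)) (tt N109743 D212973))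
theorem Q76410 : ∀ i, i < 76410 → P i := stepQ 76409 Q76409 (allL N76409 (tt N43065 (iv1 F238538)) (tt N43063 (iv0 D151675)) (tt N57434 (iv2 F238539)) (tt N98661 (iv3 F421775)) (tt N56620 F238537) (tt N98659 F421767) (tt N109744 D212974) (tt N57445 (iv7 F238540)))
theorem Q76411 : ∀ i, i < 76411 → P i := stepQ 76410 Q76410 (allL N76410 (tt N43063 (iv1 D151676)) (tt N43065 F238541) (tt N57445 (iv2 F238544)) (tt N76642 (iv3 F364516)) (tt N57436 F238543) (tt N89162 (iv5 F385402)) (tt N92948 (iv6 F398872)) (tt N57434 F238542))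
theorem Q76412 : ∀ i, i < 76412 → P i := stepQ 76411 Q76411 (allL N76411 (tt N94003 (iv1 F402784)) (tt N94002 (iv0 F402777)) (tt N101473 (iv2 F433072)) (tt N84830 (iv3 F370774)) (tt N43138 F238545) (tt N43063 (iv5 D151678)) (tt N85203 (iv6 F371879)) (tt N84825 F370762))
theorem Q76413 : ∀ i, i < 76413 → P i := stepQ 76412 Q76412 (allL N76412 (tt N60166 F369359) (tt N88812 (iv0 F384228)) (tt N86777 (iv2 F377145)) (tt N84457 (iv3 F369381)) (tt N43064 F238546) (tt N70672 F369358) (tt N43063 (iv6 D151679)) (tt N84454 (iv7 F369356)))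
theorem Q76414 : ∀ i, i < 76414 → P i := stepQ 76413 Q76413 (allL N76413 (tt N43064 (iv1 D151680)) (tt N51324 F238547) (tt N50326 F238550) (tt N51373 F238551) (tt N109745 D212975) (tt N50318 (iv5 F238549)) (tt N109746 D212976) (tt N51363 F238548))
theorem Q76415 : ∀ i, i < 76415 → P i := stepQ 76414 Q76414 (allL N76414 (tt N50326 (iv1 F238555)) (tt N51363 F238556) (tt N51324 F238553) (tt N109741 (iv3 F468382)) (tt N84454 (iv4 F369354)) (tt N51258 F238554) (tt N84453 F369351) (tt N43064 (iv7 D151681)))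
theorem Q76416 : ∀ i, i < 76416 → P i := stepQ 76415 Q76415 (allL N76415 (tt N92954 F398903) (tt N109649 (iv0 F467925)) (tt N84460 (iv2 F369395)) (tt N43065 (iv3 D151682)) (tt N68712 F238557) (tt N85217 (iv5 F371934)) (tt N84458 F369392) (tt N94023 (iv7 F402853)))
theorem Q76417 : ∀ i, i < 76417 → P i := stepQ 76416 Q76416 (allL N76416 (tt N94002 (iv1 F402778)) (tt N94003 (iv0 F402783)) (tt N84825 (iv2 F370758)) (tt N85217 (iv3 F371932)) (tt N43137 F238558) (tt N43065 (iv5 D151683)) (tt N84823 F370751) (tt N101473 (iv7 F433074)))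
theorem Q76418 : ∀ i, i < 76418 → P i := stepQ 76417 Q76417 (allL N76417 (tt N43066 (iv1 D151686)) (tt N84453 F369352) (tt N86819 F377295) (tt N51392 (iv3 F376262)) (tt N86453 F376258) (tt N109723 (iv5 F468296)) (tt N107004 (iv6 F456616)) (tt N86683 (iv7 F376787)))
theorem Q76419 : ∀ i, i < 76419 → P i := stepQ 76418 Q76418 (allL N76418 (tt N86819 (iv1 F377293)) (tt N86683 (iv0 F376788)) (tt N84453 (iv2 F369346)) (tt N86828 (iv3 F377330)) (tt N84452 F369345) (tt N68441 F238560) (tt N51324 F238561) (tt N43066 (iv7 D151687)))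
theorem Q76420 : ∀ i, i < 76420 → P i := stepQ 76419 Q76419 (allL N76419 (tt N58919 F238565) (tt N58918 F238566) (tt N58923 F238562) (tt N87061 (iv3 F378237)) (tt N43067 (iv4 D151688)) (tt N63839 F238564) (tt N82940 (iv6 F363168)) (tt N58913 F238563))
theorem Q76421 : ∀ i, i < 76421 → P i := stepQ 76420 Q76420 (allL N76420 (tt N52072 F363171) (tt N105851 (iv0 F452030)) (tt N58927 F238567) (tt N43069 F238568) (tt N82940 F363169) (tt N66625 F238569) (tt N43067 (iv6 D151689)) (tt N109747 D212977))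
theorem Q76422 : ∀ i, i < 76422 → P i := stepQ 76421 Q76421 (allL N76421 (tt N85231 F371977) (tt N85229 F377262) (tt N86806 (iv2 F377258)) (tt N43068 (iv3 D151690)) (tt N87061 F378239) (tt N85095 (iv5 F371613)) (tt N86802 (iv6 F377251)) (tt N85094 F371611))
theorem Q76423 : ∀ i, i < 76423 → P i := stepQ 76422 Q76422 (allL N76422 (tt N78288 (iv1 F349264)) (tt N78287 F349263) (tt N78289 (iv2 F349260)) (tt N86802 (iv3 F377248)) (tt N43069 F238570) (tt N91799 (iv5 F394472)) (tt N43068 (iv6 D151691)) (tt N68433 F349262))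
theorem Q76424 : ∀ i, i < 76424 → P i := stepQ 76423 Q76423 (allL N76423 (tt N78286 F349252) (tt N43069 (iv0 D151692)) (tt N68159 F238573) (tt N51262 (iv3 F238572)) (tt N105767 (iv4 F451613)) (tt N91781 (iv5 F394388)) (tt N51259 F238571) (tt N94009 (iv7 F402807)))
theorem Q76425 : ∀ i, i < 76425 → P i := stepQ 76424 Q76424 (allL N76424 (tt N43069 (iv1 D151693)) (tt N78286 F349259) (tt N94009 F402808) (tt N60167 (iv3 F238575)) (tt N105777 (iv4 F451660)) (tt N98039 (iv5 F419271)) (tt N109748 D212978) (tt N68159 F238574))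
theorem Q76426 : ∀ i, i < 76426 → P i := stepQ 76425 Q76425 (allL N76425 (tt N94009 (iv1 F402806)) (tt N68159 (iv0 F372536)) (tt N78286 F349253) (tt N109747 (iv3 F468418)) (tt N68433 (iv4 F349254)) (tt N99806 (iv5 F426308)) (tt N68432 (iv6 F349255)) (tt N43069 (iv7 D151694)))
theorem Q76427 : ∀ i, i < 76427 → P i := stepQ 76426 Q76426 (allL N76426 (tt N94140 (iv1 F403397)) (tt N94139 F403406) (tt N94142 (iv2 F403404)) (tt N43070 (iv3 D151695)) (tt N100301 (iv4 F428331)) (tt N109683 (iv5 F468092)) (tt N94131 F403361) (tt N94132 (iv7 F403366)))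
theorem Q76428 : ∀ i, i < 76428 → P i := stepQ 76427 Q76427 (allL N76427 (tt N93994 (iv1 F402747)) (tt N93990 (iv0 F402732)) (tt N90453 (iv2 F389700)) (tt N109683 (iv3 F468090)) (tt N43127 F238576) (tt N43070 (iv5 D151696)) (tt N105795 F451752) (tt N100231 F428086))
theorem Q76429 : ∀ i, i < 76429 → P i := stepQ 76428 Q76428 (allL N76428 (tt N105767 F451614) (tt N105777 F451662) (tt N105776 (iv2 F451658)) (tt N94131 (iv3 F403358)) (tt N100300 (iv4 F428326)) (tt N105796 (iv5 F451756)) (tt N43070 (iv6 D151697)) (tt N94127 (iv7 F403341)))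
theorem Q76430 : ∀ i, i < 76430 → P i := stepQ 76429 Q76429 (allL N76429 (tt N93990 (iv1 F402733)) (tt N93994 (iv0 F402746)) (tt N100231 (iv2 F428082)) (tt N92824 (iv3 F398388)) (tt N43123 F238577) (tt N43071 (iv5 D151699)) (tt N89616 (iv6 F386967)) (tt N90453 (iv7 F389701)))
theorem Q76431 : ∀ i, i < 76431 → P i := stepQ 76430 Q76430 (allL N76430 (tt N97346 (iv1 F416441)) (tt N43072 (iv0 D151701)) (tt N97349 (iv2 F416454)) (tt N68125 (iv3 F362772)) (tt N96927 (iv4 F414652)) (tt N71309 F238578) (tt N69377 (iv6 F362777)) (tt N63828 F362774))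
theorem Q76432 : ∀ i, i < 76432 → P i := stepQ 76431 Q76431 (allL N76431 (tt N43072 (iv1 D151702)) (tt N97346 (iv0 F416440)) (tt N63828 F355204) (tt N104914 (iv3 F447915)) (tt N96929 F414655) (tt N98137 (iv5 F419639)) (tt N63821 (iv6 F355203)) (tt N97349 (iv7 F416451)))
theorem Q76433 : ∀ i, i < 76433 → P i := stepQ 76432 Q76432 (allL N76432 (tt N97349 (iv1 F416450)) (tt N63828 (iv0 F355201)) (tt N43072 (iv2 D151703)) (tt N109697 (iv3 F468162)) (tt N61261 F238579) (tt N106328 (iv5 F454046)) (tt N73663 (iv6 F355193)) (tt N97346 (iv7 F416439)))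
theorem Q76434 : ∀ i, i < 76434 → P i := stepQ 76433 Q76433 (allL N76433 (tt N105964 F452543) (tt N53846 (iv0 F350374)) (tt N106328 F454049) (tt N43073 F238580) (tt N106185 (iv4 F453511)) (tt N43072 (iv5 D151704)) (tt N98150 (iv6 F419715)) (tt N97350 (iv7 F416457)))
theorem Q76435 : ∀ i, i < 76435 → P i := stepQ 76434 Q76434 (allL N76434 (tt N43139 (iv1 F238583)) (tt N43073 (iv0 D151705)) (tt N109698 F468169) (tt N75546 F356689) (tt N43115 F238582) (tt N43101 F238581) (tt N75545 F356693) (tt N89624 F387001))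
theorem Q76436 : ∀ i, i < 76436 → P i := stepQ 76435 Q76435 (allL N76435 (tt N43073 (iv1 D151706)) (tt N43139 F238584) (tt N89624 (iv2 F386998)) (tt N105478 (iv3 F450414)) (tt N43105 (iv4 F238586)) (tt N43113 F238585) (tt N86179 F375294) (tt N109698 (iv7 F468171)))
theorem Q76437 : ∀ i, i < 76437 → P i := stepQ 76436 Q76436 (allL N76436 (tt N74890 F355812) (tt N74962 F355813) (tt N74961 F355809) (tt N98150 (iv3 F419714)) (tt N94152 (iv4 F403451)) (tt N75552 (iv5 F355811)) (tt N43073 (iv6 D151707)) (tt N74960 (iv7 F392652)))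
theorem Q76438 : ∀ i, i < 76438 → P i := stepQ 76437 Q76437 (allL N76437 (tt N100754 F430300) (tt N100782 (iv0 F430449)) (tt N93999 (iv2 F402763)) (tt N91200 F392239) (tt N43075 F238587) (tt N105096 (iv5 F448771)) (tt N43074 (iv6 D151708)) (tt N109739 (iv7 F468372)))
theorem Q76439 : ∀ i, i < 76439 → P i := stepQ 76438 Q76438 (allL N76438 (tt N94001 (iv1 F402775)) (tt N43075 (iv0 D151709)) (tt N92951 F398886) (tt N98365 F420656) (tt N76360 F392241) (tt N85140 F371723) (tt N109749 D212979) (tt N86843 (iv7 F392242)))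
theorem Q76440 : ∀ i, i < 76440 → P i := stepQ 76439 Q76439 (allL N76439 (tt N43075 (iv1 D151710)) (tt N94001 F402774) (tt N86843 (iv2 F377396)) (tt N56598 (iv3 F351269)) (tt N76363 (iv4 F363066)) (tt N85139 (iv5 F371719)) (tt N86839 (iv6 F377387)) (tt N92951 F398887))
theorem Q76441 : ∀ i, i < 76441 → P i := stepQ 76440 Q76440 (allL N76440 (tt N48463 (iv1 F309808)) (tt N76018 (iv0 F311956)) (tt N43992 (iv2 F311959)) (tt N64638 (iv3 F311961)) (tt N47942 F308737) (tt N48098 F238602) (tt N43077 (iv6 D151725)) (tt N73621 (iv7 F323800)))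
theorem Q76442 : ∀ i, i < 76442 → P i := stepQ 76441 Q76441 (allL N76441 (tt N79096 (iv1 F252500)) (tt N44553 F252506) (tt N77630 (iv2 F244321)) (tt N80493 (iv3 F337034)) (tt N80392 (iv4 F337033)) (tt N77624 (iv5 F335014)) (tt N43080 (iv6 D151729)) (tt N44491 F238605))
theorem Q76443 : ∀ i, i < 76443 → P i := stepQ 76442 Q76442 (allL N76442 (tt N66866 F308652) (tt N57697 F308653) (tt N72192 F311105) (tt N46484 F308654) (tt N102989 (iv4 F439572)) (tt N62314 (iv5 F317435)) (tt N43083 (iv6 D151749)) (tt N76021 F308656))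
theorem Q76444 : ∀ i, i < 76444 → P i := stepQ 76443 Q76443 (allL N76443 (tt N62827 (iv1 F324742)) (tt N43087 (iv0 D151761)) (tt N74417 (iv2 F238673)) (tt N62835 F323405) (tt N74406 F238674) (tt N107178 (iv5 F457360)) (tt N62855 F323406) (tt N45222 (iv7 F323530)))
theorem Q76445 : ∀ i, i < 76445 → P i := stepQ 76444 Q76444 (allL N76444 (tt N73704 (iv1 F348301)) (tt N73717 F356821) (tt N72167 (iv2 F356815)) (tt N73806 F356817) (tt N72164 F356818) (tt N43087 (iv5 D151764)) (tt N73619 F356819) (tt N73715 (iv7 F356836)))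
theorem Q76446 : ∀ i, i < 76446 → P i := stepQ 76445 Q76445 (allL N76445 (tt N45222 (iv1 F323528)) (tt N74417 F238679) (tt N62827 (iv2 F324743)) (tt N75230 F323402) (tt N43088 F238677) (tt N73715 (iv5 F356834)) (tt N63630 F323404) (tt N43087 (iv7 D151765)))
theorem Q76447 : ∀ i, i < 76447 → P i := stepQ 76446 Q76446 (allL N76446 (tt N45599 F255588) (tt N75824 (iv0 F309797)) (tt N56123 F238687) (tt N43092 F238688) (tt N79394 (iv4 F255587)) (tt N77169 F307780) (tt N43090 (iv6 D151769)) (tt N78357 (iv7 F312350)))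
theorem Q76448 : ∀ i, i < 76448 → P i := stepQ 76447 Q76447 (allL N76447 (tt N63860 (iv1 F307854)) (tt N69582 F307794) (tt N76019 F238693) (tt N78357 (iv3 F312349)) (tt N54256 (iv4 F342355)) (tt N63632 F307795) (tt N54254 (iv6 F304752)) (tt N43092 (iv7 D151776)))
theorem Q76449 : ∀ i, i < 76449 → P i := stepQ 76448 Q76448 (allL N76448 (tt N53929 (iv1 F337186)) (tt N43097 (iv0 D151798)) (tt N64392 (iv2 F332480)) (tt N43155 F306885) (tt N64297 (iv4 F302001)) (tt N44015 F317628) (tt N104157 (iv6 F444468)) (tt N64395 (iv7 F305595)))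
theorem Q76450 : ∀ i, i < 76450 → P i := stepQ 76449 Q76449 (allL N76449 (tt N43097 (iv1 D151799)) (tt N53929 (iv0 F337181)) (tt N64395 F332482) (tt N75607 (iv3 F337172)) (tt N64296 (iv4 F301999)) (tt N45276 F332483) (tt N43125 F332484) (tt N64392 F332485))
theorem Q76451 : ∀ i, i < 76451 → P i := stepQ 76450 Q76450 (allL N76450 (tt N43099 (iv1 D151938)) (tt N68460 F238914) (tt N47740 (iv2 F314274)) (tt N68364 (iv3 F238916)) (tt N68469 (iv4 F337663)) (tt N99996 (iv5 F427107)) (tt N47739 F311859) (tt N68459 F238915))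
theorem Q76452 : ∀ i, i < 76452 → P i := stepQ 76451 Q76451 (allL N76451 (tt N47740 F316656) (tt N68459 F238923) (tt N68460 F238919) (tt N43109 F238920) (tt N100397 (iv4 F428792)) (tt N80491 F337079) (tt N68483 F238921) (tt N43099 (iv7 D151939)))
theorem Q76453 : ∀ i, i < 76453 → P i := stepQ 76452 Q76452 (allL N76452 (tt N57268 F238926) (tt N57275 F238927) (tt N57273 F238924) (tt N104188 F444595) (tt N43100 (iv4 D151940)) (tt N100207 (iv5 F427997)) (tt N109720 F468282) (tt N57272 F238925))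
theorem Q76454 : ∀ i, i < 76454 → P i := stepQ 76453 Q76453 (allL N76453 (tt N109750 D212980) (tt N98362 (iv0 F448215)) (tt N87505 (iv2 F379595)) (tt N69623 F238928) (tt N109720 F468281) (tt N78815 (iv5 F250991)) (tt N43100 (iv6 D151941)) (tt N109751 D212981))
theorem Q76455 : ∀ i, i < 76455 → P i := stepQ 76454 Q76454 (allL N76454 (tt N83820 F374376) (tt N109752 D212982) (tt N109753 D212983) (tt N43101 (iv3 D151942)) (tt N91217 (iv4 F392302)) (tt N75546 (iv5 F356694)) (tt N105901 (iv6 F452262)) (tt N109700 (iv7 F468182)))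
theorem Q76456 : ∀ i, i < 76456 → P i := stepQ 76455 Q76455 (allL N76455 (tt N51364 F238931) (tt N109745 (iv0 F468408)) (tt N53058 F238929) (tt N105901 (iv3 F452261)) (tt N43102 F238930) (tt N105769 (iv5 F451621)) (tt N43101 (iv6 D151943)) (tt N109754 D212984))
theorem Q76457 : ∀ i, i < 76457 → P i := stepQ 76456 Q76456 (allL N76456 (tt N50486 (iv1 F292420)) (tt N43102 (iv0 D151944)) (tt N53056 (iv2 F355753)) (tt N86660 F376712) (tt N78283 (iv4 F355759)) (tt N50504 (iv5 F349276)) (tt N78282 (iv6 F349279)) (tt N53057 (iv7 F349274)))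
theorem Q76458 : ∀ i, i < 76458 → P i := stepQ 76457 Q76457 (allL N76457 (tt N43102 (iv1 D151945)) (tt N50486 (iv0 F292419)) (tt N53057 F355752) (tt N97177 F415774) (tt N97173 (iv4 F415751)) (tt N50503 (iv5 F355742)) (tt N109755 D212985) (tt N53056 (iv7 F355755)))
theorem Q76459 : ∀ i, i < 76459 → P i := stepQ 76458 Q76458 (allL N76458 (tt N53057 (iv1 F238937)) (tt N53056 F238938) (tt N50486 (iv2 F292421)) (tt N83747 (iv3 F345006)) (tt N109754 (iv4 F468458)) (tt N50485 (iv5 F292999)) (tt N105841 (iv6 F451979)) (tt N43102 (iv7 D151946)))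
theorem Q76460 : ∀ i, i < 76460 → P i := stepQ 76459 Q76459 (allL N76459 (tt N57474 F238942) (tt N57455 F238943) (tt N57470 F238940) (tt N81194 (iv3 F319030)) (tt N104009 (iv4 F443771)) (tt N43103 (iv5 D151948)) (tt N83825 F316653) (tt N57471 F238941))
theorem Q76461 : ∀ i, i < 76461 → P i := stepQ 76460 Q76460 (allL N76460 (tt N43115 (iv1 F238959)) (tt N43105 (iv0 D151958)) (tt N57461 (iv2 F238960)) (tt N100609 (iv3 F429689)) (tt N109666 (iv4 F468010)) (tt N43120 F238958) (tt N109756 D212986) (tt N57458 (iv7 F238961)))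
theorem Q76462 : ∀ i, i < 76462 → P i := stepQ 76461 Q76461 (allL N76461 (tt N43105 (iv1 D151959)) (tt N43115 F238962) (tt N57458 (iv2 F238965)) (tt N107651 (iv3 F459081)) (tt N100207 (iv4 F427995)) (tt N43121 F238964) (tt N100206 F427993) (tt N57461 F238963))
theorem Q76463 : ∀ i, i < 76463 → P i := stepQ 76462 Q76462 (allL N76462 (tt N85995 F374788) (tt N84891 (iv0 F371013)) (tt N89623 (iv2 F386993)) (tt N54290 F366585) (tt N86179 (iv4 F375289)) (tt N109757 D212987) (tt N43105 (iv6 D151960)) (tt N85519 (iv7 F372921)))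
theorem Q76464 : ∀ i, i < 76464 → P i := stepQ 76463 Q76463 (allL N76463 (tt N64730 (iv1 F361487)) (tt N43106 (iv0 D151961)) (tt N77316 (iv2 F361925)) (tt N64648 (iv3 F361928)) (tt N69650 F238966) (tt N89959 (iv5 F388107)) (tt N64645 F361924) (tt N53337 (iv7 F361923)))
theorem Q76465 : ∀ i, i < 76465 → P i := stepQ 76464 Q76464 (allL N76464 (tt N43106 (iv1 D151962)) (tt N64730 (iv0 F361482)) (tt N53337 (iv2 F361922)) (tt N109758 D212988) (tt N69651 (iv4 F332436)) (tt N89960 (iv5 F388109)) (tt N53309 (iv6 F361934)) (tt N77316 F361930))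
theorem Q76466 : ∀ i, i < 76466 → P i := stepQ 76465 Q76465 (allL N76465 (tt N109759 D212989) (tt N109760 D212990) (tt N109699 (iv2 F468173)) (tt N54291 F366583) (tt N109761 D212991) (tt N43106 (iv5 D151963)) (tt N109757 (iv6 F468476)) (tt N109762 D212992))
theorem Q76467 : ∀ i, i < 76467 → P i := stepQ 76466 Q76466 (allL N76466 (tt N53337 (iv1 F361921)) (tt N77316 F361932) (tt N64730 F361484) (tt N53371 (iv3 F361496)) (tt N43109 F238967) (tt N109762 (iv5 F468497)) (tt N64728 F342023) (tt N43106 (iv7 D151964)))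
theorem Q76468 : ∀ i, i < 76468 → P i := stepQ 76467 Q76467 (allL N76467 (tt N73365 F337195) (tt N90866 F391090) (tt N45275 F238972) (tt N89422 (iv3 F386443)) (tt N43108 (iv4 D151969)) (tt N109763 D212993) (tt N43110 F238973) (tt N90867 (iv7 F391092)))
theorem Q76469 : ∀ i, i < 76469 → P i := stepQ 76468 Q76468 (allL N76468 (tt N45276 (iv1 F238978)) (tt N44015 F317623) (tt N45277 F238974) (tt N80491 (iv3 F337081)) (tt N90867 (iv4 F391093)) (tt N43109 F238975) (tt N45274 F238976) (tt N43108 (iv7 D151970)))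
theorem Q76470 : ∀ i, i < 76470 → P i := stepQ 76469 Q76469 (allL N76469 (tt N52143 F375299) (tt N109738 (iv0 F468365)) (tt N92589 (iv2 F397517)) (tt N86667 (iv3 F376727)) (tt N94008 (iv4 F402801)) (tt N43114 F238983) (tt N43111 (iv6 D151972)) (tt N86662 (iv7 F376718)))
theorem Q76471 : ∀ i, i < 76471 → P i := stepQ 76470 Q76470 (allL N76470 (tt N85096 (iv1 F371617)) (tt N56427 F238988) (tt N60257 F238986) (tt N87616 F379899) (tt N43112 (iv4 D151974)) (tt N109764 D212994) (tt N109765 D212995) (tt N53060 F238987))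
theorem Q76472 : ∀ i, i < 76472 → P i := stepQ 76471 Q76471 (allL N76471 (tt N83749 (iv1 F367236)) (tt N83748 F344971) (tt N60258 F238989) (tt N43114 F238990) (tt N109765 (iv4 F468509)) (tt N86667 (iv5 F376728)) (tt N43112 (iv6 D151975)) (tt N50487 (iv7 F292427)))
theorem Q76473 : ∀ i, i < 76473 → P i := stepQ 76472 Q76472 (allL N76472 (tt N87508 F379610) (tt N52099 (iv0 F377090)) (tt N87598 F379849) (tt N43113 (iv3 D151976)) (tt N87616 (iv4 F379898)) (tt N105478 (iv5 F450416)) (tt N86760 F377089) (tt N87599 (iv7 F379852)))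
theorem Q76474 : ∀ i, i < 76474 → P i := stepQ 76473 Q76473 (allL N76473 (tt N83792 F375295) (tt N86453 F376260) (tt N86658 (iv2 F376698)) (tt N86760 (iv3 F377085)) (tt N43114 F238992) (tt N49481 F375296) (tt N43113 (iv6 D151977)) (tt N86657 (iv7 F376692)))
theorem Q76475 : ∀ i, i < 76475 → P i := stepQ 76474 Q76474 (allL N76474 (tt N105841 F451982) (tt N43114 (iv0 D151978)) (tt N109701 F468187) (tt N51783 F376263) (tt N51524 (iv4 F376261)) (tt N87149 (iv5 F378552)) (tt N105905 (iv6 F452282)) (tt N52123 F376264))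
theorem Q76476 : ∀ i, i < 76476 → P i := stepQ 76475 Q76475 (allL N76475 (tt N43114 (iv1 D151979)) (tt N105841 (iv0 F451981)) (tt N52123 F375298) (tt N109738 (iv3 F468362)) (tt N51525 (iv4 F375297)) (tt N87582 (iv5 F379806)) (tt N108356 (iv6 F462226)) (tt N109701 (iv7 F468189)))
theorem Q76477 : ∀ i, i < 76477 → P i := stepQ 76476 Q76476 (allL N76476 (tt N52123 (iv1 F364665)) (tt N109701 F468188) (tt N105841 (iv2 F451976)) (tt N50487 (iv3 F292425)) (tt N86657 (iv4 F376694)) (tt N86662 (iv5 F376717)) (tt N50486 (iv6 F292422)) (tt N43114 (iv7 D151980)))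
theorem Q76478 : ∀ i, i < 76478 → P i := stepQ 76477 Q76477 (allL N76477 (tt N107486 F458490) (tt N109766 D212996) (tt N109702 (iv2 F468191)) (tt N73162 F356691) (tt N75545 (iv4 F356692)) (tt N109767 D212997) (tt N43115 (iv6 D151985)) (tt N109768 D212998))
theorem Q76479 : ∀ i, i < 76479 → P i := stepQ 76478 Q76478 (allL N76478 (tt N64728 (iv1 F342021)) (tt N43116 (iv0 D151986)) (tt N64727 (iv2 F316790)) (tt N105004 (iv3 F448321)) (tt N64892 (iv4 F310014)) (tt N90119 (iv5 F388599)) (tt N47451 F348225) (tt N64690 (iv7 F342017)))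
theorem Q76480 : ∀ i, i < 76480 → P i := stepQ 76479 Q76479 (allL N76479 (tt N53303 (iv1 F359448)) (tt N71277 (iv0 F238999)) (tt N54047 F357803) (tt N53475 (iv3 F357805)) (tt N82579 (iv4 F342025)) (tt N43116 (iv5 D151987)) (tt N109767 (iv6 F468516)) (tt N64729 (iv7 F352849)))
theorem Q76481 : ∀ i, i < 76481 → P i := stepQ 76480 Q76480 (allL N76480 (tt N43119 (iv1 D151991)) (tt N80493 (iv0 F337039)) (tt N69413 F248112) (tt N44536 F248113) (tt N68513 F337040) (tt N98404 (iv5 F420814)) (tt N109769 D212999) (tt N80490 (iv7 F355320)))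
theorem Q76482 : ∀ i, i < 76482 → P i := stepQ 76481 Q76481 (allL N76481 (tt N69413 F355319) (tt N80490 F337068) (tt N80493 F337035) (tt N43126 F239007) (tt N100385 (iv4 F428726)) (tt N45137 F335216) (tt N52368 F335217) (tt N43119 (iv7 D151992)))
theorem Q76483 : ∀ i, i < 76483 → P i := stepQ 76482 Q76482 (allL N76482 (tt N44568 F339117) (tt N54041 F339118) (tt N57462 F239010) (tt N76742 F239822) (tt N57454 F239011) (tt N53341 (iv5 F348216)) (tt N43120 (iv6 D151994)) (tt N83832 (iv7 F351912)))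
theorem Q76484 : ∀ i, i < 76484 → P i := stepQ 76483 Q76483 (allL N76483 (tt N53707 (iv1 F338837)) (tt N53709 (iv0 F338845)) (tt N79121 F342637) (tt N43121 (iv3 D151995)) (tt N69565 F239012) (tt N107651 (iv5 F459083)) (tt N53698 (iv6 F342639)) (tt N57460 F239013))
theorem Q76485 : ∀ i, i < 76485 → P i := stepQ 76484 Q76484 (allL N76484 (tt N53935 (iv1 F338068)) (tt N53949 F338090) (tt N53950 F338063) (tt N43124 F239018) (tt N78604 F338064) (tt N81375 F338065) (tt N43122 (iv6 D152000)) (tt N53244 (iv7 F338062)))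
theorem Q76486 : ∀ i, i < 76486 → P i := stepQ 76485 Q76485 (allL N76485 (tt N43127 (iv1 F239020)) (tt N43123 (iv0 D152001)) (tt N57450 (iv2 F239021)) (tt N100611 (iv3 F429700)) (tt N98659 F421766) (tt N57440 F239019) (tt N109770 D213000) (tt N57439 (iv7 F239022)))
theorem Q76487 : ∀ i, i < 76487 → P i := stepQ 76486 Q76486 (allL N76486 (tt N63313 (iv1 F386978)) (tt N63312 (iv0 F386977)) (tt N78764 F362841) (tt N84074 (iv3 F368020)) (tt N89616 F386976) (tt N90837 (iv5 F391012)) (tt N43123 (iv6 D152003)) (tt N78765 (iv7 F362843)))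
theorem Q76488 : ∀ i, i < 76488 → P i := stepQ 76487 Q76487 (allL N76487 (tt N83278 F348245) (tt N43124 (iv0 D152004)) (tt N109067 F465191) (tt N100614 (iv3 F429710)) (tt N57481 F338076) (tt N77386 F363405) (tt N53930 (iv6 F340967)) (tt N104258 (iv7 F444981)))
theorem Q76489 : ∀ i, i < 76489 → P i := stepQ 76488 Q76488 (allL N76488 (tt N43124 (iv1 D152005)) (tt N83278 F364029) (tt N104258 (iv2 F444979)) (tt N109771 D213001) (tt N57482 (iv4 F337888)) (tt N77385 (iv5 F364030)) (tt N107650 F459079) (tt N109067 (iv7 F465193)))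
theorem Q76490 : ∀ i, i < 76490 → P i := stepQ 76489 Q76489 (allL N76489 (tt N81368 (iv1 F361526)) (tt N81371 (iv0 F348227)) (tt N43801 F338134) (tt N81375 (iv3 F338133)) (tt N77364 (iv4 F353686)) (tt N43124 (iv5 D152006)) (tt N90837 (iv6 F391013)) (tt N90605 (iv7 F390240)))
theorem Q76491 : ∀ i, i < 76491 → P i := stepQ 76490 Q76490 (allL N76490 (tt N104258 (iv1 F444983)) (tt N109067 F465192) (tt N83278 (iv2 F338060)) (tt N53244 F338059) (tt N43126 F239027) (tt N90605 (iv5 F390239)) (tt N53242 (iv6 F338061)) (tt N43124 (iv7 D152007)))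
theorem Q76492 : ∀ i, i < 76492 → P i := stepQ 76491 Q76491 (allL N76491 (tt N94164 F403498) (tt N43132 F247750) (tt N64397 (iv2 F332474)) (tt N109772 D213002) (tt N43125 (iv4 D152010)) (tt N101501 (iv5 F433165)) (tt N64296 (iv6 F332487)) (tt N94165 (iv7 F403500)))
theorem Q76493 : ∀ i, i < 76493 → P i := stepQ 76492 Q76492 (allL N76492 (tt N75569 (iv1 F278371)) (tt N75534 (iv0 F278367)) (tt N69416 F247841) (tt N100142 (iv3 F427660)) (tt N80486 (iv4 F366624)) (tt N43125 (iv5 D152011)) (tt N108294 (iv6 F461933)) (tt N74870 (iv7 F327716)))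
theorem Q76494 : ∀ i, i < 76494 → P i := stepQ 76493 Q76493 (allL N76493 (tt N109773 D213003) (tt N109136 (iv0 F465509)) (tt N90454 (iv2 F389703)) (tt N88458 (iv3 F383134)) (tt N105795 (iv4 F451751)) (tt N54764 (iv5 F365560)) (tt N43127 (iv6 D152023)) (tt N109774 D213004))
theorem Q76495 : ∀ i, i < 76495 → P i := stepQ 76494 Q76494 (allL N76494 (tt N53242 F335222) (tt N43128 (iv0 D152024)) (tt N53289 (iv2 F311964)) (tt N107604 (iv3 F458905)) (tt N57456 F239040) (tt N77318 (iv5 F366719)) (tt N53304 F366718) (tt N52718 (iv7 F313613)))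
theorem Q76496 : ∀ i, i < 76496 → P i := stepQ 76495 Q76495 (allL N76495 (tt N89166 (iv1 F385419)) (tt N101179 (iv0 F432074)) (tt N53941 (iv2 F365561)) (tt N54092 F365558) (tt N54766 (iv4 F365557)) (tt N43128 (iv5 D152026)) (tt N54764 F365559) (tt N83277 (iv7 F365562)))
theorem Q76497 : ∀ i, i < 76497 → P i := stepQ 76496 Q76496 (allL N76496 (tt N100178 (iv1 F427868)) (tt N92587 (iv0 F397509)) (tt N85083 (iv2 F371580)) (tt N63985 F366659) (tt N44953 F366223) (tt N109775 D213005) (tt N43131 (iv6 D152034)) (tt N66578 F366224))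
theorem Q76498 : ∀ i, i < 76498 → P i := stepQ 76497 Q76497 (allL N76497 (tt N64535 (iv1 F364120)) (tt N81836 (iv0 F364118)) (tt N94166 (iv2 F403504)) (tt N63986 F332470) (tt N100762 (iv4 F430347)) (tt N43132 (iv5 D152036)) (tt N109775 (iv6 F468556)) (tt N81898 (iv7 F332469)))
theorem Q76499 : ∀ i, i < 76499 → P i := stepQ 76498 Q76498 (allL N76498 (tt N94165 (iv1 F403499)) (tt N64397 (iv0 F332472)) (tt N94164 (iv2 F403493)) (tt N53520 (iv3 F332465)) (tt N80442 F332463) (tt N81898 F332468) (tt N53518 (iv6 F332466)) (tt N43132 (iv7 D152037)))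
theorem Q76500 : ∀ i, i < 76500 → P i := stepQ 76499 Q76499 (allL N76499 (tt N94153 F403457) (tt N76009 (iv0 F359905)) (tt N88922 (iv2 F384544)) (tt N43133 (iv3 D152038)) (tt N78316 F247993) (tt N88920 F384539) (tt N109776 D213006) (tt N70536 F239050))
theorem Q76501 : ∀ i, i < 76501 → P i := stepQ 76500 Q76500 (allL N76500 (tt N88907 (iv1 F384503)) (tt N88513 (iv0 F383349)) (tt N70538 F239051) (tt N88920 (iv3 F384537)) (tt N109777 D213007) (tt N43133 (iv5 D152039)) (tt N109778 D213008) (tt N70537 F239052))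
theorem Q76502 : ∀ i, i < 76502 → P i := stepQ 76501 Q76501 (allL N76501 (tt N109779 D213009) (tt N104155 (iv0 F444456)) (tt N70539 F239053) (tt N109776 (iv3 F468561)) (tt N78546 (iv4 F366445)) (tt N109780 D213010) (tt N43133 (iv6 D152040)) (tt N109781 D213011))
theorem Q76503 : ∀ i, i < 76503 → P i := stepQ 76502 Q76502 (allL N76502 (tt N53123 (iv1 F354656)) (tt N70540 F239064) (tt N43136 F239060) (tt N76946 (iv3 F354527)) (tt N70405 F239062) (tt N43135 (iv5 D152044)) (tt N96477 (iv6 F412683)) (tt N70520 F239061))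
theorem Q76504 : ∀ i, i < 76504 → P i := stepQ 76503 Q76503 (allL N76503 (tt N70520 (iv1 F239065)) (tt N43136 (iv0 D152045)) (tt N53123 (iv2 F354657)) (tt N109493 (iv3 F467256)) (tt N109782 D213012) (tt N53121 F354624) (tt N109783 D213013) (tt N70540 (iv7 F354652)))
theorem Q76505 : ∀ i, i < 76505 → P i := stepQ 76504 Q76504 (allL N76504 (tt N43136 (iv1 D152046)) (tt N70520 F239066) (tt N70540 (iv2 F354651)) (tt N49463 F354659) (tt N109784 D213014) (tt N49462 (iv5 F317517)) (tt N109785 D213015) (tt N53123 (iv7 F354658)))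
theorem Q76506 : ∀ i, i < 76506 → P i := stepQ 76505 Q76505 (allL N76505 (tt N109786 D213016) (tt N96313 (iv0 F412680)) (tt N70405 F239068) (tt N109787 D213017) (tt N43136 (iv4 D152047)) (tt N70395 F239070) (tt N96476 (iv6 F412678)) (tt N70541 F239069))
theorem Q76507 : ∀ i, i < 76507 → P i := stepQ 76506 Q76506 (allL N76506 (tt N75748 F351275) (tt N109195 (iv0 F465745)) (tt N96477 (iv2 F412681)) (tt N43140 F239071) (tt N96476 F412679) (tt N75027 F391589) (tt N43136 (iv6 D152048)) (tt N109196 (iv7 F465748)))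
theorem Q76508 : ∀ i, i < 76508 → P i := stepQ 76507 Q76507 (allL N76507 (tt N85196 (iv1 F371859)) (tt N85195 F371857) (tt N84824 (iv2 F370753)) (tt N48170 F318520) (tt N84823 (iv4 F370752)) (tt N109788 D213018) (tt N43137 (iv6 D152050)) (tt N85192 (iv7 F371844)))
theorem Q76509 : ∀ i, i < 76509 → P i := stepQ 76508 Q76508 (allL N76508 (tt N109789 D213019) (tt N105419 (iv0 F450177)) (tt N95235 F407534) (tt N95245 (iv3 F407562)) (tt N85203 (iv4 F371877)) (tt N96685 (iv5 F413443)) (tt N43138 (iv6 D152052)) (tt N85199 (iv7 F371870)))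
theorem Q76510 : ∀ i, i < 76510 → P i := stepQ 76509 Q76509 (allL N76509 (tt N85936 F394208) (tt N86707 F394209) (tt N86706 (iv2 F411628)) (tt N43139 (iv3 D152053)) (tt N109787 (iv4 F468608)) (tt N93998 (iv5 F402758)) (tt N61154 F386975) (tt N86705 (iv7 F376862)))
theorem Q76511 : ∀ i, i < 76511 → P i := stepQ 76510 Q76510 (allL N76510 (tt N107918 F460285) (tt N66860 (iv0 F386971)) (tt N100196 (iv2 F427942)) (tt N61154 (iv3 F386973)) (tt N43140 F239073) (tt N74885 F351274) (tt N43139 (iv6 D152054)) (tt N109362 (iv7 F466582)))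
theorem Q76512 : ∀ i, i < 76512 → P i := stepQ 76511 Q76511 (allL N76511 (tt N43140 (iv1 D152056)) (tt N100197 F427948) (tt N63310 F413388) (tt N99885 (iv3 F426678)) (tt N63280 (iv4 F413387)) (tt N100760 (iv5 F430339)) (tt N63283 F413389) (tt N100195 (iv7 F427940)))
theorem Q76513 : ∀ i, i < 76513 → P i := stepQ 76512 Q76512 (allL N76512 (tt N63310 (iv1 F363658)) (tt N100195 F427941) (tt N100197 (iv2 F427946)) (tt N109196 (iv3 F465752)) (tt N109362 (iv4 F466578)) (tt N100168 (iv5 F427809)) (tt N109790 D213020) (tt N43140 (iv7 D152057)))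
theorem Q76514 : ∀ i, i < 76514 → P i := stepQ 76513 Q76513 (allL N76513 (tt N106360 (iv1 F454141)) (tt N106272 (iv0 F453835)) (tt N94152 (iv2 F403450)) (tt N70542 F239074) (tt N74961 F355810) (tt N91532 (iv5 F393517)) (tt N43141 (iv6 D152058)) (tt N109790 (iv7 F468623)))
theorem Q76515 : ∀ i, i < 76515 → P i := stepQ 76514 Q76514 (allL N76514 (tt N100190 (iv1 F427927)) (tt N100025 (iv0 F427259)) (tt N77779 (iv2 F348202)) (tt N70544 F239076) (tt N47676 F348201) (tt N43142 (iv5 D152061)) (tt N91532 (iv6 F393516)) (tt N64387 (iv7 F348203)))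
theorem Q76516 : ∀ i, i < 76516 → P i := stepQ 76515 Q76515 (allL N76515 (tt N48410 F339000) (tt N44519 F339003) (tt N75800 F338999) (tt N43143 (iv3 D152063)) (tt N94474 (iv4 F404626)) (tt N72402 (iv5 F333276)) (tt N109791 D213021) (tt N73944 (iv7 F338998)))
theorem Q76517 : ∀ i, i < 76517 → P i := stepQ 76516 Q76516 (allL N76516 (tt N83832 (iv1 F351911)) (tt N57462 (iv0 F339001)) (tt N44568 F339100) (tt N54044 (iv3 F339101)) (tt N43143 (iv4 D152064)) (tt N71838 F339099) (tt N90418 (iv6 F389574)) (tt N54041 (iv7 F339114)))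
theorem Q76518 : ∀ i, i < 76518 → P i := stepQ 76517 Q76517 (allL N76517 (tt N104154 F444452) (tt N104157 F444469) (tt N73953 (iv2 F338979)) (tt N109791 (iv3 F468627)) (tt N90418 (iv4 F389576)) (tt N76291 F239078) (tt N43143 (iv6 D152066)) (tt N77695 (iv7 F252479)))
theorem Q76519 : ∀ i, i < 76519 → P i := stepQ 76518 Q76518 (allL N76518 (tt N57462 F339065) (tt N83832 (iv0 F351905)) (tt N54041 (iv2 F339112)) (tt N43452 F339067) (tt N43144 (iv4 D152069)) (tt N72358 F339068) (tt N53302 F349697) (tt N44568 F339069))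
theorem Q76520 : ∀ i, i < 76520 → P i := stepQ 76519 Q76519 (allL N76519 (tt N80592 F342603) (tt N82038 F363117) (tt N54039 F342621) (tt N72392 (iv3 F342610)) (tt N53302 (iv4 F342631)) (tt N76134 (iv5 F310091)) (tt N43144 (iv6 D152071)) (tt N83253 F342624))
theorem Q76521 : ∀ i, i < 76521 → P i := stepQ 76520 Q76520 (allL N76520 (tt N43146 (iv1 D152079)) (tt N77584 F243883) (tt N60373 (iv2 F323466)) (tt N100139 (iv3 F427649)) (tt N102983 (iv4 F439543)) (tt N57289 (iv5 F351706)) (tt N100342 (iv6 F428497)) (tt N44790 F239092))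
theorem Q76522 : ∀ i, i < 76522 → P i := stepQ 76521 Q76521 (allL N76521 (tt N82364 (iv1 F353888)) (tt N46825 F353883) (tt N65412 (iv2 F353900)) (tt N88822 (iv3 F384257)) (tt N79138 F306770) (tt N65398 (iv5 F345820)) (tt N43157 (iv6 D152142)) (tt N65416 F353885))
theorem Q76523 : ∀ i, i < 76523 → P i := stepQ 76522 Q76522 (allL N76522 (tt N80362 (iv1 F353866)) (tt N75971 F353865) (tt N80367 F353862) (tt N43161 F239206) (tt N68023 F239207) (tt N80131 (iv5 F353863)) (tt N43159 (iv6 D152154)) (tt N80366 (iv7 F353864)))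
theorem Q76524 : ∀ i, i < 76524 → P i := stepQ 76523 Q76523 (allL N76523 (tt N48167 F366450) (tt N49027 F366451) (tt N70531 F239220) (tt N90430 F389624) (tt N109792 D213022) (tt N43160 (iv5 D152158)) (tt N109793 D213023) (tt N70526 F239221))
theorem Q76525 : ∀ i, i < 76525 → P i := stepQ 76524 Q76524 (allL N76524 (tt N81970 F353870) (tt N83306 F366851) (tt N70532 F239222) (tt N100067 (iv3 F427415)) (tt N43161 F239223) (tt N100905 F430909) (tt N43160 (iv6 D152159)) (tt N100847 (iv7 F430750)))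
theorem Q76526 : ∀ i, i < 76526 → P i := stepQ 76525 Q76525 (allL N76525 (tt N70535 (iv1 F239228)) (tt N43161 (iv0 D152160)) (tt N67765 F353873) (tt N46828 F353874) (tt N109779 (iv4 F468573)) (tt N106164 (iv5 F453406)) (tt N46825 F353875) (tt N70533 (iv7 F358555)))
theorem Q76527 : ∀ i, i < 76527 → P i := stepQ 76526 Q76526 (allL N76526 (tt N70533 (iv1 F239229)) (tt N67765 (iv0 F339288)) (tt N70535 F239226) (tt N80366 F358560) (tt N100847 (iv4 F430749)) (tt N102661 (iv5 F438110)) (tt N70528 F239227) (tt N43161 (iv7 D152163)))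
theorem Q76528 : ∀ i, i < 76528 → P i := stepQ 76527 Q76527 (allL N76527 (tt N67635 (iv1 F239240)) (tt N70498 F239239) (tt N43162 (iv2 D152165)) (tt N46812 F311928) (tt N55353 F311929) (tt N67620 F239237) (tt N78353 F338862) (tt N70529 F239238))
theorem Q76529 : ∀ i, i < 76529 → P i := stepQ 76528 Q76528 (allL N76528 (tt N52820 (iv1 F321377)) (tt N67932 F239243) (tt N55353 F338856) (tt N53690 (iv3 F338849)) (tt N43162 (iv4 D152166)) (tt N109794 D213024) (tt N76941 (iv6 F345838)) (tt N53706 (iv7 F338855)))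
theorem Q76530 : ∀ i, i < 76530 → P i := stepQ 76529 Q76529 (allL N76529 (tt N90562 (iv1 F390115)) (tt N76897 F355879) (tt N78353 (iv2 F338861)) (tt N43164 F239244) (tt N76941 (iv4 F345837)) (tt N79764 (iv5 F355886)) (tt N43162 (iv6 D152167)) (tt N97393 (iv7 F416687)))
theorem Q76531 : ∀ i, i < 76531 → P i := stepQ 76530 Q76530 (allL N76530 (tt N79121 F342634) (tt N57460 (iv0 F239246)) (tt N53709 F338843) (tt N43163 (iv3 D152168)) (tt N53690 (iv4 F338850)) (tt N101091 (iv5 F431631)) (tt N100844 (iv6 F430732)) (tt N53707 (iv7 F338839)))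
theorem Q76532 : ∀ i, i < 76532 → P i := stepQ 76531 Q76531 (allL N76531 (tt N49027 F366448) (tt N48167 F366449) (tt N70526 F239247) (tt N101091 (iv3 F431634)) (tt N101092 (iv4 F431635)) (tt N43163 (iv5 D152169)) (tt N109795 D213025) (tt N70531 F239248))
theorem Q76533 : ∀ i, i < 76533 → P i := stepQ 76532 Q76532 (allL N76532 (tt N43164 (iv1 D152172)) (tt N70528 F239251) (tt N67645 F357444) (tt N46788 F357445) (tt N53484 F357446) (tt N75601 (iv5 F357448)) (tt N43438 F357447) (tt N70527 (iv7 F357453)))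
theorem Q76534 : ∀ i, i < 76534 → P i := stepQ 76533 Q76533 (allL N76533 (tt N44930 F345821) (tt N44944 F345822) (tt N44942 F330172) (tt N79764 (iv3 F355884)) (tt N96881 F414422) (tt N43164 (iv5 D152173)) (tt N64074 F346123) (tt N44943 F330173))
theorem Q76535 : ∀ i, i < 76535 → P i := stepQ 76534 Q76534 (allL N76534 (tt N67645 (iv1 F351951)) (tt N70527 F239257) (tt N70528 F239253) (tt N97393 (iv3 F416686)) (tt N54080 (iv4 F351955)) (tt N44943 F330174) (tt N70535 F239254) (tt N43164 (iv7 D152174)))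
theorem Q76536 : ∀ i, i < 76536 → P i := stepQ 76535 Q76535 (allL N76535 (tt N100316 F428406) (tt N62221 (iv0 F361625)) (tt N80359 (iv2 F360900)) (tt N43166 F239261) (tt N89928 (iv4 F388028)) (tt N63676 F239262) (tt N43165 (iv6 D152177)) (tt N77706 (iv7 F244732)))
theorem Q76537 : ∀ i, i < 76537 → P i := stepQ 76536 Q76536 (allL N76536 (tt N61010 F335780) (tt N61013 (iv0 F353776)) (tt N76618 (iv2 F239556)) (tt N64042 F239267) (tt N43171 F239268) (tt N102684 (iv5 F438193)) (tt N43170 (iv6 D152183)) (tt N94101 (iv7 F403207)))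
theorem Q76538 : ∀ i, i < 76538 → P i := stepQ 76537 Q76537 (allL N76537 (tt N61738 F363827) (tt N78978 F363828) (tt N78977 F342996) (tt N85792 (iv3 F373960)) (tt N94101 (iv4 F403208)) (tt N85791 F373958) (tt N67098 F355080) (tt N43171 (iv7 D152186)))
theorem Q76539 : ∀ i, i < 76539 → P i := stepQ 76538 Q76538 (allL N76538 (tt N109796 D213026) (tt N82063 (iv0 F278239)) (tt N49635 (iv2 F308368)) (tt N43174 F239270) (tt N49732 (iv4 F312635)) (tt N100738 (iv5 F430236)) (tt N43172 (iv6 D152187)) (tt N91548 (iv7 F393603)))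
theorem Q76540 : ∀ i, i < 76540 → P i := stepQ 76539 Q76539 (allL N76539 (tt N46823 F267524) (tt N46826 F264239) (tt N66842 F239272) (tt N43395 F303428) (tt N43191 F239274) (tt N87027 (iv5 F378088)) (tt N43173 (iv6 D152188)) (tt N44775 F303429))
theorem Q76541 : ∀ i, i < 76541 → P i := stepQ 76540 Q76540 (allL N76540 (tt N77634 F353492) (tt N43174 (iv0 D152189)) (tt N56194 F340919) (tt N60106 F353491) (tt N43230 F340920) (tt N60105 (iv5 F353489)) (tt N109797 D213027) (tt N92848 (iv7 F398493)))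
theorem Q76542 : ∀ i, i < 76542 → P i := stepQ 76541 Q76541 (allL N76541 (tt N91970 (iv1 F395182)) (tt N91969 F395180) (tt N55459 (iv2 F352037)) (tt N100738 F430238) (tt N55484 F352038) (tt N43174 (iv5 D152191)) (tt N87027 (iv6 F378086)) (tt N82114 F352039))
theorem Q76543 : ∀ i, i < 76543 → P i := stepQ 76542 Q76542 (allL N76542 (tt N92848 F398497) (tt N56194 (iv0 F278215)) (tt N77634 F352035) (tt N91548 (iv3 F393600)) (tt N43176 F239275) (tt N82114 (iv5 F352041)) (tt N63738 F352042) (tt N43174 (iv7 D152192)))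
theorem Q76544 : ∀ i, i < 76544 → P i := stepQ 76543 Q76543 (allL N76543 (tt N74827 (iv1 F348633)) (tt N61004 (iv0 F340168)) (tt N64248 F336453) (tt N63546 F259176) (tt N43175 (iv4 D152195)) (tt N64246 (iv5 F336454)) (tt N81500 (iv6 F337700)) (tt N74828 (iv7 F323417)))
theorem Q76545 : ∀ i, i < 76545 → P i := stepQ 76544 Q76544 (allL N76544 (tt N98415 (iv1 F420865)) (tt N98414 F420864) (tt N98397 (iv2 F420778)) (tt N77244 F259177) (tt N109798 D213028) (tt N43175 (iv5 D152196)) (tt N70676 F363794) (tt N98413 (iv7 F420862)))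
theorem Q76546 : ∀ i, i < 76546 → P i := stepQ 76545 Q76545 (allL N76545 (tt N98401 F420800) (tt N109799 D213029) (tt N98398 (iv2 F420782)) (tt N75262 F259178) (tt N81500 F337701) (tt N100660 F429893) (tt N43175 (iv6 D152197)) (tt N104920 (iv7 F447946)))
theorem Q76547 : ∀ i, i < 76547 → P i := stepQ 76546 Q76546 (allL N76546 (tt N73645 F353142) (tt N73969 (iv0 F346291)) (tt N81365 F355213) (tt N81306 F366749) (tt N75853 F353141) (tt N43178 (iv5 D152204)) (tt N81268 (iv6 F274069)) (tt N75408 (iv7 F346280)))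
theorem Q76548 : ∀ i, i < 76548 → P i := stepQ 76547 Q76547 (allL N76547 (tt N70097 (iv1 F353091)) (tt N63856 (iv0 F353092)) (tt N78481 (iv2 F306783)) (tt N63429 (iv3 F353094)) (tt N68362 (iv4 F330271)) (tt N63426 F353095) (tt N43180 (iv6 D152207)) (tt N103618 (iv7 F442260)))
theorem Q76549 : ∀ i, i < 76549 → P i := stepQ 76548 Q76548 (allL N76548 (tt N76786 (iv1 F239937)) (tt N80860 F339363) (tt N80861 (iv2 F339361)) (tt N81288 (iv3 F339362)) (tt N85360 (iv4 F372342)) (tt N43181 (iv5 D152213)) (tt N85361 (iv6 F372346)) (tt N80855 F339360))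
theorem Q76550 : ∀ i, i < 76550 → P i := stepQ 76549 Q76549 (allL N76549 (tt N44022 (iv1 F239288)) (tt N43182 (iv0 D152217)) (tt N76550 (iv2 F335512)) (tt N81314 (iv3 F339751)) (tt N61000 (iv4 F339742)) (tt N102767 (iv5 F438555)) (tt N57366 (iv6 F339217)) (tt N76551 (iv7 F335514)))
theorem Q76551 : ∀ i, i < 76551 → P i := stepQ 76550 Q76550 (allL N76550 (tt N63738 F339218) (tt N43183 (iv0 D152220)) (tt N76549 F335512) (tt N47464 F335505) (tt N43236 F335506) (tt N76785 F335507) (tt N57337 F339216) (tt N61580 F335508))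
theorem Q76552 : ∀ i, i < 76552 → P i := stepQ 76551 Q76551 (allL N76551 (tt N43183 (iv1 D152221)) (tt N63738 (iv0 F335517)) (tt N61580 (iv2 F335515)) (tt N68533 F339752) (tt N43237 F335516) (tt N68530 (iv5 F339754)) (tt N109068 (iv6 F465197)) (tt N76549 F335514))
theorem Q76553 : ∀ i, i < 76553 → P i := stepQ 76552 Q76552 (allL N76552 (tt N109800 D213030) (tt N98385 F420724) (tt N75651 (iv2 F339336)) (tt N98344 (iv3 F420571)) (tt N75641 (iv4 F339221)) (tt N43184 (iv5 D152227)) (tt N68173 F339349) (tt N98422 (iv7 F420883)))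
theorem Q76554 : ∀ i, i < 76554 → P i := stepQ 76553 Q76553 (allL N76553 (tt N66908 (iv1 F339353)) (tt N66953 F339354) (tt N66951 (iv2 F339352)) (tt N43185 (iv3 D152230)) (tt N62522 F339234) (tt N109801 D213031) (tt N62521 (iv6 F349003)) (tt N66950 F339332))
theorem Q76555 : ∀ i, i < 76555 → P i := stepQ 76554 Q76554 (allL N76554 (tt N60999 F339228) (tt N63743 (iv0 F339223)) (tt N75661 (iv2 F339220)) (tt N62530 (iv3 F339230)) (tt N43185 (iv4 D152231)) (tt N75643 F339219) (tt N62529 F339235) (tt N76622 F348643))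
theorem Q76556 : ∀ i, i < 76556 → P i := stepQ 76555 Q76555 (allL N76555 (tt N98385 F420723) (tt N109800 F468677) (tt N98422 (iv2 F420881)) (tt N109801 (iv3 F468681)) (tt N63051 (iv4 F339222)) (tt N43185 (iv5 D152232)) (tt N98331 (iv6 F420525)) (tt N75651 (iv7 F339335)))
theorem Q76557 : ∀ i, i < 76557 → P i := stepQ 76556 Q76556 (allL N76556 (tt N104943 (iv1 F448052)) (tt N98400 (iv0 F420791)) (tt N98423 (iv2 F420884)) (tt N62521 F349007) (tt N62529 (iv4 F339236)) (tt N109802 D213032) (tt N43185 (iv6 D152233)) (tt N68182 F339333))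
theorem Q76558 : ∀ i, i < 76558 → P i := stepQ 76557 Q76557 (allL N76557 (tt N98258 (iv1 F420215)) (tt N43186 (iv0 D152234)) (tt N77663 (iv2 F355587)) (tt N98347 (iv3 F420589)) (tt N77637 F355586) (tt N63746 (iv5 F339229)) (tt N109562 (iv6 F467535)) (tt N77646 (iv7 F355588)))
theorem Q76559 : ∀ i, i < 76559 → P i := stepQ 76558 Q76558 (allL N76558 (tt N43186 (iv1 D152235)) (tt N98258 F420214) (tt N77646 F355589) (tt N108448 (iv3 F462620)) (tt N63754 (iv4 F355582)) (tt N77635 (iv5 F355584)) (tt N101167 (iv6 F432016)) (tt N77663 F355583))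
theorem Q76560 : ∀ i, i < 76560 → P i := stepQ 76559 Q76559 (allL N76559 (tt N109803 D213033) (tt N94126 (iv0 F403337)) (tt N75639 F355596) (tt N89790 (iv3 F387582)) (tt N43186 (iv4 D152236)) (tt N63046 (iv5 F355595)) (tt N43188 F239296) (tt N75037 F355594))
theorem Q76561 : ∀ i, i < 76561 → P i := stepQ 76560 Q76560 (allL N76560 (tt N77646 F339355) (tt N77663 F355591) (tt N98258 (iv2 F420210)) (tt N76347 F239297) (tt N75037 (iv4 F355592)) (tt N43187 F239298) (tt N98390 (iv6 F420741)) (tt N43186 (iv7 D152237)))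
theorem Q76562 : ∀ i, i < 76562 → P i := stepQ 76561 Q76561 (allL N76561 (tt N63602 F336287) (tt N43977 F243986) (tt N45541 F239300) (tt N80768 (iv3 F271472)) (tt N79488 (iv4 F317078)) (tt N91709 (iv5 F394128)) (tt N43189 (iv6 D152239)) (tt N96902 (iv7 F414529)))
theorem Q76563 : ∀ i, i < 76563 → P i := stepQ 76562 Q76562 (allL N76562 (tt N68495 F358667) (tt N102851 (iv0 F438945)) (tt N100135 (iv2 F427625)) (tt N48323 F330879) (tt N109804 D213034) (tt N43192 (iv5 D152247)) (tt N48321 F330880) (tt N81219 (iv7 F363200)))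
theorem Q76564 : ∀ i, i < 76564 → P i := stepQ 76563 Q76563 (allL N76563 (tt N68485 (iv1 F337608)) (tt N68447 (iv0 F337600)) (tt N81319 (iv2 F337602)) (tt N43193 (iv3 D152249)) (tt N48501 F239307) (tt N81266 (iv5 F337598)) (tt N104220 (iv6 F444771)) (tt N74526 F337609))
theorem Q76565 : ∀ i, i < 76565 → P i := stepQ 76564 Q76564 (allL N76564 (tt N102851 (iv1 F438946)) (tt N68495 (iv0 F362437)) (tt N81219 (iv2 F363199)) (tt N81266 F363201) (tt N95417 (iv4 F408150)) (tt N43193 (iv5 D152250)) (tt N95415 (iv6 F408147)) (tt N100135 (iv7 F427628)))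
theorem Q76566 : ∀ i, i < 76566 → P i := stepQ 76565 Q76565 (allL N76565 (tt N90462 F389744) (tt N43974 (iv0 F239309)) (tt N90468 (iv2 F389769)) (tt N104220 (iv3 F444769)) (tt N48500 F239308) (tt N76768 (iv5 F239912)) (tt N43193 (iv6 D152251)) (tt N90458 (iv7 F389722)))
theorem Q76567 : ∀ i, i < 76567 → P i := stepQ 76566 Q76566 (allL N76566 (tt N72322 F319043) (tt N72321 F319044) (tt N44415 F319045) (tt N49207 F348760) (tt N109805 D213035) (tt N43195 (iv5 D152258)) (tt N49206 F348761) (tt N72315 F319046))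
theorem Q76568 : ∀ i, i < 76568 → P i := stepQ 76567 Q76567 (allL N76567 (tt N59460 F354827) (tt N58857 (iv0 F354828)) (tt N43262 F239324) (tt N79788 (iv3 F354825)) (tt N109806 D213036) (tt N43197 (iv5 D152268)) (tt N100140 (iv6 F427652)) (tt N59459 F351728))
theorem Q76569 : ∀ i, i < 76569 → P i := stepQ 76568 Q76568 (allL N76568 (tt N98207 (iv1 F419992)) (tt N104954 (iv0 F448126)) (tt N43266 (iv2 F239344)) (tt N62820 (iv3 F366501)) (tt N109807 D213037) (tt N43198 (iv5 D152273)) (tt N85897 F374355) (tt N43269 (iv7 F239342)))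
theorem Q76570 : ∀ i, i < 76570 → P i := stepQ 76569 Q76569 (allL N76569 (tt N78930 (iv1 F251415)) (tt N50454 F239339) (tt N43267 (iv2 F239333)) (tt N63014 (iv3 F340079)) (tt N75332 F363649) (tt N50752 F239332) (tt N43198 (iv6 D152274)) (tt N50767 (iv7 F239334)))
theorem Q76571 : ∀ i, i < 76571 → P i := stepQ 76570 Q76570 (allL N76570 (tt N56181 (iv1 F239347)) (tt N75537 F352149) (tt N63015 F352154) (tt N43199 (iv3 D152275)) (tt N47473 F346438) (tt N89862 (iv5 F387773)) (tt N47471 F346439) (tt N43264 F239345))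
theorem Q76572 : ∀ i, i < 76572 → P i := stepQ 76571 Q76571 (allL N76571 (tt N104954 (iv1 F448127)) (tt N98207 (iv0 F419991)) (tt N43269 F239350) (tt N89862 (iv3 F387772)) (tt N109808 D213038) (tt N43199 (iv5 D152277)) (tt N97813 (iv6 F418391)) (tt N43266 F239351))
theorem Q76573 : ∀ i, i < 76573 → P i := stepQ 76572 Q76572 (allL N76572 (tt N104961 (iv1 F448158)) (tt N66072 (iv0 F327113)) (tt N43270 F239352) (tt N47471 F339583) (tt N79882 (iv4 F339582)) (tt N92659 (iv5 F397794)) (tt N43199 (iv6 D152278)) (tt N84766 (iv7 F370539)))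
theorem Q76574 : ∀ i, i < 76574 → P i := stepQ 76573 Q76573 (allL N76573 (tt N43200 (iv1 D152280)) (tt N43274 F239353) (tt N43272 F346148) (tt N98703 (iv3 F421924)) (tt N109809 D213039) (tt N46023 (iv5 F239354)) (tt N108799 (iv6 F464003)) (tt N43271 F346149))
theorem Q76575 : ∀ i, i < 76575 → P i := stepQ 76574 Q76574 (allL N76574 (tt N101038 F431405) (tt N106249 F453762) (tt N43273 F239355) (tt N95229 (iv3 F407503)) (tt N43200 (iv4 D152281)) (tt N95228 F407501) (tt N43206 F239356) (tt N96674 (iv7 F413398)))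
theorem Q76576 : ∀ i, i < 76576 → P i := stepQ 76575 Q76575 (allL N76575 (tt N43272 (iv1 F239360)) (tt N43271 F239361) (tt N43274 F239357) (tt N96672 (iv3 F413385)) (tt N96674 (iv4 F413397)) (tt N43201 F239358) (tt N100442 (iv6 F428990)) (tt N43200 (iv7 D152282)))
theorem Q76577 : ∀ i, i < 76577 → P i := stepQ 76576 Q76576 (allL N76576 (tt N63110 F239365) (tt N57444 F239366) (tt N43279 F239362) (tt N61377 F239363) (tt N78306 (iv4 F247908)) (tt N43202 (iv5 D152283)) (tt N109810 D213040) (tt N43275 F239364))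
theorem Q76578 : ∀ i, i < 76578 → P i := stepQ 76577 Q76577 (allL N76577 (tt N61461 F239369) (tt N61459 F239370) (tt N43280 F239367) (tt N107299 (iv3 F457863)) (tt N43203 (iv4 D152284)) (tt N109811 D213041) (tt N107293 (iv6 F457841)) (tt N43277 F239368))
theorem Q76579 : ∀ i, i < 76579 → P i := stepQ 76578 Q76578 (allL N76578 (tt N61456 F239374) (tt N61373 F239375) (tt N43283 F239372) (tt N106329 F454055) (tt N43204 (iv4 D152286)) (tt N109812 D213042) (tt N109813 D213043) (tt N43287 F239373))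
theorem Q76580 : ∀ i, i < 76580 → P i := stepQ 76579 Q76579 (allL N76579 (tt N98237 (iv1 F449285)) (tt N105224 F449284) (tt N43285 F239376) (tt N92593 (iv3 F397541)) (tt N109813 (iv4 F468746)) (tt N98694 (iv5 F421879)) (tt N43204 (iv6 D152287)) (tt N109814 D213044))
theorem Q76581 : ∀ i, i < 76581 → P i := stepQ 76580 Q76580 (allL N76580 (tt N61373 F239379) (tt N61456 F239380) (tt N43287 F239377) (tt N53222 (iv3 F361015)) (tt N43205 (iv4 D152288)) (tt N109815 D213045) (tt N53221 (iv6 F345131)) (tt N43283 F239378))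
theorem Q76582 : ∀ i, i < 76582 → P i := stepQ 76581 Q76581 (allL N76581 (tt N43293 (iv1 F239382)) (tt N43206 (iv0 D152289)) (tt N43289 (iv2 F239383)) (tt N109816 D213046) (tt N63315 F239381) (tt N109817 D213047) (tt N105223 (iv6 F449276)) (tt N43290 (iv7 F239384)))
theorem Q76583 : ∀ i, i < 76583 → P i := stepQ 76582 Q76582 (allL N76582 (tt N43206 (iv1 D152290)) (tt N43293 F239385) (tt N43290 (iv2 F239388)) (tt N90038 (iv3 F388375)) (tt N45158 F239387) (tt N109818 D213048) (tt N48990 F361037) (tt N43289 F239386))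
theorem Q76584 : ∀ i, i < 76584 → P i := stepQ 76583 Q76583 (allL N76583 (tt N105231 F449317) (tt N89315 (iv0 F409311)) (tt N96676 (iv2 F413407)) (tt N43206 (iv3 D152291)) (tt N95721 (iv4 F409305)) (tt N109819 D213049) (tt N95229 F407510) (tt N96709 (iv7 F413556)))
theorem Q76585 : ∀ i, i < 76585 → P i := stepQ 76584 Q76584 (allL N76584 (tt N98352 (iv1 F420610)) (tt N97977 (iv0 F419041)) (tt N43292 F239389) (tt N109819 (iv3 F468775)) (tt N43383 F239391) (tt N43206 (iv5 D152292)) (tt N109820 D213050) (tt N43381 F239390))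
theorem Q76586 : ∀ i, i < 76586 → P i := stepQ 76585 Q76585 (allL N76585 (tt N65316 F239414) (tt N102832 (iv0 F438853)) (tt N43324 F239412) (tt N80952 (iv3 F352109)) (tt N106853 (iv4 F456000)) (tt N43208 (iv5 D152303)) (tt N74241 (iv6 F352083)) (tt N43328 F239413))
theorem Q76587 : ∀ i, i < 76587 → P i := stepQ 76586 Q76586 (allL N76586 (tt N44587 F239418) (tt N99599 (iv0 F425346)) (tt N43325 F239415) (tt N80953 (iv3 F338070)) (tt N63137 F239416) (tt N63703 F239417) (tt N43208 (iv6 D152304)) (tt N108442 (iv7 F462587)))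
theorem Q76588 : ∀ i, i < 76588 → P i := stepQ 76587 Q76587 (allL N76587 (tt N46880 F344412) (tt N46811 F344413) (tt N80954 F344390) (tt N43209 (iv3 D152305)) (tt N44742 F239419) (tt N109821 D213051) (tt N91310 (iv6 F392664)) (tt N43322 F239420))
theorem Q76589 : ∀ i, i < 76589 → P i := stepQ 76588 Q76588 (allL N76588 (tt N102832 F438854) (tt N65316 F239423) (tt N43328 F239421) (tt N109821 (iv3 F468782)) (tt N87688 F421418) (tt N43209 (iv5 D152306)) (tt N67606 (iv6 F338705)) (tt N43324 F239422))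
theorem Q76590 : ∀ i, i < 76590 → P i := stepQ 76589 Q76589 (allL N76589 (tt N104125 F444311) (tt N102783 F438635) (tt N43333 F239449) (tt N103578 (iv3 F442106)) (tt N106954 (iv4 F456423)) (tt N43210 (iv5 D152313)) (tt N102782 F438624) (tt N43343 F239450))
theorem Q76591 : ∀ i, i < 76591 → P i := stepQ 76590 Q76590 (allL N76590 (tt N79999 F339380) (tt N100490 (iv0 F429148)) (tt N43334 F239451) (tt N103932 (iv3 F443425)) (tt N43211 F239452) (tt N77575 (iv5 F346283)) (tt N43210 (iv6 D152314)) (tt N108261 (iv7 F461753)))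
theorem Q76592 : ∀ i, i < 76592 → P i := stepQ 76591 Q76591 (allL N76591 (tt N43211 (iv1 D152318)) (tt N43339 F239465) (tt N43337 F239468) (tt N73890 (iv3 F316960)) (tt N99599 (iv4 F425342)) (tt N62477 F349366) (tt N44412 F311242) (tt N43313 F239466))
theorem Q76593 : ∀ i, i < 76593 → P i := stepQ 76592 Q76592 (allL N76592 (tt N102783 F438633) (tt N104125 (iv0 F444310)) (tt N43343 F239469) (tt N78598 F366832) (tt N101136 (iv4 F431864)) (tt N43212 (iv5 D152319)) (tt N79915 (iv6 F347110)) (tt N43333 F239470))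
theorem Q76594 : ∀ i, i < 76594 → P i := stepQ 76593 Q76593 (allL N76593 (tt N62527 F366199) (tt N62526 F366203) (tt N43345 F239471) (tt N61778 F336255) (tt N43213 (iv4 D152320)) (tt N109822 D213052) (tt N61776 (iv6 F336257)) (tt N43336 F239472))
theorem Q76595 : ∀ i, i < 76595 → P i := stepQ 76594 Q76594 (allL N76594 (tt N106921 (iv1 F456291)) (tt N92590 (iv0 F397529)) (tt N43347 F239473) (tt N106909 (iv3 F456238)) (tt N43214 (iv4 D152321)) (tt N106084 (iv5 F453044)) (tt N99343 (iv6 F424198)) (tt N43350 F239474))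
theorem Q76596 : ∀ i, i < 76596 → P i := stepQ 76595 Q76595 (allL N76595 (tt N92590 (iv1 F397530)) (tt N106921 F456289) (tt N43350 F239479) (tt N100366 (iv3 F428621)) (tt N43215 (iv4 D152323)) (tt N107061 (iv5 F456824)) (tt N47999 F239480) (tt N43347 F239481))
theorem Q76597 : ∀ i, i < 76597 → P i := stepQ 76596 Q76596 (allL N76596 (tt N43354 F239483) (tt N43216 (iv0 D152324)) (tt N43351 F239958) (tt N78021 F366513) (tt N63148 F239482) (tt N106017 (iv5 F452757)) (tt N98877 (iv6 F422675)) (tt N43352 F239959))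
theorem Q76598 : ∀ i, i < 76598 → P i := stepQ 76597 Q76597 (allL N76597 (tt N43216 (iv1 D152325)) (tt N43354 F239485) (tt N43352 F239960) (tt N109523 F467357) (tt N107141 (iv4 F457169)) (tt N106598 (iv5 F455002)) (tt N48001 (iv6 F239971)) (tt N43351 F239961))
theorem Q76599 : ∀ i, i < 76599 → P i := stepQ 76598 Q76598 (allL N76598 (tt N90340 (iv1 F389389)) (tt N90215 (iv0 F388946)) (tt N54662 F357234) (tt N43216 (iv3 D152326)) (tt N53451 (iv4 F357231)) (tt N109823 D213053) (tt N43222 F239486) (tt N53514 F357235))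
theorem Q76600 : ∀ i, i < 76600 → P i := stepQ 76599 Q76599 (allL N76599 (tt N62099 F366263) (tt N109515 (iv0 F467330)) (tt N43353 F239487) (tt N109823 (iv3 F468795)) (tt N70410 (iv4 F347119)) (tt N43216 (iv5 D152327)) (tt N109824 D213054) (tt N105288 (iv7 F449571)))
theorem Q76601 : ∀ i, i < 76601 → P i := stepQ 76600 Q76600 (allL N76600 (tt N43352 (iv1 F239490)) (tt N43351 F239491) (tt N43354 F239488) (tt N53514 (iv3 F343270)) (tt N43217 F239489) (tt N105288 (iv5 F449569)) (tt N100448 (iv6 F429025)) (tt N43216 (iv7 D152328)))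
theorem Q76602 : ∀ i, i < 76602 → P i := stepQ 76601 Q76601 (allL N76601 (tt N98960 (iv1 F422865)) (tt N93513 (iv0 F400992)) (tt N98959 (iv2 F422862)) (tt N43218 (iv3 D152329)) (tt N77037 (iv4 F241495)) (tt N109825 D213055) (tt N99039 F423114) (tt N43370 F239492))
theorem Q76603 : ∀ i, i < 76603 → P i := stepQ 76602 Q76602 (allL N76602 (tt N63683 F239495) (tt N63680 F239496) (tt N43367 F239493) (tt N109825 (iv3 F468803)) (tt N109818 (iv4 F468769)) (tt N43218 (iv5 D152330)) (tt N108542 (iv6 F463018)) (tt N43371 F239494))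
theorem Q76604 : ∀ i, i < 76604 → P i := stepQ 76603 Q76603 (allL N76603 (tt N63680 F239510) (tt N63683 F239511) (tt N43371 F239508) (tt N109608 (iv3 F467711)) (tt N109817 (iv4 F468765)) (tt N43219 (iv5 D152334)) (tt N109826 D213056) (tt N43367 F239509))
theorem Q76605 : ∀ i, i < 76605 → P i := stepQ 76604 Q76604 (allL N76604 (tt N109827 D213057) (tt N109828 D213058) (tt N78038 (iv2 F404294)) (tt N43220 (iv3 D152338)) (tt N63164 F239524) (tt N109829 D213059) (tt N77855 (iv6 F351787)) (tt N43377 F239525))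
theorem Q76606 : ∀ i, i < 76606 → P i := stepQ 76605 Q76605 (allL N76605 (tt N63678 F239528) (tt N63673 F239529) (tt N43375 F239526) (tt N109829 (iv3 F468817)) (tt N109815 (iv4 F468757)) (tt N43220 (iv5 D152339)) (tt N109830 D213060) (tt N43378 F239527))
theorem Q76607 : ∀ i, i < 76607 → P i := stepQ 76606 Q76606 (allL N76606 (tt N54917 F392446) (tt N91470 F393261) (tt N91467 F393255) (tt N43221 (iv3 D152341)) (tt N99653 (iv4 F425601)) (tt N109831 D213061) (tt N98872 (iv6 F422649)) (tt N43373 F239533))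
theorem Q76608 : ∀ i, i < 76608 → P i := stepQ 76607 Q76607 (allL N76607 (tt N63673 F239536) (tt N63678 F239537) (tt N43378 F239534) (tt N109831 (iv3 F468827)) (tt N109812 (iv4 F468744)) (tt N43221 (iv5 D152342)) (tt N99224 (iv6 F423752)) (tt N43375 F239535))
theorem Q76609 : ∀ i, i < 76609 → P i := stepQ 76608 Q76608 (allL N76608 (tt N71537 (iv1 F366081)) (tt N43222 (iv0 D152344)) (tt N98979 F422893) (tt N109832 D213062) (tt N106581 (iv4 F455011)) (tt N109833 D213063) (tt N99050 F455007) (tt N98856 F422592))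
theorem Q76610 : ∀ i, i < 76610 → P i := stepQ 76609 Q76609 (allL N76609 (tt N43222 (iv1 D152345)) (tt N71537 F366080) (tt N98856 (iv2 F422589)) (tt N109834 D213064) (tt N90389 (iv4 F389481)) (tt N109835 D213065) (tt N93487 (iv6 F400890)) (tt N98979 (iv7 F422895)))
theorem Q76611 : ∀ i, i < 76611 → P i := stepQ 76610 Q76610 (allL N76610 (tt N101504 F433189) (tt N106646 F455134) (tt N98980 (iv2 F422896)) (tt N43223 F239540) (tt N101445 F455169) (tt N43222 (iv5 D152347)) (tt N109836 D213066) (tt N100443 (iv7 F428994)))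
theorem Q76612 : ∀ i, i < 76612 → P i := stepQ 76611 Q76611 (allL N76611 (tt N43383 (iv1 F239542)) (tt N43223 (iv0 D152348)) (tt N43379 (iv2 F239543)) (tt N77971 F320454) (tt N109811 (iv4 F468738)) (tt N44273 F320455) (tt N77966 F320456) (tt N43380 (iv7 F239544)))
theorem Q76613 : ∀ i, i < 76613 → P i := stepQ 76612 Q76612 (allL N76612 (tt N43223 (iv1 D152349)) (tt N43383 F239545) (tt N43380 (iv2 F239547)) (tt N109837 D213067) (tt N100291 (iv4 F428280)) (tt N78306 (iv5 F247907)) (tt N109838 D213068) (tt N43379 F239546))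
theorem Q76614 : ∀ i, i < 76614 → P i := stepQ 76613 Q76613 (allL N76613 (tt N97977 (iv1 F419042)) (tt N98352 (iv0 F420609)) (tt N43381 F239548) (tt N83456 (iv3 F351164)) (tt N43223 (iv4 D152350)) (tt N43293 F239549) (tt N83453 F351167) (tt N43292 F239550))
theorem Q76615 : ∀ i, i < 76615 → P i := stepQ 76614 Q76614 (allL N76614 (tt N109839 D213069) (tt N106671 F459142) (tt N43382 F239551) (tt N109836 (iv3 F468841)) (tt N83453 (iv4 F351169)) (tt N109824 (iv5 F468801)) (tt N43223 (iv6 D152351)) (tt N109840 D213070))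
theorem Q76616 : ∀ i, i < 76616 → P i := stepQ 76615 Q76615 (allL N76615 (tt N47467 F314191) (tt N43225 (iv0 D152353)) (tt N98119 F419537) (tt N46062 F336467) (tt N89460 (iv4 F386580)) (tt N84959 F374762) (tt N109841 D213071) (tt N56191 (iv7 F364250)))
theorem Q76617 : ∀ i, i < 76617 → P i := stepQ 76616 Q76616 (allL N76616 (tt N43225 (iv1 D152354)) (tt N47467 F314192) (tt N56191 (iv2 F364251)) (tt N74430 (iv3 F334808)) (tt N75185 (iv4 F343359)) (tt N84960 (iv5 F371183)) (tt N74428 (iv6 F343355)) (tt N98119 (iv7 F419539)))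
theorem Q76618 : ∀ i, i < 76618 → P i := stepQ 76617 Q76617 (allL N76617 (tt N56191 (iv1 F359208)) (tt N98119 F419538) (tt N47467 F314195) (tt N43231 F239555) (tt N46998 F314196) (tt N105319 (iv5 F449690)) (tt N86222 (iv6 F375432)) (tt N43225 (iv7 D152355)))
theorem Q76619 : ∀ i, i < 76619 → P i := stepQ 76618 Q76618 (allL N76618 (tt N85799 F374002) (tt N57397 (iv0 F364168)) (tt N76536 F239556) (tt N48128 F366769) (tt N61396 F239557) (tt N109842 D213072) (tt N43227 (iv6 D152356)) (tt N98079 (iv7 F419371)))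
theorem Q76620 : ∀ i, i < 76620 → P i := stepQ 76619 Q76619 (allL N76619 (tt N76666 F239689) (tt N84956 (iv0 F371179)) (tt N56195 F334818) (tt N85008 (iv3 F371357)) (tt N109843 D213073) (tt N43230 (iv5 D152365)) (tt N70765 F364865) (tt N92849 (iv7 F398500)))
theorem Q76621 : ∀ i, i < 76621 → P i := stepQ 76620 Q76620 (allL N76620 (tt N46025 F362421) (tt N109069 (iv0 F465206)) (tt N56196 F334819) (tt N92836 (iv3 F398441)) (tt N109797 (iv4 F468658)) (tt N76641 F239639) (tt N43230 (iv6 D152366)) (tt N105687 (iv7 F451255)))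
theorem Q76622 : ∀ i, i < 76622 → P i := stepQ 76621 Q76621 (allL N76621 (tt N55179 F239569) (tt N77375 F345675) (tt N46892 F298860) (tt N43232 (iv3 D152372)) (tt N43233 F239567) (tt N52245 F239568) (tt N66649 F364013) (tt N81698 (iv7 F276478)))
theorem Q76623 : ∀ i, i < 76623 → P i := stepQ 76622 Q76622 (allL N76622 (tt N44027 F303497) (tt N43235 (iv0 D152379)) (tt N74374 F348642) (tt N99600 (iv3 F425349)) (tt N63201 F339356) (tt N100012 (iv5 F427187)) (tt N57390 (iv6 F348641)) (tt N76554 (iv7 F348643)))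
theorem Q76624 : ∀ i, i < 76624 → P i := stepQ 76623 Q76623 (allL N76623 (tt N101315 (iv1 F432626)) (tt N100326 F428441) (tt N98071 (iv2 F419346)) (tt N45005 F333223) (tt N109844 D213074) (tt N43236 (iv5 D152386)) (tt N69529 F352121) (tt N61587 F333224))
theorem Q76625 : ∀ i, i < 76625 → P i := stepQ 76624 Q76624 (allL N76624 (tt N100326 F428440) (tt N101315 (iv0 F432625)) (tt N61587 (iv2 F364733)) (tt N98097 (iv3 F419453)) (tt N109845 D213075) (tt N43237 (iv5 D152391)) (tt N100332 (iv6 F428451)) (tt N98071 (iv7 F419348)))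
theorem Q76626 : ∀ i, i < 76626 → P i := stepQ 76625 Q76625 (allL N76625 (tt N86220 (iv1 F375422)) (tt N43238 (iv0 D152393)) (tt N50452 (iv2 F239579)) (tt N45010 F239580) (tt N109803 (iv4 F468692)) (tt N98149 (iv5 F419707)) (tt N50447 F239578) (tt N92830 (iv7 F398406)))
theorem Q76627 : ∀ i, i < 76627 → P i := stepQ 76626 Q76626 (allL N76626 (tt N43238 (iv1 D152394)) (tt N86220 F375423) (tt N92830 (iv2 F398404)) (tt N50461 (iv3 F239582)) (tt N94126 (iv4 F403334)) (tt N79900 (iv5 F258846)) (tt N94125 F403332) (tt N50452 F239581))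
theorem Q76628 : ∀ i, i < 76628 → P i := stepQ 76627 Q76627 (allL N76627 (tt N92830 (iv1 F398409)) (tt N50452 F372344) (tt N86220 F375421) (tt N100235 (iv3 F428098)) (tt N99980 (iv4 F427052)) (tt N43239 F239584) (tt N100330 (iv6 F428445)) (tt N43238 (iv7 D152396)))
theorem Q76629 : ∀ i, i < 76629 → P i := stepQ 76628 Q76628 (allL N76628 (tt N104030 F443874) (tt N109846 D213076) (tt N98137 (iv2 F419636)) (tt N45014 F239585) (tt N70880 (iv4 F343926)) (tt N63828 F239586) (tt N43240 (iv6 D152397)) (tt N71309 F362773))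
theorem Q76630 : ∀ i, i < 76630 → P i := stepQ 76629 Q76629 (allL N76629 (tt N89313 (iv1 F386052)) (tt N43242 (iv0 D152399)) (tt N76224 (iv2 F239588)) (tt N90069 F388480) (tt N61229 F239587) (tt N108637 (iv5 F463311)) (tt N109847 D213077) (tt N76223 (iv7 F239589)))
theorem Q76631 : ∀ i, i < 76631 → P i := stepQ 76630 Q76630 (allL N76630 (tt N43242 (iv1 D152400)) (tt N89313 (iv0 F386051)) (tt N76223 (iv2 F239592)) (tt N84852 (iv3 F370847)) (tt N61230 F239591) (tt N88111 F381827) (tt N105813 (iv6 F451844)) (tt N76224 F239590))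
theorem Q76632 : ∀ i, i < 76632 → P i := stepQ 76631 Q76631 (allL N76631 (tt N68576 (iv1 F312183)) (tt N75628 (iv0 F307827)) (tt N75627 (iv2 F307834)) (tt N43253 F239616) (tt N69636 (iv4 F335875)) (tt N69631 F340669) (tt N61678 (iv6 F327108)) (tt N43247 (iv7 D152432)))
theorem Q76633 : ∀ i, i < 76633 → P i := stepQ 76632 Q76632 (allL N76632 (tt N75468 F334519) (tt N47556 F355531) (tt N75368 (iv2 F308687)) (tt N43249 F239623) (tt N78727 (iv4 F334521)) (tt N75763 (iv5 F334520)) (tt N43248 (iv6 D152434)) (tt N75467 F334525))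
theorem Q76634 : ∀ i, i < 76634 → P i := stepQ 76633 Q76633 (allL N76633 (tt N57400 (iv1 F325425)) (tt N43249 (iv0 D152435)) (tt N44031 F334449) (tt N47075 F344166) (tt N46079 F283772) (tt N47074 F344167) (tt N44023 F334450) (tt N79898 F283773))
theorem Q76635 : ∀ i, i < 76635 → P i := stepQ 76634 Q76634 (allL N76634 (tt N43249 (iv1 D152436)) (tt N57400 (iv0 F325424)) (tt N79898 F283769) (tt N68409 (iv3 F357819)) (tt N46080 (iv4 F259277)) (tt N68408 F357817) (tt N100497 (iv6 F429194)) (tt N44031 F334453))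
theorem Q76636 : ∀ i, i < 76636 → P i := stepQ 76635 Q76635 (allL N76635 (tt N88517 F383366) (tt N104185 (iv0 F444582)) (tt N70550 (iv2 F330212)) (tt N75763 F332317) (tt N46744 F332318) (tt N43249 (iv5 D152437)) (tt N70523 (iv6 F330229)) (tt N75770 F332319))
theorem Q76637 : ∀ i, i < 76637 → P i := stepQ 76636 Q76636 (allL N76636 (tt N99736 F425981) (tt N105011 (iv0 F448358)) (tt N79899 F258957) (tt N60993 F239635) (tt N44501 F364636) (tt N43250 (iv5 D152442)) (tt N44500 F364637) (tt N78929 (iv7 F251410)))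
theorem Q76638 : ∀ i, i < 76638 → P i := stepQ 76637 Q76637 (allL N76637 (tt N98142 F419675) (tt N98151 F419723) (tt N79900 (iv2 F258968)) (tt N60967 F239636) (tt N46984 F327773) (tt N92830 (iv5 F398405)) (tt N43250 (iv6 D152443)) (tt N98149 (iv7 F419712)))
theorem Q76639 : ∀ i, i < 76639 → P i := stepQ 76638 Q76638 (allL N76638 (tt N43255 F252357) (tt N46994 F327792) (tt N46995 F327793) (tt N47371 F327794) (tt N43251 (iv4 D152446)) (tt N46980 F327795) (tt N109264 (iv6 F466066)) (tt N46979 F327796))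
theorem Q76640 : ∀ i, i < 76640 → P i := stepQ 76639 Q76639 (allL N76639 (tt N105011 (iv1 F448359)) (tt N99736 (iv0 F425980)) (tt N78929 (iv2 F251408)) (tt N55608 (iv3 F362428)) (tt N101049 (iv4 F431445)) (tt N43251 (iv5 D152447)) (tt N55607 F345009) (tt N79899 (iv7 F258956)))
theorem Q76641 : ∀ i, i < 76641 → P i := stepQ 76640 Q76640 (allL N76640 (tt N50767 F239683) (tt N43267 F239684) (tt N78930 (iv2 F251411)) (tt N50463 F239628) (tt N109264 (iv4 F466068)) (tt N50455 (iv5 F239627)) (tt N43251 (iv6 D152448)) (tt N50454 F239629))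
theorem Q76642 : ∀ i, i < 76642 → P i := stepQ 76641 Q76641 (allL N76641 (tt N43252 (iv1 D152450)) (tt N68200 (iv0 F327117)) (tt N56669 (iv2 F334820)) (tt N93007 (iv3 F399102)) (tt N86452 (iv4 F376254)) (tt N76620 (iv5 F239639)) (tt N86451 (iv6 F376252)) (tt N79901 (iv7 F363497)))
theorem Q76643 : ∀ i, i < 76643 → P i := stepQ 76642 Q76642 (allL N76642 (tt N104033 F443886) (tt N104921 (iv0 F447950)) (tt N79902 (iv2 F258849)) (tt N76410 F364516) (tt N43252 (iv4 D152451)) (tt N101044 (iv5 F431430)) (tt N60996 F239640) (tt N94128 (iv7 F403344)))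
theorem Q76644 : ∀ i, i < 76644 → P i := stepQ 76643 Q76643 (allL N76643 (tt N56669 (iv1 F340667)) (tt N79901 F258853) (tt N68200 (iv2 F327119)) (tt N69631 (iv3 F340668)) (tt N94128 (iv4 F403343)) (tt N43253 F239641) (tt N61682 (iv6 F345011)) (tt N43252 (iv7 D152452)))
theorem Q76645 : ∀ i, i < 76645 → P i := stepQ 76644 Q76644 (allL N76644 (tt N47527 F321689) (tt N47526 (iv0 F323371)) (tt N47529 (iv2 F323366)) (tt N44879 F326619) (tt N61024 F239652) (tt N48150 F326620) (tt N43256 (iv6 D152462)) (tt N47015 F321690))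
theorem Q76646 : ∀ i, i < 76646 → P i := stepQ 76645 Q76645 (allL N76645 (tt N43258 (iv1 D152465)) (tt N101736 (iv0 F434103)) (tt N47934 F353621) (tt N80331 F353622) (tt N98141 (iv4 F419664)) (tt N60425 F353623) (tt N47930 F353624) (tt N98144 (iv7 F419684)))
theorem Q76647 : ∀ i, i < 76647 → P i := stepQ 76646 Q76646 (allL N76646 (tt N47517 F347779) (tt N96968 F414842) (tt N81212 (iv2 F343341)) (tt N43262 F239654) (tt N109848 D213078) (tt N43258 (iv5 D152466)) (tt N79223 F347780) (tt N101732 (iv7 F434082)))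
theorem Q76648 : ∀ i, i < 76648 → P i := stepQ 76647 Q76647 (allL N76647 (tt N47934 F334755) (tt N98144 (iv0 F419687)) (tt N101736 (iv2 F434099)) (tt N43263 F239655) (tt N55785 F239656) (tt N101732 (iv5 F434081)) (tt N61285 F239657) (tt N43258 (iv7 D152467)))
theorem Q76649 : ∀ i, i < 76649 → P i := stepQ 76648 Q76648 (allL N76648 (tt N63589 F348192) (tt N103145 (iv0 F440282)) (tt N100140 (iv2 F427651)) (tt N79223 (iv3 F348193)) (tt N80950 F348195) (tt N43259 (iv5 D152470)) (tt N43262 F239658) (tt N81210 F348194))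
theorem Q76650 : ∀ i, i < 76650 → P i := stepQ 76649 Q76649 (allL N76649 (tt N109264 F466069) (tt N109849 D213079) (tt N109291 (iv2 F466220)) (tt N94174 (iv3 F403547)) (tt N98370 (iv4 F420674)) (tt N109850 D213080) (tt N43260 (iv6 D152476)) (tt N109851 D213081))
theorem Q76651 : ∀ i, i < 76651 → P i := stepQ 76650 Q76650 (allL N76650 (tt N109852 D213082) (tt N94063 (iv0 F403033)) (tt N96562 (iv2 F413003)) (tt N79656 F347813) (tt N61761 (iv4 F356621)) (tt N79653 (iv5 F353493)) (tt N43261 (iv6 D152481)) (tt N98751 (iv7 F422150)))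
theorem Q76652 : ∀ i, i < 76652 → P i := stepQ 76651 Q76651 (allL N76651 (tt N43262 (iv1 D152483)) (tt N59459 F351729) (tt N58857 (iv2 F351730)) (tt N80070 F351732) (tt N59323 (iv4 F351731)) (tt N109853 D213083) (tt N80068 (iv6 F351733)) (tt N59460 (iv7 F351734)))
theorem Q76653 : ∀ i, i < 76653 → P i := stepQ 76652 Q76652 (allL N76652 (tt N109854 D213084) (tt N109238 (iv0 F465930)) (tt N109806 (iv2 F468710)) (tt N65544 (iv3 F361644)) (tt N43262 (iv4 D152484)) (tt N96653 (iv5 F413340)) (tt N80950 (iv6 F361593)) (tt N109855 D213085))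
theorem Q76654 : ∀ i, i < 76654 → P i := stepQ 76653 Q76653 (allL N76653 (tt N58857 (iv1 F354829)) (tt N59460 F354830) (tt N59459 F351726) (tt N101732 (iv3 F434080)) (tt N109855 (iv4 F468935)) (tt N43263 F239663) (tt N94929 F406378) (tt N43262 (iv7 D152485)))
theorem Q76655 : ∀ i, i < 76655 → P i := stepQ 76654 Q76654 (allL N76654 (tt N63015 (iv1 F352153)) (tt N43264 (iv0 D152486)) (tt N75537 (iv2 F352150)) (tt N56183 F352151) (tt N95839 (iv4 F409880)) (tt N98704 (iv5 F421927)) (tt N95838 F409877) (tt N56181 F352152))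
theorem Q76656 : ∀ i, i < 76656 → P i := stepQ 76655 Q76655 (allL N76655 (tt N43268 (iv1 F239672)) (tt N43265 (iv0 D152489)) (tt N62538 F347815) (tt N44603 F318693) (tt N61370 F290472) (tt N58883 (iv5 F322481)) (tt N44602 F318695) (tt N61366 (iv7 F290473)))
theorem Q76657 : ∀ i, i < 76657 → P i := stepQ 76656 Q76656 (allL N76656 (tt N45442 F353591) (tt N45422 F353592) (tt N45439 F347989) (tt N43265 (iv3 D152491)) (tt N99632 (iv4 F425504)) (tt N101904 (iv5 F434892)) (tt N109856 D213086) (tt N45440 F347990))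
theorem Q76658 : ∀ i, i < 76658 → P i := stepQ 76657 Q76657 (allL N76657 (tt N100497 (iv1 F429196)) (tt N75611 (iv0 F363832)) (tt N75332 (iv2 F363650)) (tt N109856 (iv3 F468939)) (tt N43267 F239674) (tt N102682 (iv5 F438189)) (tt N43265 (iv6 D152493)) (tt N84765 (iv7 F370535)))
theorem Q76659 : ∀ i, i < 76659 → P i := stepQ 76658 Q76658 (allL N76658 (tt N43269 (iv1 F239676)) (tt N43266 (iv0 D152494)) (tt N98207 (iv2 F419993)) (tt N86195 (iv3 F419457)) (tt N109857 D213087) (tt N74936 (iv5 F353821)) (tt N109858 D213088) (tt N104954 (iv7 F448125)))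
theorem Q76660 : ∀ i, i < 76660 → P i := stepQ 76659 Q76659 (allL N76659 (tt N43266 (iv1 D152495)) (tt N43269 F239677) (tt N104954 (iv2 F448122)) (tt N66771 (iv3 F354425)) (tt N108145 (iv4 F461302)) (tt N68191 F354424) (tt N68192 (iv6 F354423)) (tt N98207 (iv7 F419990)))
theorem Q76661 : ∀ i, i < 76661 → P i := stepQ 76660 Q76660 (allL N76660 (tt N109859 D213089) (tt N109860 D213090) (tt N109807 (iv2 F468715)) (tt N53167 F363654) (tt N43266 (iv4 D152496)) (tt N53164 F363655) (tt N53216 (iv6 F363653)) (tt N109808 (iv7 F468722)))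
theorem Q76662 : ∀ i, i < 76662 → P i := stepQ 76661 Q76661 (allL N76661 (tt N43267 (iv1 D152498)) (tt N50767 F239679) (tt N50454 (iv2 F239681)) (tt N66774 (iv3 F239682)) (tt N109849 (iv4 F468898)) (tt N50448 F239680) (tt N98149 (iv6 F419709)) (tt N78930 F251413))
theorem Q76663 : ∀ i, i < 76663 → P i := stepQ 76662 Q76662 (allL N76662 (tt N80203 F348624) (tt N57405 (iv0 F336476)) (tt N79882 F336471) (tt N75270 F339602) (tt N43270 F239688) (tt N50703 (iv5 F336470)) (tt N43268 (iv6 D152507)) (tt N80166 (iv7 F340163)))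
theorem Q76664 : ∀ i, i < 76664 → P i := stepQ 76663 Q76663 (allL N76663 (tt N109860 (iv1 F468958)) (tt N109859 F468956) (tt N109808 (iv2 F468720)) (tt N109121 (iv3 F465424)) (tt N43269 (iv4 D152508)) (tt N109112 F465396) (tt N109115 (iv6 F465406)) (tt N109807 (iv7 F468718)))
theorem Q76665 : ∀ i, i < 76665 → P i := stepQ 76664 Q76664 (allL N76664 (tt N97814 (iv1 F418398)) (tt N97794 (iv0 F418332)) (tt N97813 F418392) (tt N74950 (iv3 F366500)) (tt N109115 F465409) (tt N109861 D213091) (tt N43269 (iv6 D152509)) (tt N86213 (iv7 F375396)))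
theorem Q76666 : ∀ i, i < 76666 → P i := stepQ 76665 Q76665 (allL N76665 (tt N84766 (iv1 F370541)) (tt N43270 (iv0 D152510)) (tt N104961 (iv2 F448153)) (tt N56170 F359195) (tt N109852 (iv4 F468915)) (tt N56169 (iv5 F359188)) (tt N98148 F419706) (tt N66072 F359196))
theorem Q76667 : ∀ i, i < 76667 → P i := stepQ 76666 Q76666 (allL N76666 (tt N56338 F362024) (tt N76619 (iv0 F239689)) (tt N92659 F397795) (tt N75535 (iv3 F366499)) (tt N109862 D213092) (tt N43270 (iv5 D152512)) (tt N109861 (iv6 F468966)) (tt N75101 F239692))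
theorem Q76668 : ∀ i, i < 76668 → P i := stepQ 76667 Q76667 (allL N76667 (tt N66072 (iv1 F327114)) (tt N104961 F448157) (tt N84766 (iv2 F370537)) (tt N75536 (iv3 F341094)) (tt N80166 (iv4 F340162)) (tt N75101 (iv5 F239691)) (tt N50767 F239690) (tt N43270 (iv7 D152513)))
theorem Q76669 : ∀ i, i < 76669 → P i := stepQ 76668 Q76668 (allL N76668 (tt N98704 (iv1 F421929)) (tt N98162 (iv0 F419784)) (tt N75540 F346144) (tt N43271 (iv3 D152515)) (tt N105431 (iv4 F450239)) (tt N79065 F346146) (tt N86899 (iv6 F387475)) (tt N98703 (iv7 F421919)))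
theorem Q76670 : ∀ i, i < 76670 → P i := stepQ 76669 Q76669 (allL N76669 (tt N106356 F454122) (tt N109863 D213093) (tt N109070 (iv2 F465208)) (tt N53763 F387470) (tt N43271 (iv4 D152516)) (tt N109785 (iv5 F468600)) (tt N53761 F387471) (tt N109809 (iv7 F468726)))
theorem Q76671 : ∀ i, i < 76671 → P i := stepQ 76670 Q76670 (allL N76670 (tt N80610 F387472) (tt N104176 (iv0 F444544)) (tt N109071 (iv2 F465215)) (tt N86899 F387473) (tt N53761 F387474) (tt N104133 F444353) (tt N43271 (iv6 D152518)) (tt N89874 (iv7 F387819)))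
theorem Q76672 : ∀ i, i < 76672 → P i := stepQ 76671 Q76671 (allL N76671 (tt N109863 (iv1 F468980)) (tt N106356 F454123) (tt N109809 (iv2 F468725)) (tt N105917 (iv3 F452338)) (tt N43272 (iv4 D152521)) (tt N109864 D213094) (tt N105919 (iv6 F452349)) (tt N109070 (iv7 F465210)))
theorem Q76673 : ∀ i, i < 76673 → P i := stepQ 76672 Q76672 (allL N76672 (tt N100287 (iv1 F428266)) (tt N100288 (iv0 F428268)) (tt N108799 (iv2 F464000)) (tt N75539 F346147) (tt N105919 (iv4 F452348)) (tt N94463 (iv5 F404569)) (tt N43272 (iv6 D152523)) (tt N99742 (iv7 F426010)))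
theorem Q76674 : ∀ i, i < 76674 → P i := stepQ 76673 Q76673 (allL N76673 (tt N96674 (iv1 F413403)) (tt N43273 (iv0 D152524)) (tt N101038 (iv2 F431401)) (tt N90065 (iv3 F388465)) (tt N98372 (iv4 F420678)) (tt N105706 (iv5 F451342)) (tt N80609 F364656) (tt N106249 (iv7 F453760)))
theorem Q76675 : ∀ i, i < 76675 → P i := stepQ 76674 Q76674 (allL N76674 (tt N43273 (iv1 D152525)) (tt N96674 F413400) (tt N106249 (iv2 F453759)) (tt N72591 F413401) (tt N98373 (iv4 F420680)) (tt N59479 F413402) (tt N109865 D213095) (tt N101038 F431408))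
theorem Q76676 : ∀ i, i < 76676 → P i := stepQ 76675 Q76675 (allL N76675 (tt N96568 F413033) (tt N96325 (iv0 F412045)) (tt N95228 (iv2 F407499)) (tt N85537 F372995) (tt N109866 D213096) (tt N43273 (iv5 D152527)) (tt N109867 D213097) (tt N85548 (iv7 F373031)))
theorem Q76677 : ∀ i, i < 76677 → P i := stepQ 76676 Q76676 (allL N76676 (tt N106249 (iv1 F453763)) (tt N101038 F431406) (tt N96674 (iv2 F413396)) (tt N85550 (iv3 F373037)) (tt N43274 F239698) (tt N85548 F373032) (tt N106227 F453662) (tt N43273 (iv7 D152528)))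
theorem Q76678 : ∀ i, i < 76678 → P i := stepQ 76677 Q76677 (allL N76677 (tt N100441 (iv1 F428984)) (tt N100440 F428988) (tt N100442 (iv2 F428989)) (tt N66788 F239699) (tt N106227 (iv4 F453657)) (tt N97190 (iv5 F415822)) (tt N43274 (iv6 D152529)) (tt N43294 F239700))
theorem Q76679 : ∀ i, i < 76679 → P i := stepQ 76678 Q76678 (allL N76678 (tt N57674 F315451) (tt N44397 F315452) (tt N44272 F315453) (tt N57683 F315454) (tt N44271 F315455) (tt N47945 F239703) (tt N43275 (iv6 D152530)) (tt N44268 F315456))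
theorem Q76680 : ∀ i, i < 76680 → P i := stepQ 76679 Q76679 (allL N76679 (tt N109868 D213098) (tt N104919 (iv0 F447941)) (tt N78295 (iv2 F247875)) (tt N85086 (iv3 F371593)) (tt N64489 (iv4 F364651)) (tt N68270 F239711) (tt N43276 (iv6 D152531)) (tt N64488 F364653))
theorem Q76681 : ∀ i, i < 76681 → P i := stepQ 76680 Q76680 (allL N76680 (tt N43280 (iv1 F239713)) (tt N43277 (iv0 D152532)) (tt N61459 (iv2 F239714)) (tt N89837 (iv3 F387689)) (tt N60906 F239712) (tt N109869 D213099) (tt N106382 (iv6 F454224)) (tt N61461 (iv7 F239715)))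
theorem Q76682 : ∀ i, i < 76682 → P i := stepQ 76681 Q76681 (allL N76681 (tt N43277 (iv1 D152533)) (tt N43280 F239716) (tt N61461 (iv2 F239719)) (tt N109870 D213100) (tt N60905 F239718) (tt N109871 D213101) (tt N109872 D213102) (tt N61459 F239717))
theorem Q76683 : ∀ i, i < 76683 → P i := stepQ 76682 Q76682 (allL N76682 (tt N109873 D213103) (tt N107418 (iv0 F458271)) (tt N109874 D213104) (tt N43277 (iv3 D152534)) (tt N98163 (iv4 F419787)) (tt N109875 D213105) (tt N109876 D213106) (tt N107299 F457867))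
theorem Q76684 : ∀ i, i < 76684 → P i := stepQ 76683 Q76683 (allL N76683 (tt N109877 D213107) (tt N109878 D213108) (tt N100291 (iv2 F428278)) (tt N109875 (iv3 F469035)) (tt N43380 F239720) (tt N43277 (iv5 D152535)) (tt N109879 D213109) (tt N109811 (iv7 F468739)))
theorem Q76685 : ∀ i, i < 76685 → P i := stepQ 76684 Q76684 (allL N76684 (tt N109880 D213110) (tt N109881 D213111) (tt N100290 (iv2 F428274)) (tt N109876 (iv3 F469041)) (tt N43278 F239721) (tt N109882 D213112) (tt N43277 (iv6 D152536)) (tt N109883 D213113))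
theorem Q76686 : ∀ i, i < 76686 → P i := stepQ 76685 Q76685 (allL N76685 (tt N43278 (iv1 D152537)) (tt N86215 F375406) (tt N86216 (iv2 F375407)) (tt N66796 (iv3 F372356)) (tt N98429 (iv4 F420896)) (tt N74466 (iv5 F356611)) (tt N109884 D213114) (tt N86212 F375391))
theorem Q76687 : ∀ i, i < 76687 → P i := stepQ 76686 Q76686 (allL N76686 (tt N86216 (iv1 F375411)) (tt N86212 (iv0 F375392)) (tt N86215 F375403) (tt N50458 F251151) (tt N109883 (iv4 F469067)) (tt N98096 (iv5 F419448)) (tt N99105 (iv6 F423355)) (tt N43278 (iv7 D152538)))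
theorem Q76688 : ∀ i, i < 76688 → P i := stepQ 76687 Q76687 (allL N76687 (tt N72278 (iv1 F393563)) (tt N81702 (iv0 F348722)) (tt N109810 (iv2 F468729)) (tt N57681 (iv3 F315158)) (tt N100450 (iv4 F429035)) (tt N62705 F239723) (tt N43279 (iv6 D152539)) (tt N57675 (iv7 F315148)))
theorem Q76689 : ∀ i, i < 76689 → P i := stepQ 76688 Q76688 (allL N76688 (tt N85350 F406691) (tt N78302 F406692) (tt N85356 F444362) (tt N43280 (iv3 D152540)) (tt N109034 (iv4 F465022)) (tt N109885 D213115) (tt N109046 (iv6 F465089)) (tt N85355 (iv7 F372333)))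
theorem Q76690 : ∀ i, i < 76690 → P i := stepQ 76689 Q76689 (allL N76689 (tt N109878 (iv1 F469052)) (tt N109877 F469047) (tt N109811 (iv2 F468736)) (tt N109885 (iv3 F469074)) (tt N43379 F239724) (tt N43280 (iv5 D152541)) (tt N109886 D213116) (tt N100291 (iv7 F428279)))
theorem Q76691 : ∀ i, i < 76691 → P i := stepQ 76690 Q76690 (allL N76690 (tt N99093 F423312) (tt N99108 (iv0 F423364)) (tt N107293 (iv2 F457836)) (tt N109046 (iv3 F465088)) (tt N43281 F239725) (tt N99102 (iv5 F423346)) (tt N43280 (iv6 D152542)) (tt N108085 (iv7 F461054)))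
theorem Q76692 : ∀ i, i < 76692 → P i := stepQ 76691 Q76691 (allL N76691 (tt N68192 (iv1 F354442)) (tt N68325 F354443) (tt N99105 (iv2 F423353)) (tt N99794 (iv3 F426242)) (tt N108085 (iv4 F461053)) (tt N70836 F354444) (tt N86215 (iv6 F375402)) (tt N43281 (iv7 D152545)))
theorem Q76693 : ∀ i, i < 76693 → P i := stepQ 76692 Q76692 (allL N76692 (tt N50309 F239728) (tt N50307 F239729) (tt N61298 F239726) (tt N90151 (iv3 F388702)) (tt N43282 (iv4 D152546)) (tt N93564 (iv5 F401151)) (tt N109887 D213117) (tt N61299 F239727))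
theorem Q76694 : ∀ i, i < 76694 → P i := stepQ 76693 Q76693 (allL N76693 (tt N85278 (iv1 F372145)) (tt N85277 F372152) (tt N85279 (iv2 F372148)) (tt N43285 F239730) (tt N109887 (iv4 F469079)) (tt N98172 (iv5 F419837)) (tt N43282 (iv6 D152547)) (tt N84838 (iv7 F370808)))
theorem Q76695 : ∀ i, i < 76695 → P i := stepQ 76694 Q76694 (allL N76694 (tt N43287 (iv1 F239732)) (tt N43283 (iv0 D152548)) (tt N61456 (iv2 F239733)) (tt N88379 (iv3 F382816)) (tt N60904 F239731) (tt N109877 (iv5 F469045)) (tt N101952 (iv6 F435076)) (tt N61373 (iv7 F239734)))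
theorem Q76696 : ∀ i, i < 76696 → P i := stepQ 76695 Q76695 (allL N76695 (tt N43283 (iv1 D152549)) (tt N43287 F239735) (tt N61373 (iv2 F239738)) (tt N109888 D213118) (tt N56095 F239737) (tt N109878 (iv5 F469054)) (tt N109863 (iv6 F468984)) (tt N61456 F239736))
theorem Q76697 : ∀ i, i < 76697 → P i := stepQ 76696 Q76696 (allL N76696 (tt N53798 (iv1 F361020)) (tt N53797 F361024) (tt N53800 (iv2 F361018)) (tt N43283 (iv3 D152550)) (tt N90151 (iv4 F388703)) (tt N106585 (iv5 F454950)) (tt N53806 (iv6 F361019)) (tt N53222 F361017))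
theorem Q76698 : ∀ i, i < 76698 → P i := stepQ 76697 Q76697 (allL N76697 (tt N98448 (iv1 F420945)) (tt N98443 (iv0 F420933)) (tt N109812 (iv2 F468742)) (tt N106585 (iv3 F454949)) (tt N43378 F239739) (tt N43283 (iv5 D152551)) (tt N109889 D213119) (tt N109815 (iv7 F468759)))
theorem Q76699 : ∀ i, i < 76699 → P i := stepQ 76698 Q76698 (allL N76698 (tt N107047 (iv1 F456767)) (tt N109890 D213120) (tt N109813 (iv2 F468745)) (tt N53806 F361021) (tt N43285 F239740) (tt N88698 (iv5 F383903)) (tt N43283 (iv6 D152552)) (tt N53802 (iv7 F361022)))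
theorem Q76700 : ∀ i, i < 76700 → P i := stepQ 76699 Q76699 (allL N76699 (tt N109814 (iv1 F468754)) (tt N43285 (iv0 D152553)) (tt N98237 (iv2 F439836)) (tt N98195 (iv3 F471642)) (tt N105225 (iv4 F449287)) (tt N109891 D213122) (tt N100288 F428270) (tt N105224 F449282))
theorem Q76701 : ∀ i, i < 76701 → P i := stepQ 76700 Q76700 (allL N76700 (tt N43285 (iv1 D152554)) (tt N109814 F468753) (tt N105224 (iv2 F449280)) (tt N66805 F439832) (tt N91684 (iv4 F394030)) (tt N106419 (iv5 F454346)) (tt N104169 F451777) (tt N98237 F439833))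
theorem Q76702 : ∀ i, i < 76702 → P i := stepQ 76701 Q76701 (allL N76701 (tt N105224 (iv1 F449283)) (tt N98237 (iv0 F420092)) (tt N109814 (iv2 F468750)) (tt N84838 (iv3 F370806)) (tt N53802 F361023) (tt N85349 (iv5 F372320)) (tt N51076 F239741) (tt N43285 (iv7 D152555)))
theorem Q76703 : ∀ i, i < 76703 → P i := stepQ 76702 Q76702 (allL N76702 (tt N56101 F328909) (tt N76177 F328910) (tt N50869 F239744) (tt N43288 F239745) (tt N44051 F328911) (tt N50866 F239746) (tt N43286 (iv6 D152557)) (tt N85274 (iv7 F372133)))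
theorem Q76704 : ∀ i, i < 76704 → P i := stepQ 76703 Q76703 (allL N76703 (tt N106331 (iv1 F454065)) (tt N53845 (iv0 F361014)) (tt N53795 F361004) (tt N43287 (iv3 D152558)) (tt N61389 F361005) (tt N83536 F361006) (tt N53793 (iv6 F349163)) (tt N106329 (iv7 F454053)))
theorem Q76705 : ∀ i, i < 76705 → P i := stepQ 76704 Q76704 (allL N76704 (tt N98443 (iv1 F420934)) (tt N98448 (iv0 F420944)) (tt N109815 (iv2 F468755)) (tt N83536 (iv3 F361007)) (tt N43375 F239747) (tt N43287 (iv5 D152559)) (tt N83533 F361008) (tt N109812 (iv7 F468743)))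
theorem Q76706 : ∀ i, i < 76706 → P i := stepQ 76705 Q76705 (allL N76705 (tt N53781 F360967) (tt N53483 F362360) (tt N53221 (iv2 F345129)) (tt N53793 F349162) (tt N43288 F239748) (tt N85326 (iv5 F372247)) (tt N43287 (iv6 D152560)) (tt N53801 (iv7 F349164)))
theorem Q76707 : ∀ i, i < 76707 → P i := stepQ 76706 Q76706 (allL N76706 (tt N51076 (iv1 F239758)) (tt N43288 (iv0 D152561)) (tt N53673 (iv2 F239754)) (tt N66808 F239755) (tt N48993 F345123) (tt N84412 (iv5 F369200)) (tt N70740 (iv6 F354421)) (tt N48992 (iv7 F345128)))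
theorem Q76708 : ∀ i, i < 76708 → P i := stepQ 76707 Q76707 (allL N76707 (tt N43288 (iv1 D152562)) (tt N51076 F239749) (tt N48992 (iv2 F345127)) (tt N50872 F239751) (tt N48971 F345121) (tt N51100 (iv5 F239750)) (tt N80610 F345122) (tt N53673 (iv7 F239753)))
theorem Q76709 : ∀ i, i < 76709 → P i := stepQ 76708 Q76708 (allL N76708 (tt N48992 (iv1 F345126)) (tt N53673 F239759) (tt N51076 F239756) (tt N85274 (iv3 F372131)) (tt N53801 F345124) (tt N50837 F239757) (tt N109814 (iv6 F468752)) (tt N43288 (iv7 D152563)))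
theorem Q76710 : ∀ i, i < 76710 → P i := stepQ 76709 Q76709 (allL N76709 (tt N109892 D213123) (tt N109893 D213124) (tt N109817 (iv2 F468763)) (tt N106285 (iv3 F453897)) (tt N43371 F239760) (tt N43289 (iv5 D152565)) (tt N106593 (iv6 F454982)) (tt N109818 (iv7 F468771)))
theorem Q76711 : ∀ i, i < 76711 → P i := stepQ 76710 Q76710 (allL N76710 (tt N105225 (iv1 F449290)) (tt N91684 F449278) (tt N105223 F449274) (tt N90099 (iv3 F388558)) (tt N98333 F420532) (tt N96597 F456196) (tt N43289 (iv6 D152566)) (tt N90093 (iv7 F388545)))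
theorem Q76712 : ∀ i, i < 76712 → P i := stepQ 76711 Q76711 (allL N76711 (tt N109894 D213125) (tt N107269 (iv0 F457725)) (tt N90086 (iv2 F388527)) (tt N43290 (iv3 D152567)) (tt N89702 (iv4 F387256)) (tt N109895 D213126) (tt N89134 (iv6 F385302)) (tt N109816 (iv7 F468762)))
theorem Q76713 : ∀ i, i < 76713 → P i := stepQ 76712 Q76712 (allL N76712 (tt N109893 (iv1 F469105)) (tt N109892 F469100) (tt N109818 (iv2 F468768)) (tt N109895 (iv3 F469114)) (tt N43367 F239761) (tt N43290 (iv5 D152568)) (tt N49063 F359593) (tt N109817 (iv7 F468764)))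
theorem Q76714 : ∀ i, i < 76714 → P i := stepQ 76713 Q76713 (allL N76713 (tt N48993 F361038) (tt N48971 F361039) (tt N48990 F361040) (tt N89134 F385300) (tt N85010 (iv4 F371369)) (tt N91499 (iv5 F393388)) (tt N43290 (iv6 D152569)) (tt N48991 F361041))
theorem Q76715 : ∀ i, i < 76715 → P i := stepQ 76714 Q76714 (allL N76714 (tt N89322 (iv1 F386087)) (tt N43291 (iv0 D152570)) (tt N89323 (iv2 F386097)) (tt N54058 F351173) (tt N53810 F351174) (tt N90888 (iv5 F391174)) (tt N89328 (iv6 F386132)) (tt N49002 F351175))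
theorem Q76716 : ∀ i, i < 76716 → P i := stepQ 76715 Q76715 (allL N76715 (tt N89323 (iv1 F386102)) (tt N49002 F351170) (tt N43291 (iv2 D152572)) (tt N96676 (iv3 F413408)) (tt N66812 F239762) (tt N109896 D213127) (tt N85552 F373048) (tt N89322 (iv7 F386088)))
theorem Q76717 : ∀ i, i < 76717 → P i := stepQ 76716 Q76716 (allL N76716 (tt N83470 F373377) (tt N83405 F373378) (tt N109896 (iv2 F469116)) (tt N43292 F239763) (tt N49128 F373380) (tt N43291 (iv5 D152573)) (tt N109897 D213128) (tt N83456 (iv7 F351165)))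
theorem Q76718 : ∀ i, i < 76718 → P i := stepQ 76717 Q76717 (allL N76717 (tt N49002 F351162) (tt N89323 F386101) (tt N89322 (iv2 F386096)) (tt N43293 F239764) (tt N61222 F239765) (tt N83456 F351163) (tt N109898 D213129) (tt N43291 (iv7 D152574)))
theorem Q76719 : ∀ i, i < 76719 → P i := stepQ 76718 Q76718 (allL N76718 (tt N109899 D213130) (tt N100475 (iv0 F429101)) (tt N109820 (iv2 F468779)) (tt N109897 (iv3 F469122)) (tt N100445 (iv4 F429005)) (tt N109867 (iv5 F468996)) (tt N43292 (iv6 D152575)) (tt N109900 D213131))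
theorem Q76720 : ∀ i, i < 76720 → P i := stepQ 76719 Q76719 (allL N76719 (tt N71113 (iv1 F414315)) (tt N106243 F453734) (tt N96708 F413552) (tt N109898 (iv3 F469126)) (tt N43294 F239766) (tt N65458 F412018) (tt N43293 (iv6 D152576)) (tt N106227 (iv7 F453656)))
theorem Q76721 : ∀ i, i < 76721 → P i := stepQ 76720 Q76720 (allL N76720 (tt N100442 (iv1 F428992)) (tt N43294 (iv0 D152577)) (tt N100440 (iv2 F428983)) (tt N109901 D213132) (tt N106355 F454117) (tt N109902 D213133) (tt N104171 (iv6 F444524)) (tt N100441 (iv7 F428985)))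
theorem Q76722 : ∀ i, i < 76722 → P i := stepQ 76721 Q76721 (allL N76721 (tt N43294 (iv1 D152578)) (tt N100442 F428991) (tt N100441 (iv2 F428987)) (tt N75547 (iv3 F365707)) (tt N106325 F454031) (tt N105785 (iv5 F451707)) (tt N70743 (iv6 F354440)) (tt N100440 F428982))
theorem Q76723 : ∀ i, i < 76723 → P i := stepQ 76722 Q76722 (allL N76722 (tt N80859 (iv1 F339368)) (tt N90460 F389732) (tt N80006 (iv2 F259395)) (tt N78584 (iv3 F303270)) (tt N59086 F368586) (tt N43296 (iv5 D152585)) (tt N58187 F362662) (tt N80004 (iv7 F259381)))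
theorem Q76724 : ∀ i, i < 76724 → P i := stepQ 76723 Q76723 (allL N76723 (tt N43297 (iv1 D152588)) (tt N80010 F259402) (tt N80008 F342060) (tt N47434 F305500) (tt N59090 (iv4 F364752)) (tt N47433 (iv5 F307033)) (tt N65421 F342068) (tt N80007 (iv7 F342067)))
theorem Q76725 : ∀ i, i < 76725 → P i := stepQ 76724 Q76724 (allL N76724 (tt N109903 D213134) (tt N64155 (iv0 F322713)) (tt N80009 (iv2 F259398)) (tt N59678 (iv3 F361364)) (tt N43297 (iv4 D152589)) (tt N109904 D213135) (tt N96410 (iv6 F412393)) (tt N95291 (iv7 F407748)))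
theorem Q76726 : ∀ i, i < 76726 → P i := stepQ 76725 Q76725 (allL N76725 (tt N80008 (iv1 F259397)) (tt N80007 F259401) (tt N80010 (iv2 F259399)) (tt N95288 (iv3 F407742)) (tt N95291 (iv4 F407746)) (tt N43298 F239777) (tt N95768 (iv6 F409548)) (tt N43297 (iv7 D152590)))
theorem Q76727 : ∀ i, i < 76727 → P i := stepQ 76726 Q76726 (allL N76726 (tt N79375 (iv1 F255152)) (tt N46356 (iv0 F306313)) (tt N46372 F239778) (tt N43299 (iv3 D152591)) (tt N44412 F311241) (tt N82372 (iv5 F345359)) (tt N99599 (iv6 F425343)) (tt N72314 (iv7 F311901)))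
theorem Q76728 : ∀ i, i < 76728 → P i := stepQ 76727 Q76727 (allL N76727 (tt N82008 F339240) (tt N65413 (iv0 F353905)) (tt N44873 F239779) (tt N82372 (iv3 F345370)) (tt N96323 (iv4 F412029)) (tt N43299 (iv5 D152592)) (tt N65445 (iv6 F339255)) (tt N80011 (iv7 F259405)))
theorem Q76729 : ∀ i, i < 76729 → P i := stepQ 76728 Q76728 (allL N76728 (tt N100651 (iv1 F429847)) (tt N64430 F345984) (tt N44876 F239780) (tt N109133 (iv3 F465490)) (tt N43300 (iv4 D152593)) (tt N78167 (iv5 F338251)) (tt N82845 F345986) (tt N62974 F239781))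
theorem Q76730 : ∀ i, i < 76730 → P i := stepQ 76729 Q76729 (allL N76729 (tt N72410 (iv1 F313928)) (tt N44438 F311472) (tt N72409 (iv2 F313933)) (tt N43392 F239786) (tt N76118 F239787) (tt N62555 (iv5 F353106)) (tt N43302 (iv6 D152595)) (tt N69654 (iv7 F309119)))
theorem Q76731 : ∀ i, i < 76731 → P i := stepQ 76730 Q76730 (allL N76730 (tt N107943 (iv1 F460405)) (tt N79370 F345793) (tt N67057 F364916) (tt N43309 F239791) (tt N91935 (iv4 F395018)) (tt N43305 (iv5 D152598)) (tt N66923 (iv6 F364915)) (tt N107942 (iv7 F460399)))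
theorem Q76732 : ∀ i, i < 76732 → P i := stepQ 76731 Q76731 (allL N76731 (tt N79367 (iv1 F254846)) (tt N46387 (iv0 F239793)) (tt N79366 F254841) (tt N43310 F239792) (tt N69301 (iv4 F351973)) (tt N107942 (iv5 F460395)) (tt N79372 F255132) (tt N43305 (iv7 D152599)))
theorem Q76733 : ∀ i, i < 76733 → P i := stepQ 76732 Q76732 (allL N76732 (tt N43306 (iv1 D152601)) (tt N47348 F239794) (tt N47346 F328954) (tt N102709 (iv3 F438301)) (tt N43963 F314834) (tt N102707 (iv5 F438293)) (tt N47559 F315792) (tt N43960 F314835))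
theorem Q76734 : ∀ i, i < 76734 → P i := stepQ 76733 Q76733 (allL N76733 (tt N106449 F454505) (tt N97070 (iv0 F415319)) (tt N47347 F239795) (tt N66923 F364912) (tt N92451 (iv4 F397042)) (tt N43306 (iv5 D152602)) (tt N43309 F239796) (tt N67045 (iv7 F364910)))
theorem Q76735 : ∀ i, i < 76735 → P i := stepQ 76734 Q76734 (allL N76734 (tt N46383 F239803) (tt N46378 (iv0 F239804)) (tt N46380 F239805) (tt N43307 (iv3 D152604)) (tt N44566 F239801) (tt N81417 F304813) (tt N46366 F304814) (tt N46381 F239802))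
theorem Q76736 : ∀ i, i < 76736 → P i := stepQ 76735 Q76735 (allL N76735 (tt N90463 (iv1 F389749)) (tt N90461 (iv0 F389737)) (tt N79997 (iv2 F259316)) (tt N81417 F362015) (tt N108038 (iv4 F460840)) (tt N43307 (iv5 D152605)) (tt N95750 (iv6 F409453)) (tt N79998 (iv7 F259323)))
theorem Q76737 : ∀ i, i < 76737 → P i := stepQ 76736 Q76736 (allL N76736 (tt N90461 (iv1 F389736)) (tt N90463 (iv0 F389748)) (tt N79998 (iv2 F259322)) (tt N94059 (iv3 F403017)) (tt N109905 D213136) (tt N43308 (iv5 D152608)) (tt N94057 F403014) (tt N79997 (iv7 F259317)))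
theorem Q76738 : ∀ i, i < 76738 → P i := stepQ 76737 Q76737 (allL N76737 (tt N108261 (iv1 F461755)) (tt N43334 (iv0 F239808)) (tt N79999 (iv2 F259325)) (tt N104255 (iv3 F444965)) (tt N75799 F239807) (tt N75915 F339378) (tt N43308 (iv6 D152609)) (tt N100490 (iv7 F429146)))
theorem Q76739 : ∀ i, i < 76739 → P i := stepQ 76738 Q76738 (allL N76738 (tt N43309 (iv1 D152611)) (tt N54313 (iv0 F321171)) (tt N54315 (iv2 F366369)) (tt N100356 (iv3 F428566)) (tt N109906 D213137) (tt N54306 (iv5 F312018)) (tt N109907 D213138) (tt N54305 F366368))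
theorem Q76740 : ∀ i, i < 76740 → P i := stepQ 76739 Q76739 (allL N76739 (tt N79382 F362180) (tt N109908 D213139) (tt N80000 (iv2 F259329)) (tt N109909 D213140) (tt N43309 (iv4 D152612)) (tt N71940 (iv5 F358057)) (tt N92451 F397045) (tt N109910 D213141))
theorem Q76741 : ∀ i, i < 76741 → P i := stepQ 76740 Q76740 (allL N76740 (tt N54315 (iv1 F339375)) (tt N54305 (iv0 F339372)) (tt N54313 (iv2 F321172)) (tt N107942 F460400) (tt N109910 (iv4 F469170)) (tt N43310 F239810) (tt N109911 D213142) (tt N43309 (iv7 D152613)))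
theorem Q76742 : ∀ i, i < 76742 → P i := stepQ 76741 Q76741 (allL N76741 (tt N108442 (iv1 F462589)) (tt N43325 F239894) (tt N44587 F239813) (tt N100012 (iv3 F427186)) (tt N43313 F239814) (tt N99600 (iv5 F425351)) (tt N43311 (iv6 D152616)) (tt N99599 (iv7 F425344)))
theorem Q76743 : ∀ i, i < 76743 → P i := stepQ 76742 Q76742 (allL N76742 (tt N69573 (iv1 F239825)) (tt N43315 (iv0 D152619)) (tt N69571 (iv2 F239821)) (tt N76482 (iv3 F239822)) (tt N54136 (iv4 F309066)) (tt N89167 (iv5 F385420)) (tt N63963 (iv6 F366737)) (tt N63918 (iv7 F351922)))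
theorem Q76744 : ∀ i, i < 76744 → P i := stepQ 76743 Q76743 (allL N76743 (tt N106834 (iv1 F455892)) (tt N106833 F455889) (tt N69572 F239831) (tt N45345 F311976) (tt N94284 (iv4 F403954)) (tt N43315 (iv5 D152622)) (tt N94283 F403952) (tt N106832 (iv7 F455885)))
theorem Q76745 : ∀ i, i < 76745 → P i := stepQ 76744 Q76744 (allL N76744 (tt N63918 (iv1 F351919)) (tt N69571 F239835) (tt N69573 F239832) (tt N45335 F311977) (tt N43316 F239833) (tt N106832 (iv5 F455884)) (tt N80518 F311978) (tt N43315 (iv7 D152623)))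
theorem Q76746 : ∀ i, i < 76746 → P i := stepQ 76745 Q76745 (allL N76745 (tt N69289 F366490) (tt N69263 (iv0 F362188)) (tt N80772 (iv2 F271507)) (tt N43318 F239836) (tt N109912 D213143) (tt N43317 (iv5 D152626)) (tt N75364 (iv6 F308692)) (tt N104263 (iv7 F445008)))
theorem Q76747 : ∀ i, i < 76747 → P i := stepQ 76746 Q76746 (allL N76746 (tt N64165 (iv1 F322704)) (tt N43318 (iv0 D152628)) (tt N64166 (iv2 F320253)) (tt N65308 (iv3 F361227)) (tt N109903 (iv4 F469138)) (tt N65307 (iv5 F303121)) (tt N79432 F348623) (tt N64164 (iv7 F322712)))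
theorem Q76748 : ∀ i, i < 76748 → P i := stepQ 76747 Q76747 (allL N76747 (tt N64164 (iv1 F322710)) (tt N64166 (iv0 F320251)) (tt N64165 (iv2 F322705)) (tt N104263 (iv3 F445007)) (tt N93476 (iv4 F400845)) (tt N43319 F239839) (tt N65065 (iv6 F341242)) (tt N43318 (iv7 D152630)))
theorem Q76749 : ∀ i, i < 76749 → P i := stepQ 76748 Q76748 (allL N76748 (tt N43320 (iv1 D152632)) (tt N79381 (iv0 F364286)) (tt N63750 F239844) (tt N77583 F364898) (tt N109908 (iv4 F469164)) (tt N63740 (iv5 F239843)) (tt N106222 (iv6 F453627)) (tt N77579 (iv7 F364897)))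
theorem Q76750 : ∀ i, i < 76750 → P i := stepQ 76749 Q76749 (allL N76749 (tt N90464 (iv1 F389751)) (tt N90477 F389788) (tt N90474 F389785) (tt N107723 F459398) (tt N43320 (iv4 D152633)) (tt N71933 (iv5 F362494)) (tt N80795 (iv6 F271673)) (tt N90473 F389783))
theorem Q76751 : ∀ i, i < 76751 → P i := stepQ 76750 Q76750 (allL N76750 (tt N63750 (iv1 F239846)) (tt N77579 F332043) (tt N79381 F364283) (tt N80799 (iv3 F271686)) (tt N90473 (iv4 F389782)) (tt N43321 F239845) (tt N81781 (iv6 F339271)) (tt N43320 (iv7 D152634)))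
theorem Q76752 : ∀ i, i < 76752 → P i := stepQ 76751 Q76751 (allL N76751 (tt N80954 (iv1 F344387)) (tt N43322 (iv0 D152660)) (tt N46811 F312092) (tt N46393 F312093) (tt N79758 (iv4 F341656)) (tt N67898 (iv5 F354037)) (tt N46392 F312094) (tt N46880 F312095))
theorem Q76753 : ∀ i, i < 76753 → P i := stepQ 76752 Q76752 (allL N76752 (tt N46811 F344395) (tt N46880 F344396) (tt N43322 (iv2 D152662)) (tt N46814 F344385) (tt N44741 F239874) (tt N109913 D213144) (tt N104238 F444870) (tt N80954 F344391))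
theorem Q76754 : ∀ i, i < 76754 → P i := stepQ 76753 Q76753 (allL N76753 (tt N104222 (iv1 F444784)) (tt N109914 D213145) (tt N109913 (iv2 F469185)) (tt N43324 F239875) (tt N109915 D213146) (tt N43322 (iv5 D152663)) (tt N103128 (iv6 F440195)) (tt N109821 (iv7 F468784)))
theorem Q76755 : ∀ i, i < 76755 → P i := stepQ 76754 Q76754 (allL N76754 (tt N81059 (iv1 F362958)) (tt N80959 (iv0 F356987)) (tt N104238 F444869) (tt N43325 F239876) (tt N81070 F273325) (tt N108447 (iv5 F462615)) (tt N43322 (iv6 D152664)) (tt N104239 (iv7 F444872)))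
theorem Q76756 : ∀ i, i < 76756 → P i := stepQ 76755 Q76755 (allL N76755 (tt N99592 (iv1 F425320)) (tt N62441 (iv0 F319698)) (tt N62095 (iv2 F319616)) (tt N73565 (iv3 F348370)) (tt N62089 (iv4 F348367)) (tt N43323 (iv5 D152665)) (tt N62084 (iv6 F348372)) (tt N109468 (iv7 F467121)))
theorem Q76757 : ∀ i, i < 76757 → P i := stepQ 76756 Q76756 (allL N76756 (tt N76063 (iv1 F353456)) (tt N76166 (iv0 F353454)) (tt N63137 F239878) (tt N100335 (iv3 F428463)) (tt N43325 F239879) (tt N103100 (iv5 F440072)) (tt N43323 (iv6 D152666)) (tt N109466 (iv7 F467111)))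
theorem Q76758 : ∀ i, i < 76758 → P i := stepQ 76757 Q76757 (allL N76757 (tt N43328 (iv1 F239881)) (tt N43324 (iv0 D152667)) (tt N65316 (iv2 F239882)) (tt N102832 (iv3 F438849)) (tt N106987 (iv4 F456529)) (tt N65309 F239880) (tt N67648 F346126) (tt N102832 (iv7 F438852)))
theorem Q76759 : ∀ i, i < 76759 → P i := stepQ 76758 Q76758 (allL N76758 (tt N106897 (iv1 F456186)) (tt N84085 (iv0 F438634)) (tt N106853 (iv2 F455998)) (tt N84028 F421421) (tt N43324 (iv4 D152669)) (tt N106589 (iv5 F454970)) (tt N71452 F352104) (tt N87688 (iv7 F421419)))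
theorem Q76760 : ∀ i, i < 76760 → P i := stepQ 76759 Q76759 (allL N76759 (tt N43325 (iv1 D152672)) (tt N108442 (iv0 F462588)) (tt N99599 (iv2 F425340)) (tt N46373 F303240) (tt N43337 F239889) (tt N76780 F353457) (tt N46372 F303241) (tt N44587 (iv7 F239893)))
theorem Q76761 : ∀ i, i < 76761 → P i := stepQ 76760 Q76760 (allL N76760 (tt N99599 (iv1 F425345)) (tt N44587 (iv0 F244466)) (tt N108442 (iv2 F462583)) (tt N104239 (iv3 F444876)) (tt N109466 (iv4 F467108)) (tt N63702 (iv5 F339231)) (tt N77640 F244465) (tt N43325 (iv7 D152674)))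
theorem Q76762 : ∀ i, i < 76762 → P i := stepQ 76761 Q76761 (allL N76761 (tt N90522 (iv1 F389948)) (tt N80721 F311777) (tt N80955 F366704) (tt N43328 F239897) (tt N86013 (iv4 F374875)) (tt N43326 (iv5 D152679)) (tt N104577 (iv6 F446367)) (tt N80952 F352110))
theorem Q76763 : ∀ i, i < 76763 → P i := stepQ 76762 Q76762 (allL N76762 (tt N80965 F311778) (tt N53738 F311779) (tt N80956 (iv2 F338122)) (tt N43329 F239898) (tt N49663 F311780) (tt N77641 (iv5 F244467)) (tt N43326 (iv6 D152680)) (tt N80964 F338114))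
theorem Q76764 : ∀ i, i < 76764 → P i := stepQ 76763 Q76763 (allL N76763 (tt N62441 (iv1 F319699)) (tt N99592 F425321) (tt N109468 (iv2 F467118)) (tt N48231 F239899) (tt N62100 (iv4 F348362)) (tt N43327 (iv5 D152681)) (tt N73391 (iv6 F364290)) (tt N62095 (iv7 F319619)))
theorem Q76765 : ∀ i, i < 76765 → P i := stepQ 76764 Q76764 (allL N76764 (tt N109469 F467130) (tt N109467 (iv0 F467117)) (tt N101313 (iv2 F432611)) (tt N63118 F239902) (tt N43329 F239903) (tt N77656 (iv5 F244515)) (tt N43327 (iv6 D152682)) (tt N103180 (iv7 F440439)))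
theorem Q76766 : ∀ i, i < 76766 → P i := stepQ 76765 Q76765 (allL N76765 (tt N84085 F390999) (tt N106897 F456185) (tt N87688 (iv2 F421417)) (tt N90624 F390306) (tt N43328 (iv4 D152683)) (tt N90623 (iv5 F390307)) (tt N77455 F338733) (tt N106853 (iv7 F456001)))
theorem Q76767 : ∀ i, i < 76767 → P i := stepQ 76766 Q76766 (allL N76766 (tt N67608 F338730) (tt N67605 (iv0 F346128)) (tt N67606 F338706) (tt N104577 (iv3 F446369)) (tt N77455 (iv4 F338731)) (tt N77643 (iv5 F244468)) (tt N43328 (iv6 D152684)) (tt N67607 (iv7 F352075)))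
theorem Q76768 : ∀ i, i < 76768 → P i := stepQ 76767 Q76767 (allL N76767 (tt N108838 (iv1 F464200)) (tt N109916 D213147) (tt N78597 F366829) (tt N43333 F239910) (tt N109917 D213148) (tt N43332 (iv5 D152703)) (tt N85071 F371525) (tt N78598 (iv7 F366831)))
theorem Q76769 : ∀ i, i < 76769 → P i := stepQ 76768 Q76768 (allL N76768 (tt N43343 (iv1 F239913)) (tt N43333 (iv0 D152705)) (tt N104125 (iv2 F444306)) (tt N109916 F469203) (tt N106595 (iv4 F454992)) (tt N76565 F239912) (tt N104122 F444295) (tt N102783 F438636))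
theorem Q76770 : ∀ i, i < 76770 → P i := stepQ 76769 Q76769 (allL N76769 (tt N43333 (iv1 D152706)) (tt N43343 F239914) (tt N102783 (iv2 F438629)) (tt N69407 F347055) (tt N71850 F347057) (tt N77612 (iv5 F347054)) (tt N69404 (iv6 F347056)) (tt N104125 (iv7 F444309)))
theorem Q76771 : ∀ i, i < 76771 → P i := stepQ 76770 Q76770 (allL N76770 (tt N106987 (iv1 F456533)) (tt N104132 F444350) (tt N106954 (iv2 F456421)) (tt N109918 D213149) (tt N43333 (iv4 D152707)) (tt N105286 (iv5 F449558)) (tt N71408 F371529) (tt N101136 (iv7 F431866)))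
theorem Q76772 : ∀ i, i < 76772 → P i := stepQ 76771 Q76771 (allL N76771 (tt N66295 F347091) (tt N69549 (iv0 F347074)) (tt N102782 (iv2 F438626)) (tt N85071 (iv3 F371526)) (tt N71408 (iv4 F371528)) (tt N100007 (iv5 F427165)) (tt N43333 (iv6 D152708)) (tt N102781 F438621))
theorem Q76773 : ∀ i, i < 76773 → P i := stepQ 76772 Q76772 (allL N76772 (tt N43334 (iv1 D152709)) (tt N108261 (iv0 F461754)) (tt N100490 (iv2 F429143)) (tt N47288 F348540) (tt N100062 (iv4 F427395)) (tt N81366 F348541) (tt N47286 F348542) (tt N79999 F259327))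
theorem Q76774 : ∀ i, i < 76774 → P i := stepQ 76773 Q76773 (allL N76773 (tt N100490 (iv1 F429149)) (tt N79999 (iv0 F339365)) (tt N108261 (iv2 F461749)) (tt N94476 (iv3 F404639)) (tt N43339 F239916) (tt N99567 (iv5 F425204)) (tt N77650 (iv6 F244496)) (tt N43334 (iv7 D152711)))
theorem Q76775 : ∀ i, i < 76775 → P i := stepQ 76774 Q76774 (allL N76774 (tt N62100 (iv1 F348361)) (tt N62089 F348374) (tt N62026 (iv2 F318567)) (tt N54669 F356220) (tt N43335 (iv4 D152712)) (tt N109919 D213150) (tt N109920 D213151) (tt N62098 F348348))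
theorem Q76776 : ∀ i, i < 76776 → P i := stepQ 76775 Q76775 (allL N76775 (tt N61943 (iv1 F351428)) (tt N73198 (iv0 F348109)) (tt N62444 (iv2 F318376)) (tt N73614 (iv3 F321218)) (tt N109920 (iv4 F469222)) (tt N44477 F316056) (tt N43335 (iv6 D152713)) (tt N62689 (iv7 F348133)))
theorem Q76777 : ∀ i, i < 76777 → P i := stepQ 76776 Q76776 (allL N76776 (tt N43345 (iv1 F239921)) (tt N43336 (iv0 D152715)) (tt N62526 F366200) (tt N109921 D213152) (tt N80393 (iv4 F264608)) (tt N106597 (iv5 F454995)) (tt N61942 (iv6 F414470)) (tt N62527 (iv7 F366198)))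
theorem Q76778 : ∀ i, i < 76778 → P i := stepQ 76777 Q76777 (allL N76777 (tt N43336 (iv1 D152716)) (tt N43345 F239922) (tt N62527 (iv2 F366201)) (tt N62011 F423387) (tt N99212 (iv4 F423703)) (tt N106594 (iv5 F454988)) (tt N99964 (iv6 F426986)) (tt N62526 F366202))
theorem Q76779 : ∀ i, i < 76779 → P i := stepQ 76778 Q76778 (allL N76778 (tt N62015 (iv1 F336262)) (tt N62014 (iv0 F336265)) (tt N62017 F336259) (tt N43336 (iv3 D152717)) (tt N66029 F336260) (tt N109922 D213153) (tt N61983 F336261) (tt N61778 (iv7 F336258)))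
theorem Q76780 : ∀ i, i < 76780 → P i := stepQ 76779 Q76779 (allL N76779 (tt N109923 D213154) (tt N109924 D213155) (tt N62528 (iv2 F366276)) (tt N109922 (iv3 F469234)) (tt N105287 (iv4 F449566)) (tt N43336 (iv5 D152718)) (tt N109483 (iv6 F467197)) (tt N109822 (iv7 F468791)))
theorem Q76781 : ∀ i, i < 76781 → P i := stepQ 76780 Q76780 (allL N76780 (tt N63699 (iv1 F334113)) (tt N63700 F353459) (tt N62530 (iv2 F322161)) (tt N64221 (iv3 F339233)) (tt N43338 (iv4 D152721)) (tt N76759 (iv5 F353457)) (tt N62511 F353458) (tt N63710 F239929))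
theorem Q76782 : ∀ i, i < 76782 → P i := stepQ 76781 Q76781 (allL N76781 (tt N103624 F442282) (tt N68990 F354041) (tt N103625 F442284) (tt N43343 F239935) (tt N109925 D213156) (tt N43342 (iv5 D152730)) (tt N68948 (iv6 F366859)) (tt N103578 F442110))
theorem Q76783 : ∀ i, i < 76783 → P i := stepQ 76782 Q76782 (allL N76782 (tt N103065 F439929) (tt N79374 (iv0 F262848)) (tt N103933 (iv2 F443429)) (tt N43344 F239936) (tt N103072 (iv4 F439951)) (tt N109926 D213157) (tt N43342 (iv6 D152731)) (tt N109412 (iv7 F466838)))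
theorem Q76784 : ∀ i, i < 76784 → P i := stepQ 76783 Q76783 (allL N76783 (tt N104132 F444349) (tt N106987 F456532) (tt N101136 (iv2 F431863)) (tt N82996 (iv3 F397635)) (tt N43343 (iv4 D152732)) (tt N105287 F449563) (tt N92608 F397634) (tt N106954 (iv7 F456424)))
theorem Q76785 : ∀ i, i < 76785 → P i := stepQ 76784 Q76784 (allL N76784 (tt N50951 F347081) (tt N79909 (iv0 F349326)) (tt N79915 F347111) (tt N68948 F366860) (tt N92608 (iv4 F397631)) (tt N94579 (iv5 F405036)) (tt N43343 (iv6 D152733)) (tt N79916 (iv7 F347112)))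
theorem Q76786 : ∀ i, i < 76786 → P i := stepQ 76785 Q76785 (allL N76785 (tt N77650 (iv1 F244499)) (tt N43344 (iv0 D152734)) (tt N102767 (iv2 F438553)) (tt N47314 F309532) (tt N109313 (iv4 F466342)) (tt N76550 (iv5 F335507)) (tt N47312 F309534) (tt N80005 (iv7 F259383)))
theorem Q76787 : ∀ i, i < 76787 → P i := stepQ 76786 Q76786 (allL N76786 (tt N46984 F339358) (tt N76548 F239937) (tt N109411 (iv2 F466828)) (tt N109926 (iv3 F469258)) (tt N77645 (iv4 F244469)) (tt N43344 (iv5 D152736)) (tt N94579 (iv6 F405037)) (tt N98143 (iv7 F419677)))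
theorem Q76788 : ∀ i, i < 76788 → P i := stepQ 76787 Q76787 (allL N76787 (tt N109927 D213158) (tt N62018 (iv0 F366261)) (tt N62009 (iv2 F336254)) (tt N43345 (iv3 D152737)) (tt N108233 (iv4 F461605)) (tt N109928 D213159) (tt N62005 F336253) (tt N62525 (iv7 F366273)))
theorem Q76789 : ∀ i, i < 76789 → P i := stepQ 76788 Q76788 (allL N76788 (tt N109924 (iv1 F469245)) (tt N109923 F469241) (tt N109822 (iv2 F468787)) (tt N109928 (iv3 F469271)) (tt N105286 F449561) (tt N43345 (iv5 D152738)) (tt N109929 D213160) (tt N62528 (iv7 F366274)))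
theorem Q76790 : ∀ i, i < 76790 → P i := stepQ 76789 Q76789 (allL N76789 (tt N61974 (iv1 F336252)) (tt N61973 (iv0 F350024)) (tt N61776 (iv2 F336245)) (tt N62005 (iv3 F336246)) (tt N43346 F239938) (tt N61775 F336244) (tt N43345 (iv6 D152739)) (tt N61971 (iv7 F336247)))
theorem Q76791 : ∀ i, i < 76791 → P i := stepQ 76790 Q76790 (allL N76790 (tt N43350 (iv1 F239939)) (tt N43347 (iv0 D152740)) (tt N106921 F456288) (tt N109930 D213161) (tt N72194 (iv4 F315876)) (tt N109923 (iv5 F469239)) (tt N109931 D213162) (tt N92590 (iv7 F397528)))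
theorem Q76792 : ∀ i, i < 76792 → P i := stepQ 76791 Q76791 (allL N76791 (tt N43347 (iv1 D152741)) (tt N43350 F239940) (tt N92590 (iv2 F397526)) (tt N106916 F456276) (tt N75809 (iv4 F239941)) (tt N109924 (iv5 F469247)) (tt N43365 F239942) (tt N106921 (iv7 F456287)))
theorem Q76793 : ∀ i, i < 76793 → P i := stepQ 76792 Q76792 (allL N76792 (tt N72781 F341137) (tt N109932 D213163) (tt N99343 (iv2 F424197)) (tt N100423 (iv3 F428907)) (tt N43348 F239943) (tt N109933 D213164) (tt N43347 (iv6 D152744)) (tt N99342 (iv7 F424196)))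
theorem Q76794 : ∀ i, i < 76794 → P i := stepQ 76793 Q76793 (allL N76793 (tt N106910 (iv1 F456242)) (tt N77882 (iv0 F366406)) (tt N100435 (iv2 F428965)) (tt N43350 (iv3 D152747)) (tt N101604 (iv4 F436685)) (tt N109934 D213165) (tt N77871 F366721) (tt N106909 F456239))
theorem Q76795 : ∀ i, i < 76795 → P i := stepQ 76794 Q76794 (allL N76794 (tt N99139 F423437) (tt N99594 (iv0 F425323)) (tt N107061 (iv2 F456822)) (tt N109934 (iv3 F469294)) (tt N105285 (iv4 F449554)) (tt N43350 (iv5 D152748)) (tt N109935 D213166) (tt N106084 (iv7 F453043)))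
theorem Q76796 : ∀ i, i < 76796 → P i := stepQ 76795 Q76795 (allL N76795 (tt N109488 (iv1 F467233)) (tt N91456 (iv0 F428505)) (tt N109524 F467362) (tt N43351 (iv3 D152751)) (tt N100343 F428504) (tt N90615 F390283) (tt N108555 (iv6 F463061)) (tt N109523 (iv7 F467358)))
theorem Q76797 : ∀ i, i < 76797 → P i := stepQ 76796 Q76796 (allL N76796 (tt N82651 (iv1 F330100)) (tt N56096 F239952) (tt N63148 F239962) (tt N100344 (iv3 F428508)) (tt N43351 (iv4 D152752)) (tt N82318 (iv5 F280211)) (tt N107623 F458978) (tt N107141 (iv7 F457173)))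
theorem Q76798 : ∀ i, i < 76798 → P i := stepQ 76797 Q76797 (allL N76797 (tt N98873 (iv1 F422671)) (tt N77909 F422672) (tt N98877 F422676) (tt N108555 (iv3 F463060)) (tt N107623 F458976) (tt N106634 (iv5 F455110)) (tt N43351 (iv6 D152754)) (tt N98876 F422670))
theorem Q76799 : ∀ i, i < 76799 → P i := stepQ 76798 Q76798 (allL N76798 (tt N56096 (iv1 F239963)) (tt N82651 (iv0 F330097)) (tt N107141 (iv2 F457167)) (tt N63104 F239954) (tt N43352 (iv4 D152757)) (tt N63102 (iv5 F239955)) (tt N65376 (iv6 F239956)) (tt N63148 (iv7 F239957)))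
theorem Q76800 : ∀ i, i < 76800 → P i := stepQ 76799 Q76799 (allL N76799 (tt N99146 (iv1 F423461)) (tt N99213 (iv0 F423708)) (tt N106598 (iv2 F454999)) (tt N78020 F366512) (tt N105351 (iv4 F449834)) (tt N43352 (iv5 D152758)) (tt N108244 (iv6 F461662)) (tt N106017 (iv7 F452756)))
theorem Q76801 : ∀ i, i < 76801 → P i := stepQ 76800 Q76800 (allL N76800 (tt N105288 (iv1 F449572)) (tt N43353 (iv0 D152765)) (tt N62099 (iv2 F348365)) (tt N90621 (iv3 F390311)) (tt N90623 F390308) (tt N62089 F348366) (tt N109486 F467216) (tt N109515 (iv7 F467329)))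
theorem Q76802 : ∀ i, i < 76802 → P i := stepQ 76801 Q76801 (allL N76801 (tt N43353 (iv1 D152766)) (tt N105288 F449573) (tt N109515 F467332) (tt N109518 (iv3 F467343)) (tt N106589 (iv4 F454971)) (tt N62100 (iv5 F348363)) (tt N109516 F467335) (tt N62099 F348364))
theorem Q76803 : ∀ i, i < 76803 → P i := stepQ 76802 Q76802 (allL N76802 (tt N109936 D213167) (tt N109937 D213168) (tt N109824 (iv2 F468799)) (tt N99363 F424296) (tt N100274 (iv4 F428197)) (tt N43382 F239977) (tt N43353 (iv6 D152768)) (tt N106652 (iv7 F455154)))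
theorem Q76804 : ∀ i, i < 76804 → P i := stepQ 76803 Q76803 (allL N76803 (tt N109515 F467331) (tt N62099 F348349) (tt N105288 (iv2 F449568)) (tt N62067 F366269) (tt N105264 (iv4 F449460)) (tt N43354 F239978) (tt N109487 (iv6 F467222)) (tt N43353 (iv7 D152769)))
theorem Q76805 : ∀ i, i < 76805 → P i := stepQ 76804 Q76804 (allL N76804 (tt N100447 (iv1 F429014)) (tt N100446 (iv0 F429011)) (tt N100448 (iv2 F429021)) (tt N74002 F366326) (tt N43355 F239979) (tt N62132 (iv5 F359989)) (tt N43354 (iv6 D152770)) (tt N43384 F239980))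
theorem Q76806 : ∀ i, i < 76806 → P i := stepQ 76805 Q76805 (allL N76805 (tt N78765 (iv1 F250832)) (tt N78764 F250831) (tt N63313 F239981) (tt N107986 (iv3 F460605)) (tt N43356 (iv4 D152771)) (tt N78833 (iv5 F251060)) (tt N84902 F372992) (tt N63312 F239982))
theorem Q76807 : ∀ i, i < 76807 → P i := stepQ 76806 Q76806 (allL N76806 (tt N106542 F454822) (tt N98265 (iv0 F420240)) (tt N63314 F239983) (tt N43358 F239984) (tt N84902 (iv4 F372991)) (tt N74921 F239985) (tt N43356 (iv6 D152772)) (tt N109089 (iv7 F465280)))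
theorem Q76808 : ∀ i, i < 76808 → P i := stepQ 76807 Q76807 (allL N76807 (tt N109938 D213169) (tt N109939 D213170) (tt N72762 (iv2 F363778)) (tt N43357 (iv3 D152773)) (tt N107986 (iv4 F460606)) (tt N100480 (iv5 F429107)) (tt N62305 F363776) (tt N98351 (iv7 F420605)))
theorem Q76809 : ∀ i, i < 76809 → P i := stepQ 76808 Q76808 (allL N76808 (tt N99158 (iv1 F423513)) (tt N59009 (iv0 F363777)) (tt N95933 (iv2 F410329)) (tt N62305 (iv3 F363774)) (tt N43358 F239986) (tt N62304 (iv5 F363775)) (tt N43357 (iv6 D152774)) (tt N72788 F363773))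
theorem Q76810 : ∀ i, i < 76810 → P i := stepQ 76809 Q76809 (allL N76809 (tt N62002 (iv1 F363768)) (tt N70745 F363769) (tt N97969 (iv2 F419014)) (tt N109089 (iv3 F465277)) (tt N72788 (iv4 F363772)) (tt N70712 F363770) (tt N98350 (iv6 F420602)) (tt N43358 (iv7 D152777)))
theorem Q76811 : ∀ i, i < 76811 → P i := stepQ 76810 Q76810 (allL N76810 (tt N100284 (iv1 F428258)) (tt N43359 (iv0 D152778)) (tt N71548 (iv2 F366403)) (tt N109940 D213171) (tt N109941 D213172) (tt N109942 D213173) (tt N62007 F366404) (tt N100283 (iv7 F428252)))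
theorem Q76812 : ∀ i, i < 76812 → P i := stepQ 76811 Q76811 (allL N76811 (tt N43359 (iv1 D152779)) (tt N100284 F428259) (tt N100283 F428250) (tt N44241 F366400) (tt N72299 F366401) (tt N109943 D213174) (tt N96418 (iv6 F412437)) (tt N71548 F366402))
theorem Q76813 : ∀ i, i < 76813 → P i := stepQ 76812 Q76812 (allL N76812 (tt N71548 F350661) (tt N100283 F428251) (tt N43359 (iv2 D152780)) (tt N77749 F244847) (tt N109231 (iv4 F465885)) (tt N109944 D213175) (tt N109945 D213176) (tt N100284 (iv7 F428257)))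
theorem Q76814 : ∀ i, i < 76814 → P i := stepQ 76813 Q76813 (allL N76813 (tt N109946 D213177) (tt N98961 (iv0 F424166)) (tt N109944 (iv2 F469331)) (tt N43360 F239987) (tt N109947 D213178) (tt N43359 (iv5 D152781)) (tt N109948 D213179) (tt N100285 (iv7 F428261)))
theorem Q76815 : ∀ i, i < 76815 → P i := stepQ 76814 Q76814 (allL N76814 (tt N101088 (iv1 F431617)) (tt N109949 D213180) (tt N109945 (iv2 F469333)) (tt N43361 F239988) (tt N64950 F356031) (tt N64881 (iv5 F356035)) (tt N43359 (iv6 D152782)) (tt N109950 D213181))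
theorem Q76816 : ∀ i, i < 76816 → P i := stepQ 76815 Q76815 (allL N76815 (tt N109951 D213182) (tt N109952 D213183) (tt N99971 (iv2 F427014)) (tt N109948 (iv3 F469341)) (tt N98456 (iv4 F420951)) (tt N109953 D213184) (tt N43360 (iv6 D152783)) (tt N109954 D213185))
theorem Q76817 : ∀ i, i < 76817 → P i := stepQ 76816 Q76816 (allL N76816 (tt N44422 F320446) (tt N43361 (iv0 D152784)) (tt N99963 F426979) (tt N109955 D213186) (tt N91540 (iv4 F393560)) (tt N109956 D213187) (tt N61941 F359509) (tt N99964 (iv7 F426983)))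
theorem Q76818 : ∀ i, i < 76818 → P i := stepQ 76817 Q76817 (allL N76817 (tt N43361 (iv1 D152785)) (tt N44422 F320445) (tt N99964 (iv2 F426985)) (tt N82110 F457385) (tt N94455 F404541) (tt N109957 D213188) (tt N62527 (iv6 F404542)) (tt N99963 F426980))
theorem Q76819 : ∀ i, i < 76819 → P i := stepQ 76818 Q76818 (allL N76818 (tt N109958 D213189) (tt N109959 D213190) (tt N99965 (iv2 F426988)) (tt N64881 F356036) (tt N109960 D213191) (tt N43361 (iv5 D152786)) (tt N109953 (iv6 F469364)) (tt N109961 D213192))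
theorem Q76820 : ∀ i, i < 76820 → P i := stepQ 76819 Q76819 (allL N76819 (tt N99964 (iv1 F426982)) (tt N99963 F426978) (tt N44422 (iv2 F318286)) (tt N109950 (iv3 F469356)) (tt N43363 F239991) (tt N109961 (iv5 F469390)) (tt N44417 F316169) (tt N43361 (iv7 D152787)))
theorem Q76821 : ∀ i, i < 76821 → P i := stepQ 76820 Q76820 (allL N76820 (tt N100450 F429037) (tt N44270 F423709) (tt N72284 (iv2 F348376)) (tt N109962 D213193) (tt N43362 (iv4 D152788)) (tt N109963 D213194) (tt N62098 F348347) (tt N99962 (iv7 F426973)))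
theorem Q76822 : ∀ i, i < 76822 → P i := stepQ 76821 Q76821 (allL N76821 (tt N89486 (iv1 F386627)) (tt N89332 (iv0 F386147)) (tt N90188 (iv2 F388823)) (tt N43364 (iv3 D152789)) (tt N72824 (iv4 F339914)) (tt N100477 (iv5 F429104)) (tt N109964 D213195) (tt N90189 (iv7 F388825)))
theorem Q76823 : ∀ i, i < 76823 → P i := stepQ 76822 Q76822 (allL N76822 (tt N100449 (iv1 F429033)) (tt N77621 (iv0 F359510)) (tt N81722 (iv2 F359512)) (tt N109964 (iv3 F469401)) (tt N72823 F359511) (tt N61933 F359508) (tt N43364 (iv6 D152790)) (tt N109931 (iv7 F469282)))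
theorem Q76824 : ∀ i, i < 76824 → P i := stepQ 76823 Q76823 (allL N76823 (tt N93506 F400971) (tt N93498 (iv0 F402306)) (tt N93503 F400965) (tt N43365 (iv3 D152791)) (tt N93892 (iv4 F402304)) (tt N100478 (iv5 F429105)) (tt N106916 (iv6 F456275)) (tt N93504 (iv7 F400964)))
theorem Q76825 : ∀ i, i < 76825 → P i := stepQ 76824 Q76824 (allL N76824 (tt N109606 (iv1 F467704)) (tt N43366 (iv0 D152792)) (tt N109607 (iv2 F467709)) (tt N98923 (iv3 F422797)) (tt N66315 F366267) (tt N100473 (iv5 F429098)) (tt N61933 (iv6 F423110)) (tt N98932 (iv7 F438321)))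
theorem Q76826 : ∀ i, i < 76826 → P i := stepQ 76825 Q76825 (allL N76825 (tt N43366 (iv1 D152793)) (tt N109606 (iv0 F467703)) (tt N98932 (iv2 F438331)) (tt N109965 D213196) (tt N66314 (iv4 F347038)) (tt N100474 F429100) (tt N100410 (iv6 F428850)) (tt N109607 (iv7 F467706)))
theorem Q76827 : ∀ i, i < 76827 → P i := stepQ 76826 Q76826 (allL N76826 (tt N109607 (iv1 F467705)) (tt N98932 F422819) (tt N43366 (iv2 D152794)) (tt N98959 F422861) (tt N77741 (iv4 F360754)) (tt N109966 D213197) (tt N103216 (iv6 F440618)) (tt N109606 (iv7 F467702)))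
theorem Q76828 : ∀ i, i < 76828 → P i := stepQ 76827 Q76827 (allL N76827 (tt N99078 (iv1 F423256)) (tt N109967 D213198) (tt N109966 (iv2 F469409)) (tt N43367 F239994) (tt N109968 D213199) (tt N43366 (iv5 D152795)) (tt N109969 D213200) (tt N109608 (iv7 F467712)))
theorem Q76829 : ∀ i, i < 76829 → P i := stepQ 76828 Q76828 (allL N76828 (tt N97211 F415918) (tt N61883 F365960) (tt N103216 F440615) (tt N43368 F239995) (tt N45604 F365961) (tt N96892 (iv5 F414474)) (tt N43366 (iv6 D152796)) (tt N99731 (iv7 F425954)))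
theorem Q76830 : ∀ i, i < 76830 → P i := stepQ 76829 Q76829 (allL N76829 (tt N43371 (iv1 F239997)) (tt N43367 (iv0 D152797)) (tt N63683 (iv2 F239998)) (tt N109970 D213201) (tt N109869 (iv4 F469004)) (tt N62988 F239996) (tt N109971 D213202) (tt N63680 (iv7 F239999)))
theorem Q76831 : ∀ i, i < 76831 → P i := stepQ 76830 Q76830 (allL N76830 (tt N43367 (iv1 D152798)) (tt N43371 F240000) (tt N63680 (iv2 F240003)) (tt N109972 D213203) (tt N109871 (iv4 F469012)) (tt N62989 F240002) (tt N109973 D213204) (tt N63683 F240001))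
theorem Q76832 : ∀ i, i < 76832 → P i := stepQ 76831 Q76831 (allL N76831 (tt N89339 (iv1 F386187)) (tt N61862 (iv0 F359529)) (tt N108542 F463015) (tt N109969 (iv3 F469418)) (tt N49063 F359503) (tt N70022 F359504) (tt N43367 (iv6 D152799)) (tt N99290 (iv7 F423957)))
theorem Q76833 : ∀ i, i < 76833 → P i := stepQ 76832 Q76832 (allL N76832 (tt N96898 (iv1 F414505)) (tt N43368 (iv0 D152800)) (tt N61937 (iv2 F351443)) (tt N82102 F359945) (tt N62325 F351445) (tt N61769 F351446) (tt N72188 (iv6 F351447)) (tt N61940 (iv7 F351444)))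
theorem Q76834 : ∀ i, i < 76834 → P i := stepQ 76833 Q76833 (allL N76833 (tt N43368 (iv1 D152801)) (tt N96898 (iv0 F414504)) (tt N61940 F351438) (tt N99014 (iv3 F423034)) (tt N73178 F351439) (tt N44195 F351440) (tt N61874 (iv6 F360857)) (tt N61937 F351442))
theorem Q76835 : ∀ i, i < 76835 → P i := stepQ 76834 Q76834 (allL N76834 (tt N98959 F422863) (tt N43370 (iv0 D152811)) (tt N93513 (iv2 F400993)) (tt N98956 (iv3 F422853)) (tt N99331 (iv4 F424133)) (tt N109946 (iv5 F469340)) (tt N106910 (iv6 F456241)) (tt N98960 (iv7 F422864)))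
theorem Q76836 : ∀ i, i < 76836 → P i := stepQ 76835 Q76835 (allL N76835 (tt N93513 F400994) (tt N98960 F422866) (tt N43370 (iv2 D152813)) (tt N109606 (iv3 F467700)) (tt N89548 (iv4 F386748)) (tt N109974 D213205) (tt N93491 (iv6 F400912)) (tt N98959 (iv7 F422859)))
theorem Q76837 : ∀ i, i < 76837 → P i := stepQ 76836 Q76836 (allL N76836 (tt N109975 D213206) (tt N98969 (iv0 F422874)) (tt N109974 (iv2 F469436)) (tt N43371 F240034) (tt N109976 D213207) (tt N43370 (iv5 D152814)) (tt N109977 D213208) (tt N109825 (iv7 F468804)))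
theorem Q76838 : ∀ i, i < 76838 → P i := stepQ 76837 Q76837 (allL N76837 (tt N101087 (iv1 F482151)) (tt N109978 D213210) (tt N109826 (iv2 F468805)) (tt N109977 (iv3 F469442)) (tt N106593 F454984) (tt N107562 (iv5 F458754)) (tt N43371 (iv6 D152816)) (tt N109979 D213211))
theorem Q76839 : ∀ i, i < 76839 → P i := stepQ 76838 Q76838 (allL N76838 (tt N91467 (iv1 F393251)) (tt N43373 (iv0 D152826)) (tt N91470 (iv2 F393259)) (tt N77747 F360758) (tt N54918 (iv4 F360759)) (tt N98983 F422906) (tt N98985 (iv6 F422918)) (tt N54917 F360760))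
theorem Q76840 : ∀ i, i < 76840 → P i := stepQ 76839 Q76839 (allL N76839 (tt N91470 (iv1 F393262)) (tt N54917 F392447) (tt N43373 (iv2 D152828)) (tt N78038 F404295) (tt N100346 (iv4 F428520)) (tt N109980 D213212) (tt N62116 (iv6 F404230)) (tt N91467 (iv7 F393252)))
theorem Q76841 : ∀ i, i < 76841 → P i := stepQ 76840 Q76840 (allL N76840 (tt N109981 D213213) (tt N109982 D213214) (tt N109980 (iv2 F469452)) (tt N43375 F240045) (tt N109983 D213215) (tt N43373 (iv5 D152829)) (tt N109984 D213216) (tt N109831 (iv7 F468828)))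
theorem Q76842 : ∀ i, i < 76842 → P i := stepQ 76841 Q76841 (allL N76841 (tt N62118 F415148) (tt N62104 (iv0 F415098)) (tt N62116 F404229) (tt N43376 F240046) (tt N96884 F414440) (tt N101117 (iv5 F431765)) (tt N43373 (iv6 D152830)) (tt N62117 F404228))
theorem Q76843 : ∀ i, i < 76843 → P i := stepQ 76842 Q76842 (allL N76842 (tt N81339 F274394) (tt N76203 F351435) (tt N63163 F240047) (tt N96885 (iv3 F414443)) (tt N43376 F240048) (tt N96885 (iv5 F414444)) (tt N43374 (iv6 D152831)) (tt N99435 (iv7 F424565)))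
theorem Q76844 : ∀ i, i < 76844 → P i := stepQ 76843 Q76843 (allL N76843 (tt N43378 (iv1 F240050)) (tt N43375 (iv0 D152832)) (tt N63678 (iv2 F240051)) (tt N109985 D213217) (tt N109893 (iv4 F469108)) (tt N62987 F240049) (tt N109986 D213218) (tt N63673 (iv7 F240052)))
theorem Q76845 : ∀ i, i < 76845 → P i := stepQ 76844 Q76844 (allL N76844 (tt N43375 (iv1 D152833)) (tt N43378 F240053) (tt N63673 (iv2 F240056)) (tt N77955 (iv3 F366405)) (tt N109892 (iv4 F469099)) (tt N44509 F240055) (tt N109987 D213219) (tt N63678 F240054))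
theorem Q76846 : ∀ i, i < 76846 → P i := stepQ 76845 Q76845 (allL N76845 (tt N49064 F361009) (tt N61847 F361010) (tt N109830 (iv2 F468820)) (tt N109984 (iv3 F469460)) (tt N83533 F361011) (tt N99104 (iv5 F423349)) (tt N43375 (iv6 D152834)) (tt N99278 (iv7 F423910)))
theorem Q76847 : ∀ i, i < 76847 → P i := stepQ 76846 Q76846 (allL N76846 (tt N96824 (iv1 F414138)) (tt N77935 F351413) (tt N99148 F423473) (tt N101117 (iv3 F431763)) (tt N92673 (iv4 F397840)) (tt N43376 (iv5 D152837)) (tt N99104 (iv6 F423350)) (tt N78043 F351410))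
theorem Q76848 : ∀ i, i < 76848 → P i := stepQ 76847 Q76847 (allL N76847 (tt N78038 (iv1 F404297)) (tt N43377 (iv0 D152839)) (tt N109828 (iv2 F468816)) (tt N109988 D213220) (tt N98849 (iv4 F464122)) (tt N109989 D213221) (tt N78018 (iv6 F469479)) (tt N109827 F468811))
theorem Q76849 : ∀ i, i < 76849 → P i := stepQ 76848 Q76848 (allL N76848 (tt N43377 (iv1 D152840)) (tt N78038 F404298) (tt N109827 F468810) (tt N89539 (iv3 F422563)) (tt N98850 (iv4 F422562)) (tt N109990 D213222) (tt N109991 D213223) (tt N109828 (iv7 F468813)))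
theorem Q76850 : ∀ i, i < 76850 → P i := stepQ 76849 Q76849 (allL N76849 (tt N109828 (iv1 F468812)) (tt N109827 F468809) (tt N43377 (iv2 D152841)) (tt N91467 (iv3 F393256)) (tt N108817 (iv4 F464103)) (tt N109992 D213224) (tt N107520 (iv6 F458643)) (tt N78038 F404296))
theorem Q76851 : ∀ i, i < 76851 → P i := stepQ 76850 Q76850 (allL N76850 (tt N109993 D213225) (tt N109994 D213226) (tt N109992 (iv2 F469487)) (tt N43378 F240057) (tt N106584 F454947) (tt N43377 (iv5 D152842)) (tt N109995 D213227) (tt N109829 (iv7 F468819)))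
theorem Q76852 : ∀ i, i < 76852 → P i := stepQ 76851 Q76851 (allL N76851 (tt N109996 D213228) (tt N109997 D213229) (tt N99224 (iv2 F423751)) (tt N109995 (iv3 F469493)) (tt N109889 (iv4 F469086)) (tt N99215 (iv5 F423717)) (tt N43378 (iv6 D152844)) (tt N109998 D213230))
theorem Q76853 : ∀ i, i < 76853 → P i := stepQ 76852 Q76852 (allL N76852 (tt N98983 F422909) (tt N91469 (iv0 F416019)) (tt N109999 D213231) (tt N43379 (iv3 D152867)) (tt N110000 D213232) (tt N97237 F416018) (tt N110001 D213233) (tt N109837 (iv7 F468842)))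
theorem Q76854 : ∀ i, i < 76854 → P i := stepQ 76853 Q76853 (allL N76853 (tt N83390 F458629) (tt N110002 D213234) (tt N77966 (iv2 F366409)) (tt N110001 (iv3 F469515)) (tt N109886 (iv4 F469076)) (tt N77963 F366410) (tt N43379 (iv6 D152868)) (tt N110003 D213235))
theorem Q76855 : ∀ i, i < 76855 → P i := stepQ 76854 Q76854 (allL N76854 (tt N109989 (iv1 F469480)) (tt N109990 (iv0 F469526)) (tt N110004 D213237) (tt N43380 (iv3 D152869)) (tt N110005 D213238) (tt N77972 (iv5 F366407)) (tt N110006 D213239) (tt N77971 F366408))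
theorem Q76856 : ∀ i, i < 76856 → P i := stepQ 76855 Q76855 (allL N76855 (tt N110007 D213240) (tt N110008 D213241) (tt N109838 (iv2 F468845)) (tt N110006 (iv3 F469536)) (tt N109879 (iv4 F469057)) (tt N110009 D213242) (tt N43380 (iv6 D152870)) (tt N110010 D213243))
theorem Q76857 : ∀ i, i < 76857 → P i := stepQ 76856 Q76856 (allL N76856 (tt N72475 F413558) (tt N110011 D213244) (tt N110012 D213245) (tt N43381 (iv3 D152871)) (tt N107669 (iv4 F459153)) (tt N96709 F413557) (tt N110013 D213246) (tt N109819 (iv7 F468776)))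
theorem Q76858 : ∀ i, i < 76858 → P i := stepQ 76857 Q76857 (allL N76857 (tt N110014 D213247) (tt N71510 (iv0 F365539)) (tt N83453 (iv2 F351168)) (tt N110013 (iv3 F469557)) (tt N43382 F240072) (tt N106225 (iv5 F453649)) (tt N43381 (iv6 D152872)) (tt N110015 D213248))
theorem Q76859 : ∀ i, i < 76859 → P i := stepQ 76858 Q76858 (allL N76858 (tt N109840 (iv1 F468850)) (tt N43382 (iv0 D152873)) (tt N109839 (iv2 F472835)) (tt N106030 (iv3 F472834)) (tt N110016 D213251) (tt N106029 (iv5 F472837)) (tt N110017 D213253) (tt N106671 (iv7 F472833)))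
theorem Q76860 : ∀ i, i < 76860 → P i := stepQ 76859 Q76859 (allL N76859 (tt N43382 (iv1 D152874)) (tt N109840 F468849) (tt N106671 (iv2 F472832)) (tt N110018 D213255) (tt N89348 (iv4 F386211)) (tt N90828 (iv5 F391003)) (tt N83386 (iv6 F361012)) (tt N109839 (iv7 F472836)))
theorem Q76861 : ∀ i, i < 76861 → P i := stepQ 76860 Q76860 (allL N76860 (tt N106671 F459141) (tt N109839 F468848) (tt N109840 (iv2 F468846)) (tt N106633 F455109) (tt N110015 (iv4 F469572)) (tt N106652 (iv5 F455153)) (tt N110019 D213256) (tt N43382 (iv7 D152875)))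
theorem Q76862 : ∀ i, i < 76862 → P i := stepQ 76861 Q76861 (allL N76861 (tt N107666 F459148) (tt N110020 D213257) (tt N100445 (iv2 F429004)) (tt N98983 (iv3 F422905)) (tt N109820 (iv4 F468780)) (tt N77747 F359978) (tt N43383 (iv6 D152876)) (tt N110019 (iv7 F469582)))
theorem Q76863 : ∀ i, i < 76863 → P i := stepQ 76862 Q76862 (allL N76862 (tt N100448 (iv1 F429027)) (tt N43384 (iv0 D152877)) (tt N100446 (iv2 F429012)) (tt N62109 (iv3 F403254)) (tt N107660 (iv4 F459125)) (tt N62155 F403253) (tt N62107 F403255) (tt N100447 (iv7 F429015)))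
theorem Q76864 : ∀ i, i < 76864 → P i := stepQ 76863 Q76863 (allL N76863 (tt N43384 (iv1 D152878)) (tt N100448 F429026) (tt N100447 F429018) (tt N110021 D213258) (tt N77772 (iv4 F244893)) (tt N99243 F423831) (tt N107523 (iv6 F458654)) (tt N100446 F429010))
theorem Q76865 : ∀ i, i < 76865 → P i := stepQ 76864 Q76864 (allL N76864 (tt N61816 (iv1 F351506)) (tt N62134 F351508) (tt N62133 F409512) (tt N98985 (iv3 F422917)) (tt N58813 (iv4 F351510)) (tt N43384 (iv5 D152879)) (tt N77747 (iv6 F359977)) (tt N62132 F359990))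
theorem Q76866 : ∀ i, i < 76866 → P i := stepQ 76865 Q76865 (allL N76865 (tt N109931 F469283) (tt N81722 (iv0 F360253)) (tt N100449 (iv2 F429028)) (tt N58811 F360854) (tt N43385 (iv4 D152880)) (tt N110022 D213259) (tt N58810 (iv6 F360853)) (tt N77621 F366494))
theorem Q76867 : ∀ i, i < 76867 → P i := stepQ 76866 Q76866 (allL N76866 (tt N81722 F366734) (tt N109931 F469284) (tt N77621 F366772) (tt N107677 (iv3 F459192)) (tt N43386 (iv4 D152883)) (tt N110023 D213260) (tt N107563 (iv6 F458760)) (tt N100449 (iv7 F429031)))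
theorem Q76868 : ∀ i, i < 76868 → P i := stepQ 76867 Q76867 (allL N76867 (tt N43571 F240092) (tt N43570 F240093) (tt N43574 F240090) (tt N110024 D213261) (tt N43387 (iv4 D152888)) (tt N110025 D213262) (tt N47733 F366733) (tt N43492 F240091))
theorem Q76869 : ∀ i, i < 76869 → P i := stepQ 76868 Q76868 (allL N76868 (tt N64734 F240096) (tt N83290 F304640) (tt N43390 F240094) (tt N100892 (iv3 F430869)) (tt N110026 D213263) (tt N43388 (iv5 D152889)) (tt N92028 (iv6 F395427)) (tt N43566 F240095))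
theorem Q76870 : ∀ i, i < 76870 → P i := stepQ 76869 Q76869 (allL N76869 (tt N44570 (iv1 F242054)) (tt N53473 F304641) (tt N43391 F240097) (tt N100893 (iv3 F430872)) (tt N43389 F240098) (tt N64696 F240099) (tt N43388 (iv6 D152890)) (tt N77245 (iv7 F242087)))
theorem Q76871 : ∀ i, i < 76871 → P i := stepQ 76870 Q76870 (allL N76870 (tt N43566 (iv1 F240113)) (tt N43390 (iv0 D152895)) (tt N64734 (iv2 F240116)) (tt N54367 F308303) (tt N82738 (iv4 F338046)) (tt N54153 F308304) (tt N110027 D213264) (tt N83290 F308305))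
theorem Q76872 : ∀ i, i < 76872 → P i := stepQ 76871 Q76871 (allL N76871 (tt N43390 (iv1 D152896)) (tt N43566 F240117) (tt N83290 F308282) (tt N109699 (iv3 F468174)) (tt N82737 F381167) (tt N52770 F308283) (tt N110028 D213265) (tt N64734 F240118))
theorem Q76873 : ∀ i, i < 76873 → P i := stepQ 76872 Q76872 (allL N76872 (tt N110027 (iv1 F469626)) (tt N110029 D213266) (tt N110026 (iv2 F469615)) (tt N110030 D213267) (tt N43390 (iv4 D152897)) (tt N85650 (iv5 F373389)) (tt N84335 (iv6 F368948)) (tt N48583 F364079))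
theorem Q76874 : ∀ i, i < 76874 → P i := stepQ 76873 Q76873 (allL N76873 (tt N92029 (iv1 F395435)) (tt N83499 F308312) (tt N92028 F395428) (tt N46660 F240120) (tt N84335 (iv4 F368946)) (tt N77300 (iv5 F242337)) (tt N43390 (iv6 D152898)) (tt N84332 (iv7 F368933)))
theorem Q76875 : ∀ i, i < 76875 → P i := stepQ 76874 Q76874 (allL N76874 (tt N77245 (iv1 F242091)) (tt N43391 (iv0 D152899)) (tt N44570 F308313) (tt N54038 F307566) (tt N94472 (iv4 F404613)) (tt N49035 F307567) (tt N43453 F308314) (tt N53473 F307568))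
theorem Q76876 : ∀ i, i < 76876 → P i := stepQ 76875 Q76875 (allL N76875 (tt N53473 F307578) (tt N44570 (iv0 F240124)) (tt N77245 (iv2 F242085)) (tt N46664 F240121) (tt N43394 F240122) (tt N64675 F240123) (tt N77377 F242494) (tt N43391 (iv7 D152901)))
theorem Q76877 : ∀ i, i < 76877 → P i := stepQ 76876 Q76876 (allL N76876 (tt N77229 (iv1 F242041)) (tt N43557 F240144) (tt N44581 F240139) (tt N110031 D213268) (tt N43392 (iv4 D152913)) (tt N71894 (iv5 F345931)) (tt N43458 F240140) (tt N48874 F311653))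
theorem Q76878 : ∀ i, i < 76878 → P i := stepQ 76877 Q76877 (allL N76877 (tt N43516 F243627) (tt N77558 F243630) (tt N100229 (iv2 F428075)) (tt N43393 (iv3 D152914)) (tt N109476 (iv4 F467164)) (tt N73805 (iv5 F346224)) (tt N72348 F346226) (tt N44578 F240141))
theorem Q76879 : ∀ i, i < 76879 → P i := stepQ 76878 Q76878 (allL N76878 (tt N52835 F240158) (tt N100532 F429362) (tt N66878 F350691) (tt N87027 (iv3 F378085)) (tt N84136 (iv4 F368261)) (tt N43395 (iv5 D152923)) (tt N100738 F430239) (tt N44776 F240157))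
theorem Q76880 : ∀ i, i < 76880 → P i := stepQ 76879 Q76879 (allL N76879 (tt N46266 (iv1 F327669)) (tt N43396 (iv0 D152924)) (tt N81345 (iv2 F274405)) (tt N68013 (iv3 F354853)) (tt N96565 (iv4 F413023)) (tt N68005 (iv5 F315317)) (tt N46338 F354803) (tt N81294 F274403))
theorem Q76881 : ∀ i, i < 76881 → P i := stepQ 76880 Q76880 (allL N76880 (tt N100698 F430077) (tt N68546 (iv0 F366646)) (tt N100341 (iv2 F428490)) (tt N46673 F240159) (tt N46272 F327103) (tt N81821 F363850) (tt N43396 (iv6 D152926)) (tt N104254 (iv7 F444959)))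
theorem Q76882 : ∀ i, i < 76882 → P i := stepQ 76881 Q76881 (allL N76881 (tt N63513 (iv1 F240164)) (tt N63510 F240163) (tt N63613 F240160) (tt N46674 F240161) (tt N99036 (iv4 F423103)) (tt N43397 (iv5 D152927)) (tt N81821 (iv6 F363849)) (tt N63614 F240162))
theorem Q76883 : ∀ i, i < 76883 → P i := stepQ 76882 Q76882 (allL N76882 (tt N73623 (iv1 F319633)) (tt N82099 F278551) (tt N62495 (iv2 F322197)) (tt N110032 D213269) (tt N43398 (iv4 D152929)) (tt N59858 F363694) (tt N72329 F363703) (tt N59857 (iv7 F339842)))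
theorem Q76884 : ∀ i, i < 76884 → P i := stepQ 76883 Q76883 (allL N76883 (tt N78233 (iv1 F361904)) (tt N78232 F361913) (tt N43401 F240168) (tt N55220 (iv3 F361901)) (tt N43400 (iv4 D152937)) (tt N108314 (iv5 F462025)) (tt N93889 (iv6 F402294)) (tt N43569 F240169))
theorem Q76885 : ∀ i, i < 76885 → P i := stepQ 76884 Q76884 (allL N76884 (tt N43569 (iv1 F240174)) (tt N43401 (iv0 D152939)) (tt N78233 (iv2 F361905)) (tt N95690 (iv3 F409154)) (tt N48567 F330094) (tt N73768 (iv5 F330096)) (tt N80347 F330095) (tt N78232 F361910))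
theorem Q76886 : ∀ i, i < 76886 → P i := stepQ 76885 Q76885 (allL N76885 (tt N101783 F434330) (tt N107900 (iv0 F460188)) (tt N108314 F462026) (tt N78243 F366542) (tt N101255 F432419) (tt N43401 (iv5 D152940)) (tt N110033 D213270) (tt N78234 (iv7 F366543)))
theorem Q76887 : ∀ i, i < 76887 → P i := stepQ 76886 Q76886 (allL N76886 (tt N71737 (iv1 F356239)) (tt N99576 (iv0 F425246)) (tt N52590 (iv2 F346948)) (tt N57641 F346942) (tt N80197 F346938) (tt N43402 (iv5 D152951)) (tt N52588 (iv6 F350613)) (tt N80199 (iv7 F346940)))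
theorem Q76888 : ∀ i, i < 76888 → P i := stepQ 76887 Q76887 (allL N76887 (tt N43404 (iv1 D152992)) (tt N43583 F240278) (tt N67070 (iv2 F240282)) (tt N110034 D213271) (tt N75520 F240281) (tt N63197 F240280) (tt N110035 D213272) (tt N67076 F240279))
theorem Q76889 : ∀ i, i < 76889 → P i := stepQ 76888 Q76888 (allL N76888 (tt N80347 F312397) (tt N80357 F312398) (tt N80355 F312399) (tt N66575 (iv3 F364419)) (tt N43405 (iv4 D153170)) (tt N93839 (iv5 F402095)) (tt N75352 F242941) (tt N80354 F312400))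
theorem Q76890 : ∀ i, i < 76890 → P i := stepQ 76889 Q76889 (allL N76889 (tt N89233 F385704) (tt N89231 F385705) (tt N89229 F385687) (tt N66577 F366678) (tt N43406 (iv4 D153173)) (tt N108269 F461799) (tt N95518 (iv6 F408447)) (tt N89230 (iv7 F385689)))
theorem Q76891 : ∀ i, i < 76891 → P i := stepQ 76890 Q76890 (allL N76890 (tt N109231 (iv1 F465888)) (tt N43407 (iv0 D153175)) (tt N96444 (iv2 F412542)) (tt N50442 F365329) (tt N110036 D213273) (tt N59514 (iv5 F370338)) (tt N58112 F370339) (tt N53601 (iv7 F365332)))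
theorem Q76892 : ∀ i, i < 76892 → P i := stepQ 76891 Q76891 (allL N76891 (tt N43407 (iv1 D153176)) (tt N109231 F465889) (tt N53601 F412547) (tt N94620 F412548) (tt N110037 D213274) (tt N96445 (iv5 F412553)) (tt N110038 D213275) (tt N96444 F412549))
theorem Q76893 : ∀ i, i < 76893 → P i := stepQ 76892 Q76892 (allL N76892 (tt N96444 (iv1 F412550)) (tt N53601 (iv0 F359354)) (tt N43407 (iv2 D153177)) (tt N43894 F240476) (tt N100284 (iv4 F428255)) (tt N110039 D213276) (tt N94627 F405297) (tt N109231 (iv7 F465887)))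
theorem Q76894 : ∀ i, i < 76894 → P i := stepQ 76893 Q76893 (allL N76893 (tt N85937 F374513) (tt N110040 D213277) (tt N110039 (iv2 F469669)) (tt N43408 F240477) (tt N96702 (iv4 F413530)) (tt N43407 (iv5 D153178)) (tt N96478 (iv6 F412686)) (tt N95698 F409191))
theorem Q76895 : ∀ i, i < 76895 → P i := stepQ 76894 Q76894 (allL N76894 (tt N110041 D213278) (tt N96464 (iv0 F412638)) (tt N43898 F240478) (tt N96478 F412687) (tt N77127 (iv4 F241641)) (tt N101261 (iv5 F467953)) (tt N43408 (iv6 D153179)) (tt N110042 D213279))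
theorem Q76896 : ∀ i, i < 76896 → P i := stepQ 76895 Q76895 (allL N76895 (tt N48714 (iv1 F308104)) (tt N77176 (iv0 F241823)) (tt N43466 F240479) (tt N62934 (iv3 F328824)) (tt N90207 (iv4 F388897)) (tt N43409 (iv5 D153180)) (tt N62933 (iv6 F314961)) (tt N77437 (iv7 F242667)))
theorem Q76897 : ∀ i, i < 76897 → P i := stepQ 76896 Q76896 (allL N76896 (tt N43458 (iv1 F240483)) (tt N43456 F240484) (tt N43467 F240480) (tt N71022 (iv3 F319000)) (tt N66830 F240481) (tt N77437 (iv5 F242668)) (tt N43470 F240482) (tt N43409 (iv7 D153181)))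
theorem Q76898 : ∀ i, i < 76898 → P i := stepQ 76897 Q76897 (allL N76897 (tt N76529 (iv1 F355879)) (tt N76116 (iv0 F355875)) (tt N77023 (iv2 F241413)) (tt N59996 (iv3 F355874)) (tt N64418 F240568) (tt N59995 F355873) (tt N43414 (iv6 D153207)) (tt N103606 (iv7 F442214)))
theorem Q76899 : ∀ i, i < 76899 → P i := stepQ 76898 Q76898 (allL N76898 (tt N100643 F429814) (tt N47046 F361332) (tt N77022 (iv2 F241411)) (tt N78637 (iv3 F348442)) (tt N64419 F240569) (tt N109237 (iv5 F465924)) (tt N43415 (iv6 D153208)) (tt N100622 (iv7 F429745)))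
theorem Q76900 : ∀ i, i < 76900 → P i := stepQ 76899 Q76899 (allL N76899 (tt N66993 (iv1 F240581)) (tt N43418 (iv0 D153214)) (tt N66991 F356986) (tt N78552 (iv3 F343393)) (tt N64705 F343392) (tt N104805 (iv5 F447373)) (tt N110043 D213280) (tt N66992 (iv7 F356985)))
theorem Q76901 : ∀ i, i < 76901 → P i := stepQ 76900 Q76900 (allL N76900 (tt N43418 (iv1 D153215)) (tt N66993 F240576) (tt N66992 (iv2 F356982)) (tt N68514 F343517) (tt N64706 (iv4 F343518)) (tt N68510 (iv5 F343515)) (tt N81523 (iv6 F359775)) (tt N66991 (iv7 F356979)))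
theorem Q76902 : ∀ i, i < 76902 → P i := stepQ 76901 Q76901 (allL N76901 (tt N66992 (iv1 F240582)) (tt N66991 F240583) (tt N66993 F240579) (tt N80710 F348696) (tt N76959 (iv4 F240944)) (tt N80709 (iv5 F348693)) (tt N66995 F240580) (tt N43418 (iv7 D153217)))
theorem Q76903 : ∀ i, i < 76903 → P i := stepQ 76902 Q76902 (allL N76902 (tt N44534 (iv1 F240660)) (tt N43425 (iv0 D153231)) (tt N44535 (iv2 F241217)) (tt N80490 F334472) (tt N62589 (iv4 F323832)) (tt N52607 (iv5 F334467)) (tt N80439 (iv6 F334471)) (tt N44536 F241221))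
theorem Q76904 : ∀ i, i < 76904 → P i := stepQ 76903 Q76903 (allL N76903 (tt N43425 (iv1 D153232)) (tt N44534 F240645) (tt N44536 F241220) (tt N43493 (iv3 F240647)) (tt N68562 (iv4 F240646)) (tt N75491 F240648) (tt N68562 (iv6 F242900)) (tt N44535 (iv7 F241219)))
theorem Q76905 : ∀ i, i < 76905 → P i := stepQ 76904 Q76904 (allL N76904 (tt N44536 (iv1 F240661)) (tt N44535 F240662) (tt N44534 F240655) (tt N69417 F240656) (tt N68595 F240657) (tt N46573 F315431) (tt N43461 F240659) (tt N43425 (iv7 D153233)))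
theorem Q76906 : ∀ i, i < 76906 → P i := stepQ 76905 Q76905 (allL N76905 (tt N47372 (iv1 F240690)) (tt N43428 (iv0 D153241)) (tt N52793 (iv2 F240689)) (tt N82525 (iv3 F281484)) (tt N52790 F240687) (tt N75165 F240688) (tt N80758 (iv6 F343378)) (tt N66932 F240691))
theorem Q76907 : ∀ i, i < 76907 → P i := stepQ 76906 Q76906 (allL N76906 (tt N64050 F240696) (tt N64051 F240695) (tt N64049 F240692) (tt N43429 F240693) (tt N77375 (iv4 F345673)) (tt N43428 (iv5 D153242)) (tt N75444 F354067) (tt N64048 F240694))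
theorem Q76908 : ∀ i, i < 76908 → P i := stepQ 76907 Q76907 (allL N76907 (tt N103889 (iv1 F443223)) (tt N46969 F317255) (tt N47305 F348695) (tt N43430 F240697) (tt N47165 F305078) (tt N75445 (iv5 F354063)) (tt N43428 (iv6 D153243)) (tt N67043 (iv7 F240699)))
theorem Q76909 : ∀ i, i < 76909 → P i := stepQ 76908 Q76908 (allL N76908 (tt N64716 F354074) (tt N64720 (iv0 F355764)) (tt N66844 F240700) (tt N75444 (iv3 F354068)) (tt N43484 F240701) (tt N75442 F354072) (tt N43429 (iv6 D153244)) (tt N83303 F354073))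
theorem Q76910 : ∀ i, i < 76910 → P i := stepQ 76909 Q76909 (allL N76909 (tt N110044 D213281) (tt N82150 (iv0 F355436)) (tt N66934 F240702) (tt N75445 F354066) (tt N103135 (iv4 F440235)) (tt N43430 (iv5 D153245)) (tt N75442 (iv6 F354078)) (tt N67044 F240703))
theorem Q76911 : ∀ i, i < 76911 → P i := stepQ 76910 Q76910 (allL N76910 (tt N68501 (iv1 F349803)) (tt N89737 (iv0 F387368)) (tt N81261 (iv2 F273968)) (tt N43435 F240744) (tt N46091 F240745) (tt N104789 (iv5 F447282)) (tt N43434 (iv6 D153251)) (tt N100145 (iv7 F427683)))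
theorem Q76912 : ∀ i, i < 76912 → P i := stepQ 76911 Q76911 (allL N76911 (tt N43538 (iv1 F240752)) (tt N75457 F240753) (tt N63999 F240747) (tt N75474 F240748) (tt N75771 F240749) (tt N74844 F240750) (tt N43436 (iv6 D153253)) (tt N75454 F240751))
theorem Q76913 : ∀ i, i < 76913 → P i := stepQ 76912 Q76912 (allL N76912 (tt N44901 (iv1 F312413)) (tt N43448 (iv0 D153274)) (tt N46569 F310529) (tt N89102 (iv3 F385155)) (tt N58852 (iv4 F332189)) (tt N76913 (iv5 F333690)) (tt N110045 D213282) (tt N46570 F310531))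
theorem Q76914 : ∀ i, i < 76914 → P i := stepQ 76913 Q76913 (allL N76913 (tt N43448 (iv1 D153275)) (tt N44901 (iv0 F312412)) (tt N46570 F310532) (tt N76135 F310533) (tt N58758 (iv4 F332192)) (tt N76912 F333690) (tt N78312 (iv6 F339015)) (tt N46569 F310535))
theorem Q76915 : ∀ i, i < 76915 → P i := stepQ 76914 Q76914 (allL N76914 (tt N79140 (iv1 F253126)) (tt N43450 (iv0 D153278)) (tt N70549 F351815) (tt N54005 F351816) (tt N70523 F351817) (tt N71162 F351818) (tt N46744 F351819) (tt N70546 F351820))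
theorem Q76916 : ∀ i, i < 76916 → P i := stepQ 76915 Q76915 (allL N76915 (tt N43450 (iv1 D153279)) (tt N79140 F253125) (tt N70546 (iv2 F351821)) (tt N80619 F268870) (tt N70522 F351822) (tt N71758 (iv5 F351824)) (tt N100898 (iv6 F430883)) (tt N70549 (iv7 F351823)))
theorem Q76917 : ∀ i, i < 76917 → P i := stepQ 76916 Q76916 (allL N76916 (tt N80544 (iv1 F351827)) (tt N110046 D213283) (tt N79139 (iv2 F253118)) (tt N43454 F240822) (tt N110047 D213284) (tt N43450 (iv5 D153280)) (tt N99863 (iv6 F426595)) (tt N54161 F366846))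
theorem Q76918 : ∀ i, i < 76918 → P i := stepQ 76917 Q76917 (allL N76917 (tt N70546 (iv1 F330218)) (tt N70549 (iv0 F331997)) (tt N79140 (iv2 F253120)) (tt N43455 F240823) (tt N100305 (iv4 F428348)) (tt N54161 (iv5 F366847)) (tt N70524 (iv6 F366612)) (tt N43450 (iv7 D153281)))
theorem Q76919 : ∀ i, i < 76919 → P i := stepQ 76918 Q76918 (allL N76918 (tt N43451 (iv1 D153283)) (tt N44565 F240824) (tt N44563 F350783) (tt N84142 F368305) (tt N75347 F350782) (tt N89238 (iv5 F385725)) (tt N105174 (iv6 F449109)) (tt N44562 F350784))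
theorem Q76920 : ∀ i, i < 76920 → P i := stepQ 76919 Q76919 (allL N76919 (tt N110048 D213285) (tt N101242 (iv0 F432372)) (tt N44564 F240825) (tt N99863 (iv3 F426594)) (tt N108985 (iv4 F464773)) (tt N43451 (iv5 D153284)) (tt N43454 F240826) (tt N110049 D213286))
theorem Q76921 : ∀ i, i < 76921 → P i := stepQ 76920 Q76920 (allL N76920 (tt N44563 (iv1 F240830)) (tt N44562 F240831) (tt N44565 F240827) (tt N99820 F426382) (tt N75769 F240828) (tt N110049 (iv5 F469729)) (tt N77294 (iv6 F242328)) (tt N43451 (iv7 D153285)))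
theorem Q76922 : ∀ i, i < 76922 → P i := stepQ 76921 Q76921 (allL N76921 (tt N91706 (iv1 F394114)) (tt N77438 (iv0 F242671)) (tt N44572 F240844) (tt N110050 D213287) (tt N43454 (iv4 D153292)) (tt N73479 (iv5 F338944)) (tt N108985 (iv6 F464772)) (tt N54162 F360573))
theorem Q76923 : ∀ i, i < 76923 → P i := stepQ 76922 Q76922 (allL N76922 (tt N71020 F351801) (tt N71895 (iv0 F338927)) (tt N44576 F240849) (tt N89671 (iv3 F387177)) (tt N73480 F338939) (tt N43456 (iv5 D153294)) (tt N70860 F338904) (tt N44580 F240850))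
theorem Q76924 : ∀ i, i < 76924 → P i := stepQ 76923 Q76923 (allL N76923 (tt N43474 F345839) (tt N105719 F451407) (tt N100942 (iv2 F431046)) (tt N43458 (iv3 D153296)) (tt N76116 F240857) (tt N71888 (iv5 F355887)) (tt N110031 (iv6 F469643)) (tt N44575 F240858))
theorem Q76925 : ∀ i, i < 76925 → P i := stepQ 76924 Q76924 (allL N76924 (tt N52878 F302980) (tt N43558 F310594) (tt N52880 F302982) (tt N89396 (iv3 F386361)) (tt N80448 (iv4 F267772)) (tt N110051 D213288) (tt N43462 (iv6 D153299)) (tt N48920 F302983))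
theorem Q76926 : ∀ i, i < 76926 → P i := stepQ 76925 Q76925 (allL N76925 (tt N62920 (iv1 F349460)) (tt N62919 F349462) (tt N62893 F349458) (tt N43465 F240865) (tt N92579 (iv4 F397463)) (tt N110052 D213289) (tt N43463 (iv6 D153301)) (tt N62921 (iv7 F349457)))
theorem Q76927 : ∀ i, i < 76927 → P i := stepQ 76926 Q76926 (allL N76926 (tt N43464 (iv1 D153303)) (tt N69574 F312487) (tt N71936 F362496) (tt N80296 (iv3 F333411)) (tt N68526 F312488) (tt N70977 (iv5 F362510)) (tt N89720 (iv6 F387297)) (tt N68523 F312489))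
theorem Q76928 : ∀ i, i < 76928 → P i := stepQ 76927 Q76927 (allL N76927 (tt N88618 (iv1 F383607)) (tt N88625 F383633) (tt N88623 (iv2 F383629)) (tt N43466 F240866) (tt N110053 D213290) (tt N43464 (iv5 D153304)) (tt N110052 (iv6 F469745)) (tt N88622 F383626))
theorem Q76929 : ∀ i, i < 76929 → P i := stepQ 76928 Q76928 (allL N76928 (tt N62889 (iv1 F314963)) (tt N43465 (iv0 D153306)) (tt N62931 (iv2 F355526)) (tt N63024 F355532) (tt N73956 (iv4 F350775)) (tt N55379 (iv5 F355540)) (tt N110054 D213291) (tt N62932 (iv7 F355529)))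
theorem Q76930 : ∀ i, i < 76930 → P i := stepQ 76929 Q76929 (allL N76929 (tt N43465 (iv1 D153307)) (tt N62889 (iv0 F314962)) (tt N62932 (iv2 F355534)) (tt N61146 F355542) (tt N75340 F355535) (tt N55378 (iv5 F350768)) (tt N110055 D213292) (tt N62931 F355538))
theorem Q76931 : ∀ i, i < 76931 → P i := stepQ 76930 Q76930 (allL N76930 (tt N99845 (iv1 F426496)) (tt N99843 (iv0 F426487)) (tt N62933 (iv2 F314960)) (tt N110052 (iv3 F469744)) (tt N90277 (iv4 F389194)) (tt N43465 (iv5 D153308)) (tt N43466 F240869) (tt N109296 (iv7 F466247)))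
theorem Q76932 : ∀ i, i < 76932 → P i := stepQ 76931 Q76931 (allL N76931 (tt N77176 (iv1 F241824)) (tt N48714 F310132) (tt N77437 F242669) (tt N88622 F383625) (tt N90206 (iv4 F388890)) (tt N43467 F240870) (tt N110056 D213293) (tt N43466 (iv7 D153312)))
theorem Q76933 : ∀ i, i < 76933 → P i := stepQ 76932 Q76932 (allL N76932 (tt N109295 (iv1 F466239)) (tt N107647 (iv0 F459060)) (tt N77220 (iv2 F241995)) (tt N70407 F337790) (tt N109059 (iv4 F465148)) (tt N43468 (iv5 D153315)) (tt N43469 F240871) (tt N109293 (iv7 F466233)))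
theorem Q76934 : ∀ i, i < 76934 → P i := stepQ 76933 Q76933 (allL N76933 (tt N100644 (iv1 F429819)) (tt N43469 (iv0 D153317)) (tt N48717 F308818) (tt N110057 D213294) (tt N98433 (iv4 F420909)) (tt N48554 F308819) (tt N98432 (iv6 F420906)) (tt N48716 F308820))
theorem Q76935 : ∀ i, i < 76935 → P i := stepQ 76934 Q76934 (allL N76934 (tt N43469 (iv1 D153318)) (tt N100644 (iv0 F429818)) (tt N48716 F308825) (tt N81867 F308826) (tt N100599 (iv4 F429637)) (tt N48553 F308827) (tt N108446 (iv6 F462611)) (tt N48717 F308828))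
theorem Q76936 : ∀ i, i < 76936 → P i := stepQ 76935 Q76935 (allL N76935 (tt N88454 (iv1 F383116)) (tt N88452 (iv0 F383103)) (tt N107922 F460303) (tt N61227 (iv3 F366743)) (tt N43469 (iv4 D153319)) (tt N87477 (iv5 F379467)) (tt N109059 (iv6 F465150)) (tt N103053 (iv7 F439861)))
theorem Q76937 : ∀ i, i < 76937 → P i := stepQ 76936 Q76936 (allL N76936 (tt N48716 F308830) (tt N48717 F308831) (tt N100644 (iv2 F429815)) (tt N65359 F308832) (tt N103053 (iv4 F439860)) (tt N43470 F240876) (tt N87643 F379977) (tt N43469 (iv7 D153320)))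
theorem Q76938 : ∀ i, i < 76938 → P i := stepQ 76937 Q76937 (allL N76937 (tt N82825 F354013) (tt N82824 F354031) (tt N43482 F240878) (tt N43547 F240879) (tt N77024 (iv4 F241416)) (tt N110058 D213295) (tt N43471 (iv6 D153321)) (tt N53068 F354014))
theorem Q76939 : ∀ i, i < 76939 → P i := stepQ 76938 Q76938 (allL N76938 (tt N44575 F347432) (tt N100942 F431050) (tt N43474 F240880) (tt N80697 (iv3 F270557)) (tt N69331 (iv4 F347439)) (tt N81819 (iv5 F342120)) (tt N43472 (iv6 D153322)) (tt N105719 (iv7 F451406)))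
theorem Q76940 : ∀ i, i < 76940 → P i := stepQ 76939 Q76939 (allL N76939 (tt N63223 (iv1 F305811)) (tt N63222 (iv0 F305805)) (tt N63216 F240882) (tt N43473 (iv3 D153323)) (tt N63207 (iv4 F304113)) (tt N75292 (iv5 F343328)) (tt N104253 (iv6 F444954)) (tt N63206 (iv7 F305797)))
theorem Q76941 : ∀ i, i < 76941 → P i := stepQ 76940 Q76940 (allL N76940 (tt N45447 F345840) (tt N69332 (iv0 F334765)) (tt N69331 (iv2 F347437)) (tt N104253 (iv3 F444952)) (tt N43474 F240889) (tt N47283 F300660) (tt N43473 (iv6 D153324)) (tt N69330 (iv7 F347435)))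
theorem Q76942 : ∀ i, i < 76942 → P i := stepQ 76941 Q76941 (allL N76941 (tt N105719 (iv1 F451408)) (tt N43474 (iv0 D153325)) (tt N44575 F345836) (tt N88991 (iv3 F384696)) (tt N76529 F345837) (tt N110059 D213296) (tt N76528 F345838) (tt N100942 (iv7 F431048)))
theorem Q76943 : ∀ i, i < 76943 → P i := stepQ 76942 Q76942 (allL N76942 (tt N100942 F431049) (tt N44575 F351925) (tt N105719 (iv2 F451403)) (tt N57467 (iv3 F309877)) (tt N69330 (iv4 F351923)) (tt N81825 F348211) (tt N57465 F351924) (tt N43474 (iv7 D153328)))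
theorem Q76944 : ∀ i, i < 76944 → P i := stepQ 76943 Q76943 (allL N76943 (tt N76310 F240897) (tt N76309 F240898) (tt N63276 F240893) (tt N43476 F240894) (tt N61092 F240895) (tt N43475 (iv5 D153329)) (tt N99757 (iv6 F426087)) (tt N61127 F240896))
theorem Q76945 : ∀ i, i < 76945 → P i := stepQ 76944 Q76944 (allL N76944 (tt N107652 (iv1 F459090)) (tt N99446 (iv0 F424620)) (tt N55775 F240902) (tt N99757 (iv3 F426086)) (tt N55773 F240903) (tt N72425 F355662) (tt N43476 (iv6 D153331)) (tt N105042 (iv7 F448526)))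
theorem Q76946 : ∀ i, i < 76946 → P i := stepQ 76945 Q76945 (allL N76945 (tt N43477 (iv1 D153333)) (tt N57465 F361336) (tt N76334 F361341) (tt N88995 (iv3 F384718)) (tt N47046 F361337) (tt N106376 (iv5 F454208)) (tt N47051 F361338) (tt N76333 (iv7 F361339)))
theorem Q76947 : ∀ i, i < 76947 → P i := stepQ 76946 Q76946 (allL N76946 (tt N110057 (iv1 F469776)) (tt N88853 (iv0 F384353)) (tt N76335 (iv2 F354515)) (tt N76502 F354527) (tt N71127 F346453) (tt N43477 (iv5 D153334)) (tt N72425 (iv6 F356088)) (tt N105718 (iv7 F451401)))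
theorem Q76948 : ∀ i, i < 76948 → P i := stepQ 76947 Q76947 (allL N76947 (tt N98543 (iv1 F421263)) (tt N78851 (iv0 F357337)) (tt N43480 F240904) (tt N49487 (iv3 F304490)) (tt N84249 (iv4 F368684)) (tt N49486 F357338) (tt N43478 (iv6 D153336)) (tt N98542 (iv7 F421256)))
theorem Q76949 : ∀ i, i < 76949 → P i := stepQ 76948 Q76948 (allL N76948 (tt N52857 (iv1 F304319)) (tt N77337 (iv0 F242418)) (tt N64168 F240911) (tt N43479 (iv3 D153341)) (tt N60997 F240912) (tt N43651 F240913) (tt N50785 F240914) (tt N61036 F240915))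
theorem Q76950 : ∀ i, i < 76950 → P i := stepQ 76949 Q76949 (allL N76949 (tt N43480 (iv1 D153342)) (tt N98542 F421255) (tt N78851 F355680) (tt N52865 F355681) (tt N61045 (iv4 F355679)) (tt N87822 (iv5 F380672)) (tt N108358 F462238) (tt N98543 (iv7 F421262)))
theorem Q76951 : ∀ i, i < 76951 → P i := stepQ 76950 Q76950 (allL N76950 (tt N78851 F348701) (tt N98543 F421264) (tt N98542 F421254) (tt N43486 F240918) (tt N84248 (iv4 F368676)) (tt N49864 (iv5 F357339)) (tt N90537 (iv6 F389997)) (tt N43480 (iv7 D153344)))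
theorem Q76952 : ∀ i, i < 76952 → P i := stepQ 76951 Q76951 (allL N76951 (tt N56326 F240922) (tt N92666 (iv0 F397810)) (tt N61048 F240919) (tt N43487 F240920) (tt N61264 F240921) (tt N84167 F368859) (tt N43481 (iv6 D153345)) (tt N90537 (iv7 F389998)))
theorem Q76953 : ∀ i, i < 76953 → P i := stepQ 76952 Q76952 (allL N76952 (tt N100963 F443306) (tt N110060 D213297) (tt N110058 (iv2 F469777)) (tt N43490 F240930) (tt N84168 F368858) (tt N43482 (iv5 D153362)) (tt N84167 (iv6 F368856)) (tt N82826 (iv7 F366823)))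
theorem Q76954 : ∀ i, i < 76954 → P i := stepQ 76953 Q76953 (allL N76953 (tt N63397 F240934) (tt N63921 F240935) (tt N55177 F240931) (tt N77375 (iv3 F345672)) (tt N43483 (iv4 D153363)) (tt N63917 F240933) (tt N77373 (iv6 F354079)) (tt N64747 F240932))
theorem Q76955 : ∀ i, i < 76955 → P i := stepQ 76954 Q76954 (allL N76954 (tt N63751 F354081) (tt N63752 (iv0 F354080)) (tt N77647 (iv2 F357700)) (tt N43484 F240936) (tt N77373 F354071) (tt N94126 (iv5 F403335)) (tt N43483 (iv6 D153364)) (tt N77648 (iv7 F357704)))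
theorem Q76956 : ∀ i, i < 76956 → P i := stepQ 76955 Q76955 (allL N76955 (tt N48887 F366803) (tt N91429 F393094) (tt N91428 (iv2 F393090)) (tt N94126 (iv3 F403333)) (tt N85659 F373430) (tt N43484 (iv5 D153367)) (tt N43647 F240937) (tt N91427 F393078))
theorem Q76957 : ∀ i, i < 76957 → P i := stepQ 76956 Q76956 (allL N76956 (tt N101232 (iv1 F432329)) (tt N99844 (iv0 F426494)) (tt N100437 (iv2 F428971)) (tt N77648 (iv3 F357702)) (tt N83303 (iv4 F354075)) (tt N91427 (iv5 F393076)) (tt N91171 F392158) (tt N43484 (iv7 D153368)))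
theorem Q76958 : ∀ i, i < 76958 → P i := stepQ 76957 Q76957 (allL N76957 (tt N43485 (iv1 D153370)) (tt N91171 F392156) (tt N84726 F370371) (tt N90866 (iv3 F391085)) (tt N43771 F342780) (tt N88415 (iv5 F382946)) (tt N87825 (iv6 F380692)) (tt N91172 (iv7 F392161)))
theorem Q76959 : ∀ i, i < 76959 → P i := stepQ 76958 Q76958 (allL N76958 (tt N83342 F338037) (tt N110061 D213298) (tt N101739 (iv2 F434115)) (tt N100365 (iv3 F428617)) (tt N83489 (iv4 F353762)) (tt N43485 (iv5 D153371)) (tt N43648 F240938) (tt N100436 (iv7 F428968)))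
theorem Q76960 : ∀ i, i < 76960 → P i := stepQ 76959 Q76959 (allL N76959 (tt N43552 (iv1 F240946)) (tt N43551 F240947) (tt N43554 F240943) (tt N90537 (iv3 F389996)) (tt N76901 F240944) (tt N82709 (iv5 F366699)) (tt N43486 (iv6 D153387)) (tt N43487 F240945))
theorem Q76961 : ∀ i, i < 76961 → P i := stepQ 76960 Q76960 (allL N76960 (tt N43554 (iv1 F240948)) (tt N43487 (iv0 D153388)) (tt N43551 F348688) (tt N109453 (iv3 F467032)) (tt N66845 (iv4 F348690)) (tt N110062 D213299) (tt N110063 D213300) (tt N43552 F348689))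
theorem Q76962 : ∀ i, i < 76962 → P i := stepQ 76961 Q76961 (allL N76961 (tt N43487 (iv1 D153389)) (tt N43554 F240949) (tt N43552 F348686) (tt N100573 F429525) (tt N66846 F342728) (tt N110064 D213301) (tt N105282 (iv6 F449542)) (tt N43551 F348687))
theorem Q76963 : ∀ i, i < 76963 → P i := stepQ 76962 Q76962 (allL N76962 (tt N110065 D213302) (tt N110066 D213303) (tt N43553 F240950) (tt N84167 F368857) (tt N110067 D213304) (tt N43487 (iv5 D153390)) (tt N43490 F240951) (tt N82709 (iv7 F366700)))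
theorem Q76964 : ∀ i, i < 76964 → P i := stepQ 76963 Q76963 (allL N76963 (tt N48920 F306624) (tt N52880 F306625) (tt N52878 (iv2 F344402)) (tt N43488 (iv3 D153418)) (tt N75619 (iv4 F319997)) (tt N110068 D213305) (tt N89718 F387290) (tt N43558 F240975))
theorem Q76965 : ∀ i, i < 76965 → P i := stepQ 76964 Q76964 (allL N76964 (tt N65255 F240978) (tt N110069 D213306) (tt N43556 F240976) (tt N110068 (iv3 F469823)) (tt N110070 D213307) (tt N43488 (iv5 D153419)) (tt N110071 D213308) (tt N43559 F240977))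
theorem Q76966 : ∀ i, i < 76966 → P i := stepQ 76965 Q76965 (allL N76965 (tt N44581 (iv1 F242044)) (tt N48874 F311651) (tt N43557 F240979) (tt N89718 F387289) (tt N57696 (iv4 F310505)) (tt N65205 F240981) (tt N43488 (iv6 D153420)) (tt N77229 (iv7 F242039)))
theorem Q76967 : ∀ i, i < 76967 → P i := stepQ 76966 Q76966 (allL N76966 (tt N110069 (iv1 F469827)) (tt N65255 (iv0 F240988)) (tt N43559 F240986) (tt N82267 F338047) (tt N48616 F338042) (tt N43489 (iv5 D153421)) (tt N48615 F338043) (tt N43556 F240987))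
theorem Q76968 : ∀ i, i < 76968 → P i := stepQ 76967 Q76967 (allL N76967 (tt N43564 (iv1 F240989)) (tt N43490 (iv0 D153422)) (tt N43561 (iv2 F240996)) (tt N110072 D213309) (tt N82656 F306626) (tt N82559 F306627) (tt N110073 D213310) (tt N43562 (iv7 F240997)))
theorem Q76969 : ∀ i, i < 76969 → P i := stepQ 76968 Q76968 (allL N76968 (tt N43490 (iv1 D153423)) (tt N43564 F240990) (tt N43562 F240992) (tt N100035 F427315) (tt N82655 (iv4 F365221)) (tt N43706 (iv5 F240991)) (tt N81074 F358781) (tt N43561 F240993))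
theorem Q76970 : ∀ i, i < 76970 → P i := stepQ 76969 Q76969 (allL N76969 (tt N90259 (iv1 F389135)) (tt N110074 D213311) (tt N43563 F240998) (tt N110075 D213312) (tt N43490 (iv4 D153424)) (tt N85648 (iv5 F373364)) (tt N110067 (iv6 F469818)) (tt N82836 (iv7 F345159)))
theorem Q76971 : ∀ i, i < 76971 → P i := stepQ 76970 Q76970 (allL N76970 (tt N43574 (iv1 F241036)) (tt N43492 (iv0 D153455)) (tt N43570 F241039) (tt N110076 D213313) (tt N63802 F241035) (tt N107821 (iv5 F459849)) (tt N99627 F425482) (tt N43571 (iv7 F241038)))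
theorem Q76972 : ∀ i, i < 76972 → P i := stepQ 76971 Q76971 (allL N76971 (tt N43492 (iv1 D153456)) (tt N43574 F241040) (tt N43571 (iv2 F241042)) (tt N103349 (iv3 F441219)) (tt N66873 (iv4 F241566)) (tt N107822 (iv5 F459856)) (tt N78249 (iv6 F314353)) (tt N43570 F241041))
theorem Q76973 : ∀ i, i < 76973 → P i := stepQ 76972 Q76972 (allL N76972 (tt N110077 D213314) (tt N110078 D213315) (tt N91702 (iv2 F394092)) (tt N43492 (iv3 D153457)) (tt N77036 (iv4 F241493)) (tt N50393 (iv5 F241045)) (tt N43497 F241044) (tt N110024 (iv7 F469603)))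
theorem Q76974 : ∀ i, i < 76974 → P i := stepQ 76973 Q76973 (allL N76973 (tt N85653 F373405) (tt N110079 D213316) (tt N43573 F241046) (tt N50393 F241047) (tt N85649 (iv4 F373374)) (tt N43492 (iv5 D153458)) (tt N50389 F241048) (tt N110025 (iv7 F469611)))
theorem Q76975 : ∀ i, i < 76975 → P i := stepQ 76974 Q76974 (allL N76974 (tt N55263 (iv1 F349905)) (tt N55261 F349907) (tt N55260 F346522) (tt N43495 (iv3 D153512)) (tt N44062 F241258) (tt N110080 D213317) (tt N79427 F360588) (tt N43588 F241259))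
theorem Q76976 : ∀ i, i < 76976 → P i := stepQ 76975 Q76975 (allL N76975 (tt N76216 F241263) (tt N76213 F241264) (tt N43586 F241260) (tt N110080 (iv3 F469883)) (tt N66896 F241262) (tt N43495 (iv5 D153513)) (tt N72292 F345112) (tt N43589 F241261))
theorem Q76977 : ∀ i, i < 76977 → P i := stepQ 76976 Q76976 (allL N76976 (tt N76213 F241273) (tt N76216 F241274) (tt N43589 F241270) (tt N96149 (iv3 F411253)) (tt N66893 F241271) (tt N43496 (iv5 D153516)) (tt N96140 (iv6 F411213)) (tt N43586 F241272))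
theorem Q76978 : ∀ i, i < 76978 → P i := stepQ 76977 Q76977 (allL N76977 (tt N102316 (iv1 F436703)) (tt N43497 (iv0 D153518)) (tt N55256 (iv2 F335347)) (tt N53239 (iv3 F359362)) (tt N53249 F359361) (tt N92857 (iv5 F398535)) (tt N107710 (iv6 F459332)) (tt N108839 (iv7 F464206)))
theorem Q76979 : ∀ i, i < 76979 → P i := stepQ 76978 Q76978 (allL N76978 (tt N43497 (iv1 D153519)) (tt N102316 (iv0 F436702)) (tt N108839 (iv2 F464203)) (tt N52130 (iv3 F335345)) (tt N72925 (iv4 F363559)) (tt N85652 (iv5 F373395)) (tt N72924 F363558) (tt N55256 F335346))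
theorem Q76980 : ∀ i, i < 76980 → P i := stepQ 76979 Q76979 (allL N76979 (tt N55256 (iv1 F373214)) (tt N108839 (iv0 F464207)) (tt N43497 (iv2 D153520)) (tt N43591 F241277) (tt N77041 (iv4 F241515)) (tt N50109 F241278) (tt N91702 (iv6 F394094)) (tt N102316 (iv7 F436700)))
theorem Q76981 : ∀ i, i < 76981 → P i := stepQ 76980 Q76980 (allL N76980 (tt N73792 (iv1 F357854)) (tt N65248 F241290) (tt N43517 F241288) (tt N73870 (iv3 F348313)) (tt N82323 (iv4 F280254)) (tt N43501 (iv5 D153523)) (tt N73807 F340779) (tt N43515 F241289))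
theorem Q76982 : ∀ i, i < 76982 → P i := stepQ 76981 Q76981 (allL N76981 (tt N43502 (iv1 D153525)) (tt N43522 F241291) (tt N43520 F241293) (tt N48077 F241294) (tt N100039 (iv4 F427332)) (tt N43689 (iv5 F241292)) (tt N48074 (iv6 F241295)) (tt N43519 (iv7 F241296)))
theorem Q76983 : ∀ i, i < 76983 → P i := stepQ 76982 Q76982 (allL N76982 (tt N63149 (iv1 F241380)) (tt N63152 F241301) (tt N43521 F241299) (tt N110081 D213318) (tt N43502 (iv4 D153526)) (tt N110082 D213319) (tt N43504 F241300) (tt N110083 D213320))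
theorem Q76984 : ∀ i, i < 76984 → P i := stepQ 76983 Q76983 (allL N76983 (tt N43520 (iv1 F241305)) (tt N43519 F241306) (tt N43522 F241302) (tt N43871 F241303) (tt N110083 (iv4 F469906)) (tt N43503 F241304) (tt N100396 F428787) (tt N43502 (iv7 D153527)))
theorem Q76985 : ∀ i, i < 76985 → P i := stepQ 76984 Q76984 (allL N76984 (tt N74357 F366315) (tt N110084 D213321) (tt N110085 D213322) (tt N43504 (iv3 D153528)) (tt N43867 F241311) (tt N110086 D213323) (tt N110081 (iv6 F469889)) (tt N108813 (iv7 F464078)))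
theorem Q76986 : ∀ i, i < 76986 → P i := stepQ 76985 Q76985 (allL N76985 (tt N63112 F241315) (tt N63161 F241316) (tt N43526 F241312) (tt N110086 (iv3 F469925)) (tt N76055 F241314) (tt N43504 (iv5 D153529)) (tt N110087 D213324) (tt N76055 F241313))
theorem Q76987 : ∀ i, i < 76987 → P i := stepQ 76986 Q76986 (allL N76986 (tt N76064 F339026) (tt N90175 (iv0 F388785)) (tt N85996 (iv2 F374814)) (tt N80595 (iv3 F268712)) (tt N79120 (iv4 F252707)) (tt N92597 (iv5 F397557)) (tt N43505 (iv6 D153530)) (tt N104136 (iv7 F444369)))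
theorem Q76988 : ∀ i, i < 76988 → P i := stepQ 76987 Q76987 (allL N76987 (tt N89660 (iv1 F387131)) (tt N89659 F387128) (tt N43508 F241317) (tt N48975 F241318) (tt N43547 F241319) (tt N110088 D213325) (tt N43506 (iv6 D153531)) (tt N53073 (iv7 F366857)))
theorem Q76989 : ∀ i, i < 76989 → P i := stepQ 76988 Q76988 (allL N76988 (tt N78995 (iv1 F355771)) (tt N78998 (iv0 F355770)) (tt N53049 F241320) (tt N43509 F241321) (tt N49479 F241322) (tt N110089 D213326) (tt N43507 (iv6 D153532)) (tt N85812 (iv7 F374064)))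
theorem Q76990 : ∀ i, i < 76990 → P i := stepQ 76989 Q76989 (allL N76989 (tt N53073 F366856) (tt N43508 (iv0 D153533)) (tt N89660 (iv2 F387135)) (tt N80435 (iv3 F366854)) (tt N76990 F366852) (tt N82617 F363274) (tt N110090 D213327) (tt N89659 F387130))
theorem Q76991 : ∀ i, i < 76991 → P i := stepQ 76990 Q76990 (allL N76990 (tt N43508 (iv1 D153534)) (tt N53073 (iv0 F366855)) (tt N89659 F387129) (tt N80502 F366853) (tt N76989 (iv4 F366852)) (tt N110091 D213328) (tt N104145 (iv6 F444405)) (tt N89660 (iv7 F387132)))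
theorem Q76992 : ∀ i, i < 76992 → P i := stepQ 76991 Q76991 (allL N76991 (tt N110092 D213329) (tt N110093 D213330) (tt N110088 (iv2 F469933)) (tt N43512 F241323) (tt N110094 D213331) (tt N43508 (iv5 D153535)) (tt N110089 (iv6 F469940)) (tt N89661 (iv7 F387140)))
theorem Q76993 : ∀ i, i < 76993 → P i := stepQ 76992 Q76992 (allL N76992 (tt N85503 (iv1 F372873)) (tt N49753 (iv0 F367242)) (tt N49573 F241328) (tt N110089 (iv3 F469939)) (tt N109414 (iv4 F466848)) (tt N43509 (iv5 D153539)) (tt N43512 F241329) (tt N85516 (iv7 F372915)))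
theorem Q76994 : ∀ i, i < 76994 → P i := stepQ 76993 Q76993 (allL N76993 (tt N49572 (iv1 F241334)) (tt N49284 (iv0 F337268)) (tt N49574 F241330) (tt N85812 (iv3 F374062)) (tt N49405 F337263) (tt N85516 (iv5 F372912)) (tt N49405 F337265) (tt N43509 (iv7 D153540)))
theorem Q76995 : ∀ i, i < 76995 → P i := stepQ 76994 Q76994 (allL N76994 (tt N90436 (iv1 F389646)) (tt N110095 D213332) (tt N63138 F241336) (tt N88479 (iv3 F383221)) (tt N110096 D213333) (tt N43510 (iv5 D153541)) (tt N110097 D213334) (tt N63144 F241337))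
theorem Q76996 : ∀ i, i < 76996 → P i := stepQ 76995 Q76995 (allL N76995 (tt N110095 (iv1 F469961)) (tt N90436 (iv0 F389645)) (tt N63144 F241338) (tt N49662 F366766) (tt N110098 D213335) (tt N43511 (iv5 D153542)) (tt N106851 (iv6 F455989)) (tt N63138 F241339))
theorem Q76997 : ∀ i, i < 76997 → P i := stepQ 76996 Q76996 (allL N76996 (tt N90061 F388459) (tt N76083 F242774) (tt N63145 F241340) (tt N49663 F359834) (tt N63118 F241341) (tt N77456 F242747) (tt N43511 (iv6 D153543)) (tt N90060 (iv7 F388451)))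
theorem Q76998 : ∀ i, i < 76998 → P i := stepQ 76997 Q76997 (allL N76997 (tt N90054 (iv1 F388427)) (tt N43512 (iv0 D153544)) (tt N82320 (iv2 F280233)) (tt N88484 (iv3 F383240)) (tt N110099 D213336) (tt N82306 (iv5 F280155)) (tt N110100 D213337) (tt N82321 (iv7 F280242)))
theorem Q76999 : ∀ i, i < 76999 → P i := stepQ 76998 Q76998 (allL N76998 (tt N43512 (iv1 D153545)) (tt N90054 F388426) (tt N82321 (iv2 F280241)) (tt N49665 (iv3 F362741)) (tt N110101 D213338) (tt N53366 (iv5 F321086)) (tt N71456 F365825) (tt N82320 (iv7 F280234)))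
theorem Q77000 : ∀ i, i < 77000 → P i := stepQ 76999 Q76999 (allL N76999 (tt N88544 (iv1 F451863)) (tt N100055 (iv0 F427385)) (tt N90053 (iv2 F388422)) (tt N84423 (iv3 F463704)) (tt N43512 (iv4 D153546)) (tt N110102 D213339) (tt N109414 F466850) (tt N110103 D213340))
theorem Q77001 : ∀ i, i < 77001 → P i := stepQ 77000 Q77000 (allL N77000 (tt N82321 (iv1 F280244)) (tt N82320 (iv0 F280235)) (tt N90054 (iv2 F388424)) (tt N89661 (iv3 F387138)) (tt N110103 (iv4 F470002)) (tt N43513 F241343) (tt N110104 D213341) (tt N43512 (iv7 D153547)))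
theorem Q77002 : ∀ i, i < 77002 → P i := stepQ 77001 Q77001 (allL N77001 (tt N43517 (iv1 F241348)) (tt N43515 (iv0 D153550)) (tt N65248 (iv2 F241350)) (tt N62523 (iv3 F322137)) (tt N92554 (iv4 F397351)) (tt N65239 F241347) (tt N74710 (iv6 F351587)) (tt N73792 F357853))
theorem Q77003 : ∀ i, i < 77003 → P i := stepQ 77002 Q77002 (allL N77002 (tt N65189 F241356) (tt N65197 F241355) (tt N65195 F241353) (tt N63530 F241354) (tt N55110 (iv4 F241359)) (tt N43516 (iv5 D153555)) (tt N73736 (iv6 F346221)) (tt N65194 F241357))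
theorem Q77004 : ∀ i, i < 77004 → P i := stepQ 77003 Q77003 (allL N77003 (tt N100229 (iv1 F428069)) (tt N44578 (iv0 F242771)) (tt N77558 (iv2 F243621)) (tt N72389 (iv3 F313497)) (tt N75878 F241370) (tt N65194 F241371) (tt N77457 F242762) (tt N43516 (iv7 D153556)))
theorem Q77005 : ∀ i, i < 77005 → P i := stepQ 77004 Q77004 (allL N77004 (tt N99622 F425457) (tt N99625 F425468) (tt N80404 F340756) (tt N90409 (iv3 F389544)) (tt N100083 (iv4 F427471)) (tt N80402 (iv5 F340755)) (tt N43519 (iv6 D153561)) (tt N80405 F340754))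
theorem Q77006 : ∀ i, i < 77006 → P i := stepQ 77005 Q77005 (allL N77005 (tt N110083 (iv1 F469910)) (tt N43521 (iv0 D153562)) (tt N63149 (iv2 F241377)) (tt N110105 D213342) (tt N63119 F241378) (tt N110106 D213343) (tt N74313 (iv6 F366582)) (tt N63152 F241379))
theorem Q77007 : ∀ i, i < 77007 → P i := stepQ 77006 Q77006 (allL N77006 (tt N43521 (iv1 D153563)) (tt N110083 F469909) (tt N63152 (iv2 F241374)) (tt N57558 F366511) (tt N63104 F241373) (tt N110107 D213344) (tt N57556 (iv6 F312676)) (tt N63149 (iv7 F241376)))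
theorem Q77008 : ∀ i, i < 77008 → P i := stepQ 77007 Q77007 (allL N77007 (tt N110108 D213345) (tt N110109 D213346) (tt N110110 D213347) (tt N43521 (iv3 D153564)) (tt N43572 F241381) (tt N110111 D213348) (tt N43525 F241382) (tt N110112 D213349))
theorem Q77009 : ∀ i, i < 77009 → P i := stepQ 77008 Q77008 (allL N77008 (tt N92555 (iv1 F397353)) (tt N110113 D213350) (tt N110082 (iv2 F469895)) (tt N110111 (iv3 F470038)) (tt N110114 D213351) (tt N43521 (iv5 D153565)) (tt N108822 F469901) (tt N110115 D213352))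
theorem Q77010 : ∀ i, i < 77010 → P i := stepQ 77009 Q77009 (allL N77009 (tt N63152 (iv1 F241384)) (tt N63149 F241385) (tt N110083 (iv2 F469904)) (tt N110112 (iv3 F470043)) (tt N43522 F241383) (tt N110115 (iv5 F470057)) (tt N110116 D213353) (tt N43521 (iv7 D153566)))
theorem Q77011 : ∀ i, i < 77011 → P i := stepQ 77010 Q77010 (allL N77010 (tt N87899 F381023) (tt N100279 (iv0 F428231)) (tt N100396 (iv2 F428788)) (tt N43575 F241386) (tt N110116 (iv4 F470063)) (tt N48410 F308517) (tt N43522 (iv6 D153567)) (tt N43528 F241387))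
theorem Q77012 : ∀ i, i < 77012 → P i := stepQ 77011 Q77011 (allL N77011 (tt N72349 F360664) (tt N43523 (iv0 D153568)) (tt N72354 (iv2 F363421)) (tt N43579 F360666) (tt N110117 D213354) (tt N55212 F340737) (tt N110118 D213355) (tt N72353 (iv7 F363427)))
theorem Q77013 : ∀ i, i < 77013 → P i := stepQ 77012 Q77012 (allL N77012 (tt N102317 F436707) (tt N43525 (iv0 D153576)) (tt N107883 (iv2 F460106)) (tt N77776 F244901) (tt N95100 F407039) (tt N110119 D213356) (tt N95099 (iv6 F407040)) (tt N106436 (iv7 F454428)))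
theorem Q77014 : ∀ i, i < 77014 → P i := stepQ 77013 Q77013 (allL N77013 (tt N43525 (iv1 D153577)) (tt N102317 F436708) (tt N106436 (iv2 F454425)) (tt N89507 (iv3 F386675)) (tt N107885 (iv4 F460118)) (tt N110120 D213357) (tt N102305 (iv6 F436637)) (tt N107883 (iv7 F460109)))
theorem Q77015 : ∀ i, i < 77015 → P i := stepQ 77014 Q77014 (allL N77014 (tt N107883 (iv1 F460111)) (tt N106436 (iv0 F454429)) (tt N43525 (iv2 D153578)) (tt N110085 (iv3 F469917)) (tt N43591 F241390) (tt N110121 D213358) (tt N110110 (iv6 F470027)) (tt N102317 (iv7 F436706)))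
theorem Q77016 : ∀ i, i < 77016 → P i := stepQ 77015 Q77015 (allL N77015 (tt N110122 D213359) (tt N110123 D213360) (tt N110121 (iv2 F470084)) (tt N43526 F241391) (tt N110124 D213361) (tt N43525 (iv5 D153579)) (tt N110125 D213362) (tt N110126 D213363))
theorem Q77017 : ∀ i, i < 77017 → P i := stepQ 77016 Q77016 (allL N77016 (tt N106436 F454430) (tt N107883 F460110) (tt N102317 (iv2 F436704)) (tt N43527 F241392) (tt N43593 F241393) (tt N110126 (iv5 F470091)) (tt N110127 D213364) (tt N43525 (iv7 D153580)))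
theorem Q77018 : ∀ i, i < 77018 → P i := stepQ 77017 Q77017 (allL N77017 (tt N43526 (iv1 D153581)) (tt N76055 F241394) (tt N63161 (iv2 F241398)) (tt N110128 D213365) (tt N76046 F241397) (tt N62715 F241396) (tt N110129 D213366) (tt N63112 F241395))
theorem Q77019 : ∀ i, i < 77019 → P i := stepQ 77018 Q77018 (allL N77018 (tt N63161 F241401) (tt N63112 F241402) (tt N76055 F241399) (tt N110126 (iv3 F470090)) (tt N43526 (iv4 D153582)) (tt N43527 F241400) (tt N110130 D213367) (tt N43526 F241403))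
theorem Q77020 : ∀ i, i < 77020 → P i := stepQ 77019 Q77019 (allL N77019 (tt N108828 (iv1 F471694)) (tt N108827 (iv0 F464150)) (tt N110087 (iv2 F469929)) (tt N110125 (iv3 F470088)) (tt N110130 (iv4 F470104)) (tt N108822 (iv5 F469903)) (tt N43526 (iv6 D153583)) (tt N110131 D213369))
theorem Q77021 : ∀ i, i < 77021 → P i := stepQ 77020 Q77020 (allL N77020 (tt N77770 F347173) (tt N77773 (iv0 F244894)) (tt N108814 (iv2 F464085)) (tt N110127 (iv3 F470093)) (tt N43528 F241404) (tt N78032 (iv5 F357030)) (tt N43527 (iv6 D153584)) (tt N110116 (iv7 F470065)))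
theorem Q77022 : ∀ i, i < 77022 → P i := stepQ 77021 Q77021 (allL N77021 (tt N100396 (iv1 F428784)) (tt N43528 (iv0 D153585)) (tt N100279 (iv2 F428227)) (tt N44059 F360994) (tt N100115 (iv4 F427539)) (tt N47738 F360995) (tt N101803 (iv6 F434410)) (tt N87899 (iv7 F381021)))
theorem Q77023 : ∀ i, i < 77023 → P i := stepQ 77022 Q77022 (allL N77022 (tt N80914 F342645) (tt N75772 (iv0 F361354)) (tt N76898 F241411) (tt N44430 F342646) (tt N63925 F241412) (tt N82075 F361355) (tt N43529 (iv6 D153588)) (tt N80913 (iv7 F361333)))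
theorem Q77024 : ∀ i, i < 77024 → P i := stepQ 77023 Q77023 (allL N77023 (tt N78353 F338863) (tt N97393 (iv0 F416688)) (tt N76897 F241413) (tt N46888 F298842) (tt N49641 (iv4 F301489)) (tt N75363 (iv5 F355872)) (tt N43530 (iv6 D153589)) (tt N90562 (iv7 F390113)))
theorem Q77025 : ∀ i, i < 77025 → P i := stepQ 77024 Q77024 (allL N77024 (tt N88481 F383228) (tt N88478 (iv0 F383218)) (tt N43532 F241415) (tt N65416 (iv3 F330648)) (tt N76937 F241416) (tt N65414 F353948) (tt N43531 (iv6 D153590)) (tt N88822 (iv7 F384259)))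
theorem Q77026 : ∀ i, i < 77026 → P i := stepQ 77025 Q77025 (allL N77025 (tt N43532 (iv1 D153592)) (tt N88822 F384260) (tt N88478 (iv2 F383214)) (tt N44741 F354018) (tt N49659 F354019) (tt N101154 (iv5 F431970)) (tt N110132 D213370) (tt N88481 (iv7 F383226)))
theorem Q77027 : ∀ i, i < 77027 → P i := stepQ 77026 Q77026 (allL N77026 (tt N79763 (iv1 F358720)) (tt N80778 (iv0 F347504)) (tt N65414 (iv2 F353909)) (tt N43533 F241417) (tt N110133 D213371) (tt N43532 (iv5 D153593)) (tt N87802 (iv6 F380569)) (tt N80983 (iv7 F353950)))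
theorem Q77028 : ∀ i, i < 77028 → P i := stepQ 77027 Q77027 (allL N77027 (tt N65410 (iv1 F353894)) (tt N43533 (iv0 D153594)) (tt N45909 F330686) (tt N44748 F302488) (tt N87028 (iv4 F378091)) (tt N46478 F241418) (tt N45906 F330687) (tt N46857 F302489))
theorem Q77029 : ∀ i, i < 77029 → P i := stepQ 77028 Q77028 (allL N77028 (tt N43533 (iv1 D153595)) (tt N65410 (iv0 F353893)) (tt N46857 F304294) (tt N45915 F344692) (tt N87029 (iv4 F378102)) (tt N77283 (iv5 F242270)) (tt N66030 (iv6 F344714)) (tt N45909 F344693))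
theorem Q77030 : ∀ i, i < 77030 → P i := stepQ 77029 Q77029 (allL N77029 (tt N68592 F340791) (tt N80690 F354004) (tt N79397 F354000) (tt N43534 (iv3 D153597)) (tt N68033 (iv4 F306363)) (tt N80399 (iv5 F354002)) (tt N68583 F354049) (tt N66880 F241421))
theorem Q77031 : ∀ i, i < 77031 → P i := stepQ 77030 Q77030 (allL N77030 (tt N68013 (iv1 F330130)) (tt N74395 (iv0 F333979)) (tt N45713 F323495) (tt N80399 F323496) (tt N81171 F323497) (tt N43534 (iv5 D153598)) (tt N45711 F323498) (tt N66881 F241423))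
theorem Q77032 : ∀ i, i < 77032 → P i := stepQ 77031 Q77031 (allL N77031 (tt N66717 (iv1 F241463)) (tt N66726 (iv0 F334067)) (tt N66882 F241461) (tt N68042 (iv3 F366390)) (tt N43538 F241462) (tt N81237 F366389) (tt N43536 (iv6 D153609)) (tt N100506 (iv7 F429230)))
theorem Q77033 : ∀ i, i < 77033 → P i := stepQ 77032 Q77032 (allL N77032 (tt N73581 (iv1 F319311)) (tt N73579 (iv0 F319305)) (tt N73602 (iv2 F322946)) (tt N73558 (iv3 F366179)) (tt N43537 (iv4 D153610)) (tt N110134 D213372) (tt N77508 (iv6 F243411)) (tt N73570 (iv7 F348344)))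
theorem Q77034 : ∀ i, i < 77034 → P i := stepQ 77033 Q77033 (allL N77033 (tt N54116 (iv1 F352708)) (tt N66849 (iv0 F241478)) (tt N66888 F241475) (tt N110135 D213373) (tt N43539 (iv4 D153613)) (tt N108235 (iv5 F461616)) (tt N82546 (iv6 F350086)) (tt N66889 F241476))
theorem Q77035 : ∀ i, i < 77035 → P i := stepQ 77034 Q77034 (allL N77034 (tt N77279 (iv1 F242243)) (tt N65213 (iv0 F241482)) (tt N77280 (iv2 F242247)) (tt N63755 F241479) (tt N79479 F340261) (tt N43539 (iv5 D153614)) (tt N45716 F308085) (tt N65169 F241480))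
theorem Q77036 : ∀ i, i < 77036 → P i := stepQ 77035 Q77035 (allL N77035 (tt N66849 F241490) (tt N54116 (iv0 F352707)) (tt N66889 F241487) (tt N105156 (iv3 F449045)) (tt N43540 (iv4 D153616)) (tt N108236 (iv5 F461625)) (tt N65231 F241488) (tt N66888 F241489))
theorem Q77037 : ∀ i, i < 77037 → P i := stepQ 77036 Q77036 (allL N77036 (tt N90223 F388978) (tt N90328 (iv0 F419976)) (tt N90326 F389344) (tt N43541 (iv3 D153617)) (tt N76972 F241493) (tt N108164 (iv5 F461356)) (tt N43545 F241494) (tt N90327 (iv7 F389343)))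
theorem Q77038 : ∀ i, i < 77038 → P i := stepQ 77037 Q77037 (allL N77037 (tt N53627 F365474) (tt N90009 F388287) (tt N90008 F388280) (tt N43543 (iv3 D153619)) (tt N76601 F241495) (tt N96442 (iv5 F412534)) (tt N107925 (iv6 F460317)) (tt N66895 F241496))
theorem Q77039 : ∀ i, i < 77039 → P i := stepQ 77038 Q77038 (allL N77038 (tt N43890 F241500) (tt N43887 F241501) (tt N66893 F241497) (tt N96442 F412535) (tt N43589 F241498) (tt N43543 (iv5 D153620)) (tt N110136 D213374) (tt N66896 F241499))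
theorem Q77040 : ∀ i, i < 77040 → P i := stepQ 77039 Q77039 (allL N77039 (tt N77467 (iv1 F242845)) (tt N43545 (iv0 D153624)) (tt N77466 F399023) (tt N86161 F375249) (tt N85090 (iv4 F371621)) (tt N85097 (iv5 F371618)) (tt N110137 D213375) (tt N77465 (iv7 F399022)))
theorem Q77041 : ∀ i, i < 77041 → P i := stepQ 77040 Q77040 (allL N77040 (tt N43545 (iv1 D153625)) (tt N77467 F242847) (tt N77465 (iv2 F399021)) (tt N72957 (iv3 F371650)) (tt N74583 (iv4 F371646)) (tt N85085 (iv5 F371590)) (tt N72955 F371649) (tt N77466 F399024))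
theorem Q77042 : ∀ i, i < 77042 → P i := stepQ 77041 Q77041 (allL N77041 (tt N77466 (iv1 F242846)) (tt N77465 F242842) (tt N43545 (iv2 D153626)) (tt N77479 (iv3 F242866)) (tt N76979 F241515) (tt N61166 F241516) (tt N90326 (iv6 F389345)) (tt N77467 (iv7 F242844)))
theorem Q77043 : ∀ i, i < 77043 → P i := stepQ 77042 Q77042 (allL N77042 (tt N110138 D213376) (tt N110139 D213377) (tt N77482 (iv2 F242870)) (tt N86061 (iv3 F375035)) (tt N109629 (iv4 F467828)) (tt N108165 (iv5 F461362)) (tt N43546 (iv6 D153627)) (tt N86163 (iv7 F375257)))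
theorem Q77044 : ∀ i, i < 77044 → P i := stepQ 77043 Q77043 (allL N77043 (tt N89662 (iv1 F387142)) (tt N89411 (iv0 F386399)) (tt N43550 F241517) (tt N110058 (iv3 F469778)) (tt N83685 (iv4 F363132)) (tt N43547 (iv5 D153628)) (tt N92600 (iv6 F397579)) (tt N53074 F363133))
theorem Q77045 : ∀ i, i < 77045 → P i := stepQ 77044 Q77044 (allL N77044 (tt N80099 F261540) (tt N43548 (iv0 D153629)) (tt N78108 (iv2 F337211)) (tt N91013 F391565) (tt N45290 F261541) (tt N106495 (iv5 F454665)) (tt N78105 F337212) (tt N92599 (iv7 F397569)))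
theorem Q77046 : ∀ i, i < 77046 → P i := stepQ 77045 Q77045 (allL N77045 (tt N73937 (iv1 F356514)) (tt N73941 (iv0 F364473)) (tt N92600 (iv2 F397577)) (tt N43553 F241519) (tt N89191 (iv4 F385511)) (tt N43548 (iv5 D153631)) (tt N43550 F241520) (tt N109552 (iv7 F467480)))
theorem Q77047 : ∀ i, i < 77047 → P i := stepQ 77046 Q77046 (allL N77046 (tt N100864 (iv1 F430818)) (tt N88861 F384371) (tt N82291 F366800) (tt N52890 (iv3 F366798)) (tt N110140 D213378) (tt N43549 (iv5 D153632)) (tt N110141 D213379) (tt N89405 (iv7 F386378)))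
theorem Q77048 : ∀ i, i < 77048 → P i := stepQ 77047 Q77047 (allL N77047 (tt N89670 F387176) (tt N89649 F387093) (tt N88490 (iv2 F383255)) (tt N52891 (iv3 F366799)) (tt N89406 (iv4 F386382)) (tt N86001 (iv5 F374844)) (tt N43549 (iv6 D153633)) (tt N89669 F387171))
theorem Q77049 : ∀ i, i < 77049 → P i := stepQ 77048 Q77048 (allL N77048 (tt N53074 (iv1 F366923)) (tt N43550 (iv0 D153634)) (tt N89662 F387146) (tt N52893 F368417) (tt N110142 D213380) (tt N101492 (iv5 F433127)) (tt N110143 D213381) (tt N89411 (iv7 F386397)))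
theorem Q77050 : ∀ i, i < 77050 → P i := stepQ 77049 Q77049 (allL N77049 (tt N84286 F368805) (tt N83498 F363128) (tt N83685 F363129) (tt N110144 D213382) (tt N43550 (iv4 D153636)) (tt N48533 F363130) (tt N89191 (iv6 F385510)) (tt N83687 F363131))
theorem Q77051 : ∀ i, i < 77051 → P i := stepQ 77050 Q77050 (allL N77050 (tt N99838 F426464) (tt N76267 (iv0 F348674)) (tt N100572 F429520) (tt N43551 (iv3 D153639)) (tt N44886 F348676) (tt N110145 D213383) (tt N44885 F348677) (tt N100573 (iv7 F429522)))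
theorem Q77052 : ∀ i, i < 77052 → P i := stepQ 77051 Q77051 (allL N77051 (tt N66847 F348667) (tt N64704 F348668) (tt N66845 F348669) (tt N44888 F348670) (tt N43551 (iv4 D153640)) (tt N80304 F348671) (tt N44887 F348672) (tt N66846 F348673))
theorem Q77053 : ∀ i, i < 77053 → P i := stepQ 77052 Q77052 (allL N77052 (tt N110146 D213384) (tt N110147 D213385) (tt N110062 (iv2 F469793)) (tt N110145 (iv3 F470165)) (tt N110148 D213386) (tt N43551 (iv5 D153641)) (tt N110149 D213387) (tt N110064 (iv7 F469804)))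
theorem Q77054 : ∀ i, i < 77054 → P i := stepQ 77053 Q77053 (allL N77053 (tt N103122 F440176) (tt N82186 (iv0 F360537)) (tt N110063 (iv2 F469796)) (tt N44885 F348681) (tt N44887 F348682) (tt N101745 F434145) (tt N43551 (iv6 D153642)) (tt N82136 F348683))
theorem Q77055 : ∀ i, i < 77055 → P i := stepQ 77054 Q77054 (allL N77054 (tt N64704 F356777) (tt N66847 (iv0 F356776)) (tt N66846 (iv2 F356779)) (tt N66648 (iv3 F356774)) (tt N43552 (iv4 D153645)) (tt N104803 (iv5 F447360)) (tt N66647 F356773) (tt N66845 F348691))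
theorem Q77056 : ∀ i, i < 77056 → P i := stepQ 77055 Q77055 (allL N77055 (tt N110147 (iv1 F470173)) (tt N110146 F470169) (tt N110064 (iv2 F469802)) (tt N109452 (iv3 F467027)) (tt N110150 D213388) (tt N43552 (iv5 D153646)) (tt N110151 D213389) (tt N110062 (iv7 F469794)))
theorem Q77057 : ∀ i, i < 77057 → P i := stepQ 77056 Q77056 (allL N77056 (tt N82709 (iv1 F366701)) (tt N43553 (iv0 D153648)) (tt N110065 F469810) (tt N110152 D213390) (tt N77074 F358779) (tt N110153 D213391) (tt N77073 (iv6 F358780)) (tt N110066 (iv7 F469813)))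
theorem Q77058 : ∀ i, i < 77058 → P i := stepQ 77057 Q77057 (allL N77057 (tt N43553 (iv1 D153649)) (tt N82709 F366702) (tt N110066 F469815) (tt N110154 D213392) (tt N83449 (iv4 F432313)) (tt N77224 (iv5 F242011)) (tt N110155 D213393) (tt N110065 F469811))
theorem Q77059 : ∀ i, i < 77059 → P i := stepQ 77058 Q77058 (allL N77058 (tt N86383 F376030) (tt N86381 (iv0 F376023)) (tt N110067 (iv2 F469817)) (tt N110156 D213394) (tt N43553 (iv4 D153650)) (tt N95930 (iv5 F410315)) (tt N43563 F241525) (tt N110157 D213395))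
theorem Q77060 : ∀ i, i < 77060 → P i := stepQ 77059 Q77059 (allL N77059 (tt N110066 (iv1 F469812)) (tt N110065 F469809) (tt N82709 F314204) (tt N109552 (iv3 F467478)) (tt N110157 (iv4 F470211)) (tt N43554 F241526) (tt N49152 F314205) (tt N43553 (iv7 D153651)))
theorem Q77061 : ∀ i, i < 77061 → P i := stepQ 77060 Q77060 (allL N77060 (tt N76141 (iv1 F241538)) (tt N72235 F339628) (tt N57696 (iv2 F310504)) (tt N66866 F241535) (tt N43557 F241536) (tt N56311 F241537) (tt N43555 (iv6 D153656)) (tt N94121 (iv7 F403305)))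
theorem Q77062 : ∀ i, i < 77062 → P i := stepQ 77061 Q77061 (allL N77061 (tt N43559 (iv1 F241540)) (tt N43556 (iv0 D153657)) (tt N65255 (iv2 F241541)) (tt N110158 D213396) (tt N110027 (iv4 F469623)) (tt N65215 F241539) (tt N82738 (iv6 F366802)) (tt N110069 (iv7 F469828)))
theorem Q77063 : ∀ i, i < 77063 → P i := stepQ 77062 Q77062 (allL N77062 (tt N43556 (iv1 D153658)) (tt N43559 F241542) (tt N110069 F469831) (tt N88861 (iv3 F384369)) (tt N110029 (iv4 F469631)) (tt N48718 F308823) (tt N110159 D213397) (tt N65255 F241543))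
theorem Q77064 : ∀ i, i < 77064 → P i := stepQ 77063 Q77063 (allL N77063 (tt N101257 (iv1 F432428)) (tt N110160 D213398) (tt N110070 (iv2 F469832)) (tt N106507 (iv3 F454699)) (tt N43556 (iv4 D153659)) (tt N110161 D213399) (tt N110162 D213400) (tt N48616 F338044))
theorem Q77065 : ∀ i, i < 77065 → P i := stepQ 77064 Q77064 (allL N77064 (tt N110163 D213401) (tt N82722 (iv0 F362137)) (tt N110071 (iv2 F469839)) (tt N100053 (iv3 F427374)) (tt N110162 (iv4 F470233)) (tt N77232 (iv5 F242047)) (tt N43556 (iv6 D153660)) (tt N110164 D213402))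
theorem Q77066 : ∀ i, i < 77066 → P i := stepQ 77065 Q77065 (allL N77065 (tt N48874 F311650) (tt N44581 (iv0 F241546)) (tt N77229 (iv2 F242038)) (tt N72117 F363927) (tt N94121 (iv4 F403302)) (tt N65204 F241545) (tt N77430 F242657) (tt N43557 (iv7 D153661)))
theorem Q77067 : ∀ i, i < 77067 → P i := stepQ 77066 Q77066 (allL N77066 (tt N110165 D213403) (tt N106558 (iv0 F454857)) (tt N100049 (iv2 F427369)) (tt N43559 F241548) (tt N69962 (iv4 F359637)) (tt N43558 (iv5 D153665)) (tt N110166 D213404) (tt N110068 (iv7 F469825)))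
theorem Q77068 : ∀ i, i < 77068 → P i := stepQ 77067 Q77067 (allL N77067 (tt N89447 (iv1 F386563)) (tt N89456 (iv0 F386562)) (tt N89454 (iv2 F424191)) (tt N43560 F241549) (tt N62221 (iv4 F311564)) (tt N77429 (iv5 F242643)) (tt N43558 (iv6 D153666)) (tt N89453 F386556))
theorem Q77069 : ∀ i, i < 77069 → P i := stepQ 77068 Q77068 (allL N77068 (tt N110160 (iv1 F470220)) (tt N101257 (iv0 F432427)) (tt N48616 F338038) (tt N84228 (iv3 F368607)) (tt N43559 (iv4 D153667)) (tt N55305 (iv5 F338040)) (tt N48544 F338039) (tt N110070 (iv7 F469833)))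
theorem Q77070 : ∀ i, i < 77070 → P i := stepQ 77069 Q77069 (allL N77069 (tt N83346 F338031) (tt N51224 F338032) (tt N48615 F338033) (tt N110166 (iv3 F470254)) (tt N48544 F338034) (tt N48830 F338035) (tt N43559 (iv6 D153668)) (tt N48603 F338036))
theorem Q77071 : ∀ i, i < 77071 → P i := stepQ 77070 Q77070 (allL N77070 (tt N82619 (iv1 F351882)) (tt N78329 (iv0 F351881)) (tt N82656 (iv2 F365226)) (tt N110167 D213405) (tt N43561 (iv4 D153670)) (tt N107835 (iv5 F459916)) (tt N110168 D213406) (tt N82655 F365223))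
theorem Q77072 : ∀ i, i < 77072 → P i := stepQ 77071 Q77071 (allL N77071 (tt N110169 D213407) (tt N110170 D213408) (tt N110073 (iv2 F469850)) (tt N72124 F351877) (tt N110168 (iv4 F470265)) (tt N72121 (iv5 F351876)) (tt N43561 (iv6 D153671)) (tt N106506 (iv7 F454697)))
theorem Q77073 : ∀ i, i < 77073 → P i := stepQ 77072 Q77072 (allL N77072 (tt N110051 (iv1 F469742)) (tt N52879 (iv0 F344405)) (tt N100054 (iv2 F427379)) (tt N43562 (iv3 D153672)) (tt N106497 (iv4 F454666)) (tt N68401 (iv5 F330118)) (tt N110171 D213409) (tt N110072 (iv7 F469846)))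
theorem Q77074 : ∀ i, i < 77074 → P i := stepQ 77073 Q77073 (allL N77073 (tt N78329 (iv1 F248315)) (tt N82619 F365224) (tt N82655 F365222) (tt N110172 D213410) (tt N43562 (iv4 D153673)) (tt N107832 (iv5 F459907)) (tt N77056 F358780) (tt N82656 (iv7 F365225)))
theorem Q77075 : ∀ i, i < 77075 → P i := stepQ 77074 Q77074 (allL N77074 (tt N49125 F358778) (tt N101229 F432308) (tt N81074 (iv2 F358777)) (tt N110171 (iv3 F470272)) (tt N77056 (iv4 F358779)) (tt N81056 F358776) (tt N43562 (iv6 D153674)) (tt N110173 D213411))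
theorem Q77076 : ∀ i, i < 77076 → P i := stepQ 77075 Q77075 (allL N77075 (tt N82836 (iv1 F345158)) (tt N43563 (iv0 D153675)) (tt N90259 (iv2 F389132)) (tt N101387 (iv3 F432829)) (tt N48569 F308321) (tt N91691 F394060) (tt N105181 F449127) (tt N110074 (iv7 F469854)))
theorem Q77077 : ∀ i, i < 77077 → P i := stepQ 77076 Q77076 (allL N77076 (tt N43563 (iv1 D153676)) (tt N82836 F345160) (tt N110074 F469856) (tt N110174 D213412) (tt N48568 F345161) (tt N101255 (iv5 F432418)) (tt N101227 (iv6 F432304)) (tt N90259 (iv7 F389133)))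
theorem Q77078 : ∀ i, i < 77078 → P i := stepQ 77077 Q77077 (allL N77077 (tt N110175 D213413) (tt N110176 D213414) (tt N110177 D213415) (tt N43563 (iv3 D153677)) (tt N110144 (iv4 F470160)) (tt N110178 D213416) (tt N110156 (iv6 F470210)) (tt N110179 D213417))
theorem Q77079 : ∀ i, i < 77079 → P i := stepQ 77078 Q77078 (allL N77078 (tt N85650 (iv1 F373392)) (tt N50614 F373369) (tt N85648 F373365) (tt N110178 (iv3 F470289)) (tt N110025 (iv4 F469609)) (tt N43563 (iv5 D153678)) (tt N95929 (iv6 F410312)) (tt N85649 (iv7 F373371)))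
theorem Q77080 : ∀ i, i < 77080 → P i := stepQ 77079 Q77079 (allL N77079 (tt N110074 (iv1 F469853)) (tt N90259 (iv0 F389134)) (tt N82836 F306628) (tt N110179 (iv3 F470295)) (tt N43564 F241551) (tt N85649 F373372) (tt N82627 F306629) (tt N43563 (iv7 D153679)))
theorem Q77081 : ∀ i, i < 77081 → P i := stepQ 77080 Q77080 (allL N77080 (tt N100895 (iv1 F430877)) (tt N100894 F430876) (tt N100580 (iv2 F429547)) (tt N43566 F241552) (tt N110180 D213418) (tt N43565 (iv5 D153681)) (tt N110181 D213419) (tt N100892 (iv7 F430870)))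
theorem Q77082 : ∀ i, i < 77082 → P i := stepQ 77081 Q77081 (allL N77081 (tt N100847 (iv1 F430754)) (tt N70532 (iv0 F388324)) (tt N81970 F366850) (tt N43567 F241553) (tt N100340 (iv4 F428488)) (tt N77376 (iv5 F242483)) (tt N43565 (iv6 D153682)) (tt N83306 F308302))
theorem Q77083 : ∀ i, i < 77083 → P i := stepQ 77082 Q77082 (allL N77082 (tt N110029 (iv1 F469629)) (tt N110027 (iv0 F469625)) (tt N48583 F345153) (tt N110182 D213420) (tt N43566 (iv4 D153683)) (tt N50614 F345154) (tt N48539 F345155) (tt N110026 (iv7 F469618)))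
theorem Q77084 : ∀ i, i < 77084 → P i := stepQ 77083 Q77083 (allL N77083 (tt N82721 F337940) (tt N82718 F337941) (tt N48582 (iv2 F337946)) (tt N110181 (iv3 F470300)) (tt N48539 F337942) (tt N48825 F337943) (tt N43566 (iv6 D153684)) (tt N48576 F337944))
theorem Q77085 : ∀ i, i < 77085 → P i := stepQ 77084 Q77084 (allL N77084 (tt N57090 (iv1 F356927)) (tt N57089 F356935) (tt N55214 (iv2 F356931)) (tt N43568 (iv3 D153686)) (tt N55128 (iv4 F356926)) (tt N95056 (iv5 F406865)) (tt N96082 (iv6 F410960)) (tt N55204 F356924))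
theorem Q77086 : ∀ i, i < 77086 → P i := stepQ 77085 Q77085 (allL N77085 (tt N73769 (iv1 F330106)) (tt N73768 F330103) (tt N73770 (iv2 F330104)) (tt N95056 (iv3 F406862)) (tt N85650 (iv4 F373388)) (tt N43568 (iv5 D153687)) (tt N94532 F405199) (tt N73754 F330105))
theorem Q77087 : ∀ i, i < 77087 → P i := stepQ 77086 Q77086 (allL N77086 (tt N87200 (iv1 F378739)) (tt N95057 F406874) (tt N55222 (iv2 F364177)) (tt N43569 (iv3 D153688)) (tt N52599 F337157) (tt N110183 D213421) (tt N59058 F364176) (tt N55220 F361902))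
theorem Q77088 : ∀ i, i < 77088 → P i := stepQ 77087 Q77087 (allL N77087 (tt N107900 F460189) (tt N101783 (iv0 F434328)) (tt N78234 (iv2 F366687)) (tt N110183 (iv3 F470306)) (tt N91691 (iv4 F394059)) (tt N43569 (iv5 D153689)) (tt N91689 F394050) (tt N108314 (iv7 F462028)))
theorem Q77089 : ∀ i, i < 77089 → P i := stepQ 77088 Q77088 (allL N77088 (tt N78246 F361914) (tt N110184 D213422) (tt N110185 D213423) (tt N43570 (iv3 D153691)) (tt N54653 F363853) (tt N107831 (iv5 F459904)) (tt N93875 (iv6 F424528)) (tt N103349 F441222))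
theorem Q77090 : ∀ i, i < 77090 → P i := stepQ 77089 Q77089 (allL N77089 (tt N46452 F306651) (tt N66733 F241562) (tt N63802 F241560) (tt N53364 (iv3 F339142)) (tt N43570 (iv4 D153692)) (tt N54139 F306652) (tt N99426 F424524) (tt N66873 (iv7 F241568)))
theorem Q77091 : ∀ i, i < 77091 → P i := stepQ 77090 Q77090 (allL N77090 (tt N55225 F361896) (tt N110186 D213424) (tt N101199 (iv2 F432155)) (tt N43571 (iv3 D153695)) (tt N76147 F241569) (tt N107834 (iv5 F459912)) (tt N82230 (iv6 F279726)) (tt N110076 (iv7 F469863)))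
theorem Q77092 : ∀ i, i < 77092 → P i := stepQ 77091 Q77091 (allL N77091 (tt N107715 (iv1 F459360)) (tt N107716 (iv0 F459367)) (tt N43572 (iv2 D153699)) (tt N91702 (iv3 F394093)) (tt N110110 (iv4 F470026)) (tt N58259 F331089) (tt N43591 F241570) (tt N58258 F331107))
theorem Q77093 : ∀ i, i < 77093 → P i := stepQ 77092 Q77092 (allL N77092 (tt N58257 (iv1 F331095)) (tt N58256 F331091) (tt N58259 (iv2 F331081)) (tt N43573 F241571) (tt N73445 F331088) (tt N43572 (iv5 D153700)) (tt N58284 (iv6 F331094)) (tt N57921 F331090))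
theorem Q77094 : ∀ i, i < 77094 → P i := stepQ 77093 Q77093 (allL N77093 (tt N107716 (iv1 F459368)) (tt N107715 (iv0 F459361)) (tt N58258 (iv2 F331108)) (tt N43574 F241572) (tt N110112 (iv4 F470044)) (tt N57921 (iv5 F331093)) (tt N57922 F331110) (tt N43572 (iv7 D153701)))
theorem Q77095 : ∀ i, i < 77095 → P i := stepQ 77094 Q77094 (allL N77094 (tt N110025 (iv1 F469613)) (tt N43573 (iv0 D153702)) (tt N85653 (iv2 F373401)) (tt N95864 (iv3 F410007)) (tt N55305 (iv4 F364624)) (tt N73729 F364621) (tt N50618 (iv6 F364623)) (tt N110079 (iv7 F469877)))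
theorem Q77096 : ∀ i, i < 77096 → P i := stepQ 77095 Q77095 (allL N77095 (tt N43573 (iv1 D153703)) (tt N110025 (iv0 F469612)) (tt N110079 F469881) (tt N110187 D213425) (tt N110161 (iv4 F470227)) (tt N73789 (iv5 F322373)) (tt N110188 D213426) (tt N85653 F373406))
theorem Q77097 : ∀ i, i < 77097 → P i := stepQ 77096 Q77096 (allL N77096 (tt N50614 F345156) (tt N85650 F373391) (tt N85649 (iv2 F373373)) (tt N85393 (iv3 F446148)) (tt N43573 (iv4 D153704)) (tt N82836 (iv5 F345157)) (tt N110189 D213427) (tt N85648 F373366))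
theorem Q77098 : ∀ i, i < 77098 → P i := stepQ 77097 Q77097 (allL N77097 (tt N110190 D213428) (tt N50456 F370865) (tt N50389 F241574) (tt N58284 (iv3 F331130)) (tt N110189 (iv4 F470346)) (tt N43597 F241575) (tt N43573 (iv6 D153705)) (tt N58276 F331132))
theorem Q77099 : ∀ i, i < 77099 → P i := stepQ 77098 Q77098 (allL N77098 (tt N110079 (iv1 F469876)) (tt N85653 (iv0 F373404)) (tt N110025 (iv2 F469607)) (tt N57921 (iv3 F331092)) (tt N85648 F373367) (tt N43574 F241576) (tt N57919 (iv6 F331134)) (tt N43573 (iv7 D153706)))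
theorem Q77100 : ∀ i, i < 77100 → P i := stepQ 77099 Q77099 (allL N77099 (tt N47679 F308518) (tt N47736 F308519) (tt N47733 F308520) (tt N57922 (iv3 F331112)) (tt N43575 F241577) (tt N57920 F331135) (tt N43574 (iv6 D153707)) (tt N43599 F241578))
theorem Q77101 : ∀ i, i < 77101 → P i := stepQ 77100 Q77100 (allL N77100 (tt N91660 F393929) (tt N91664 F393950) (tt N55245 (iv2 F362347)) (tt N43578 F241580) (tt N55134 F362352) (tt N110191 D213429) (tt N43576 (iv6 D153712)) (tt N96021 (iv7 F410674)))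
theorem Q77102 : ∀ i, i < 77102 → P i := stepQ 77101 Q77101 (allL N77101 (tt N110192 D213430) (tt N105372 (iv0 F449935)) (tt N100132 (iv2 F427612)) (tt N53476 (iv3 F365934)) (tt N100121 (iv4 F427558)) (tt N110041 (iv5 F469680)) (tt N43577 (iv6 D153713)) (tt N110193 D213431))
theorem Q77103 : ∀ i, i < 77103 → P i := stepQ 77102 Q77102 (allL N77102 (tt N44408 F353404) (tt N43578 (iv0 D153714)) (tt N91542 (iv2 F393572)) (tt N110194 D213432) (tt N47715 F353405) (tt N103083 (iv5 F439998)) (tt N103084 (iv6 F440001)) (tt N73767 F353406))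
theorem Q77104 : ∀ i, i < 77104 → P i := stepQ 77103 Q77103 (allL N77103 (tt N43578 (iv1 D153715)) (tt N44408 F346812) (tt N73767 F353400) (tt N110195 D213433) (tt N47712 F346813) (tt N110196 D213434) (tt N73753 (iv6 F353399)) (tt N91542 (iv7 F393574)))
theorem Q77105 : ∀ i, i < 77105 → P i := stepQ 77104 Q77104 (allL N77104 (tt N108919 (iv1 F464484)) (tt N93886 (iv0 F402281)) (tt N100133 (iv2 F427616)) (tt N110191 (iv3 F470357)) (tt N110197 D213435) (tt N43578 (iv5 D153716)) (tt N110041 (iv6 F469682)) (tt N96461 F412626))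
theorem Q77106 : ∀ i, i < 77106 → P i := stepQ 77105 Q77105 (allL N77105 (tt N73767 F353411) (tt N91542 (iv0 F393575)) (tt N44408 F316138) (tt N96021 (iv3 F410671)) (tt N43581 F241581) (tt N96461 (iv5 F412625)) (tt N44404 F316139) (tt N43578 (iv7 D153717)))
theorem Q77107 : ∀ i, i < 77107 → P i := stepQ 77106 Q77106 (allL N77106 (tt N110198 D213436) (tt N66732 (iv0 F350189)) (tt N100134 (iv2 F427622)) (tt N73056 (iv3 F350191)) (tt N43579 (iv4 D153719)) (tt N100123 (iv5 F427568)) (tt N73019 F350190) (tt N73794 (iv7 F350192)))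
theorem Q77108 : ∀ i, i < 77108 → P i := stepQ 77107 Q77107 (allL N77107 (tt N66041 (iv1 F351582)) (tt N73751 F350130) (tt N73791 F342444) (tt N110118 (iv3 F470075)) (tt N73019 F342439) (tt N65260 F241584) (tt N43579 (iv6 D153721)) (tt N65259 F241583))
theorem Q77109 : ∀ i, i < 77109 → P i := stepQ 77108 Q77108 (allL N77108 (tt N66732 F241585) (tt N110198 F470393) (tt N73794 (iv2 F366250)) (tt N110199 D213437) (tt N43580 (iv4 D153722)) (tt N110200 D213438) (tt N73757 F366251) (tt N100134 (iv7 F427623)))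
theorem Q77110 : ∀ i, i < 77110 → P i := stepQ 77109 Q77109 (allL N77109 (tt N95047 F406803) (tt N95058 F406887) (tt N57091 (iv2 F345162)) (tt N73754 F345150) (tt N100123 (iv4 F427567)) (tt N55204 (iv5 F356922)) (tt N43583 (iv6 D153728)) (tt N95056 (iv7 F406866)))
theorem Q77111 : ∀ i, i < 77111 → P i := stepQ 77110 Q77110 (allL N77110 (tt N43584 (iv1 D153742)) (tt N93870 (iv0 F402224)) (tt N56922 F385263) (tt N90049 (iv3 F388414)) (tt N71509 (iv4 F385262)) (tt N89828 (iv5 F401118)) (tt N110184 F470312) (tt N93897 (iv7 F402330)))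
theorem Q77112 : ∀ i, i < 77112 → P i := stepQ 77111 Q77111 (allL N77111 (tt N93897 (iv1 F402331)) (tt N56922 (iv0 F362004)) (tt N43584 (iv2 D153743)) (tt N55260 (iv3 F362003)) (tt N100262 (iv4 F428163)) (tt N110201 D213439) (tt N93951 (iv6 F402568)) (tt N93870 F402222))
theorem Q77113 : ∀ i, i < 77113 → P i := stepQ 77112 Q77112 (allL N77112 (tt N102321 F436719) (tt N110202 D213440) (tt N110201 (iv2 F470405)) (tt N43586 F241608) (tt N110203 D213441) (tt N43584 (iv5 D153744)) (tt N101787 F434343) (tt N96149 (iv7 F411255)))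
theorem Q77114 : ∀ i, i < 77114 → P i := stepQ 77113 Q77113 (allL N77113 (tt N43588 (iv1 D153753)) (tt N55260 F353012) (tt N55263 (iv2 F353006)) (tt N56919 F353008) (tt N91408 (iv4 F393016)) (tt N82514 (iv5 F353007)) (tt N65054 F353009) (tt N55261 F353005))
theorem Q77115 : ∀ i, i < 77115 → P i := stepQ 77114 Q77114 (allL N77114 (tt N55261 (iv1 F349906)) (tt N55263 (iv0 F349904)) (tt N43588 (iv2 D153754)) (tt N93870 (iv3 F402221)) (tt N76154 F241615) (tt N110204 D213442) (tt N93331 F400440) (tt N55260 F346523))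
theorem Q77116 : ∀ i, i < 77116 → P i := stepQ 77115 Q77115 (allL N77115 (tt N85635 F373297) (tt N93269 (iv0 F400219)) (tt N110204 (iv2 F470419)) (tt N43589 F241616) (tt N107418 (iv4 F458269)) (tt N43588 (iv5 D153755)) (tt N91700 (iv6 F394088)) (tt N110080 (iv7 F469885)))
theorem Q77117 : ∀ i, i < 77117 → P i := stepQ 77116 Q77116 (allL N77116 (tt N110205 D213443) (tt N55226 (iv0 F372009)) (tt N96140 (iv2 F411211)) (tt N91700 F394090) (tt N110136 (iv4 F470129)) (tt N96136 (iv5 F411194)) (tt N43589 (iv6 D153757)) (tt N101773 (iv7 F434278)))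
theorem Q77118 : ∀ i, i < 77118 → P i := stepQ 77117 Q77117 (allL N77117 (tt N56919 (iv1 F365891)) (tt N55138 F365890) (tt N56921 F365888) (tt N43590 (iv3 D153763)) (tt N110206 D213444) (tt N85654 (iv5 F373412)) (tt N97024 (iv6 F415087)) (tt N56918 (iv7 F365889)))
theorem Q77119 : ∀ i, i < 77119 → P i := stepQ 77118 Q77118 (allL N77118 (tt N95327 (iv1 F407865)) (tt N95326 F407874) (tt N95329 (iv2 F407870)) (tt N108766 (iv3 F463846)) (tt N43590 (iv4 D153764)) (tt N110207 D213445) (tt N107157 (iv6 F457236)) (tt N95325 F407864))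
theorem Q77120 : ∀ i, i < 77120 → P i := stepQ 77119 Q77119 (allL N77119 (tt N93427 F400705) (tt N48193 F360789) (tt N43592 F241628) (tt N50109 F241629) (tt N110208 D213446) (tt N43591 (iv5 D153774)) (tt N50128 (iv6 F241630)) (tt N95246 (iv7 F407573)))
theorem Q77121 : ∀ i, i < 77121 → P i := stepQ 77120 Q77120 (allL N77120 (tt N43592 (iv1 D153776)) (tt N95246 F407572) (tt N48193 F342485) (tt N85215 (iv3 F371916)) (tt N48170 F342486) (tt N93428 (iv5 F400710)) (tt N48169 F342487) (tt N93427 (iv7 F400706)))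
theorem Q77122 : ∀ i, i < 77122 → P i := stepQ 77121 Q77121 (allL N77121 (tt N105485 F450438) (tt N63978 F433029) (tt N110208 (iv2 F470440)) (tt N110209 D213447) (tt N43592 (iv4 D153777)) (tt N110210 D213448) (tt N94657 F405399) (tt N110211 D213449))
theorem Q77123 : ∀ i, i < 77123 → P i := stepQ 77122 Q77122 (allL N77122 (tt N48193 F360788) (tt N93427 (iv0 F400704)) (tt N95246 F407571) (tt N43598 F241633) (tt N110211 (iv4 F470450)) (tt N43593 F241634) (tt N58288 F331123) (tt N43592 (iv7 D153779)))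
theorem Q77124 : ∀ i, i < 77124 → P i := stepQ 77123 Q77123 (allL N77123 (tt N58261 F331124) (tt N58260 F331125) (tt N58263 F331106) (tt N43599 F241635) (tt N110127 (iv4 F470094)) (tt N57923 (iv5 F331121)) (tt N43593 (iv6 D153780)) (tt N57922 (iv7 F331113)))
theorem Q77125 : ∀ i, i < 77125 → P i := stepQ 77124 Q77124 (allL N77124 (tt N93898 F402337) (tt N89828 (iv0 F402227)) (tt N110212 D213450) (tt N43594 (iv3 D153781)) (tt N110213 D213451) (tt N65488 (iv5 F366758)) (tt N108284 (iv6 F461871)) (tt N77536 (iv7 F243426)))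
theorem Q77126 : ∀ i, i < 77126 → P i := stepQ 77125 Q77125 (allL N77125 (tt N95239 (iv1 F407546)) (tt N95232 F407518) (tt N67090 F241637) (tt N108284 (iv3 F461869)) (tt N75526 F241638) (tt N95023 F406698) (tt N43594 (iv6 D153782)) (tt N95222 (iv7 F407478)))
theorem Q77127 : ∀ i, i < 77127 → P i := stepQ 77126 Q77126 (allL N77126 (tt N55262 (iv1 F353014)) (tt N82514 F353013) (tt N89809 (iv2 F387614)) (tt N43595 (iv3 D153783)) (tt N89059 F385004) (tt N66736 F241639) (tt N95264 (iv6 F407629)) (tt N67089 F241640))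
theorem Q77128 : ∀ i, i < 77128 → P i := stepQ 77127 Q77127 (allL N77127 (tt N64867 F432943) (tt N110214 D213452) (tt N77537 (iv2 F243427)) (tt N95264 F407631) (tt N76894 F241641) (tt N110215 D213453) (tt N43595 (iv6 D153784)) (tt N110216 D213454))
theorem Q77129 : ∀ i, i < 77129 → P i := stepQ 77128 Q77128 (allL N77128 (tt N110217 D213455) (tt N110218 D213456) (tt N85081 (iv2 F371570)) (tt N43596 (iv3 D153785)) (tt N110209 (iv4 F470446)) (tt N75509 F241642) (tt N85889 (iv6 F374326)) (tt N77480 (iv7 F242868)))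
theorem Q77130 : ∀ i, i < 77130 → P i := stepQ 77129 Q77129 (allL N77129 (tt N50390 (iv1 F241645)) (tt N43597 (iv0 D153786)) (tt N50387 (iv2 F345139)) (tt N89825 (iv3 F387655)) (tt N110219 D213457) (tt N85239 (iv5 F372005)) (tt N106077 (iv6 F453016)) (tt N50388 F345117))
theorem Q77131 : ∀ i, i < 77131 → P i := stepQ 77130 Q77130 (allL N77130 (tt N50388 (iv1 F241646)) (tt N50387 F241647) (tt N50390 F241644) (tt N58283 F331128) (tt N86154 (iv4 F375232)) (tt N58276 (iv5 F331133)) (tt N58279 (iv6 F365129)) (tt N43597 (iv7 D153788)))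
theorem Q77132 : ∀ i, i < 77132 → P i := stepQ 77131 Q77131 (allL N77131 (tt N110220 D213458) (tt N110221 D213459) (tt N109629 (iv2 F467826)) (tt N58288 (iv3 F331126)) (tt N77482 (iv4 F242871)) (tt N58280 (iv5 F365127)) (tt N43598 (iv6 D153789)) (tt N58279 F365128))
theorem Q77133 : ∀ i, i < 77133 → P i := stepQ 77132 Q77132 (allL N77132 (tt N47733 F312879) (tt N43599 (iv0 D153790)) (tt N47736 F312880) (tt N110222 D213460) (tt N46457 F312881) (tt N47768 F312882) (tt N108984 F464769) (tt N47679 F312883))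
theorem Q77134 : ∀ i, i < 77134 → P i := stepQ 77133 Q77133 (allL N77133 (tt N110223 D213461) (tt N96660 F413354) (tt N109630 (iv2 F467833)) (tt N57923 F331122) (tt N47757 F312888) (tt N43599 (iv5 D153792)) (tt N58280 F365126) (tt N57920 (iv7 F331137)))
theorem Q77135 : ∀ i, i < 77135 → P i := stepQ 77134 Q77134 (allL N77134 (tt N80357 F312391) (tt N80347 F312392) (tt N80354 F312393) (tt N95062 F406901) (tt N43600 (iv4 D153797)) (tt N96448 (iv5 F412565)) (tt N93885 (iv6 F402278)) (tt N80355 F312394))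
theorem Q77136 : ∀ i, i < 77136 → P i := stepQ 77135 Q77135 (allL N77135 (tt N109459 F467074) (tt N65350 (iv0 F355102)) (tt N64710 F241654) (tt N45642 F241655) (tt N43602 F241656) (tt N81105 F360260) (tt N43601 (iv6 D153800)) (tt N97088 (iv7 F415422)))
theorem Q77137 : ∀ i, i < 77137 → P i := stepQ 77136 Q77136 (allL N77136 (tt N64770 (iv1 F241663)) (tt N43602 (iv0 D153801)) (tt N64767 (iv2 F415426)) (tt N63643 (iv3 F355104)) (tt N77439 F355103) (tt N110224 D213462) (tt N109102 (iv6 F465352)) (tt N64768 (iv7 F415428)))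
theorem Q77138 : ∀ i, i < 77138 → P i := stepQ 77137 Q77137 (allL N77137 (tt N43602 (iv1 D153802)) (tt N64770 F241657) (tt N64768 F415429) (tt N79112 F360536) (tt N110225 D213463) (tt N110226 D213464) (tt N105065 (iv6 F448632)) (tt N64767 F415427))
theorem Q77139 : ∀ i, i < 77139 → P i := stepQ 77138 Q77138 (allL N77138 (tt N110227 D213465) (tt N110228 D213466) (tt N64769 F241658) (tt N43609 F241659) (tt N110229 D213467) (tt N43602 (iv5 D153803)) (tt N43605 F241660) (tt N110230 D213468))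
theorem Q77140 : ∀ i, i < 77140 → P i := stepQ 77139 Q77139 (allL N77139 (tt N64768 (iv1 F241664)) (tt N64767 F241665) (tt N64770 F241661) (tt N43610 F241662) (tt N97088 (iv4 F415423)) (tt N110230 (iv5 F470543)) (tt N101024 (iv6 F431332)) (tt N43602 (iv7 D153804)))
theorem Q77141 : ∀ i, i < 77141 → P i := stepQ 77140 Q77140 (allL N77140 (tt N101440 (iv1 F432980)) (tt N49047 F429263) (tt N100903 (iv2 F430898)) (tt N90027 (iv3 F388333)) (tt N110231 D213469) (tt N43603 (iv5 D153808)) (tt N106020 (iv6 F452768)) (tt N90024 (iv7 F388322)))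
theorem Q77142 : ∀ i, i < 77142 → P i := stepQ 77141 Q77141 (allL N77141 (tt N79115 (iv1 F361522)) (tt N81369 F348240) (tt N65191 F304377) (tt N43604 (iv3 D153811)) (tt N64528 F304378) (tt N110232 D213470) (tt N46693 F304379) (tt N83963 (iv7 F367636)))
theorem Q77143 : ∀ i, i < 77143 → P i := stepQ 77142 Q77142 (allL N77142 (tt N49047 F430901) (tt N101440 F432979) (tt N90024 (iv2 F388319)) (tt N110232 (iv3 F470550)) (tt N110233 D213471) (tt N43604 (iv5 D153813)) (tt N48969 F306762) (tt N100903 (iv7 F430899)))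
theorem Q77144 : ∀ i, i < 77144 → P i := stepQ 77143 Q77143 (allL N77143 (tt N47870 F366842) (tt N43605 (iv0 D153815)) (tt N100904 F430905) (tt N90614 F430752) (tt N110234 D213472) (tt N100847 (iv5 F430751)) (tt N77404 F450539) (tt N100905 (iv7 F430908)))
theorem Q77145 : ∀ i, i < 77145 → P i := stepQ 77144 Q77144 (allL N77144 (tt N43605 (iv1 D153816)) (tt N47870 F366915) (tt N100905 (iv2 F430910)) (tt N91152 F392102) (tt N109969 (iv4 F469419)) (tt N70532 (iv5 F366444)) (tt N109968 F469416) (tt N100904 F430906))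
theorem Q77146 : ∀ i, i < 77146 → P i := stepQ 77145 Q77145 (allL N77145 (tt N110235 D213473) (tt N110236 D213474) (tt N100906 (iv2 F430912)) (tt N110237 D213475) (tt N43605 (iv4 D153817)) (tt N110238 D213476) (tt N110229 (iv6 F470538)) (tt N109986 (iv7 F469469)))
theorem Q77147 : ∀ i, i < 77147 → P i := stepQ 77146 Q77146 (allL N77146 (tt N100905 (iv1 F430907)) (tt N100904 F430904) (tt N47870 F306753) (tt N43616 F241671) (tt N109986 (iv4 F469467)) (tt N43606 F241672) (tt N109893 (iv6 F469111)) (tt N43605 (iv7 D153818)))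
theorem Q77148 : ∀ i, i < 77148 → P i := stepQ 77147 Q77147 (allL N77147 (tt N49115 F353705) (tt N48829 F353706) (tt N43776 F354977) (tt N100765 (iv3 F430360)) (tt N110239 D213477) (tt N43607 (iv5 D153822)) (tt N110240 D213478) (tt N43779 F354978))
theorem Q77149 : ∀ i, i < 77149 → P i := stepQ 77148 Q77148 (allL N77148 (tt N101226 F432289) (tt N109461 (iv0 F467085)) (tt N43777 F354979) (tt N75045 F425059) (tt N102949 (iv4 F439391)) (tt N100597 F429627) (tt N43607 (iv6 D153823)) (tt N105116 (iv7 F448872)))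
theorem Q77150 : ∀ i, i < 77150 → P i := stepQ 77149 Q77149 (allL N77149 (tt N51300 (iv1 F361981)) (tt N84155 F368380) (tt N84154 F368356) (tt N43608 (iv3 D153825)) (tt N88095 (iv4 F381787)) (tt N84218 F368549) (tt N83868 (iv6 F367312)) (tt N43774 F354983))
theorem Q77151 : ∀ i, i < 77151 → P i := stepQ 77150 Q77150 (allL N77150 (tt N48829 F355063) (tt N49115 F355064) (tt N43779 F354985) (tt N84218 (iv3 F368551)) (tt N110241 D213479) (tt N43608 (iv5 D153827)) (tt N83420 (iv6 F353720)) (tt N43776 F354986))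
theorem Q77152 : ∀ i, i < 77152 → P i := stepQ 77151 Q77151 (allL N77151 (tt N43784 (iv1 F241680)) (tt N43609 (iv0 D153829)) (tt N43781 (iv2 F353692)) (tt N110242 D213480) (tt N49147 F337986) (tt N83421 F310884) (tt N49078 F310885) (tt N43782 F353691))
theorem Q77153 : ∀ i, i < 77153 → P i := stepQ 77152 Q77152 (allL N77152 (tt N43609 (iv1 D153830)) (tt N43784 F241675) (tt N43782 F353688) (tt N90612 F390271) (tt N110243 D213481) (tt N78338 (iv5 F248344)) (tt N110244 D213482) (tt N43781 F353689))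
theorem Q77154 : ∀ i, i < 77154 → P i := stepQ 77153 Q77153 (allL N77153 (tt N51602 F352430) (tt N83344 F352432) (tt N43783 F241676) (tt N70005 F349423) (tt N43609 (iv4 D153831)) (tt N70004 (iv5 F349424)) (tt N43615 F241677) (tt N83343 F358581))
theorem Q77155 : ∀ i, i < 77155 → P i := stepQ 77154 Q77154 (allL N77154 (tt N43782 (iv1 F241681)) (tt N43781 F241682) (tt N43784 F241678) (tt N110230 (iv3 F470541)) (tt N83343 (iv4 F358585)) (tt N43610 F241679) (tt N90887 F391160) (tt N43609 (iv7 D153832)))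
theorem Q77156 : ∀ i, i < 77156 → P i := stepQ 77155 Q77155 (allL N77155 (tt N81373 F310354) (tt N81372 F310355) (tt N81374 F310356) (tt N43612 F241689) (tt N110245 D213483) (tt N43611 (iv5 D153836)) (tt N78816 F352729) (tt N43794 F241690))
theorem Q77157 : ∀ i, i < 77157 → P i := stepQ 77156 Q77156 (allL N77156 (tt N49054 F310369) (tt N49053 F310370) (tt N43790 F241702) (tt N110246 D213484) (tt N43612 (iv4 D153840)) (tt N107451 (iv5 F458382)) (tt N110247 D213485) (tt N43796 F241703))
theorem Q77158 : ∀ i, i < 77158 → P i := stepQ 77157 Q77157 (allL N77157 (tt N49128 F310371) (tt N49127 F310372) (tt N43791 F241704) (tt N78816 (iv3 F352730)) (tt N110247 (iv4 F470622)) (tt N78349 (iv5 F248364)) (tt N43612 (iv6 D153841)) (tt N48833 F310373))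
theorem Q77159 : ∀ i, i < 77159 → P i := stepQ 77158 Q77158 (allL N77158 (tt N81371 (iv1 F348230)) (tt N81368 (iv0 F348247)) (tt N90605 (iv2 F390238)) (tt N43613 (iv3 D153857)) (tt N110248 D213486) (tt N83278 F308326) (tt N77402 F358576) (tt N43801 F241747))
theorem Q77160 : ∀ i, i < 77160 → P i := stepQ 77159 Q77159 (allL N77159 (tt N77419 (iv1 F242633)) (tt N77199 (iv0 F241956)) (tt N43798 F241748) (tt N110249 D213487) (tt N43613 (iv4 D153858)) (tt N83187 (iv5 F353747)) (tt N75472 F353746) (tt N43802 F241749))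
theorem Q77161 : ∀ i, i < 77161 → P i := stepQ 77160 Q77160 (allL N77160 (tt N77199 (iv1 F241957)) (tt N77419 (iv0 F242632)) (tt N43802 F241752) (tt N107181 (iv3 F457378)) (tt N43614 (iv4 D153861)) (tt N107180 F457375) (tt N49187 F353754) (tt N43798 F241753))
theorem Q77162 : ∀ i, i < 77162 → P i := stepQ 77161 Q77161 (allL N77161 (tt N48823 F308377) (tt N49095 F308378) (tt N43804 F241754) (tt N85486 (iv3 F372787)) (tt N49187 F353736) (tt N88456 (iv5 F383126)) (tt N43614 (iv6 D153862)) (tt N49093 F308379))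
theorem Q77163 : ∀ i, i < 77163 → P i := stepQ 77162 Q77162 (allL N77162 (tt N43615 (iv1 D153864)) (tt N43809 F241756) (tt N43806 F338011) (tt N110250 D213488) (tt N83556 F338008) (tt N86365 (iv5 F375959)) (tt N77401 (iv6 F353753)) (tt N43805 F338012))
theorem Q77164 : ∀ i, i < 77164 → P i := stepQ 77163 Q77163 (allL N77163 (tt N64884 (iv1 F349420)) (tt N72269 (iv0 F349421)) (tt N72479 (iv2 F349417)) (tt N43615 (iv3 D153865)) (tt N110237 (iv4 F470565)) (tt N58124 F349416) (tt N70005 (iv6 F349418)) (tt N72476 (iv7 F349419)))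
theorem Q77165 : ∀ i, i < 77165 → P i := stepQ 77164 Q77164 (allL N77164 (tt N90888 (iv1 F391177)) (tt N49074 F310357) (tt N43810 F241757) (tt N109893 F469109) (tt N109321 (iv4 F466376)) (tt N101223 (iv5 F432276)) (tt N43616 (iv6 D153866)) (tt N90887 (iv7 F391159)))
theorem Q77166 : ∀ i, i < 77166 → P i := stepQ 77165 Q77165 (allL N77165 (tt N94145 (iv1 F403419)) (tt N86466 F376314) (tt N80545 (iv2 F268348)) (tt N43617 (iv3 D153867)) (tt N43620 F241758) (tt N50942 (iv5 F349318)) (tt N99457 (iv6 F424670)) (tt N43845 F241759))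
theorem Q77167 : ∀ i, i < 77167 → P i := stepQ 77166 Q77166 (allL N77166 (tt N100076 (iv1 F427452)) (tt N103582 (iv0 F442122)) (tt N75862 F241760) (tt N50942 (iv3 F349317)) (tt N50951 F349323) (tt N43617 (iv5 D153868)) (tt N92136 (iv6 F395906)) (tt N43846 F241761))
theorem Q77168 : ∀ i, i < 77168 → P i := stepQ 77167 Q77167 (allL N77167 (tt N54370 (iv1 F321066)) (tt N54375 (iv0 F321080)) (tt N54373 (iv2 F350958)) (tt N99457 (iv3 F424669)) (tt N43619 F241763) (tt N75833 F241764) (tt N43617 (iv6 D153869)) (tt N54372 (iv7 F351785)))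
theorem Q77169 : ∀ i, i < 77169 → P i := stepQ 77168 Q77168 (allL N77168 (tt N43842 (iv1 F241770)) (tt N43618 (iv0 D153870)) (tt N43849 (iv2 F241775)) (tt N74928 F360663) (tt N61398 F338595) (tt N75477 F241769) (tt N74927 (iv6 F360648)) (tt N43848 F241776))
theorem Q77170 : ∀ i, i < 77170 → P i := stepQ 77169 Q77169 (allL N77169 (tt N87918 (iv1 F381118)) (tt N43619 (iv0 D153873)) (tt N43691 (iv2 F241785)) (tt N47942 F241786) (tt N72129 F361454) (tt N76446 (iv5 F307780)) (tt N43680 F241787) (tt N87917 (iv7 F381107)))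
theorem Q77171 : ∀ i, i < 77171 → P i := stepQ 77170 Q77170 (allL N77170 (tt N87917 (iv1 F381106)) (tt N43691 F242802) (tt N87918 (iv2 F381113)) (tt N43624 F241789) (tt N54372 F351782) (tt N75826 F241790) (tt N43852 F241791) (tt N43619 (iv7 D153875)))
theorem Q77172 : ∀ i, i < 77172 → P i := stepQ 77171 Q77171 (allL N77171 (tt N43854 (iv1 F241796)) (tt N43620 (iv0 D153877)) (tt N43853 (iv2 F241795)) (tt N46997 (iv3 F308287)) (tt N49496 F241794) (tt N110251 D213489) (tt N53086 F241797) (tt N43692 F241798))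
theorem Q77173 : ∀ i, i < 77173 → P i := stepQ 77172 Q77172 (allL N77172 (tt N43853 (iv1 F241803)) (tt N43692 F241802) (tt N43620 (iv2 D153878)) (tt N43821 F241800) (tt N80545 (iv4 F268349)) (tt N89645 (iv5 F387071)) (tt N53083 F306378) (tt N43854 F241801))
theorem Q77174 : ∀ i, i < 77174 → P i := stepQ 77173 Q77173 (allL N77173 (tt N83438 (iv1 F421386)) (tt N47857 F364093) (tt N89645 (iv2 F387068)) (tt N43621 F241804) (tt N88419 (iv4 F382965)) (tt N43620 (iv5 D153879)) (tt N89994 F388238) (tt N43855 F241805))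
theorem Q77175 : ∀ i, i < 77175 → P i := stepQ 77174 Q77174 (allL N77174 (tt N43621 (iv1 D153882)) (tt N43628 F241811) (tt N43825 (iv2 F241814)) (tt N109509 (iv3 F467302)) (tt N77380 (iv4 F242499)) (tt N75469 F241813) (tt N83432 F364037) (tt N43824 F241812))
theorem Q77176 : ∀ i, i < 77176 → P i := stepQ 77175 Q77175 (allL N77175 (tt N83472 (iv1 F359649)) (tt N83471 F359654) (tt N43827 F241817) (tt N89994 (iv3 F388236)) (tt N83405 F364098) (tt N86162 (iv5 F375253)) (tt N43621 (iv6 D153884)) (tt N83060 (iv7 F359647)))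
theorem Q77177 : ∀ i, i < 77177 → P i := stepQ 77176 Q77176 (allL N77176 (tt N76895 F241823) (tt N76931 F241824) (tt N43829 F241822) (tt N89995 (iv3 F388240)) (tt N77472 (iv4 F242858)) (tt N43622 (iv5 D153886)) (tt N86162 (iv6 F375252)) (tt N55333 (iv7 F308295)))
theorem Q77178 : ∀ i, i < 77178 → P i := stepQ 77177 Q77177 (allL N77177 (tt N43629 (iv1 F241834)) (tt N43623 (iv0 D153888)) (tt N43834 (iv2 F241833)) (tt N85799 (iv3 F374000)) (tt N77374 (iv4 F242479)) (tt N75464 F241832) (tt N108443 (iv6 F462593)) (tt N43835 F241835))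
theorem Q77179 : ∀ i, i < 77179 → P i := stepQ 77178 Q77178 (allL N77178 (tt N61476 (iv1 F352417)) (tt N61479 (iv0 F352373)) (tt N61063 F352366) (tt N43623 (iv3 D153889)) (tt N61040 (iv4 F352369)) (tt N106434 (iv5 F454415)) (tt N61041 (iv6 F352370)) (tt N43857 F241836))
theorem Q77180 : ∀ i, i < 77180 → P i := stepQ 77179 Q77179 (allL N77179 (tt N109271 (iv1 F466110)) (tt N109256 (iv0 F466029)) (tt N43837 F241837) (tt N106434 (iv3 F454414)) (tt N83403 F352427) (tt N43623 (iv5 D153890)) (tt N47190 F354165) (tt N43858 F241838))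
theorem Q77181 : ∀ i, i < 77181 → P i := stepQ 77180 Q77180 (allL N77180 (tt N43627 (iv1 D153895)) (tt N43821 F241858) (tt N43820 F363621) (tt N52927 F363622) (tt N67953 (iv4 F337525)) (tt N91138 (iv5 F392060)) (tt N67952 F363623) (tt N43652 F363624))
theorem Q77182 : ∀ i, i < 77182 → P i := stepQ 77181 Q77181 (allL N77181 (tt N43652 F324404) (tt N43820 F241857) (tt N43627 (iv2 D153896)) (tt N43854 F241854) (tt N67017 F241855) (tt N89644 (iv5 F387060)) (tt N47835 F306374) (tt N43821 F241856))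
theorem Q77183 : ∀ i, i < 77183 → P i := stepQ 77182 Q77182 (allL N77182 (tt N90629 F421380) (tt N110252 D213490) (tt N89644 (iv2 F387058)) (tt N43628 F241860) (tt N90625 F390314) (tt N43627 (iv5 D153897)) (tt N51703 F359655) (tt N43822 F241861))
theorem Q77184 : ∀ i, i < 77184 → P i := stepQ 77183 Q77183 (allL N77183 (tt N48126 F347843) (tt N109021 (iv0 F464971)) (tt N96982 (iv2 F414913)) (tt N43629 (iv3 D153903)) (tt N51911 F347844) (tt N102259 F436420) (tt N69132 F348929) (tt N43836 F241877))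
theorem Q77185 : ∀ i, i < 77185 → P i := stepQ 77184 Q77184 (allL N77184 (tt N109256 (iv1 F466030)) (tt N109271 (iv0 F466109)) (tt N43858 F241878) (tt N102259 F436419) (tt N83404 F352423) (tt N43629 (iv5 D153904)) (tt N95927 (iv6 F410300)) (tt N43837 F241879))
theorem Q77186 : ∀ i, i < 77186 → P i := stepQ 77185 Q77185 (allL N77185 (tt N110253 D213491) (tt N91208 (iv0 F392264)) (tt N61281 F241886) (tt N43635 F241887) (tt N55781 F241888) (tt N97412 F416777) (tt N43633 (iv6 D153907)) (tt N80338 F355844))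
theorem Q77187 : ∀ i, i < 77187 → P i := stepQ 77186 Q77186 (allL N77186 (tt N91336 (iv1 F392790)) (tt N91338 F392793) (tt N90397 (iv2 F389509)) (tt N43637 F241889) (tt N110254 D213492) (tt N43634 (iv5 D153910)) (tt N97412 F416778) (tt N79450 (iv7 F343425)))
theorem Q77188 : ∀ i, i < 77188 → P i := stepQ 77187 Q77187 (allL N77187 (tt N66984 (iv1 F241899)) (tt N43635 (iv0 D153912)) (tt N66981 (iv2 F353930)) (tt N80327 F342696) (tt N64685 F342698) (tt N96280 (iv5 F411855)) (tt N84116 (iv6 F368164)) (tt N66982 F353931))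
theorem Q77189 : ∀ i, i < 77189 → P i := stepQ 77188 Q77188 (allL N77188 (tt N43635 (iv1 D153913)) (tt N66984 F241893) (tt N66982 (iv2 F353927)) (tt N69895 F336377) (tt N59240 (iv4 F336375)) (tt N96277 (iv5 F411844)) (tt N103812 (iv6 F442927)) (tt N66981 (iv7 F353926)))
theorem Q77190 : ∀ i, i < 77190 → P i := stepQ 77189 Q77189 (allL N77189 (tt N106160 F453398) (tt N101210 (iv0 F432216)) (tt N66983 F241894) (tt N97412 F416776) (tt N77263 (iv4 F362135)) (tt N43635 (iv5 D153914)) (tt N43637 F241895) (tt N110255 D213493))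
theorem Q77191 : ∀ i, i < 77191 → P i := stepQ 77190 Q77190 (allL N77190 (tt N66982 (iv1 F241900)) (tt N66981 F241901) (tt N66984 F241896) (tt N80338 (iv3 F355845)) (tt N65183 F241897) (tt N110255 (iv5 F470660)) (tt N66990 F241898) (tt N43635 (iv7 D153915)))
theorem Q77192 : ∀ i, i < 77192 → P i := stepQ 77191 Q77191 (allL N77191 (tt N52779 (iv1 F343991)) (tt N52778 F343990) (tt N46212 F241902) (tt N43636 (iv3 D153916)) (tt N69635 (iv4 F306072)) (tt N103758 (iv5 F442700)) (tt N69618 (iv6 F343989)) (tt N52776 (iv7 F300730)))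
theorem Q77193 : ∀ i, i < 77193 → P i := stepQ 77192 Q77192 (allL N77192 (tt N66988 (iv1 F241914)) (tt N43637 (iv0 D153919)) (tt N66985 F241915) (tt N80380 (iv3 F264157)) (tt N49024 F343441) (tt N75971 F241912) (tt N48945 F343442) (tt N66986 (iv7 F241913)))
theorem Q77194 : ∀ i, i < 77194 → P i := stepQ 77193 Q77193 (allL N77193 (tt N43637 (iv1 D153920)) (tt N66988 F241916) (tt N66986 (iv2 F241918)) (tt N102266 (iv3 F436455)) (tt N86254 (iv4 F375596)) (tt N80362 (iv5 F264113)) (tt N102264 F436449) (tt N66985 F241917))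
theorem Q77195 : ∀ i, i < 77195 → P i := stepQ 77194 Q77194 (allL N77194 (tt N48943 F358554) (tt N91722 F394177) (tt N66987 F241919) (tt N110256 D213494) (tt N43637 (iv4 D153921)) (tt N110257 D213495) (tt N77263 F362136) (tt N91721 (iv7 F394171)))
theorem Q77196 : ∀ i, i < 77196 → P i := stepQ 77195 Q77195 (allL N77195 (tt N66986 (iv1 F241922)) (tt N66985 F241923) (tt N66988 F241920) (tt N79450 (iv3 F343424)) (tt N91721 (iv4 F394169)) (tt N43638 F241921) (tt N79448 F343426) (tt N43637 (iv7 D153922)))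
theorem Q77197 : ∀ i, i < 77197 → P i := stepQ 77196 Q77196 (allL N77196 (tt N73978 (iv1 F315722)) (tt N73961 (iv0 F333386)) (tt N62556 (iv2 F364727)) (tt N100493 (iv3 F429165)) (tt N43639 (iv4 D153925)) (tt N84787 (iv5 F370628)) (tt N75609 F364344) (tt N73976 F364728))
theorem Q77198 : ∀ i, i < 77198 → P i := stepQ 77197 Q77197 (allL N77197 (tt N73641 F346695) (tt N43707 F333736) (tt N101084 (iv2 F431597)) (tt N46963 F241945) (tt N81678 (iv4 F276448)) (tt N83172 F384819) (tt N43645 (iv6 D153930)) (tt N82959 (iv7 F345816)))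
theorem Q77199 : ∀ i, i < 77199 → P i := stepQ 77198 Q77198 (allL N77198 (tt N64735 F366780) (tt N64738 F241955) (tt N101740 (iv2 F434118)) (tt N110258 D213496) (tt N43647 (iv4 D153938)) (tt N109628 (iv5 F467821)) (tt N85659 (iv6 F373431)) (tt N101763 (iv7 F434238)))
theorem Q77200 : ∀ i, i < 77200 → P i := stepQ 77199 Q77199 (allL N77199 (tt N77159 F241956) (tt N77160 F241957) (tt N77392 F242546) (tt N107062 (iv3 F456827)) (tt N43648 (iv4 D153939)) (tt N83316 F337995) (tt N83489 F353761) (tt N77391 F242544))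
theorem Q77201 : ∀ i, i < 77201 → P i := stepQ 77200 Q77200 (allL N77200 (tt N48418 F241961) (tt N48421 (iv0 F241962)) (tt N63695 F241958) (tt N43649 (iv3 D153940)) (tt N63717 F241959) (tt N78884 (iv5 F251192)) (tt N67950 (iv6 F335252)) (tt N64662 F241960))
theorem Q77202 : ∀ i, i < 77202 → P i := stepQ 77201 Q77201 (allL N77201 (tt N86289 F375709) (tt N91725 (iv0 F394193)) (tt N101741 (iv2 F434124)) (tt N71297 (iv3 F309897)) (tt N110259 D213497) (tt N43650 (iv5 D153944)) (tt N61051 F241965) (tt N101468 (iv7 F433050)))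
theorem Q77203 : ∀ i, i < 77203 → P i := stepQ 77202 Q77202 (allL N77202 (tt N52929 (iv1 F340208)) (tt N52925 (iv0 F331891)) (tt N52926 (iv2 F340198)) (tt N43652 F241966) (tt N66977 F321380) (tt N91137 (iv5 F392055)) (tt N43651 (iv6 D153946)) (tt N52927 (iv7 F340212)))
theorem Q77204 : ∀ i, i < 77204 → P i := stepQ 77203 Q77203 (allL N77203 (tt N43653 (iv1 D153952)) (tt N43658 F241968) (tt N43656 F331920) (tt N100822 (iv3 F430635)) (tt N64664 F241969) (tt N105407 (iv5 F450111)) (tt N80889 (iv6 F331922)) (tt N43655 F331921))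
theorem Q77205 : ∀ i, i < 77205 → P i := stepQ 77204 Q77204 (allL N77204 (tt N110260 D213498) (tt N84952 F371171) (tt N43657 F241970) (tt N101089 (iv3 F431619)) (tt N86018 (iv4 F374907)) (tt N43653 (iv5 D153953)) (tt N98178 (iv6 F419868)) (tt N110261 D213499))
theorem Q77206 : ∀ i, i < 77206 → P i := stepQ 77205 Q77205 (allL N77205 (tt N43656 (iv1 F241973)) (tt N43655 F241976) (tt N43658 F241971) (tt N49494 F334421) (tt N79495 (iv4 F334419)) (tt N110261 (iv5 F470697)) (tt N79494 F334415) (tt N43653 (iv7 D153954)))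
theorem Q77207 : ∀ i, i < 77207 → P i := stepQ 77206 Q77206 (allL N77206 (tt N98179 (iv1 F419873)) (tt N43654 (iv0 D153955)) (tt N98174 (iv2 F419848)) (tt N63813 (iv3 F336933)) (tt N60983 F336932) (tt N69756 (iv5 F355303)) (tt N88567 (iv6 F383507)) (tt N78895 (iv7 F336934)))
theorem Q77208 : ∀ i, i < 77208 → P i := stepQ 77207 Q77207 (allL N77207 (tt N43654 (iv1 D153956)) (tt N98179 F419872) (tt N78895 F336957) (tt N94577 (iv3 F405033)) (tt N61032 (iv4 F336956)) (tt N105317 (iv5 F449678)) (tt N110262 D213500) (tt N98174 (iv7 F419850)))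
theorem Q77209 : ∀ i, i < 77209 → P i := stepQ 77208 Q77208 (allL N77208 (tt N98175 (iv1 F419856)) (tt N104950 (iv0 F448103)) (tt N98178 (iv2 F419866)) (tt N43663 F241977) (tt N97786 (iv4 F418299)) (tt N43654 (iv5 D153957)) (tt N43657 F241978) (tt N87856 (iv7 F380873)))
theorem Q77210 : ∀ i, i < 77210 → P i := stepQ 77209 Q77209 (allL N77209 (tt N78895 (iv1 F251275)) (tt N98174 (iv0 F419853)) (tt N98179 (iv2 F419871)) (tt N43664 F241979) (tt N80901 (iv4 F364186)) (tt N87856 (iv5 F380872)) (tt N98181 (iv6 F419880)) (tt N43654 (iv7 D153958)))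
theorem Q77211 : ∀ i, i < 77211 → P i := stepQ 77210 Q77210 (allL N77210 (tt N105586 (iv1 F450851)) (tt N82976 (iv0 F364932)) (tt N81191 (iv2 F364934)) (tt N72057 F363153) (tt N105802 (iv4 F451793)) (tt N43655 (iv5 D153962)) (tt N82822 F364931) (tt N105407 (iv7 F450112)))
theorem Q77212 : ∀ i, i < 77212 → P i := stepQ 77211 Q77211 (allL N77211 (tt N46971 F344998) (tt N52950 F345813) (tt N52949 F332398) (tt N43656 (iv3 D153965)) (tt N67009 (iv4 F332357)) (tt N103788 (iv5 F442817)) (tt N53120 (iv6 F332360)) (tt N52850 (iv7 F344997)))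
theorem Q77213 : ∀ i, i < 77213 → P i := stepQ 77212 Q77212 (allL N77212 (tt N82976 (iv1 F364936)) (tt N105586 (iv0 F450849)) (tt N105407 (iv2 F450108)) (tt N103788 (iv3 F442815)) (tt N68317 F358068) (tt N43656 (iv5 D153967)) (tt N68316 (iv6 F358066)) (tt N81191 F364935))
theorem Q77214 : ∀ i, i < 77214 → P i := stepQ 77213 Q77213 (allL N77213 (tt N110261 (iv1 F470699)) (tt N43657 (iv0 D153969)) (tt N110260 F470689) (tt N101003 (iv3 F431216)) (tt N84954 (iv4 F374735)) (tt N110263 D213501) (tt N90628 F390322) (tt N84952 F374736))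
theorem Q77215 : ∀ i, i < 77215 → P i := stepQ 77214 Q77214 (allL N77214 (tt N43657 (iv1 D153970)) (tt N110261 F470698) (tt N84952 (iv2 F371168)) (tt N110264 D213502) (tt N50914 F369222) (tt N110265 D213503) (tt N50264 (iv6 F369221)) (tt N110260 (iv7 F470691)))
theorem Q77216 : ∀ i, i < 77216 → P i := stepQ 77215 Q77215 (allL N77215 (tt N86020 F374922) (tt N50262 F374923) (tt N86018 F374908) (tt N97788 (iv3 F418307)) (tt N43657 (iv4 D153971)) (tt N110266 D213504) (tt N97786 (iv6 F418302)) (tt N86019 (iv7 F374910)))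
theorem Q77217 : ∀ i, i < 77217 → P i := stepQ 77216 Q77216 (allL N77216 (tt N84952 F371170) (tt N110260 F470692) (tt N110261 (iv2 F470694)) (tt N43670 F241986) (tt N86019 F374911) (tt N43658 F241987) (tt N108374 F462313) (tt N43657 (iv7 D153972)))
theorem Q77218 : ∀ i, i < 77218 → P i := stepQ 77217 Q77217 (allL N77217 (tt N61350 F241991) (tt N64453 F241992) (tt N51991 F241988) (tt N68412 F340877) (tt N43659 (iv4 D153973)) (tt N64451 F241989) (tt N56063 (iv6 F340875)) (tt N64624 F241990))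
theorem Q77219 : ∀ i, i < 77219 → P i := stepQ 77218 Q77218 (allL N77218 (tt N75374 (iv1 F316671)) (tt N43660 (iv0 D153975)) (tt N75375 (iv2 F347999)) (tt N62316 F348001) (tt N76111 (iv4 F350717)) (tt N110267 D213505) (tt N110268 D213506) (tt N72809 (iv7 F348000)))
theorem Q77220 : ∀ i, i < 77220 → P i := stepQ 77219 Q77219 (allL N77219 (tt N43660 (iv1 D153976)) (tt N75374 (iv0 F316670)) (tt N72809 F347997) (tt N92195 F396193) (tt N76112 (iv4 F347996)) (tt N48734 F359696) (tt N51680 F359698) (tt N75375 F347998))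
theorem Q77221 : ∀ i, i < 77221 → P i := stepQ 77220 Q77220 (allL N77220 (tt N108070 F460989) (tt N110269 D213507) (tt N76932 F241995) (tt N75025 (iv3 F366697)) (tt N110270 D213508) (tt N43660 (iv5 D153977)) (tt N76010 F241996) (tt N75376 F366696))
theorem Q77222 : ∀ i, i < 77222 → P i := stepQ 77221 Q77221 (allL N77221 (tt N82242 F349793) (tt N75589 F360772) (tt N69955 F360771) (tt N43661 (iv3 D153984)) (tt N75774 (iv4 F349789)) (tt N66194 (iv5 F360769)) (tt N110271 D213509) (tt N101755 (iv7 F434201)))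
theorem Q77223 : ∀ i, i < 77223 → P i := stepQ 77222 Q77222 (allL N77222 (tt N66962 F349797) (tt N64692 (iv0 F349792)) (tt N66960 (iv2 F349795)) (tt N75436 F349788) (tt N43661 (iv4 D153985)) (tt N80845 (iv5 F349790)) (tt N81041 F349794) (tt N66961 (iv7 F349791)))
theorem Q77224 : ∀ i, i < 77224 → P i := stepQ 77223 Q77223 (allL N77223 (tt N67408 (iv1 F355011)) (tt N67405 F349812) (tt N67968 (iv2 F349809)) (tt N66194 F349810) (tt N67982 F349808) (tt N43661 (iv5 D153986)) (tt N83001 F345946) (tt N69964 F349811))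
theorem Q77225 : ∀ i, i < 77225 → P i := stepQ 77224 Q77224 (allL N77224 (tt N99891 F426700) (tt N110272 D213510) (tt N81046 F360778) (tt N110271 (iv3 F470756)) (tt N81041 (iv4 F349796)) (tt N77057 F242011) (tt N43661 (iv6 D153987)) (tt N110273 D213511))
theorem Q77226 : ∀ i, i < 77226 → P i := stepQ 77225 Q77225 (allL N77225 (tt N64692 F347355) (tt N66962 F347358) (tt N66961 F347354) (tt N67923 (iv3 F347352)) (tt N43662 (iv4 D153990)) (tt N67922 (iv5 F347353)) (tt N75424 (iv6 F361775)) (tt N66960 F347351))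
theorem Q77227 : ∀ i, i < 77227 → P i := stepQ 77226 Q77226 (allL N77226 (tt N84472 F380688) (tt N110268 (iv0 F470741)) (tt N75425 (iv2 F361778)) (tt N69967 F361782) (tt N75424 F361777) (tt N110274 D213512) (tt N43662 (iv6 D153992)) (tt N110275 D213513))
theorem Q77228 : ∀ i, i < 77228 → P i := stepQ 77227 Q77227 (allL N77227 (tt N82958 (iv1 F367686)) (tt N52965 (iv0 F358465)) (tt N101134 (iv2 F431851)) (tt N43667 (iv3 D154014)) (tt N104602 (iv4 F446492)) (tt N68287 F358464) (tt N110276 D213514) (tt N101756 (iv7 F434206)))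
theorem Q77229 : ∀ i, i < 77229 → P i := stepQ 77228 Q77228 (allL N77228 (tt N77305 (iv1 F242346)) (tt N64697 (iv0 F242055)) (tt N77301 F242341) (tt N61573 (iv3 F357319)) (tt N43667 (iv4 D154015)) (tt N61572 F357318) (tt N86923 F377722) (tt N77302 F242340))
theorem Q77230 : ∀ i, i < 77230 → P i := stepQ 77229 Q77229 (allL N77229 (tt N55352 (iv1 F308500)) (tt N76876 F242041) (tt N77065 F242038) (tt N68287 (iv3 F358463)) (tt N57419 (iv4 F312649)) (tt N43667 (iv5 D154016)) (tt N75469 F242042) (tt N76965 F242039))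
theorem Q77231 : ∀ i, i < 77231 → P i := stepQ 77230 Q77230 (allL N77230 (tt N51694 F345938) (tt N82997 F345940) (tt N82996 (iv2 F365546)) (tt N110276 (iv3 F470787)) (tt N86923 (iv4 F377721)) (tt N83432 (iv5 F364039)) (tt N43667 (iv6 D154017)) (tt N82995 F364040))
theorem Q77232 : ∀ i, i < 77232 → P i := stepQ 77231 Q77231 (allL N77231 (tt N64697 F242046) (tt N77305 F242345) (tt N77302 F242339) (tt N110277 D213515) (tt N43668 (iv4 D154019)) (tt N92815 (iv5 F398355)) (tt N110278 D213516) (tt N77301 (iv7 F242343)))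
theorem Q77233 : ∀ i, i < 77233 → P i := stepQ 77232 Q77232 (allL N77232 (tt N86027 F399446) (tt N86025 (iv0 F406418)) (tt N86023 F374940) (tt N71407 (iv3 F364103)) (tt N110278 (iv4 F470799)) (tt N77064 F242047) (tt N43668 (iv6 D154020)) (tt N86024 (iv7 F374941)))
theorem Q77234 : ∀ i, i < 77234 → P i := stepQ 77233 Q77233 (allL N77233 (tt N82972 (iv1 F363727)) (tt N43669 (iv0 D154021)) (tt N101205 (iv2 F432187)) (tt N104435 F445751) (tt N43741 (iv4 F242089)) (tt N108323 (iv5 F462060)) (tt N110279 D213517) (tt N101214 (iv7 F432230)))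
theorem Q77235 : ∀ i, i < 77235 → P i := stepQ 77234 Q77234 (allL N77234 (tt N43669 (iv1 D154022)) (tt N82972 F363724) (tt N101214 (iv2 F432229)) (tt N68937 (iv3 F365503)) (tt N43742 F242048) (tt N110280 D213518) (tt N103569 (iv6 F442074)) (tt N101205 (iv7 F432190)))
theorem Q77236 : ∀ i, i < 77236 → P i := stepQ 77235 Q77235 (allL N77235 (tt N110281 D213519) (tt N97905 (iv0 F421534)) (tt N110282 D213520) (tt N43669 (iv3 D154023)) (tt N97788 (iv4 F418308)) (tt N102926 (iv5 F439295)) (tt N74665 F339646) (tt N110283 D213521))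
theorem Q77237 : ∀ i, i < 77237 → P i := stepQ 77236 Q77236 (allL N77236 (tt N67324 F339642) (tt N92763 F398121) (tt N92764 (iv2 F398122)) (tt N102926 (iv3 F439294)) (tt N92734 (iv4 F398024)) (tt N43669 (iv5 D154024)) (tt N102924 F439288) (tt N92731 (iv7 F398010)))
theorem Q77238 : ∀ i, i < 77238 → P i := stepQ 77237 Q77237 (allL N77237 (tt N101214 (iv1 F432233)) (tt N101205 (iv0 F432191)) (tt N82972 F363723) (tt N110283 (iv3 F470828)) (tt N43670 F242049) (tt N92731 F398007) (tt N92942 (iv6 F398847)) (tt N43669 (iv7 D154025)))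
theorem Q77239 : ∀ i, i < 77239 → P i := stepQ 77238 Q77238 (allL N77238 (tt N110284 D213522) (tt N110285 D213523) (tt N82973 (iv2 F366819)) (tt N108374 F462312) (tt N92942 F398848) (tt N83189 (iv5 F366830)) (tt N43670 (iv6 D154026)) (tt N87857 (iv7 F380875)))
theorem Q77240 : ∀ i, i < 77240 → P i := stepQ 77239 Q77239 (allL N77239 (tt N73898 (iv1 F346247)) (tt N43914 F242060) (tt N73932 (iv2 F346236)) (tt N43671 (iv3 D154034)) (tt N75898 (iv4 F242059)) (tt N44578 F242058) (tt N104221 (iv6 F444776)) (tt N73805 F346227))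
theorem Q77241 : ∀ i, i < 77241 → P i := stepQ 77240 Q77240 (allL N77240 (tt N92767 (iv1 F398139)) (tt N75667 F339621) (tt N98210 (iv2 F420002)) (tt N110286 D213524) (tt N43671 (iv4 D154035)) (tt N110287 D213525) (tt N75623 F366304) (tt N73160 (iv7 F366157)))

end Cfsg.Agent.Helper17.ONTC
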