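import Cfsg.Agent.Helper17.ONTC.Fin20

set_option autoImplicit false
set_option linter.all false
set_option maxRecDepth 100000

noncomputable section

namespace Cfsg.Agent.Helper17.ONTC

theorem Q77242 : ∀ i, i < 77242 → P i := stepQ 77241 Q77241 (allL N77241 (tt N62557 F359299) (tt N75264 (iv0 F242062)) (tt N75608 (iv2 F346197)) (tt N104221 (iv3 F444775)) (tt N75623 (iv4 F366303)) (tt N44583 F242061) (tt N43671 (iv6 D154036)) (tt N73968 (iv7 F346202)))
theorem Q77243 : ∀ i, i < 77243 → P i := stepQ 77242 Q77242 (allL N77242 (tt N43674 (iv1 F242064)) (tt N43673 (iv0 D154038)) (tt N85794 (iv2 F373970)) (tt N50045 (iv3 F290416)) (tt N66571 (iv4 F315741)) (tt N85066 (iv5 F371516)) (tt N50042 F290415) (tt N98771 (iv7 F422251)))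
theorem Q77244 : ∀ i, i < 77244 → P i := stepQ 77243 Q77243 (allL N77243 (tt N52343 (iv1 F335136)) (tt N52339 (iv0 F335133)) (tt N52591 (iv2 F334459)) (tt N43940 F242074) (tt N48763 F308128) (tt N43675 (iv5 D154049)) (tt N43676 F242075) (tt N48761 F308129))
theorem Q77245 : ∀ i, i < 77245 → P i := stepQ 77244 Q77244 (allL N77244 (tt N108322 (iv1 F462052)) (tt N86022 F374936) (tt N61434 F242084) (tt N76544 (iv3 F259177)) (tt N110280 (iv4 F470812)) (tt N43677 (iv5 D154053)) (tt N104841 (iv6 F447551)) (tt N101758 (iv7 F434213)))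
theorem Q77246 : ∀ i, i < 77246 → P i := stepQ 77245 Q77245 (allL N77245 (tt N48997 (iv1 F308316)) (tt N76874 F242091) (tt N76875 F242085) (tt N110288 D213526) (tt N43678 (iv4 D154054)) (tt N43741 F242088) (tt N49049 (iv6 F308310)) (tt N76869 F242087))
theorem Q77247 : ∀ i, i < 77247 → P i := stepQ 77246 Q77246 (allL N77246 (tt N80545 F332404) (tt N43845 F332405) (tt N86466 (iv2 F376310)) (tt N47449 F242109) (tt N79115 (iv4 F252682)) (tt N85974 F374689) (tt N43682 (iv6 D154061)) (tt N94145 (iv7 F403417)))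
theorem Q77248 : ∀ i, i < 77248 → P i := stepQ 77247 Q77247 (allL N77247 (tt N54274 F342011) (tt N70512 (iv0 F354633)) (tt N53328 F242110) (tt N64823 (iv3 F314263)) (tt N79113 (iv4 F252671)) (tt N110289 D213527) (tt N43683 (iv6 D154062)) (tt N94143 (iv7 F403408)))
theorem Q77249 : ∀ i, i < 77249 → P i := stepQ 77248 Q77248 (allL N77248 (tt N110290 D213528) (tt N53338 F361940) (tt N43685 F242111) (tt N54073 F242112) (tt N43694 F242113) (tt N108398 (iv5 F462409)) (tt N43684 (iv6 D154063)) (tt N101114 (iv7 F431748)))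
theorem Q77250 : ∀ i, i < 77250 → P i := stepQ 77249 Q77249 (allL N77249 (tt N101114 (iv1 F431749)) (tt N43685 (iv0 D154064)) (tt N110290 F470873) (tt N53309 F384318) (tt N88843 F384317) (tt N106061 F452954) (tt N109758 (iv6 F468478)) (tt N53338 (iv7 F384319)))
theorem Q77251 : ∀ i, i < 77251 → P i := stepQ 77250 Q77250 (allL N77250 (tt N43685 (iv1 D154065)) (tt N101114 (iv0 F431750)) (tt N53338 (iv2 F384320)) (tt N64652 (iv3 F383622)) (tt N88844 F384309) (tt N106062 (iv5 F452956)) (tt N64649 F383623) (tt N110290 (iv7 F470875)))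
theorem Q77252 : ∀ i, i < 77252 → P i := stepQ 77251 Q77251 (allL N77251 (tt N108399 (iv1 F462421)) (tt N99907 (iv0 F426766)) (tt N108398 F462412) (tt N43686 F242114) (tt N108464 (iv4 F462696)) (tt N43685 (iv5 D154066)) (tt N53976 F242115) (tt N71516 F365829))
theorem Q77253 : ∀ i, i < 77253 → P i := stepQ 77252 Q77252 (allL N77252 (tt N53338 F361938) (tt N110290 F470874) (tt N101114 (iv2 F431745)) (tt N43687 F242116) (tt N43698 F242117) (tt N71516 (iv5 F365828)) (tt N75891 F242118) (tt N43685 (iv7 D154067)))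
theorem Q77254 : ∀ i, i < 77254 → P i := stepQ 77253 Q77253 (allL N77253 (tt N72127 F365575) (tt N72122 (iv0 F365571)) (tt N78245 F365573) (tt N96003 (iv3 F410589)) (tt N43686 (iv4 D154073)) (tt N71517 (iv5 F365572)) (tt N53977 F242128) (tt N71517 F365574))
theorem Q77255 : ∀ i, i < 77255 → P i := stepQ 77254 Q77254 (allL N77254 (tt N43690 (iv1 F242130)) (tt N43688 (iv0 D154075)) (tt N71761 (iv2 F324302)) (tt N48429 F306269) (tt N70954 (iv4 F338811)) (tt N77255 (iv5 F242139)) (tt N75316 (iv6 F242131)) (tt N64003 F242133))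
theorem Q77256 : ∀ i, i < 77256 → P i := stepQ 77255 Q77255 (allL N77255 (tt N43688 (iv1 D154076)) (tt N43690 F242135) (tt N64003 F242138) (tt N43716 (iv3 F242137)) (tt N54005 (iv4 F242141)) (tt N77254 F242139) (tt N45200 F242140) (tt N71761 (iv7 F324305)))
theorem Q77257 : ∀ i, i < 77257 → P i := stepQ 77256 Q77256 (allL N77256 (tt N91150 (iv1 F392096)) (tt N91149 (iv0 F392090)) (tt N47850 F305509) (tt N47463 F310382) (tt N83019 (iv4 F332668)) (tt N43692 (iv5 D154082)) (tt N109763 (iv6 F468502)) (tt N110251 (iv7 F470639)))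
theorem Q77258 : ∀ i, i < 77258 → P i := stepQ 77257 Q77257 (allL N77257 (tt N88994 F384725) (tt N73197 F384726) (tt N95612 (iv2 F408880)) (tt N89000 F384751) (tt N95613 (iv4 F408888)) (tt N43696 (iv5 D154089)) (tt N89534 (iv6 F386723)) (tt N89435 (iv7 F386507)))
theorem Q77259 : ∀ i, i < 77259 → P i := stepQ 77258 Q77258 (allL N77258 (tt N101090 F431629) (tt N53092 (iv0 F343481)) (tt N48198 F343480) (tt N53129 F343477) (tt N101492 (iv4 F433126)) (tt N89411 (iv5 F386396)) (tt N43696 (iv6 D154090)) (tt N101492 (iv7 F433129)))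
theorem Q77260 : ∀ i, i < 77260 → P i := stepQ 77259 Q77259 (allL N77259 (tt N75588 F335199) (tt N84402 (iv0 F369174)) (tt N99950 (iv2 F426922)) (tt N43700 (iv3 D154101)) (tt N110291 D213529) (tt N96251 F411751) (tt N99948 F426919) (tt N84481 F369470))
theorem Q77261 : ∀ i, i < 77261 → P i := stepQ 77260 Q77260 (allL N77260 (tt N64684 (iv1 F345975)) (tt N57350 (iv0 F330644)) (tt N64016 F342705) (tt N78712 (iv3 F342706)) (tt N43700 (iv4 D154102)) (tt N57378 (iv5 F342707)) (tt N104739 (iv6 F447059)) (tt N66940 (iv7 F345971)))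
theorem Q77262 : ∀ i, i < 77262 → P i := stepQ 77261 Q77261 (allL N77261 (tt N48099 F353932) (tt N91421 F393063) (tt N91422 (iv2 F393064)) (tt N96251 (iv3 F411750)) (tt N101824 (iv4 F434521)) (tt N43700 (iv5 D154103)) (tt N91442 (iv6 F393137)) (tt N84483 (iv7 F369479)))
theorem Q77263 : ∀ i, i < 77263 → P i := stepQ 77262 Q77262 (allL N77262 (tt N84475 (iv1 F369446)) (tt N84474 (iv0 F369445)) (tt N84477 (iv2 F369453)) (tt N99948 (iv3 F426917)) (tt N104739 (iv4 F447062)) (tt N110292 D213530) (tt N43700 (iv6 D154104)) (tt N84468 (iv7 F369418)))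
theorem Q77264 : ∀ i, i < 77264 → P i := stepQ 77263 Q77263 (allL N77263 (tt N101746 (iv1 F434152)) (tt N43701 (iv0 D154105)) (tt N101744 F434139) (tt N78101 F358665) (tt N77189 F362135) (tt N82136 F342625) (tt N77194 (iv6 F362136)) (tt N101745 (iv7 F434144)))
theorem Q77265 : ∀ i, i < 77265 → P i := stepQ 77264 Q77264 (allL N77264 (tt N43701 (iv1 D154106)) (tt N101746 F434151) (tt N101745 F434147) (tt N110293 D213531) (tt N101861 (iv4 F434713)) (tt N110063 (iv5 F469800)) (tt N110294 D213532) (tt N101744 F434142))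
theorem Q77266 : ∀ i, i < 77266 → P i := stepQ 77265 Q77265 (allL N77265 (tt N75802 F361475) (tt N75836 (iv0 F340784)) (tt N101000 (iv2 F431202)) (tt N43705 F242178) (tt N81097 (iv4 F364902)) (tt N43703 (iv5 D154110)) (tt N81073 F364901) (tt N100028 (iv7 F427277)))
theorem Q77267 : ∀ i, i < 77267 → P i := stepQ 77266 Q77266 (allL N77266 (tt N64731 F242183) (tt N82558 F330091) (tt N63106 F242180) (tt N48082 F308963) (tt N43706 F242182) (tt N66873 F242184) (tt N43704 (iv6 D154112)) (tt N54139 F330121))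
theorem Q77268 : ∀ i, i < 77268 → P i := stepQ 77267 Q77267 (allL N77267 (tt N43707 (iv1 D154118)) (tt N73641 F346699) (tt N82959 (iv2 F346700)) (tt N49508 F346701) (tt N101180 (iv4 F432077)) (tt N53584 (iv5 F346705)) (tt N49506 F346702) (tt N101084 (iv7 F431599)))
theorem Q77269 : ∀ i, i < 77269 → P i := stepQ 77268 Q77268 (allL N77268 (tt N101084 F431602) (tt N82959 (iv0 F345817)) (tt N43707 (iv2 D154119)) (tt N72129 F361455) (tt N64638 (iv4 F244089)) (tt N89450 F386551) (tt N52938 (iv6 F361468)) (tt N73641 (iv7 F346698)))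
theorem Q77270 : ∀ i, i < 77270 → P i := stepQ 77269 Q77269 (allL N77269 (tt N89446 (iv1 F386541)) (tt N88998 (iv0 F384740)) (tt N89450 F386550) (tt N43708 F242190) (tt N110295 D213533) (tt N43707 (iv5 D154120)) (tt N110296 D213534) (tt N89449 F386548))
theorem Q77271 : ∀ i, i < 77271 → P i := stepQ 77270 Q77270 (allL N77270 (tt N81060 (iv1 F332011)) (tt N75951 (iv0 F340229)) (tt N81061 (iv2 F332002)) (tt N79381 (iv3 F364282)) (tt N43708 (iv4 D154122)) (tt N81053 F332009) (tt N110297 D213535) (tt N81052 (iv7 F332008)))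
theorem Q77272 : ∀ i, i < 77272 → P i := stepQ 77271 Q77271 (allL N77271 (tt N73247 F373284) (tt N110298 D213536) (tt N101747 (iv2 F434153)) (tt N110296 (iv3 F470904)) (tt N110297 (iv4 F470907)) (tt N110299 D213537) (tt N43708 (iv6 D154123)) (tt N110300 D213538))
theorem Q77273 : ∀ i, i < 77273 → P i := stepQ 77272 Q77272 (allL N77272 (tt N44580 F242193) (tt N44576 F242194) (tt N71020 F351800) (tt N71935 (iv3 F362504)) (tt N108228 (iv4 F461576)) (tt N43709 (iv5 D154124)) (tt N110299 (iv6 F470917)) (tt N71895 F351806))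
theorem Q77274 : ∀ i, i < 77274 → P i := stepQ 77273 Q77273 (allL N77273 (tt N77327 (iv1 F242397)) (tt N64689 (iv0 F242200)) (tt N77326 F242390) (tt N81077 (iv3 F343470)) (tt N43710 (iv4 D154126)) (tt N76027 F242195) (tt N93771 (iv6 F401842)) (tt N55340 (iv7 F307372)))
theorem Q77275 : ∀ i, i < 77275 → P i := stepQ 77274 Q77274 (allL N77274 (tt N110301 D213539) (tt N110302 D213540) (tt N83189 (iv2 F366843)) (tt N92148 (iv3 F395972)) (tt N96945 (iv4 F414721)) (tt N82973 F366844) (tt N43712 (iv6 D154137)) (tt N101802 (iv7 F434407)))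
theorem Q77276 : ∀ i, i < 77276 → P i := stepQ 77275 Q77275 (allL N77275 (tt N91709 (iv1 F394131)) (tt N73200 (iv0 F343501)) (tt N101211 (iv2 F432217)) (tt N80852 F346970) (tt N43713 (iv4 D154140)) (tt N46874 F346971) (tt N80847 F346972) (tt N90266 (iv7 F389160)))
theorem Q77277 : ∀ i, i < 77277 → P i := stepQ 77276 Q77276 (allL N77276 (tt N44557 F242217) (tt N48537 F307554) (tt N48568 F308322) (tt N47773 F242216) (tt N110074 (iv4 F469855)) (tt N43714 (iv5 D154142)) (tt N86383 (iv6 F376029)) (tt N48569 F308323))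
theorem Q77278 : ∀ i, i < 77278 → P i := stepQ 77277 Q77277 (allL N77277 (tt N100846 F430746) (tt N100845 (iv0 F430737)) (tt N101001 (iv2 F431205)) (tt N43718 F242227) (tt N110303 D213541) (tt N43717 (iv5 D154146)) (tt N106769 F455603) (tt N101018 (iv7 F431295)))
theorem Q77279 : ∀ i, i < 77279 → P i := stepQ 77278 Q77278 (allL N77278 (tt N102797 F438684) (tt N96207 (iv0 F411496)) (tt N90264 (iv2 F389149)) (tt N106769 F455602) (tt N79527 F331988) (tt N90205 (iv5 F388888)) (tt N43718 (iv6 D154149)) (tt N86382 (iv7 F376026)))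
theorem Q77280 : ∀ i, i < 77280 → P i := stepQ 77279 Q77279 (allL N77279 (tt N43722 (iv1 D154154)) (tt N77034 F242243) (tt N80523 F268176) (tt N100492 F429161) (tt N80381 (iv4 F264190)) (tt N75504 (iv5 F242246)) (tt N75199 (iv6 F242245)) (tt N72343 (iv7 F314346)))
theorem Q77281 : ∀ i, i < 77281 → P i := stepQ 77280 Q77280 (allL N77280 (tt N80523 F268178) (tt N72343 (iv0 F314340)) (tt N77034 F242247) (tt N43990 F242248) (tt N45673 F318946) (tt N43870 F242249) (tt N43816 F242250) (tt N43722 (iv7 D154155)))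
theorem Q77282 : ∀ i, i < 77282 → P i := stepQ 77281 Q77281 (allL N77281 (tt N70554 (iv1 F332083)) (tt N66913 (iv0 F332065)) (tt N45678 F242261) (tt N43724 (iv3 D154157)) (tt N76020 F242262) (tt N47955 F332064) (tt N67906 (iv6 F332089)) (tt N66970 F242263))
theorem Q77283 : ∀ i, i < 77283 → P i := stepQ 77282 Q77282 (allL N77282 (tt N47036 F317080) (tt N76026 F242267) (tt N45683 F242264) (tt N47955 F332047) (tt N83191 F332029) (tt N43724 (iv5 D154158)) (tt N46907 F332048) (tt N66971 F242265))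
theorem Q77284 : ∀ i, i < 77284 → P i := stepQ 77283 Q77283 (allL N77283 (tt N67034 (iv1 F242271)) (tt N80381 F264188) (tt N45684 F242268) (tt N67906 (iv3 F337670)) (tt N45700 F242269) (tt N77028 F242270) (tt N43724 (iv6 D154159)) (tt N79773 (iv7 F344682)))
theorem Q77285 : ∀ i, i < 77285 → P i := stepQ 77284 Q77284 (allL N77284 (tt N44838 F312573) (tt N43726 (iv0 D154165)) (tt N46879 F312574) (tt N67636 F353093) (tt N81053 F312575) (tt N88491 (iv5 F383262)) (tt N44823 F312576) (tt N44738 F312577))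
theorem Q77286 : ∀ i, i < 77286 → P i := stepQ 77285 Q77285 (allL N77285 (tt N53270 (iv1 F332206)) (tt N53272 F357955) (tt N54034 (iv2 F357953)) (tt N101009 (iv3 F431249)) (tt N72627 (iv4 F357937)) (tt N43729 (iv5 D154173)) (tt N53825 F357954) (tt N54033 F357948))
theorem Q77287 : ∀ i, i < 77287 → P i := stepQ 77286 Q77286 (allL N77286 (tt N70056 F355349) (tt N101201 (iv0 F432169)) (tt N43734 F242296) (tt N45096 F242297) (tt N79979 (iv4 F259227)) (tt N68631 F352504) (tt N43731 (iv6 D154181)) (tt N110304 D213542))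
theorem Q77288 : ∀ i, i < 77288 → P i := stepQ 77287 Q77287 (allL N77287 (tt N85576 (iv1 F373101)) (tt N49685 F305561) (tt N49648 (iv2 F307585)) (tt N75577 (iv3 F347740)) (tt N51708 F242305) (tt N90446 (iv5 F389676)) (tt N43732 (iv6 D154188)) (tt N85574 (iv7 F373091)))
theorem Q77289 : ∀ i, i < 77289 → P i := stepQ 77288 Q77288 (allL N77288 (tt N104326 (iv1 F445265)) (tt N87862 F445260) (tt N79979 (iv2 F259225)) (tt N51900 F242306) (tt N43734 F242307) (tt N97182 (iv5 F415790)) (tt N43733 (iv6 D154189)) (tt N105253 (iv7 F449400)))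
theorem Q77290 : ∀ i, i < 77290 → P i := stepQ 77289 Q77289 (allL N77289 (tt N110304 (iv1 F470944)) (tt N43734 (iv0 D154190)) (tt N70056 (iv2 F368374)) (tt N98086 (iv3 F419398)) (tt N87790 (iv4 F380513)) (tt N70055 F368373) (tt N110305 D213543) (tt N101201 (iv7 F432168)))
theorem Q77291 : ∀ i, i < 77291 → P i := stepQ 77290 Q77290 (allL N77290 (tt N43734 (iv1 D154191)) (tt N110304 F470943) (tt N101201 (iv2 F432165)) (tt N70060 (iv3 F368376)) (tt N87744 (iv4 F380329)) (tt N68791 (iv5 F368377)) (tt N91015 F391570) (tt N70056 F368375))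
theorem Q77292 : ∀ i, i < 77292 → P i := stepQ 77291 Q77291 (allL N77291 (tt N101201 F432170) (tt N70056 F352571) (tt N110304 (iv2 F470939)) (tt N43740 F242310) (tt N105253 (iv4 F449401)) (tt N68634 F352501) (tt N49710 (iv6 F352510)) (tt N43734 (iv7 D154193)))
theorem Q77293 : ∀ i, i < 77293 → P i := stepQ 77292 Q77292 (allL N77292 (tt N110306 D213544) (tt N72814 (iv0 F350720)) (tt N63892 F242321) (tt N43737 F242322) (tt N74758 (iv4 F347964)) (tt N110307 D213545) (tt N43736 (iv6 D154210)) (tt N110308 D213546))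
theorem Q77294 : ∀ i, i < 77294 → P i := stepQ 77293 Q77293 (allL N77293 (tt N105481 F450426) (tt N77354 (iv0 F242454)) (tt N63942 F242324) (tt N110307 (iv3 F470957)) (tt N86123 (iv4 F375177)) (tt N43737 (iv5 D154213)) (tt N63936 F242325) (tt N86747 (iv7 F377053)))
theorem Q77295 : ∀ i, i < 77295 → P i := stepQ 77294 Q77294 (allL N77294 (tt N63941 (iv1 F242330)) (tt N63940 F242331) (tt N63943 F242326) (tt N110308 (iv3 F470962)) (tt N76114 F242327) (tt N86747 (iv5 F377054)) (tt N76920 F242328) (tt N43737 (iv7 D154214)))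
theorem Q77296 : ∀ i, i < 77296 → P i := stepQ 77295 Q77295 (allL N77295 (tt N69894 (iv1 F360776)) (tt N69893 F360777) (tt N69739 F360774) (tt N43738 (iv3 D154216)) (tt N97095 (iv4 F415465)) (tt N69738 F360775) (tt N97094 F415462) (tt N69891 (iv7 F360773)))
theorem Q77297 : ∀ i, i < 77297 → P i := stepQ 77296 Q77296 (allL N77296 (tt N78339 F388922) (tt N110309 D213547) (tt N69860 (iv2 F365269)) (tt N97094 (iv3 F415460)) (tt N80754 (iv4 F347343)) (tt N77334 F242414) (tt N43738 (iv6 D154219)) (tt N110310 D213548))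
theorem Q77298 : ∀ i, i < 77298 → P i := stepQ 77297 Q77297 (allL N77297 (tt N50656 F359722) (tt N101246 F432389) (tt N101213 (iv2 F432224)) (tt N58053 (iv3 F365361)) (tt N81513 F339649) (tt N105061 (iv5 F448608)) (tt N43739 (iv6 D154224)) (tt N110311 D213549))
theorem Q77299 : ∀ i, i < 77299 → P i := stepQ 77298 Q77298 (allL N77298 (tt N90232 F389013) (tt N90234 F389024) (tt N101016 (iv2 F431280)) (tt N43741 (iv3 D154229)) (tt N103685 F442478) (tt N110288 (iv5 F470858)) (tt N110312 D213550) (tt N101020 (iv7 F431307)))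
theorem Q77300 : ∀ i, i < 77300 → P i := stepQ 77299 Q77299 (allL N77299 (tt N48806 F358606) (tt N51603 F358607) (tt N51601 F358608) (tt N110312 (iv3 F470987)) (tt N110279 (iv4 F470805)) (tt N49050 F358609) (tt N43741 (iv6 D154230)) (tt N51600 F358610))
theorem Q77301 : ∀ i, i < 77301 → P i := stepQ 77300 Q77300 (allL N77300 (tt N70271 F332734) (tt N108344 (iv0 F462173)) (tt N101215 (iv2 F432236)) (tt N70254 (iv3 F329397)) (tt N103569 (iv4 F442072)) (tt N76873 F242337) (tt N43742 (iv6 D154231)) (tt N104107 (iv7 F444209)))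
theorem Q77302 : ∀ i, i < 77302 → P i := stepQ 77301 Q77301 (allL N77301 (tt N90237 (iv1 F389041)) (tt N43743 (iv0 D154232)) (tt N77228 (iv2 F242341)) (tt N104568 (iv3 F446314)) (tt N65204 F242342) (tt N98572 (iv5 F421368)) (tt N82390 (iv6 F369420)) (tt N77231 F242343))
theorem Q77303 : ∀ i, i < 77303 → P i := stepQ 77302 Q77302 (allL N77302 (tt N43743 (iv1 D154233)) (tt N90237 (iv0 F389040)) (tt N77231 (iv2 F242339)) (tt N92249 (iv3 F396465)) (tt N65205 F242338) (tt N92248 F396463) (tt N110313 D213551) (tt N77228 (iv7 F242340)))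
theorem Q77304 : ∀ i, i < 77304 → P i := stepQ 77303 Q77303 (allL N77303 (tt N110314 D213552) (tt N110315 D213553) (tt N103443 (iv2 F441659)) (tt N43743 (iv3 D154234)) (tt N90416 (iv4 F389567)) (tt N68812 F335847) (tt N105111 (iv6 F448844)) (tt N103440 (iv7 F441646)))
theorem Q77305 : ∀ i, i < 77305 → P i := stepQ 77304 Q77304 (allL N77304 (tt N98031 (iv1 F419237)) (tt N92186 (iv0 F396150)) (tt N97546 (iv2 F417334)) (tt N68812 (iv3 F335846)) (tt N70824 (iv4 F335844)) (tt N43743 (iv5 D154235)) (tt N65945 (iv6 F358874)) (tt N98030 (iv7 F419226)))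
theorem Q77306 : ∀ i, i < 77306 → P i := stepQ 77305 Q77305 (allL N77305 (tt N77231 (iv1 F242345)) (tt N77228 F242346) (tt N90237 (iv2 F389038)) (tt N103440 (iv3 F441645)) (tt N43744 F242344) (tt N98030 (iv5 F419222)) (tt N110316 D213554) (tt N43743 (iv7 D154236)))
theorem Q77307 : ∀ i, i < 77307 → P i := stepQ 77306 Q77306 (allL N77306 (tt N82815 F367095) (tt N70161 (iv0 F355869)) (tt N90238 (iv2 F389042)) (tt N60634 (iv3 F352524)) (tt N110316 (iv4 F471006)) (tt N89977 (iv5 F388171)) (tt N43744 (iv6 D154237)) (tt N105067 (iv7 F448641)))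
theorem Q77308 : ∀ i, i < 77308 → P i := stepQ 77307 Q77307 (allL N77307 (tt N83963 F367638) (tt N65191 (iv0 F366929)) (tt N79115 (iv2 F252680)) (tt N43746 F242351) (tt N86466 (iv4 F376312)) (tt N88421 F382980) (tt N43745 (iv6 D154238)) (tt N81369 F361521))
theorem Q77309 : ∀ i, i < 77309 → P i := stepQ 77308 Q77308 (allL N77308 (tt N90605 (iv1 F390242)) (tt N43801 F338139) (tt N81368 (iv2 F361525)) (tt N88421 (iv3 F382978)) (tt N64175 F338147) (tt N43746 (iv5 D154241)) (tt N101094 (iv6 F431643)) (tt N81371 F348249))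
theorem Q77310 : ∀ i, i < 77310 → P i := stepQ 77309 Q77309 (allL N77309 (tt N83254 (iv1 F352971)) (tt N54040 (iv0 F342617)) (tt N71294 (iv2 F342615)) (tt N68277 (iv3 F342618)) (tt N71287 F342614) (tt N43747 (iv5 D154245)) (tt N109705 (iv6 F468209)) (tt N71291 (iv7 F342616)))
theorem Q77311 : ∀ i, i < 77311 → P i := stepQ 77310 Q77310 (allL N77310 (tt N76371 (iv1 F242376)) (tt N43750 (iv0 D154254)) (tt N76368 F349065) (tt N72380 F342703) (tt N64208 F349066) (tt N72379 F352972) (tt N49397 F349067) (tt N76369 F349068))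
theorem Q77312 : ∀ i, i < 77312 → P i := stepQ 77311 Q77311 (allL N77311 (tt N43750 (iv1 D154255)) (tt N76371 F242368) (tt N76369 (iv2 F349069)) (tt N59305 (iv3 F356863)) (tt N64209 (iv4 F349075)) (tt N59303 F356864) (tt N110317 D213555) (tt N76368 (iv7 F349070)))
theorem Q77313 : ∀ i, i < 77313 → P i := stepQ 77312 Q77312 (allL N77312 (tt N101801 (iv1 F445881)) (tt N105525 (iv0 F450579)) (tt N76370 F242369) (tt N43757 F242370) (tt N110318 D213556) (tt N43750 (iv5 D154256)) (tt N43753 F242371) (tt N110319 D213557))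
theorem Q77314 : ∀ i, i < 77314 → P i := stepQ 77313 Q77313 (allL N77313 (tt N76369 (iv1 F242377)) (tt N76368 F242378) (tt N76371 F242372) (tt N43758 F242373) (tt N45091 F242374) (tt N110319 (iv5 F471024)) (tt N76357 F242375) (tt N43750 (iv7 D154257)))
theorem Q77315 : ∀ i, i < 77315 → P i := stepQ 77314 Q77314 (allL N77314 (tt N88845 (iv1 F384326)) (tt N81864 F384316) (tt N88843 F384313) (tt N43751 (iv3 D154259)) (tt N110290 (iv4 F470870)) (tt N108439 (iv5 F462568)) (tt N110320 D213558) (tt N88844 (iv7 F384312)))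
theorem Q77316 : ∀ i, i < 77316 → P i := stepQ 77315 Q77315 (allL N77315 (tt N53941 F361933) (tt N83277 F365563) (tt N101179 (iv2 F432071)) (tt N108439 (iv3 F462565)) (tt N108057 (iv4 F460913)) (tt N43751 (iv5 D154261)) (tt N108405 (iv6 F462444)) (tt N89166 (iv7 F385417)))
theorem Q77317 : ∀ i, i < 77317 → P i := stepQ 77316 Q77316 (allL N77316 (tt N76466 (iv1 F361932)) (tt N76327 F361931) (tt N76463 F361925) (tt N110320 (iv3 F471028)) (tt N75801 (iv4 F361929)) (tt N110321 D213559) (tt N43751 (iv6 D154262)) (tt N76464 (iv7 F361930)))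
theorem Q77318 : ∀ i, i < 77318 → P i := stepQ 77317 Q77317 (allL N77317 (tt N83277 (iv1 F363161)) (tt N53941 (iv0 F363858)) (tt N89166 (iv2 F385416)) (tt N101171 (iv3 F432036)) (tt N108059 (iv4 F460927)) (tt N43752 (iv5 D154266)) (tt N110322 D213560) (tt N101179 (iv7 F432073)))
theorem Q77319 : ∀ i, i < 77319 → P i := stepQ 77318 Q77318 (allL N77318 (tt N89078 F385076) (tt N43753 (iv0 D154268)) (tt N89121 (iv2 F385238)) (tt N72753 F365842) (tt N101109 (iv4 F431711)) (tt N76494 F366719) (tt N72751 (iv6 F365843)) (tt N88381 (iv7 F382826)))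
theorem Q77320 : ∀ i, i < 77320 → P i := stepQ 77319 Q77319 (allL N77319 (tt N106466 F454572) (tt N110323 D213561) (tt N73249 F342358) (tt N90521 (iv3 F389940)) (tt N43753 (iv4 D154270)) (tt N62403 (iv5 F342359)) (tt N110318 (iv6 F471017)) (tt N108391 (iv7 F462381)))
theorem Q77321 : ∀ i, i < 77321 → P i := stepQ 77320 Q77320 (allL N77320 (tt N88381 (iv1 F382828)) (tt N89121 F385243) (tt N89078 (iv2 F385073)) (tt N43761 F242381) (tt N108391 (iv4 F462377)) (tt N43754 F242382) (tt N106997 (iv6 F456578)) (tt N43753 (iv7 D154271)))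
theorem Q77322 : ∀ i, i < 77322 → P i := stepQ 77321 Q77321 (allL N77321 (tt N81297 F336352) (tt N81295 F336353) (tt N59294 F336354) (tt N43756 (iv3 D154278)) (tt N47993 F336355) (tt N59293 F336356) (tt N110324 D213562) (tt N81346 F336357))
theorem Q77323 : ∀ i, i < 77323 → P i := stepQ 77322 Q77322 (allL N77322 (tt N83421 (iv1 F357267)) (tt N78338 F353714) (tt N83423 (iv2 F353703)) (tt N110324 (iv3 F471053)) (tt N103112 (iv4 F440127)) (tt N77350 (iv5 F242449)) (tt N43756 (iv6 D154281)) (tt N49622 F336368))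
theorem Q77324 : ∀ i, i < 77324 → P i := stepQ 77323 Q77323 (allL N77323 (tt N43757 (iv1 D154283)) (tt N69778 F354232) (tt N57346 (iv2 F336348)) (tt N69814 (iv3 F336349)) (tt N48085 F336347) (tt N96302 (iv5 F411923)) (tt N110325 D213563) (tt N69779 F354228))
theorem Q77325 : ∀ i, i < 77325 → P i := stepQ 77324 Q77324 (allL N77324 (tt N66983 F343437) (tt N110255 F470662) (tt N101210 (iv2 F432213)) (tt N81544 F336350) (tt N43757 (iv4 D154284)) (tt N110043 (iv5 F469694)) (tt N43760 F242385) (tt N106160 (iv7 F453395)))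
theorem Q77326 : ∀ i, i < 77326 → P i := stepQ 77325 Q77325 (allL N77325 (tt N57346 (iv1 F336379)) (tt N69779 F354238) (tt N69778 F354229) (tt N110319 (iv3 F471022)) (tt N106160 (iv4 F453396)) (tt N43758 F242386) (tt N105114 (iv6 F448859)) (tt N43757 (iv7 D154285)))
theorem Q77327 : ∀ i, i < 77327 → P i := stepQ 77326 Q77326 (allL N77326 (tt N89976 (iv1 F388168)) (tt N43760 (iv0 D154289)) (tt N77273 (iv2 F242390)) (tt N78364 (iv3 F350969)) (tt N48932 F307395) (tt N79379 F331986) (tt N106430 (iv6 F454397)) (tt N48931 F307396))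
theorem Q77328 : ∀ i, i < 77328 → P i := stepQ 77327 Q77327 (allL N77327 (tt N48931 F306451) (tt N77273 F242397) (tt N89976 (iv2 F388163)) (tt N71610 F337641) (tt N43761 F242395) (tt N47184 F332024) (tt N102149 (iv6 F435945)) (tt N43760 (iv7 D154293)))
theorem Q77329 : ∀ i, i < 77329 → P i := stepQ 77328 Q77328 (allL N77328 (tt N105521 (iv1 F450568)) (tt N97374 (iv0 F416584)) (tt N89977 (iv2 F388169)) (tt N106997 (iv3 F456577)) (tt N102149 (iv4 F435946)) (tt N90238 (iv5 F389044)) (tt N43761 (iv6 D154294)) (tt N105114 (iv7 F448860)))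
theorem Q77330 : ∀ i, i < 77330 → P i := stepQ 77329 Q77329 (allL N77329 (tt N110326 D213564) (tt N110327 D213565) (tt N101224 (iv2 F432278)) (tt N96304 (iv3 F411933)) (tt N110328 D213566) (tt N43762 (iv5 D154318)) (tt N110328 F471078) (tt N101225 (iv7 F432283)))
theorem Q77331 : ∀ i, i < 77331 → P i := stepQ 77330 Q77330 (allL N77330 (tt N64766 F414870) (tt N101028 F431355) (tt N96981 (iv2 F414908)) (tt N43763 (iv3 D154321)) (tt N58879 (iv4 F356988)) (tt N110329 D213567) (tt N109463 (iv6 F467095)) (tt N97093 (iv7 F415458)))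
theorem Q77332 : ∀ i, i < 77332 → P i := stepQ 77331 Q77331 (allL N77331 (tt N110327 (iv1 F471068)) (tt N110326 F471066) (tt N101225 (iv2 F432281)) (tt N110329 (iv3 F471079)) (tt N110330 D213568) (tt N43763 (iv5 D154323)) (tt N110331 D213569) (tt N101224 (iv7 F432279)))
theorem Q77333 : ∀ i, i < 77333 → P i := stepQ 77332 Q77332 (allL N77332 (tt N105116 F448874) (tt N43777 F432290) (tt N101226 (iv2 F432284)) (tt N109463 (iv3 F467093)) (tt N102328 (iv4 F436753)) (tt N110332 D213570) (tt N43763 (iv6 D154324)) (tt N109461 (iv7 F467088)))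
theorem Q77334 : ∀ i, i < 77334 → P i := stepQ 77333 Q77333 (allL N77333 (tt N48594 F342725) (tt N43764 (iv0 D154325)) (tt N101227 F432300) (tt N100586 F432303) (tt N86383 F432302) (tt N105176 (iv5 F449114)) (tt N110074 F469857) (tt N101228 F432298))
theorem Q77335 : ∀ i, i < 77335 → P i := stepQ 77334 Q77334 (allL N77334 (tt N43764 (iv1 D154326)) (tt N48594 F336385) (tt N101228 (iv2 F432295)) (tt N110333 D213571) (tt N86381 (iv4 F376022)) (tt N77296 (iv5 F242414)) (tt N105172 (iv6 F449103)) (tt N101227 (iv7 F432299)))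
theorem Q77336 : ∀ i, i < 77336 → P i := stepQ 77335 Q77335 (allL N77335 (tt N81074 (iv1 F358791)) (tt N110173 F470281) (tt N101229 (iv2 F432305)) (tt N99407 (iv3 F424432)) (tt N43764 (iv4 D154327)) (tt N99405 (iv5 F424424)) (tt N100593 (iv6 F429603)) (tt N49125 F342724))
theorem Q77337 : ∀ i, i < 77337 → P i := stepQ 77336 Q77336 (allL N77336 (tt N101228 (iv1 F432293)) (tt N101227 F432292) (tt N48594 F342721) (tt N109711 (iv3 F468230)) (tt N49125 F342722) (tt N43765 F242415) (tt N48541 F342723) (tt N43764 (iv7 D154328)))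
theorem Q77338 : ∀ i, i < 77338 → P i := stepQ 77337 Q77337 (allL N77337 (tt N76948 F242418) (tt N45101 F242419) (tt N78544 (iv2 F249088)) (tt N75986 F242416) (tt N43766 (iv4 D154329)) (tt N64385 F242417) (tt N99786 (iv6 F426211)) (tt N78542 (iv7 F249074)))
theorem Q77339 : ∀ i, i < 77339 → P i := stepQ 77338 Q77338 (allL N77338 (tt N70049 (iv1 F362094)) (tt N70048 F346115) (tt N70050 F346114) (tt N49257 F346104) (tt N68787 (iv4 F354361)) (tt N43770 (iv5 D154341)) (tt N110334 D213572) (tt N68779 F346105))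
theorem Q77340 : ∀ i, i < 77340 → P i := stepQ 77339 Q77339 (allL N77339 (tt N47583 F362088) (tt N47582 F362089) (tt N47024 F362090) (tt N47561 F362091) (tt N87825 (iv4 F380686)) (tt N47023 F362092) (tt N43771 (iv6 D154347)) (tt N47580 F362093))
theorem Q77341 : ∀ i, i < 77341 → P i := stepQ 77340 Q77340 (allL N77340 (tt N102827 (iv1 F438829)) (tt N43772 (iv0 D154348)) (tt N103128 F440196) (tt N50237 (iv3 F369517)) (tt N104559 (iv4 F446258)) (tt N82743 F369516) (tt N109913 (iv6 F469189)) (tt N85957 (iv7 F374612)))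
theorem Q77342 : ∀ i, i < 77342 → P i := stepQ 77341 Q77341 (allL N77341 (tt N43772 (iv1 D154349)) (tt N102827 (iv0 F438828)) (tt N85957 (iv2 F374610)) (tt N74240 (iv3 F361751)) (tt N65135 F348867) (tt N108441 (iv5 F462580)) (tt N65134 (iv6 F348866)) (tt N103128 (iv7 F440198)))
theorem Q77343 : ∀ i, i < 77343 → P i := stepQ 77342 Q77342 (allL N77342 (tt N110335 D213573) (tt N110277 (iv0 F470797)) (tt N103129 (iv2 F440200)) (tt N67499 (iv3 F358583)) (tt N43772 (iv4 D154350)) (tt N67498 F358582) (tt N67747 (iv6 F358584)) (tt N104430 (iv7 F445726)))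
theorem Q77344 : ∀ i, i < 77344 → P i := stepQ 77343 Q77343 (allL N77343 (tt N85957 (iv1 F374614)) (tt N103128 F440197) (tt N102827 (iv2 F438824)) (tt N67752 (iv3 F350862)) (tt N104430 (iv4 F445727)) (tt N43773 F242432) (tt N71362 F347133) (tt N43772 (iv7 D154351)))
theorem Q77345 : ∀ i, i < 77345 → P i := stepQ 77344 Q77344 (allL N77344 (tt N84154 (iv1 F368359)) (tt N43774 (iv0 D154358)) (tt N84155 (iv2 F368378)) (tt N51301 (iv3 F368361)) (tt N87967 (iv4 F381318)) (tt N85489 (iv5 F372803)) (tt N84153 F368362) (tt N51300 F368360))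
theorem Q77346 : ∀ i, i < 77346 → P i := stepQ 77345 Q77345 (allL N77345 (tt N84155 (iv1 F368381)) (tt N51300 (iv0 F361980)) (tt N43774 (iv2 D154360)) (tt N100758 (iv3 F430324)) (tt N79954 F361979) (tt N84217 (iv5 F368540)) (tt N110336 D213574) (tt N84154 (iv7 F368355)))
theorem Q77347 : ∀ i, i < 77347 → P i := stepQ 77346 Q77346 (allL N77346 (tt N110337 D213575) (tt N75945 (iv0 F361978)) (tt N79954 (iv2 F361975)) (tt N71721 F361970) (tt N43774 (iv4 D154361)) (tt N110338 D213576) (tt N71719 (iv6 F361976)) (tt N88095 (iv7 F381786)))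
theorem Q77348 : ∀ i, i < 77348 → P i := stepQ 77347 Q77347 (allL N77347 (tt N84277 F368788) (tt N85570 (iv0 F373087)) (tt N110336 (iv2 F471105)) (tt N43777 F242442) (tt N71719 F361977) (tt N85484 (iv5 F372782)) (tt N43774 (iv6 D154363)) (tt N84261 (iv7 F368724)))
theorem Q77349 : ∀ i, i < 77349 → P i := stepQ 77348 Q77348 (allL N77348 (tt N110339 D213577) (tt N80035 (iv0 F346569)) (tt N79912 (iv2 F361967)) (tt N43775 (iv3 D154367)) (tt N71721 (iv4 F361969)) (tt N104738 (iv5 F447051)) (tt N55618 F361966) (tt N88096 (iv7 F381790)))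
theorem Q77350 : ∀ i, i < 77350 → P i := stepQ 77349 Q77349 (allL N77349 (tt N79794 F361984) (tt N74392 (iv0 F361985)) (tt N102949 (iv2 F439394)) (tt N55618 (iv3 F361968)) (tt N43777 F242445) (tt N55617 F361982) (tt N43775 (iv6 D154369)) (tt N60477 F361983))
theorem Q77351 : ∀ i, i < 77351 → P i := stepQ 77350 Q77350 (allL N77350 (tt N43779 (iv1 F242453)) (tt N43776 (iv0 D154371)) (tt N49115 F352349) (tt N110340 D213578) (tt N77378 (iv4 F353715)) (tt N77322 F242449) (tt N49107 F352350) (tt N48829 F352351))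
theorem Q77352 : ∀ i, i < 77352 → P i := stepQ 77351 Q77351 (allL N77351 (tt N77431 F365548) (tt N49119 F365549) (tt N110239 (iv2 F470576)) (tt N105575 (iv3 F450803)) (tt N43776 (iv4 D154373)) (tt N72071 (iv5 F419230)) (tt N110341 D213579) (tt N110241 (iv7 F470590)))
theorem Q77353 : ∀ i, i < 77353 → P i := stepQ 77352 Q77352 (allL N77352 (tt N110342 D213580) (tt N110343 D213581) (tt N110240 (iv2 F470582)) (tt N85483 (iv3 F372779)) (tt N110341 (iv4 F471128)) (tt N84792 (iv5 F370632)) (tt N43776 (iv6 D154374)) (tt N110344 D213582))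
theorem Q77354 : ∀ i, i < 77354 → P i := stepQ 77353 Q77353 (allL N77353 (tt N43777 (iv1 D154377)) (tt N105116 (iv0 F448873)) (tt N109461 (iv2 F467082)) (tt N59269 F358450) (tt N102330 (iv4 F436763)) (tt N110345 D213583) (tt N59268 (iv6 F354227)) (tt N101226 (iv7 F432287)))
theorem Q77355 : ∀ i, i < 77355 → P i := stepQ 77354 Q77354 (allL N77354 (tt N77293 F242454) (tt N100598 F429634) (tt N100597 (iv2 F429628)) (tt N85484 (iv3 F372781)) (tt N110346 D213584) (tt N43777 (iv5 D154378)) (tt N84792 F370634) (tt N100596 F429623))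
theorem Q77356 : ∀ i, i < 77356 → P i := stepQ 77355 Q77355 (allL N77355 (tt N109461 F467086) (tt N101226 F432291) (tt N105116 (iv2 F448869)) (tt N84261 (iv3 F368723)) (tt N60477 (iv4 F361988)) (tt N100596 (iv5 F429621)) (tt N84129 F368227) (tt N43777 (iv7 D154379)))
theorem Q77357 : ∀ i, i < 77357 → P i := stepQ 77356 Q77356 (allL N77356 (tt N43778 (iv1 D154382)) (tt N100758 (iv0 F430327)) (tt N100764 F430356) (tt N75118 F354933) (tt N76264 (iv4 F354932)) (tt N110347 D213585) (tt N77636 (iv6 F355761)) (tt N76262 F354934))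
theorem Q77358 : ∀ i, i < 77358 → P i := stepQ 77357 Q77357 (allL N77357 (tt N88397 (iv1 F433177)) (tt N110348 D213586) (tt N77387 F354906) (tt N43779 F242456) (tt N47452 F354907) (tt N43778 (iv5 D154385)) (tt N52728 F354908) (tt N100765 (iv7 F430362)))
theorem Q77359 : ∀ i, i < 77359 → P i := stepQ 77358 Q77358 (allL N77358 (tt N108329 (iv1 F462091)) (tt N78685 (iv0 F421250)) (tt N84258 (iv2 F368717)) (tt N43780 F242457) (tt N61553 (iv4 F377404)) (tt N94919 (iv5 F406337)) (tt N43778 (iv6 D154386)) (tt N105115 (iv7 F448866)))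
theorem Q77360 : ∀ i, i < 77360 → P i := stepQ 77359 Q77359 (allL N77359 (tt N49119 F377736) (tt N77431 F377737) (tt N110241 (iv2 F470587)) (tt N47460 F354900) (tt N43779 (iv4 D154390)) (tt N72070 F354901) (tt N52738 F354902) (tt N110239 (iv7 F470578)))
theorem Q77361 : ∀ i, i < 77361 → P i := stepQ 77360 Q77360 (allL N77360 (tt N83053 F353700) (tt N49050 F358613) (tt N83420 F355070) (tt N52728 F354905) (tt N52738 (iv4 F354903)) (tt N94920 (iv5 F406342)) (tt N43779 (iv6 D154391)) (tt N83419 F358612))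
theorem Q77362 : ∀ i, i < 77362 → P i := stepQ 77361 Q77361 (allL N77361 (tt N85489 (iv1 F390272)) (tt N81377 (iv0 F368300)) (tt N90611 F390265) (tt N43781 (iv3 D154397)) (tt N110349 D213587) (tt N49691 (iv5 F368299)) (tt N83348 F353698) (tt N90612 (iv7 F390268)))
theorem Q77363 : ∀ i, i < 77363 → P i := stepQ 77362 Q77362 (allL N77362 (tt N72072 F353693) (tt N110350 D213588) (tt N49147 F353694) (tt N91151 (iv3 F392098)) (tt N43781 (iv4 D154398)) (tt N51694 F353695) (tt N48838 F353696) (tt N110243 (iv7 F470600)))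
theorem Q77364 : ∀ i, i < 77364 → P i := stepQ 77363 Q77363 (allL N77363 (tt N49622 F353699) (tt N83423 (iv0 F353701)) (tt N83421 (iv2 F357262)) (tt N49691 F368298) (tt N103820 (iv4 F442953)) (tt N43781 (iv5 D154399)) (tt N110309 F470971) (tt N78338 F357260))
theorem Q77365 : ∀ i, i < 77365 → P i := stepQ 77364 Q77364 (allL N77364 (tt N101094 (iv1 F431645)) (tt N110347 (iv0 F471158)) (tt N77396 (iv2 F353687)) (tt N43782 (iv3 D154402)) (tt N76489 F353686) (tt N76383 (iv5 F353685)) (tt N100254 F428139) (tt N110242 (iv7 F470597)))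
theorem Q77366 : ∀ i, i < 77366 → P i := stepQ 77365 Q77365 (allL N77365 (tt N110350 (iv1 F471168)) (tt N72072 (iv0 F431646)) (tt N110243 (iv2 F470599)) (tt N110351 D213589) (tt N43782 (iv4 D154403)) (tt N82997 F358619) (tt N110352 D213590) (tt N49147 F358620))
theorem Q77367 : ∀ i, i < 77367 → P i := stepQ 77366 Q77366 (allL N77366 (tt N83423 (iv1 F357261)) (tt N49622 (iv0 F357259)) (tt N78338 F353683) (tt N76383 F353684) (tt N103819 (iv4 F442950)) (tt N43782 (iv5 D154404)) (tt N76382 (iv6 F353682)) (tt N83421 (iv7 F353690)))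
theorem Q77368 : ∀ i, i < 77368 → P i := stepQ 77367 Q77367 (allL N77367 (tt N90390 F389484) (tt N77410 (iv0 F357263)) (tt N110244 (iv2 F470605)) (tt N100254 (iv3 F428141)) (tt N110352 (iv4 F471183)) (tt N77518 F357256) (tt N43782 (iv6 D154405)) (tt N83350 F358621))
theorem Q77369 : ∀ i, i < 77369 → P i := stepQ 77368 Q77368 (allL N77368 (tt N43783 (iv1 D154407)) (tt N83343 F358588) (tt N83344 (iv2 F358589)) (tt N87693 (iv3 F380151)) (tt N110061 (iv4 F469792)) (tt N51603 (iv5 F358590)) (tt N77411 (iv6 F358592)) (tt N51602 F358591))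
theorem Q77370 : ∀ i, i < 77370 → P i := stepQ 77369 Q77369 (allL N77369 (tt N83324 F431647) (tt N110353 D213591) (tt N105667 (iv2 F451166)) (tt N43783 (iv3 D154408)) (tt N101356 (iv4 F432762)) (tt N105555 (iv5 F450722)) (tt N43807 F242463) (tt N110354 D213592))
theorem Q77371 : ∀ i, i < 77371 → P i := stepQ 77370 Q77370 (allL N77370 (tt N96488 F412732) (tt N69855 (iv0 F353723)) (tt N70004 F349425) (tt N105555 F450719) (tt N104389 (iv4 F445547)) (tt N43783 (iv5 D154409)) (tt N48649 F358596) (tt N105535 (iv7 F450624)))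
theorem Q77372 : ∀ i, i < 77372 → P i := stepQ 77371 Q77371 (allL N77371 (tt N83344 (iv1 F352433)) (tt N51602 F358587) (tt N83343 F358586) (tt N110354 (iv3 F471190)) (tt N43784 F242464) (tt N105535 (iv5 F450619)) (tt N110355 D213593) (tt N43783 (iv7 D154410)))
theorem Q77373 : ∀ i, i < 77373 → P i := stepQ 77372 Q77372 (allL N77372 (tt N49074 F310888) (tt N90888 F391176) (tt N90887 (iv2 F391170)) (tt N101345 (iv3 F432713)) (tt N110355 (iv4 F471203)) (tt N101250 (iv5 F432402)) (tt N43784 (iv6 D154411)) (tt N43810 F242465))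
theorem Q77374 : ∀ i, i < 77374 → P i := stepQ 77373 Q77373 (allL N77373 (tt N77656 (iv1 F244516)) (tt N77654 F331657) (tt N91529 (iv2 F393501)) (tt N43787 F242475) (tt N76954 (iv4 F354071)) (tt N43786 (iv5 D154434)) (tt N76953 F354079) (tt N49041 F310871))
theorem Q77375 : ∀ i, i < 77375 → P i := stepQ 77374 Q77374 (allL N77374 (tt N43795 (iv1 F242481)) (tt N43787 (iv0 D154436)) (tt N49045 F310596) (tt N77626 (iv3 F244258)) (tt N77177 F242479) (tt N66872 F242478) (tt N74975 F330052) (tt N49044 F310597))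
theorem Q77376 : ∀ i, i < 77376 → P i := stepQ 77375 Q77375 (allL N77375 (tt N76621 (iv1 F345675)) (tt N79271 F345674) (tt N54963 (iv2 F345671)) (tt N76953 F345672) (tt N76906 F345673) (tt N68593 F242482) (tt N43787 (iv6 D154437)) (tt N80760 F350146))
theorem Q77377 : ∀ i, i < 77377 → P i := stepQ 77376 Q77376 (allL N77376 (tt N90024 F388323) (tt N100903 (iv0 F430900)) (tt N101440 (iv2 F432976)) (tt N43788 (iv3 D154438)) (tt N110356 D213594) (tt N77081 F242483) (tt N83048 F364091) (tt N49047 F310363))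
theorem Q77378 : ∀ i, i < 77378 → P i := stepQ 77377 Q77377 (allL N77377 (tt N63944 F242495) (tt N49020 F306445) (tt N49049 (iv2 F308309)) (tt N47881 F306133) (tt N43833 F242492) (tt N43789 (iv5 D154442)) (tt N76875 (iv6 F242494)) (tt N49052 F306446))
theorem Q77379 : ∀ i, i < 77379 → P i := stepQ 77378 Q77378 (allL N77378 (tt N83420 (iv1 F353719)) (tt N83419 F358618) (tt N49050 F310361) (tt N101206 (iv3 F432193)) (tt N77350 F353715) (tt N51601 F310362) (tt N43789 (iv6 D154443)) (tt N83053 (iv7 F353716)))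
theorem Q77380 : ∀ i, i < 77380 → P i := stepQ 77379 Q77379 (allL N77379 (tt N43796 (iv1 F242497)) (tt N43790 (iv0 D154444)) (tt N49054 F310891) (tt N110357 D213595) (tt N49117 F338026) (tt N91283 (iv5 F392538)) (tt N48610 F338027) (tt N49053 F310892))
theorem Q77381 : ∀ i, i < 77381 → P i := stepQ 77380 Q77380 (allL N77380 (tt N43790 (iv1 D154445)) (tt N43796 F242498) (tt N49053 F310889) (tt N110358 D213596) (tt N77174 F242499) (tt N91442 (iv5 F393136)) (tt N110292 (iv6 F470885)) (tt N49054 F310890))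
theorem Q77382 : ∀ i, i < 77382 → P i := stepQ 77381 Q77381 (allL N77381 (tt N110359 D213597) (tt N110360 D213598) (tt N110247 (iv2 F470621)) (tt N107457 (iv3 F458405)) (tt N43791 F242500) (tt N107452 (iv5 F458388)) (tt N43790 (iv6 D154447)) (tt N49126 F310896))
theorem Q77383 : ∀ i, i < 77383 → P i := stepQ 77382 Q77382 (allL N77382 (tt N48833 F310897) (tt N43791 (iv0 D154448)) (tt N49128 F386094) (tt N106603 F455020) (tt N109896 (iv4 F469120)) (tt N110361 D213599) (tt N110342 (iv6 F471134)) (tt N49127 F386095))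
theorem Q77384 : ∀ i, i < 77384 → P i := stepQ 77383 Q77383 (allL N77383 (tt N43791 (iv1 D154449)) (tt N48833 F310898) (tt N49127 F386090) (tt N101445 (iv3 F455170)) (tt N83456 F386091) (tt N110362 D213600) (tt N83454 F386092) (tt N49128 F386093))
theorem Q77385 : ∀ i, i < 77385 → P i := stepQ 77384 Q77384 (allL N77384 (tt N43801 F338138) (tt N90605 F390241) (tt N81371 F361523) (tt N101166 (iv3 F432012)) (tt N91160 (iv4 F392113)) (tt N43792 (iv5 D154462)) (tt N110363 D213601) (tt N81368 (iv7 F361524)))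
theorem Q77386 : ∀ i, i < 77386 → P i := stepQ 77385 Q77385 (allL N77385 (tt N81374 F310350) (tt N43794 (iv0 D154471)) (tt N81372 F382953) (tt N89349 (iv3 F386213)) (tt N88414 F382942) (tt N76488 F364030) (tt N83037 (iv6 F444987)) (tt N81373 (iv7 F382952)))
theorem Q77387 : ∀ i, i < 77387 → P i := stepQ 77386 Q77386 (allL N77386 (tt N43794 (iv1 D154472)) (tt N81374 F310351) (tt N81373 (iv2 F382954)) (tt N101435 (iv3 F432969)) (tt N90856 (iv4 F391057)) (tt N76487 (iv5 F363405)) (tt N110364 D213602) (tt N81372 F382955))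
theorem Q77388 : ∀ i, i < 77388 → P i := stepQ 77387 Q77387 (allL N77387 (tt N83035 (iv1 F364035)) (tt N110365 D213603) (tt N77357 (iv2 F354906)) (tt N54621 (iv3 F368364)) (tt N43794 (iv4 D154473)) (tt N64181 (iv5 F354925)) (tt N48817 F310353) (tt N110245 (iv7 F470613)))
theorem Q77389 : ∀ i, i < 77389 → P i := stepQ 77388 Q77388 (allL N77388 (tt N54627 F390923) (tt N110366 D213604) (tt N110367 D213605) (tt N43796 (iv3 D154482)) (tt N54621 F368365) (tt N109316 (iv5 F466354)) (tt N48832 F310367) (tt N110246 (iv7 F470618)))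
theorem Q77390 : ∀ i, i < 77390 → P i := stepQ 77389 Q77389 (allL N77389 (tt N81399 F366670) (tt N81396 (iv0 F384811)) (tt N83487 F364811) (tt N110368 D213606) (tt N43797 (iv4 D154494)) (tt N98574 (iv5 F421376)) (tt N83485 (iv6 F364816)) (tt N90606 (iv7 F390243)))
theorem Q77391 : ∀ i, i < 77391 → P i := stepQ 77390 Q77390 (allL N77390 (tt N85480 F372773) (tt N89892 (iv0 F387890)) (tt N83486 (iv2 F364813)) (tt N43800 F242541) (tt N83485 F364814) (tt N53948 F353860) (tt N43797 (iv6 D154496)) (tt N77403 F353729))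
theorem Q77392 : ∀ i, i < 77392 → P i := stepQ 77391 Q77391 (allL N77391 (tt N43802 (iv1 F242543)) (tt N43798 (iv0 D154497)) (tt N77419 (iv2 F242630)) (tt N110369 D213607) (tt N75873 (iv4 F306620)) (tt N107453 (iv5 F458391)) (tt N110370 D213608) (tt N77199 (iv7 F242544)))
theorem Q77393 : ∀ i, i < 77393 → P i := stepQ 77392 Q77392 (allL N77392 (tt N43798 (iv1 D154498)) (tt N43802 F242545) (tt N77199 (iv2 F242546)) (tt N110371 D213609) (tt N65173 (iv4 F242547)) (tt N107454 (iv5 F458399)) (tt N110350 F471172) (tt N77419 (iv7 F242631)))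
theorem Q77394 : ∀ i, i < 77394 → P i := stepQ 77393 Q77393 (allL N77393 (tt N107459 (iv1 F458410)) (tt N107340 (iv0 F458018)) (tt N107183 (iv2 F457393)) (tt N43798 (iv3 D154499)) (tt N110368 (iv4 F471265)) (tt N75674 F364524) (tt N81895 F358569) (tt N107181 (iv7 F457379)))
theorem Q77395 : ∀ i, i < 77395 → P i := stepQ 77394 Q77394 (allL N77394 (tt N75873 F353760) (tt N65173 F353743) (tt N75472 (iv2 F353745)) (tt N81895 (iv3 F358568)) (tt N43800 F242548) (tt N55339 F353741) (tt N43798 (iv6 D154500)) (tt N75489 F353730))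
theorem Q77396 : ∀ i, i < 77396 → P i := stepQ 77395 Q77395 (allL N77395 (tt N83406 F353742) (tt N51206 F353744) (tt N75485 F353740) (tt N53948 (iv3 F353859)) (tt N75322 (iv4 F353739)) (tt N43800 (iv5 D154503)) (tt N53946 F353858) (tt N75465 F353731))
theorem Q77397 : ∀ i, i < 77397 → P i := stepQ 77396 Q77396 (allL N77396 (tt N109667 (iv1 F468019)) (tt N110372 D213610) (tt N77364 F353687) (tt N84214 (iv3 F368536)) (tt N43801 (iv4 D154508)) (tt N84212 F368531) (tt N78825 F362837) (tt N110248 (iv7 F470629)))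
theorem Q77398 : ∀ i, i < 77398 → P i := stepQ 77397 Q77397 (allL N77397 (tt N88391 F382859) (tt N100220 (iv0 F428050)) (tt N90837 (iv2 F391011)) (tt N43804 F242550) (tt N78825 (iv4 F362836)) (tt N78764 F362838) (tt N43801 (iv6 D154510)) (tt N110373 D213611))
theorem Q77399 : ∀ i, i < 77399 → P i := stepQ 77398 Q77398 (allL N77398 (tt N110374 D213612) (tt N110375 D213613) (tt N110376 D213614) (tt N43802 (iv3 D154511)) (tt N84214 F368538) (tt N109314 (iv5 F466345)) (tt N110377 D213615) (tt N110249 (iv7 F470634)))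
theorem Q77400 : ∀ i, i < 77400 → P i := stepQ 77399 Q77399 (allL N77399 (tt N49186 F353748) (tt N48843 F353749) (tt N49187 F353750) (tt N110377 (iv3 F471300)) (tt N43804 F242551) (tt N85855 (iv5 F374229)) (tt N43802 (iv6 D154512)) (tt N49188 F353751))
theorem Q77401 : ∀ i, i < 77401 → P i := stepQ 77400 Q77400 (allL N77400 (tt N85145 F374208) (tt N110378 D213616) (tt N88456 (iv2 F383123)) (tt N78764 (iv3 F362839)) (tt N85850 F374207) (tt N43804 (iv5 D154515)) (tt N49031 F312621) (tt N110379 D213617))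
theorem Q77402 : ∀ i, i < 77402 → P i := stepQ 77401 Q77401 (allL N77401 (tt N49095 F312622) (tt N48823 F312623) (tt N49093 F312624) (tt N110373 (iv3 F471287)) (tt N49188 F353752) (tt N110379 (iv5 F471311)) (tt N77162 F353753) (tt N43804 (iv7 D154516)))
theorem Q77403 : ∀ i, i < 77403 → P i := stepQ 77402 Q77402 (allL N77402 (tt N110380 D213618) (tt N110381 D213619) (tt N110382 D213620) (tt N43805 (iv3 D154518)) (tt N90818 (iv4 F390971)) (tt N109331 (iv5 F466415)) (tt N77158 (iv6 F358576)) (tt N110250 (iv7 F470635)))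
theorem Q77404 : ∀ i, i < 77404 → P i := stepQ 77403 Q77403 (allL N77403 (tt N54590 (iv1 F364815)) (tt N110383 D213621) (tt N110384 D213622) (tt N43806 (iv3 D154521)) (tt N91148 (iv4 F392079)) (tt N89585 (iv5 F386833)) (tt N54608 (iv6 F372793)) (tt N77390 (iv7 F353729)))
theorem Q77405 : ∀ i, i < 77405 → P i := stepQ 77404 Q77404 (allL N77404 (tt N110385 D213623) (tt N43807 (iv0 D154523)) (tt N110386 D213624) (tt N110387 D213625) (tt N110388 D213626) (tt N96271 F450538) (tt N77143 (iv6 F450539)) (tt N110389 D213627))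
theorem Q77406 : ∀ i, i < 77406 → P i := stepQ 77405 Q77405 (allL N77405 (tt N43807 (iv1 D154524)) (tt N110385 F471344) (tt N110389 (iv2 F471357)) (tt N110390 D213628) (tt N110391 D213629) (tt N96270 (iv5 F448941)) (tt N110392 D213630) (tt N110386 F471347))
theorem Q77407 : ∀ i, i < 77407 → P i := stepQ 77406 Q77406 (allL N77406 (tt N110386 F471348) (tt N110389 F471358) (tt N43807 (iv2 D154525)) (tt N72479 F349426) (tt N101465 (iv4 F433039)) (tt N72478 (iv5 F349427)) (tt N105667 F451169) (tt N110385 (iv7 F471343)))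
theorem Q77408 : ∀ i, i < 77408 → P i := stepQ 77407 Q77407 (allL N77407 (tt N95934 F450768) (tt N110393 D213631) (tt N72478 F349415) (tt N43808 F242554) (tt N98833 (iv4 F422501)) (tt N43807 (iv5 D154526)) (tt N98832 F422499) (tt N109270 (iv7 F466101)))
theorem Q77409 : ∀ i, i < 77409 → P i := stepQ 77408 Q77408 (allL N77408 (tt N110389 (iv1 F471359)) (tt N110386 F471349) (tt N110385 F471340) (tt N43809 F242555) (tt N101434 (iv4 F432967)) (tt N109270 (iv5 F466099)) (tt N110394 D213632) (tt N43807 (iv7 D154527)))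
theorem Q77410 : ∀ i, i < 77410 → P i := stepQ 77409 Q77409 (allL N77409 (tt N105114 (iv1 F448861)) (tt N89977 (iv0 F388172)) (tt N105521 F450569) (tt N98832 (iv3 F422496)) (tt N94036 F402914) (tt N48649 F358597) (tt N43808 (iv6 D154528)) (tt N97374 (iv7 F416583)))
theorem Q77411 : ∀ i, i < 77411 → P i := stepQ 77410 Q77410 (allL N77410 (tt N77367 F357263) (tt N83355 (iv0 F357266)) (tt N109321 (iv2 F466374)) (tt N110394 (iv3 F471376)) (tt N43810 F242556) (tt N54233 (iv5 F357264)) (tt N43809 (iv6 D154529)) (tt N110355 (iv7 F471205)))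
theorem Q77412 : ∀ i, i < 77412 → P i := stepQ 77411 Q77411 (allL N77411 (tt N90887 (iv1 F391158)) (tt N43810 (iv0 D154530)) (tt N90888 (iv2 F391172)) (tt N90140 (iv3 F388663)) (tt N110395 D213633) (tt N89323 (iv5 F386099)) (tt N77368 F358592) (tt N49074 F358593))
theorem Q77413 : ∀ i, i < 77413 → P i := stepQ 77412 Q77412 (allL N77412 (tt N67016 (iv1 F242571)) (tt N63536 (iv0 F305721)) (tt N43811 (iv2 D154536)) (tt N67010 F242565) (tt N43821 F242566) (tt N107102 (iv5 F456979)) (tt N79498 F351792) (tt N67017 F242567))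
theorem Q77414 : ∀ i, i < 77414 → P i := stepQ 77413 Q77413 (allL N77413 (tt N82054 F365672) (tt N81068 (iv0 F365298)) (tt N107102 (iv2 F456975)) (tt N43812 F242574) (tt N54340 (iv4 F357886)) (tt N43811 (iv5 D154537)) (tt N54339 F357884) (tt N67018 F242575))
theorem Q77415 : ∀ i, i < 77415 → P i := stepQ 77414 Q77414 (allL N77414 (tt N43812 (iv1 D154539)) (tt N66917 F242578) (tt N67013 (iv2 F242580)) (tt N77753 F361637) (tt N55004 (iv4 F340387)) (tt N102986 (iv5 F439553)) (tt N55003 (iv6 F361638)) (tt N67012 F242579))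
theorem Q77416 : ∀ i, i < 77416 → P i := stepQ 77415 Q77415 (allL N77415 (tt N103147 (iv1 F440296)) (tt N55064 F365671) (tt N67014 F242581) (tt N54362 F357907) (tt N43812 (iv4 D154540)) (tt N88166 (iv5 F381981)) (tt N54360 (iv6 F357908)) (tt N67019 F242582))
theorem Q77417 : ∀ i, i < 77417 → P i := stepQ 77416 Q77416 (allL N77416 (tt N110396 D213634) (tt N66445 (iv0 F382340)) (tt N66493 (iv2 F357889)) (tt N54339 (iv3 F357885)) (tt N54360 F357909) (tt N109600 (iv5 F467669)) (tt N43812 (iv6 D154541)) (tt N110397 D213635))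
theorem Q77418 : ∀ i, i < 77418 → P i := stepQ 77417 Q77417 (allL N77417 (tt N55213 (iv1 F335118)) (tt N65237 (iv0 F242596)) (tt N77509 (iv2 F243412)) (tt N44035 F242593) (tt N52465 F361114) (tt N75327 F242594) (tt N43814 (iv6 D154544)) (tt N75246 F242595))
theorem Q77419 : ∀ i, i < 77419 → P i := stepQ 77418 Q77418 (allL N77418 (tt N109499 (iv1 F467283)) (tt N89455 (iv0 F386558)) (tt N104135 (iv2 F444363)) (tt N43819 F242629) (tt N110398 D213636) (tt N43818 (iv5 D154557)) (tt N110399 D213637) (tt N101738 (iv7 F434114)))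
theorem Q77420 : ∀ i, i < 77420 → P i := stepQ 77419 Q77419 (allL N77419 (tt N77160 F242632) (tt N77159 F242633) (tt N77391 F242630) (tt N110400 D213638) (tt N43819 (iv4 D154558)) (tt N83317 (iv5 F337993)) (tt N110401 D213639) (tt N77392 F242631))
theorem Q77421 : ∀ i, i < 77421 → P i := stepQ 77420 Q77420 (allL N77420 (tt N83494 F394237) (tt N83065 (iv0 F366845)) (tt N83492 F366810) (tt N110399 (iv3 F471401)) (tt N110401 (iv4 F471407)) (tt N101764 (iv5 F434244)) (tt N43819 (iv6 D154559)) (tt N83493 (iv7 F366812)))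
theorem Q77422 : ∀ i, i < 77422 → P i := stepQ 77421 Q77421 (allL N77421 (tt N90821 (iv1 F390975)) (tt N90819 (iv0 F390972)) (tt N91138 (iv2 F392057)) (tt N101095 (iv3 F431649)) (tt N88425 (iv4 F382988)) (tt N43820 (iv5 D154562)) (tt N91163 (iv6 F392118)) (tt N84728 F370381))
theorem Q77423 : ∀ i, i < 77423 → P i := stepQ 77422 Q77422 (allL N77422 (tt N110252 (iv1 F470642)) (tt N90629 F421381) (tt N43822 F242638) (tt N89645 (iv3 F387069)) (tt N83396 F387064) (tt N43821 (iv5 D154569)) (tt N110402 D213640) (tt N89644 (iv7 F387065)))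
theorem Q77424 : ∀ i, i < 77424 → P i := stepQ 77423 Q77423 (allL N77423 (tt N81197 F351793) (tt N81196 F342332) (tt N43823 F242639) (tt N53083 F351789) (tt N79498 (iv4 F351791)) (tt N110403 D213641) (tt N43821 (iv6 D154570)) (tt N53080 (iv7 F351790)))
theorem Q77425 : ∀ i, i < 77425 → P i := stepQ 77424 Q77424 (allL N77424 (tt N89644 (iv1 F387067)) (tt N43822 (iv0 D154571)) (tt N110252 (iv2 F470645)) (tt N101501 (iv3 F433179)) (tt N110404 D213642) (tt N109772 (iv5 F468540)) (tt N83057 (iv6 F483461)) (tt N90629 F421428))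
theorem Q77426 : ∀ i, i < 77426 → P i := stepQ 77425 Q77425 (allL N77425 (tt N43822 (iv1 D154572)) (tt N89644 F387066) (tt N90629 (iv2 F421426)) (tt N110405 D213644) (tt N81921 (iv4 F421427)) (tt N110406 D213645) (tt N81390 F421425) (tt N110252 (iv7 F470643)))
theorem Q77427 : ∀ i, i < 77427 → P i := stepQ 77426 Q77426 (allL N77426 (tt N90626 (iv1 F390318)) (tt N81388 (iv0 F368371)) (tt N83396 (iv2 F387063)) (tt N110407 D213646) (tt N43822 (iv4 D154573)) (tt N90822 (iv5 F390977)) (tt N110408 D213647) (tt N90625 (iv7 F390312)))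
theorem Q77428 : ∀ i, i < 77428 → P i := stepQ 77427 Q77427 (allL N77427 (tt N100273 F428196) (tt N110409 D213648) (tt N110402 (iv2 F471411)) (tt N43827 F242640) (tt N110408 (iv4 F471437)) (tt N100268 (iv5 F428183)) (tt N43822 (iv6 D154574)) (tt N83468 (iv7 F359650)))
theorem Q77429 : ∀ i, i < 77429 → P i := stepQ 77428 Q77428 (allL N77428 (tt N47807 F339164) (tt N110410 D213649) (tt N110403 (iv2 F471414)) (tt N43829 F242641) (tt N90558 (iv4 F390097)) (tt N43823 (iv5 D154577)) (tt N100268 F428180) (tt N82869 F363870))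
theorem Q77430 : ∀ i, i < 77430 → P i := stepQ 77429 Q77429 (allL N77429 (tt N82955 F366779) (tt N109498 (iv0 F467281)) (tt N109484 (iv2 F467202)) (tt N43824 (iv3 D154579)) (tt N110411 D213650) (tt N77067 F242643) (tt N83054 F364036) (tt N109509 (iv7 F467303)))
theorem Q77431 : ∀ i, i < 77431 → P i := stepQ 77430 Q77430 (allL N77430 (tt N64002 F242656) (tt N55339 (iv0 F307365)) (tt N75469 F242653) (tt N107097 (iv3 F456952)) (tt N83302 (iv4 F337997)) (tt N43825 (iv5 D154584)) (tt N77065 (iv6 F242657)) (tt N75470 F242654))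
theorem Q77432 : ∀ i, i < 77432 → P i := stepQ 77431 Q77431 (allL N77431 (tt N77359 (iv1 F377737)) (tt N77351 (iv0 F365548)) (tt N83432 (iv2 F364038)) (tt N105287 (iv3 F449565)) (tt N83311 F366797) (tt N82996 (iv5 F365547)) (tt N43825 (iv6 D154585)) (tt N83056 F364041))
theorem Q77433 : ∀ i, i < 77433 → P i := stepQ 77432 Q77432 (allL N77432 (tt N83032 F458963) (tt N110412 D213651) (tt N110413 D213652) (tt N43826 (iv3 D154586)) (tt N110407 (iv4 F471436)) (tt N109320 (iv5 F466370)) (tt N110414 D213653) (tt N83402 (iv7 F364100)))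
theorem Q77434 : ∀ i, i < 77434 → P i := stepQ 77433 Q77433 (allL N77433 (tt N109896 F469121) (tt N83456 F364099) (tt N83405 F364097) (tt N110414 (iv3 F471460)) (tt N43827 F242658) (tt N110415 D213654) (tt N43826 (iv6 D154587)) (tt N83470 (iv7 F359651)))
theorem Q77435 : ∀ i, i < 77435 → P i := stepQ 77434 Q77434 (allL N77434 (tt N83060 (iv1 F359653)) (tt N43827 (iv0 D154588)) (tt N83472 F452584) (tt N110416 D213655) (tt N83451 F394230) (tt N110417 D213656) (tt N110418 D213657) (tt N83471 F452582))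
theorem Q77436 : ∀ i, i < 77436 → P i := stepQ 77435 Q77435 (allL N77435 (tt N43827 (iv1 D154589)) (tt N83060 (iv0 F359646)) (tt N83471 (iv2 F452581)) (tt N70865 F338919) (tt N83450 F384919) (tt N70863 (iv5 F338918)) (tt N83450 (iv6 F359645)) (tt N83472 (iv7 F452583)))
theorem Q77437 : ∀ i, i < 77437 → P i := stepQ 77436 Q77436 (allL N77436 (tt N102673 F438157) (tt N99361 F424279) (tt N86162 (iv2 F375250)) (tt N100268 F428182) (tt N86159 F375246) (tt N43827 (iv5 D154590)) (tt N43829 F242659) (tt N55366 (iv7 F359652)))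
theorem Q77438 : ∀ i, i < 77438 → P i := stepQ 77437 Q77437 (allL N77437 (tt N43829 (iv1 D154595)) (tt N55333 (iv0 F308293)) (tt N76931 (iv2 F242669)) (tt N95507 (iv3 F408404)) (tt N54164 (iv4 F366816)) (tt N76896 F242668) (tt N95505 F408395) (tt N76895 F242667))
theorem Q77439 : ∀ i, i < 77439 → P i := stepQ 77438 Q77438 (allL N77438 (tt N76921 F242671) (tt N78351 F248369) (tt N77472 (iv2 F242855)) (tt N95791 (iv3 F409669)) (tt N43829 (iv4 D154596)) (tt N75510 F242670) (tt N86159 (iv6 F375245)) (tt N78350 F248366))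
theorem Q77440 : ∀ i, i < 77440 → P i := stepQ 77439 Q77439 (allL N77439 (tt N110419 D213658) (tt N98457 (iv0 F420957)) (tt N94087 (iv2 F403141)) (tt N43830 (iv3 D154598)) (tt N77136 (iv4 F355103)) (tt N94082 F403125) (tt N75017 (iv6 F360237)) (tt N101295 (iv7 F432572)))
theorem Q77441 : ∀ i, i < 77441 → P i := stepQ 77440 Q77440 (allL N77440 (tt N75305 F242678) (tt N75309 F242679) (tt N75432 F242676) (tt N94082 (iv3 F403124)) (tt N83406 (iv4 F352347)) (tt N43830 (iv5 D154599)) (tt N48105 F336313) (tt N75431 F242677))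
theorem Q77442 : ∀ i, i < 77442 → P i := stepQ 77441 Q77441 (allL N77441 (tt N80533 F342210) (tt N66296 F362041) (tt N94093 (iv2 F403172)) (tt N43832 (iv3 D154601)) (tt N44016 F242686) (tt N94041 (iv5 F402936)) (tt N99560 (iv6 F425163)) (tt N74354 F362039))
theorem Q77443 : ∀ i, i < 77443 → P i := stepQ 77442 Q77442 (allL N77442 (tt N75309 F242689) (tt N75305 F242690) (tt N75431 F242687) (tt N94041 (iv3 F402934)) (tt N51206 (iv4 F336314)) (tt N43832 (iv5 D154602)) (tt N44077 F336310) (tt N75432 F242688))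
theorem Q77444 : ∀ i, i < 77444 → P i := stepQ 77443 Q77443 (allL N77443 (tt N75319 F242693) (tt N75322 F242694) (tt N75464 F242691) (tt N79441 F363178) (tt N83310 (iv4 F337996)) (tt N43834 (iv5 D154604)) (tt N110420 D213659) (tt N75463 F242692))
theorem Q77445 : ∀ i, i < 77445 → P i := stepQ 77444 Q77444 (allL N77444 (tt N99558 F425153) (tt N78336 (iv0 F355530)) (tt N108443 (iv2 F462590)) (tt N79442 F363179) (tt N82337 F280373) (tt N75344 (iv5 F242695)) (tt N43834 (iv6 D154605)) (tt N109022 (iv7 F464976)))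
theorem Q77446 : ∀ i, i < 77446 → P i := stepQ 77445 Q77445 (allL N77445 (tt N75322 F242704) (tt N75319 (iv0 F242705)) (tt N75463 F242702) (tt N77720 (iv3 F353766)) (tt N55099 (iv4 F353758)) (tt N43835 (iv5 D154608)) (tt N51208 F353764) (tt N75464 F242703))
theorem Q77447 : ∀ i, i < 77447 → P i := stepQ 77446 Q77446 (allL N77446 (tt N43836 (iv1 D154610)) (tt N96982 F414917) (tt N48126 F359973) (tt N101230 (iv3 F432319)) (tt N87283 (iv4 F378974)) (tt N75681 F359974) (tt N48122 F359975) (tt N109021 (iv7 F464970)))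
theorem Q77448 : ∀ i, i < 77448 → P i := stepQ 77447 Q77447 (allL N77447 (tt N109021 F464972) (tt N48126 F347845) (tt N43836 (iv2 D154611)) (tt N61063 (iv3 F347847)) (tt N51903 F347846) (tt N100372 (iv5 F428648)) (tt N51902 (iv6 F347848)) (tt N96982 (iv7 F414916)))
theorem Q77449 : ∀ i, i < 77449 → P i := stepQ 77448 Q77448 (allL N77448 (tt N102261 F436433) (tt N95638 (iv0 F408979)) (tt N100372 (iv2 F428646)) (tt N43837 F242706) (tt N110421 D213660) (tt N43836 (iv5 D154612)) (tt N47967 F359979) (tt N102259 (iv7 F436418)))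
theorem Q77450 : ∀ i, i < 77450 → P i := stepQ 77449 Q77449 (allL N77449 (tt N79448 F343428) (tt N110422 D213661) (tt N47190 F343429) (tt N47967 F343430) (tt N109319 (iv4 F466366)) (tt N47179 F343431) (tt N43837 (iv6 D154614)) (tt N47192 F343432))
theorem Q77451 : ∀ i, i < 77451 → P i := stepQ 77450 Q77450 (allL N77450 (tt N72310 F345682) (tt N62374 (iv0 F344011)) (tt N73340 (iv2 F344018)) (tt N56129 F344015) (tt N43839 (iv4 D154619)) (tt N99615 (iv5 F425429)) (tt N56128 F350154) (tt N73577 (iv7 F350152)))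
theorem Q77452 : ∀ i, i < 77452 → P i := stepQ 77451 Q77451 (allL N77451 (tt N103582 (iv1 F442123)) (tt N100076 (iv0 F427451)) (tt N43846 F242712) (tt N64467 (iv3 F306327)) (tt N79909 F349324) (tt N43841 (iv5 D154620)) (tt N69824 F338472) (tt N75862 F242713))
theorem Q77453 : ∀ i, i < 77453 → P i := stepQ 77452 Q77452 (allL N77452 (tt N43845 (iv1 D154627)) (tt N80545 F268351) (tt N94145 (iv2 F403415)) (tt N64455 F361520) (tt N81369 (iv4 F348239)) (tt N110423 D213662) (tt N94143 F403411) (tt N86466 F376315))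
theorem Q77454 : ∀ i, i < 77454 → P i := stepQ 77453 Q77453 (allL N77453 (tt N86466 F376313) (tt N94145 (iv0 F403418)) (tt N43845 (iv2 D154628)) (tt N54122 F242740) (tt N43854 F242741) (tt N110424 D213663) (tt N47836 F306375) (tt N80545 (iv7 F268350)))
theorem Q77455 : ∀ i, i < 77455 → P i := stepQ 77454 Q77454 (allL N77454 (tt N85983 (iv1 F374744)) (tt N110425 D213664) (tt N110424 (iv2 F471513)) (tt N43846 F242742) (tt N49233 F349300) (tt N43845 (iv5 D154629)) (tt N71803 F359674) (tt N50942 F349301))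
theorem Q77456 : ∀ i, i < 77456 → P i := stepQ 77455 Q77455 (allL N77455 (tt N75862 (iv1 F242745)) (tt N43846 (iv0 D154631)) (tt N103582 (iv2 F442117)) (tt N64672 (iv3 F338732)) (tt N76766 F338731) (tt N100077 (iv5 F427456)) (tt N76765 (iv6 F338733)) (tt N100076 F427453))
theorem Q77457 : ∀ i, i < 77457 → P i := stepQ 77456 Q77456 (allL N77456 (tt N43846 (iv1 D154632)) (tt N75862 F242746) (tt N100076 (iv2 F427447)) (tt N54257 (iv3 F352203)) (tt N101716 (iv4 F434016)) (tt N76996 (iv5 F242747)) (tt N71794 F373064) (tt N103582 (iv7 F442121)))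
theorem Q77458 : ∀ i, i < 77458 → P i := stepQ 77457 Q77457 (allL N77457 (tt N75474 (iv1 F242765)) (tt N75316 F242766) (tt N75478 F242760) (tt N69662 (iv3 F313524)) (tt N101135 (iv4 F431858)) (tt N43848 (iv5 D154639)) (tt N77003 (iv6 F242762)) (tt N75477 F242761))
theorem Q77459 : ∀ i, i < 77459 → P i := stepQ 77458 Q77458 (allL N77458 (tt N91149 (iv1 F392091)) (tt N91150 (iv0 F392095)) (tt N110251 (iv2 F470636)) (tt N47823 F305180) (tt N110426 D213665) (tt N43853 (iv5 D154650)) (tt N110427 D213666) (tt N47850 F305181))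
theorem Q77460 : ∀ i, i < 77460 → P i := stepQ 77459 Q77459 (allL N77459 (tt N89645 (iv1 F387073)) (tt N43855 (iv0 D154653)) (tt N47857 F338099) (tt N52930 F338100) (tt N83030 F364217) (tt N110428 D213667) (tt N90630 F418873) (tt N83438 (iv7 F421391)))
theorem Q77461 : ∀ i, i < 77461 → P i := stepQ 77460 Q77460 (allL N77460 (tt N43855 (iv1 D154654)) (tt N89645 F387072) (tt N83438 (iv2 F421387)) (tt N47825 F338101) (tt N110429 D213668) (tt N64321 F338102) (tt N83434 F421398) (tt N47857 F338103))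
theorem Q77462 : ∀ i, i < 77462 → P i := stepQ 77461 Q77461 (allL N77461 (tt N54611 (iv1 F368567)) (tt N52736 F368569) (tt N54614 F368565) (tt N43856 (iv3 D154660)) (tt N87052 (iv4 F378192)) (tt N109318 (iv5 F466359)) (tt N83075 F366808) (tt N54615 (iv7 F368564)))
theorem Q77463 : ∀ i, i < 77463 → P i := stepQ 77462 Q77462 (allL N77462 (tt N43857 (iv1 D154671)) (tt N61063 F352367) (tt N61476 F352416) (tt N71155 F352362) (tt N61468 (iv4 F352405)) (tt N71153 (iv5 F352361)) (tt N99578 (iv6 F425255)) (tt N61479 (iv7 F352398)))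
theorem Q77464 : ∀ i, i < 77464 → P i := stepQ 77463 Q77463 (allL N77463 (tt N61479 (iv1 F352375)) (tt N61476 F352418) (tt N43857 (iv2 D154672)) (tt N96982 (iv3 F414914)) (tt N50758 (iv4 F352364)) (tt N71609 F352360) (tt N47569 F352363) (tt N61063 (iv7 F352365)))
theorem Q77465 : ∀ i, i < 77465 → P i := stepQ 77464 Q77464 (allL N77464 (tt N75514 F242838) (tt N75517 F242839) (tt N63189 F242835) (tt N50845 F339904) (tt N57198 (iv4 F322065)) (tt N43860 (iv5 D154683)) (tt N93749 (iv6 F401756)) (tt N51071 (iv7 F339903)))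
theorem Q77466 : ∀ i, i < 77466 → P i := stepQ 77465 Q77465 (allL N77465 (tt N77041 (iv1 F242842)) (tt N43861 (iv0 D154685)) (tt N77040 F399021) (tt N110430 D213669) (tt N93529 (iv4 F401047)) (tt N92984 (iv5 F399018)) (tt N93528 F401045) (tt N77039 F399022))
theorem Q77467 : ∀ i, i < 77467 → P i := stepQ 77466 Q77466 (allL N77466 (tt N43861 (iv1 D154686)) (tt N77041 F242846) (tt N77039 (iv2 F399023)) (tt N99330 (iv3 F424128)) (tt N93563 (iv4 F401147)) (tt N110431 D213670) (tt N107837 F459941) (tt N77040 (iv7 F399024)))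
theorem Q77468 : ∀ i, i < 77468 → P i := stepQ 77467 Q77467 (allL N77467 (tt N77040 (iv1 F242847)) (tt N77039 F242845) (tt N43861 (iv2 D154687)) (tt N109343 (iv3 F466479)) (tt N102316 F436701) (tt N50296 F242843) (tt N110432 D213671) (tt N77041 F242844))
theorem Q77469 : ∀ i, i < 77469 → P i := stepQ 77468 Q77468 (allL N77468 (tt N110050 F469736) (tt N110433 D213672) (tt N110432 (iv2 F471558)) (tt N43863 F242848) (tt N106785 (iv4 F455674)) (tt N51047 F242849) (tt N43861 (iv6 D154688)) (tt N110434 D213673))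
theorem Q77470 : ∀ i, i < 77470 → P i := stepQ 77469 Q77469 (allL N77469 (tt N43862 (iv1 D154689)) (tt N43868 F242850) (tt N63185 (iv2 F242853)) (tt N50831 F349173) (tt N63198 (iv4 F242854)) (tt N43872 F242852) (tt N110435 D213674) (tt N51035 (iv7 F339952)))
theorem Q77471 : ∀ i, i < 77471 → P i := stepQ 77470 Q77470 (allL N77470 (tt N109346 (iv1 F466503)) (tt N43863 (iv0 D154690)) (tt N109345 F466493) (tt N62568 (iv3 F351884)) (tt N62569 (iv4 F318152)) (tt N54158 F344021) (tt N99637 (iv6 F425531)) (tt N74012 (iv7 F320349)))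
theorem Q77472 : ∀ i, i < 77472 → P i := stepQ 77471 Q77471 (allL N77471 (tt N43863 (iv1 D154691)) (tt N109346 F466502) (tt N74012 (iv2 F320348)) (tt N110436 D213675) (tt N66906 F248078) (tt N54151 F344022) (tt N99322 (iv6 F424091)) (tt N109345 (iv7 F466494)))
theorem Q77473 : ∀ i, i < 77473 → P i := stepQ 77472 Q77472 (allL N77472 (tt N44572 (iv1 F242859)) (tt N54162 F360575) (tt N77438 F242855) (tt N51047 F242856) (tt N77176 F242858) (tt N43863 (iv5 D154692)) (tt N51044 F242857) (tt N91706 (iv7 F394112)))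
theorem Q77474 : ∀ i, i < 77474 → P i := stepQ 77473 Q77473 (allL N77473 (tt N74012 (iv1 F320347)) (tt N109345 F466495) (tt N109346 (iv2 F466497)) (tt N110434 (iv3 F471573)) (tt N43866 F242860) (tt N91706 (iv5 F394110)) (tt N76175 F242861) (tt N43863 (iv7 D154693)))
theorem Q77475 : ∀ i, i < 77475 → P i := stepQ 77474 Q77474 (allL N77474 (tt N90208 (iv1 F388905)) (tt N90283 F389222) (tt N79615 (iv2 F366791)) (tt N93363 (iv3 F400532)) (tt N43864 (iv4 D154695)) (tt N93362 F400529) (tt N101777 (iv6 F434297)) (tt N90282 (iv7 F389214)))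
theorem Q77476 : ∀ i, i < 77476 → P i := stepQ 77475 Q77475 (allL N77475 (tt N47747 (iv1 F309637)) (tt N47680 (iv0 F309634)) (tt N47746 (iv2 F309642)) (tt N77618 (iv3 F309667)) (tt N48473 F310914) (tt N43864 (iv5 D154696)) (tt N78308 F247951) (tt N46552 F307656))
theorem Q77477 : ∀ i, i < 77477 → P i := stepQ 77476 Q77476 (allL N77476 (tt N90283 (iv1 F389223)) (tt N90208 (iv0 F388906)) (tt N90282 F389213) (tt N65851 F366127) (tt N43865 (iv4 D154698)) (tt N106933 (iv5 F456337)) (tt N73133 (iv6 F360591)) (tt N79615 (iv7 F366128)))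
theorem Q77478 : ∀ i, i < 77478 → P i := stepQ 77477 Q77477 (allL N77477 (tt N109343 (iv1 F466483)) (tt N43867 (iv0 D154699)) (tt N109342 F466478) (tt N97036 F415139) (tt N110437 D213676) (tt N110438 D213677) (tt N97035 (iv6 F415140)) (tt N107792 (iv7 F459744)))
theorem Q77479 : ∀ i, i < 77479 → P i := stepQ 77478 Q77478 (allL N77478 (tt N43867 (iv1 D154700)) (tt N109343 F466484) (tt N107792 (iv2 F459742)) (tt N102721 (iv3 F438356)) (tt N102730 (iv4 F438390)) (tt N110439 D213678) (tt N99319 (iv6 F454439)) (tt N109342 (iv7 F466475)))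
theorem Q77480 : ∀ i, i < 77480 → P i := stepQ 77479 Q77479 (allL N77479 (tt N109342 F466477) (tt N107792 (iv0 F459746)) (tt N43867 (iv2 D154701)) (tt N77041 F242866) (tt N110085 (iv4 F469918)) (tt N98197 (iv5 F419935)) (tt N110440 D213679) (tt N109343 (iv7 F466482)))
theorem Q77481 : ∀ i, i < 77481 → P i := stepQ 77480 Q77480 (allL N77480 (tt N110441 D213680) (tt N110442 D213681) (tt N98197 (iv2 F419933)) (tt N43868 F242867) (tt N110443 D213682) (tt N43867 (iv5 D154702)) (tt N88956 (iv6 F384598)) (tt N77128 F242868))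
theorem Q77482 : ∀ i, i < 77482 → P i := stepQ 77481 Q77481 (allL N77481 (tt N110444 D213683) (tt N110445 D213684) (tt N110440 (iv2 F471595)) (tt N43869 F242869) (tt N110081 (iv4 F469888)) (tt N110446 D213685) (tt N43867 (iv6 D154703)) (tt N110447 D213686))
theorem Q77483 : ∀ i, i < 77483 → P i := stepQ 77482 Q77482 (allL N77482 (tt N110448 D213687) (tt N110449 D213688) (tt N77042 F242870) (tt N88956 F384597) (tt N77131 F242871) (tt N110450 D213689) (tt N43868 (iv6 D154704)) (tt N95198 (iv7 F407374)))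
theorem Q77484 : ∀ i, i < 77484 → P i := stepQ 77483 Q77483 (allL N77483 (tt N76175 (iv1 F242875)) (tt N43869 (iv0 D154705)) (tt N63182 (iv2 F242872)) (tt N110451 D213690) (tt N63181 F242873) (tt N108157 (iv5 F461329)) (tt N80410 (iv6 F366681)) (tt N66887 F242874))
theorem Q77485 : ∀ i, i < 77485 → P i := stepQ 77484 Q77484 (allL N77484 (tt N73485 F366266) (tt N73505 (iv0 F321275)) (tt N73503 (iv2 F322941)) (tt N110446 (iv3 F471622)) (tt N88010 (iv4 F381468)) (tt N43869 (iv5 D154706)) (tt N110450 (iv6 F471647)) (tt N73502 F366253))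
theorem Q77486 : ∀ i, i < 77486 → P i := stepQ 77485 Q77485 (allL N77485 (tt N66887 (iv1 F242880)) (tt N63182 F242881) (tt N76175 F242878) (tt N110447 (iv3 F471624)) (tt N43871 F242879) (tt N73502 (iv5 F366252)) (tt N109346 (iv6 F466501)) (tt N43869 (iv7 D154707)))
theorem Q77487 : ∀ i, i < 77487 → P i := stepQ 77486 Q77486 (allL N77486 (tt N43873 (iv1 D154710)) (tt N98199 F419950) (tt N98202 (iv2 F419969)) (tt N96713 (iv3 F413576)) (tt N56872 (iv4 F361660)) (tt N50979 (iv5 F242890)) (tt N56870 F361662) (tt N98173 (iv7 F419844)))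
theorem Q77488 : ∀ i, i < 77488 → P i := stepQ 77487 Q77487 (allL N77487 (tt N98173 (iv1 F419847)) (tt N98202 F419974) (tt N43873 (iv2 D154711)) (tt N109351 (iv3 F466521)) (tt N109632 (iv4 F467847)) (tt N86034 F374969) (tt N110452 D213691) (tt N98199 (iv7 F419949)))
theorem Q77489 : ∀ i, i < 77489 → P i := stepQ 77488 Q77488 (allL N77488 (tt N85097 (iv1 F371620)) (tt N85085 (iv0 F371591)) (tt N86034 (iv2 F374967)) (tt N43874 F242888) (tt N61295 F242889) (tt N43873 (iv5 D154712)) (tt N59580 F412065) (tt N86036 (iv7 F374973)))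
theorem Q77490 : ∀ i, i < 77490 → P i := stepQ 77489 Q77489 (allL N77489 (tt N110453 D213692) (tt N110454 D213693) (tt N110452 (iv2 F471657)) (tt N43875 F242892) (tt N109633 (iv4 F467853)) (tt N107895 (iv5 F460157)) (tt N43873 (iv6 D154713)) (tt N87904 (iv7 F381063)))
theorem Q77491 : ∀ i, i < 77491 → P i := stepQ 77490 Q77490 (allL N77490 (tt N59628 (iv1 F394328)) (tt N106937 (iv0 F456357)) (tt N109354 (iv2 F466535)) (tt N59580 (iv3 F412063)) (tt N93764 (iv4 F401817)) (tt N60455 F350079) (tt N43874 (iv6 D154714)) (tt N110455 D213694))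
theorem Q77492 : ∀ i, i < 77492 → P i := stepQ 77491 Q77491 (allL N77491 (tt N46531 F314541) (tt N43875 (iv0 D154715)) (tt N80089 (iv2 F350084)) (tt N62567 (iv3 F359313)) (tt N44906 F314542) (tt N80551 F359314) (tt N62565 F359315) (tt N80088 F350085))
theorem Q77493 : ∀ i, i < 77493 → P i := stepQ 77492 Q77492 (allL N77492 (tt N43875 (iv1 D154716)) (tt N46531 F350080) (tt N80088 (iv2 F350082)) (tt N88505 (iv3 F383312)) (tt N47697 F350081) (tt N88504 F383310) (tt N107935 (iv6 F460362)) (tt N80089 (iv7 F350083)))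
theorem Q77494 : ∀ i, i < 77494 → P i := stepQ 77493 Q77493 (allL N77493 (tt N72218 F350072) (tt N101008 F431245) (tt N87907 (iv2 F381077)) (tt N107895 (iv3 F460155)) (tt N46537 F350073) (tt N43875 (iv5 D154717)) (tt N60455 (iv6 F350074)) (tt N87905 (iv7 F381065)))
theorem Q77495 : ∀ i, i < 77495 → P i := stepQ 77494 Q77494 (allL N77494 (tt N46183 F312871) (tt N43888 F248065) (tt N81695 F312872) (tt N96446 F412559) (tt N43876 (iv4 D154719)) (tt N107203 (iv5 F457442)) (tt N90274 (iv6 F389184)) (tt N81694 F312873))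
theorem Q77496 : ∀ i, i < 77496 → P i := stepQ 77495 Q77495 (allL N77495 (tt N43888 F315265) (tt N46183 F312868) (tt N81694 F312869) (tt N63541 F350964) (tt N43877 (iv4 D154720)) (tt N103917 (iv5 F443365)) (tt N74610 (iv6 F350062)) (tt N81695 F312870))
theorem Q77497 : ∀ i, i < 77497 → P i := stepQ 77496 Q77496 (allL N77496 (tt N57588 F366397) (tt N110456 D213695) (tt N110457 D213696) (tt N43878 (iv3 D154723)) (tt N43880 F242902) (tt N110458 D213697) (tt N110459 D213698) (tt N76047 F242903))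
theorem Q77498 : ∀ i, i < 77498 → P i := stepQ 77497 Q77497 (allL N77497 (tt N74505 F242907) (tt N74507 F242908) (tt N76051 F242904) (tt N110458 (iv3 F471682)) (tt N76048 F242906) (tt N43878 (iv5 D154724)) (tt N110460 D213699) (tt N76048 F242905))
theorem Q77499 : ∀ i, i < 77499 → P i := stepQ 77498 Q77498 (allL N77498 (tt N73404 F364291) (tt N69704 (iv0 F336185)) (tt N73818 (iv2 F340741)) (tt N110459 (iv3 F471685)) (tt N43879 F242910) (tt N72489 (iv5 F340719)) (tt N43878 (iv6 D154725)) (tt N73819 F363485))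
theorem Q77500 : ∀ i, i < 77500 → P i := stepQ 77499 Q77499 (allL N77499 (tt N109351 (iv1 F466524)) (tt N43880 (iv0 D154728)) (tt N109350 (iv2 F466518)) (tt N70235 F372083) (tt N94363 (iv4 F404139)) (tt N110441 (iv5 F471609)) (tt N70232 (iv6 F372084)) (tt N109349 F466515))
theorem Q77501 : ∀ i, i < 77501 → P i := stepQ 77500 Q77500 (allL N77500 (tt N43880 (iv1 D154729)) (tt N109351 F466525) (tt N109349 F466514) (tt N89600 (iv3 F392908)) (tt N110461 D213700) (tt N110442 F471604) (tt N110462 D213701) (tt N109350 (iv7 F466516)))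
theorem Q77502 : ∀ i, i < 77502 → P i := stepQ 77501 Q77501 (allL N77501 (tt N109350 (iv1 F466520)) (tt N109349 F466513) (tt N43880 (iv2 D154730)) (tt N98199 (iv3 F419948)) (tt N110457 (iv4 F471678)) (tt N98295 (iv5 F420377)) (tt N110463 D213702) (tt N109351 (iv7 F466523)))
theorem Q77503 : ∀ i, i < 77503 → P i := stepQ 77502 Q77502 (allL N77502 (tt N110464 D213703) (tt N110465 D213704) (tt N98295 (iv2 F420376)) (tt N43881 F243407) (tt N110466 D213705) (tt N43880 (iv5 D154731)) (tt N110467 D213706) (tt N109352 (iv7 F466527)))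
theorem Q77504 : ∀ i, i < 77504 → P i := stepQ 77503 Q77503 (allL N77503 (tt N93656 F401462) (tt N96131 F463432) (tt N110463 (iv2 F471698)) (tt N43882 F243408) (tt N110459 (iv4 F471686)) (tt N108663 (iv5 F463430)) (tt N43880 (iv6 D154732)) (tt N110468 D213707))
theorem Q77505 : ∀ i, i < 77505 → P i := stepQ 77504 Q77504 (allL N77504 (tt N110469 D213708) (tt N64805 F471584) (tt N109347 (iv2 F466504)) (tt N110467 (iv3 F471715)) (tt N103178 (iv4 F440429)) (tt N110470 D213709) (tt N43881 (iv6 D154733)) (tt N110471 D213710))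
theorem Q77506 : ∀ i, i < 77506 → P i := stepQ 77505 Q77505 (allL N77505 (tt N62345 (iv1 F350003)) (tt N43882 (iv0 D154734)) (tt N62347 (iv2 F330609)) (tt N89505 (iv3 F386662)) (tt N62380 F330608) (tt N110472 D213711) (tt N66886 (iv6 F330610)) (tt N62344 (iv7 F330611)))
theorem Q77507 : ∀ i, i < 77507 → P i := stepQ 77506 Q77506 (allL N77506 (tt N110473 D213712) (tt N110474 D213713) (tt N109273 (iv2 F466117)) (tt N108663 F463431) (tt N88188 (iv4 F382089)) (tt N43882 (iv5 D154736)) (tt N110470 (iv6 F471729)) (tt N110475 D213714))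
theorem Q77508 : ∀ i, i < 77508 → P i := stepQ 77507 Q77507 (allL N77507 (tt N62344 F350020) (tt N62347 (iv0 F316880)) (tt N62345 F350000) (tt N110468 (iv3 F471718)) (tt N43885 F243409) (tt N110475 (iv5 F471760)) (tt N46531 F312876) (tt N43882 (iv7 D154737)))
theorem Q77509 : ∀ i, i < 77509 → P i := stepQ 77508 Q77508 (allL N77508 (tt N80463 F344475) (tt N43891 F252893) (tt N99497 F424865) (tt N99490 F424826) (tt N43883 (iv4 D154738)) (tt N59137 (iv5 F363393)) (tt N77032 F243411) (tt N99494 (iv7 F424846)))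
theorem Q77510 : ∀ i, i < 77510 → P i := stepQ 77509 Q77509 (allL N77509 (tt N91474 F393286) (tt N64006 (iv0 F243415)) (tt N77417 F243412) (tt N44098 F243413) (tt N51816 F340717) (tt N43883 (iv5 D154739)) (tt N51814 (iv6 F334073)) (tt N78716 (iv7 F250380)))
theorem Q77511 : ∀ i, i < 77511 → P i := stepQ 77510 Q77510 (allL N77510 (tt N91364 (iv1 F392878)) (tt N43886 (iv0 D154741)) (tt N89583 F386825) (tt N98640 (iv3 F421692)) (tt N51002 F365603) (tt N98639 (iv5 F421690)) (tt N110476 D213715) (tt N55276 (iv7 F365604)))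
theorem Q77512 : ∀ i, i < 77512 → P i := stepQ 77511 Q77511 (allL N77511 (tt N43886 (iv1 D154742)) (tt N91364 (iv0 F392877)) (tt N55276 F375023) (tt N51029 (iv3 F365330)) (tt N55273 (iv4 F375024)) (tt N51028 F365331) (tt N97147 F415674) (tt N89583 (iv7 F386823)))
theorem Q77513 : ∀ i, i < 77513 → P i := stepQ 77512 Q77512 (allL N77512 (tt N89583 (iv1 F386826)) (tt N55276 F372091) (tt N43886 (iv2 D154743)) (tt N109356 (iv3 F466545)) (tt N85267 (iv4 F372089)) (tt N86101 (iv5 F375128)) (tt N110477 D213716) (tt N91364 (iv7 F392876)))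
theorem Q77514 : ∀ i, i < 77514 → P i := stepQ 77513 Q77513 (allL N77513 (tt N86044 F374990) (tt N85867 (iv0 F374270)) (tt N86101 F375129) (tt N43887 F243416) (tt N110478 D213717) (tt N43886 (iv5 D154744)) (tt N96454 F412587) (tt N86100 F375127))
theorem Q77515 : ∀ i, i < 77515 → P i := stepQ 77514 Q77514 (allL N77514 (tt N110479 D213718) (tt N74623 (iv0 F374992)) (tt N110477 (iv2 F471767)) (tt N43888 F243417) (tt N91365 (iv4 F392880)) (tt N96455 (iv5 F412589)) (tt N43886 (iv6 D154745)) (tt N81696 F366602))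
theorem Q77516 : ∀ i, i < 77516 → P i := stepQ 77515 Q77515 (allL N77515 (tt N109356 (iv1 F466548)) (tt N43889 (iv0 D154751)) (tt N57759 (iv2 F366523)) (tt N94618 (iv3 F405240)) (tt N105974 (iv4 F452578)) (tt N85244 F372033) (tt N57757 F366524) (tt N109355 (iv7 F466543)))
theorem Q77517 : ∀ i, i < 77517 → P i := stepQ 77516 Q77516 (allL N77516 (tt N43889 (iv1 D154752)) (tt N109356 F466549) (tt N109355 F466541) (tt N57761 (iv3 F366521)) (tt N105977 (iv4 F452596)) (tt N85243 F372027) (tt N94616 (iv6 F405225)) (tt N57759 F366522))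
theorem Q77518 : ∀ i, i < 77518 → P i := stepQ 77517 Q77517 (allL N77517 (tt N57759 F389307) (tt N109355 F466542) (tt N43889 (iv2 D154753)) (tt N91364 (iv3 F392875)) (tt N90308 (iv4 F389305)) (tt N110480 D213719) (tt N90307 F389302) (tt N109356 (iv7 F466547)))
theorem Q77519 : ∀ i, i < 77519 → P i := stepQ 77518 Q77518 (allL N77518 (tt N110362 (iv1 F471243)) (tt N110361 (iv0 F471235)) (tt N90308 (iv2 F389303)) (tt N72385 (iv3 F314667)) (tt N43889 (iv4 D154754)) (tt N77367 (iv5 F357256)) (tt N73847 (iv6 F335438)) (tt N78823 (iv7 F251034)))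
theorem Q77520 : ∀ i, i < 77520 → P i := stepQ 77519 Q77519 (allL N77519 (tt N110481 D213720) (tt N110482 D213721) (tt N110480 (iv2 F471778)) (tt N43890 F243418) (tt N110483 D213722) (tt N43889 (iv5 D154755)) (tt N108917 (iv6 F464475)) (tt N109357 (iv7 F466552)))
theorem Q77521 : ∀ i, i < 77521 → P i := stepQ 77520 Q77520 (allL N77520 (tt N110484 D213723) (tt N110485 D213724) (tt N108884 (iv2 F464360)) (tt N108917 (iv3 F464473)) (tt N103166 (iv4 F440371)) (tt N93927 (iv5 F402455)) (tt N43890 (iv6 D154757)) (tt N96451 (iv7 F412576)))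
theorem Q77522 : ∀ i, i < 77522 → P i := stepQ 77521 Q77521 (allL N77521 (tt N101928 F434978) (tt N93936 F402489) (tt N99498 (iv2 F424868)) (tt N75349 F357268) (tt N87079 (iv4 F378309)) (tt N43891 (iv5 D154760)) (tt N93927 F402453) (tt N99499 (iv7 F424875)))
theorem Q77523 : ∀ i, i < 77523 → P i := stepQ 77522 Q77522 (allL N77522 (tt N91376 (iv1 F392906)) (tt N85271 (iv0 F372110)) (tt N67106 (iv2 F359337)) (tt N92378 (iv3 F396870)) (tt N43892 (iv4 D154763)) (tt N102712 (iv5 F438314)) (tt N63579 F359335) (tt N91375 (iv7 F392901)))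
theorem Q77524 : ∀ i, i < 77524 → P i := stepQ 77523 Q77523 (allL N77523 (tt N110486 D213725) (tt N107774 (iv0 F459663)) (tt N96501 (iv2 F412774)) (tt N94605 (iv3 F405159)) (tt N110487 D213726) (tt N43892 (iv5 D154764)) (tt N59541 (iv6 F359306)) (tt N107227 (iv7 F457544)))
theorem Q77525 : ∀ i, i < 77525 → P i := stepQ 77524 Q77524 (allL N77524 (tt N82060 F359336) (tt N63541 (iv0 F359310)) (tt N81246 (iv2 F359305)) (tt N64609 F344438) (tt N63579 (iv4 F359308)) (tt N58102 F359304) (tt N43892 (iv6 D154765)) (tt N80174 (iv7 F359307)))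
theorem Q77526 : ∀ i, i < 77526 → P i := stepQ 77525 Q77525 (allL N77525 (tt N57770 F392909) (tt N98640 (iv0 F421696)) (tt N94606 (iv2 F405164)) (tt N43893 (iv3 D154767)) (tt N93461 (iv4 F400794)) (tt N61158 (iv5 F392910)) (tt N93323 (iv6 F400400)) (tt N107225 (iv7 F457536)))
theorem Q77527 : ∀ i, i < 77527 → P i := stepQ 77526 Q77526 (allL N77526 (tt N85271 (iv1 F372111)) (tt N91376 F392907) (tt N91375 F392900) (tt N66765 (iv3 F243422)) (tt N43893 (iv4 D154768)) (tt N102713 (iv5 F438334)) (tt N102786 (iv6 F438648)) (tt N67106 (iv7 F346492)))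
theorem Q77528 : ∀ i, i < 77528 → P i := stepQ 77527 Q77527 (allL N77527 (tt N107774 (iv1 F459664)) (tt N110486 F471806) (tt N107227 (iv2 F457542)) (tt N61158 F392911) (tt N110488 D213727) (tt N43893 (iv5 D154769)) (tt N110489 D213728) (tt N96501 F412776))
theorem Q77529 : ∀ i, i < 77529 → P i := stepQ 77528 Q77528 (allL N77528 (tt N99490 F424829) (tt N70133 F400262) (tt N93276 F400261) (tt N93323 (iv3 F400402)) (tt N102786 (iv4 F438646)) (tt N110490 D213729) (tt N43893 (iv6 D154770)) (tt N99491 (iv7 F424832)))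
theorem Q77530 : ∀ i, i < 77530 → P i := stepQ 77529 Q77529 (allL N77529 (tt N89627 (iv1 F412830)) (tt N96519 (iv0 F412828)) (tt N43895 F243423) (tt N110039 (iv3 F469670)) (tt N110491 D213730) (tt N43894 (iv5 D154771)) (tt N110492 D213731) (tt N109358 (iv7 F466558)))
theorem Q77531 : ∀ i, i < 77531 → P i := stepQ 77530 Q77530 (allL N77530 (tt N109358 (iv1 F466560)) (tt N43895 (iv0 D154772)) (tt N89627 (iv2 F387007)) (tt N62212 F345052) (tt N110493 D213732) (tt N62211 (iv5 F362386)) (tt N89633 (iv6 F387022)) (tt N96519 (iv7 F412827)))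
theorem Q77532 : ∀ i, i < 77532 → P i := stepQ 77531 Q77531 (allL N77531 (tt N43895 (iv1 D154773)) (tt N109358 (iv0 F466559)) (tt N96519 (iv2 F412825)) (tt N61162 (iv3 F243424)) (tt N110494 D213733) (tt N103080 (iv5 F439987)) (tt N110495 D213734) (tt N89627 (iv7 F387009)))
theorem Q77533 : ∀ i, i < 77533 → P i := stepQ 77532 Q77532 (allL N77532 (tt N110496 D213735) (tt N85530 (iv0 F374335)) (tt N110491 (iv2 F471819)) (tt N110497 D213736) (tt N43895 (iv4 D154774)) (tt N110498 D213737) (tt N70307 (iv6 F389037)) (tt N109359 (iv7 F466561)))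
theorem Q77534 : ∀ i, i < 77534 → P i := stepQ 77533 Q77533 (allL N77533 (tt N64838 F432820) (tt N96510 (iv0 F412803)) (tt N110492 (iv2 F471823)) (tt N43898 F243425) (tt N70307 (iv4 F389035)) (tt N94635 (iv5 F405324)) (tt N43895 (iv6 D154775)) (tt N110499 D213738))
theorem Q77535 : ∀ i, i < 77535 → P i := stepQ 77534 Q77534 (allL N77534 (tt N98639 F421689) (tt N51028 (iv0 F363683)) (tt N110500 D213739) (tt N43896 (iv3 D154776)) (tt N110501 D213740) (tt N53969 (iv5 F365241)) (tt N110500 F471867) (tt N103066 (iv7 F439932)))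
theorem Q77536 : ∀ i, i < 77536 → P i := stepQ 77535 Q77535 (allL N77535 (tt N85243 F372025) (tt N85244 (iv0 F389229)) (tt N103088 (iv2 F440013)) (tt N110500 (iv3 F471862)) (tt N61220 (iv4 F363662)) (tt N90284 (iv5 F389227)) (tt N43896 (iv6 D154777)) (tt N90386 (iv7 F389475)))
theorem Q77537 : ∀ i, i < 77537 → P i := stepQ 77536 Q77536 (allL N77536 (tt N93555 F401116) (tt N110502 D213741) (tt N110503 D213742) (tt N43897 (iv3 D154778)) (tt N110497 (iv4 F471846)) (tt N101954 (iv5 F435078)) (tt N105619 (iv6 F450994)) (tt N77124 F243426))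
theorem Q77538 : ∀ i, i < 77538 → P i := stepQ 77537 Q77537 (allL N77537 (tt N101423 (iv1 F432940)) (tt N82278 (iv0 F432939)) (tt N77127 F243427) (tt N105619 F450993) (tt N43898 F243428) (tt N101425 (iv5 F432938)) (tt N43897 (iv6 D154779)) (tt N101424 F451311))
theorem Q77539 : ∀ i, i < 77539 → P i := stepQ 77538 Q77538 (allL N77538 (tt N110042 (iv1 F469690)) (tt N43898 (iv0 D154780)) (tt N110041 F469683) (tt N108905 (iv3 F464444)) (tt N110192 F470363) (tt N100132 F427614) (tt N100133 (iv6 F427619)) (tt N96464 (iv7 F427615)))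
theorem Q77540 : ∀ i, i < 77540 → P i := stepQ 77539 Q77539 (allL N77539 (tt N43898 (iv1 D154781)) (tt N110042 F469689) (tt N96464 (iv2 F412636)) (tt N96467 F412645) (tt N105372 (iv4 F449934)) (tt N110193 (iv5 F470368)) (tt N96316 (iv6 F411993)) (tt N110041 (iv7 F469684)))
theorem Q77541 : ∀ i, i < 77541 → P i := stepQ 77540 Q77540 (allL N77540 (tt N96464 (iv1 F412639)) (tt N110041 F469685) (tt N110042 (iv2 F469686)) (tt N110499 (iv3 F471857)) (tt N101424 (iv4 F451312)) (tt N101260 (iv5 F467948)) (tt N109360 (iv6 F466567)) (tt N43898 (iv7 D154782)))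
theorem Q77542 : ∀ i, i < 77542 → P i := stepQ 77541 Q77541 (allL N77541 (tt N43901 (iv1 D154801)) (tt N43903 F243469) (tt N43918 (iv2 F243471)) (tt N62477 (iv3 F349365)) (tt N72816 F349359) (tt N73890 (iv5 F316962)) (tt N45266 F243472) (tt N43917 F243470))
theorem Q77543 : ∀ i, i < 77543 → P i := stepQ 77542 Q77542 (allL N77542 (tt N49811 (iv1 F340086)) (tt N49810 (iv0 F356437)) (tt N43919 F243473) (tt N46757 F337113) (tt N43901 (iv4 D154802)) (tt N46755 F337114) (tt N63036 F356847) (tt N43922 F243474))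
theorem Q77544 : ∀ i, i < 77544 → P i := stepQ 77543 Q77543 (allL N77543 (tt N43931 F243493) (tt N43904 (iv0 D154809)) (tt N43928 F243495) (tt N109095 (iv3 F465312)) (tt N63083 F243491) (tt N79001 (iv5 F333325)) (tt N105898 (iv6 F452249)) (tt N43929 (iv7 F243492)))
theorem Q77545 : ∀ i, i < 77545 → P i := stepQ 77544 Q77544 (allL N77544 (tt N43904 (iv1 D154810)) (tt N43931 F243496) (tt N43929 (iv2 F243498)) (tt N49400 F309300) (tt N75977 F243499) (tt N89151 (iv5 F385359)) (tt N72697 (iv6 F350250)) (tt N43928 F243497))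
theorem Q77546 : ∀ i, i < 77546 → P i := stepQ 77545 Q77545 (allL N77545 (tt N51486 F306699) (tt N49395 F306700) (tt N43930 F243500) (tt N49604 F306701) (tt N44008 F317606) (tt N43904 (iv5 D154811)) (tt N49379 F306703) (tt N85783 (iv7 F373921)))
theorem Q77547 : ∀ i, i < 77547 → P i := stepQ 77546 Q77546 (allL N77546 (tt N43905 (iv1 D154817)) (tt N69638 (iv0 F357839)) (tt N82241 (iv2 F306148)) (tt N75199 (iv3 F305630)) (tt N64482 (iv4 F243515)) (tt N74441 F357838) (tt N100492 F429162) (tt N76043 (iv7 F357837)))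
theorem Q77548 : ∀ i, i < 77548 → P i := stepQ 77547 Q77547 (allL N77547 (tt N73716 F334934) (tt N109601 (iv0 F467677)) (tt N89957 (iv2 F388100)) (tt N78933 (iv3 F334936)) (tt N43906 (iv4 D154821)) (tt N72251 F334937) (tt N78932 (iv6 F334942)) (tt N77556 (iv7 F334939)))
theorem Q77549 : ∀ i, i < 77549 → P i := stepQ 77548 Q77548 (allL N77548 (tt N81898 F351964) (tt N94166 (iv0 F403505)) (tt N64535 F243543) (tt N88607 (iv3 F383580)) (tt N109667 (iv4 F468018)) (tt N43911 (iv5 D154836)) (tt N100756 (iv6 F430313)) (tt N81836 (iv7 F364119)))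
theorem Q77550 : ∀ i, i < 77550 → P i := stepQ 77549 Q77549 (allL N77549 (tt N43914 (iv1 D154885)) (tt N73898 F346248) (tt N73805 F346213) (tt N62453 (iv3 F346211)) (tt N75899 F346254) (tt N100229 (iv5 F428071)) (tt N62451 (iv6 F346212)) (tt N73932 (iv7 F346240)))
theorem Q77551 : ∀ i, i < 77551 → P i := stepQ 77550 Q77550 (allL N77550 (tt N80103 F261597) (tt N56031 F353140) (tt N73933 F353151) (tt N49425 F353148) (tt N43914 (iv4 D154886)) (tt N53421 (iv5 F353149)) (tt N66698 F353154) (tt N49815 (iv7 F353150)))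
theorem Q77552 : ∀ i, i < 77552 → P i := stepQ 77551 Q77551 (allL N77551 (tt N73742 F346223) (tt N104221 (iv0 F444779)) (tt N73934 (iv2 F346233)) (tt N43920 F243585) (tt N66698 (iv4 F359292)) (tt N78596 F346214) (tt N43914 (iv6 D154887)) (tt N63032 (iv7 F346219)))
theorem Q77553 : ∀ i, i < 77553 → P i := stepQ 77552 Q77552 (allL N77552 (tt N75671 (iv1 F340085)) (tt N100158 (iv0 F427759)) (tt N100491 (iv2 F429150)) (tt N81321 (iv3 F340088)) (tt N43917 (iv4 D154901)) (tt N83245 F349292) (tt N75648 (iv6 F356858)) (tt N72816 F349358))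
theorem Q77554 : ∀ i, i < 77554 → P i := stepQ 77553 Q77553 (allL N77553 (tt N63035 (iv1 F356855)) (tt N73940 (iv0 F356853)) (tt N73939 F356518) (tt N63039 (iv3 F315546)) (tt N75648 F356854) (tt N68399 F243591) (tt N43917 (iv6 D154902)) (tt N73620 (iv7 F356522)))
theorem Q77555 : ∀ i, i < 77555 → P i := stepQ 77554 Q77554 (allL N77554 (tt N100158 (iv1 F427760)) (tt N75671 (iv0 F340087)) (tt N72816 F356790) (tt N49701 F356788) (tt N43918 (iv4 D154903)) (tt N91047 (iv5 F391747)) (tt N62318 (iv6 F356789)) (tt N100491 (iv7 F429154)))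
theorem Q77556 : ∀ i, i < 77556 → P i := stepQ 77555 Q77555 (allL N77555 (tt N73900 (iv1 F356850)) (tt N107179 F457367) (tt N63036 F356845) (tt N49426 (iv3 F363032)) (tt N43920 F243594) (tt N90804 F390918) (tt N43919 (iv6 D154908)) (tt N63033 F356838))
theorem Q77557 : ∀ i, i < 77557 → P i := stepQ 77556 Q77556 (allL N77556 (tt N87464 (iv1 F379421)) (tt N87462 (iv0 F379412)) (tt N77557 F334945) (tt N73942 (iv3 F314420)) (tt N64011 (iv4 F334946)) (tt N43923 (iv5 D154930)) (tt N43924 F243620) (tt N77547 F334939))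
theorem Q77558 : ∀ i, i < 77558 → P i := stepQ 77557 Q77557 (allL N77557 (tt N109601 (iv1 F467678)) (tt N73716 F334935) (tt N77556 (iv2 F334945)) (tt N88226 F382259) (tt N43924 (iv4 D154931)) (tt N75999 (iv5 F334943)) (tt N64011 F334947) (tt N89957 (iv7 F388104)))
theorem Q77559 : ∀ i, i < 77559 → P i := stepQ 77558 Q77558 (allL N77558 (tt N76877 (iv1 F243630)) (tt N75825 (iv0 F243625)) (tt N77003 F243621) (tt N43927 F243622) (tt N107097 (iv4 F456953)) (tt N43925 (iv5 D154932)) (tt N75478 F243623) (tt N63329 F243624))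
theorem Q77560 : ∀ i, i < 77560 → P i := stepQ 77559 Q77559 (allL N77559 (tt N102989 (iv1 F439576)) (tt N76022 (iv0 F307657)) (tt N94473 (iv2 F404619)) (tt N83302 F338004) (tt N43927 (iv4 D154938)) (tt N67053 F335028) (tt N75629 F243640) (tt N63331 F243641))
theorem Q77561 : ∀ i, i < 77561 → P i := stepQ 77560 Q77560 (allL N77560 (tt N75957 (iv1 F243661)) (tt N45312 F243659) (tt N63083 F243657) (tt N75975 (iv3 F243660)) (tt N43928 (iv4 D154952)) (tt N75629 F333329) (tt N72770 F335027) (tt N75977 F243658))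
theorem Q77562 : ∀ i, i < 77562 → P i := stepQ 77561 Q77561 (allL N77561 (tt N75626 (iv1 F349360)) (tt N89133 F385297) (tt N79001 (iv2 F364731)) (tt N54721 (iv3 F357321)) (tt N54833 F333332) (tt N43928 (iv5 D154953)) (tt N54867 F357336) (tt N89151 (iv7 F385360)))
theorem Q77563 : ∀ i, i < 77563 → P i := stepQ 77562 Q77562 (allL N77562 (tt N105831 (iv1 F451922)) (tt N99542 (iv0 F425069)) (tt N105898 (iv2 F452243)) (tt N109689 (iv3 F468119)) (tt N72770 (iv4 F364489)) (tt N105895 (iv5 F452230)) (tt N43928 (iv6 D154954)) (tt N106994 (iv7 F456564)))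
theorem Q77564 : ∀ i, i < 77564 → P i := stepQ 77563 Q77563 (allL N77563 (tt N63922 F340883) (tt N90646 F390389) (tt N89177 (iv2 F385453)) (tt N43929 (iv3 D154955)) (tt N72331 (iv4 F346822)) (tt N89172 (iv5 F385440)) (tt N99562 (iv6 F425173)) (tt N109095 (iv7 F465315)))
theorem Q77565 : ∀ i, i < 77565 → P i := stepQ 77564 Q77564 (allL N77564 (tt N89133 F385298) (tt N75626 F333331) (tt N89151 (iv2 F385356)) (tt N89172 (iv3 F385438)) (tt N50249 (iv4 F333326)) (tt N43929 (iv5 D154956)) (tt N50247 F333327) (tt N79001 F333328))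
theorem Q77566 : ∀ i, i < 77566 → P i := stepQ 77565 Q77565 (allL N77565 (tt N85783 (iv1 F373923)) (tt N43930 (iv0 D154963)) (tt N51486 F337218) (tt N49383 F337219) (tt N51483 F337220) (tt N100158 (iv5 F427756)) (tt N110504 D213743) (tt N49395 F337221))
theorem Q77567 : ∀ i, i < 77567 → P i := stepQ 77566 Q77566 (allL N77566 (tt N49395 F349327) (tt N51486 F349328) (tt N85783 (iv2 F373917)) (tt N49405 F349329) (tt N49804 (iv4 F349330)) (tt N43931 F243672) (tt N85812 (iv6 F374063)) (tt N43930 (iv7 D154967)))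
theorem Q77568 : ∀ i, i < 77568 → P i := stepQ 77567 Q77567 (allL N77567 (tt N75972 (iv1 F243676)) (tt N63085 F243677) (tt N75973 F243673) (tt N99790 (iv3 F426226)) (tt N43932 F243674) (tt N110505 D213744) (tt N43931 (iv6 D154968)) (tt N45289 F243675))
theorem Q77569 : ∀ i, i < 77569 → P i := stepQ 77568 Q77568 (allL N77568 (tt N47352 (iv1 F243678)) (tt N43933 (iv0 D154969)) (tt N100375 F428665) (tt N110044 F469704) (tt N110506 D213745) (tt N100281 (iv5 F428238)) (tt N110507 D213746) (tt N100376 (iv7 F428668)))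
theorem Q77570 : ∀ i, i < 77570 → P i := stepQ 77569 Q77569 (allL N77569 (tt N43933 (iv1 D154970)) (tt N47352 F243679) (tt N100376 (iv2 F428671)) (tt N102805 (iv3 F438718)) (tt N110508 D213747) (tt N100282 (iv5 F428245)) (tt N94052 (iv6 F409559)) (tt N100375 F428666))
theorem Q77571 : ∀ i, i < 77571 → P i := stepQ 77570 Q77570 (allL N77570 (tt N99308 (iv1 F424035)) (tt N58103 F353058) (tt N82002 (iv2 F341268)) (tt N107166 (iv3 F457284)) (tt N43933 (iv4 D154971)) (tt N82001 F341262) (tt N107777 (iv6 F459682)) (tt N99306 (iv7 F424029)))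
theorem Q77572 : ∀ i, i < 77572 → P i := stepQ 77571 Q77571 (allL N77571 (tt N102694 (iv1 F438225)) (tt N102693 F438223) (tt N100377 (iv2 F428672)) (tt N47232 F243680) (tt N107777 (iv4 F459680)) (tt N100668 (iv5 F429928)) (tt N43933 (iv6 D154972)) (tt N102689 (iv7 F438213)))
theorem Q77573 : ∀ i, i < 77573 → P i := stepQ 77572 Q77572 (allL N77572 (tt N62546 (iv1 F346260)) (tt N62545 F362043) (tt N62548 (iv2 F346270)) (tt N58069 (iv3 F362042)) (tt N43934 (iv4 D154977)) (tt N58066 F346272) (tt N75394 (iv6 F346271)) (tt N62535 F346269))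
theorem Q77574 : ∀ i, i < 77574 → P i := stepQ 77573 Q77573 (allL N77573 (tt N47975 (iv1 F243692)) (tt N43935 (iv0 D154980)) (tt N80172 F337690) (tt N83127 (iv3 F356620)) (tt N103095 (iv4 F440040)) (tt N64243 (iv5 F337695)) (tt N75605 (iv6 F337689)) (tt N75594 F337696))
theorem Q77575 : ∀ i, i < 77575 → P i := stepQ 77574 Q77574 (allL N77574 (tt N43935 (iv1 D154981)) (tt N47975 F243693) (tt N75594 F337704) (tt N75361 (iv3 F358890)) (tt N80142 (iv4 F261794)) (tt N48384 F337705) (tt N48386 F337706) (tt N80172 F337707))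
theorem Q77576 : ∀ i, i < 77576 → P i := stepQ 77575 Q77575 (allL N77575 (tt N81365 F355212) (tt N75408 (iv0 F346281)) (tt N73969 F362038) (tt N75440 F355210) (tt N43936 (iv4 D154987)) (tt N76590 F346283) (tt N75616 (iv6 F363211)) (tt N73645 (iv7 F366560)))
theorem Q77577 : ∀ i, i < 77577 → P i := stepQ 77576 Q77576 (allL N77576 (tt N48116 F350634) (tt N48120 F350635) (tt N97417 (iv2 F416803)) (tt N43941 (iv3 D155004)) (tt N87737 (iv4 F380289)) (tt N65297 F243736) (tt N87469 F379447) (tt N82144 (iv7 F278798)))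
theorem Q77578 : ∀ i, i < 77578 → P i := stepQ 77577 Q77577 (allL N77577 (tt N47977 (iv1 F243737)) (tt N43942 (iv0 D155005)) (tt N82007 (iv2 F353918)) (tt N82840 (iv3 F353919)) (tt N100383 (iv4 F428715)) (tt N65137 F341257) (tt N99598 F425338) (tt N82004 F353917))
theorem Q77579 : ∀ i, i < 77579 → P i := stepQ 77578 Q77578 (allL N77578 (tt N81348 F274424) (tt N63858 (iv0 F243742)) (tt N78219 F359312) (tt N47241 F243738) (tt N43943 (iv4 D155007)) (tt N47319 (iv5 F243745)) (tt N75638 F243739) (tt N63376 F243740))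
theorem Q77580 : ∀ i, i < 77580 → P i := stepQ 77579 Q77579 (allL N77579 (tt N76750 (iv1 F332043)) (tt N63214 F364288) (tt N45530 F243835) (tt N43948 F243836) (tt N110509 D213748) (tt N43945 (iv5 D155057)) (tt N102647 (iv6 F438036)) (tt N76748 F364897))
theorem Q77581 : ∀ i, i < 77581 → P i := stepQ 77580 Q77580 (allL N77580 (tt N46883 F332036) (tt N54346 (iv0 F350945)) (tt N53376 (iv2 F360161)) (tt N43947 (iv3 D155065)) (tt N46907 F243855) (tt N55044 F332037) (tt N83191 F332038) (tt N43964 F243854))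
theorem Q77582 : ∀ i, i < 77582 → P i := stepQ 77581 Q77581 (allL N77581 (tt N56121 F243860) (tt N45737 F243859) (tt N43967 F243856) (tt N47954 F243857) (tt N43947 (iv4 D155066)) (tt N95843 (iv5 F409906)) (tt N54135 (iv6 F332041)) (tt N43965 F243858))
theorem Q77583 : ∀ i, i < 77583 → P i := stepQ 77582 Q77582 (allL N77582 (tt N43948 (iv1 D155070)) (tt N43971 F243864) (tt N43970 F243866) (tt N103093 (iv3 F440034)) (tt N79766 (iv4 F347061)) (tt N63219 (iv5 F243865)) (tt N101019 (iv6 F431302)) (tt N43969 (iv7 F243874)))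
theorem Q77584 : ∀ i, i < 77584 → P i := stepQ 77583 Q77583 (allL N77583 (tt N43970 (iv1 F243871)) (tt N43969 F243875) (tt N43971 F243868) (tt N76748 (iv3 F364898)) (tt N59985 F364108) (tt N43949 F243869) (tt N71154 (iv6 F337688)) (tt N43948 (iv7 D155072)))
theorem Q77585 : ∀ i, i < 77585 → P i := stepQ 77584 Q77584 (allL N77584 (tt N76520 (iv1 F243883)) (tt N69677 (iv0 F308674)) (tt N43976 F243880) (tt N90173 (iv3 F388777)) (tt N43950 (iv4 D155075)) (tt N47342 F243882) (tt N63846 (iv6 F311311)) (tt N43978 F243881))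
theorem Q77586 : ∀ i, i < 77586 → P i := stepQ 77585 Q77585 (allL N77585 (tt N47189 F343389) (tt N47191 F343390) (tt N46882 F243889) (tt N45571 (iv3 F317254)) (tt N80846 (iv4 F271883)) (tt N105173 (iv5 F449108)) (tt N43952 (iv6 D155077)) (tt N88641 (iv7 F383672)))
theorem Q77587 : ∀ i, i < 77587 → P i := stepQ 77586 Q77586 (allL N77586 (tt N43964 F321094) (tt N53376 (iv0 F344080)) (tt N46883 F243891) (tt N54240 F243892) (tt N80631 (iv4 F270066)) (tt N103132 (iv5 F440214)) (tt N43953 (iv6 D155078)) (tt N54346 F350944))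
theorem Q77588 : ∀ i, i < 77588 → P i := stepQ 77587 Q77587 (allL N77587 (tt N46887 (iv1 F243893)) (tt N43954 (iv0 D155079)) (tt N46885 F343964) (tt N74530 (iv3 F341152)) (tt N103101 (iv4 F440078)) (tt N75323 F343965) (tt N110510 D213749) (tt N46886 F343966))
theorem Q77589 : ∀ i, i < 77589 → P i := stepQ 77588 Q77588 (allL N77588 (tt N48038 (iv1 F243900)) (tt N43955 (iv0 D155084)) (tt N82372 (iv2 F345369)) (tt N45584 (iv3 F243901)) (tt N91942 (iv4 F395053)) (tt N46372 F303131) (tt N45931 F324182) (tt N79376 F303132))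
theorem Q77590 : ∀ i, i < 77590 → P i := stepQ 77589 Q77589 (allL N77589 (tt N43955 (iv1 D155085)) (tt N48038 F243902) (tt N79376 F345372) (tt N80011 (iv3 F362309)) (tt N91943 (iv4 F395058)) (tt N72314 (iv5 F311899)) (tt N96946 (iv6 F414727)) (tt N82372 F345371))
theorem Q77591 : ∀ i, i < 77591 → P i := stepQ 77590 Q77590 (allL N77590 (tt N59906 F365887) (tt N95630 (iv0 F408950)) (tt N82371 (iv2 F366126)) (tt N86980 (iv3 F377932)) (tt N43955 (iv4 D155086)) (tt N110511 D213750) (tt N46829 F243903) (tt N95631 (iv7 F408952)))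
theorem Q77592 : ∀ i, i < 77592 → P i := stepQ 77591 Q77591 (allL N77591 (tt N46929 (iv1 F243915)) (tt N43957 (iv0 D155088)) (tt N46926 F331902) (tt N88515 (iv3 F383353)) (tt N47256 F331903) (tt N104862 (iv5 F447676)) (tt N46925 F331904) (tt N46927 F331905))
theorem Q77593 : ∀ i, i < 77593 → P i := stepQ 77592 Q77592 (allL N77592 (tt N77724 (iv1 F331746)) (tt N77731 (iv0 F318950)) (tt N46928 F243909) (tt N47181 F243910) (tt N92490 (iv4 F397144)) (tt N43957 (iv5 D155090)) (tt N63214 F243911) (tt N77729 F331738))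
theorem Q77594 : ∀ i, i < 77594 → P i := stepQ 77593 Q77593 (allL N77593 (tt N46927 (iv1 F243916)) (tt N46926 F243918) (tt N46929 F243912) (tt N47182 F243913) (tt N43961 F328944) (tt N77729 (iv5 F331735)) (tt N47079 F243914) (tt N43957 (iv7 D155091)))
theorem Q77595 : ∀ i, i < 77595 → P i := stepQ 77594 Q77594 (allL N77594 (tt N47082 F259372) (tt N47084 F257003) (tt N63586 F243919) (tt N66958 F243920) (tt N46092 F243921) (tt N78480 (iv5 F364462)) (tt N43958 (iv6 D155092)) (tt N100357 (iv7 F428575)))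
theorem Q77596 : ∀ i, i < 77596 → P i := stepQ 77595 Q77595 (allL N77595 (tt N110512 D213751) (tt N81676 (iv0 F343396)) (tt N101196 (iv2 F432137)) (tt N43960 F243922) (tt N44041 F305947) (tt N102710 (iv5 F438309)) (tt N43959 (iv6 D155093)) (tt N102709 (iv7 F438306)))
theorem Q77597 : ∀ i, i < 77597 → P i := stepQ 77596 Q77596 (allL N77596 (tt N102815 (iv1 F438773)) (tt N102805 (iv0 F438721)) (tt N98073 (iv2 F419353)) (tt N102710 (iv3 F438308)) (tt N92455 (iv4 F397055)) (tt N43960 (iv5 D155096)) (tt N85803 (iv6 F374019)) (tt N102707 F438294))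
theorem Q77598 : ∀ i, i < 77598 → P i := stepQ 77597 Q77597 (allL N77597 (tt N47177 F328939) (tt N46884 F328940) (tt N46773 F328941) (tt N43961 (iv3 D155099)) (tt N79389 F328942) (tt N54989 (iv5 F346772)) (tt N76026 (iv6 F354131)) (tt N47175 F328943))
theorem Q77599 : ∀ i, i < 77599 → P i := stepQ 77598 Q77598 (allL N77598 (tt N53376 F360163) (tt N43964 (iv0 D155112)) (tt N54346 F360164) (tt N45601 F360165) (tt N109297 (iv4 F466253)) (tt N103133 (iv5 F440223)) (tt N88641 (iv6 F383671)) (tt N46883 F360166))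
theorem Q77600 : ∀ i, i < 77600 → P i := stepQ 77599 Q77599 (allL N77599 (tt N68467 F347127) (tt N88913 (iv0 F384518)) (tt N54348 (iv2 F344099)) (tt N43966 F243932) (tt N47587 F243933) (tt N70551 F347126) (tt N43964 (iv6 D155116)) (tt N101815 (iv7 F434477)))
theorem Q77601 : ∀ i, i < 77601 → P i := stepQ 77600 Q77600 (allL N77600 (tt N43967 (iv1 F243940)) (tt N43965 (iv0 D155117)) (tt N45737 (iv2 F243939)) (tt N45698 F243938) (tt N66372 (iv4 F331971)) (tt N45696 F243936) (tt N75805 (iv6 F243942)) (tt N56121 F243941))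
theorem Q77602 : ∀ i, i < 77602 → P i := stepQ 77601 Q77601 (allL N77601 (tt N102983 F439547) (tt N76023 F243944) (tt N63101 F243943) (tt N81263 (iv3 F274022)) (tt N66031 (iv4 F313819)) (tt N43965 (iv5 D155118)) (tt N78214 F366675) (tt N95843 (iv7 F409908)))
theorem Q77603 : ∀ i, i < 77603 → P i := stepQ 77602 Q77602 (allL N77602 (tt N75861 F280170) (tt N76025 F280171) (tt N63102 F243945) (tt N81264 (iv3 F274029)) (tt N43966 F243946) (tt N107141 (iv5 F457170)) (tt N43965 (iv6 D155119)) (tt N82318 (iv7 F280212)))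
theorem Q77604 : ∀ i, i < 77604 → P i := stepQ 77603 Q77603 (allL N77603 (tt N54133 (iv1 F350956)) (tt N54137 (iv0 F310338)) (tt N54135 (iv2 F332040)) (tt N54371 (iv3 F321074)) (tt N43968 F243952) (tt N52937 (iv5 F351944)) (tt N43967 (iv6 D155129)) (tt N54134 (iv7 F350950)))
theorem Q77605 : ∀ i, i < 77605 → P i := stepQ 77604 Q77604 (allL N77604 (tt N44586 F243956) (tt N80001 (iv0 F259338)) (tt N83190 (iv2 F350973)) (tt N54378 F365296) (tt N110513 D213752) (tt N43968 (iv5 D155132)) (tt N44131 F350974) (tt N100498 (iv7 F429200)))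
theorem Q77606 : ∀ i, i < 77606 → P i := stepQ 77605 Q77605 (allL N77605 (tt N103133 (iv1 F440221)) (tt N103132 (iv0 F440219)) (tt N103134 (iv2 F440227)) (tt N43969 (iv3 D155134)) (tt N97621 (iv4 F417635)) (tt N89430 F386466) (tt N94109 (iv6 F403247)) (tt N103093 (iv7 F440037)))
theorem Q77607 : ∀ i, i < 77607 → P i := stepQ 77606 Q77606 (allL N77606 (tt N66374 (iv1 F324078)) (tt N45515 F304779) (tt N74738 F347067) (tt N89430 (iv3 F386461)) (tt N81263 (iv4 F274025)) (tt N43969 (iv5 D155136)) (tt N80291 (iv6 F303238)) (tt N63219 F243957))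
theorem Q77608 : ∀ i, i < 77608 → P i := stepQ 77607 Q77607 (allL N77607 (tt N46832 F287014) (tt N54345 F287015) (tt N84140 (iv2 F368280)) (tt N43970 (iv3 D155138)) (tt N54328 F287016) (tt N54403 F287017) (tt N103130 (iv6 F440207)) (tt N88465 (iv7 F383163)))
theorem Q77609 : ∀ i, i < 77609 → P i := stepQ 77608 Q77608 (allL N77608 (tt N63789 F332366) (tt N71748 F332369) (tt N101019 (iv2 F431299)) (tt N103130 (iv3 F440206)) (tt N70452 (iv4 F332364)) (tt N80292 (iv5 F332363)) (tt N43970 (iv6 D155140)) (tt N72132 F332365))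
theorem Q77610 : ∀ i, i < 77610 → P i := stepQ 77609 Q77609 (allL N77609 (tt N63604 F344057) (tt N75838 F340785) (tt N81305 F359258) (tt N43972 (iv3 D155147)) (tt N79411 (iv4 F255812)) (tt N81274 (iv5 F359255)) (tt N63595 (iv6 F359257)) (tt N90457 (iv7 F389716)))
theorem Q77611 : ∀ i, i < 77611 → P i := stepQ 77610 Q77610 (allL N77610 (tt N80852 F347051) (tt N94112 F403266) (tt N81240 F347069) (tt N81274 F359254) (tt N71615 (iv4 F347059)) (tt N43972 (iv5 D155148)) (tt N75407 (iv6 F346279)) (tt N92601 (iv7 F397584)))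
theorem Q77612 : ∀ i, i < 77612 → P i := stepQ 77611 Q77611 (allL N77611 (tt N74524 (iv1 F344088)) (tt N104220 F444772) (tt N63603 (iv2 F344086)) (tt N43974 F243966) (tt N66745 (iv4 F344087)) (tt N78599 F347023) (tt N43973 (iv6 D155153)) (tt N68473 F344085))
theorem Q77613 : ∀ i, i < 77613 → P i := stepQ 77612 Q77612 (allL N77612 (tt N43974 (iv1 D155158)) (tt N90462 (iv0 F389742)) (tt N90458 (iv2 F389719)) (tt N78582 F347053) (tt N100030 (iv4 F427289)) (tt N76769 F347054) (tt N78580 (iv6 F347052)) (tt N90468 (iv7 F389765)))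
theorem Q77614 : ∀ i, i < 77614 → P i := stepQ 77613 Q77613 (allL N77613 (tt N45541 F344042) (tt N96902 F414531) (tt N43977 (iv2 D155165)) (tt N63506 F344043) (tt N66963 (iv4 F334195)) (tt N54093 (iv5 F331980)) (tt N80770 F334216) (tt N63602 F336286))
theorem Q77615 : ∀ i, i < 77615 → P i := stepQ 77614 Q77614 (allL N77614 (tt N69662 (iv1 F313523)) (tt N63334 (iv0 F243998)) (tt N62970 F243994) (tt N43981 F243995) (tt N69659 (iv4 F309510)) (tt N44882 F243996) (tt N43980 (iv6 D155176)) (tt N69656 (iv7 F309932)))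
theorem Q77616 : ∀ i, i < 77616 → P i := stepQ 77615 Q77615 (allL N77615 (tt N100307 (iv1 F428361)) (tt N100306 (iv0 F428357)) (tt N63866 F356181) (tt N47056 F303616) (tt N63433 (iv4 F335247)) (tt N43982 (iv5 D155190)) (tt N96492 (iv6 F412745)) (tt N63862 F356180))
theorem Q77617 : ∀ i, i < 77617 → P i := stepQ 77616 Q77616 (allL N77616 (tt N74738 (iv1 F324076)) (tt N63219 F244028) (tt N45515 F304781) (tt N46088 F304782) (tt N43983 (iv4 D155191)) (tt N62695 (iv5 F321762)) (tt N46097 F244021) (tt N66374 (iv7 F324081)))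
theorem Q77618 : ∀ i, i < 77618 → P i := stepQ 77617 Q77617 (allL N77617 (tt N68554 F333425) (tt N68553 (iv0 F333432)) (tt N68552 (iv2 F333431)) (tt N43985 (iv3 D155195)) (tt N43987 F244040) (tt N63606 F286771) (tt N49639 (iv6 F301920)) (tt N57702 F333430))
theorem Q77619 : ∀ i, i < 77619 → P i := stepQ 77618 Q77618 (allL N77618 (tt N43994 (iv1 F244132)) (tt N43993 (iv0 D155224)) (tt N43997 (iv2 F244129)) (tt N77475 F309667) (tt N47109 F244130) (tt N63668 F309668) (tt N99991 (iv6 F427081)) (tt N43995 F244131))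
theorem Q77620 : ∀ i, i < 77620 → P i := stepQ 77619 Q77619 (allL N77619 (tt N81712 F342333) (tt N46961 F333752) (tt N62552 (iv2 F333753)) (tt N47265 F244135) (tt N43993 (iv4 D155227)) (tt N64114 F354799) (tt N75604 F333755) (tt N47278 F273659))
theorem Q77621 : ∀ i, i < 77621 → P i := stepQ 77620 Q77620 (allL N77620 (tt N46961 F333737) (tt N81712 F342335) (tt N47278 (iv2 F273655)) (tt N80002 (iv3 F259371)) (tt N43994 (iv4 D155232)) (tt N64110 (iv5 F359991)) (tt N100308 (iv6 F428366)) (tt N62552 F314271))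
theorem Q77622 : ∀ i, i < 77622 → P i := stepQ 77621 Q77621 (allL N77621 (tt N76822 F359510) (tt N99035 (iv0 F423101)) (tt N76866 (iv2 F366772)) (tt N95801 (iv3 F409720)) (tt N43996 (iv4 D155240)) (tt N99609 (iv5 F425398)) (tt N72682 F366493) (tt N76865 (iv7 F366494)))
theorem Q77623 : ∀ i, i < 77623 → P i := stepQ 77622 Q77622 (allL N77622 (tt N99773 F426169) (tt N44041 F310778) (tt N99991 (iv2 F427079)) (tt N43999 F244143) (tt N47208 F244144) (tt N99977 (iv5 F427040)) (tt N43997 (iv6 D155242)) (tt N45307 F244145))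
theorem Q77624 : ∀ i, i < 77624 → P i := stepQ 77623 Q77623 (allL N77623 (tt N72816 F349356) (tt N100491 (iv0 F429155)) (tt N75671 F349344) (tt N49397 F349345) (tt N44000 (iv4 D155250)) (tt N49395 F349346) (tt N72380 (iv6 F349347)) (tt N100158 (iv7 F427758)))
theorem Q77625 : ∀ i, i < 77625 → P i := stepQ 77624 Q77624 (allL N77624 (tt N74930 F335010) (tt N74929 F335011) (tt N74931 F335012) (tt N74427 F335013) (tt N44003 (iv4 D155316)) (tt N76441 F335014) (tt N45221 F335015) (tt N45224 F335016))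
theorem Q77626 : ∀ i, i < 77626 → P i := stepQ 77625 Q77625 (allL N77625 (tt N50117 F333319) (tt N54834 F333321) (tt N50249 (iv2 F333323)) (tt N79005 (iv3 F333320)) (tt N89151 (iv4 F385358)) (tt N44004 (iv5 D155319)) (tt N50243 (iv6 F333324)) (tt N54833 F333322))
theorem Q77627 : ∀ i, i < 77627 → P i := stepQ 77626 Q77626 (allL N77626 (tt N67052 (iv1 F244265)) (tt N46602 F315945) (tt N67054 (iv2 F244276)) (tt N77374 F244258) (tt N44006 (iv4 D155323)) (tt N63331 F335024) (tt N106995 (iv6 F456571)) (tt N67053 (iv7 F244260)))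
theorem Q77628 : ∀ i, i < 77628 → P i := stepQ 77627 Q77627 (allL N77627 (tt N54757 (iv1 F333311)) (tt N54756 (iv0 F333308)) (tt N53428 (iv2 F333299)) (tt N50453 (iv3 F349314)) (tt N53449 F349313) (tt N44006 (iv5 D155324)) (tt N54853 (iv6 F349315)) (tt N54758 (iv7 F333315)))
theorem Q77629 : ∀ i, i < 77629 → P i := stepQ 77628 Q77628 (allL N77628 (tt N108295 (iv1 F461942)) (tt N99561 (iv0 F425169)) (tt N85788 (iv2 F373938)) (tt N85800 (iv3 F374005)) (tt N106995 (iv4 F456569)) (tt N75557 (iv5 F349341)) (tt N44006 (iv6 D155325)) (tt N98755 (iv7 F422171)))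
theorem Q77630 : ∀ i, i < 77630 → P i := stepQ 77629 Q77629 (allL N77629 (tt N69628 F348328) (tt N47985 (iv0 F278277)) (tt N69640 (iv2 F361471)) (tt N44011 F244312) (tt N69580 (iv4 F314403)) (tt N89188 (iv5 F385496)) (tt N44010 (iv6 D155351)) (tt N47941 F244313))
theorem Q77631 : ∀ i, i < 77631 → P i := stepQ 77630 Q77630 (allL N77630 (tt N63850 (iv1 F335007)) (tt N68284 (iv0 F335008)) (tt N76441 F244321) (tt N68293 (iv3 F247742)) (tt N46508 F311697) (tt N74931 F244323) (tt N44012 (iv6 D155357)) (tt N45251 F244324))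
theorem Q77632 : ∀ i, i < 77632 → P i := stepQ 77631 Q77631 (allL N77631 (tt N99847 (iv1 F426507)) (tt N44014 (iv0 D155373)) (tt N99929 (iv2 F426864)) (tt N51497 F346084) (tt N100361 (iv4 F428597)) (tt N54606 (iv5 F346082)) (tt N74387 (iv6 F346083)) (tt N51495 F346085))
theorem Q77633 : ∀ i, i < 77633 → P i := stepQ 77632 Q77632 (allL N77632 (tt N54617 F352987) (tt N54616 (iv0 F346064)) (tt N100424 (iv2 F428910)) (tt N108075 (iv3 F461010)) (tt N110514 D213753) (tt N44014 (iv5 D155375)) (tt N110515 D213754) (tt N100427 (iv7 F428929)))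
theorem Q77634 : ∀ i, i < 77634 → P i := stepQ 77633 Q77633 (allL N77633 (tt N75940 (iv1 F361084)) (tt N75936 (iv0 F361085)) (tt N72783 (iv2 F361082)) (tt N44018 (iv3 D155403)) (tt N81504 F340128) (tt N105026 (iv5 F448447)) (tt N72779 (iv6 F361083)) (tt N75939 (iv7 F362059)))
theorem Q77635 : ∀ i, i < 77635 → P i := stepQ 77634 Q77634 (allL N77634 (tt N56337 F352030) (tt N76540 (iv0 F353492)) (tt N76542 (iv2 F352035)) (tt N55545 (iv3 F352032)) (tt N61440 (iv4 F352031)) (tt N55544 F352028) (tt N44022 (iv6 D155443)) (tt N61005 F352034))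
theorem Q77636 : ∀ i, i < 77636 → P i := stepQ 77635 Q77635 (allL N77635 (tt N100495 (iv1 F429176)) (tt N98402 (iv0 F420805)) (tt N44030 F244421) (tt N73976 (iv3 F363833)) (tt N44023 (iv4 D155448)) (tt N76558 F355584) (tt N46079 F355585) (tt N100493 (iv7 F429166)))
theorem Q77637 : ∀ i, i < 77637 → P i := stepQ 77636 Q77636 (allL N77636 (tt N64719 (iv1 F355762)) (tt N78968 F355763) (tt N78981 F355772) (tt N44024 (iv3 D155453)) (tt N85813 (iv4 F374072)) (tt N89845 F426121) (tt N77356 F355761) (tt N76338 (iv7 F355760)))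
theorem Q77638 : ∀ i, i < 77638 → P i := stepQ 77637 Q77637 (allL N77637 (tt N99980 (iv1 F427055)) (tt N64795 F355577) (tt N44039 F244438) (tt N89845 (iv3 F426120)) (tt N76557 (iv4 F355586)) (tt N44024 (iv5 D155454)) (tt N110516 D213755) (tt N100494 (iv7 F429173)))
theorem Q77639 : ∀ i, i < 77639 → P i := stepQ 77638 Q77638 (allL N77638 (tt N46897 F244452) (tt N46896 F244453) (tt N46898 F244449) (tt N44027 F244450) (tt N79270 F298233) (tt N44025 (iv5 D155458)) (tt N46795 F298234) (tt N44733 F298235))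
theorem Q77640 : ∀ i, i < 77640 → P i := stepQ 77639 Q77639 (allL N77639 (tt N75323 (iv1 F356290)) (tt N75487 F356291) (tt N75341 F352181) (tt N44028 (iv3 D155465)) (tt N54970 F356288) (tt N75222 (iv5 F356292)) (tt N75275 F352144) (tt N54969 (iv7 F356287)))
theorem Q77641 : ∀ i, i < 77641 → P i := stepQ 77640 Q77640 (allL N77640 (tt N75643 (iv1 F244464)) (tt N63052 F244463) (tt N75660 F244461) (tt N75222 F356293) (tt N110517 D213756) (tt N44028 (iv5 D155467)) (tt N76760 (iv6 F244465)) (tt N75659 F244462))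
theorem Q77642 : ∀ i, i < 77642 → P i := stepQ 77641 Q77641 (allL N77641 (tt N46895 F314202) (tt N46893 F314203) (tt N88643 F383679) (tt N44029 (iv3 D155469)) (tt N101731 (iv4 F434072)) (tt N76762 F244467) (tt N101705 (iv6 F433970)) (tt N80332 F352183))
theorem Q77643 : ∀ i, i < 77643 → P i := stepQ 77642 Q77642 (allL N77642 (tt N79900 F346134) (tt N98149 F419713) (tt N98151 (iv2 F419719)) (tt N86226 (iv3 F375453)) (tt N44029 (iv4 D155470)) (tt N98583 (iv5 F421453)) (tt N79921 F346133) (tt N98142 (iv7 F419672)))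
theorem Q77644 : ∀ i, i < 77644 → P i := stepQ 77643 Q77643 (allL N77643 (tt N57404 F346127) (tt N57315 F346131) (tt N57402 F347679) (tt N101705 (iv3 F433968)) (tt N79921 (iv4 F346132)) (tt N76766 F244468) (tt N44029 (iv6 D155471)) (tt N57403 (iv7 F347678)))
theorem Q77645 : ∀ i, i < 77645 → P i := stepQ 77644 Q77644 (allL N77644 (tt N100493 (iv1 F429169)) (tt N44030 (iv0 D155472)) (tt N100495 (iv2 F429181)) (tt N98476 (iv3 F421048)) (tt N80860 (iv4 F339366)) (tt N109800 (iv5 F468673)) (tt N74452 (iv6 F419652)) (tt N98402 (iv7 F420804)))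
theorem Q77646 : ∀ i, i < 77646 → P i := stepQ 77645 Q77645 (allL N77645 (tt N44030 (iv1 D155473)) (tt N100493 (iv0 F429168)) (tt N98402 (iv2 F420802)) (tt N109065 (iv3 F465180)) (tt N76786 F244469) (tt N98385 F420722) (tt N98396 (iv6 F420774)) (tt N100495 (iv7 F429177)))
theorem Q77647 : ∀ i, i < 77647 → P i := stepQ 77646 Q77646 (allL N77646 (tt N61231 (iv1 F339357)) (tt N76560 (iv0 F339355)) (tt N76558 (iv2 F355589)) (tt N61453 F363836) (tt N100494 (iv4 F429171)) (tt N44030 (iv5 D155475)) (tt N104024 (iv6 F443841)) (tt N76557 F355588))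
theorem Q77648 : ∀ i, i < 77648 → P i := stepQ 77647 Q77647 (allL N77647 (tt N44034 (iv1 F244493)) (tt N44032 (iv0 D155488)) (tt N76954 F357700) (tt N64425 (iv3 F357699)) (tt N91529 (iv4 F393503)) (tt N104200 (iv5 F444667)) (tt N64424 F357701) (tt N92604 (iv7 F397602)))
theorem Q77649 : ∀ i, i < 77649 → P i := stepQ 77648 Q77648 (allL N77648 (tt N44032 (iv1 D155489)) (tt N44034 F244494) (tt N92604 (iv2 F397599)) (tt N76956 F357702) (tt N49041 F357703) (tt N85359 F372337) (tt N99770 (iv6 F426152)) (tt N76954 F357704))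
theorem Q77650 : ∀ i, i < 77650 → P i := stepQ 77649 Q77649 (allL N77649 (tt N109844 (iv1 F468872)) (tt N109845 (iv0 F468877)) (tt N100502 (iv2 F429213)) (tt N103817 (iv3 F442945)) (tt N98385 (iv4 F420721)) (tt N44032 (iv5 D155491)) (tt N98384 F420716) (tt N100501 (iv7 F429211)))
theorem Q77651 : ∀ i, i < 77651 → P i := stepQ 77650 Q77650 (allL N77650 (tt N68530 (iv1 F314761)) (tt N76785 F244499) (tt N75657 F244495) (tt N108730 (iv3 F463734)) (tt N44033 (iv4 D155492)) (tt N80860 F339364) (tt N76773 F244496) (tt N75656 F244497))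
theorem Q77652 : ∀ i, i < 77652 → P i := stepQ 77651 Q77651 (allL N77651 (tt N110518 D213757) (tt N79107 (iv0 F366470)) (tt N87262 (iv2 F378934)) (tt N44034 (iv3 D155493)) (tt N52463 (iv4 F361109)) (tt N110519 D213758) (tt N54715 (iv6 F353338)) (tt N87206 (iv7 F378762)))
theorem Q77653 : ∀ i, i < 77653 → P i := stepQ 77652 Q77652 (allL N77652 (tt N109845 (iv1 F468878)) (tt N109844 (iv0 F468871)) (tt N100501 (iv2 F429210)) (tt N110519 (iv3 F471956)) (tt N109800 (iv4 F468674)) (tt N44034 (iv5 D155494)) (tt N71254 F414640) (tt N100502 (iv7 F429214)))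
theorem Q77654 : ∀ i, i < 77654 → P i := stepQ 77653 Q77653 (allL N77653 (tt N62862 (iv1 F353341)) (tt N62865 (iv0 F353340)) (tt N62861 (iv2 F359457)) (tt N54715 F353337) (tt N44035 F244500) (tt N96920 (iv5 F414620)) (tt N44034 (iv6 D155495)) (tt N62860 F359452))
theorem Q77655 : ∀ i, i < 77655 → P i := stepQ 77654 Q77654 (allL N77654 (tt N77373 (iv1 F331657)) (tt N56140 F244502) (tt N67093 F244511) (tt N67039 F244503) (tt N44036 (iv4 D155498)) (tt N110517 (iv5 F471945)) (tt N59310 (iv6 F331662)) (tt N64779 F331656))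
theorem Q77656 : ∀ i, i < 77656 → P i := stepQ 77655 Q77655 (allL N77655 (tt N64791 (iv1 F352388)) (tt N64660 (iv0 F347682)) (tt N61054 (iv2 F352380)) (tt N44037 (iv3 D155500)) (tt N61038 F347680) (tt N106188 (iv5 F453526)) (tt N71788 (iv6 F360705)) (tt N61058 (iv7 F352387)))
theorem Q77657 : ∀ i, i < 77657 → P i := stepQ 77656 Q77656 (allL N77656 (tt N56140 F244514) (tt N77373 F244516) (tt N64779 (iv2 F331654)) (tt N56148 (iv3 F244517)) (tt N44037 (iv4 D155501)) (tt N76764 F244515) (tt N99829 (iv6 F426425)) (tt N67093 F244513))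
theorem Q77658 : ∀ i, i < 77658 → P i := stepQ 77657 Q77657 (allL N77657 (tt N63051 F244519) (tt N75641 F244523) (tt N64780 (iv2 F331651)) (tt N106188 (iv3 F453525)) (tt N98150 (iv4 F419716)) (tt N44037 (iv5 D155502)) (tt N106185 (iv6 F453512)) (tt N75650 F244518))
theorem Q77659 : ∀ i, i < 77659 → P i := stepQ 77658 Q77658 (allL N77658 (tt N99562 F426426) (tt N73833 (iv0 F347295)) (tt N64781 (iv2 F331655)) (tt N71788 F360706) (tt N99829 F426423) (tt N106186 (iv5 F453516)) (tt N44037 (iv6 D155503)) (tt N105293 (iv7 F449598)))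
theorem Q77660 : ∀ i, i < 77660 → P i := stepQ 77659 Q77659 (allL N77659 (tt N45279 F319412) (tt N44038 (iv0 D155504)) (tt N75982 F319413) (tt N74389 (iv3 F357698)) (tt N45272 F319414) (tt N99536 (iv5 F425029)) (tt N78175 F348307) (tt N72699 F319415))
theorem Q77661 : ∀ i, i < 77661 → P i := stepQ 77660 Q77660 (allL N77660 (tt N75982 F319416) (tt N72699 F319417) (tt N44038 (iv2 D155506)) (tt N78981 F355773) (tt N44048 F244524) (tt N110520 D213759) (tt N108068 (iv6 F460977)) (tt N45279 F319418))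
theorem Q77662 : ∀ i, i < 77662 → P i := stepQ 77661 Q77661 (allL N77661 (tt N107654 (iv1 F459101)) (tt N109404 (iv0 F466793)) (tt N110520 (iv2 F471961)) (tt N44039 F244525) (tt N109613 (iv4 F467743)) (tt N44038 (iv5 D155507)) (tt N109938 (iv6 F469302)) (tt N75983 (iv7 F366587)))
theorem Q77663 : ∀ i, i < 77663 → P i := stepQ 77662 Q77662 (allL N77662 (tt N100426 F428926) (tt N99544 (iv0 F425082)) (tt N108068 (iv2 F460975)) (tt N44040 F244526) (tt N44049 F244527) (tt N99921 (iv5 F426832)) (tt N44038 (iv6 D155508)) (tt N45282 F318757))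
theorem Q77664 : ∀ i, i < 77664 → P i := stepQ 77663 Q77663 (allL N77663 (tt N76560 (iv1 F355591)) (tt N61231 F355590) (tt N76557 F355587) (tt N84787 (iv3 F370627)) (tt N44039 (iv4 D155509)) (tt N100493 (iv5 F429167)) (tt N84783 F370617) (tt N76558 (iv7 F355583)))
theorem Q77665 : ∀ i, i < 77665 → P i := stepQ 77664 Q77664 (allL N77664 (tt N86198 F375349) (tt N89869 (iv0 F387813)) (tt N110516 (iv2 F471937)) (tt N109938 (iv3 F469301)) (tt N84783 (iv4 F370618)) (tt N110521 D213760) (tt N44039 (iv6 D155510)) (tt N104138 (iv7 F444379)))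
theorem Q77666 : ∀ i, i < 77666 → P i := stepQ 77665 Q77665 (allL N77665 (tt N101306 (iv1 F432600)) (tt N91129 (iv0 F392030)) (tt N109209 (iv2 F465793)) (tt N99921 F426833) (tt N110522 D213761) (tt N44040 (iv5 D155512)) (tt N110521 (iv6 F471967)) (tt N109096 (iv7 F465321)))
theorem Q77667 : ∀ i, i < 77667 → P i := stepQ 77666 Q77666 (allL N77666 (tt N44041 (iv1 D155514)) (tt N99773 (iv0 F426168)) (tt N45307 (iv2 F308665)) (tt N52353 F306837) (tt N45587 F306838) (tt N99840 (iv5 F426469)) (tt N45305 F306839) (tt N99991 (iv7 F427082)))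
theorem Q77668 : ∀ i, i < 77668 → P i := stepQ 77667 Q77667 (allL N77667 (tt N64404 (iv1 F337087)) (tt N79109 (iv0 F337086)) (tt N75985 F356828) (tt N98091 F419425) (tt N44046 (iv4 D155541)) (tt N72588 F337090) (tt N72166 (iv6 F337088)) (tt N73861 (iv7 F325375)))
theorem Q77669 : ∀ i, i < 77669 → P i := stepQ 77668 Q77668 (allL N77668 (tt N80477 F354090) (tt N68456 F354095) (tt N73103 (iv2 F354094)) (tt N44047 (iv3 D155545)) (tt N57391 F354085) (tt N76163 (iv5 F354091)) (tt N73100 F350258) (tt N75984 F354093))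
theorem Q77670 : ∀ i, i < 77670 → P i := stepQ 77669 Q77669 (allL N77669 (tt N79109 (iv1 F356830)) (tt N64404 (iv0 F350261)) (tt N73861 (iv2 F350260)) (tt N66996 F350265) (tt N44047 (iv4 D155546)) (tt N110523 D213762) (tt N73802 F350259) (tt N75985 F356829))
theorem Q77671 : ∀ i, i < 77671 → P i := stepQ 77670 Q77670 (allL N77670 (tt N48442 F305756) (tt N63082 (iv0 F306194)) (tt N48486 (iv2 F306192)) (tt N44050 (iv3 D155564)) (tt N54247 (iv4 F304183)) (tt N99788 (iv5 F426216)) (tt N46104 (iv6 F307762)) (tt N46141 (iv7 F310181)))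
theorem Q77672 : ∀ i, i < 77672 → P i := stepQ 77671 Q77671 (allL N77671 (tt N110524 D213763) (tt N74925 (iv0 F335906)) (tt N85881 (iv2 F374309)) (tt N86130 (iv3 F375190)) (tt N44053 F244596) (tt N86531 (iv5 F376445)) (tt N44052 (iv6 D155577)) (tt N110525 D213764))
theorem Q77673 : ∀ i, i < 77673 → P i := stepQ 77672 Q77672 (allL N77672 (tt N109035 F465031) (tt N44053 (iv0 D155578)) (tt N109685 F468101) (tt N98368 F421662) (tt N109074 (iv4 F465229)) (tt N104227 (iv5 F444802)) (tt N105914 F452323) (tt N109054 (iv7 F465128)))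
theorem Q77674 : ∀ i, i < 77674 → P i := stepQ 77673 Q77673 (allL N77673 (tt N44053 (iv1 D155579)) (tt N109035 (iv0 F465030)) (tt N109054 (iv2 F465124)) (tt N61328 F421587) (tt N75542 F421588) (tt N110526 D213765) (tt N75541 F421589) (tt N109685 (iv7 F468103)))
theorem Q77675 : ∀ i, i < 77675 → P i := stepQ 77674 Q77674 (allL N77674 (tt N109054 F465130) (tt N109685 F468102) (tt N109035 (iv2 F465027)) (tt N61626 F244597) (tt N110525 (iv4 F471983)) (tt N92950 (iv5 F398878)) (tt N74924 (iv6 F366607)) (tt N44053 (iv7 D155580)))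
theorem Q77676 : ∀ i, i < 77676 → P i := stepQ 77675 Q77675 (allL N77675 (tt N72457 (iv1 F365065)) (tt N72616 F365066) (tt N72500 (iv2 F349990)) (tt N44054 (iv3 D155581)) (tt N100044 (iv4 F427347)) (tt N54994 F349994) (tt N58129 F349995) (tt N72615 (iv7 F365344)))
theorem Q77677 : ∀ i, i < 77677 → P i := stepQ 77676 Q77676 (allL N77676 (tt N62326 F356809) (tt N62323 F362448) (tt N92597 (iv2 F397554)) (tt N88381 (iv3 F382824)) (tt N44056 F244608) (tt N85996 (iv5 F374817)) (tt N44055 (iv6 D155589)) (tt N72753 F366206))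
theorem Q77678 : ∀ i, i < 77678 → P i := stepQ 77677 Q77677 (allL N77677 (tt N107125 F457094) (tt N44058 (iv0 D155603)) (tt N74000 (iv2 F320339)) (tt N53629 F390039) (tt N74003 (iv4 F320335)) (tt N101107 (iv5 F431704)) (tt N92150 F395983) (tt N107460 (iv7 F458414)))
theorem Q77679 : ∀ i, i < 77679 → P i := stepQ 77678 Q77678 (allL N77678 (tt N44058 (iv1 D155604)) (tt N107125 (iv0 F457093)) (tt N107460 (iv2 F458411)) (tt N62572 F366417) (tt N62573 (iv4 F318149)) (tt N101108 (iv5 F431707)) (tt N74256 (iv6 F366418)) (tt N74000 (iv7 F320341)))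
theorem Q77680 : ∀ i, i < 77680 → P i := stepQ 77679 Q77679 (allL N77679 (tt N110527 D213766) (tt N73992 (iv0 F362322)) (tt N54766 (iv2 F365554)) (tt N55375 (iv3 F365555)) (tt N53941 (iv4 F365564)) (tt N44058 (iv5 D155605)) (tt N53437 F365553) (tt N110528 D213767))
theorem Q77681 : ∀ i, i < 77681 → P i := stepQ 77680 Q77680 (allL N77680 (tt N107460 (iv1 F458416)) (tt N74000 (iv0 F320337)) (tt N107125 (iv2 F457090)) (tt N79529 F349428) (tt N44061 F244637) (tt N110528 (iv5 F472005)) (tt N76172 F244638) (tt N44058 (iv7 D155606)))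
theorem Q77682 : ∀ i, i < 77682 → P i := stepQ 77681 Q77681 (allL N77681 (tt N71680 F360992) (tt N72826 (iv0 F359181)) (tt N109617 (iv2 F467767)) (tt N110529 D213768) (tt N44059 (iv4 D155609)) (tt N71442 (iv5 F385247)) (tt N101804 (iv6 F434413)) (tt N109618 (iv7 F467769)))
theorem Q77683 : ∀ i, i < 77683 → P i := stepQ 77682 Q77682 (allL N77682 (tt N72826 (iv1 F366164)) (tt N71680 F360993) (tt N109618 F467772) (tt N89997 (iv3 F408897)) (tt N44060 (iv4 D155613)) (tt N71665 F382830) (tt N72763 (iv6 F359207)) (tt N109617 (iv7 F467766)))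
theorem Q77684 : ∀ i, i < 77684 → P i := stepQ 77683 Q77683 (allL N77683 (tt N76154 (iv1 F244651)) (tt N44062 (iv0 D155617)) (tt N66326 F349920) (tt N91403 (iv3 F393001)) (tt N93788 (iv4 F401888)) (tt N67114 (iv5 F349919)) (tt N97076 (iv6 F415355)) (tt N76153 F349903))
theorem Q77685 : ∀ i, i < 77685 → P i := stepQ 77684 Q77684 (allL N77684 (tt N66326 (iv1 F346525)) (tt N76153 F244655) (tt N44062 (iv2 D155619)) (tt N54323 (iv3 F326897)) (tt N55260 (iv4 F346521)) (tt N54323 (iv5 F326898)) (tt N54321 (iv6 F337554)) (tt N76154 F244654))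
theorem Q77686 : ∀ i, i < 77686 → P i := stepQ 77685 Q77685 (allL N77685 (tt N90772 (iv1 F390797)) (tt N87486 (iv0 F379526)) (tt N44067 F244681) (tt N66942 F336308) (tt N51625 F346787) (tt N69307 (iv5 F341653)) (tt N44066 (iv6 D155658)) (tt N91330 (iv7 F392763)))
theorem Q77687 : ∀ i, i < 77687 → P i := stepQ 77686 Q77686 (allL N77686 (tt N87486 (iv1 F379527)) (tt N90772 (iv0 F390796)) (tt N91330 F392761) (tt N44070 F244683) (tt N54512 (iv4 F346764)) (tt N69306 F341650) (tt N47811 F313874) (tt N44067 (iv7 D155662)))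
theorem Q77688 : ∀ i, i < 77688 → P i := stepQ 77687 Q77687 (allL N77687 (tt N88503 (iv1 F383307)) (tt N101198 F432152) (tt N47541 F344761) (tt N44068 (iv3 D155663)) (tt N110076 (iv4 F469861)) (tt N47259 F344762) (tt N65141 F344763) (tt N76147 F244684))
theorem Q77689 : ∀ i, i < 77689 → P i := stepQ 77688 Q77688 (allL N77688 (tt N72254 F353413) (tt N72253 F360546) (tt N63187 F244706) (tt N51099 F365413) (tt N56106 F244707) (tt N89350 (iv5 F386216)) (tt N44072 (iv6 D155673)) (tt N72249 F353415))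
theorem Q77690 : ∀ i, i < 77690 → P i := stepQ 77689 Q77689 (allL N77689 (tt N73268 (iv1 F348148)) (tt N44073 (iv0 D155681)) (tt N73993 (iv2 F348150)) (tt N85341 (iv3 F384764)) (tt N73346 F348149) (tt N107475 (iv5 F458448)) (tt N73248 (iv6 F361961)) (tt N89534 (iv7 F386724)))
theorem Q77691 : ∀ i, i < 77691 → P i := stepQ 77690 Q77690 (allL N77690 (tt N44073 (iv1 D155682)) (tt N73268 (iv0 F348144)) (tt N89534 (iv2 F386721)) (tt N70458 (iv3 F348153)) (tt N70459 (iv4 F312221)) (tt N100872 (iv5 F430835)) (tt N95612 (iv6 F408883)) (tt N73993 F348152))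
theorem Q77692 : ∀ i, i < 77692 → P i := stepQ 77691 Q77691 (allL N77691 (tt N110530 D213769) (tt N108731 (iv0 F463744)) (tt N109687 (iv2 F468108)) (tt N83507 F365351) (tt N110531 D213770) (tt N44073 (iv5 D155683)) (tt N83506 (iv6 F365352)) (tt N110532 D213771))
theorem Q77693 : ∀ i, i < 77693 → P i := stepQ 77692 Q77692 (allL N77692 (tt N89534 (iv1 F386726)) (tt N73993 (iv0 F362320)) (tt N73268 F348146) (tt N81072 F358786) (tt N44076 F244714) (tt N110532 (iv5 F472023)) (tt N73254 (iv6 F348155)) (tt N44073 (iv7 D155684)))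
theorem Q77694 : ∀ i, i < 77694 → P i := stepQ 77693 Q77693 (allL N77693 (tt N46527 F340771) (tt N76044 F340772) (tt N73945 F340773) (tt N44074 (iv3 D155686)) (tt N108047 (iv4 F460871)) (tt N110045 (iv5 F469708)) (tt N73743 F340774) (tt N109348 (iv7 F466508)))
theorem Q77695 : ∀ i, i < 77695 → P i := stepQ 77694 Q77694 (allL N77694 (tt N108065 (iv1 F460961)) (tt N94148 (iv0 F403435)) (tt N108058 (iv2 F460919)) (tt N108030 F460811) (tt N44074 (iv4 D155687)) (tt N110533 D213772) (tt N99538 F425036) (tt N108080 (iv7 F461028)))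
theorem Q77696 : ∀ i, i < 77696 → P i := stepQ 77695 Q77695 (allL N77695 (tt N99716 (iv1 F425885)) (tt N68296 (iv0 F252458)) (tt N107572 F458799) (tt N110045 (iv3 F469706)) (tt N89104 (iv4 F385169)) (tt N44074 (iv5 D155688)) (tt N89102 (iv6 F385160)) (tt N76517 F252479))
theorem Q77697 : ∀ i, i < 77697 → P i := stepQ 77696 Q77696 (allL N77696 (tt N48098 F252457) (tt N48104 (iv0 F252455)) (tt N48103 F252470) (tt N73743 (iv3 F339014)) (tt N99538 (iv4 F425032)) (tt N75792 (iv5 F307338)) (tt N44074 (iv6 D155689)) (tt N48102 F279099))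
theorem Q77698 : ∀ i, i < 77698 → P i := stepQ 77697 Q77697 (allL N77697 (tt N94148 (iv1 F403434)) (tt N108065 F460962) (tt N108080 F461026) (tt N108405 (iv3 F462443)) (tt N44075 (iv4 D155692)) (tt N110534 D213773) (tt N108439 (iv6 F462566)) (tt N108058 F460924))
theorem Q77699 : ∀ i, i < 77699 → P i := stepQ 77698 Q77698 (allL N77698 (tt N95767 F409545) (tt N60078 F393003) (tt N77981 F359966) (tt N44078 (iv3 D155701)) (tt N77977 (iv4 F359960)) (tt N55021 (iv5 F359963)) (tt N77976 F336298) (tt N86376 (iv7 F376002)))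
theorem Q77700 : ∀ i, i < 77700 → P i := stepQ 77699 Q77699 (allL N77699 (tt N86380 F376020) (tt N80847 F358768) (tt N44080 F244721) (tt N91355 (iv3 F392850)) (tt N48938 F329895) (tt N104802 (iv5 F447354)) (tt N44079 (iv6 D155705)) (tt N103146 (iv7 F440287)))
theorem Q77701 : ∀ i, i < 77701 → P i := stepQ 77700 Q77700 (allL N77700 (tt N103146 F440291) (tt N44080 (iv0 D155706)) (tt N86380 (iv2 F376016)) (tt N67810 (iv3 F354056)) (tt N83213 F358749) (tt N80848 F354055) (tt N79524 (iv6 F354057)) (tt N80847 (iv7 F354058)))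
theorem Q77702 : ∀ i, i < 77702 → P i := stepQ 77701 Q77701 (allL N77701 (tt N44080 (iv1 D155707)) (tt N103146 F440290) (tt N80847 F358470) (tt N95779 F409611) (tt N83214 F358754) (tt N80846 (iv5 F358469)) (tt N101211 (iv6 F432220)) (tt N86380 (iv7 F376017)))
theorem Q77703 : ∀ i, i < 77703 → P i := stepQ 77702 Q77702 (allL N77702 (tt N94071 F403069) (tt N103110 (iv0 F440121)) (tt N104802 (iv2 F447352)) (tt N44082 F244722) (tt N110535 D213774) (tt N44080 (iv5 D155708)) (tt N68041 (iv6 F320268)) (tt N104806 (iv7 F447377)))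
theorem Q77704 : ∀ i, i < 77704 → P i := stepQ 77703 Q77703 (allL N77703 (tt N80847 F358767) (tt N86380 F376018) (tt N103146 (iv2 F440285)) (tt N44083 F244724) (tt N81072 F358787) (tt N104806 (iv5 F447379)) (tt N82436 F358790) (tt N44080 (iv7 D155709)))
theorem Q77705 : ∀ i, i < 77705 → P i := stepQ 77704 Q77704 (allL N77704 (tt N80828 (iv1 F366509)) (tt N80827 (iv0 F366510)) (tt N79460 (iv2 F366506)) (tt N44081 (iv3 D155710)) (tt N110536 D213775) (tt N79459 (iv5 F366507)) (tt N79517 (iv6 F366508)) (tt N80299 F366505))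
theorem Q77706 : ∀ i, i < 77706 → P i := stepQ 77705 Q77705 (allL N77705 (tt N98912 F422767) (tt N99969 (iv0 F427008)) (tt N100460 (iv2 F429058)) (tt N98893 (iv3 F422711)) (tt N44084 (iv4 D155719)) (tt N110537 D213776) (tt N62549 (iv6 F366520)) (tt N100461 (iv7 F429066)))
theorem Q77707 : ∀ i, i < 77707 → P i := stepQ 77706 Q77706 (allL N77706 (tt N99341 F424189) (tt N68289 (iv0 F244733)) (tt N87922 (iv2 F381138)) (tt N44086 F244731) (tt N100610 (iv4 F429696)) (tt N44084 (iv5 D155720)) (tt N76013 F355259) (tt N76535 F244732))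
theorem Q77708 : ∀ i, i < 77708 → P i := stepQ 77707 Q77707 (allL N77707 (tt N60088 F350662) (tt N77753 F350664) (tt N81101 (iv2 F350666)) (tt N44085 (iv3 D155721)) (tt N98893 F422710) (tt N66914 (iv5 F350663)) (tt N79513 F350667) (tt N79407 F350665))
theorem Q77709 : ∀ i, i < 77709 → P i := stepQ 77708 Q77708 (allL N77708 (tt N59774 F358498) (tt N59820 F358500) (tt N59818 F358514) (tt N44089 (iv3 D155727)) (tt N63160 F244736) (tt N48910 F358499) (tt N110538 D213777) (tt N59817 (iv7 F358510)))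
theorem Q77710 : ∀ i, i < 77710 → P i := stepQ 77709 Q77709 (allL N77709 (tt N72330 F366525) (tt N72329 F356607) (tt N100503 (iv2 F429216)) (tt N110538 (iv3 F472049)) (tt N63159 F244738) (tt N108743 (iv5 F463776)) (tt N44089 (iv6 D155728)) (tt N101821 (iv7 F434510)))
theorem Q77711 : ∀ i, i < 77711 → P i := stepQ 77710 Q77710 (allL N77710 (tt N54481 F362588) (tt N66454 F347147) (tt N55066 (iv2 F361850)) (tt N44092 F244741) (tt N44094 F244742) (tt N51670 F361845) (tt N44090 (iv6 D155733)) (tt N73706 F361853))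
theorem Q77712 : ∀ i, i < 77712 → P i := stepQ 77711 Q77711 (allL N77711 (tt N88061 F381637) (tt N44091 (iv0 D155734)) (tt N63499 (iv2 F244744)) (tt N87103 (iv3 F378377)) (tt N98392 (iv4 F420754)) (tt N63458 F244743) (tt N48758 F330006) (tt N63497 (iv7 F244745)))
theorem Q77713 : ∀ i, i < 77713 → P i := stepQ 77712 Q77712 (allL N77712 (tt N44091 (iv1 D155735)) (tt N88061 (iv0 F381634)) (tt N63497 (iv2 F244748)) (tt N91430 (iv3 F393100)) (tt N98394 (iv4 F420761)) (tt N63457 F244747) (tt N59822 (iv6 F358517)) (tt N63499 F244746))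
theorem Q77714 : ∀ i, i < 77714 → P i := stepQ 77713 Q77713 (allL N77713 (tt N110539 D213778) (tt N87933 (iv0 F381214)) (tt N88370 (iv2 F382770)) (tt N48957 F326523) (tt N55308 F326524) (tt N51668 F361846) (tt N44091 (iv6 D155737)) (tt N51828 (iv7 F361847)))
theorem Q77715 : ∀ i, i < 77715 → P i := stepQ 77714 Q77714 (allL N77714 (tt N73658 (iv1 F361871)) (tt N44092 (iv0 D155738)) (tt N59811 (iv2 F361867)) (tt N62096 F361868) (tt N108282 (iv4 F461863)) (tt N59902 F361869) (tt N82099 F363698) (tt N73625 F361870))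
theorem Q77716 : ∀ i, i < 77716 → P i := stepQ 77715 Q77715 (allL N77715 (tt N91327 F392753) (tt N92498 (iv0 F397174)) (tt N44094 F244764) (tt N91713 (iv3 F394145)) (tt N55066 F361851) (tt N82434 (iv5 F350213)) (tt N44093 (iv6 D155755)) (tt N103148 (iv7 F440302)))
theorem Q77717 : ∀ i, i < 77717 → P i := stepQ 77716 Q77716 (allL N77716 (tt N44094 (iv1 D155757)) (tt N103148 (iv0 F440303)) (tt N92498 F397176) (tt N102773 (iv3 F438580)) (tt N86393 F376072) (tt N75414 (iv5 F345785)) (tt N102771 (iv6 F438572)) (tt N91327 F392754))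
theorem Q77718 : ∀ i, i < 77718 → P i := stepQ 77717 Q77717 (allL N77717 (tt N92498 F397175) (tt N91327 (iv0 F392755)) (tt N103148 (iv2 F440298)) (tt N44096 F244767) (tt N73706 (iv4 F361854)) (tt N46347 F318533) (tt N81237 F366387) (tt N44094 (iv7 D155759)))
theorem Q77719 : ∀ i, i < 77719 → P i := stepQ 77718 Q77718 (allL N77718 (tt N82057 F350839) (tt N44117 F350834) (tt N60379 F350835) (tt N44097 (iv3 D155768)) (tt N99490 (iv4 F424825)) (tt N58674 F350836) (tt N79408 (iv6 F365587)) (tt N66477 (iv7 F350837)))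
theorem Q77720 : ∀ i, i < 77720 → P i := stepQ 77719 Q77719 (allL N77719 (tt N102726 (iv1 F438379)) (tt N102725 (iv0 F438375)) (tt N94103 (iv2 F403217)) (tt N89514 (iv3 F386695)) (tt N44101 (iv4 D155779)) (tt N108768 (iv5 F463854)) (tt N110540 D213779) (tt N100509 (iv7 F429244)))
theorem Q77721 : ∀ i, i < 77721 → P i := stepQ 77720 Q77720 (allL N77720 (tt N106222 F453630) (tt N77759 (iv0 F353769)) (tt N94102 (iv2 F403211)) (tt N77445 F353766) (tt N110540 (iv4 F472059)) (tt N61013 (iv5 F353774)) (tt N44101 (iv6 D155781)) (tt N101825 (iv7 F434529)))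
theorem Q77722 : ∀ i, i < 77722 → P i := stepQ 77721 Q77721 (allL N77721 (tt N80803 (iv1 F376010)) (tt N77751 F376011) (tt N81125 (iv2 F347870)) (tt N44102 (iv3 D155783)) (tt N92879 (iv4 F398616)) (tt N77732 (iv5 F347872)) (tt N92877 F398604) (tt N81124 (iv7 F353020)))
theorem Q77723 : ∀ i, i < 77723 → P i := stepQ 77722 Q77722 (allL N77722 (tt N102725 (iv1 F438376)) (tt N102726 (iv0 F438378)) (tt N100509 (iv2 F429242)) (tt N109574 (iv3 F467584)) (tt N44102 (iv4 D155784)) (tt N95331 (iv5 F407880)) (tt N96254 F411758) (tt N94103 (iv7 F403218)))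
theorem Q77724 : ∀ i, i < 77724 → P i := stepQ 77723 Q77723 (allL N77723 (tt N94098 (iv1 F403196)) (tt N94204 F403693) (tt N44104 F244794) (tt N66333 F366456) (tt N44103 (iv4 D155787)) (tt N99630 (iv5 F425499)) (tt N92450 F397040) (tt N94327 (iv7 F404051)))
theorem Q77725 : ∀ i, i < 77725 → P i := stepQ 77724 Q77724 (allL N77724 (tt N80796 (iv1 F331745)) (tt N77592 F331746) (tt N44105 F244795) (tt N100507 (iv3 F429234)) (tt N92450 (iv4 F397038)) (tt N102837 (iv5 F438876)) (tt N44103 (iv6 D155788)) (tt N80794 (iv7 F331744)))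
theorem Q77726 : ∀ i, i < 77726 → P i := stepQ 77725 Q77725 (allL N77725 (tt N94327 (iv1 F404055)) (tt N44104 (iv0 D155789)) (tt N94098 (iv2 F403192)) (tt N110461 (iv3 F471697)) (tt N92379 (iv4 F396879)) (tt N108761 (iv5 F463834)) (tt N110541 D213780) (tt N94204 F403691))
theorem Q77727 : ∀ i, i < 77727 → P i := stepQ 77726 Q77726 (allL N77726 (tt N44104 (iv1 D155790)) (tt N94327 (iv0 F404052)) (tt N94204 (iv2 F403689)) (tt N54999 F365605) (tt N55006 (iv4 F328604)) (tt N92374 (iv5 F396854)) (tt N94201 F403679) (tt N94098 (iv7 F403194)))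
theorem Q77728 : ∀ i, i < 77728 → P i := stepQ 77727 Q77727 (allL N77727 (tt N94325 (iv1 F404045)) (tt N108772 F463862) (tt N99630 (iv2 F425496)) (tt N74514 F244797) (tt N92377 (iv4 F396865)) (tt N44104 (iv5 D155791)) (tt N95333 (iv6 F407886)) (tt N100510 (iv7 F429250)))
theorem Q77729 : ∀ i, i < 77729 → P i := stepQ 77728 Q77728 (allL N77728 (tt N92306 (iv1 F396655)) (tt N92451 F397044) (tt N92450 F397039) (tt N77780 (iv3 F244940)) (tt N44105 F244798) (tt N66438 (iv5 F359066)) (tt N44104 (iv6 D155792)) (tt N92449 F397033))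
theorem Q77730 : ∀ i, i < 77730 → P i := stepQ 77729 Q77729 (allL N77729 (tt N80794 F331741) (tt N44105 (iv0 D155793)) (tt N80796 (iv2 F331736)) (tt N81057 (iv3 F331737)) (tt N55971 (iv4 F331739)) (tt N77593 F331735) (tt N81779 (iv6 F339275)) (tt N77592 (iv7 F331738)))
theorem Q77731 : ∀ i, i < 77731 → P i := stepQ 77730 Q77730 (allL N77730 (tt N100154 F427738) (tt N88492 (iv0 F383270)) (tt N102837 (iv2 F438874)) (tt N44106 F244799) (tt N66431 F359064) (tt N44105 (iv5 D155795)) (tt N67766 (iv6 F318539)) (tt N46824 F340185))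
theorem Q77732 : ∀ i, i < 77732 → P i := stepQ 77731 Q77731 (allL N77731 (tt N77592 F318950) (tt N80796 F318951) (tt N80794 F331742) (tt N44107 F244801) (tt N92449 (iv4 F397032)) (tt N46824 F318952) (tt N95795 (iv6 F409694)) (tt N44105 (iv7 D155796)))
theorem Q77733 : ∀ i, i < 77733 → P i := stepQ 77732 Q77732 (allL N77732 (tt N86358 F375931) (tt N44111 F365599) (tt N55092 F336639) (tt N44109 (iv3 D155807)) (tt N98995 (iv4 F422977)) (tt N77721 F347872) (tt N98469 (iv6 F421014)) (tt N57396 F353021))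
theorem Q77734 : ∀ i, i < 77734 → P i := stepQ 77733 Q77733 (allL N77733 (tt N44111 (iv1 D155827)) (tt N86358 (iv0 F375930)) (tt N57396 F365596) (tt N54931 (iv3 F365595)) (tt N98993 (iv4 F422963)) (tt N86377 (iv5 F376006)) (tt N57395 F365597) (tt N55092 F365598))
theorem Q77735 : ∀ i, i < 77735 → P i := stepQ 77734 Q77734 (allL N77734 (tt N67116 F244824) (tt N78831 (iv0 F251058)) (tt N78829 (iv2 F353003)) (tt N105976 (iv3 F452593)) (tt N44111 (iv4 D155829)) (tt N110542 D213781) (tt N110543 D213782) (tt N78830 (iv7 F353023)))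
theorem Q77736 : ∀ i, i < 77736 → P i := stepQ 77735 Q77735 (allL N77735 (tt N107102 F456980) (tt N67018 (iv0 F375909)) (tt N81068 F358747) (tt N44114 F244826) (tt N110543 (iv4 F472064)) (tt N110544 D213783) (tt N44111 (iv6 D155831)) (tt N82054 F353050))
theorem Q77737 : ∀ i, i < 77737 → P i := stepQ 77736 Q77736 (allL N77736 (tt N44115 (iv1 F244833)) (tt N44112 (iv0 D155833)) (tt N89600 F386920) (tt N55016 F365594) (tt N55021 (iv4 F328605)) (tt N110545 D213784) (tt N110546 D213785) (tt N89601 (iv7 F386919)))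
theorem Q77738 : ∀ i, i < 77738 → P i := stepQ 77737 Q77737 (allL N77737 (tt N44112 (iv1 D155834)) (tt N44115 F244829) (tt N89601 (iv2 F386921)) (tt N109350 F466517) (tt N103184 (iv4 F440467)) (tt N110547 D213786) (tt N101826 (iv6 F434536)) (tt N89600 F386922))
theorem Q77739 : ∀ i, i < 77739 → P i := stepQ 77738 Q77738 (allL N77738 (tt N89588 F386850) (tt N89587 F386843) (tt N89028 (iv2 F384872)) (tt N44112 (iv3 D155835)) (tt N105976 (iv4 F452592)) (tt N110548 D213787) (tt N110549 D213788) (tt N89589 (iv7 F386853)))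
theorem Q77740 : ∀ i, i < 77740 → P i := stepQ 77739 Q77739 (allL N77739 (tt N110550 D213789) (tt N110551 D213790) (tt N86068 F375049) (tt N110548 (iv3 F472088)) (tt N110552 D213791) (tt N44112 (iv5 D155836)) (tt N110553 D213792) (tt N109418 (iv7 F466861)))
theorem Q77741 : ∀ i, i < 77741 → P i := stepQ 77740 Q77740 (allL N77740 (tt N100391 (iv1 F428761)) (tt N47355 F353044) (tt N82052 F353045) (tt N110549 (iv3 F472093)) (tt N44114 F244830) (tt N110554 D213793) (tt N44112 (iv6 D155837)) (tt N82055 F353046))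
theorem Q77742 : ∀ i, i < 77742 → P i := stepQ 77741 Q77741 (allL N77741 (tt N44116 (iv1 F244837)) (tt N44113 (iv0 D155839)) (tt N63765 (iv2 F360752)) (tt N76157 F360753) (tt N76826 F360754) (tt N76157 F360755) (tt N79414 F360756) (tt N76158 F360757))
theorem Q77743 : ∀ i, i < 77743 → P i := stepQ 77742 Q77742 (allL N77742 (tt N90192 F388835) (tt N66267 F388836) (tt N91267 (iv2 F392466)) (tt N110555 D213794) (tt N44113 (iv4 D155841)) (tt N110556 D213795) (tt N100411 F428857) (tt N99261 F423860))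
theorem Q77744 : ∀ i, i < 77744 → P i := stepQ 77743 Q77743 (allL N77743 (tt N63519 (iv1 F359982)) (tt N63524 (iv0 F359981)) (tt N63638 (iv2 F359351)) (tt N91336 (iv3 F392787)) (tt N100411 (iv4 F428856)) (tt N99955 (iv5 F426940)) (tt N44113 (iv6 D155842)) (tt N63637 (iv7 F359353)))
theorem Q77745 : ∀ i, i < 77745 → P i := stepQ 77744 Q77744 (allL N77744 (tt N44432 F353047) (tt N70555 F353048) (tt N82053 (iv2 F353052)) (tt N110544 (iv3 F472067)) (tt N103099 (iv4 F440068)) (tt N44114 (iv5 D155846)) (tt N99955 (iv6 F426941)) (tt N82056 F353051))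
theorem Q77746 : ∀ i, i < 77746 → P i := stepQ 77745 Q77745 (allL N77745 (tt N110551 (iv1 F472098)) (tt N110550 F472097) (tt N109418 (iv2 F466859)) (tt N55100 (iv3 F365266)) (tt N110557 D213796) (tt N44115 (iv5 D155856)) (tt N110558 D213797) (tt N86068 (iv7 F375048)))
theorem Q77747 : ∀ i, i < 77747 → P i := stepQ 77746 Q77746 (allL N77746 (tt N110559 D213798) (tt N93651 (iv0 F410982)) (tt N106945 (iv2 F456392)) (tt N55101 F365243) (tt N44117 F244843) (tt N110560 D213799) (tt N44115 (iv6 D155857)) (tt N110561 D213800))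
theorem Q77748 : ∀ i, i < 77748 → P i := stepQ 77747 Q77747 (allL N77747 (tt N66267 F365113) (tt N90192 (iv0 F388834)) (tt N99261 (iv2 F423857)) (tt N76838 (iv3 F360758)) (tt N44116 (iv4 D155858)) (tt N76861 (iv5 F359978)) (tt N76864 F359977) (tt N91267 (iv7 F392464)))
theorem Q77749 : ∀ i, i < 77749 → P i := stepQ 77748 Q77748 (allL N77748 (tt N66477 F350827) (tt N60379 F350828) (tt N82057 F350829) (tt N81071 (iv3 F358756)) (tt N110561 (iv4 F472148)) (tt N45926 F350830) (tt N63540 F350831) (tt N44117 (iv7 D155863)))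
theorem Q77750 : ∀ i, i < 77750 → P i := stepQ 77749 Q77749 (allL N77749 (tt N61861 (iv1 F346466)) (tt N63684 F244848) (tt N44121 F244844) (tt N76812 (iv3 F244847)) (tt N44118 (iv4 D155864)) (tt N110562 D213801) (tt N110563 D213802) (tt N63685 F244845))
theorem Q77751 : ∀ i, i < 77751 → P i := stepQ 77750 Q77750 (allL N77750 (tt N82219 (iv1 F279205)) (tt N82218 F279204) (tt N44122 F244849) (tt N75681 F244850) (tt N110563 (iv4 F472161)) (tt N101230 F432316) (tt N44118 (iv6 D155865)) (tt N82196 (iv7 F279166)))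
theorem Q77752 : ∀ i, i < 77752 → P i := stepQ 77751 Q77751 (allL N77751 (tt N77721 (iv1 F376011)) (tt N86377 (iv0 F376008)) (tt N86391 (iv2 F376055)) (tt N44119 (iv3 D155867)) (tt N67087 F244852) (tt N71342 F362971) (tt N58794 (iv6 F347893)) (tt N47219 F347891))
theorem Q77753 : ∀ i, i < 77753 → P i := stepQ 77752 Q77752 (allL N77752 (tt N77986 (iv1 F359965)) (tt N77977 F359962) (tt N63796 F350658) (tt N91351 (iv3 F392835)) (tt N44120 (iv4 D155873)) (tt N110564 D213803) (tt N72657 (iv6 F350657)) (tt N61844 F350659))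
theorem Q77754 : ∀ i, i < 77754 → P i := stepQ 77753 Q77753 (allL N77753 (tt N77707 (iv1 F350664)) (tt N47962 F347886) (tt N47216 F347887) (tt N77414 (iv3 F361637)) (tt N72657 F350655) (tt N103757 (iv5 F442694)) (tt N44120 (iv6 D155875)) (tt N58803 F347902))
theorem Q77755 : ∀ i, i < 77755 → P i := stepQ 77754 Q77754 (allL N77754 (tt N44121 (iv1 D155877)) (tt N63685 F244855) (tt N63684 (iv2 F354580)) (tt N110565 D213804) (tt N78837 (iv4 F251063)) (tt N109967 (iv5 F469413)) (tt N99083 (iv6 F423271)) (tt N61861 F354575))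
theorem Q77756 : ∀ i, i < 77756 → P i := stepQ 77755 Q77755 (allL N77755 (tt N110566 D213805) (tt N110567 D213806) (tt N110562 (iv2 F472153)) (tt N62990 F244856) (tt N110568 D213807) (tt N44121 (iv5 D155878)) (tt N110569 D213808) (tt N63686 F244857))
theorem Q77757 : ∀ i, i < 77757 → P i := stepQ 77756 Q77756 (allL N77756 (tt N110570 D213809) (tt N99131 (iv0 F423418)) (tt N110563 (iv2 F472159)) (tt N62986 F244858) (tt N44122 F244859) (tt N110571 D213810) (tt N44121 (iv6 D155879)) (tt N78204 (iv7 F320441)))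
theorem Q77758 : ∀ i, i < 77758 → P i := stepQ 77757 Q77757 (allL N77757 (tt N82196 (iv1 F279168)) (tt N44122 (iv0 D155880)) (tt N82219 F415437) (tt N110572 D213811) (tt N110573 D213812) (tt N97089 F415435) (tt N110574 D213813) (tt N82218 (iv7 F415436)))
theorem Q77759 : ∀ i, i < 77759 → P i := stepQ 77758 Q77758 (allL N77758 (tt N44122 (iv1 D155881)) (tt N82196 F279167) (tt N82218 (iv2 F415438)) (tt N91384 (iv3 F392946)) (tt N99188 (iv4 F423622)) (tt N97090 F415442) (tt N97382 (iv6 F416619)) (tt N82219 F415439))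
theorem Q77760 : ∀ i, i < 77760 → P i := stepQ 77759 Q77759 (allL N77759 (tt N77720 F353769) (tt N82195 F403215) (tt N94094 (iv2 F403177)) (tt N44124 (iv3 D155884)) (tt N110575 D213814) (tt N100497 (iv5 F429193)) (tt N102660 (iv6 F438108)) (tt N75678 F244869))
theorem Q77761 : ∀ i, i < 77761 → P i := stepQ 77760 Q77760 (allL N77760 (tt N64256 (iv1 F312483)) (tt N59940 F342270) (tt N75606 (iv2 F354266)) (tt N100497 (iv3 F429191)) (tt N57486 F244871) (tt N44124 (iv5 D155885)) (tt N68409 (iv6 F354271)) (tt N75679 F244872))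
theorem Q77762 : ∀ i, i < 77762 → P i := stepQ 77761 Q77761 (allL N77761 (tt N44125 (iv1 D155888)) (tt N92376 (iv0 F396861)) (tt N100045 F427356) (tt N55028 F365262) (tt N55031 (iv4 F329938)) (tt N102740 (iv5 F438437)) (tt N90470 (iv6 F389777)) (tt N100046 (iv7 F427359)))
theorem Q77763 : ∀ i, i < 77763 → P i := stepQ 77762 Q77762 (allL N77762 (tt N108761 (iv1 F463835)) (tt N92374 (iv0 F404053)) (tt N108763 (iv2 F463836)) (tt N44126 F244882) (tt N95330 (iv4 F407878)) (tt N44125 (iv5 D155890)) (tt N110576 D213815) (tt N100047 (iv7 F427365)))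
theorem Q77764 : ∀ i, i < 77764 → P i := stepQ 77763 Q77763 (allL N77763 (tt N108700 F463610) (tt N108705 F463632) (tt N108703 F463623) (tt N44127 F244883) (tt N44133 F244884) (tt N92440 (iv5 F397003)) (tt N44125 (iv6 D155891)) (tt N79622 (iv7 F366794)))
theorem Q77765 : ∀ i, i < 77765 → P i := stepQ 77764 Q77764 (allL N77764 (tt N110577 D213816) (tt N110578 D213817) (tt N100097 (iv2 F427503)) (tt N110576 (iv3 F472206)) (tt N63176 F244885) (tt N100096 (iv5 F427502)) (tt N44126 (iv6 D155892)) (tt N110579 D213818))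
theorem Q77766 : ∀ i, i < 77766 → P i := stepQ 77765 Q77765 (allL N77765 (tt N100090 (iv1 F427491)) (tt N44127 (iv0 D155893)) (tt N100115 (iv2 F427542)) (tt N110580 D213819) (tt N100279 (iv4 F428232)) (tt N110581 D213820) (tt N101857 F434696) (tt N100116 (iv7 F427544)))
theorem Q77767 : ∀ i, i < 77767 → P i := stepQ 77766 Q77766 (allL N77766 (tt N44127 (iv1 D155894)) (tt N100090 F427490) (tt N100116 F427546) (tt N110582 D213821) (tt N87899 (iv4 F381024)) (tt N110583 D213822) (tt N72728 F381025) (tt N100115 F427541))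
theorem Q77768 : ∀ i, i < 77768 → P i := stepQ 77767 Q77767 (allL N77767 (tt N94240 F403815) (tt N108046 (iv0 F460868)) (tt N100098 (iv2 F427507)) (tt N92440 F397004) (tt N44288 F403816) (tt N44127 (iv5 D155895)) (tt N100096 F427501) (tt N110584 D213823))
theorem Q77769 : ∀ i, i < 77769 → P i := stepQ 77768 Q77768 (allL N77768 (tt N100116 (iv1 F427543)) (tt N100115 F427540) (tt N100090 (iv2 F427485)) (tt N79622 F366795) (tt N44130 F244886) (tt N110584 (iv5 F472244)) (tt N100042 (iv6 F427342)) (tt N44127 (iv7 D155896)))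
theorem Q77770 : ∀ i, i < 77770 → P i := stepQ 77769 Q77769 (allL N77769 (tt N89169 F385428) (tt N98381 (iv0 F420710)) (tt N109568 F467569) (tt N44128 (iv3 D155898)) (tt N95365 (iv4 F407997)) (tt N101180 (iv5 F432076)) (tt N74496 F244889) (tt N100118 (iv7 F427550)))
theorem Q77771 : ∀ i, i < 77771 → P i := stepQ 77770 Q77770 (allL N77770 (tt N108695 (iv1 F463590)) (tt N77020 (iv0 F347173)) (tt N100117 (iv2 F427547)) (tt N72494 F347172) (tt N44128 (iv4 D155899)) (tt N110585 D213824) (tt N72492 (iv6 F347170)) (tt N100119 (iv7 F427552)))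
theorem Q77772 : ∀ i, i < 77772 → P i := stepQ 77771 Q77771 (allL N77771 (tt N57695 (iv1 F314104)) (tt N63107 (iv0 F333709)) (tt N73338 F333665) (tt N101180 (iv3 F432078)) (tt N79383 (iv4 F333712)) (tt N44128 (iv5 D155900)) (tt N74501 F244891) (tt N73339 (iv7 F343412)))
theorem Q77773 : ∀ i, i < 77773 → P i := stepQ 77772 Q77772 (allL N77772 (tt N72823 (iv1 F351492)) (tt N80346 (iv0 F351482)) (tt N81680 (iv2 F351494)) (tt N44129 (iv3 D155902)) (tt N76863 F244893) (tt N52177 F351493) (tt N72738 (iv6 F364629)) (tt N81713 (iv7 F351495)))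
theorem Q77774 : ∀ i, i < 77774 → P i := stepQ 77773 Q77773 (allL N77773 (tt N77020 F244894) (tt N108695 (iv0 F463591)) (tt N100119 (iv2 F427551)) (tt N110586 D213825) (tt N44129 (iv4 D155903)) (tt N110587 D213826) (tt N72739 (iv6 F364630)) (tt N100117 (iv7 F427548)))
theorem Q77775 : ∀ i, i < 77775 → P i := stepQ 77774 Q77774 (allL N77774 (tt N63107 F333723) (tt N57695 (iv0 F314103)) (tt N73339 (iv2 F343408)) (tt N52177 F312334) (tt N63437 F312335) (tt N44129 (iv5 D155904)) (tt N47374 F312336) (tt N73338 F333727))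
theorem Q77776 : ∀ i, i < 77776 → P i := stepQ 77775 Q77775 (allL N77775 (tt N55050 (iv1 F375907)) (tt N55048 F375908) (tt N55046 (iv2 F365287)) (tt N44131 (iv3 D155912)) (tt N93790 (iv4 F401895)) (tt N54377 F365294) (tt N54378 (iv6 F365295)) (tt N55047 (iv7 F365289)))
theorem Q77777 : ∀ i, i < 77777 → P i := stepQ 77776 Q77776 (allL N77776 (tt N106446 (iv1 F454482)) (tt N106445 F454479) (tt N83181 (iv2 F365054)) (tt N77012 (iv3 F244901)) (tt N44131 (iv4 D155913)) (tt N106455 (iv5 F454521)) (tt N110513 (iv6 F471927)) (tt N71344 F365106))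
theorem Q77778 : ∀ i, i < 77778 → P i := stepQ 77777 Q77777 (allL N77777 (tt N79240 (iv1 F339261)) (tt N79581 F339265) (tt N44133 F244902) (tt N71343 (iv3 F353969)) (tt N108703 (iv4 F463622)) (tt N65067 (iv5 F339278)) (tt N44132 (iv6 D155916)) (tt N79621 F353966))
theorem Q77779 : ∀ i, i < 77779 → P i := stepQ 77778 Q77778 (allL N77778 (tt N44133 (iv1 D155918)) (tt N79621 F353968) (tt N79581 F353967) (tt N110588 D213827) (tt N110589 D213828) (tt N64104 (iv5 F337698)) (tt N102682 (iv6 F438190)) (tt N79240 F351012))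
theorem Q77780 : ∀ i, i < 77780 → P i := stepQ 77779 Q77779 (allL N77779 (tt N63370 F244920) (tt N65003 F348204) (tt N76514 F348202) (tt N81825 F348209) (tt N44134 (iv4 D155935)) (tt N57467 F348210) (tt N108681 (iv6 F463521)) (tt N76374 F341194))
theorem Q77781 : ∀ i, i < 77781 → P i := stepQ 77780 Q77780 (allL N77780 (tt N108435 F462550) (tt N110590 D213829) (tt N74517 F244939) (tt N77728 F244940) (tt N44137 F244941) (tt N102808 (iv5 F438731)) (tt N44136 (iv6 D155940)) (tt N108333 (iv7 F462114)))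
theorem Q77782 : ∀ i, i < 77782 → P i := stepQ 77781 Q77781 (allL N77781 (tt N62394 (iv1 F311037)) (tt N44137 (iv0 D155941)) (tt N73335 (iv2 F359895)) (tt N110591 D213830) (tt N110592 D213831) (tt N74315 F333692) (tt N57694 (iv6 F333699)) (tt N74518 F359880))
theorem Q77783 : ∀ i, i < 77783 → P i := stepQ 77782 Q77782 (allL N77782 (tt N44137 (iv1 D155942)) (tt N62394 (iv0 F311036)) (tt N74518 F359882) (tt N110593 D213832) (tt N92514 (iv4 F397204)) (tt N74314 F357080) (tt N73189 (iv6 F357081)) (tt N73335 F359894))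
theorem Q77784 : ∀ i, i < 77784 → P i := stepQ 77783 Q77783 (allL N77783 (tt N74518 (iv1 F244949)) (tt N73335 (iv0 F359896)) (tt N62394 (iv2 F311038)) (tt N44140 F244946) (tt N108333 (iv4 F462113)) (tt N61380 (iv5 F307725)) (tt N61381 (iv6 F311538)) (tt N44137 (iv7 D155943)))
theorem Q77785 : ∀ i, i < 77785 → P i := stepQ 77784 Q77784 (allL N77784 (tt N67074 (iv1 F342571)) (tt N66735 (iv0 F244954)) (tt N67072 F244951) (tt N44138 (iv3 D155944)) (tt N81257 (iv4 F360018)) (tt N64029 (iv5 F311175)) (tt N46453 F309203) (tt N67073 F244953))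
theorem Q77786 : ∀ i, i < 77786 → P i := stepQ 77785 Q77785 (allL N77785 (tt N60606 (iv1 F244962)) (tt N44142 (iv0 D155948)) (tt N60610 (iv2 F355950)) (tt N55579 (iv3 F358433)) (tt N97579 (iv4 F417441)) (tt N91558 (iv5 F393641)) (tt N55576 F358434) (tt N60609 F355949))
theorem Q77787 : ∀ i, i < 77787 → P i := stepQ 77786 Q77786 (allL N77786 (tt N44142 (iv1 D155949)) (tt N60606 (iv0 F244964)) (tt N60609 F355938) (tt N108285 (iv3 F461875)) (tt N65965 (iv4 F244963)) (tt N91554 (iv5 F393623)) (tt N71028 (iv6 F355937)) (tt N60610 (iv7 F355948)))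
theorem Q77788 : ∀ i, i < 77788 → P i := stepQ 77787 Q77787 (allL N77787 (tt N60610 (iv1 F244969)) (tt N60609 F244968) (tt N44142 (iv2 D155950)) (tt N58238 F244965) (tt N55650 F244966) (tt N87450 (iv5 F379361)) (tt N91877 (iv6 F394798)) (tt N60606 F244967))
theorem Q77789 : ∀ i, i < 77789 → P i := stepQ 77788 Q77788 (allL N77788 (tt N91879 F394806) (tt N91874 (iv0 F394786)) (tt N91877 F394799) (tt N44144 F244972) (tt N55651 F244973) (tt N108929 (iv5 F464535)) (tt N44142 (iv6 D155952)) (tt N91878 (iv7 F394802)))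
theorem Q77790 : ∀ i, i < 77790 → P i := stepQ 77789 Q77789 (allL N77789 (tt N80199 F357201) (tt N52590 (iv0 F346908)) (tt N71737 F244974) (tt N87452 (iv3 F379371)) (tt N59532 F244975) (tt N73600 F346907) (tt N44143 (iv6 D155953)) (tt N99576 (iv7 F425245)))
theorem Q77791 : ∀ i, i < 77791 → P i := stepQ 77790 Q77790 (allL N77790 (tt N59794 F244976) (tt N95346 F407942) (tt N77799 (iv2 F245001)) (tt N108929 (iv3 F464534)) (tt N73601 F346906) (tt N44144 (iv5 D155954)) (tt N73600 (iv6 F346905)) (tt N95344 F407932))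
theorem Q77792 : ∀ i, i < 77792 → P i := stepQ 77791 Q77791 (allL N77791 (tt N44145 (iv1 D155955)) (tt N58238 F244981) (tt N58241 (iv2 F244982)) (tt N92557 F397364) (tt N94700 (iv4 F405588)) (tt N106808 (iv5 F455768)) (tt N110594 D213833) (tt N58242 (iv7 F244983)))
theorem Q77793 : ∀ i, i < 77793 → P i := stepQ 77792 Q77792 (allL N77792 (tt N58242 (iv1 F244986)) (tt N58241 F244980) (tt N44145 (iv2 D155956)) (tt N60606 F244977) (tt N57926 F244978) (tt N87451 (iv5 F379366)) (tt N110595 D213834) (tt N58238 F244979))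
theorem Q77794 : ∀ i, i < 77794 → P i := stepQ 77793 Q77793 (allL N77793 (tt N89883 (iv1 F387861)) (tt N87087 F378331) (tt N87451 (iv2 F379365)) (tt N44146 F244988) (tt N84148 (iv4 F368335)) (tt N44145 (iv5 D155957)) (tt N110596 D213835) (tt N58243 F244989))
theorem Q77795 : ∀ i, i < 77795 → P i := stepQ 77794 Q77794 (allL N77794 (tt N46691 F365867) (tt N101674 (iv0 F433803)) (tt N110595 (iv2 F472300)) (tt N44147 F244990) (tt N57927 F244991) (tt N110597 D213836) (tt N44145 (iv6 D155958)) (tt N110598 D213837))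
theorem Q77796 : ∀ i, i < 77796 → P i := stepQ 77795 Q77795 (allL N77795 (tt N75455 F378451) (tt N102980 F439538) (tt N65938 F244992) (tt N110596 (iv3 F472306)) (tt N92066 (iv4 F395602)) (tt N87363 F379121) (tt N44146 (iv6 D155959)) (tt N102979 (iv7 F439529)))
theorem Q77797 : ∀ i, i < 77797 → P i := stepQ 77796 Q77796 (allL N77796 (tt N95314 (iv1 F407826)) (tt N95313 (iv0 F407823)) (tt N65939 F244993) (tt N110597 (iv3 F472310)) (tt N110599 D213838) (tt N44147 (iv5 D155960)) (tt N87363 (iv6 F379122)) (tt N95433 (iv7 F408171)))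
theorem Q77798 : ∀ i, i < 77798 → P i := stepQ 77797 Q77797 (allL N77797 (tt N58606 (iv1 F244996)) (tt N58631 F244997) (tt N58660 F244994) (tt N110598 (iv3 F472312)) (tt N65937 F244995) (tt N95433 (iv5 F408172)) (tt N77800 (iv6 F245004)) (tt N44147 (iv7 D155961)))
theorem Q77799 : ∀ i, i < 77799 → P i := stepQ 77798 Q77798 (allL N77798 (tt N44148 (iv1 D155963)) (tt N54972 (iv0 F319846)) (tt N54971 (iv2 F357195)) (tt N49736 F357194) (tt N96961 (iv4 F414801)) (tt N103998 (iv5 F443712)) (tt N49734 (iv6 F357196)) (tt N52499 F339747))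
theorem Q77800 : ∀ i, i < 77800 → P i := stepQ 77799 Q77799 (allL N77799 (tt N58411 F245002) (tt N96822 F414126) (tt N77790 F245001) (tt N89237 (iv3 F385721)) (tt N99460 (iv4 F424684)) (tt N44149 (iv5 D155965)) (tt N62489 F356238) (tt N96821 (iv7 F414120)))
theorem Q77801 : ∀ i, i < 77801 → P i := stepQ 77800 Q77800 (allL N77800 (tt N59841 (iv1 F245005)) (tt N59839 F245006) (tt N59869 F245003) (tt N95154 (iv3 F407251)) (tt N92672 (iv4 F397833)) (tt N96821 (iv5 F414117)) (tt N77797 F245004) (tt N44149 (iv7 D155966)))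
theorem Q77802 : ∀ i, i < 77802 → P i := stepQ 77801 Q77801 (allL N77801 (tt N96954 (iv1 F414760)) (tt N96608 (iv0 F413166)) (tt N88179 (iv2 F382040)) (tt N44150 (iv3 D155967)) (tt N95711 (iv4 F409252)) (tt N88171 (iv5 F382005)) (tt N91978 (iv6 F395207)) (tt N88175 (iv7 F382025)))
theorem Q77803 : ∀ i, i < 77803 → P i := stepQ 77802 Q77802 (allL N77802 (tt N57218 F350485) (tt N59876 (iv0 F350490)) (tt N62666 F346888) (tt N91978 (iv3 F395209)) (tt N102182 (iv4 F436073)) (tt N66533 (iv5 F350486)) (tt N44150 (iv6 D155969)) (tt N62665 (iv7 F346889)))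
theorem Q77804 : ∀ i, i < 77804 → P i := stepQ 77803 Q77803 (allL N77803 (tt N74811 (iv1 F245007)) (tt N44153 (iv0 D155972)) (tt N71735 (iv2 F364557)) (tt N110600 D213839) (tt N92934 (iv4 F398825)) (tt N59702 F364556) (tt N98759 (iv6 F422186)) (tt N71732 (iv7 F364558)))
theorem Q77805 : ∀ i, i < 77805 → P i := stepQ 77804 Q77804 (allL N77804 (tt N44153 (iv1 D155973)) (tt N74811 F245008) (tt N71732 (iv2 F364561)) (tt N84266 (iv3 F368743)) (tt N92936 (iv4 F398834)) (tt N59703 F364562) (tt N51944 (iv6 F364564)) (tt N71735 F364563))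
theorem Q77806 : ∀ i, i < 77806 → P i := stepQ 77805 Q77805 (allL N77805 (tt N95151 (iv1 F407241)) (tt N90782 F390827) (tt N110601 D213840) (tt N44154 (iv3 D155976)) (tt N84261 F368725) (tt N59691 F245014) (tt N84260 (iv6 F368726)) (tt N71719 F245015))
theorem Q77807 : ∀ i, i < 77807 → P i := stepQ 77806 Q77806 (allL N77806 (tt N55199 F346911) (tt N110602 D213841) (tt N71728 F245016) (tt N84260 F368727) (tt N60479 F245017) (tt N87471 F379457) (tt N44154 (iv6 D155977)) (tt N88098 (iv7 F381794)))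
theorem Q77808 : ∀ i, i < 77808 → P i := stepQ 77807 Q77807 (allL N77807 (tt N82077 (iv1 F366519)) (tt N110603 D213842) (tt N99019 (iv2 F423059)) (tt N44156 (iv3 D155981)) (tt N44299 F245024) (tt N71566 F245025) (tt N93499 F400947) (tt N44194 F245026))
theorem Q77809 : ∀ i, i < 77809 → P i := stepQ 77808 Q77808 (allL N77808 (tt N68333 (iv1 F245031)) (tt N68334 (iv0 F245030)) (tt N44193 F245027) (tt N93499 (iv3 F400941)) (tt N57520 F245028) (tt N93628 (iv5 F401337)) (tt N44156 (iv6 D155982)) (tt N61938 F245029))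
theorem Q77810 : ∀ i, i < 77810 → P i := stepQ 77809 Q77809 (allL N77809 (tt N44209 (iv1 F245032)) (tt N44158 (iv0 D155983)) (tt N44208 F245376) (tt N48022 F319075) (tt N59676 (iv4 F332207)) (tt N44236 F245367) (tt N106078 (iv6 F453023)) (tt N44207 F245377))
theorem Q77811 : ∀ i, i < 77811 → P i := stepQ 77810 Q77810 (allL N77810 (tt N44158 (iv1 D155984)) (tt N44209 F245038) (tt N44207 F245378) (tt N81338 F332225) (tt N59670 F332220) (tt N44235 F245379) (tt N61929 (iv6 F359948)) (tt N44208 F245380))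
theorem Q77812 : ∀ i, i < 77812 → P i := stepQ 77811 Q77811 (allL N77811 (tt N44208 (iv1 F245040)) (tt N44207 F245037) (tt N44158 (iv2 D155985)) (tt N44159 F245033) (tt N56804 F245034) (tt N44158 (iv5 F245039)) (tt N71882 F245035) (tt N44209 F245036))
theorem Q77813 : ∀ i, i < 77813 → P i := stepQ 77812 Q77812 (allL N77812 (tt N110604 D213843) (tt N110605 D213844) (tt N44198 F245041) (tt N71882 F245042) (tt N93392 (iv4 F400630)) (tt N71885 F245043) (tt N44159 (iv6 D155986)) (tt N110606 D213845))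
theorem Q77814 : ∀ i, i < 77814 → P i := stepQ 77813 Q77813 (allL N77813 (tt N110607 D213846) (tt N61870 (iv0 F360643)) (tt N44211 F245044) (tt N44161 F245045) (tt N77859 (iv4 F245160)) (tt N110233 F470556) (tt N44160 (iv6 D155987)) (tt N108540 (iv7 F462997)))
theorem Q77815 : ∀ i, i < 77815 → P i := stepQ 77814 Q77814 (allL N77814 (tt N89344 (iv1 F386208)) (tt N89346 (iv0 F386204)) (tt N44213 F245046) (tt N110233 (iv3 F470554)) (tt N48969 F359551) (tt N44161 (iv5 D155988)) (tt N110233 (iv6 F470555)) (tt N108541 (iv7 F463010)))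
theorem Q77816 : ∀ i, i < 77816 → P i := stepQ 77815 Q77815 (allL N77815 (tt N61846 F245050) (tt N61845 F245051) (tt N44215 F245047) (tt N110608 D213847) (tt N44162 (iv4 D155989)) (tt N49064 F359530) (tt N61836 F245048) (tt N44216 F245049))
theorem Q77817 : ∀ i, i < 77817 → P i := stepQ 77816 Q77816 (allL N77816 (tt N44237 (iv1 F245052)) (tt N44164 (iv0 D155990)) (tt N44236 F245371) (tt N78205 F247055) (tt N95292 (iv4 F407751)) (tt N44208 F245249) (tt N110609 D213848) (tt N44235 F245372))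
theorem Q77818 : ∀ i, i < 77818 → P i := stepQ 77817 Q77817 (allL N77817 (tt N44164 (iv1 D155991)) (tt N44237 F245053) (tt N44235 F245368) (tt N44419 F245055) (tt N72339 (iv4 F245054)) (tt N44207 F245374) (tt N56988 F351547) (tt N44236 F245369))
theorem Q77819 : ∀ i, i < 77819 → P i := stepQ 77818 Q77818 (allL N77818 (tt N110610 D213849) (tt N109955 (iv0 F469368)) (tt N77941 (iv2 F245386)) (tt N44165 F245056) (tt N56830 F245057) (tt N101300 (iv5 F432580)) (tt N44164 (iv6 D155992)) (tt N110611 D213850))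
theorem Q77820 : ∀ i, i < 77820 → P i := stepQ 77819 Q77819 (allL N77819 (tt N44227 (iv1 F245062)) (tt N44165 (iv0 D155993)) (tt N44224 (iv2 F245059)) (tt N109949 F469352) (tt N60207 F245058) (tt N110612 D213851) (tt N61780 (iv6 F245060)) (tt N44225 (iv7 F245061)))
theorem Q77821 : ∀ i, i < 77821 → P i := stepQ 77820 Q77820 (allL N77820 (tt N44165 (iv1 D155994)) (tt N44227 F245063) (tt N44225 (iv2 F245066)) (tt N110613 D213852) (tt N57665 F245065) (tt N110614 D213853) (tt N110615 D213854) (tt N44224 F245064))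
theorem Q77822 : ∀ i, i < 77822 → P i := stepQ 77821 Q77821 (allL N77821 (tt N93494 (iv1 F400926)) (tt N98896 F422718) (tt N44226 F245067) (tt N101300 (iv3 F432579)) (tt N49176 F340591) (tt N44165 (iv5 D155995)) (tt N106665 (iv6 F455211)) (tt N88990 (iv7 F384691)))
theorem Q77823 : ∀ i, i < 77823 → P i := stepQ 77822 Q77822 (allL N77822 (tt N44225 (iv1 F245071)) (tt N44224 F245072) (tt N44227 F245068) (tt N110611 (iv3 F472386)) (tt N44167 F245069) (tt N88990 (iv5 F384690)) (tt N44244 F245070) (tt N44165 (iv7 D155996)))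
theorem Q77824 : ∀ i, i < 77824 → P i := stepQ 77823 Q77823 (allL N77823 (tt N44170 F245075) (tt N44255 (iv0 F245076)) (tt N44230 F245073) (tt N110616 D213855) (tt N44166 (iv4 D155997)) (tt N110617 D213856) (tt N95348 (iv6 F407949)) (tt N44228 F245074))
theorem Q77825 : ∀ i, i < 77825 → P i := stepQ 77824 Q77824 (allL N77824 (tt N44258 (iv1 F245077)) (tt N44168 (iv0 D155998)) (tt N44257 F359956) (tt N96725 (iv3 F413618)) (tt N48118 F359957) (tt N99191 F423629) (tt N99192 (iv6 F423635)) (tt N44256 F359958))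
theorem Q77826 : ∀ i, i < 77826 → P i := stepQ 77825 Q77825 (allL N77825 (tt N44168 (iv1 D155999)) (tt N44258 F245082) (tt N44256 F351395) (tt N77983 (iv3 F351398)) (tt N48114 F351396) (tt N99239 (iv5 F423815)) (tt N61785 (iv6 F359972)) (tt N44257 F351397))
theorem Q77827 : ∀ i, i < 77827 → P i := stepQ 77826 Q77826 (allL N77826 (tt N44257 (iv1 F245084)) (tt N44256 F245081) (tt N44168 (iv2 D156000)) (tt N44250 F245078) (tt N57363 F245079) (tt N60235 (iv5 F245083)) (tt N110618 D213857) (tt N44258 F245080))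
theorem Q77828 : ∀ i, i < 77828 → P i := stepQ 77827 Q77827 (allL N77827 (tt N77995 (iv1 F245494)) (tt N62151 (iv0 F351399)) (tt N60235 F245085) (tt N44169 F245086) (tt N60233 (iv4 F245088)) (tt N44168 (iv5 D156001)) (tt N110619 D213858) (tt N44260 F245087))
theorem Q77829 : ∀ i, i < 77829 → P i := stepQ 77828 Q77828 (allL N77828 (tt N110620 D213859) (tt N110621 D213860) (tt N110618 (iv2 F472423)) (tt N44170 F245089) (tt N57365 F245090) (tt N107552 (iv5 F458732)) (tt N44168 (iv6 D156002)) (tt N110622 D213861))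
theorem Q77830 : ∀ i, i < 77830 → P i := stepQ 77829 Q77829 (allL N77829 (tt N110623 D213862) (tt N110624 D213863) (tt N44253 F245091) (tt N110619 (iv3 F472430)) (tt N66343 F245092) (tt N107553 (iv5 F458736)) (tt N44169 (iv6 D156003)) (tt N110625 D213864))
theorem Q77831 : ∀ i, i < 77831 → P i := stepQ 77830 Q77830 (allL N77830 (tt N44230 (iv1 F245096)) (tt N44228 F245097) (tt N44255 F245093) (tt N110622 (iv3 F472442)) (tt N57358 F245094) (tt N98868 (iv5 F422631)) (tt N44264 F245095) (tt N44170 (iv7 D156004)))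
theorem Q77832 : ∀ i, i < 77832 → P i := stepQ 77831 Q77831 (allL N77831 (tt N110626 D213865) (tt N53595 (iv0 F335720)) (tt N77999 (iv2 F245530)) (tt N44173 F245102) (tt N59249 F245103) (tt N107663 (iv5 F459135)) (tt N44171 (iv6 D156006)) (tt N110627 D213866))
theorem Q77833 : ∀ i, i < 77833 → P i := stepQ 77832 Q77832 (allL N77832 (tt N101531 F433269) (tt N110628 D213867) (tt N44262 F245104) (tt N77994 (iv3 F245491)) (tt N94194 (iv4 F403653)) (tt N107665 (iv5 F459145)) (tt N44172 (iv6 D156007)) (tt N110629 D213868))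
theorem Q77834 : ∀ i, i < 77834 → P i := stepQ 77833 Q77833 (allL N77833 (tt N44247 (iv1 F245108)) (tt N44245 F245109) (tt N44264 F245105) (tt N110627 (iv3 F472486)) (tt N66278 F245106) (tt N98981 (iv5 F422900)) (tt N44255 F245107) (tt N44173 (iv7 D156008)))
theorem Q77835 : ∀ i, i < 77835 → P i := stepQ 77834 Q77834 (allL N77834 (tt N44175 (iv1 F245114)) (tt N44174 (iv0 D156009)) (tt N44178 (iv2 F245110)) (tt N44265 F245111) (tt N70867 F245112) (tt N94389 (iv5 F404218)) (tt N79167 (iv6 F341522)) (tt N44176 F245113))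
theorem Q77836 : ∀ i, i < 77836 → P i := stepQ 77835 Q77835 (allL N77835 (tt N44178 F360780) (tt N44176 F360781) (tt N44174 (iv2 D156010)) (tt N110630 D213869) (tt N101412 (iv4 F432897)) (tt N110631 D213870) (tt N110632 D213871) (tt N44175 (iv7 F245116)))
theorem Q77837 : ∀ i, i < 77837 → P i := stepQ 77836 Q77836 (allL N77836 (tt N82086 (iv1 F359219)) (tt N77968 (iv0 F246212)) (tt N77843 F349756) (tt N44174 (iv3 D156011)) (tt N78134 F246211) (tt N77840 (iv5 F349760)) (tt N81863 (iv6 F349755)) (tt N77838 (iv7 F349761)))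
theorem Q77838 : ∀ i, i < 77838 → P i := stepQ 77837 Q77837 (allL N77837 (tt N79157 F344870) (tt N71168 (iv0 F245117)) (tt N101412 F432899) (tt N110633 D213872) (tt N44174 (iv4 D156012)) (tt N59657 F345273) (tt N110634 D213873) (tt N101411 F432894))
theorem Q77839 : ∀ i, i < 77839 → P i := stepQ 77838 Q77838 (allL N77838 (tt N77961 (iv1 F349773)) (tt N70751 (iv0 F349772)) (tt N110631 (iv2 F472507)) (tt N77840 (iv3 F349762)) (tt N70150 (iv4 F349769)) (tt N44174 (iv5 D156013)) (tt N110635 D213874) (tt N77836 F349761))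
theorem Q77840 : ∀ i, i < 77840 → P i := stepQ 77839 Q77839 (allL N77839 (tt N109962 F469394) (tt N110616 (iv0 F472415)) (tt N110632 (iv2 F472513)) (tt N81863 F349757) (tt N110634 (iv4 F472522)) (tt N81938 (iv5 F349758)) (tt N44174 (iv6 D156014)) (tt N81937 (iv7 F349759)))
theorem Q77841 : ∀ i, i < 77841 → P i := stepQ 77840 Q77840 (allL N77840 (tt N44176 F349770) (tt N44178 F349771) (tt N44175 F245118) (tt N77838 F349762) (tt N101411 (iv4 F432892)) (tt N77836 F349760) (tt N100452 F429042) (tt N44174 (iv7 D156015)))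
theorem Q77842 : ∀ i, i < 77842 → P i := stepQ 77841 Q77841 (allL N77841 (tt N96726 (iv1 F413629)) (tt N96725 (iv0 F413621)) (tt N93459 (iv2 F400788)) (tt N44175 (iv3 D156016)) (tt N72891 F358700) (tt N96528 (iv5 F412867)) (tt N110636 D213875) (tt N110630 (iv7 F472503)))
theorem Q77843 : ∀ i, i < 77843 → P i := stepQ 77842 Q77842 (allL N77842 (tt N71168 F362243) (tt N79157 (iv0 F390553)) (tt N101411 F432893) (tt N71159 F245119) (tt N44175 (iv4 D156017)) (tt N59653 F332959) (tt N110637 D213876) (tt N101412 (iv7 F432895)))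
theorem Q77844 : ∀ i, i < 77844 → P i := stepQ 77843 Q77843 (allL N77843 (tt N70751 F332972) (tt N77961 F349774) (tt N77836 (iv2 F349756)) (tt N96528 (iv3 F412864)) (tt N47899 F345266) (tt N44175 (iv5 D156018)) (tt N47898 F345267) (tt N110631 (iv7 F472510)))
theorem Q77845 : ∀ i, i < 77845 → P i := stepQ 77844 Q77844 (allL N77844 (tt N71542 (iv1 F433191)) (tt N99966 (iv0 F433190)) (tt N100452 (iv2 F429044)) (tt N110636 (iv3 F472530)) (tt N110637 (iv4 F472534)) (tt N101504 (iv5 F433188)) (tt N44175 (iv6 D156019)) (tt N100451 (iv7 F429045)))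
theorem Q77846 : ∀ i, i < 77846 → P i := stepQ 77845 Q77845 (allL N77845 (tt N94388 (iv1 F404216)) (tt N94387 F404201) (tt N44177 F245122) (tt N44274 F245123) (tt N110638 D213877) (tt N44176 (iv5 D156022)) (tt N110639 D213878) (tt N94389 (iv7 F404219)))
theorem Q77847 : ∀ i, i < 77847 → P i := stepQ 77846 Q77846 (allL N77846 (tt N94389 (iv1 F404220)) (tt N44177 (iv0 D156023)) (tt N94388 (iv2 F404215)) (tt N82085 (iv3 F366517)) (tt N78058 F245625) (tt N82085 (iv5 F388953)) (tt N110640 D213879) (tt N94387 F404205))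
theorem Q77848 : ∀ i, i < 77848 → P i := stepQ 77847 Q77847 (allL N77847 (tt N44177 (iv1 D156024)) (tt N94389 F404221) (tt N94387 F404203) (tt N110641 D213880) (tt N78057 (iv4 F245623)) (tt N82084 F359220) (tt N107690 (iv6 F459243)) (tt N94388 (iv7 F404212)))
theorem Q77849 : ∀ i, i < 77849 → P i := stepQ 77848 Q77848 (allL N77848 (tt N107168 (iv1 F457302)) (tt N58106 F350392) (tt N110638 (iv2 F472536)) (tt N70208 F245124) (tt N44177 (iv4 D156025)) (tt N110642 D213881) (tt N110643 D213882) (tt N94371 (iv7 F404168)))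
theorem Q77850 : ∀ i, i < 77850 → P i := stepQ 77849 Q77849 (allL N77849 (tt N107789 F459736) (tt N107851 (iv0 F472562)) (tt N110639 (iv2 F472542)) (tt N44181 F245125) (tt N110643 (iv4 F472560)) (tt N61811 F245126) (tt N44177 (iv6 D156026)) (tt N110644 D213883))
theorem Q77851 : ∀ i, i < 77851 → P i := stepQ 77850 Q77850 (allL N77850 (tt N90260 (iv1 F389138)) (tt N101609 (iv0 F433536)) (tt N79167 F341524) (tt N44182 F245127) (tt N44923 F324311) (tt N93646 (iv5 F401422)) (tt N44178 (iv6 D156027)) (tt N61812 F245129))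
theorem Q77852 : ∀ i, i < 77852 → P i := stepQ 77851 Q77851 (allL N77851 (tt N99191 (iv1 F423631)) (tt N99239 F423817) (tt N82083 (iv2 F355484)) (tt N44179 (iv3 D156028)) (tt N68091 (iv4 F245132)) (tt N57318 F245130) (tt N110645 D213884) (tt N44283 F245131))
theorem Q77853 : ∀ i, i < 77853 → P i := stepQ 77852 Q77852 (allL N77852 (tt N110646 D213885) (tt N110647 D213886) (tt N44282 F245144) (tt N110645 (iv3 F472566)) (tt N94189 (iv4 F403628)) (tt N110648 D213887) (tt N44179 (iv6 D156029)) (tt N110649 D213888))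
theorem Q77854 : ∀ i, i < 77854 → P i := stepQ 77853 Q77853 (allL N77853 (tt N110238 F470574) (tt N108084 (iv0 F461049)) (tt N44284 F245145) (tt N82082 (iv3 F366544)) (tt N94185 (iv4 F403608)) (tt N110650 D213889) (tt N44180 (iv6 D156030)) (tt N110651 D213890))
theorem Q77855 : ∀ i, i < 77855 → P i := stepQ 77854 Q77854 (allL N77854 (tt N44289 (iv1 F245149)) (tt N44181 (iv0 D156031)) (tt N44287 F404282) (tt N99219 (iv3 F423741)) (tt N110584 (iv4 F472243)) (tt N100399 (iv5 F428802)) (tt N108083 (iv6 F461043)) (tt N44288 F404283))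
theorem Q77856 : ∀ i, i < 77856 → P i := stepQ 77855 Q77855 (allL N77855 (tt N44181 (iv1 D156032)) (tt N44289 F245146) (tt N44288 F404279) (tt N73202 (iv3 F351786)) (tt N100098 (iv4 F427509)) (tt N100401 (iv5 F428815)) (tt N76604 F351787) (tt N44287 F404280))
theorem Q77857 : ∀ i, i < 77857 → P i := stepQ 77856 Q77856 (allL N77856 (tt N44288 (iv1 F245150)) (tt N44287 F245151) (tt N44289 F245147) (tt N110644 (iv3 F472563)) (tt N94399 (iv4 F404269)) (tt N61819 F245148) (tt N94392 (iv6 F404237)) (tt N44181 (iv7 D156033)))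
theorem Q77858 : ∀ i, i < 77858 → P i := stepQ 77857 Q77857 (allL N77857 (tt N62158 (iv1 F245154)) (tt N62157 F245155) (tt N44293 F245152) (tt N93646 (iv3 F401420)) (tt N99283 (iv4 F423931)) (tt N44182 (iv5 D156034)) (tt N93644 F401415) (tt N61820 F245153))
theorem Q77859 : ∀ i, i < 77859 → P i := stepQ 77858 Q77858 (allL N77858 (tt N101855 (iv1 F434680)) (tt N94365 F404150) (tt N48222 F322249) (tt N44183 (iv3 D156035)) (tt N48235 F322250) (tt N94337 (iv5 F404075)) (tt N92408 (iv6 F396921)) (tt N57526 F245157))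
theorem Q77860 : ∀ i, i < 77860 → P i := stepQ 77859 Q77859 (allL N77859 (tt N110652 D213891) (tt N98847 (iv0 F422555)) (tt N57621 F245158) (tt N44206 F245159) (tt N77813 F245160) (tt N110653 D213892) (tt N44184 (iv6 D156036)) (tt N74291 (iv7 F245161)))
theorem Q77861 : ∀ i, i < 77861 → P i := stepQ 77860 Q77860 (allL N77860 (tt N92452 (iv1 F397049)) (tt N92455 (iv0 F397056)) (tt N77865 (iv2 F245168)) (tt N94385 (iv3 F404195)) (tt N105349 (iv4 F449824)) (tt N44185 (iv5 D156037)) (tt N110653 (iv6 F472608)) (tt N102876 (iv7 F439057)))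
theorem Q77862 : ∀ i, i < 77862 → P i := stepQ 77861 Q77861 (allL N77861 (tt N57620 (iv1 F245162)) (tt N44188 (iv0 D156038)) (tt N92464 F397089) (tt N110654 D213893) (tt N95730 (iv4 F409349)) (tt N57596 F344467) (tt N92460 (iv6 F397092)) (tt N93391 (iv7 F400628)))
theorem Q77863 : ∀ i, i < 77863 → P i := stepQ 77862 Q77862 (allL N77862 (tt N44188 (iv1 D156039)) (tt N57620 F245166) (tt N93391 F400626) (tt N92469 (iv3 F397097)) (tt N95728 (iv4 F409344)) (tt N57595 (iv5 F358807)) (tt N93581 F401205) (tt N92464 F397086))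
theorem Q77864 : ∀ i, i < 77864 → P i := stepQ 77863 Q77863 (allL N77863 (tt N92464 (iv1 F397094)) (tt N93391 F400627) (tt N44188 (iv2 D156040)) (tt N56814 F245163) (tt N82413 (iv4 F337394)) (tt N56813 F245164) (tt N110655 D213894) (tt N57620 F245165))
theorem Q77865 : ∀ i, i < 77865 → P i := stepQ 77864 Q77864 (allL N77864 (tt N110656 D213895) (tt N95073 (iv0 F406953)) (tt N110655 (iv2 F472617)) (tt N44189 F245167) (tt N73034 (iv4 F360105)) (tt N110657 D213896) (tt N44188 (iv6 D156041)) (tt N110658 D213897))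
theorem Q77866 : ∀ i, i < 77866 → P i := stepQ 77865 Q77865 (allL N77865 (tt N93696 (iv1 F401594)) (tt N66542 F245169) (tt N77860 F245168) (tt N110657 (iv3 F472621)) (tt N81106 F366038) (tt N44189 (iv5 D156042)) (tt N94381 (iv6 F404191)) (tt N110659 D213898))
theorem Q77867 : ∀ i, i < 77867 → P i := stepQ 77866 Q77866 (allL N77866 (tt N66436 (iv1 F245173)) (tt N44462 F245174) (tt N74293 F245170) (tt N110658 (iv3 F472626)) (tt N44191 F245171) (tt N110659 (iv5 F472632)) (tt N74266 F245172) (tt N44189 (iv7 D156043)))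
theorem Q77868 : ∀ i, i < 77868 → P i := stepQ 77867 Q77867 (allL N77867 (tt N103975 (iv1 F443615)) (tt N44192 (iv0 D156044)) (tt N103976 F443620) (tt N110660 D213899) (tt N90744 F390711) (tt N97416 F416801) (tt N108536 (iv6 F462990)) (tt N90740 (iv7 F390712)))
theorem Q77869 : ∀ i, i < 77869 → P i := stepQ 77868 Q77868 (allL N77868 (tt N44192 (iv1 D156045)) (tt N103975 (iv0 F443614)) (tt N90740 (iv2 F390702)) (tt N82081 (iv3 F332267)) (tt N90738 (iv4 F390699)) (tt N82080 F332268) (tt N90737 F390700) (tt N103976 (iv7 F443617)))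
theorem Q77870 : ∀ i, i < 77870 → P i := stepQ 77869 Q77869 (allL N77869 (tt N103976 (iv1 F443616)) (tt N90740 F390705) (tt N44192 (iv2 D156046)) (tt N99019 (iv3 F423060)) (tt N68683 F245175) (tt N48025 F366396) (tt N99017 F423050) (tt N103975 (iv7 F443612)))
theorem Q77871 : ∀ i, i < 77871 → P i := stepQ 77870 Q77870 (allL N77870 (tt N68334 (iv1 F245181)) (tt N68333 F245182) (tt N61938 F245178) (tt N73348 F330546) (tt N68655 F245179) (tt N73347 (iv5 F330542)) (tt N61769 F245180) (tt N44193 (iv7 D156048)))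
theorem Q77872 : ∀ i, i < 77872 → P i := stepQ 77871 Q77871 (allL N77871 (tt N99019 (iv1 F423064)) (tt N44194 (iv0 D156049)) (tt N110603 (iv2 F472347)) (tt N68353 F245183) (tt N107168 (iv4 F457297)) (tt N110661 D213900) (tt N76793 (iv6 F366721)) (tt N82077 (iv7 F366720)))
theorem Q77873 : ∀ i, i < 77873 → P i := stepQ 77872 Q77872 (allL N77872 (tt N44194 (iv1 D156050)) (tt N99019 (iv0 F423062)) (tt N82077 (iv2 F405566)) (tt N97416 (iv3 F416797)) (tt N58106 (iv4 F361298)) (tt N110660 (iv5 F472638)) (tt N58115 F361299) (tt N110603 (iv7 F472343)))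
theorem Q77874 : ∀ i, i < 77874 → P i := stepQ 77873 Q77873 (allL N77873 (tt N110603 (iv1 F472342)) (tt N82077 (iv0 F366518)) (tt N44194 (iv2 D156051)) (tt N103975 (iv3 F443610)) (tt N72203 F245184) (tt N106231 (iv5 F453683)) (tt N99029 F423090) (tt N99019 (iv7 F423065)))
theorem Q77875 : ∀ i, i < 77875 → P i := stepQ 77874 Q77874 (allL N77874 (tt N110662 D213901) (tt N110663 D213902) (tt N99029 (iv2 F423087)) (tt N44195 F245185) (tt N72205 F245186) (tt N99014 F423036) (tt N44194 (iv6 D156052)) (tt N61936 (iv7 F245187)))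
theorem Q77876 : ∀ i, i < 77876 → P i := stepQ 77875 Q77875 (allL N77875 (tt N110661 (iv1 F472647)) (tt N110660 (iv0 F472640)) (tt N106189 (iv2 F453530)) (tt N44197 (iv3 D156056)) (tt N99372 (iv4 F424329)) (tt N44223 F245194) (tt N99373 (iv6 F424331)) (tt N71562 F245195))
theorem Q77877 : ∀ i, i < 77877 → P i := stepQ 77876 Q77876 (allL N77876 (tt N61768 (iv1 F404300)) (tt N110664 D213903) (tt N60215 F245196) (tt N99373 (iv3 F424334)) (tt N97328 (iv4 F416367)) (tt N61883 F245197) (tt N44197 (iv6 D156057)) (tt N110665 D213904))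
theorem Q77878 : ∀ i, i < 77878 → P i := stepQ 77877 Q77877 (allL N77877 (tt N110606 (iv1 F472367)) (tt N44198 (iv0 D156058)) (tt N110604 F472350) (tt N110666 D213905) (tt N110667 D213906) (tt N110668 D213907) (tt N61876 F455214) (tt N110605 (iv7 F472353)))
theorem Q77879 : ∀ i, i < 77879 → P i := stepQ 77878 Q77878 (allL N77878 (tt N44198 (iv1 D156059)) (tt N110606 F472366) (tt N110605 F472354) (tt N89310 (iv3 F386039)) (tt N110669 D213908) (tt N110670 D213909) (tt N110671 D213910) (tt N110604 F472351))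
theorem Q77880 : ∀ i, i < 77880 → P i := stepQ 77879 Q77879 (allL N77879 (tt N110672 D213911) (tt N106622 (iv0 F455079)) (tt N71885 F245198) (tt N44201 F245199) (tt N49142 (iv4 F329739)) (tt N44198 (iv5 D156060)) (tt N44201 F245200) (tt N90691 (iv7 F390543)))
theorem Q77881 : ∀ i, i < 77881 → P i := stepQ 77880 Q77880 (allL N77880 (tt N110605 (iv1 F472352)) (tt N110604 F472356) (tt N110606 (iv2 F472362)) (tt N44202 F245201) (tt N94386 (iv4 F404198)) (tt N90691 (iv5 F390542)) (tt N108540 (iv6 F462996)) (tt N44198 (iv7 D156061)))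
theorem Q77882 : ∀ i, i < 77882 → P i := stepQ 77881 Q77881 (allL N77881 (tt N89256 F415561) (tt N90737 (iv0 F415562)) (tt N90739 F390701) (tt N44199 (iv3 D156062)) (tt N97124 (iv4 F415557)) (tt N99142 (iv5 F423442)) (tt N61888 F245202) (tt N71877 F245203))
theorem Q77883 : ∀ i, i < 77883 → P i := stepQ 77882 Q77882 (allL N77882 (tt N76793 F366406) (tt N110673 D213912) (tt N110674 D213913) (tt N44200 (iv3 D156063)) (tt N90348 (iv4 F389400)) (tt N90031 (iv5 F388350)) (tt N99023 F423071) (tt N71875 F245204))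
theorem Q77884 : ∀ i, i < 77884 → P i := stepQ 77883 Q77883 (allL N77883 (tt N72670 (iv1 F245207)) (tt N78056 F245622) (tt N71879 F245205) (tt N99023 (iv3 F423070)) (tt N94044 (iv4 F402954)) (tt N99288 (iv5 F423952)) (tt N44200 (iv6 D156064)) (tt N61892 F245206))
theorem Q77885 : ∀ i, i < 77885 → P i := stepQ 77884 Q77884 (allL N77884 (tt N71886 (iv1 F245212)) (tt N44201 (iv0 D156065)) (tt N62019 (iv2 F245210)) (tt N109525 (iv3 F467369)) (tt N88404 (iv4 F382896)) (tt N61779 F245209) (tt N106597 (iv6 F454996)) (tt N62022 (iv7 F245211)))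
theorem Q77886 : ∀ i, i < 77886 → P i := stepQ 77885 Q77885 (allL N77885 (tt N44201 (iv1 D156066)) (tt N71886 F245213) (tt N62022 (iv2 F245216)) (tt N110675 D213914) (tt N88405 (iv4 F382904)) (tt N61780 F245215) (tt N110676 D213915) (tt N62019 F245214))
theorem Q77887 : ∀ i, i < 77887 → P i := stepQ 77886 Q77886 (allL N77886 (tt N44204 (iv1 F245228)) (tt N44203 (iv0 D156069)) (tt N71872 (iv2 F245227)) (tt N100359 (iv3 F428583)) (tt N57322 F245226) (tt N54604 (iv5 F357604)) (tt N61846 (iv6 F245231)) (tt N57319 F245229))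
theorem Q77888 : ∀ i, i < 77888 → P i := stepQ 77887 Q77887 (allL N77887 (tt N56803 (iv1 F245243)) (tt N56802 F245241) (tt N44205 (iv2 D156074)) (tt N56819 F245238) (tt N44209 F245239) (tt N58039 F337401) (tt N97014 (iv6 F415029)) (tt N56804 F245240))
theorem Q77889 : ∀ i, i < 77889 → P i := stepQ 77888 Q77888 (allL N77888 (tt N110677 D213916) (tt N94245 (iv0 F403821)) (tt N74290 F245244) (tt N110653 (iv3 F472607)) (tt N89563 F404033) (tt N44206 (iv5 D156075)) (tt N94385 (iv6 F404196)) (tt N74292 F245245))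
theorem Q77890 : ∀ i, i < 77890 → P i := stepQ 77889 Q77889 (allL N77889 (tt N82081 F317692) (tt N82078 F317693) (tt N48020 F317694) (tt N44207 (iv3 D156077)) (tt N105062 (iv4 F448617)) (tt N44419 F245375) (tt N110678 D213917) (tt N48022 F317695))
theorem Q77891 : ∀ i, i < 77891 → P i := stepQ 77890 Q77890 (allL N77890 (tt N61923 F400954) (tt N61931 F400955) (tt N61929 F359949) (tt N110678 (iv3 F472728)) (tt N95290 (iv4 F407745)) (tt N97033 F415119) (tt N44207 (iv6 D156080)) (tt N61928 F423039))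
theorem Q77892 : ∀ i, i < 77892 → P i := stepQ 77891 Q77891 (allL N77891 (tt N65296 (iv1 F332228)) (tt N68353 (iv0 F246102)) (tt N78125 (iv2 F246103)) (tt N44208 (iv3 D156082)) (tt N67059 (iv4 F312531)) (tt N78205 (iv5 F247053)) (tt N95798 F409709) (tt N81338 (iv7 F332227)))
theorem Q77893 : ∀ i, i < 77893 → P i := stepQ 77892 Q77892 (allL N77892 (tt N99482 (iv1 F424786)) (tt N99479 (iv0 F424770)) (tt N106078 (iv2 F453020)) (tt N95798 F409708) (tt N95284 (iv4 F407715)) (tt N98783 (iv5 F422304)) (tt N44208 (iv6 D156084)) (tt N98927 (iv7 F422807)))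
theorem Q77894 : ∀ i, i < 77894 → P i := stepQ 77893 Q77893 (allL N77893 (tt N110679 D213918) (tt N61918 (iv0 F351549)) (tt N44210 F245250) (tt N44211 F245251) (tt N97014 (iv4 F415032)) (tt N110680 D213919) (tt N44209 (iv6 D156085)) (tt N110681 D213920))
theorem Q77895 : ∀ i, i < 77895 → P i := stepQ 77894 Q77894 (allL N77894 (tt N110681 (iv1 F472748)) (tt N44210 (iv0 D156086)) (tt N110679 F472736) (tt N110682 D213921) (tt N110683 D213922) (tt N110684 D213923) (tt N110685 D213924) (tt N61918 F472737))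
theorem Q77896 : ∀ i, i < 77896 → P i := stepQ 77895 Q77895 (allL N77895 (tt N44210 (iv1 D156087)) (tt N110681 F472747) (tt N61918 (iv2 F366112)) (tt N107622 (iv3 F458969)) (tt N74593 (iv4 F366109)) (tt N110686 D213925) (tt N56890 F366111) (tt N110679 (iv7 F472735)))
theorem Q77897 : ∀ i, i < 77897 → P i := stepQ 77896 Q77896 (allL N77896 (tt N110687 D213926) (tt N110688 D213927) (tt N110680 (iv2 F472740)) (tt N44213 F245252) (tt N90031 (iv4 F388349)) (tt N44210 (iv5 D156088)) (tt N110680 (iv6 F472742)) (tt N110689 D213928))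
theorem Q77898 : ∀ i, i < 77898 → P i := stepQ 77897 Q77897 (allL N77897 (tt N61918 (iv1 F351550)) (tt N110679 F472739) (tt N110681 (iv2 F472743)) (tt N44214 F245253) (tt N93878 (iv4 F402247)) (tt N110689 (iv5 F472764)) (tt N71884 F245254) (tt N44210 (iv7 D156089)))
theorem Q77899 : ∀ i, i < 77899 → P i := stepQ 77898 Q77898 (allL N77898 (tt N108540 F463006) (tt N44211 (iv0 D156090)) (tt N110607 F472369) (tt N110690 D213929) (tt N110691 D213930) (tt N110692 D213931) (tt N110693 D213932) (tt N61870 F463007))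
theorem Q77900 : ∀ i, i < 77900 → P i := stepQ 77899 Q77899 (allL N77899 (tt N44211 (iv1 D156091)) (tt N108540 (iv0 F462998)) (tt N61870 F349437) (tt N102708 (iv3 F438296)) (tt N110694 D213933) (tt N109971 (iv5 F469426)) (tt N61765 (iv6 F349436)) (tt N110607 (iv7 F472371)))
theorem Q77901 : ∀ i, i < 77901 → P i := stepQ 77900 Q77900 (allL N77900 (tt N110695 D213934) (tt N110696 D213935) (tt N110233 (iv2 F470553)) (tt N110680 (iv3 F472741)) (tt N90024 F388326) (tt N44211 (iv5 D156092)) (tt N44213 F245255) (tt N110231 (iv7 F470547)))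
theorem Q77902 : ∀ i, i < 77902 → P i := stepQ 77901 Q77901 (allL N77901 (tt N61870 (iv1 F360644)) (tt N110607 F472370) (tt N108540 F463005) (tt N110681 (iv3 F472744)) (tt N94382 (iv4 F404193)) (tt N110231 F470548) (tt N110606 (iv6 F472365)) (tt N44211 (iv7 D156093)))
theorem Q77903 : ∀ i, i < 77903 → P i := stepQ 77902 Q77902 (allL N77902 (tt N110697 D213936) (tt N58115 (iv0 F359347)) (tt N110698 D213937) (tt N44212 (iv3 D156094)) (tt N72219 F245256) (tt N110699 D213938) (tt N81918 (iv6 F351214)) (tt N61860 F245257))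
theorem Q77904 : ∀ i, i < 77904 → P i := stepQ 77903 Q77903 (allL N77903 (tt N99290 (iv1 F423959)) (tt N108542 F463016) (tt N89339 (iv2 F386183)) (tt N110699 (iv3 F472809)) (tt N89333 (iv4 F386151)) (tt N44212 (iv5 D156095)) (tt N110700 D213939) (tt N61862 F245258))
theorem Q77905 : ∀ i, i < 77905 → P i := stepQ 77904 Q77904 (allL N77904 (tt N61838 (iv1 F245261)) (tt N61837 F245262) (tt N61855 F245259) (tt N81918 F351215) (tt N94797 (iv4 F405981)) (tt N77929 (iv5 F245336)) (tt N44212 (iv6 D156096)) (tt N56888 F245260))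
theorem Q77906 : ∀ i, i < 77906 → P i := stepQ 77905 Q77905 (allL N77905 (tt N108541 (iv1 F463012)) (tt N44213 (iv0 D156097)) (tt N89344 (iv2 F386199)) (tt N96201 (iv3 F411465)) (tt N89335 (iv4 F386165)) (tt N61988 F245263) (tt N110701 D213940) (tt N89346 (iv7 F386203)))
theorem Q77907 : ∀ i, i < 77907 → P i := stepQ 77906 Q77906 (allL N77906 (tt N44213 (iv1 D156098)) (tt N108541 (iv0 F463011)) (tt N89346 (iv2 F386202)) (tt N110702 D213941) (tt N88524 (iv4 F383397)) (tt N71547 (iv5 F245264)) (tt N110703 D213942) (tt N89344 (iv7 F386200)))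
theorem Q77908 : ∀ i, i < 77908 → P i := stepQ 77907 Q77907 (allL N77907 (tt N89346 (iv1 F386205)) (tt N89344 (iv0 F386201)) (tt N108541 (iv2 F463008)) (tt N110689 (iv3 F472762)) (tt N49058 F359548) (tt N44214 F245267) (tt N106604 (iv6 F455022)) (tt N44213 (iv7 D156100)))
theorem Q77909 : ∀ i, i < 77909 → P i := stepQ 77908 Q77908 (allL N77908 (tt N44216 (iv1 F245270)) (tt N44215 (iv0 D156101)) (tt N61846 (iv2 F245269)) (tt N108088 F461062) (tt N66262 F245268) (tt N110704 D213943) (tt N71872 (iv6 F245272)) (tt N61845 F245271))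
theorem Q77910 : ∀ i, i < 77910 → P i := stepQ 77909 Q77909 (allL N77909 (tt N76797 (iv1 F422672)) (tt N82082 (iv0 F366110)) (tt N110705 D213944) (tt N44215 (iv3 D156102)) (tt N44348 F245273) (tt N110706 D213945) (tt N72653 F245274) (tt N61843 F245275))
theorem Q77911 : ∀ i, i < 77911 → P i := stepQ 77910 Q77910 (allL N77910 (tt N99278 (iv1 F423913)) (tt N109830 F468825) (tt N49064 F359531) (tt N110706 (iv3 F472844)) (tt N49059 F359532) (tt N44215 (iv5 D156103)) (tt N110707 D213946) (tt N61847 F245276))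
theorem Q77912 : ∀ i, i < 77912 → P i := stepQ 77911 Q77911 (allL N77911 (tt N105891 F452212) (tt N110708 D213947) (tt N110709 D213948) (tt N44216 (iv3 D156104)) (tt N70646 F245277) (tt N110710 D213949) (tt N56886 F245278) (tt N110608 (iv7 F472376)))
theorem Q77913 : ∀ i, i < 77913 → P i := stepQ 77912 Q77912 (allL N77912 (tt N109830 F468824) (tt N99278 (iv0 F423912)) (tt N61847 F245279) (tt N110710 (iv3 F472853)) (tt N48821 F359533) (tt N44216 (iv5 D156105)) (tt N99168 (iv6 F423553)) (tt N49064 F359534))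
theorem Q77914 : ∀ i, i < 77914 → P i := stepQ 77913 Q77913 (allL N77913 (tt N44217 (iv1 D156106)) (tt N57602 F245280) (tt N57580 (iv2 F245283)) (tt N110711 D213950) (tt N57507 F245282) (tt N110712 D213951) (tt N95776 (iv6 F409591)) (tt N57578 F245281))
theorem Q77915 : ∀ i, i < 77915 → P i := stepQ 77914 Q77914 (allL N77914 (tt N60114 F245285) (tt N110713 D213952) (tt N57601 F245284) (tt N106682 (iv3 F455259)) (tt N110714 D213953) (tt N44217 (iv5 D156107)) (tt N106682 (iv6 F455260)) (tt N110715 D213954))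
theorem Q77916 : ∀ i, i < 77916 → P i := stepQ 77915 Q77915 (allL N77915 (tt N57580 (iv1 F245289)) (tt N57578 F245290) (tt N57602 F245286) (tt N106683 (iv3 F455262)) (tt N44220 F245287) (tt N110715 (iv5 F472875)) (tt N57605 F245288) (tt N44217 (iv7 D156108)))
theorem Q77917 : ∀ i, i < 77917 → P i := stepQ 77916 Q77916 (allL N77916 (tt N58194 F245294) (tt N72667 (iv0 F245295)) (tt N96249 (iv2 F411735)) (tt N58223 F245291) (tt N100378 (iv4 F428679)) (tt N44218 (iv5 D156109)) (tt N71157 F245292) (tt N58363 F245293))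
theorem Q77918 : ∀ i, i < 77918 → P i := stepQ 77917 Q77917 (allL N77917 (tt N72667 F245298) (tt N58194 (iv0 F245300)) (tt N58363 F245296) (tt N55682 F245297) (tt N95754 (iv4 F409472)) (tt N44219 (iv5 D156110)) (tt N55680 F245299) (tt N96249 (iv7 F411738)))
theorem Q77919 : ∀ i, i < 77919 → P i := stepQ 77918 Q77918 (allL N77918 (tt N59868 F245304) (tt N57169 (iv0 F245306)) (tt N72272 F245301) (tt N60329 F245302) (tt N94303 (iv4 F403983)) (tt N56956 F245305) (tt N44219 (iv6 D156111)) (tt N57044 F245303))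
theorem Q77920 : ∀ i, i < 77920 → P i := stepQ 77919 Q77919 (allL N77919 (tt N60213 (iv1 F245308)) (tt N44221 (iv0 D156112)) (tt N60212 (iv2 F247035)) (tt N70874 F245307) (tt N91459 (iv4 F393226)) (tt N78203 F247036) (tt N91458 F393224) (tt N60211 F247037))
theorem Q77921 : ∀ i, i < 77921 → P i := stepQ 77920 Q77920 (allL N77920 (tt N60212 (iv1 F245315)) (tt N60211 F245314) (tt N44221 (iv2 D156114)) (tt N71561 F245311) (tt N60228 F245312) (tt N93508 F400977) (tt N93627 (iv6 F401334)) (tt N60213 F245313))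
theorem Q77922 : ∀ i, i < 77922 → P i := stepQ 77921 Q77921 (allL N77921 (tt N71561 (iv1 F245322)) (tt N44223 (iv0 D156117)) (tt N71560 F246663) (tt N44417 (iv3 F246640)) (tt N94626 (iv4 F405287)) (tt N105984 (iv5 F452623)) (tt N109950 (iv6 F469359)) (tt N44423 F246661))
theorem Q77923 : ∀ i, i < 77923 → P i := stepQ 77922 Q77922 (allL N77922 (tt N44223 (iv1 D156118)) (tt N71561 F245328) (tt N44423 (iv2 F246662)) (tt N48026 F319279) (tt N94627 (iv4 F405294)) (tt N97205 (iv5 F415890)) (tt N100284 (iv6 F428256)) (tt N71560 (iv7 F246664)))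
theorem Q77924 : ∀ i, i < 77924 → P i := stepQ 77923 Q77923 (allL N77923 (tt N71560 (iv1 F245329)) (tt N44423 F245327) (tt N44223 (iv2 D156119)) (tt N60213 F245323) (tt N70151 F245324) (tt N106189 (iv5 F453532)) (tt N61965 F245325) (tt N71561 F245326))
theorem Q77925 : ∀ i, i < 77925 → P i := stepQ 77924 Q77924 (allL N77924 (tt N110716 D213955) (tt N82107 (iv0 F416263)) (tt N110717 D213956) (tt N44224 (iv3 D156120)) (tt N97132 (iv4 F415603)) (tt N109978 F469447) (tt N62021 F245330) (tt N110613 (iv7 F472398)))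
theorem Q77926 : ∀ i, i < 77926 → P i := stepQ 77925 Q77925 (allL N77925 (tt N72672 F245331) (tt N72669 (iv0 F245332)) (tt N110612 (iv2 F472391)) (tt N109978 (iv3 F469448)) (tt N83027 (iv4 F359517)) (tt N44224 (iv5 D156121)) (tt N110718 D213957) (tt N110614 (iv7 F472402)))
theorem Q77927 : ∀ i, i < 77927 → P i := stepQ 77926 Q77926 (allL N77926 (tt N109950 (iv1 F469361)) (tt N109945 (iv0 F469337)) (tt N101088 (iv2 F431614)) (tt N44225 (iv3 D156122)) (tt N47897 F360087) (tt N47853 F360088) (tt N110719 D213958) (tt N109949 (iv7 F469349)))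
theorem Q77928 : ∀ i, i < 77928 → P i := stepQ 77927 Q77927 (allL N77927 (tt N72669 F245333) (tt N72672 (iv0 F359507)) (tt N110614 (iv2 F472401)) (tt N47853 F360096) (tt N91288 (iv4 F392566)) (tt N44225 (iv5 D156123)) (tt N109956 (iv6 F469371)) (tt N110612 (iv7 F472393)))
theorem Q77929 : ∀ i, i < 77929 → P i := stepQ 77928 Q77928 (allL N77928 (tt N59873 F359505) (tt N59879 (iv0 F403091)) (tt N110615 (iv2 F472406)) (tt N110719 (iv3 F472886)) (tt N94075 (iv4 F403088)) (tt N61941 (iv5 F245335)) (tt N44225 (iv6 D156124)) (tt N62020 F245334))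
theorem Q77930 : ∀ i, i < 77930 → P i := stepQ 77929 Q77929 (allL N77929 (tt N44226 (iv1 D156125)) (tt N88990 (iv0 F384692)) (tt N98896 (iv2 F422715)) (tt N47858 F351216) (tt N110720 D213959) (tt N77904 F245336) (tt N110721 D213960) (tt N93494 (iv7 F400924)))
theorem Q77931 : ∀ i, i < 77931 → P i := stepQ 77930 Q77930 (allL N77930 (tt N88720 (iv1 F383968)) (tt N87057 (iv0 F378222)) (tt N49176 F340586) (tt N89336 (iv3 F386167)) (tt N44226 (iv4 D156126)) (tt N48835 F340587) (tt N106339 F454079) (tt N48917 F340588))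
theorem Q77932 : ∀ i, i < 77932 → P i := stepQ 77931 Q77931 (allL N77931 (tt N98896 (iv1 F422719)) (tt N93494 (iv0 F400925)) (tt N88990 (iv2 F384689)) (tt N106674 (iv3 F455237)) (tt N48917 F340590) (tt N44227 F245337) (tt N110722 D213961) (tt N44226 (iv7 D156127)))
theorem Q77933 : ∀ i, i < 77933 → P i := stepQ 77932 Q77932 (allL N77932 (tt N81937 F360097) (tt N110632 (iv0 F481815)) (tt N109962 (iv2 F469391)) (tt N44228 (iv3 D156128)) (tt N54667 (iv4 F329306)) (tt N110723 D213963) (tt N54666 (iv6 F329303)) (tt N110616 (iv7 F472414)))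
theorem Q77934 : ∀ i, i < 77934 → P i := stepQ 77933 Q77933 (allL N77933 (tt N72661 F245342) (tt N72659 F245341) (tt N49181 (iv2 F340572)) (tt N110723 (iv3 F472901)) (tt N49177 F340571) (tt N44228 (iv5 D156129)) (tt N110724 D213964) (tt N110617 (iv7 F472420)))
theorem Q77935 : ∀ i, i < 77935 → P i := stepQ 77934 Q77934 (allL N77934 (tt N72659 F245351) (tt N72661 F245350) (tt N110617 (iv2 F472417)) (tt N109663 (iv3 F467988)) (tt N48837 F340574) (tt N44230 (iv5 D156132)) (tt N109663 (iv6 F467993)) (tt N49181 F340575))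
theorem Q77936 : ∀ i, i < 77936 → P i := stepQ 77935 Q77935 (allL N77935 (tt N76846 (iv1 F351413)) (tt N62156 (iv0 F359506)) (tt N95348 (iv2 F407948)) (tt N109664 (iv3 F467995)) (tt N44231 F245352) (tt N109664 (iv5 F467997)) (tt N44230 (iv6 D156133)) (tt N62028 F245353))
theorem Q77937 : ∀ i, i < 77937 → P i := stepQ 77936 Q77936 (allL N77936 (tt N56396 F245359) (tt N56709 (iv0 F245360)) (tt N56849 F245354) (tt N71753 F245355) (tt N74214 F245356) (tt N56826 F245357) (tt N44232 (iv6 D156134)) (tt N56376 F245358))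
theorem Q77938 : ∀ i, i < 77938 → P i := stepQ 77937 Q77937 (allL N77937 (tt N96321 (iv1 F412023)) (tt N56869 F358704) (tt N72339 F245383) (tt N109904 (iv3 F469145)) (tt N44235 (iv4 D156137)) (tt N59678 F332215) (tt N57117 F351552) (tt N95292 (iv7 F407752)))
theorem Q77939 : ∀ i, i < 77939 → P i := stepQ 77938 Q77938 (allL N77938 (tt N56869 (iv1 F358691)) (tt N96321 (iv0 F412022)) (tt N95292 (iv2 F407750)) (tt N44405 F245365) (tt N44236 (iv4 D156142)) (tt N59672 F332214) (tt N79181 F351460) (tt N72339 (iv7 F245366)))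
theorem Q77940 : ∀ i, i < 77940 → P i := stepQ 77939 Q77939 (allL N77939 (tt N62166 F351462) (tt N101633 (iv0 F433633)) (tt N110609 (iv2 F472378)) (tt N48023 F319076) (tt N79181 (iv4 F351456)) (tt N79160 F351461) (tt N44236 (iv6 D156143)) (tt N62004 (iv7 F351525)))
theorem Q77941 : ∀ i, i < 77941 → P i := stepQ 77940 Q77940 (allL N77940 (tt N99968 F427004) (tt N100469 F429093) (tt N44239 F245384) (tt N71551 F245385) (tt N58348 (iv4 F362345)) (tt N110725 D213965) (tt N44237 (iv6 D156144)) (tt N100468 (iv7 F429084)))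
theorem Q77942 : ∀ i, i < 77942 → P i := stepQ 77941 Q77941 (allL N77941 (tt N99126 F424801) (tt N110726 D213966) (tt N77818 F245386) (tt N44240 F245387) (tt N59662 F365205) (tt N101347 (iv5 F432727)) (tt N44238 (iv6 D156145)) (tt N110727 D213967))
theorem Q77943 : ∀ i, i < 77943 → P i := stepQ 77942 Q77942 (allL N77942 (tt N100468 F429087) (tt N44239 (iv0 D156146)) (tt N99968 (iv2 F427003)) (tt N100463 (iv3 F429076)) (tt N103163 (iv4 F440357)) (tt N110728 D213968) (tt N110729 D213969) (tt N100469 (iv7 F429091)))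
theorem Q77944 : ∀ i, i < 77944 → P i := stepQ 77943 Q77943 (allL N77943 (tt N110730 D213970) (tt N100478 (iv0 F429106)) (tt N110725 (iv2 F472909)) (tt N44243 F245388) (tt N101348 (iv4 F432732)) (tt N44239 (iv5 D156148)) (tt N101347 F432730) (tt N110731 D213971))
theorem Q77945 : ∀ i, i < 77945 → P i := stepQ 77944 Q77944 (allL N77944 (tt N100469 (iv1 F429092)) (tt N99968 (iv0 F427002)) (tt N100468 F429086) (tt N44244 F245389) (tt N99475 (iv4 F424752)) (tt N110731 (iv5 F472929)) (tt N110611 (iv6 F472389)) (tt N44239 (iv7 D156149)))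
theorem Q77946 : ∀ i, i < 77946 → P i := stepQ 77945 Q77945 (allL N77945 (tt N71574 (iv1 F245394)) (tt N44240 (iv0 D156150)) (tt N71572 F455282) (tt N90930 F455283) (tt N110732 D213972) (tt N110733 D213973) (tt N90928 F455284) (tt N71573 F455285))
theorem Q77947 : ∀ i, i < 77947 → P i := stepQ 77946 Q77946 (allL N77946 (tt N44240 (iv1 D156151)) (tt N71574 F245390) (tt N71573 (iv2 F455286)) (tt N110570 F472188) (tt N110734 D213974) (tt N110735 D213975) (tt N110736 D213976) (tt N71572 (iv7 F455287)))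
theorem Q77948 : ∀ i, i < 77948 → P i := stepQ 77947 Q77947 (allL N77947 (tt N110737 D213977) (tt N110738 D213978) (tt N71557 F245391) (tt N101347 F432729) (tt N110739 D213979) (tt N44240 (iv5 D156152)) (tt N44243 F245392) (tt N110740 D213980))
theorem Q77949 : ∀ i, i < 77949 → P i := stepQ 77948 Q77948 (allL N77948 (tt N71573 (iv1 F245395)) (tt N71572 F245396) (tt N71574 F245393) (tt N110727 (iv3 F472919)) (tt N94342 (iv4 F404082)) (tt N110740 (iv5 F472965)) (tt N106661 F455197) (tt N44240 (iv7 D156153)))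
theorem Q77950 : ∀ i, i < 77950 → P i := stepQ 77949 Q77949 (allL N77949 (tt N61896 F245401) (tt N56897 F245402) (tt N61893 F245399) (tt N109943 (iv3 F469328)) (tt N110741 D213981) (tt N44241 (iv5 D156155)) (tt N110742 D213982) (tt N61894 F245400))
theorem Q77951 : ∀ i, i < 77951 → P i := stepQ 77950 Q77950 (allL N77950 (tt N62164 F386207) (tt N98731 (iv0 F422062)) (tt N71547 F245403) (tt N96418 F412439) (tt N102676 (iv4 F438165)) (tt N89346 (iv5 F386206)) (tt N44241 (iv6 D156156)) (tt N61988 F245404))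
theorem Q77952 : ∀ i, i < 77952 → P i := stepQ 77951 Q77951 (allL N77951 (tt N91458 (iv1 F393223)) (tt N91462 (iv0 F393238)) (tt N109940 (iv2 F469313)) (tt N44242 (iv3 D156157)) (tt N91414 (iv4 F393029)) (tt N110743 D213983) (tt N61984 F245406) (tt N71546 F245407))
theorem Q77953 : ∀ i, i < 77953 → P i := stepQ 77952 Q77952 (allL N77952 (tt N56897 F245410) (tt N61896 F245411) (tt N61894 F245408) (tt N110743 (iv3 F472975)) (tt N110744 D213984) (tt N44242 (iv5 D156158)) (tt N110745 D213985) (tt N61893 F245409))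
theorem Q77954 : ∀ i, i < 77954 → P i := stepQ 77953 Q77953 (allL N77953 (tt N98982 (iv1 F422904)) (tt N72832 F422901) (tt N71556 F245412) (tt N110746 D213986) (tt N44243 (iv4 D156159)) (tt N71529 F245413) (tt N110739 (iv6 F472962)) (tt N71528 (iv7 F245414)))
theorem Q77955 : ∀ i, i < 77955 → P i := stepQ 77954 Q77954 (allL N77954 (tt N71555 (iv1 F245419)) (tt N71554 F245420) (tt N71558 F245416) (tt N110731 (iv3 F472927)) (tt N71528 F245417) (tt N44244 F245418) (tt N110747 D213987) (tt N44243 (iv7 D156160)))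
theorem Q77956 : ∀ i, i < 77956 → P i := stepQ 77955 Q77955 (allL N77955 (tt N72828 F245425) (tt N66268 F245426) (tt N71543 F245423) (tt N76844 F366405) (tt N110748 D213988) (tt N44245 (iv5 D156162)) (tt N110749 D213989) (tt N71545 F245424))
theorem Q77957 : ∀ i, i < 77957 → P i := stepQ 77956 Q77956 (allL N77956 (tt N62154 (iv1 F415249)) (tt N103789 (iv0 F442825)) (tt N71544 F245427) (tt N78305 (iv3 F366539)) (tt N44246 F245428) (tt N110750 D213990) (tt N44245 (iv6 D156163)) (tt N61998 F245429))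
theorem Q77958 : ∀ i, i < 77958 → P i := stepQ 77957 Q77957 (allL N77957 (tt N100452 (iv1 F429040)) (tt N100451 F429039) (tt N99966 (iv2 F426990)) (tt N44247 (iv3 D156164)) (tt N71222 F245430) (tt N110751 D213991) (tt N61993 F245431) (tt N71542 F245432))
theorem Q77959 : ∀ i, i < 77959 → P i := stepQ 77958 Q77958 (allL N77958 (tt N66268 F245435) (tt N72828 F245436) (tt N71545 F245433) (tt N110751 (iv3 F473009)) (tt N110752 D213992) (tt N44247 (iv5 D156165)) (tt N110753 D213993) (tt N71543 F245434))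
theorem Q77960 : ∀ i, i < 77960 → P i := stepQ 77959 Q77959 (allL N77959 (tt N78206 (iv1 F247058)) (tt N78209 (iv0 F247119)) (tt N81356 F349782) (tt N75152 F361429) (tt N44248 (iv4 D156166)) (tt N75151 (iv5 F361427)) (tt N110754 D213994) (tt N81355 F349784))
theorem Q77961 : ∀ i, i < 77961 → P i := stepQ 77960 Q77960 (allL N77960 (tt N110755 D213995) (tt N62152 F423079) (tt N82088 F366633) (tt N68338 F245437) (tt N110754 (iv4 F473022)) (tt N99151 (iv5 F423485)) (tt N44248 (iv6 D156167)) (tt N62032 F363691))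
theorem Q77962 : ∀ i, i < 77962 → P i := stepQ 77961 Q77961 (allL N77961 (tt N77843 (iv1 F349774)) (tt N77838 F349773) (tt N77968 (iv2 F245442)) (tt N44249 (iv3 D156168)) (tt N94625 (iv4 F405281)) (tt N82072 (iv5 F359214)) (tt N62033 (iv6 F339879)) (tt N82086 F359217))
theorem Q77963 : ∀ i, i < 77963 → P i := stepQ 77962 Q77962 (allL N77962 (tt N78209 (iv1 F247120)) (tt N78206 (iv0 F349775)) (tt N81355 (iv2 F349785)) (tt N59288 F245438) (tt N44249 (iv4 D156169)) (tt N82070 (iv5 F349783)) (tt N62034 (iv6 F339880)) (tt N81356 F349786))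
theorem Q77964 : ∀ i, i < 77964 → P i := stepQ 77963 Q77963 (allL N77963 (tt N110756 D213996) (tt N110757 D213997) (tt N44251 F245439) (tt N110618 (iv3 F472424)) (tt N96268 (iv4 F411812)) (tt N76853 (iv5 F366410)) (tt N44250 (iv6 D156171)) (tt N110758 D213998))
theorem Q77965 : ∀ i, i < 77965 → P i := stepQ 77964 Q77964 (allL N77964 (tt N110758 (iv1 F473045)) (tt N44251 (iv0 D156172)) (tt N110756 (iv2 F473033)) (tt N77987 F472400) (tt N110759 D213999) (tt N110760 D214000) (tt N110761 D214001) (tt N110757 (iv7 F473036)))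
theorem Q77966 : ∀ i, i < 77966 → P i := stepQ 77965 Q77965 (allL N77965 (tt N44251 (iv1 D156173)) (tt N110758 F473044) (tt N110757 (iv2 F473039)) (tt N64891 F457387) (tt N110762 D214002) (tt N64890 F457388) (tt N110763 D214003) (tt N110756 F473032))
theorem Q77967 : ∀ i, i < 77967 → P i := stepQ 77966 Q77966 (allL N77966 (tt N110764 D214004) (tt N81928 F473068) (tt N76853 F366409) (tt N44254 F245440) (tt N110765 D214005) (tt N44251 (iv5 D156174)) (tt N76611 (iv6 F320456)) (tt N107550 (iv7 F458731)))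
theorem Q77968 : ∀ i, i < 77968 → P i := stepQ 77967 Q77967 (allL N77967 (tt N110757 (iv1 F473035)) (tt N110756 (iv0 F473034)) (tt N110758 (iv2 F473040)) (tt N44255 F245441) (tt N96273 (iv4 F411824)) (tt N107550 (iv5 F458730)) (tt N110627 (iv6 F472488)) (tt N44251 (iv7 D156175)))
theorem Q77969 : ∀ i, i < 77969 → P i := stepQ 77968 Q77968 (allL N77968 (tt N77836 F246212) (tt N110631 (iv0 F472511)) (tt N77961 F245442) (tt N44252 (iv3 D156176)) (tt N94524 (iv4 F404842)) (tt N70752 F245443) (tt N98813 (iv6 F422432)) (tt N70751 F245444))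
theorem Q77970 : ∀ i, i < 77970 → P i := stepQ 77969 Q77969 (allL N77969 (tt N110625 (iv1 F472479)) (tt N44253 (iv0 D156178)) (tt N110623 F472467) (tt N110766 D214006) (tt N94346 F455198) (tt N109993 F469490) (tt N110767 D214007) (tt N110624 (iv7 F472470)))
theorem Q77971 : ∀ i, i < 77971 → P i := stepQ 77970 Q77970 (allL N77970 (tt N44253 (iv1 D156179)) (tt N110625 F472478) (tt N110624 (iv2 F472473)) (tt N89487 (iv3 F429071)) (tt N94347 (iv4 F438407)) (tt N109994 F469491) (tt N99165 F429075) (tt N110623 F472464))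
theorem Q77972 : ∀ i, i < 77972 → P i := stepQ 77971 Q77971 (allL N77971 (tt N106340 F455030) (tt N110768 D214008) (tt N107553 (iv2 F458735)) (tt N76611 (iv3 F320454)) (tt N106578 (iv4 F454935)) (tt N44253 (iv5 D156180)) (tt N44254 F245447) (tt N76854 (iv7 F366408)))
theorem Q77973 : ∀ i, i < 77973 → P i := stepQ 77972 Q77972 (allL N77972 (tt N110624 (iv1 F472469)) (tt N110623 (iv0 F472461)) (tt N110625 (iv2 F472474)) (tt N63670 (iv3 F320457)) (tt N94320 (iv4 F404021)) (tt N76854 F366407) (tt N110629 (iv6 F472498)) (tt N44253 (iv7 D156181)))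
theorem Q77974 : ∀ i, i < 77974 → P i := stepQ 77973 Q77973 (allL N77973 (tt N110769 D214009) (tt N88392 F422721) (tt N90872 (iv2 F391114)) (tt N84195 F368477) (tt N44254 (iv4 D156182)) (tt N85477 (iv5 F372757)) (tt N106578 (iv6 F454934)) (tt N89084 (iv7 F385098)))
theorem Q77975 : ∀ i, i < 77975 → P i := stepQ 77974 Q77974 (allL N77974 (tt N110630 F472505) (tt N93459 (iv0 F400790)) (tt N96726 (iv2 F413623)) (tt N44256 (iv3 D156184)) (tt N56829 F245449) (tt N95278 (iv5 F407694)) (tt N57003 (iv6 F351320)) (tt N96725 (iv7 F413619)))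
theorem Q77976 : ∀ i, i < 77976 → P i := stepQ 77975 Q77975 (allL N77975 (tt N82083 (iv1 F355487)) (tt N44283 F355488) (tt N99239 (iv2 F423813)) (tt N95278 (iv3 F407696)) (tt N90742 (iv4 F415908)) (tt N44256 (iv5 D156186)) (tt N99220 (iv6 F423745)) (tt N99191 (iv7 F423630)))
theorem Q77977 : ∀ i, i < 77977 → P i := stepQ 77976 Q77976 (allL N77976 (tt N57362 F245455) (tt N57361 F245456) (tt N44259 F245452) (tt N57379 F245453) (tt N44258 (iv4 D156193)) (tt N94178 (iv5 F403565)) (tt N77698 (iv6 F336298)) (tt N57363 F245454))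
theorem Q77978 : ∀ i, i < 77978 → P i := stepQ 77977 Q77977 (allL N77977 (tt N77752 (iv1 F359962)) (tt N62047 (iv0 F359959)) (tt N44261 F245457) (tt N77999 (iv3 F245531)) (tt N77698 F359960) (tt N110020 (iv5 F469584)) (tt N44258 (iv6 D156194)) (tt N98879 (iv7 F422679)))
theorem Q77979 : ∀ i, i < 77979 → P i := stepQ 77978 Q77978 (allL N77978 (tt N57363 (iv1 F245459)) (tt N44259 (iv0 D156195)) (tt N57362 (iv2 F245466)) (tt N48510 F319241) (tt N78202 F247024) (tt N110770 D214010) (tt N62055 (iv6 F351556)) (tt N57361 (iv7 F245468)))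
theorem Q77980 : ∀ i, i < 77980 → P i := stepQ 77979 Q77979 (allL N77979 (tt N44259 (iv1 D156196)) (tt N57363 F245460) (tt N57361 F245467) (tt N110771 D214011) (tt N71568 (iv4 F245461)) (tt N110772 D214012) (tt N110773 D214013) (tt N57362 F245462))
theorem Q77981 : ∀ i, i < 77981 → P i := stepQ 77980 Q77980 (allL N77980 (tt N57499 F354570) (tt N94058 (iv0 F403016)) (tt N94178 F403567) (tt N55910 F245469) (tt N91316 (iv4 F392692)) (tt N44259 (iv5 D156197)) (tt N110774 D214014) (tt N57364 F245470))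
theorem Q77982 : ∀ i, i < 77982 → P i := stepQ 77981 Q77981 (allL N77981 (tt N78837 F366455) (tt N58775 (iv0 F354572)) (tt N77698 (iv2 F359966)) (tt N55908 F245471) (tt N44261 F245472) (tt N91376 (iv5 F392905)) (tt N44259 (iv6 D156198)) (tt N97077 (iv7 F415360)))
theorem Q77983 : ∀ i, i < 77983 → P i := stepQ 77982 Q77982 (allL N77982 (tt N60235 (iv1 F245473)) (tt N44260 (iv0 D156199)) (tt N62151 (iv2 F347953)) (tt N93408 (iv3 F400660)) (tt N96069 (iv4 F410899)) (tt N60400 F347954) (tt N61820 F347955) (tt N77995 (iv7 F359955)))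
theorem Q77984 : ∀ i, i < 77984 → P i := stepQ 77983 Q77983 (allL N77983 (tt N44260 (iv1 D156200)) (tt N60235 F245474) (tt N77995 F359971) (tt N77825 F351398) (tt N91358 (iv4 F392859)) (tt N62149 (iv5 F347949)) (tt N98794 (iv6 F422344)) (tt N62151 F347952))
theorem Q77985 : ∀ i, i < 77985 → P i := stepQ 77984 Q77984 (allL N77984 (tt N110775 D214015) (tt N110776 D214016) (tt N77996 (iv2 F245495)) (tt N44262 F245475) (tt N60232 F245476) (tt N110777 D214017) (tt N44260 (iv6 D156201)) (tt N110778 D214018))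
theorem Q77986 : ∀ i, i < 77986 → P i := stepQ 77985 Q77985 (allL N77985 (tt N100445 F429007) (tt N110019 F469583) (tt N110020 F469585) (tt N44263 F245477) (tt N110779 D214019) (tt N44261 (iv5 D156204)) (tt N110777 (iv6 F473146)) (tt N107666 (iv7 F459147)))
theorem Q77987 : ∀ i, i < 77987 → P i := stepQ 77986 Q77986 (allL N77986 (tt N62047 (iv1 F359961)) (tt N77752 F359965) (tt N98879 (iv2 F422682)) (tt N44264 F245478) (tt N97077 (iv4 F415363)) (tt N107666 (iv5 F459146)) (tt N110622 (iv6 F472444)) (tt N44261 (iv7 D156205)))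
theorem Q77988 : ∀ i, i < 77988 → P i := stepQ 77987 Q77987 (allL N77987 (tt N110629 (iv1 F472500)) (tt N44262 (iv0 D156206)) (tt N101531 (iv2 F472453)) (tt N77964 (iv3 F472400)) (tt N94339 F472399) (tt N110780 D214020) (tt N99209 (iv6 F473164)) (tt N110628 (iv7 F472492)))
theorem Q77989 : ∀ i, i < 77989 → P i := stepQ 77988 Q77988 (allL N77988 (tt N44262 (iv1 D156207)) (tt N110629 F472499) (tt N110628 F472493) (tt N100910 F472451) (tt N94340 F472458) (tt N100909 (iv5 F472450)) (tt N110781 D214022) (tt N101531 F472452))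
theorem Q77990 : ∀ i, i < 77990 → P i := stepQ 77989 Q77989 (allL N77989 (tt N110782 D214023) (tt N110783 D214024) (tt N107665 (iv2 F459143)) (tt N110777 (iv3 F473145)) (tt N110784 D214025) (tt N44262 (iv5 D156208)) (tt N44263 F245479) (tt N110785 D214026))
theorem Q77991 : ∀ i, i < 77991 → P i := stepQ 77990 Q77990 (allL N77990 (tt N110628 (iv1 F472491)) (tt N101531 F472495) (tt N110629 (iv2 F472496)) (tt N110778 (iv3 F473148)) (tt N94298 (iv4 F403981)) (tt N110785 (iv5 F473169)) (tt N110625 (iv6 F472477)) (tt N44262 (iv7 D156209)))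
theorem Q77992 : ∀ i, i < 77992 → P i := stepQ 77991 Q77991 (allL N77991 (tt N106616 F455067) (tt N106608 (iv0 F455040)) (tt N107664 (iv2 F459137)) (tt N110786 D214027) (tt N44263 (iv4 D156210)) (tt N106619 (iv5 F455068)) (tt N110784 (iv6 F473168)) (tt N107667 (iv7 F459150)))
theorem Q77993 : ∀ i, i < 77993 → P i := stepQ 77992 Q77992 (allL N77992 (tt N44276 (iv1 F245483)) (tt N44275 F245482) (tt N44279 F245480) (tt N94389 (iv3 F404217)) (tt N96181 (iv4 F411371)) (tt N44265 (iv5 D156211)) (tt N98792 (iv6 F422339)) (tt N44274 F245481))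
theorem Q77994 : ∀ i, i < 77994 → P i := stepQ 77993 Q77993 (allL N77993 (tt N62121 (iv1 F245488)) (tt N62120 F245489) (tt N44280 F245485) (tt N79167 F341525) (tt N44416 F245486) (tt N98793 (iv5 F422341)) (tt N44265 (iv6 D156212)) (tt N62071 F245487))
theorem Q77995 : ∀ i, i < 77995 → P i := stepQ 77994 Q77994 (allL N77994 (tt N72284 F366573) (tt N99962 (iv0 F426974)) (tt N44270 F245490) (tt N77832 F245491) (tt N57675 F245492) (tt N107535 (iv5 F458684)) (tt N44266 (iv6 D156213)) (tt N100450 (iv7 F429036)))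
theorem Q77996 : ∀ i, i < 77996 → P i := stepQ 77995 Q77995 (allL N77995 (tt N44267 (iv1 D156215)) (tt N77827 F245494) (tt N77983 (iv2 F359971)) (tt N96726 (iv3 F413624)) (tt N91589 (iv4 F393713)) (tt N94254 (iv5 F403848)) (tt N62075 (iv6 F401416)) (tt N77982 F359955))
theorem Q77997 : ∀ i, i < 77997 → P i := stepQ 77996 Q77996 (allL N77996 (tt N110787 D214028) (tt N110788 D214029) (tt N77984 F245495) (tt N44270 F245496) (tt N97227 (iv4 F415984)) (tt N110789 D214030) (tt N44267 (iv6 D156216)) (tt N110790 D214031))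
theorem Q77998 : ∀ i, i < 77998 → P i := stepQ 77997 Q77997 (allL N77997 (tt N44366 F245509) (tt N57682 (iv0 F245512)) (tt N57671 F245508) (tt N44268 (iv3 D156218)) (tt N48087 F316716) (tt N48037 F316717) (tt N110791 D214032) (tt N57683 (iv7 F245519)))
theorem Q77999 : ∀ i, i < 77999 → P i := stepQ 77998 Q77998 (allL N77998 (tt N81702 (iv1 F404539)) (tt N72278 F393564) (tt N57675 F245523) (tt N110791 (iv3 F473190)) (tt N44270 F245524) (tt N110792 D214033) (tt N44268 (iv6 D156220)) (tt N109810 (iv7 F468733)))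
theorem Q78000 : ∀ i, i < 78000 → P i := stepQ 77999 Q77999 (allL N77999 (tt N85337 (iv1 F372288)) (tt N89487 (iv0 F386629)) (tt N77831 F245530) (tt N77977 F245531) (tt N51203 (iv4 F359967)) (tt N110793 D214034) (tt N44269 (iv6 D156222)) (tt N86375 (iv7 F375999)))
theorem Q78001 : ∀ i, i < 78001 → P i := stepQ 78000 Q78000 (allL N78000 (tt N107525 (iv1 F458664)) (tt N107536 F458690) (tt N107535 F458686) (tt N110789 (iv3 F473183)) (tt N110794 D214035) (tt N44270 (iv5 D156225)) (tt N110793 (iv6 F473205)) (tt N107534 F458683))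
theorem Q78002 : ∀ i, i < 78002 → P i := stepQ 78001 Q78001 (allL N78001 (tt N99962 (iv1 F426975)) (tt N72284 F426976) (tt N100450 (iv2 F429034)) (tt N110790 (iv3 F473186)) (tt N109810 (iv4 F468731)) (tt N107534 (iv5 F458682)) (tt N78306 F366634) (tt N44270 (iv7 D156226)))
theorem Q78003 : ∀ i, i < 78003 → P i := stepQ 78002 Q78002 (allL N78002 (tt N44274 (iv1 D156234)) (tt N44279 F245540) (tt N44276 (iv2 F245543)) (tt N94255 (iv3 F403855)) (tt N69814 F245544) (tt N68337 F245542) (tt N108087 (iv6 F461058)) (tt N44275 F245541))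
theorem Q78004 : ∀ i, i < 78004 → P i := stepQ 78003 Q78003 (allL N78003 (tt N107115 (iv1 F457051)) (tt N110795 D214036) (tt N44277 F245545) (tt N53583 (iv3 F342224)) (tt N44274 (iv4 D156235)) (tt N47424 F320429) (tt N53581 F342227) (tt N96181 (iv7 F411370)))
theorem Q78005 : ∀ i, i < 78005 → P i := stepQ 78004 Q78004 (allL N78004 (tt N72641 F342231) (tt N90180 (iv0 F388800)) (tt N44278 F245547) (tt N110639 (iv3 F472543)) (tt N53581 (iv4 F342229)) (tt N62104 F245548) (tt N44274 (iv6 D156236)) (tt N99170 (iv7 F423560)))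
theorem Q78006 : ∀ i, i < 78006 → P i := stepQ 78005 Q78005 (allL N78005 (tt N69813 (iv1 F245553)) (tt N69812 F245555) (tt N69723 F245551) (tt N69779 (iv3 F245554)) (tt N44275 (iv4 D156238)) (tt N82076 (iv5 F332248)) (tt N110796 D214037) (tt N69814 F245552))
theorem Q78007 : ∀ i, i < 78007 → P i := stepQ 78006 Q78006 (allL N78006 (tt N110797 D214038) (tt N110798 D214039) (tt N94218 (iv2 F403743)) (tt N99273 (iv3 F423895)) (tt N110796 (iv4 F473215)) (tt N110799 D214040) (tt N44275 (iv6 D156239)) (tt N100412 (iv7 F428858)))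
theorem Q78008 : ∀ i, i < 78008 → P i := stepQ 78007 Q78007 (allL N78007 (tt N108089 F463003) (tt N99097 (iv0 F423324)) (tt N108087 F461059) (tt N61845 F245556) (tt N69815 F245557) (tt N110800 D214041) (tt N44276 (iv6 D156240)) (tt N108088 (iv7 F461061)))
theorem Q78009 : ∀ i, i < 78009 → P i := stepQ 78008 Q78008 (allL N78008 (tt N96181 F411374) (tt N44277 (iv0 D156241)) (tt N107115 (iv2 F457047)) (tt N104864 (iv3 F447689)) (tt N82081 F332265) (tt N81325 (iv5 F332264)) (tt N110801 D214042) (tt N110795 (iv7 F473208)))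
theorem Q78010 : ∀ i, i < 78010 → P i := stepQ 78009 Q78009 (allL N78009 (tt N44277 (iv1 D156242)) (tt N96181 F411373) (tt N110795 (iv2 F473212)) (tt N78098 F332254) (tt N82078 (iv4 F332251)) (tt N81327 F332250) (tt N110802 D214043) (tt N107115 (iv7 F457048)))
theorem Q78011 : ∀ i, i < 78011 → P i := stepQ 78010 Q78010 (allL N78010 (tt N107117 F457057) (tt N110293 (iv0 F470893)) (tt N96184 (iv2 F411383)) (tt N44277 (iv3 D156243)) (tt N44285 F245558) (tt N75588 (iv5 F335201)) (tt N83172 F384820) (tt N94207 (iv7 F403705)))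
theorem Q78012 : ∀ i, i < 78012 → P i := stepQ 78011 Q78011 (allL N78011 (tt N47370 F332252) (tt N47427 F332253) (tt N47424 F342219) (tt N75588 F335200) (tt N100369 (iv4 F428633)) (tt N44277 (iv5 D156244)) (tt N46962 F335202) (tt N47423 F342220))
theorem Q78013 : ∀ i, i < 78013 → P i := stepQ 78012 Q78012 (allL N78012 (tt N110803 D214044) (tt N88516 (iv0 F383361)) (tt N53581 (iv2 F342228)) (tt N83172 (iv3 F384817)) (tt N44278 F245559) (tt N46963 F335203) (tt N44277 (iv6 D156245)) (tt N110804 D214045))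
theorem Q78014 : ∀ i, i < 78014 → P i := stepQ 78013 Q78013 (allL N78013 (tt N110795 (iv1 F473207)) (tt N107115 (iv0 F457049)) (tt N96181 F411372) (tt N94207 (iv3 F403704)) (tt N44279 F245560) (tt N47423 F316173) (tt N99174 (iv6 F423578)) (tt N44277 (iv7 D156246)))
theorem Q78015 : ∀ i, i < 78015 → P i := stepQ 78014 Q78014 (allL N78014 (tt N44278 (iv1 D156248)) (tt N99170 F423562) (tt N90180 (iv2 F388798)) (tt N61945 (iv3 F339884)) (tt N64306 F339885) (tt N110805 D214046) (tt N72827 F339886) (tt N72641 F339883))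
theorem Q78016 : ∀ i, i < 78016 → P i := stepQ 78015 Q78015 (allL N78015 (tt N90180 (iv1 F388801)) (tt N72641 F388804) (tt N99170 (iv2 F423558)) (tt N44289 F245561) (tt N110804 (iv4 F473238)) (tt N62118 F245562) (tt N98795 (iv6 F422353)) (tt N44278 (iv7 D156249)))
theorem Q78017 : ∀ i, i < 78017 → P i := stepQ 78016 Q78016 (allL N78016 (tt N62071 (iv1 F245564)) (tt N44280 (iv0 D156251)) (tt N62121 (iv2 F359984)) (tt N78048 F351507) (tt N81714 F351501) (tt N61816 F339870) (tt N72642 (iv6 F339869)) (tt N62120 F359988))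
theorem Q78018 : ∀ i, i < 78018 → P i := stepQ 78017 Q78017 (allL N78017 (tt N44280 (iv1 D156252)) (tt N62071 F245565) (tt N62120 F359987) (tt N105893 F452218) (tt N73333 (iv4 F245566)) (tt N62134 (iv5 F351509)) (tt N100456 (iv6 F429048)) (tt N62121 (iv7 F359986)))
theorem Q78019 : ∀ i, i < 78019 → P i := stepQ 78018 Q78018 (allL N78018 (tt N110649 (iv1 F472587)) (tt N44282 (iv0 D156256)) (tt N110646 F473094) (tt N110806 D214047) (tt N94383 (iv4 F485494)) (tt N110807 D214049) (tt N76847 F469479) (tt N110647 (iv7 F473095)))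
theorem Q78020 : ∀ i, i < 78020 → P i := stepQ 78019 Q78019 (allL N78019 (tt N44282 (iv1 D156257)) (tt N110649 F472583) (tt N110647 (iv2 F473097)) (tt N110798 (iv3 F473221)) (tt N94384 F472584) (tt N110808 D214050) (tt N110809 D214051) (tt N110646 F473096))
theorem Q78021 : ∀ i, i < 78021 → P i := stepQ 78020 Q78020 (allL N78020 (tt N110810 D214052) (tt N110811 D214053) (tt N110648 (iv2 F472573)) (tt N76799 (iv3 F366512)) (tt N110812 D214054) (tt N44282 (iv5 D156258)) (tt N73617 F245575) (tt N110813 D214055))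
theorem Q78022 : ∀ i, i < 78022 → P i := stepQ 78021 Q78021 (allL N78021 (tt N110647 (iv1 F472572)) (tt N110646 F472582) (tt N110649 (iv2 F472578)) (tt N76596 (iv3 F366513)) (tt N94268 (iv4 F403906)) (tt N110813 (iv5 F473274)) (tt N110651 (iv6 F472594)) (tt N44282 (iv7 D156259)))
theorem Q78023 : ∀ i, i < 78023 → P i := stepQ 78022 Q78022 (allL N78022 (tt N99239 (iv1 F423818)) (tt N99191 (iv0 F423628)) (tt N44283 (iv2 D156262)) (tt N68337 F245576) (tt N68092 F245577) (tt N94255 (iv5 F403857)) (tt N110814 D214056) (tt N82083 (iv7 F355486)))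
theorem Q78024 : ∀ i, i < 78024 → P i := stepQ 78023 Q78023 (allL N78023 (tt N110815 D214057) (tt N110816 D214058) (tt N110814 (iv2 F473278)) (tt N44284 F245578) (tt N74096 F365084) (tt N110817 D214059) (tt N44283 (iv6 D156263)) (tt N110818 D214060))
theorem Q78025 : ∀ i, i < 78025 → P i := stepQ 78024 Q78024 (allL N78024 (tt N110651 (iv1 F472596)) (tt N44284 (iv0 D156264)) (tt N110238 (iv2 F470571)) (tt N108089 F463001) (tt N94379 F462999) (tt N100906 F463002) (tt N110819 D214061) (tt N108084 (iv7 F463000)))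
theorem Q78026 : ∀ i, i < 78026 → P i := stepQ 78025 Q78025 (allL N78025 (tt N44284 (iv1 D156265)) (tt N110651 F472595) (tt N108084 (iv2 F461045)) (tt N107755 (iv3 F459577)) (tt N94380 F423687) (tt N109986 (iv5 F469468)) (tt N99203 (iv6 F423686)) (tt N110238 (iv7 F470573)))
theorem Q78027 : ∀ i, i < 78027 → P i := stepQ 78026 Q78026 (allL N78026 (tt N110820 D214062) (tt N110356 (iv0 F471210)) (tt N110650 (iv2 F472588)) (tt N110817 (iv3 F473285)) (tt N52928 (iv4 F359546)) (tt N44284 (iv5 D156266)) (tt N53497 F359544) (tt N110821 D214063))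
theorem Q78028 : ∀ i, i < 78028 → P i := stepQ 78027 Q78027 (allL N78027 (tt N108084 (iv1 F461050)) (tt N110238 F470575) (tt N110651 (iv2 F472592)) (tt N110818 (iv3 F473289)) (tt N94244 (iv4 F403819)) (tt N110821 (iv5 F473299)) (tt N110649 (iv6 F472581)) (tt N44284 (iv7 D156267)))
theorem Q78029 : ∀ i, i < 78029 → P i := stepQ 78028 Q78028 (allL N78028 (tt N94205 (iv1 F403697)) (tt N44285 (iv0 D156268)) (tt N75149 (iv2 F356556)) (tt N110822 D214064) (tt N72152 (iv4 F356560)) (tt N82314 (iv5 F356558)) (tt N74301 F427534) (tt N94206 (iv7 F403702)))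
theorem Q78030 : ∀ i, i < 78030 → P i := stepQ 78029 Q78029 (allL N78029 (tt N44285 (iv1 D156269)) (tt N94205 F403698) (tt N94206 F403700) (tt N48221 F332269) (tt N72153 (iv4 F332266)) (tt N82313 (iv5 F336911)) (tt N108706 (iv6 F463634)) (tt N75149 (iv7 F356551)))
theorem Q78031 : ∀ i, i < 78031 → P i := stepQ 78030 Q78030 (allL N78030 (tt N75149 (iv1 F403699)) (tt N94206 F403701) (tt N44285 (iv2 D156270)) (tt N94352 (iv3 F404100)) (tt N96184 (iv4 F411384)) (tt N48112 F366393) (tt N110823 D214065) (tt N94205 (iv7 F403696)))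
theorem Q78032 : ∀ i, i < 78032 → P i := stepQ 78031 Q78031 (allL N78031 (tt N101189 (iv1 F432108)) (tt N100103 (iv0 F427523)) (tt N110823 (iv2 F473306)) (tt N44286 F245579) (tt N83172 F384818) (tt N108054 (iv5 F460900)) (tt N44285 (iv6 D156271)) (tt N110824 D214066))
theorem Q78033 : ∀ i, i < 78033 → P i := stepQ 78032 Q78032 (allL N78032 (tt N44286 (iv1 D156273)) (tt N94399 F404271) (tt N94401 F404308) (tt N107157 (iv3 F457240)) (tt N110664 (iv4 F472663)) (tt N77020 F357030) (tt N108766 (iv6 F463848)) (tt N94400 F404305))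
theorem Q78034 : ∀ i, i < 78034 → P i := stepQ 78033 Q78033 (allL N78033 (tt N94401 (iv1 F404306)) (tt N94400 F404302) (tt N94399 (iv2 F404268)) (tt N110824 (iv3 F473311)) (tt N44289 F245580) (tt N94471 (iv5 F404609)) (tt N94212 (iv6 F403718)) (tt N44286 (iv7 D156275)))
theorem Q78035 : ∀ i, i < 78035 → P i := stepQ 78034 Q78034 (allL N78034 (tt N108046 (iv1 F460869)) (tt N94240 F404273) (tt N110584 (iv2 F472241)) (tt N72712 (iv3 F404275)) (tt N44287 (iv4 D156278)) (tt N100090 (iv5 F427488)) (tt N72710 F404274) (tt N100098 (iv7 F427511)))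
theorem Q78036 : ∀ i, i < 78036 → P i := stepQ 78035 Q78035 (allL N78035 (tt N110825 D214067) (tt N110826 D214068) (tt N100399 (iv2 F428800)) (tt N62156 F404284) (tt N94475 (iv4 F404635)) (tt N44287 (iv5 D156279)) (tt N62155 (iv6 F404285)) (tt N100401 (iv7 F428814)))
theorem Q78037 : ∀ i, i < 78037 → P i := stepQ 78036 Q78036 (allL N78036 (tt N99203 (iv1 F423685)) (tt N99100 (iv0 F423340)) (tt N108083 (iv2 F461042)) (tt N61840 F404277) (tt N72710 (iv4 F404276)) (tt N62107 F404286) (tt N44287 (iv6 D156280)) (tt N72645 F404278))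
theorem Q78038 : ∀ i, i < 78038 → P i := stepQ 78037 Q78037 (allL N78037 (tt N110826 (iv1 F473322)) (tt N110825 F473316) (tt N100401 (iv2 F428811)) (tt N99237 (iv3 F423803)) (tt N100355 F428563) (tt N44288 (iv5 D156284)) (tt N98863 (iv6 F422607)) (tt N100399 (iv7 F428801)))
theorem Q78039 : ∀ i, i < 78039 → P i := stepQ 78038 Q78038 (allL N78038 (tt N76848 (iv1 F404298)) (tt N76847 F404297) (tt N76604 F404294) (tt N76839 (iv3 F404295)) (tt N100096 (iv4 F427500)) (tt N110827 D214069) (tt N44288 (iv6 D156285)) (tt N76849 (iv7 F404296)))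
theorem Q78040 : ∀ i, i < 78040 → P i := stepQ 78039 Q78039 (allL N78039 (tt N94391 (iv1 F404233)) (tt N94390 F404238) (tt N94392 (iv2 F404234)) (tt N98795 (iv3 F422350)) (tt N94212 (iv4 F403716)) (tt N98794 (iv5 F422348)) (tt N44289 (iv6 D156286)) (tt N44290 F245583))
theorem Q78041 : ∀ i, i < 78041 → P i := stepQ 78040 Q78040 (allL N78040 (tt N94392 (iv1 F404255)) (tt N44290 (iv0 D156287)) (tt N94390 (iv2 F404251)) (tt N82089 (iv3 F408061)) (tt N96257 (iv4 F411768)) (tt N99652 (iv5 F425597)) (tt N110828 D214070) (tt N94391 (iv7 F404252)))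
theorem Q78042 : ∀ i, i < 78042 → P i := stepQ 78041 Q78041 (allL N78041 (tt N62032 F423807) (tt N82088 F423808) (tt N110755 F473026) (tt N44291 (iv3 D156290)) (tt N72434 F245585) (tt N110829 D214071) (tt N99238 F423809) (tt N62152 F245586))
theorem Q78043 : ∀ i, i < 78043 → P i := stepQ 78042 Q78042 (allL N78042 (tt N101640 (iv1 F433666)) (tt N98985 (iv0 F422919)) (tt N62109 (iv2 F339864)) (tt N110829 (iv3 F473336)) (tt N95573 (iv4 F408707)) (tt N44291 (iv5 D156291)) (tt N62102 (iv6 F351403)) (tt N62153 F245588))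
theorem Q78044 : ∀ i, i < 78044 → P i := stepQ 78043 Q78043 (allL N78043 (tt N95348 (iv1 F407950)) (tt N62028 F351408) (tt N62156 F245589) (tt N99238 (iv3 F423804)) (tt N95747 (iv4 F409432)) (tt N72644 F351404) (tt N44291 (iv6 D156292)) (tt N76846 (iv7 F351410)))
theorem Q78045 : ∀ i, i < 78045 → P i := stepQ 78044 Q78044 (allL N78044 (tt N99192 (iv1 F423637)) (tt N62052 (iv0 F354528)) (tt N99243 F423830) (tt N44292 (iv3 D156293)) (tt N66499 F245590) (tt N100447 (iv5 F429016)) (tt N98864 F422616) (tt N62155 F245591))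
theorem Q78046 : ∀ i, i < 78046 → P i := stepQ 78045 Q78045 (allL N78045 (tt N98985 (iv1 F422920)) (tt N101640 (iv0 F433665)) (tt N62153 F245592) (tt N100447 (iv3 F429020)) (tt N108652 (iv4 F463369)) (tt N44292 (iv5 D156294)) (tt N107530 (iv6 F458675)) (tt N62109 (iv7 F339866)))
theorem Q78047 : ∀ i, i < 78047 → P i := stepQ 78046 Q78046 (allL N78046 (tt N61998 F245597) (tt N71544 (iv0 F245596)) (tt N62154 F245594) (tt N98864 F422615) (tt N66498 F245595) (tt N83327 (iv5 F359537)) (tt N44292 (iv6 D156295)) (tt N103789 (iv7 F442824)))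
theorem Q78048 : ∀ i, i < 78048 → P i := stepQ 78047 Q78047 (allL N78047 (tt N61820 (iv1 F245598)) (tt N44293 (iv0 D156296)) (tt N62158 (iv2 F416055)) (tt N104183 F444574) (tt N99640 (iv4 F425546)) (tt N72660 F245599) (tt N110830 D214072) (tt N62157 F416056))
theorem Q78049 : ∀ i, i < 78049 → P i := stepQ 78048 Q78048 (allL N78048 (tt N44293 (iv1 D156297)) (tt N61820 F245600) (tt N62157 F416054) (tt N78016 (iv3 F351507)) (tt N99641 (iv4 F425553)) (tt N98838 (iv5 F422522)) (tt N107518 (iv6 F458633)) (tt N62158 (iv7 F416053)))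
theorem Q78050 : ∀ i, i < 78050 → P i := stepQ 78049 Q78049 (allL N78049 (tt N90585 F423204) (tt N110831 D214073) (tt N99283 (iv2 F423928)) (tt N102818 (iv3 F438785)) (tt N44293 (iv4 D156298)) (tt N98842 (iv5 F422537)) (tt N99172 (iv6 F423570)) (tt N62159 F245601))
theorem Q78051 : ∀ i, i < 78051 → P i := stepQ 78050 Q78050 (allL N78050 (tt N72272 F245606) (tt N57044 (iv0 F245607)) (tt N57169 F245602) (tt N44296 F245603) (tt N92520 (iv4 F397220)) (tt N59339 F245604) (tt N44294 (iv6 D156299)) (tt N59868 F245605))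
theorem Q78052 : ∀ i, i < 78052 → P i := stepQ 78051 Q78051 (allL N78051 (tt N61968 (iv1 F422310)) (tt N71567 (iv0 F346600)) (tt N106679 F455250) (tt N44295 (iv3 D156300)) (tt N92518 (iv4 F397212)) (tt N110832 D214074) (tt N110833 D214075) (tt N62162 F245608))
theorem Q78053 : ∀ i, i < 78053 → P i := stepQ 78052 Q78052 (allL N78052 (tt N106914 F456268) (tt N98965 (iv0 F422869)) (tt N62167 F245609) (tt N110832 (iv3 F473351)) (tt N110834 D214076) (tt N44295 (iv5 D156301)) (tt N72675 F361877) (tt N62163 F245610))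
theorem Q78054 : ∀ i, i < 78054 → P i := stepQ 78053 Q78053 (allL N78053 (tt N110615 F472411) (tt N62020 (iv0 F351432)) (tt N59879 F245611) (tt N110833 (iv3 F473355)) (tt N44296 F245612) (tt N62692 (iv5 F346902)) (tt N44295 (iv6 D156302)) (tt N59873 F245613))
theorem Q78055 : ∀ i, i < 78055 → P i := stepQ 78054 Q78054 (allL N78054 (tt N110609 (iv1 F472383)) (tt N62004 (iv0 F351526)) (tt N101633 (iv2 F433629)) (tt N44297 (iv3 D156303)) (tt N57161 F245614) (tt N101606 (iv5 F433518)) (tt N105326 (iv6 F449728)) (tt N62166 F245615))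
theorem Q78056 : ∀ i, i < 78056 → P i := stepQ 78055 Q78055 (allL N78055 (tt N98965 (iv1 F422870)) (tt N106914 (iv0 F456267)) (tt N62163 F245616) (tt N101606 (iv3 F433517)) (tt N54407 (iv4 F385680)) (tt N44297 (iv5 D156304)) (tt N98889 (iv6 F422706)) (tt N62167 F245617))
theorem Q78057 : ∀ i, i < 78057 → P i := stepQ 78056 Q78056 (allL N78056 (tt N77883 (iv1 F245622)) (tt N74200 F245621) (tt N62165 F245618) (tt N101628 (iv3 F433611)) (tt N44298 (iv4 D156305)) (tt N99063 (iv5 F423195)) (tt N70746 F245619) (tt N62168 F245620))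
theorem Q78058 : ∀ i, i < 78058 → P i := stepQ 78057 Q78057 (allL N78057 (tt N72203 (iv1 F245624)) (tt N44299 (iv0 D156306)) (tt N58334 (iv2 F350388)) (tt N110835 D214077) (tt N77847 F245623) (tt N57948 F350387) (tt N72858 (iv6 F350389)) (tt N72202 F364773))
theorem Q78059 : ∀ i, i < 78059 → P i := stepQ 78058 Q78058 (allL N78058 (tt N44299 (iv1 D156307)) (tt N72203 F245629) (tt N72202 F364772) (tt N90218 (iv3 F388959)) (tt N77846 (iv4 F245625)) (tt N58335 (iv5 F350391)) (tt N90217 F388957) (tt N58334 F350390))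
theorem Q78060 : ∀ i, i < 78060 → P i := stepQ 78059 Q78059 (allL N78059 (tt N58334 (iv1 F364777)) (tt N72202 F245628) (tt N44299 (iv2 D156308)) (tt N72210 F245626) (tt N99019 (iv4 F423061)) (tt N95169 (iv5 F407292)) (tt N99018 F423057) (tt N72203 F245627))
theorem Q78061 : ∀ i, i < 78061 → P i := stepQ 78060 Q78060 (allL N78060 (tt N107685 F459228) (tt N101515 (iv0 F433222)) (tt N99018 (iv2 F423053)) (tt N44300 F245631) (tt N93499 (iv4 F400946)) (tt N99483 (iv5 F424789)) (tt N44299 (iv6 D156309)) (tt N73039 F245632))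
theorem Q78062 : ∀ i, i < 78062 → P i := stepQ 78061 Q78061 (allL N78061 (tt N72210 (iv1 F245633)) (tt N44301 (iv0 D156310)) (tt N72209 (iv2 F390755)) (tt N110836 D214078) (tt N90760 F390754) (tt N70236 F351306) (tt N90759 (iv6 F390756)) (tt N72208 (iv7 F390758)))
theorem Q78063 : ∀ i, i < 78063 → P i := stepQ 78062 Q78062 (allL N78062 (tt N44301 (iv1 D156311)) (tt N72210 F245639) (tt N72208 F390759) (tt N110837 D214079) (tt N90770 (iv4 F390791)) (tt N70237 (iv5 F364953)) (tt N110838 D214080) (tt N72209 F390757))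
theorem Q78064 : ∀ i, i < 78064 → P i := stepQ 78063 Q78063 (allL N78063 (tt N72209 (iv1 F245640)) (tt N72208 F245638) (tt N44301 (iv2 D156312)) (tt N72203 F245634) (tt N69442 F245635) (tt N93562 (iv5 F401142)) (tt N60040 (iv6 F331799)) (tt N72210 F245637))
theorem Q78065 : ∀ i, i < 78065 → P i := stepQ 78064 Q78064 (allL N78064 (tt N110837 F473382) (tt N110839 D214081) (tt N110840 D214082) (tt N44302 (iv3 D156313)) (tt N57554 F245642) (tt N90440 (iv5 F389652)) (tt N110841 D214083) (tt N65256 (iv7 F312818)))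
theorem Q78066 : ∀ i, i < 78066 → P i := stepQ 78065 Q78065 (allL N78065 (tt N110842 D214084) (tt N74519 (iv0 F366695)) (tt N65234 (iv2 F312832)) (tt N110841 (iv3 F473406)) (tt N65212 F366688) (tt N99471 (iv5 F424728)) (tt N44302 (iv6 D156316)) (tt N73014 (iv7 F363147)))
theorem Q78067 : ∀ i, i < 78067 → P i := stepQ 78066 Q78066 (allL N78066 (tt N90330 (iv1 F389365)) (tt N110835 (iv0 F473372)) (tt N110843 D214085) (tt N44303 (iv3 D156317)) (tt N94431 (iv4 F404453)) (tt N89726 F387332) (tt N73015 (iv6 F363146)) (tt N65232 (iv7 F312827)))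
theorem Q78068 : ∀ i, i < 78068 → P i := stepQ 78067 Q78067 (allL N78067 (tt N72215 (iv1 F245658)) (tt N72214 (iv0 F245656)) (tt N44305 F245653) (tt N85228 (iv3 F371963)) (tt N91727 (iv4 F394200)) (tt N44304 (iv5 D156320)) (tt N110844 D214086) (tt N72213 F245654))
theorem Q78069 : ∀ i, i < 78069 → P i := stepQ 78068 Q78068 (allL N78068 (tt N96714 (iv1 F413584)) (tt N96397 (iv0 F412332)) (tt N91727 (iv2 F394198)) (tt N70308 F245663) (tt N44305 (iv4 D156324)) (tt N48878 F350384) (tt N91658 (iv6 F393924)) (tt N72216 F245664))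
theorem Q78070 : ∀ i, i < 78070 → P i := stepQ 78069 Q78069 (allL N78069 (tt N110845 D214087) (tt N110846 D214088) (tt N110844 (iv2 F473423)) (tt N44306 F245665) (tt N91658 F393925) (tt N109615 (iv5 F467754)) (tt N44305 (iv6 D156325)) (tt N110847 D214089))
theorem Q78071 : ∀ i, i < 78071 → P i := stepQ 78070 Q78070 (allL N78070 (tt N58313 (iv1 F343831)) (tt N44306 (iv0 D156330)) (tt N94502 F404730) (tt N58327 (iv3 F363340)) (tt N62418 (iv4 F343818)) (tt N96788 (iv5 F413948)) (tt N58484 F343819) (tt N94503 (iv7 F404733)))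
theorem Q78072 : ∀ i, i < 78072 → P i := stepQ 78071 Q78071 (allL N78071 (tt N44306 (iv1 D156331)) (tt N58313 F343832) (tt N94503 F404735) (tt N110848 D214090) (tt N62417 (iv4 F343833)) (tt N108111 (iv5 F461156)) (tt N101428 (iv6 F432954)) (tt N94502 F404731))
theorem Q78073 : ∀ i, i < 78073 → P i := stepQ 78072 Q78072 (allL N78072 (tt N73527 F343808) (tt N73533 F343809) (tt N94504 (iv2 F404740)) (tt N109615 (iv3 F467753)) (tt N70211 (iv4 F343805)) (tt N44306 (iv5 D156332)) (tt N44309 F245670) (tt N79190 F343807))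
theorem Q78074 : ∀ i, i < 78074 → P i := stepQ 78073 Q78073 (allL N78073 (tt N94503 (iv1 F404732)) (tt N94502 F404727) (tt N58313 (iv2 F343828)) (tt N110847 (iv3 F473427)) (tt N59012 (iv4 F343811)) (tt N79190 F343817) (tt N58308 (iv6 F341399)) (tt N44306 (iv7 D156333)))
theorem Q78075 : ∀ i, i < 78075 → P i := stepQ 78074 Q78074 (allL N78074 (tt N90350 (iv1 F389403)) (tt N90217 (iv0 F388956)) (tt N90349 (iv2 F456244)) (tt N44307 (iv3 D156334)) (tt N71875 F245673) (tt N88144 (iv5 F381918)) (tt N62203 F245674) (tt N90348 F389401))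
theorem Q78076 : ∀ i, i < 78076 → P i := stepQ 78075 Q78075 (allL N78075 (tt N90759 F390751) (tt N90767 F390777) (tt N90764 F390774) (tt N44308 (iv3 D156335)) (tt N92648 (iv4 F397750)) (tt N108110 (iv5 F461153)) (tt N108471 (iv6 F462730)) (tt N90763 (iv7 F390772)))
theorem Q78077 : ∀ i, i < 78077 → P i := stepQ 78076 Q78076 (allL N78076 (tt N73554 F245675) (tt N73562 F245676) (tt N94506 (iv2 F404753)) (tt N110849 D214091) (tt N44309 (iv4 D156336)) (tt N57774 (iv5 F343178)) (tt N70211 F343806) (tt N64996 F343179))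
theorem Q78078 : ∀ i, i < 78078 → P i := stepQ 78077 Q78077 (allL N78077 (tt N90373 F397754) (tt N107507 (iv0 F458575)) (tt N110850 D214092) (tt N44311 (iv3 D156338)) (tt N96015 (iv4 F410641)) (tt N110851 D214093) (tt N62209 F245681) (tt N94508 (iv7 F404762)))
theorem Q78079 : ∀ i, i < 78079 → P i := stepQ 78078 Q78078 (allL N78078 (tt N70130 F245682) (tt N51889 (iv0 F365368)) (tt N93313 F400357) (tt N110851 (iv3 F473445)) (tt N108113 (iv4 F461167)) (tt N44311 (iv5 D156339)) (tt N96580 F413066) (tt N93312 F400352))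
theorem Q78080 : ∀ i, i < 78080 → P i := stepQ 78079 Q78079 (allL N78079 (tt N100433 F428957) (tt N103077 (iv0 F439975)) (tt N110852 D214094) (tt N44312 (iv3 D156340)) (tt N103952 (iv4 F443505)) (tt N110853 D214095) (tt N79613 F366416) (tt N94507 (iv7 F404760)))
theorem Q78081 : ∀ i, i < 78081 → P i := stepQ 78080 Q78080 (allL N78080 (tt N51889 (iv1 F365373)) (tt N70130 F245683) (tt N93312 F400351) (tt N110853 (iv3 F473447)) (tt N108112 (iv4 F461160)) (tt N44312 (iv5 D156341)) (tt N110854 D214096) (tt N93313 (iv7 F400355)))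
theorem Q78082 : ∀ i, i < 78082 → P i := stepQ 78081 Q78081 (allL N78081 (tt N94202 (iv1 F403684)) (tt N72351 F245704) (tt N48223 F316481) (tt N57529 F245702) (tt N57831 (iv4 F245710)) (tt N44313 (iv5 D156348)) (tt N102272 (iv6 F436484)) (tt N69040 F245703))
theorem Q78083 : ∀ i, i < 78083 → P i := stepQ 78082 Q78082 (allL N78082 (tt N44314 (iv1 D156356)) (tt N48499 F316786) (tt N48216 F316787) (tt N72187 (iv3 F245723)) (tt N65318 F316788) (tt N94169 (iv5 F403513)) (tt N89193 (iv6 F385520)) (tt N72221 F246093))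
theorem Q78084 : ∀ i, i < 78084 → P i := stepQ 78083 Q78083 (allL N78083 (tt N74496 F362625) (tt N110855 D214097) (tt N109492 (iv2 F467248)) (tt N44316 F245726) (tt N78258 (iv4 F247442)) (tt N99500 (iv5 F424877)) (tt N44314 (iv6 D156359)) (tt N73169 (iv7 F365606)))
theorem Q78085 : ∀ i, i < 78085 → P i := stepQ 78084 Q78084 (allL N78084 (tt N104869 (iv1 F447722)) (tt N90371 (iv0 F397744)) (tt N93738 (iv2 F401719)) (tt N44315 (iv3 D156363)) (tt N78257 (iv4 F247441)) (tt N93752 (iv5 F401773)) (tt N59148 (iv6 F363390)) (tt N72224 (iv7 F245764)))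
theorem Q78086 : ∀ i, i < 78086 → P i := stepQ 78085 Q78085 (allL N78085 (tt N101777 (iv1 F434301)) (tt N101778 (iv0 F434305)) (tt N72231 (iv2 F245757)) (tt N59148 F363388) (tt N44316 F245730) (tt N59139 (iv5 F363389)) (tt N44315 (iv6 D156365)) (tt N59138 (iv7 F363391)))
theorem Q78087 : ∀ i, i < 78087 → P i := stepQ 78086 Q78086 (allL N78086 (tt N72233 (iv1 F245763)) (tt N44316 (iv0 D156372)) (tt N62606 (iv2 F341077)) (tt N56056 F341078) (tt N110842 (iv4 F473412)) (tt N46609 F341028) (tt N99615 (iv6 F425430)) (tt N66686 F341076))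
theorem Q78088 : ∀ i, i < 78088 → P i := stepQ 78087 Q78087 (allL N78087 (tt N69563 (iv1 F245805)) (tt N69562 F245804) (tt N48504 F312143) (tt N90219 F388963) (tt N44317 (iv4 D156379)) (tt N72365 F245803) (tt N73174 F353384) (tt N48496 (iv7 F312254)))
theorem Q78089 : ∀ i, i < 78089 → P i := stepQ 78088 Q78088 (allL N78088 (tt N57688 (iv1 F362438)) (tt N94169 F403516) (tt N76061 F309275) (tt N44320 (iv3 D156394)) (tt N68494 F245839) (tt N44366 (iv5 F245868)) (tt N76058 F366609) (tt N72234 F245864))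
theorem Q78090 : ∀ i, i < 78090 → P i := stepQ 78089 Q78089 (allL N78089 (tt N57696 F339620) (tt N94121 F403306) (tt N72235 (iv2 F245863)) (tt N75963 F309279) (tt N48997 F309280) (tt N62243 (iv5 F339625)) (tt N44321 (iv6 D156402)) (tt N76141 F339626))
theorem Q78091 : ∀ i, i < 78091 → P i := stepQ 78090 Q78090 (allL N78090 (tt N48854 F326315) (tt N44322 (iv0 D156440)) (tt N71137 (iv2 F245932)) (tt N48606 F335578) (tt N65451 F245931) (tt N48600 F335579) (tt N70645 (iv6 F245935)) (tt N65449 F245934))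
theorem Q78092 : ∀ i, i < 78092 → P i := stepQ 78091 Q78091 (allL N78091 (tt N54797 (iv1 F327933)) (tt N44323 (iv0 D156448)) (tt N68598 F354698) (tt N110856 D214098) (tt N110857 D214099) (tt N104325 (iv5 F445256)) (tt N88657 (iv6 F383757)) (tt N68597 F354696))
theorem Q78093 : ∀ i, i < 78093 → P i := stepQ 78092 Q78092 (allL N78092 (tt N68598 (iv1 F245958)) (tt N68597 F245956) (tt N44323 (iv2 D156450)) (tt N73864 F363641) (tt N56497 F245953) (tt N69983 F245954) (tt N54795 (iv6 F333139)) (tt N54797 (iv7 F327936)))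
theorem Q78094 : ∀ i, i < 78094 → P i := stepQ 78093 Q78093 (allL N78093 (tt N54793 (iv1 F364745)) (tt N54792 F333140) (tt N54795 F333138) (tt N44324 F245959) (tt N56499 F245960) (tt N53463 (iv5 F333093)) (tt N44323 (iv6 D156451)) (tt N53462 (iv7 F333137)))
theorem Q78095 : ∀ i, i < 78095 → P i := stepQ 78094 Q78094 (allL N78094 (tt N72146 (iv1 F245962)) (tt N44328 (iv0 D156453)) (tt N72145 F411595) (tt N108661 (iv3 F463416)) (tt N103981 (iv4 F443638)) (tt N59263 F411539) (tt N89955 F411540) (tt N72144 F411589))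
theorem Q78096 : ∀ i, i < 78096 → P i := stepQ 78095 Q78095 (allL N78095 (tt N44328 (iv1 D156454)) (tt N72146 F245967) (tt N72144 F411592) (tt N89974 (iv3 F411611)) (tt N103965 (iv4 F443552)) (tt N59264 (iv5 F396281)) (tt N110858 D214100) (tt N72145 (iv7 F411594)))
theorem Q78097 : ∀ i, i < 78097 → P i := stepQ 78096 Q78096 (allL N78096 (tt N72145 (iv1 F245968)) (tt N72144 F245966) (tt N44328 (iv2 D156455)) (tt N72154 F245963) (tt N69433 F245964) (tt N61139 (iv5 F356544)) (tt N89906 (iv6 F387941)) (tt N72146 F245965))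
theorem Q78098 : ∀ i, i < 78098 → P i := stepQ 78097 Q78097 (allL N78097 (tt N72157 (iv1 F245973)) (tt N44329 (iv0 D156458)) (tt N72156 F447700) (tt N103955 F443518) (tt N110859 D214101) (tt N110860 D214102) (tt N110861 D214103) (tt N72155 F447698))
theorem Q78099 : ∀ i, i < 78099 → P i := stepQ 78098 Q78098 (allL N78098 (tt N44329 (iv1 D156459)) (tt N72157 F245978) (tt N72155 (iv2 F447699)) (tt N78009 (iv3 F332254)) (tt N106165 (iv4 F453412)) (tt N109671 (iv5 F468038)) (tt N110862 D214104) (tt N72156 (iv7 F447701)))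
theorem Q78100 : ∀ i, i < 78100 → P i := stepQ 78099 Q78099 (allL N78099 (tt N72156 (iv1 F245979)) (tt N72155 F245977) (tt N44329 (iv2 D156460)) (tt N72161 F245974) (tt N71118 F245975) (tt N45207 F329207) (tt N64541 F329208) (tt N72157 F245976))
theorem Q78101 : ∀ i, i < 78101 → P i := stepQ 78100 Q78100 (allL N78100 (tt N72161 (iv1 F245985)) (tt N44330 (iv0 D156463)) (tt N72160 (iv2 F358662)) (tt N109222 (iv3 F465837)) (tt N100748 (iv4 F430285)) (tt N74983 F358661) (tt N72556 (iv6 F358664)) (tt N72159 (iv7 F358663)))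
theorem Q78102 : ∀ i, i < 78102 → P i := stepQ 78101 Q78101 (allL N78101 (tt N44330 (iv1 D156464)) (tt N72161 F245990) (tt N72159 F358658) (tt N77263 (iv3 F358665)) (tt N110863 D214105) (tt N48051 F358659) (tt N110256 (iv6 F470665)) (tt N72160 F358660))
theorem Q78103 : ∀ i, i < 78103 → P i := stepQ 78102 Q78102 (allL N78102 (tt N72160 (iv1 F245991)) (tt N72159 F245989) (tt N44330 (iv2 D156465)) (tt N72157 F245986) (tt N74221 F245987) (tt N100651 F429853) (tt N106086 F453052) (tt N72161 F245988))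
theorem Q78104 : ∀ i, i < 78104 → P i := stepQ 78103 Q78103 (allL N78103 (tt N103954 F443514) (tt N103955 (iv0 F443517)) (tt N104873 (iv2 F447741)) (tt N44331 (iv3 D156473)) (tt N82115 F366642) (tt N107177 (iv5 F457353)) (tt N110864 D214106) (tt N72162 (iv7 F366641)))
theorem Q78105 : ∀ i, i < 78105 → P i := stepQ 78104 Q78104 (allL N78104 (tt N56067 F363448) (tt N55728 (iv0 F363452)) (tt N65293 (iv2 F363450)) (tt N110864 (iv3 F473503)) (tt N56051 F363449) (tt N56040 (iv5 F363451)) (tt N44331 (iv6 D156474)) (tt N107994 (iv7 F460636)))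
theorem Q78106 : ∀ i, i < 78106 → P i := stepQ 78105 Q78105 (allL N78105 (tt N72166 (iv1 F246002)) (tt N48100 (iv0 F315854)) (tt N44333 F245997) (tt N96260 (iv3 F411779)) (tt N73715 (iv4 F356833)) (tt N44332 (iv5 D156475)) (tt N77044 (iv6 F337212)) (tt N72164 F245998))
theorem Q78107 : ∀ i, i < 78107 → P i := stepQ 78106 Q78106 (allL N78106 (tt N72583 F363482) (tt N62276 F363483) (tt N44334 F246003) (tt N96261 (iv3 F411785)) (tt N44346 F246004) (tt N110530 (iv5 F472014)) (tt N44332 (iv6 D156476)) (tt N72581 (iv7 F341113)))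
theorem Q78108 : ∀ i, i < 78108 → P i := stepQ 78107 Q78107 (allL N78107 (tt N73717 F340100) (tt N73704 (iv0 F340098)) (tt N73715 (iv2 F356832)) (tt N62829 (iv3 F340095)) (tt N44333 (iv4 D156479)) (tt N62827 (iv5 F331620)) (tt N63529 (iv6 F340103)) (tt N72167 F246014))
theorem Q78109 : ∀ i, i < 78109 → P i := stepQ 78108 Q78108 (allL N78108 (tt N75956 F356471) (tt N56120 F353447) (tt N77044 F337211) (tt N44337 F246015) (tt N63529 F337210) (tt N110865 D214107) (tt N44333 (iv6 D156480)) (tt N64410 (iv7 F356493)))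
theorem Q78110 : ∀ i, i < 78110 → P i := stepQ 78109 Q78109 (allL N78109 (tt N72581 (iv1 F341121)) (tt N44334 (iv0 D156481)) (tt N72583 (iv2 F341123)) (tt N83318 F341132) (tt N75670 (iv4 F341133)) (tt N83447 (iv5 F341129)) (tt N72574 (iv6 F341124)) (tt N62276 F341122))
theorem Q78111 : ∀ i, i < 78111 → P i := stepQ 78110 Q78110 (allL N78110 (tt N110532 (iv1 F472025)) (tt N109687 (iv0 F468110)) (tt N110530 F472017) (tt N44339 F246016) (tt N88575 F430645) (tt N44334 (iv5 D156483)) (tt N110865 (iv6 F473507)) (tt N108731 (iv7 F463742)))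
theorem Q78112 : ∀ i, i < 78112 → P i := stepQ 78111 Q78111 (allL N78111 (tt N110860 (iv1 F473483)) (tt N109671 F468040) (tt N110866 D214108) (tt N44335 (iv3 D156484)) (tt N85822 (iv4 F374120)) (tt N44383 F246017) (tt N45109 F360941) (tt N72170 F246018))
theorem Q78113 : ∀ i, i < 78113 → P i := stepQ 78112 Q78112 (allL N78112 (tt N74983 F338232) (tt N48051 F338233) (tt N62857 F338234) (tt N44336 (iv3 D156486)) (tt N74437 F338235) (tt N44384 F246021) (tt N62773 F338236) (tt N58977 F246022))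
theorem Q78114 : ∀ i, i < 78114 → P i := stepQ 78113 Q78113 (allL N78113 (tt N69770 (iv1 F360246)) (tt N54679 F360245) (tt N69985 (iv2 F341445)) (tt N62773 F341449) (tt N58950 F246024) (tt N99881 (iv5 F426664)) (tt N44336 (iv6 D156487)) (tt N62858 (iv7 F341448)))
theorem Q78115 : ∀ i, i < 78115 → P i := stepQ 78114 Q78114 (allL N78114 (tt N105240 (iv1 F449346)) (tt N105242 (iv0 F449358)) (tt N64409 F356527) (tt N110865 (iv3 F473506)) (tt N110867 D214109) (tt N44337 (iv5 D156490)) (tt N44339 F246025) (tt N64411 F356524))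
theorem Q78116 : ∀ i, i < 78116 → P i := stepQ 78115 Q78115 (allL N78115 (tt N110868 D214110) (tt N110862 F473531) (tt N110869 D214111) (tt N44338 (iv3 D156492)) (tt N71144 F246028) (tt N110870 D214112) (tt N72539 F246029) (tt N62266 F246030))
theorem Q78117 : ∀ i, i < 78117 → P i := stepQ 78116 Q78116 (allL N78116 (tt N72564 F246033) (tt N64328 (iv0 F356529)) (tt N72566 F246031) (tt N110870 (iv3 F473538)) (tt N110871 D214113) (tt N44338 (iv5 D156493)) (tt N110872 D214114) (tt N62267 F246032))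
theorem Q78118 : ∀ i, i < 78118 → P i := stepQ 78117 Q78117 (allL N78117 (tt N72524 (iv1 F246037)) (tt N44339 (iv0 D156494)) (tt N73291 (iv2 F246036)) (tt N108403 (iv3 F462436)) (tt N110873 D214115) (tt N73227 F246035) (tt N104330 (iv6 F445286)) (tt N89392 (iv7 F386348)))
theorem Q78119 : ∀ i, i < 78119 → P i := stepQ 78118 Q78118 (allL N78118 (tt N44339 (iv1 D156495)) (tt N72524 F246038) (tt N89392 (iv2 F386346)) (tt N110874 D214116) (tt N110875 D214117) (tt N73292 F246040) (tt N84413 F369209) (tt N73291 F246039))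
theorem Q78120 : ∀ i, i < 78120 → P i := stepQ 78119 Q78119 (allL N78119 (tt N110876 D214118) (tt N110877 D214119) (tt N96264 (iv2 F411793)) (tt N110878 D214120) (tt N44339 (iv4 D156496)) (tt N110878 F473570) (tt N110867 (iv6 F473522)) (tt N110879 D214121))
theorem Q78121 : ∀ i, i < 78121 → P i := stepQ 78120 Q78120 (allL N78120 (tt N89392 (iv1 F386350)) (tt N73291 (iv0 F246043)) (tt N72524 F246041) (tt N108731 (iv3 F463740)) (tt N110879 (iv4 F473575)) (tt N44340 F246042) (tt N110880 D214122) (tt N44339 (iv7 D156497)))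
theorem Q78122 : ∀ i, i < 78122 → P i := stepQ 78121 Q78121 (allL N78121 (tt N110881 D214123) (tt N110858 (iv0 F473468)) (tt N110882 D214124) (tt N44341 (iv3 D156498)) (tt N69466 F246044) (tt N110883 D214125) (tt N72474 F246045) (tt N62259 F246046))
theorem Q78123 : ∀ i, i < 78123 → P i := stepQ 78122 Q78122 (allL N78122 (tt N72520 F246049) (tt N72519 F246050) (tt N72522 F246047) (tt N110883 (iv3 F473597)) (tt N110884 D214126) (tt N44341 (iv5 D156499)) (tt N110885 D214127) (tt N62262 F246048))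
theorem Q78124 : ∀ i, i < 78124 → P i := stepQ 78123 Q78123 (allL N78123 (tt N108661 (iv1 F463415)) (tt N108660 (iv0 F463408)) (tt N109477 (iv2 F467169)) (tt N44342 (iv3 D156505)) (tt N78231 (iv4 F247329)) (tt N75591 F362455) (tt N76069 (iv6 F362446)) (tt N72184 F246072))
theorem Q78125 : ∀ i, i < 78125 → P i := stepQ 78124 Q78124 (allL N78124 (tt N47408 (iv1 F314990)) (tt N44343 (iv0 D156512)) (tt N48218 (iv2 F314363)) (tt N72221 (iv3 F246091)) (tt N68337 F246084) (tt N66823 F312527) (tt N72784 F363476) (tt N72187 F246086))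
theorem Q78126 : ∀ i, i < 78126 → P i := stepQ 78125 Q78125 (allL N78125 (tt N47997 (iv1 F314994)) (tt N47999 (iv0 F314995)) (tt N77891 F246103) (tt N78200 (iv3 F247018)) (tt N44343 (iv4 D156514)) (tt N48028 (iv5 F314996)) (tt N61873 (iv6 F336250)) (tt N72188 F246104))
theorem Q78127 : ∀ i, i < 78127 → P i := stepQ 78126 Q78126 (allL N78126 (tt N99226 (iv1 F423756)) (tt N74491 (iv0 F349451)) (tt N103154 (iv2 F440327)) (tt N44345 F246109) (tt N61873 (iv4 F336249)) (tt N74816 (iv5 F360613)) (tt N44343 (iv6 D156515)) (tt N99831 (iv7 F426433)))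
theorem Q78128 : ∀ i, i < 78128 → P i := stepQ 78127 Q78127 (allL N78127 (tt N69814 F246111) (tt N69723 (iv0 F246112)) (tt N69813 F246113) (tt N44344 (iv3 D156516)) (tt N78200 (iv4 F247019)) (tt N81295 (iv5 F332241)) (tt N99254 (iv6 F423848)) (tt N69812 F246110))
theorem Q78129 : ∀ i, i < 78129 → P i := stepQ 78128 Q78128 (allL N78128 (tt N99755 (iv1 F426079)) (tt N72380 F246116) (tt N72185 F246114) (tt N81295 F332244) (tt N107178 (iv4 F457361)) (tt N44344 (iv5 D156517)) (tt N105142 (iv6 F448970)) (tt N72189 F246115))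
theorem Q78130 : ∀ i, i < 78130 → P i := stepQ 78129 Q78129 (allL N78129 (tt N72749 F366107) (tt N92602 (iv0 F397590)) (tt N81709 F363149) (tt N44347 (iv3 D156540)) (tt N93891 (iv4 F402300)) (tt N68571 (iv5 F363148)) (tt N55192 F363150) (tt N62293 F363151))
theorem Q78131 : ∀ i, i < 78131 → P i := stepQ 78130 Q78130 (allL N78130 (tt N72793 (iv1 F361509)) (tt N72792 F361517) (tt N72795 (iv2 F361514)) (tt N110886 D214128) (tt N44347 (iv4 D156541)) (tt N110887 D214129) (tt N72766 (iv6 F361515)) (tt N62298 F361513))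
theorem Q78132 : ∀ i, i < 78132 → P i := stepQ 78131 Q78131 (allL N78131 (tt N72799 (iv1 F342388)) (tt N72750 (iv0 F342386)) (tt N72801 (iv2 F342390)) (tt N68571 F342387) (tt N104146 (iv4 F444406)) (tt N44347 (iv5 D156542)) (tt N68568 (iv6 F342391)) (tt N62299 F342389))
theorem Q78133 : ∀ i, i < 78133 → P i := stepQ 78132 Q78132 (allL N78132 (tt N62220 (iv1 F246204)) (tt N62219 F246203) (tt N44348 (iv2 D156566)) (tt N72240 F246200) (tt N110705 (iv4 F472839)) (tt N100316 (iv5 F428403)) (tt N62981 (iv6 F341175)) (tt N62218 F246202))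
theorem Q78134 : ∀ i, i < 78134 → P i := stepQ 78133 Q78133 (allL N78133 (tt N70151 (iv1 F246210)) (tt N44350 (iv0 D156569)) (tt N70150 F349765) (tt N56870 F246209) (tt N110631 (iv4 F472509)) (tt N78466 F349766) (tt N96713 (iv6 F413577)) (tt N47899 F349767))
theorem Q78135 : ∀ i, i < 78135 → P i := stepQ 78134 Q78134 (allL N78134 (tt N44350 (iv1 D156570)) (tt N70151 (iv0 F246213)) (tt N47899 F349752) (tt N106298 F453936) (tt N77836 (iv4 F246211)) (tt N78432 F349753) (tt N47832 F349754) (tt N70150 (iv7 F349763)))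
theorem Q78136 : ∀ i, i < 78136 → P i := stepQ 78135 Q78135 (allL N78135 (tt N72292 (iv1 F246245)) (tt N72291 F246244) (tt N44353 F246242) (tt N94513 (iv3 F404782)) (tt N109628 (iv4 F467822)) (tt N44352 (iv5 D156579)) (tt N110888 D214130) (tt N72290 F246243))
theorem Q78137 : ∀ i, i < 78137 → P i := stepQ 78136 Q78136 (allL N78136 (tt N73501 F353407) (tt N76195 F353409) (tt N44354 F246246) (tt N94514 (iv3 F404787)) (tt N44371 F246247) (tt N107819 (iv5 F459838)) (tt N44352 (iv6 D156580)) (tt N66891 F353410))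
theorem Q78138 : ∀ i, i < 78138 → P i := stepQ 78137 Q78137 (allL N78137 (tt N86204 F375364) (tt N95265 F407635) (tt N109628 F467823) (tt N70354 F246248) (tt N44353 (iv4 D156581)) (tt N101740 (iv5 F434121)) (tt N110889 D214131) (tt N72293 F246249))
theorem Q78139 : ∀ i, i < 78139 → P i := stepQ 78138 Q78138 (allL N78138 (tt N110890 D214132) (tt N110891 D214133) (tt N110888 (iv2 F473618)) (tt N44355 F246250) (tt N110889 (iv4 F473624)) (tt N96482 (iv5 F412698)) (tt N44353 (iv6 D156582)) (tt N102018 (iv7 F435363)))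
theorem Q78140 : ∀ i, i < 78140 → P i := stepQ 78139 Q78139 (allL N78139 (tt N72904 F352243) (tt N107820 F459847) (tt N107819 (iv2 F459841)) (tt N44358 F246251) (tt N97115 (iv4 F415505)) (tt N44354 (iv5 D156585)) (tt N96482 (iv6 F412699)) (tt N76196 (iv7 F362489)))
theorem Q78141 : ∀ i, i < 78141 → P i := stepQ 78140 Q78140 (allL N78140 (tt N44355 (iv1 D156588)) (tt N52767 (iv0 F360785)) (tt N58221 F360783) (tt N108167 (iv3 F461367)) (tt N51129 F360787) (tt N57914 F360786) (tt N72962 (iv6 F360782)) (tt N58225 F360784))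
theorem Q78142 : ∀ i, i < 78142 → P i := stepQ 78141 Q78141 (allL N78141 (tt N47900 F360032) (tt N47832 F360033) (tt N47896 F360034) (tt N44356 (iv3 D156591)) (tt N109949 (iv4 F469351)) (tt N45634 F360035) (tt N73448 F246258) (tt N47897 F360036))
theorem Q78143 : ∀ i, i < 78143 → P i := stepQ 78142 Q78142 (allL N78142 (tt N70230 F402160) (tt N110892 D214134) (tt N108943 (iv2 F464600)) (tt N44357 (iv3 D156593)) (tt N97135 (iv4 F415619)) (tt N93853 F402153) (tt N93854 (iv6 F402156)) (tt N73532 F246262))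
theorem Q78144 : ∀ i, i < 78144 → P i := stepQ 78143 Q78143 (allL N78143 (tt N72692 F246264) (tt N58352 (iv0 F337409)) (tt N58182 F337418) (tt N93853 (iv3 F402151)) (tt N57903 F337419) (tt N44357 (iv5 D156594)) (tt N57902 F337420) (tt N72954 (iv7 F337417)))
theorem Q78145 : ∀ i, i < 78145 → P i := stepQ 78144 Q78144 (allL N78144 (tt N59887 F246269) (tt N72852 F246271) (tt N73046 F246266) (tt N93854 (iv3 F402155)) (tt N70221 F246267) (tt N72880 (iv5 F246270)) (tt N44357 (iv6 D156595)) (tt N73049 F246268))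
theorem Q78146 : ∀ i, i < 78146 → P i := stepQ 78145 Q78145 (allL N78145 (tt N55645 F246276) (tt N56906 (iv0 F246277)) (tt N56837 F246272) (tt N44362 F246273) (tt N101707 (iv4 F433976)) (tt N44360 (iv5 D156597)) (tt N60328 F246274) (tt N55684 F246275))
theorem Q78147 : ∀ i, i < 78147 → P i := stepQ 78146 Q78146 (allL N78146 (tt N94540 F404890) (tt N94535 (iv0 F410735)) (tt N94538 F404886) (tt N44361 (iv3 D156598)) (tt N96025 (iv4 F410691)) (tt N110893 D214135) (tt N73456 F246278) (tt N94519 (iv7 F404809)))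
theorem Q78148 : ∀ i, i < 78148 → P i := stepQ 78147 Q78147 (allL N78147 (tt N59677 (iv1 F336738)) (tt N72950 F246280) (tt N59552 (iv2 F336740)) (tt N110893 (iv3 F473645)) (tt N94798 (iv4 F405988)) (tt N44361 (iv5 D156599)) (tt N59358 F343794) (tt N94520 (iv7 F404812)))
theorem Q78149 : ∀ i, i < 78149 → P i := stepQ 78148 Q78148 (allL N78148 (tt N57842 (iv1 F405278)) (tt N75506 (iv0 F366600)) (tt N110894 D214136) (tt N44364 (iv3 D156602)) (tt N109305 (iv4 F466302)) (tt N95081 F406972) (tt N110895 D214137) (tt N73561 F246290))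
theorem Q78150 : ∀ i, i < 78150 → P i := stepQ 78149 Q78149 (allL N78149 (tt N73556 (iv1 F246297)) (tt N72846 (iv0 F246299)) (tt N73075 F246294) (tt N110895 (iv3 F473652)) (tt N44365 F246295) (tt N95083 (iv5 F406974)) (tt N44364 (iv6 D156604)) (tt N73078 F246296))
theorem Q78151 : ∀ i, i < 78151 → P i := stepQ 78150 Q78150 (allL N78150 (tt N73336 (iv1 F361945)) (tt N108266 F461786) (tt N82582 (iv2 F361944)) (tt N44368 F246300) (tt N78194 (iv4 F246890)) (tt N101170 (iv5 F432034)) (tt N44366 (iv6 D156605)) (tt N62369 F361943))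
theorem Q78152 : ∀ i, i < 78152 → P i := stepQ 78151 Q78151 (allL N78151 (tt N60149 F246303) (tt N60145 (iv0 F246885)) (tt N94529 (iv2 F404857)) (tt N44367 (iv3 D156607)) (tt N74177 (iv4 F339999)) (tt N98222 F420048) (tt N108472 (iv6 F462736)) (tt N65274 (iv7 F314697)))
theorem Q78153 : ∀ i, i < 78153 → P i := stepQ 78152 Q78152 (allL N78152 (tt N94692 F405551) (tt N101769 (iv0 F434263)) (tt N65276 (iv2 F314710)) (tt N98222 (iv3 F420045)) (tt N96714 (iv4 F413581)) (tt N44367 (iv5 D156608)) (tt N93305 (iv6 F400331)) (tt N65275 (iv7 F314699)))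
theorem Q78154 : ∀ i, i < 78154 → P i := stepQ 78153 Q78153 (allL N78153 (tt N73574 (iv1 F345687)) (tt N73573 F361964) (tt N65277 (iv2 F314712)) (tt N108472 (iv3 F462735)) (tt N44368 F246307) (tt N90252 (iv5 F389118)) (tt N44367 (iv6 D156609)) (tt N62373 (iv7 F345686)))
theorem Q78155 : ∀ i, i < 78155 → P i := stepQ 78154 Q78154 (allL N78154 (tt N73577 (iv1 F350155)) (tt N73340 (iv0 F344023)) (tt N72310 F246309) (tt N101170 (iv3 F432031)) (tt N75797 F344024) (tt N44368 (iv5 D156612)) (tt N76139 F345678) (tt N62374 (iv7 F345685)))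
theorem Q78156 : ∀ i, i < 78156 → P i := stepQ 78155 Q78155 (allL N78155 (tt N101769 (iv1 F434264)) (tt N94692 F405552) (tt N65275 (iv2 F314698)) (tt N94528 (iv3 F404854)) (tt N96397 F412329) (tt N44369 (iv5 D156615)) (tt N98246 F420135) (tt N65276 (iv7 F314711)))
theorem Q78157 : ∀ i, i < 78157 → P i := stepQ 78156 Q78156 (allL N78156 (tt N63159 F366526) (tt N110791 (iv0 F473194)) (tt N107237 (iv2 F457585)) (tt N44372 (iv3 D156636)) (tt N76250 (iv4 F366536)) (tt N87823 (iv5 F380680)) (tt N73580 (iv6 F366476)) (tt N76197 F366593))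
theorem Q78158 : ∀ i, i < 78158 → P i := stepQ 78157 Q78157 (allL N78157 (tt N75181 F330021) (tt N65283 F363749) (tt N73609 (iv2 F363747)) (tt N110896 D214138) (tt N44372 (iv4 D156637)) (tt N101521 (iv5 F433235)) (tt N73581 F363748) (tt N75505 F363745))
theorem Q78159 : ∀ i, i < 78159 → P i := stepQ 78158 Q78158 (allL N78158 (tt N65283 (iv1 F339601)) (tt N75181 (iv0 F359424)) (tt N75505 F363744) (tt N110897 D214139) (tt N44373 (iv4 D156642)) (tt N101520 (iv5 F433232)) (tt N108923 (iv6 F464502)) (tt N73609 (iv7 F363746)))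
theorem Q78160 : ∀ i, i < 78160 → P i := stepQ 78159 Q78159 (allL N78159 (tt N59888 (iv1 F350109)) (tt N73576 (iv0 F330035)) (tt N73179 (iv2 F350121)) (tt N62324 F361190) (tt N108923 (iv4 F464501)) (tt N62322 (iv5 F348845)) (tt N44373 (iv6 D156644)) (tt N73181 F350119))
theorem Q78161 : ∀ i, i < 78161 → P i := stepQ 78160 Q78160 (allL N78160 (tt N57609 F361408) (tt N74510 (iv0 F357855)) (tt N107250 F457649) (tt N57580 F246390) (tt N44377 (iv4 D156662)) (tt N110898 D214140) (tt N108775 (iv6 F463876)) (tt N72283 F246391))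
theorem Q78162 : ∀ i, i < 78162 → P i := stepQ 78161 Q78161 (allL N78161 (tt N78574 F346424) (tt N78573 F346425) (tt N80884 F346426) (tt N44379 (iv3 D156666)) (tt N109274 (iv4 F466123)) (tt N44795 F346427) (tt N104572 (iv6 F446338)) (tt N74755 F346428))
theorem Q78163 : ∀ i, i < 78163 → P i := stepQ 78162 Q78162 (allL N78162 (tt N71393 F246404) (tt N71391 F246403) (tt N71195 F246401) (tt N98493 F421115) (tt N110899 D214141) (tt N44380 (iv5 D156668)) (tt N48707 F337821) (tt N71198 F246402))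
theorem Q78164 : ∀ i, i < 78164 → P i := stepQ 78163 Q78163 (allL N78163 (tt N58654 F246408) (tt N58597 (iv0 F365442)) (tt N71196 F246405) (tt N47234 F326026) (tt N44381 (iv4 D156669)) (tt N95390 (iv5 F408082)) (tt N47611 F326027) (tt N58740 F246407))
theorem Q78165 : ∀ i, i < 78165 → P i := stepQ 78164 Q78164 (allL N78164 (tt N72244 (iv1 F246443)) (tt N44383 (iv0 D156684)) (tt N72243 (iv2 F360938)) (tt N97291 (iv3 F416246)) (tt N105981 (iv4 F452612)) (tt N78943 F360940) (tt N110900 D214142) (tt N72242 (iv7 F360939)))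
theorem Q78166 : ∀ i, i < 78166 → P i := stepQ 78165 Q78165 (allL N78165 (tt N44383 (iv1 D156685)) (tt N72244 F246449) (tt N72242 F360934) (tt N47426 F360935) (tt N105982 (iv4 F452616)) (tt N47425 F360936) (tt N89385 F386317) (tt N72243 F360937))
theorem Q78167 : ∀ i, i < 78167 → P i := stepQ 78166 Q78166 (allL N78166 (tt N72243 (iv1 F246450)) (tt N72242 F246448) (tt N44383 (iv2 D156686)) (tt N58976 F246444) (tt N71165 F246445) (tt N110866 (iv5 F473516)) (tt N58966 F246446) (tt N72244 F246447))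
theorem Q78168 : ∀ i, i < 78168 → P i := stepQ 78167 Q78167 (allL N78167 (tt N58976 (iv1 F246451)) (tt N44384 (iv0 D156687)) (tt N58975 (iv2 F361440)) (tt N89517 (iv3 F386698)) (tt N95113 (iv4 F407102)) (tt N76728 F338251) (tt N89379 F386288) (tt N58974 (iv7 F361439)))
theorem Q78169 : ∀ i, i < 78169 → P i := stepQ 78168 Q78168 (allL N78168 (tt N44384 (iv1 D156688)) (tt N58976 F246456) (tt N58974 (iv2 F361438)) (tt N91422 (iv3 F393065)) (tt N92871 (iv4 F398594)) (tt N64015 F338248) (tt N110901 D214143) (tt N58975 (iv7 F361442)))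
theorem Q78170 : ∀ i, i < 78170 → P i := stepQ 78169 Q78169 (allL N78169 (tt N97299 F416283) (tt N97291 (iv0 F416245)) (tt N97296 F416266) (tt N44386 (iv3 D156694)) (tt N72311 F246468) (tt N108078 (iv5 F461019)) (tt N110902 D214144) (tt N72247 F246469))
theorem Q78171 : ∀ i, i < 78171 → P i := stepQ 78170 Q78170 (allL N78170 (tt N62570 (iv1 F342365)) (tt N73248 (iv0 F361958)) (tt N48101 (iv2 F319244)) (tt N110902 (iv3 F473698)) (tt N48098 F316926) (tt N108391 (iv5 F462378)) (tt N44386 (iv6 D156695)) (tt N62403 (iv7 F342361)))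
theorem Q78172 : ∀ i, i < 78172 → P i := stepQ 78171 Q78171 (allL N78171 (tt N55314 (iv1 F345047)) (tt N55313 (iv0 F343859)) (tt N48581 F340073) (tt N55312 F340074) (tt N44390 (iv4 D156711)) (tt N85647 (iv5 F373360)) (tt N48579 F340075) (tt N55315 (iv7 F357140)))
theorem Q78173 : ∀ i, i < 78173 → P i := stepQ 78172 Q78172 (allL N78172 (tt N72433 F246509) (tt N64574 (iv0 F342828)) (tt N73310 F246506) (tt N89912 (iv3 F387980)) (tt N44393 F246507) (tt N110903 D214145) (tt N44392 (iv6 D156714)) (tt N73232 F246508))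
theorem Q78174 : ∀ i, i < 78174 → P i := stepQ 78173 Q78173 (allL N78173 (tt N76295 (iv1 F365255)) (tt N74873 (iv0 F365253)) (tt N76294 (iv2 F349219)) (tt N44394 (iv3 D156715)) (tt N94323 (iv4 F404038)) (tt N49014 F329911) (tt N73228 F246511) (tt N76293 F349223))
theorem Q78175 : ∀ i, i < 78175 → P i := stepQ 78174 Q78174 (allL N78174 (tt N59255 F246518) (tt N84233 (iv0 F368619)) (tt N96034 (iv2 F410740)) (tt N44396 (iv3 D156718)) (tt N78184 (iv4 F246725)) (tt N74982 F338224) (tt N62427 (iv6 F361557)) (tt N71674 (iv7 F338229)))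
theorem Q78176 : ∀ i, i < 78176 → P i := stepQ 78175 Q78175 (allL N78175 (tt N73353 (iv1 F338221)) (tt N73386 (iv0 F348296)) (tt N72275 F246519) (tt N74982 (iv3 F338222)) (tt N73717 F338223) (tt N44396 (iv5 D156719)) (tt N77659 (iv6 F348307)) (tt N72274 F246520))
theorem Q78177 : ∀ i, i < 78177 → P i := stepQ 78176 Q78176 (allL N78176 (tt N81714 (iv1 F351500)) (tt N73333 F351471) (tt N80978 F351467) (tt N44399 F246530) (tt N78201 (iv4 F247023)) (tt N80976 (iv5 F351468)) (tt N44397 (iv6 D156725)) (tt N62429 (iv7 F351498)))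
theorem Q78178 : ∀ i, i < 78178 → P i := stepQ 78177 Q78177 (allL N78177 (tt N73386 (iv1 F348299)) (tt N73353 (iv0 F338220)) (tt N72274 F246531) (tt N47410 F348303) (tt N73704 F348300) (tt N44398 (iv5 D156726)) (tt N73714 (iv6 F348302)) (tt N72275 F246532))
theorem Q78179 : ∀ i, i < 78179 → P i := stepQ 78178 Q78178 (allL N78178 (tt N73345 (iv1 F361577)) (tt N73344 (iv0 F351502)) (tt N71667 (iv2 F361534)) (tt N96267 (iv3 F411807)) (tt N44399 F246534) (tt N71666 F361591) (tt N44398 (iv6 D156727)) (tt N62431 (iv7 F361538)))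
theorem Q78180 : ∀ i, i < 78180 → P i := stepQ 78179 Q78179 (allL N78179 (tt N66276 F246603) (tt N71532 F246604) (tt N71223 F246601) (tt N66581 (iv3 F366458)) (tt N71526 (iv4 F246605)) (tt N44400 (iv5 D156767)) (tt N108800 (iv6 F464006)) (tt N71220 F246602))
theorem Q78181 : ∀ i, i < 78181 → P i := stepQ 78180 Q78180 (allL N78180 (tt N44401 (iv1 D156773)) (tt N44403 F246671) (tt N65371 (iv2 F313645)) (tt N65479 (iv3 F246675)) (tt N65367 (iv4 F312157)) (tt N97582 (iv5 F417459)) (tt N110198 (iv6 F470391)) (tt N65485 F246672))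
theorem Q78182 : ∀ i, i < 78182 → P i := stepQ 78181 Q78181 (allL N78181 (tt N57769 F246678) (tt N57765 (iv0 F246679)) (tt N93422 (iv2 F400684)) (tt N44401 (iv3 D156774)) (tt N72288 F246676) (tt N47292 F333020) (tt N81739 (iv6 F333032)) (tt N72334 F246677))
theorem Q78183 : ∀ i, i < 78183 → P i := stepQ 78182 Q78182 (allL N78182 (tt N57672 F246692) (tt N57587 F246691) (tt N57677 F246689) (tt N93421 (iv3 F400681)) (tt N44402 (iv4 D156780)) (tt N94182 (iv5 F403587)) (tt N62450 (iv6 F366082)) (tt N57676 F246690))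
theorem Q78184 : ∀ i, i < 78184 → P i := stepQ 78183 Q78183 (allL N78183 (tt N73750 (iv1 F322203)) (tt N57152 (iv0 F318310)) (tt N47730 F319898) (tt N79181 F351464) (tt N47678 F319899) (tt N101648 (iv5 F433685)) (tt N44405 (iv6 D156794)) (tt N47727 F319900))
theorem Q78185 : ∀ i, i < 78185 → P i := stepQ 78184 Q78184 (allL N78184 (tt N95918 (iv1 F410259)) (tt N95920 (iv0 F410266)) (tt N109904 (iv2 F469144)) (tt N44406 (iv3 D156795)) (tt N78174 F246725) (tt N80009 (iv5 F338230)) (tt N57072 F361558) (tt N72341 F246726))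
theorem Q78186 : ∀ i, i < 78186 → P i := stepQ 78185 Q78185 (allL N78185 (tt N44407 (iv1 D156798)) (tt N58150 (iv0 F348810)) (tt N58356 (iv2 F343561)) (tt N90459 (iv3 F389727)) (tt N67988 (iv4 F246738)) (tt N57647 F246736) (tt N110904 D214146) (tt N67986 F246735))
theorem Q78187 : ∀ i, i < 78187 → P i := stepQ 78186 Q78186 (allL N78186 (tt N67426 F246742) (tt N67435 F246743) (tt N67394 F246739) (tt N60582 F348762) (tt N44407 (iv4 D156799)) (tt N68934 F246740) (tt N60579 (iv6 F348763)) (tt N67432 F246741))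
theorem Q78188 : ∀ i, i < 78188 → P i := stepQ 78187 Q78187 (allL N78187 (tt N93886 (iv1 F402282)) (tt N108919 F464483) (tt N96461 (iv2 F412622)) (tt N56855 F246745) (tt N110905 D214147) (tt N44408 (iv5 D156803)) (tt N96317 F412000) (tt N100133 (iv7 F427620)))
theorem Q78189 : ∀ i, i < 78189 → P i := stepQ 78188 Q78188 (allL N78188 (tt N80470 (iv1 F366429)) (tt N87001 F378012) (tt N84203 F368501) (tt N110906 D214148) (tt N44409 (iv4 D156826)) (tt N90957 (iv5 F391367)) (tt N86998 (iv6 F377999)) (tt N52269 F366428))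
theorem Q78190 : ∀ i, i < 78190 → P i := stepQ 78189 Q78189 (allL N78189 (tt N79399 (iv1 F350916)) (tt N102258 (iv0 F436415)) (tt N110907 D214149) (tt N44410 (iv3 D156836)) (tt N110906 (iv4 F473720)) (tt N46407 F321813) (tt N103012 (iv6 F439665)) (tt N64229 F321814))
theorem Q78191 : ∀ i, i < 78191 → P i := stepQ 78190 Q78190 (allL N78190 (tt N60144 F246814) (tt N89922 (iv0 F388006)) (tt N96220 (iv2 F411566)) (tt N44411 (iv3 D156840)) (tt N72247 F246812) (tt N110908 D214150) (tt N62474 (iv6 F366290)) (tt N72311 F246813))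
theorem Q78192 : ∀ i, i < 78192 → P i := stepQ 78191 Q78191 (allL N78191 (tt N82124 F316041) (tt N82122 F316042) (tt N48090 (iv2 F316689)) (tt N110908 (iv3 F473734)) (tt N110909 D214151) (tt N44411 (iv5 D156841)) (tt N110910 D214152) (tt N72312 F246816))
theorem Q78193 : ∀ i, i < 78193 → P i := stepQ 78192 Q78192 (allL N78192 (tt N97290 (iv1 F416242)) (tt N97305 F416305) (tt N71201 (iv2 F246878)) (tt N44413 (iv3 D156869)) (tt N70841 F246876) (tt N110911 D214153) (tt N62486 F359928) (tt N71202 F246877))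
theorem Q78194 : ∀ i, i < 78194 → P i := stepQ 78193 Q78193 (allL N78193 (tt N82121 (iv1 F340432)) (tt N44470 (iv0 F246881)) (tt N72320 F246879) (tt N110911 (iv3 F473747)) (tt N110912 D214154) (tt N44413 (iv5 D156870)) (tt N110913 D214155) (tt N72317 F246880))
theorem Q78195 : ∀ i, i < 78195 → P i := stepQ 78194 Q78194 (allL N78194 (tt N62562 (iv1 F347189)) (tt N73639 F359927) (tt N72318 F246889) (tt N74020 (iv3 F340027)) (tt N78150 F246890) (tt N74019 F340025) (tt N44414 (iv6 D156874)) (tt N62488 (iv7 F346679)))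
theorem Q78196 : ∀ i, i < 78196 → P i := stepQ 78195 Q78195 (allL N78195 (tt N72315 (iv1 F246892)) (tt N44415 (iv0 D156875)) (tt N72322 (iv2 F246894)) (tt N51566 (iv3 F353351)) (tt N110914 D214156) (tt N57636 F246891) (tt N51565 F353359) (tt N72321 (iv7 F246895)))
theorem Q78197 : ∀ i, i < 78197 → P i := stepQ 78196 Q78196 (allL N78196 (tt N44415 (iv1 D156876)) (tt N72315 F246896) (tt N72321 (iv2 F246898)) (tt N87564 (iv3 F404372)) (tt N110915 D214157) (tt N57637 (iv5 F246899)) (tt N96734 F413664) (tt N72322 F246897))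
theorem Q78198 : ∀ i, i < 78198 → P i := stepQ 78197 Q78197 (allL N78197 (tt N101814 (iv1 F434472)) (tt N101818 (iv0 F434494)) (tt N109805 (iv2 F468703)) (tt N55571 (iv3 F340338)) (tt N44415 (iv4 D156877)) (tt N55569 (iv5 F352047)) (tt N110916 D214158) (tt N72323 F246902))
theorem Q78199 : ∀ i, i < 78199 → P i := stepQ 78198 Q78198 (allL N78198 (tt N52492 (iv1 F335371)) (tt N52626 (iv0 F335369)) (tt N49206 F295134) (tt N52662 F295135) (tt N110916 (iv4 F473772)) (tt N49205 F295136) (tt N44415 (iv6 D156878)) (tt N52655 F335372))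
theorem Q78200 : ∀ i, i < 78200 → P i := stepQ 78199 Q78199 (allL N78199 (tt N48029 (iv1 F318412)) (tt N48028 F316167) (tt N44421 F246972) (tt N105984 (iv3 F452621)) (tt N47426 F316168) (tt N44417 (iv5 D156924)) (tt N89489 (iv6 F386633)) (tt N44424 F246973))
theorem Q78201 : ∀ i, i < 78201 → P i := stepQ 78200 Q78200 (allL N78200 (tt N82078 F318054) (tt N82081 F318055) (tt N48022 F318056) (tt N78125 F247018) (tt N78127 F247019) (tt N44418 (iv5 D156949)) (tt N98926 (iv6 F422804)) (tt N48020 F318057))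
theorem Q78202 : ∀ i, i < 78202 → P i := stepQ 78201 Q78201 (allL N78201 (tt N61934 (iv1 F351562)) (tt N62549 F351521) (tt N48023 F318058) (tt N82108 F366469) (tt N78176 F247023) (tt N99066 (iv5 F423213)) (tt N44418 (iv6 D156950)) (tt N62502 F351499))
theorem Q78203 : ∀ i, i < 78203 → P i := stepQ 78202 Q78202 (allL N78202 (tt N44420 (iv1 D156952)) (tt N48026 F320434) (tt N48024 F320572) (tt N106231 (iv3 F453680)) (tt N77978 (iv4 F247024)) (tt N103975 (iv5 F443613)) (tt N61981 F351555) (tt N48025 F320573))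
theorem Q78204 : ∀ i, i < 78204 → P i := stepQ 78203 Q78203 (allL N78203 (tt N48025 F320435) (tt N48024 F320436) (tt N44420 (iv2 D156953)) (tt N71560 F247026) (tt N48113 F320437) (tt N77919 (iv5 F247036)) (tt N110917 D214159) (tt N48026 F320438))
theorem Q78205 : ∀ i, i < 78205 → P i := stepQ 78204 Q78204 (allL N78204 (tt N106684 F455278) (tt N110918 D214160) (tt N110917 (iv2 F473777)) (tt N44422 F247027) (tt N48127 F320440) (tt N110919 D214161) (tt N44420 (iv6 D156954)) (tt N77756 F320441))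
theorem Q78206 : ∀ i, i < 78206 → P i := stepQ 78205 Q78205 (allL N78205 (tt N44421 (iv1 D156957)) (tt N44424 F247051) (tt N48028 F317222) (tt N77816 (iv3 F247055)) (tt N59246 (iv4 F247056)) (tt N77891 F247053) (tt N110920 D214162) (tt N48029 (iv7 F318413)))
theorem Q78207 : ∀ i, i < 78207 → P i := stepQ 78206 Q78206 (allL N78206 (tt N77962 F349775) (tt N77959 F247058) (tt N47426 F320442) (tt N97299 (iv3 F416279)) (tt N44421 (iv4 D156958)) (tt N47370 F320443) (tt N85336 F372280) (tt N48030 F320444))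
theorem Q78208 : ∀ i, i < 78208 → P i := stepQ 78207 Q78207 (allL N78207 (tt N63679 F372285) (tt N90183 (iv0 F388814)) (tt N89489 (iv2 F386632)) (tt N91256 (iv3 F392426)) (tt N85336 (iv4 F372284)) (tt N110921 D214163) (tt N44421 (iv6 D156959)) (tt N89491 (iv7 F386640)))
theorem Q78209 : ∀ i, i < 78209 → P i := stepQ 78208 Q78208 (allL N78208 (tt N109959 (iv1 F469378)) (tt N109958 F469377) (tt N109961 (iv2 F469387)) (tt N110919 (iv3 F473790)) (tt N110922 D214164) (tt N44422 (iv5 D156963)) (tt N110921 (iv6 F473800)) (tt N99965 (iv7 F426989)))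
theorem Q78210 : ∀ i, i < 78210 → P i := stepQ 78209 Q78209 (allL N78209 (tt N77959 F247119) (tt N77962 F247120) (tt N48030 F320448) (tt N72243 F247118) (tt N44424 (iv4 D157008)) (tt N47427 F320449) (tt N110923 D214165) (tt N47426 F320450))
theorem Q78211 : ∀ i, i < 78211 → P i := stepQ 78210 Q78210 (allL N78210 (tt N110924 D214166) (tt N110925 D214167) (tt N48031 F320451) (tt N105983 (iv3 F452618)) (tt N110923 (iv4 F473808)) (tt N100286 (iv5 F428263)) (tt N44424 (iv6 D157009)) (tt N110926 D214168))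
theorem Q78212 : ∀ i, i < 78212 → P i := stepQ 78211 Q78211 (allL N78211 (tt N47993 F316070) (tt N47946 F316071) (tt N44431 F247127) (tt N82142 F336908) (tt N47423 F316072) (tt N44425 (iv5 D157035)) (tt N82140 (iv6 F336910)) (tt N100369 (iv7 F428631)))
theorem Q78213 : ∀ i, i < 78213 → P i := stepQ 78212 Q78212 (allL N78212 (tt N82056 F315968) (tt N82053 F315969) (tt N44432 F247128) (tt N70558 F247129) (tt N44426 F247130) (tt N82141 (iv5 F348491)) (tt N44425 (iv6 D157036)) (tt N70555 F247131))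
theorem Q78214 : ∀ i, i < 78214 → P i := stepQ 78213 Q78213 (allL N78213 (tt N44831 F348453) (tt N80336 (iv0 F348433)) (tt N80335 F316073) (tt N44429 (iv3 D157069)) (tt N75844 F247160) (tt N69798 F247168) (tt N102396 (iv6 F437051)) (tt N46890 F316074))
theorem Q78215 : ∀ i, i < 78215 → P i := stepQ 78214 Q78214 (allL N78214 (tt N68019 (iv1 F247164)) (tt N72191 F247163) (tt N57686 F247161) (tt N94169 (iv3 F403511)) (tt N44429 (iv4 D157070)) (tt N72187 F247162) (tt N77601 (iv6 F366675)) (tt N66823 (iv7 F332249)))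
theorem Q78216 : ∀ i, i < 78216 → P i := stepQ 78215 Q78215 (allL N78215 (tt N100369 (iv1 F428630)) (tt N44431 (iv0 D157076)) (tt N47993 F349776) (tt N47579 F349777) (tt N59294 F349778) (tt N47577 F349779) (tt N97090 F415443) (tt N47946 F349780))
theorem Q78217 : ∀ i, i < 78217 → P i := stepQ 78216 Q78216 (allL N78216 (tt N47427 F342235) (tt N47370 F342236) (tt N47423 F342237) (tt N83889 (iv3 F367400)) (tt N44431 (iv4 D157078)) (tt N96181 (iv5 F411369)) (tt N110927 D214169) (tt N47424 F342238))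
theorem Q78218 : ∀ i, i < 78218 → P i := stepQ 78217 Q78217 (allL N78217 (tt N69895 F352310) (tt N97095 (iv0 F415467)) (tt N82140 (iv2 F361292)) (tt N97417 (iv3 F416804)) (tt N110927 (iv4 F473826)) (tt N82139 F361291) (tt N44431 (iv6 D157079)) (tt N101831 (iv7 F434561)))
theorem Q78219 : ∀ i, i < 78219 → P i := stepQ 78218 Q78218 (allL N78218 (tt N47967 F353055) (tt N47970 F353056) (tt N82141 F348493) (tt N97418 (iv3 F416810)) (tt N58103 (iv4 F352230)) (tt N44432 (iv5 D157082)) (tt N82139 (iv6 F361289)) (tt N100370 (iv7 F428641)))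
theorem Q78220 : ∀ i, i < 78220 → P i := stepQ 78219 Q78219 (allL N78219 (tt N100282 (iv1 F428243)) (tt N100281 F428239) (tt N77578 (iv2 F359312)) (tt N94073 F403079) (tt N44433 (iv4 D157091)) (tt N63579 F359309) (tt N99954 (iv6 F426936)) (tt N81277 F359311))
theorem Q78221 : ∀ i, i < 78221 → P i := stepQ 78220 Q78220 (allL N78220 (tt N62502 (iv1 F351522)) (tt N48023 F351452) (tt N61934 F351453) (tt N110022 (iv3 F469588)) (tt N44434 (iv4 D157096)) (tt N58811 F351454) (tt N61770 F351455) (tt N62549 (iv7 F351569)))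
theorem Q78222 : ∀ i, i < 78222 → P i := stepQ 78221 Q78221 (allL N78221 (tt N62689 F348129) (tt N62444 F316176) (tt N61943 F359943) (tt N48107 F316177) (tt N61770 (iv4 F359942)) (tt N65863 (iv5 F348130)) (tt N44434 (iv6 D157098)) (tt N73198 F348135))
theorem Q78223 : ∀ i, i < 78223 → P i := stepQ 78222 Q78222 (allL N78222 (tt N48023 F351566) (tt N62502 F351567) (tt N62549 F351568) (tt N108131 F461244) (tt N44435 (iv4 D157101)) (tt N61935 (iv5 F351565)) (tt N100460 (iv6 F429059)) (tt N61934 F351564))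
theorem Q78224 : ∀ i, i < 78224 → P i := stepQ 78223 Q78223 (allL N78223 (tt N94416 (iv1 F404394)) (tt N44440 (iv0 D157148)) (tt N94415 (iv2 F404381)) (tt N107120 F457071) (tt N81108 F359162) (tt N101964 (iv5 F435108)) (tt N74572 (iv6 F359164)) (tt N94414 (iv7 F404385)))
theorem Q78225 : ∀ i, i < 78225 → P i := stepQ 78224 Q78224 (allL N78224 (tt N44440 (iv1 D157149)) (tt N94416 F404395) (tt N94414 F404387) (tt N82408 F404389) (tt N98303 (iv4 F420422)) (tt N82406 (iv5 F404388)) (tt N110928 D214170) (tt N94415 F404386))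
theorem Q78226 : ∀ i, i < 78226 → P i := stepQ 78225 Q78225 (allL N78225 (tt N94415 (iv1 F404383)) (tt N94414 F404379) (tt N44440 (iv2 D157150)) (tt N94419 (iv3 F404408)) (tt N81455 (iv4 F345583)) (tt N108671 (iv5 F463479)) (tt N110929 D214171) (tt N94416 (iv7 F404393)))
theorem Q78227 : ∀ i, i < 78227 → P i := stepQ 78226 Q78226 (allL N78226 (tt N110930 D214172) (tt N89503 (iv0 F417954)) (tt N110929 (iv2 F473835)) (tt N44441 F247325) (tt N97698 F417951) (tt N93735 (iv5 F401714)) (tt N44440 (iv6 D157151)) (tt N74614 F247326))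
theorem Q78228 : ∀ i, i < 78228 → P i := stepQ 78227 Q78227 (allL N78227 (tt N94419 (iv1 F404411)) (tt N44442 (iv0 D157152)) (tt N94418 (iv2 F404405)) (tt N90323 (iv3 F389352)) (tt N90330 (iv4 F389353)) (tt N56874 (iv5 F358644)) (tt N90321 F389351) (tt N94417 F404399))
theorem Q78229 : ∀ i, i < 78229 → P i := stepQ 78228 Q78228 (allL N78228 (tt N44442 (iv1 D157153)) (tt N94419 F404412) (tt N94417 F404400) (tt N95282 F407710) (tt N110835 (iv4 F473368)) (tt N56875 (iv5 F342035)) (tt N110931 D214173) (tt N94418 (iv7 F404402)))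
theorem Q78230 : ∀ i, i < 78230 → P i := stepQ 78229 Q78229 (allL N78229 (tt N94418 (iv1 F404406)) (tt N94417 F404398) (tt N44442 (iv2 D157154)) (tt N94416 (iv3 F404390)) (tt N72199 F247327) (tt N93455 (iv5 F400783)) (tt N74620 F247328) (tt N94419 (iv7 F404410)))
theorem Q78231 : ∀ i, i < 78231 → P i := stepQ 78230 Q78230 (allL N78230 (tt N109258 (iv1 F466041)) (tt N99993 F427097) (tt N94422 (iv2 F404419)) (tt N95284 (iv3 F407714)) (tt N67061 (iv4 F361195)) (tt N93733 (iv5 F401710)) (tt N44443 (iv6 D157155)) (tt N74608 F348820))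
theorem Q78232 : ∀ i, i < 78232 → P i := stepQ 78231 Q78231 (allL N78231 (tt N107118 (iv1 F457062)) (tt N107120 (iv0 F457069)) (tt N95289 (iv2 F407743)) (tt N44444 (iv3 D157156)) (tt N78123 F247329) (tt N95112 (iv5 F407100)) (tt N74609 F362454) (tt N94421 (iv7 F404418)))
theorem Q78233 : ∀ i, i < 78233 → P i := stepQ 78232 Q78232 (allL N78232 (tt N76883 (iv1 F361913)) (tt N44447 (iv0 D157160)) (tt N66874 (iv2 F361909)) (tt N110932 D214174) (tt N66733 F361911) (tt N108310 (iv5 F462007)) (tt N57196 F361912) (tt N76884 (iv7 F361910)))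
theorem Q78234 : ∀ i, i < 78234 → P i := stepQ 78233 Q78233 (allL N78233 (tt N44447 (iv1 D157161)) (tt N76883 F361904) (tt N76884 F361905) (tt N106774 (iv3 F455625)) (tt N46452 F361906) (tt N108309 (iv5 F461999)) (tt N46458 F361907) (tt N66874 F361908))
theorem Q78235 : ∀ i, i < 78235 → P i := stepQ 78234 Q78234 (allL N78234 (tt N73763 (iv1 F361915)) (tt N73766 (iv0 F359209)) (tt N77087 F366687) (tt N44451 F247334) (tt N110933 D214175) (tt N44447 (iv5 D157162)) (tt N96470 (iv6 F412655)) (tt N76885 F366543))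
theorem Q78236 : ∀ i, i < 78236 → P i := stepQ 78235 Q78235 (allL N78235 (tt N96014 (iv1 F410640)) (tt N44448 (iv0 D157164)) (tt N96011 (iv2 F410625)) (tt N82402 F410626) (tt N101534 (iv4 F433275)) (tt N110934 D214176) (tt N96453 (iv6 F412585)) (tt N96012 (iv7 F410628)))
theorem Q78237 : ∀ i, i < 78237 → P i := stepQ 78236 Q78236 (allL N78236 (tt N44448 (iv1 D157165)) (tt N96014 F410639) (tt N96012 (iv2 F410630)) (tt N82426 (iv3 F380705)) (tt N82498 F380718) (tt N110935 D214177) (tt N110936 D214178) (tt N96011 F410623))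
theorem Q78238 : ∀ i, i < 78238 → P i := stepQ 78237 Q78237 (allL N78237 (tt N93566 F401161) (tt N61218 (iv0 F363664)) (tt N96013 (iv2 F410632)) (tt N96470 (iv3 F412654)) (tt N61209 (iv4 F350587)) (tt N44448 (iv5 D157166)) (tt N44451 F247338) (tt N103047 (iv7 F439829)))
theorem Q78239 : ∀ i, i < 78239 → P i := stepQ 78238 Q78238 (allL N78238 (tt N96012 (iv1 F410627)) (tt N96011 (iv0 F410624)) (tt N96014 (iv2 F410636)) (tt N96457 (iv3 F412596)) (tt N93473 (iv4 F400827)) (tt N103047 (iv5 F439830)) (tt N94426 (iv6 F404434)) (tt N44448 (iv7 D157167)))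
theorem Q78240 : ∀ i, i < 78240 → P i := stepQ 78239 Q78239 (allL N78239 (tt N110937 D214179) (tt N110928 (iv0 F473834)) (tt N110938 D214180) (tt N44449 (iv3 D157168)) (tt N101198 F432154) (tt N85152 (iv5 F371758)) (tt N56930 F247339) (tt N96016 (iv7 F410647)))
theorem Q78241 : ∀ i, i < 78241 → P i := stepQ 78240 Q78240 (allL N78240 (tt N90321 F389339) (tt N110939 D214181) (tt N110940 D214182) (tt N44450 (iv3 D157169)) (tt N94508 (iv4 F404761)) (tt N93750 (iv5 F401758)) (tt N110941 D214183) (tt N96015 (iv7 F410644)))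
theorem Q78242 : ∀ i, i < 78242 → P i := stepQ 78241 Q78241 (allL N78241 (tt N59211 F247342) (tt N59210 F247343) (tt N93848 (iv2 F402129)) (tt N110941 (iv3 F473885)) (tt N56812 F247340) (tt N93832 (iv5 F402067)) (tt N44450 (iv6 D157170)) (tt N56935 F247341))
theorem Q78243 : ∀ i, i < 78243 → P i := stepQ 78242 Q78242 (allL N78242 (tt N61188 F350577) (tt N93717 (iv0 F401655)) (tt N78845 F350582) (tt N110942 D214184) (tt N44451 (iv4 D157171)) (tt N55209 (iv5 F350576)) (tt N61209 F350578) (tt N78842 (iv7 F350581)))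
theorem Q78244 : ∀ i, i < 78244 → P i := stepQ 78243 Q78243 (allL N78243 (tt N57069 (iv1 F247345)) (tt N57062 F247346) (tt N96017 (iv2 F410648)) (tt N76885 (iv3 F366542)) (tt N78842 F350562) (tt N44452 F247344) (tt N110943 D214185) (tt N44451 (iv7 D157172)))
theorem Q78245 : ∀ i, i < 78245 → P i := stepQ 78244 Q78244 (allL N78244 (tt N110944 D214186) (tt N91571 (iv0 F406875)) (tt N110945 D214187) (tt N44454 (iv3 D157173)) (tt N96187 (iv4 F411395)) (tt N103043 (iv5 F439809)) (tt N57201 F247347) (tt N93387 (iv7 F400610)))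
theorem Q78246 : ∀ i, i < 78246 → P i := stepQ 78245 Q78245 (allL N78245 (tt N74553 F247356) (tt N74369 F247357) (tt N77253 (iv2 F365573)) (tt N44457 F247352) (tt N72136 F247353) (tt N57203 F247354) (tt N44455 (iv6 D157175)) (tt N57203 F247355))
theorem Q78247 : ∀ i, i < 78247 → P i := stepQ 78246 Q78246 (allL N78246 (tt N90901 F391215) (tt N77088 (iv0 F361914)) (tt N90170 (iv2 F388766)) (tt N44456 (iv3 D157176)) (tt N48966 F363854) (tt N110946 D214188) (tt N110947 D214189) (tt N90285 (iv7 F389234)))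
theorem Q78248 : ∀ i, i < 78248 → P i := stepQ 78247 Q78247 (allL N78247 (tt N57060 F247360) (tt N56385 F247361) (tt N57058 F247358) (tt N110946 (iv3 F473907)) (tt N61197 (iv4 F350592)) (tt N44456 (iv5 D157177)) (tt N94747 (iv6 F405797)) (tt N57059 F247359))
theorem Q78249 : ∀ i, i < 78249 → P i := stepQ 78248 Q78248 (allL N78248 (tt N57173 F247364) (tt N57165 (iv0 F247366)) (tt N93388 (iv2 F400611)) (tt N110947 (iv3 F473913)) (tt N44457 F247362) (tt N94748 (iv5 F405802)) (tt N44456 (iv6 D157178)) (tt N57206 F247363))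
theorem Q78250 : ∀ i, i < 78250 → P i := stepQ 78249 Q78249 (allL N78249 (tt N44458 (iv1 D157182)) (tt N44461 F247372) (tt N48149 F314351) (tt N67313 F247374) (tt N48148 F314352) (tt N103433 (iv5 F441610)) (tt N76971 F314353) (tt N94430 (iv7 F404445)))
theorem Q78251 : ∀ i, i < 78251 → P i := stepQ 78250 Q78250 (allL N78250 (tt N107151 (iv1 F457209)) (tt N107148 (iv0 F457201)) (tt N93394 (iv2 F400632)) (tt N44458 (iv3 D157183)) (tt N65232 (iv4 F312826)) (tt N103427 (iv5 F441582)) (tt N110948 D214190) (tt N94431 (iv7 F404454)))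
theorem Q78252 : ∀ i, i < 78252 → P i := stepQ 78251 Q78251 (allL N78251 (tt N81731 F366614) (tt N106946 F456399) (tt N94435 (iv2 F404471)) (tt N110948 (iv3 F473919)) (tt N44459 F247377) (tt N110949 D214191) (tt N44458 (iv6 D157184)) (tt N74705 F366242))
theorem Q78253 : ∀ i, i < 78253 → P i := stepQ 78252 Q78252 (allL N78252 (tt N48217 (iv1 F315127)) (tt N48219 (iv0 F315131)) (tt N65245 F314337) (tt N93393 (iv3 F400631)) (tt N44460 (iv4 D157191)) (tt N94190 (iv5 F403629)) (tt N74709 (iv6 F366370)) (tt N94262 (iv7 F403881)))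
theorem Q78254 : ∀ i, i < 78254 → P i := stepQ 78253 Q78253 (allL N78253 (tt N57042 F247404) (tt N92490 F397146) (tt N92489 F397142) (tt N63155 F366502) (tt N106449 (iv4 F454501)) (tt N44462 (iv5 D157218)) (tt N106448 F454497) (tt N92488 F397138))
theorem Q78255 : ∀ i, i < 78255 → P i := stepQ 78254 Q78254 (allL N78254 (tt N57343 F247408) (tt N57342 (iv0 F247409)) (tt N57344 F247405) (tt N66945 (iv3 F339301)) (tt N44463 (iv4 D157219)) (tt N66935 (iv5 F345596)) (tt N57355 F247406) (tt N55956 F247407))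
theorem Q78256 : ∀ i, i < 78256 → P i := stepQ 78255 Q78255 (allL N78255 (tt N53420 (iv1 F362571)) (tt N54550 F362572) (tt N54520 (iv2 F329279)) (tt N44467 (iv3 D157225)) (tt N53412 (iv4 F329278)) (tt N86878 (iv5 F377557)) (tt N71650 (iv6 F352810)) (tt N54518 (iv7 F329276)))
theorem Q78257 : ∀ i, i < 78257 → P i := stepQ 78256 Q78256 (allL N78256 (tt N59871 (iv1 F352806)) (tt N59877 F352805) (tt N62658 F352802) (tt N71650 F352807) (tt N82578 (iv4 F352803)) (tt N59792 (iv5 F346909)) (tt N44467 (iv6 D157226)) (tt N62657 (iv7 F352804)))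
theorem Q78258 : ∀ i, i < 78258 → P i := stepQ 78257 Q78257 (allL N78257 (tt N107159 (iv1 F457249)) (tt N54562 F404163) (tt N106108 (iv2 F453149)) (tt N44468 (iv3 D157227)) (tt N78084 F247441) (tt N107234 (iv5 F457575)) (tt N95351 F407968) (tt N94412 (iv7 F404368)))
theorem Q78259 : ∀ i, i < 78259 → P i := stepQ 78258 Q78258 (allL N78258 (tt N82131 F363387) (tt N82132 (iv0 F378307)) (tt N94411 (iv2 F404360)) (tt N95351 (iv3 F407964)) (tt N78083 F247442) (tt N95040 (iv5 F406772)) (tt N44468 (iv6 D157228)) (tt N96095 (iv7 F411025)))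
theorem Q78260 : ∀ i, i < 78260 → P i := stepQ 78259 Q78259 (allL N78259 (tt N72320 (iv1 F247445)) (tt N72317 F247444) (tt N44470 F247443) (tt N88217 (iv3 F382216)) (tt N104410 (iv4 F445644)) (tt N44469 (iv5 D157229)) (tt N110950 D214192) (tt N82121 (iv7 F340431)))
theorem Q78261 : ∀ i, i < 78261 → P i := stepQ 78260 Q78260 (allL N78260 (tt N74165 F341114) (tt N62652 F341115) (tt N44471 F247446) (tt N91566 (iv3 F393675)) (tt N44478 F247447) (tt N110951 D214193) (tt N44469 (iv6 D157230)) (tt N74163 (iv7 F340801)))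
theorem Q78262 : ∀ i, i < 78262 → P i := stepQ 78261 Q78261 (allL N78261 (tt N110909 (iv1 F473740)) (tt N101822 (iv0 F434516)) (tt N104410 (iv2 F445643)) (tt N60187 F247448) (tt N44470 (iv4 D157231)) (tt N79856 F356892) (tt N47653 F356893) (tt N93154 (iv7 F399694)))
theorem Q78263 : ∀ i, i < 78263 → P i := stepQ 78262 Q78262 (allL N78262 (tt N88267 F382412) (tt N110952 D214194) (tt N110950 (iv2 F473927)) (tt N44472 F247449) (tt N47653 F356904) (tt N110953 D214195) (tt N44470 (iv6 D157232)) (tt N110954 D214196))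
theorem Q78264 : ∀ i, i < 78264 → P i := stepQ 78263 Q78263 (allL N78263 (tt N74163 (iv1 F340805)) (tt N44471 (iv0 D157233)) (tt N74165 (iv2 F340802)) (tt N54539 F365375) (tt N107170 (iv4 F457311)) (tt N110955 D214197) (tt N74159 (iv6 F340804)) (tt N62652 F340803))
theorem Q78265 : ∀ i, i < 78265 → P i := stepQ 78264 Q78264 (allL N78264 (tt N110956 D214198) (tt N109662 (iv0 F467986)) (tt N110951 (iv2 F473932)) (tt N44474 F247450) (tt N108222 (iv4 F461553)) (tt N44471 (iv5 D157235)) (tt N110953 (iv6 F473943)) (tt N110957 D214199))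
theorem Q78266 : ∀ i, i < 78266 → P i := stepQ 78265 Q78265 (allL N78265 (tt N62652 (iv1 F341117)) (tt N74165 F341116) (tt N74163 F340806) (tt N44475 F247451) (tt N44481 F247452) (tt N110957 (iv5 F473965)) (tt N53424 F346759) (tt N44471 (iv7 D157236)))
theorem Q78267 : ∀ i, i < 78267 → P i := stepQ 78266 Q78266 (allL N78266 (tt N110958 D214200) (tt N110959 D214201) (tt N97218 (iv2 F415943)) (tt N110953 (iv3 F473942)) (tt N110960 D214202) (tt N44472 (iv5 D157239)) (tt N44474 F247453) (tt N110961 D214203))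
theorem Q78268 : ∀ i, i < 78268 → P i := stepQ 78267 Q78267 (allL N78267 (tt N97174 F415760) (tt N86573 (iv0 F382228)) (tt N88221 (iv2 F382233)) (tt N110954 (iv3 F473947)) (tt N60191 F247454) (tt N110961 (iv5 F473977)) (tt N88219 F382227) (tt N44472 (iv7 D157240)))
theorem Q78269 : ∀ i, i < 78269 → P i := stepQ 78268 Q78268 (allL N78268 (tt N110962 D214204) (tt N103960 (iv0 F443535)) (tt N110963 D214205) (tt N44473 (iv3 D157241)) (tt N94269 (iv4 F403907)) (tt N110964 D214206) (tt N74129 F247455) (tt N62640 F247456))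
theorem Q78270 : ∀ i, i < 78270 → P i := stepQ 78269 Q78269 (allL N78269 (tt N74154 F247459) (tt N74153 F247460) (tt N69467 F247457) (tt N110964 (iv3 F473989)) (tt N110965 D214207) (tt N44473 (iv5 D157242)) (tt N110966 D214208) (tt N62642 F247458))
theorem Q78271 : ∀ i, i < 78271 → P i := stepQ 78270 Q78270 (allL N78270 (tt N74110 (iv1 F247464)) (tt N44474 (iv0 D157243)) (tt N97219 F415947) (tt N106101 (iv3 F453111)) (tt N110967 D214209) (tt N96075 (iv5 F410926)) (tt N110968 D214210) (tt N87412 F410897))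
theorem Q78272 : ∀ i, i < 78272 → P i := stepQ 78271 Q78271 (allL N78271 (tt N44474 (iv1 D157244)) (tt N74110 F247461) (tt N87412 F410896) (tt N110969 D214211) (tt N97835 (iv4 F418451)) (tt N96068 (iv5 F410894)) (tt N79015 (iv6 F410895)) (tt N97219 (iv7 F415949)))
theorem Q78273 : ∀ i, i < 78273 → P i := stepQ 78272 Q78272 (allL N78272 (tt N104898 (iv1 F447846)) (tt N104901 (iv0 F447855)) (tt N97220 (iv2 F415950)) (tt N110970 D214212) (tt N44474 (iv4 D157245)) (tt N110971 D214213) (tt N110960 (iv6 F473974)) (tt N110972 D214214))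
theorem Q78274 : ∀ i, i < 78274 → P i := stepQ 78273 Q78273 (allL N78273 (tt N87412 (iv1 F381688)) (tt N97219 F415948) (tt N74110 F247462) (tt N110957 (iv3 F473964)) (tt N110972 (iv4 F474025)) (tt N44475 F247463) (tt N110973 D214215) (tt N44474 (iv7 D157246)))
theorem Q78275 : ∀ i, i < 78275 → P i := stepQ 78274 Q78274 (allL N78274 (tt N104867 F447712) (tt N104872 F447739) (tt N68099 F247491) (tt N44476 (iv3 D157259)) (tt N72162 F247492) (tt N110974 D214216) (tt N78644 (iv6 F348120)) (tt N82115 F366284))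
theorem Q78276 : ∀ i, i < 78276 → P i := stepQ 78275 Q78275 (allL N78275 (tt N82126 (iv1 F348103)) (tt N82125 (iv0 F348064)) (tt N65320 (iv2 F348065)) (tt N110974 (iv3 F474029)) (tt N79857 F348067) (tt N44476 (iv5 D157260)) (tt N95554 F408632) (tt N82116 F348066))
theorem Q78277 : ∀ i, i < 78277 → P i := stepQ 78276 Q78276 (allL N78276 (tt N59860 (iv1 F348111)) (tt N59863 (iv0 F348105)) (tt N62691 F359483) (tt N78644 F348117) (tt N44477 F247493) (tt N59753 F348107) (tt N44476 (iv6 D157261)) (tt N62688 (iv7 F348128)))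
theorem Q78278 : ∀ i, i < 78278 → P i := stepQ 78277 Q78277 (allL N78277 (tt N72703 F363472) (tt N65289 (iv0 F363463)) (tt N75670 (iv2 F363465)) (tt N44479 (iv3 D157284)) (tt N72583 F363480) (tt N104154 (iv5 F444450)) (tt N74322 (iv6 F363470)) (tt N62673 (iv7 F363471)))
theorem Q78279 : ∀ i, i < 78279 → P i := stepQ 78278 Q78278 (allL N78278 (tt N74349 F341154) (tt N74348 F341158) (tt N74351 (iv2 F341156)) (tt N110975 D214217) (tt N44479 (iv4 D157285)) (tt N110976 D214218) (tt N74335 (iv6 F341157)) (tt N62678 F341155))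
theorem Q78280 : ∀ i, i < 78280 → P i := stepQ 78279 Q78279 (allL N78279 (tt N67758 F340822) (tt N72707 (iv0 F361620)) (tt N69420 (iv2 F361621)) (tt N104154 (iv3 F444448)) (tt N104797 F447325) (tt N44479 (iv5 D157286)) (tt N69418 F361622) (tt N62679 F361623))
theorem Q78281 : ∀ i, i < 78281 → P i := stepQ 78280 Q78280 (allL N78280 (tt N68430 F247646) (tt N55796 F247647) (tt N51365 (iv2 F334840)) (tt N68392 (iv3 F349250)) (tt N44490 (iv4 D157348)) (tt N75790 (iv5 F312025)) (tt N51363 F349249) (tt N64207 F247645))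
theorem Q78282 : ∀ i, i < 78282 → P i := stepQ 78281 Q78281 (allL N78281 (tt N109754 (iv1 F468462)) (tt N53058 (iv0 F349265)) (tt N51364 (iv2 F334836)) (tt N88077 (iv3 F381703)) (tt N51363 (iv4 F349251)) (tt N79085 (iv5 F252196)) (tt N44490 (iv6 D157349)) (tt N109745 (iv7 F468407)))
theorem Q78283 : ∀ i, i < 78283 → P i := stepQ 78282 Q78282 (allL N78282 (tt N68425 F247666) (tt N56092 F247667) (tt N60165 F247663) (tt N79088 (iv3 F366755)) (tt N44493 (iv4 D157355)) (tt N68576 F247665) (tt N76456 F349279) (tt N64167 F247664))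
theorem Q78284 : ∀ i, i < 78284 → P i := stepQ 78283 Q78283 (allL N78283 (tt N84454 F369357) (tt N86777 (iv0 F377149)) (tt N60166 F247668) (tt N61358 F247669) (tt N76456 F355759) (tt N78956 (iv5 F251549)) (tt N44493 (iv6 D157356)) (tt N88812 (iv7 F384227)))
theorem Q78285 : ∀ i, i < 78285 → P i := stepQ 78284 Q78284 (allL N78284 (tt N57269 (iv1 F316750)) (tt N44494 (iv0 D157357)) (tt N57277 (iv2 F319145)) (tt N60251 (iv3 F396347)) (tt N56091 F247670) (tt N55815 (iv5 F355703)) (tt N110977 D214219) (tt N57276 F340672))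
theorem Q78286 : ∀ i, i < 78286 → P i := stepQ 78285 Q78285 (allL N78285 (tt N44494 (iv1 D157358)) (tt N57269 (iv0 F316749)) (tt N57276 F340671) (tt N110978 D214220) (tt N56090 F247675) (tt N74926 (iv5 F355702)) (tt N83952 (iv6 F367590)) (tt N57277 (iv7 F319147)))
theorem Q78287 : ∀ i, i < 78287 → P i := stepQ 78286 Q78286 (allL N78286 (tt N76424 (iv1 F349259)) (tt N76423 (iv0 F349252)) (tt N76425 (iv2 F349253)) (tt N57285 (iv3 F343664)) (tt N44495 F247679) (tt N74909 (iv5 F349258)) (tt N44494 (iv6 D157361)) (tt N57278 F349256))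
theorem Q78288 : ∀ i, i < 78288 → P i := stepQ 78287 Q78287 (allL N78287 (tt N76422 (iv1 F349263)) (tt N44495 (iv0 D157362)) (tt N104192 (iv2 F444618)) (tt N85797 F398984) (tt N105901 (iv4 F452264)) (tt N74907 (iv5 F398985)) (tt N91217 (iv6 F398986)) (tt N104213 (iv7 F444724)))
theorem Q78289 : ∀ i, i < 78289 → P i := stepQ 78288 Q78288 (allL N78288 (tt N44495 (iv1 D157363)) (tt N76422 F349264) (tt N104213 F444729) (tt N68138 F443583) (tt N105903 (iv4 F452273)) (tt N105833 (iv5 F451933)) (tt N105835 (iv6 F451945)) (tt N104192 (iv7 F444619)))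
theorem Q78290 : ∀ i, i < 78290 → P i := stepQ 78289 Q78289 (allL N78289 (tt N104213 (iv1 F444723)) (tt N104192 (iv0 F444621)) (tt N76422 F349260) (tt N56602 F247680) (tt N57278 (iv4 F349257)) (tt N92170 (iv5 F396075)) (tt N57275 F349261) (tt N44495 (iv7 D157364)))
theorem Q78291 : ∀ i, i < 78291 → P i := stepQ 78290 Q78290 (allL N78290 (tt N44497 (iv1 D157372)) (tt N48503 F312450) (tt N69580 (iv2 F247701)) (tt N63448 (iv3 F247702)) (tt N69640 F247703) (tt N73620 F342589) (tt N73621 (iv6 F342587)) (tt N68399 F247700))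
theorem Q78292 : ∀ i, i < 78292 → P i := stepQ 78291 Q78291 (allL N78291 (tt N68143 F247866) (tt N68141 F247867) (tt N63417 F247864) (tt N104021 (iv3 F443815)) (tt N44499 (iv4 D157391)) (tt N98367 (iv5 F420660)) (tt N84706 (iv6 F370286)) (tt N63418 F247865))
theorem Q78293 : ∀ i, i < 78293 → P i := stepQ 78292 Q78292 (allL N78292 (tt N92975 F398989) (tt N110979 D214221) (tt N78927 (iv2 F364639)) (tt N44500 (iv3 D157392)) (tt N56511 F247868) (tt N92831 (iv5 F398413)) (tt N60993 F364638) (tt N68737 F247869))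
theorem Q78294 : ∀ i, i < 78294 → P i := stepQ 78293 Q78293 (allL N78293 (tt N64845 (iv1 F314240)) (tt N69569 F247872) (tt N94125 (iv2 F403326)) (tt N92831 (iv3 F398411)) (tt N68393 F247870) (tt N44500 (iv5 D157393)) (tt N92830 F398408) (tt N92972 (iv7 F398974)))
theorem Q78295 : ∀ i, i < 78295 → P i := stepQ 78294 Q78294 (allL N78294 (tt N44501 (iv1 D157396)) (tt N101049 F431449) (tt N104133 F444356) (tt N105012 (iv3 F448362)) (tt N110980 D214222) (tt N109071 (iv5 F465218)) (tt N105011 F448360) (tt N99740 F426001))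
theorem Q78296 : ∀ i, i < 78296 → P i := stepQ 78295 Q78295 (allL N78295 (tt N89741 F387383) (tt N101047 F431439) (tt N76679 F247875) (tt N56616 F247876) (tt N101026 (iv4 F431345)) (tt N44501 (iv5 D157397)) (tt N44502 F247877) (tt N101025 F431340))
theorem Q78297 : ∀ i, i < 78297 → P i := stepQ 78296 Q78296 (allL N78296 (tt N104133 (iv1 F444351)) (tt N99740 F426000) (tt N101049 (iv2 F431444)) (tt N56617 F247878) (tt N78929 F364641) (tt N101025 (iv5 F431336)) (tt N92973 (iv6 F398982)) (tt N44501 (iv7 D157398)))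
theorem Q78298 : ∀ i, i < 78298 → P i := stepQ 78297 Q78297 (allL N78297 (tt N60907 F247881) (tt N61334 F247882) (tt N61463 F247879) (tt N101223 (iv3 F432274)) (tt N44502 (iv4 D157399)) (tt N109893 (iv5 F469107)) (tt N101026 (iv6 F431347)) (tt N60738 F247880))
theorem Q78299 : ∀ i, i < 78299 → P i := stepQ 78298 Q78298 (allL N78298 (tt N80941 F354635) (tt N101074 (iv0 F431548)) (tt N46991 F354636) (tt N44503 (iv3 D157400)) (tt N46978 F354637) (tt N110981 D214223) (tt N101882 F434801) (tt N46987 F354638))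
theorem Q78300 : ∀ i, i < 78300 → P i := stepQ 78299 Q78299 (allL N78299 (tt N63456 F247885) (tt N55349 (iv0 F307756)) (tt N53758 (iv2 F357929)) (tt N110981 (iv3 F474067)) (tt N98368 (iv4 F420667)) (tt N44503 (iv5 D157401)) (tt N105921 (iv6 F452357)) (tt N63455 F247884))
theorem Q78301 : ∀ i, i < 78301 → P i := stepQ 78300 Q78300 (allL N78300 (tt N68400 F383466) (tt N68401 F383467) (tt N94124 (iv2 F403320)) (tt N101882 (iv3 F434797)) (tt N94134 (iv4 F403374)) (tt N106854 (iv5 F456006)) (tt N44503 (iv6 D157402)) (tt N109494 (iv7 F467263)))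
theorem Q78302 : ∀ i, i < 78302 → P i := stepQ 78301 Q78301 (allL N78301 (tt N69569 F247888) (tt N64845 (iv0 F314239)) (tt N92972 (iv2 F398971)) (tt N50136 (iv3 F345022)) (tt N44504 (iv4 D157403)) (tt N68370 F247887) (tt N50134 (iv6 F333557)) (tt N94125 (iv7 F403328)))
theorem Q78303 : ∀ i, i < 78303 → P i := stepQ 78302 Q78302 (allL N78302 (tt N76688 (iv1 F406692)) (tt N110982 D214224) (tt N104134 (iv2 F444357)) (tt N101764 (iv3 F434242)) (tt N50134 F364668) (tt N110399 (iv5 F471402)) (tt N44504 (iv6 D157404)) (tt N50451 (iv7 F364669)))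
theorem Q78304 : ∀ i, i < 78304 → P i := stepQ 78303 Q78303 (allL N78303 (tt N64452 (iv1 F315671)) (tt N64629 (iv0 F348263)) (tt N48438 F305576) (tt N49551 F305577) (tt N44505 (iv4 D157409)) (tt N110983 D214225) (tt N46140 F305578) (tt N64627 (iv7 F348255)))
theorem Q78305 : ∀ i, i < 78305 → P i := stepQ 78304 Q78304 (allL N78304 (tt N44507 (iv1 D157411)) (tt N63677 F247895) (tt N63676 (iv2 F247897)) (tt N52356 (iv3 F308545)) (tt N99048 (iv4 F423141)) (tt N80359 F360899) (tt N99047 (iv6 F423138)) (tt N63675 F247896))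
theorem Q78306 : ∀ i, i < 78306 → P i := stepQ 78305 Q78305 (allL N78305 (tt N99241 F423824) (tt N107941 (iv0 F460393)) (tt N63674 F247899) (tt N77956 F366539) (tt N44507 (iv4 D157412)) (tt N110984 D214226) (tt N44509 F247900) (tt N99101 (iv7 F423343)))
theorem Q78307 : ∀ i, i < 78307 → P i := stepQ 78306 Q78306 (allL N78306 (tt N62987 (iv1 F247910)) (tt N44509 (iv0 D157414)) (tt N63670 (iv2 F247909)) (tt N110985 D214227) (tt N76576 F247908) (tt N76612 F247907) (tt N78001 (iv6 F366634)) (tt N63671 F247911))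
theorem Q78308 : ∀ i, i < 78308 → P i := stepQ 78307 Q78307 (allL N78307 (tt N67058 (iv1 F247920)) (tt N46600 F316298) (tt N81699 F341015) (tt N52246 (iv3 F361527)) (tt N44510 (iv4 D157416)) (tt N88196 (iv5 F382123)) (tt N52245 (iv6 F305691)) (tt N56128 F341013))
theorem Q78309 : ∀ i, i < 78309 → P i := stepQ 78308 Q78308 (allL N78308 (tt N44515 (iv1 D157426)) (tt N48426 F338160) (tt N65119 F343999) (tt N99991 (iv3 F427080)) (tt N68265 F247950) (tt N87073 (iv5 F378283)) (tt N77475 (iv6 F247951)) (tt N52353 (iv7 F304898)))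
theorem Q78310 : ∀ i, i < 78310 → P i := stepQ 78309 Q78309 (allL N78309 (tt N65119 F343988) (tt N52353 (iv0 F304896)) (tt N48426 F306719) (tt N61422 (iv3 F309813)) (tt N44518 F247952) (tt N46574 F314849) (tt N48425 F306721) (tt N44515 (iv7 D157427)))
theorem Q78311 : ∀ i, i < 78311 → P i := stepQ 78310 Q78310 (allL N78310 (tt N46600 F316299) (tt N67058 (iv0 F247957)) (tt N56128 (iv2 F341012)) (tt N45592 F309886) (tt N44516 (iv4 D157428)) (tt N62607 F247958) (tt N73340 (iv6 F344020)) (tt N81699 (iv7 F341014)))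
theorem Q78312 : ∀ i, i < 78312 → P i := stepQ 78311 Q78311 (allL N78311 (tt N44517 (iv1 D157429)) (tt N52354 (iv0 F308539)) (tt N67842 (iv2 F314522)) (tt N63776 (iv3 F361611)) (tt N110986 D214228) (tt N68564 (iv5 F247962)) (tt N101789 F434352) (tt N68563 F247961))
theorem Q78313 : ∀ i, i < 78313 → P i := stepQ 78312 Q78312 (allL N78312 (tt N44519 (iv1 D157433)) (tt N48410 F339004) (tt N73944 F339005) (tt N75792 F339006) (tt N79996 F339007) (tt N73743 F339013) (tt N76913 F339015) (tt N75800 F339008))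
theorem Q78314 : ∀ i, i < 78314 → P i := stepQ 78313 Q78313 (allL N78313 (tt N73944 (iv1 F338963)) (tt N75800 F307670) (tt N48410 F307671) (tt N44522 F247973) (tt N47961 F307672) (tt N100396 (iv5 F428786)) (tt N47960 F307673) (tt N44519 (iv7 D157434)))
theorem Q78315 : ∀ i, i < 78315 → P i := stepQ 78314 Q78314 (allL N78314 (tt N68562 (iv1 F247988)) (tt N62589 (iv0 F323830)) (tt N68564 F247983) (tt N44542 F247984) (tt N66856 F247985) (tt N67842 (iv5 F314523)) (tt N44521 (iv6 D157438)) (tt N66853 F247986))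
theorem Q78316 : ∀ i, i < 78316 → P i := stepQ 78315 Q78315 (allL N78315 (tt N80433 (iv1 F351934)) (tt N44523 (iv0 D157439)) (tt N80456 (iv2 F359872)) (tt N68561 F333670) (tt N88999 (iv4 F384743)) (tt N46597 F316292) (tt N68560 F359899) (tt N103057 (iv7 F439884)))
theorem Q78317 : ∀ i, i < 78317 → P i := stepQ 78316 Q78316 (allL N78316 (tt N44523 (iv1 D157440)) (tt N80433 (iv0 F342635)) (tt N103057 F439882) (tt N78725 (iv3 F351941)) (tt N76499 (iv4 F247993)) (tt N46598 F351932) (tt N110987 D214229) (tt N80456 (iv7 F359869)))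
theorem Q78318 : ∀ i, i < 78318 → P i := stepQ 78317 Q78317 (allL N78317 (tt N80456 F351942) (tt N103057 F439883) (tt N44523 (iv2 D157441)) (tt N48462 F307935) (tt N100567 F429495) (tt N48422 F307936) (tt N68524 F247996) (tt N80433 (iv7 F351928)))
theorem Q78319 : ∀ i, i < 78319 → P i := stepQ 78318 Q78318 (allL N78318 (tt N68560 F248072) (tt N89445 (iv0 F386536)) (tt N82951 F335226) (tt N44529 (iv3 D157456)) (tt N53280 (iv4 F335225)) (tt N110988 D214230) (tt N52875 (iv6 F303431)) (tt N66828 F248071))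
theorem Q78320 : ∀ i, i < 78320 → P i := stepQ 78319 Q78319 (allL N78319 (tt N66906 (iv1 F248077)) (tt N62569 (iv0 F318150)) (tt N66890 F248074) (tt N110988 (iv3 F474106)) (tt N54167 (iv4 F366551)) (tt N44529 (iv5 D157457)) (tt N46481 F248075) (tt N63184 F248076))
theorem Q78321 : ∀ i, i < 78321 → P i := stepQ 78320 Q78320 (allL N78320 (tt N72289 (iv1 F344009)) (tt N62342 F344007) (tt N62565 (iv2 F344008)) (tt N110989 D214231) (tt N44530 (iv4 D157460)) (tt N54162 (iv5 F360571)) (tt N80089 F359317) (tt N73479 (iv7 F350159)))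
theorem Q78322 : ∀ i, i < 78322 → P i := stepQ 78321 Q78321 (allL N78321 (tt N68571 F342569) (tt N100655 F429868) (tt N68595 F248087) (tt N72398 F248088) (tt N44534 F248089) (tt N102999 (iv5 F439614)) (tt N44531 (iv6 D157462)) (tt N44532 F248090))
theorem Q78323 : ∀ i, i < 78323 → P i := stepQ 78322 Q78322 (allL N78322 (tt N75227 F248102) (tt N75326 (iv0 F248103)) (tt N52607 F334468) (tt N69412 F248100) (tt N52345 F364479) (tt N44535 (iv5 D157465)) (tt N52343 (iv6 F364478)) (tt N75491 F248101))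
theorem Q78324 : ∀ i, i < 78324 → P i := stepQ 78323 Q78323 (allL N78323 (tt N66853 (iv1 F248110)) (tt N68564 F248111) (tt N68562 F248108) (tt N109769 (iv3 F468524)) (tt N44536 (iv4 D157468)) (tt N62590 (iv5 F324903)) (tt N44536 (iv6 F248114)) (tt N62589 (iv7 F323834)))
theorem Q78325 : ∀ i, i < 78325 → P i := stepQ 78324 Q78324 (allL N78324 (tt N75326 F344003) (tt N75227 (iv0 F248118)) (tt N75491 F248116) (tt N98404 (iv3 F420816)) (tt N52612 (iv4 F364482)) (tt N44536 (iv5 D157469)) (tt N74698 (iv6 F324929)) (tt N52607 F334469))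
theorem Q78326 : ∀ i, i < 78326 → P i := stepQ 78325 Q78325 (allL N78325 (tt N98384 (iv1 F420717)) (tt N89832 (iv0 F405700)) (tt N100318 (iv2 F428407)) (tt N85632 (iv3 F373286)) (tt N100296 (iv4 F428304)) (tt N110990 D214232) (tt N44539 (iv6 D157475)) (tt N85630 (iv7 F373277)))
theorem Q78327 : ∀ i, i < 78327 → P i := stepQ 78326 Q78326 (allL N78326 (tt N89471 F386608) (tt N89012 F386609) (tt N89444 (iv2 F386529)) (tt N48932 F311805) (tt N101190 (iv4 F432109)) (tt N44540 (iv5 D157478)) (tt N110990 (iv6 F474121)) (tt N48922 F311806))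
theorem Q78328 : ∀ i, i < 78328 → P i := stepQ 78327 Q78327 (allL N78327 (tt N80290 (iv1 F345823)) (tt N101017 F431290) (tt N47083 F315009) (tt N44552 (iv3 D157527)) (tt N64550 F315010) (tt N44930 F248237) (tt N72412 F248238) (tt N44945 F248239))
theorem Q78329 : ∀ i, i < 78329 → P i := stepQ 78328 Q78328 (allL N78328 (tt N44554 (iv1 D157550)) (tt N44555 F248273) (tt N74995 F248277) (tt N75326 F248278) (tt N59940 (iv4 F342269)) (tt N63737 (iv5 F308192)) (tt N44593 (iv6 F248276)) (tt N62776 F248274))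
theorem Q78330 : ∀ i, i < 78330 → P i := stepQ 78329 Q78329 (allL N78329 (tt N77070 F351881) (tt N77073 F248315) (tt N100593 (iv2 F429602)) (tt N110991 D214233) (tt N44557 (iv4 D157563)) (tt N91672 (iv5 F432309)) (tt N101229 (iv6 F432306)) (tt N48570 F307555))
theorem Q78331 : ∀ i, i < 78331 → P i := stepQ 78330 Q78330 (allL N78330 (tt N54041 (iv1 F339111)) (tt N44568 F339028) (tt N83832 F351913) (tt N79120 (iv3 F252706)) (tt N48766 F248316) (tt N53342 F348212) (tt N44558 (iv6 D157564)) (tt N57462 F339119))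
theorem Q78332 : ∀ i, i < 78332 → P i := stepQ 78331 Q78331 (allL N78331 (tt N45420 (iv1 F248324)) (tt N44560 (iv0 D157570)) (tt N66912 (iv2 F248325)) (tt N74748 (iv3 F360905)) (tt N46962 F248323) (tt N45641 F248322) (tt N100369 F428635) (tt N66911 (iv7 F248326)))
theorem Q78333 : ∀ i, i < 78333 → P i := stepQ 78332 Q78332 (allL N78332 (tt N44560 (iv1 D157571)) (tt N45420 F248327) (tt N66911 (iv2 F248332)) (tt N52555 (iv3 F248331)) (tt N46970 F248330) (tt N45640 F248329) (tt N101831 F434563) (tt N66912 F248328))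
theorem Q78334 : ∀ i, i < 78334 → P i := stepQ 78333 Q78333 (allL N78333 (tt N62601 F357690) (tt N74760 (iv0 F382019)) (tt N74758 (iv2 F347962)) (tt N44561 F248333) (tt N63892 F248334) (tt N74834 (iv5 F357688)) (tt N44560 (iv6 D157572)) (tt N74759 F353677))
theorem Q78335 : ∀ i, i < 78335 → P i := stepQ 78334 Q78334 (allL N78334 (tt N75769 (iv1 F248340)) (tt N44561 (iv0 D157573)) (tt N73956 F350777) (tt N61286 F359840) (tt N62931 (iv4 F355527)) (tt N75276 (iv5 F350773)) (tt N82748 (iv6 F359841)) (tt N75340 (iv7 F355522)))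
theorem Q78336 : ∀ i, i < 78336 → P i := stepQ 78335 Q78335 (allL N78335 (tt N44561 (iv1 D157574)) (tt N75769 F248335) (tt N75340 F355521) (tt N62553 (iv3 F350727)) (tt N62932 F350726) (tt N75275 F350722) (tt N100485 (iv6 F429118)) (tt N73956 F350779))
theorem Q78337 : ∀ i, i < 78337 → P i := stepQ 78336 Q78336 (allL N78336 (tt N77444 F355530) (tt N74837 (iv0 F354105)) (tt N75768 F248336) (tt N74834 F357686) (tt N62465 (iv4 F355122)) (tt N44561 (iv5 D157575)) (tt N75200 (iv6 F333950)) (tt N78373 F357685))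
theorem Q78338 : ∀ i, i < 78338 → P i := stepQ 78337 Q78337 (allL N78337 (tt N75340 (iv1 F355124)) (tt N73956 (iv0 F350780)) (tt N75769 F248338) (tt N74759 (iv3 F353678)) (tt N44565 F248339) (tt N78373 F353679) (tt N100595 (iv6 F429618)) (tt N44561 (iv7 D157576)))
theorem Q78339 : ∀ i, i < 78339 → P i := stepQ 78338 Q78338 (allL N78338 (tt N77322 (iv1 F353714)) (tt N49114 F313124) (tt N77366 (iv2 F353683)) (tt N83856 F350725) (tt N104571 (iv4 F446333)) (tt N77152 F248344) (tt N44562 (iv6 D157581)) (tt N77363 (iv7 F357260)))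
theorem Q78340 : ∀ i, i < 78340 → P i := stepQ 78339 Q78339 (allL N78339 (tt N105176 F449115) (tt N77296 (iv0 F388922)) (tt N105174 F449110) (tt N108396 (iv3 F462400)) (tt N81044 F429184) (tt N110992 D214234) (tt N44563 (iv6 D157586)) (tt N105175 (iv7 F449111)))
theorem Q78341 : ∀ i, i < 78341 → P i := stepQ 78340 Q78340 (allL N78340 (tt N110049 (iv1 F469732)) (tt N44564 (iv0 D157587)) (tt N110048 F469723) (tt N54404 (iv3 F368239)) (tt N57076 F368238) (tt N84131 F368237) (tt N71646 (iv6 F368240)) (tt N101242 (iv7 F432369)))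
theorem Q78342 : ∀ i, i < 78342 → P i := stepQ 78341 Q78341 (allL N78341 (tt N44564 (iv1 D157588)) (tt N110049 F469731) (tt N101242 (iv2 F432366)) (tt N82575 (iv3 F357692)) (tt N107169 (iv4 F457305)) (tt N84132 (iv5 F368244)) (tt N54208 (iv6 F368248)) (tt N110048 (iv7 F469725)))
theorem Q78343 : ∀ i, i < 78343 → P i := stepQ 78342 Q78342 (allL N78342 (tt N109284 (iv1 F466182)) (tt N109283 (iv0 F466177)) (tt N108985 (iv2 F464771)) (tt N74008 F366308) (tt N44564 (iv4 D157589)) (tt N107934 (iv5 F460356)) (tt N44572 F248346) (tt N110993 D214235))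
theorem Q78344 : ∀ i, i < 78344 → P i := stepQ 78343 Q78343 (allL N78343 (tt N101242 (iv1 F432371)) (tt N110048 F469726) (tt N110049 (iv2 F469727)) (tt N79155 (iv3 F253210)) (tt N110993 (iv4 F474133)) (tt N44565 F248347) (tt N110994 D214236) (tt N44564 (iv7 D157590)))
theorem Q78345 : ∀ i, i < 78345 → P i := stepQ 78344 Q78344 (allL N78344 (tt N93362 (iv1 F400530)) (tt N106933 (iv0 F456338)) (tt N73575 F345684) (tt N102862 (iv3 F438989)) (tt N44567 (iv4 D157596)) (tt N62373 (iv5 F345683)) (tt N57756 (iv6 F351886)) (tt N90252 (iv7 F389120)))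
theorem Q78346 : ∀ i, i < 78346 → P i := stepQ 78345 Q78345 (allL N78345 (tt N101917 F434943) (tt N110633 (iv0 F472518)) (tt N72356 F351892) (tt N70840 (iv3 F359931)) (tt N57756 (iv4 F359932)) (tt N83259 (iv5 F366838)) (tt N44567 (iv6 D157597)) (tt N71200 F359933))
theorem Q78347 : ∀ i, i < 78347 → P i := stepQ 78346 Q78346 (allL N78346 (tt N107650 (iv1 F459078)) (tt N99434 (iv0 F424559)) (tt N90418 (iv2 F389572)) (tt N44570 F248354) (tt N73953 (iv4 F349699)) (tt N73826 (iv5 F349694)) (tt N44568 (iv6 D157603)) (tt N83255 (iv7 F349696)))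
theorem Q78348 : ∀ i, i < 78348 → P i := stepQ 78347 Q78347 (allL N78347 (tt N53342 (iv1 F348215)) (tt N53341 (iv0 F348229)) (tt N53344 F348205) (tt N44571 (iv3 D157610)) (tt N44983 F348206) (tt N53312 (iv5 F306906)) (tt N44982 F348207) (tt N53311 F348208))
theorem Q78349 : ∀ i, i < 78349 → P i := stepQ 78348 Q78348 (allL N78348 (tt N54165 (iv1 F309584)) (tt N54164 F366815) (tt N54168 (iv2 F308453)) (tt N66905 F360584) (tt N44571 (iv4 D157611)) (tt N66905 F248361) (tt N66900 (iv6 F360585)) (tt N54102 F360586))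
theorem Q78350 : ∀ i, i < 78350 → P i := stepQ 78349 Q78349 (allL N78349 (tt N54234 (iv1 F352725)) (tt N54233 (iv0 F357265)) (tt N54169 (iv2 F308454)) (tt N44982 F346614) (tt N66900 F346615) (tt N77157 F248364) (tt N44571 (iv6 D157612)) (tt N54118 (iv7 F352721)))
theorem Q78351 : ∀ i, i < 78351 → P i := stepQ 78350 Q78350 (allL N78350 (tt N54162 F360574) (tt N44572 (iv0 D157613)) (tt N91706 (iv2 F394108)) (tt N79609 (iv3 F342322)) (tt N48714 F310133) (tt N109346 (iv5 F466500)) (tt N48852 F310134) (tt N77438 (iv7 F248366)))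
theorem Q78352 : ∀ i, i < 78352 → P i := stepQ 78351 Q78351 (allL N78351 (tt N77438 (iv1 F248369)) (tt N91706 (iv0 F394113)) (tt N54162 F360572) (tt N62566 F359319) (tt N44573 F248368) (tt N62565 (iv5 F359318)) (tt N110995 D214237) (tt N44572 (iv7 D157616)))
theorem Q78353 : ∀ i, i < 78353 → P i := stepQ 78352 Q78352 (allL N78352 (tt N110996 D214238) (tt N107909 (iv0 F460230)) (tt N54163 F366848) (tt N79165 (iv3 F253234)) (tt N110995 (iv4 F474145)) (tt N51458 F366865) (tt N44573 (iv6 D157617)) (tt N110994 (iv7 F474140)))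
theorem Q78354 : ∀ i, i < 78354 → P i := stepQ 78353 Q78353 (allL N78353 (tt N103606 F442216) (tt N77023 (iv0 F338863)) (tt N76529 F338861) (tt N44574 (iv3 D157618)) (tt N44575 F248370) (tt N90504 (iv5 F389865)) (tt N76527 (iv6 F338862)) (tt N76116 F248371))
theorem Q78355 : ∀ i, i < 78355 → P i := stepQ 78354 Q78354 (allL N78354 (tt N76028 F248374) (tt N79772 (iv0 F344879)) (tt N76115 F248372) (tt N90504 F389869) (tt N80223 (iv4 F330162)) (tt N44574 (iv5 D157619)) (tt N87782 (iv6 F380485)) (tt N76117 F248373))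
theorem Q78356 : ∀ i, i < 78356 → P i := stepQ 78355 Q78355 (allL N78355 (tt N72062 F351926) (tt N81204 (iv0 F354780)) (tt N110059 (iv2 F469782)) (tt N44576 F248385) (tt N79597 F352332) (tt N44575 (iv5 D157626)) (tt N71224 F338913) (tt N71888 (iv7 F338936)))
theorem Q78357 : ∀ i, i < 78357 → P i := stepQ 78356 Q78356 (allL N78356 (tt N90204 (iv1 F388886)) (tt N90202 (iv0 F388877)) (tt N73480 (iv2 F338940)) (tt N79601 (iv3 F359728)) (tt N44576 (iv4 D157628)) (tt N62342 (iv5 F338953)) (tt N71225 F338914) (tt N71893 (iv7 F338937)))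
theorem Q78358 : ∀ i, i < 78358 → P i := stepQ 78357 Q78357 (allL N78357 (tt N48430 F312347) (tt N44577 (iv0 D157631)) (tt N79411 F312348) (tt N76447 F312349) (tt N81305 (iv4 F359259)) (tt N87917 (iv5 F381108)) (tt N80402 F359261) (tt N76446 F312350))
theorem Q78359 : ∀ i, i < 78359 → P i := stepQ 78358 Q78358 (allL N78358 (tt N101618 (iv1 F433580)) (tt N101115 (iv0 F431755)) (tt N100943 (iv2 F431051)) (tt N44580 F248392) (tt N106752 (iv4 F455540)) (tt N44579 (iv5 D157634)) (tt N54774 F338924) (tt N89671 (iv7 F387178)))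
theorem Q78360 : ∀ i, i < 78360 → P i := stepQ 78359 Q78359 (allL N78359 (tt N89669 (iv1 F387169)) (tt N88490 (iv0 F383258)) (tt N89670 (iv2 F387173)) (tt N44581 F248393) (tt N109473 (iv4 F467150)) (tt N82974 (iv5 F349511)) (tt N44579 (iv6 D157635)) (tt N89649 (iv7 F387092)))
theorem Q78361 : ∀ i, i < 78361 → P i := stepQ 78360 Q78360 (allL N78360 (tt N90202 (iv1 F388878)) (tt N90204 (iv0 F388885)) (tt N71893 (iv2 F338956)) (tt N93264 (iv3 F400191)) (tt N44580 (iv4 D157636)) (tt N72289 F338938) (tt N70988 F350378) (tt N73480 (iv7 F338942)))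
theorem Q78362 : ∀ i, i < 78362 → P i := stepQ 78361 Q78361 (allL N78361 (tt N95461 F408270) (tt N44584 (iv0 D157641)) (tt N59720 (iv2 F248411)) (tt N73320 F248410) (tt N63247 (iv4 F354559)) (tt N59844 F248412) (tt N59725 F354558) (tt N92556 (iv7 F397357)))
theorem Q78363 : ∀ i, i < 78363 → P i := stepQ 78362 Q78362 (allL N78362 (tt N59720 F357691) (tt N92556 F397359) (tt N44584 (iv2 D157642)) (tt N102951 (iv3 F439402)) (tt N44601 F248413) (tt N59708 F248414) (tt N95471 (iv6 F408307)) (tt N95461 (iv7 F408266)))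
theorem Q78364 : ∀ i, i < 78364 → P i := stepQ 78363 Q78363 (allL N78363 (tt N44702 F363843) (tt N81564 F363844) (tt N81562 F348601) (tt N95458 (iv3 F408249)) (tt N75210 F248417) (tt N52146 F363845) (tt N44585 (iv6 D157643)) (tt N81563 F348600))
theorem Q78365 : ∀ i, i < 78365 → P i := stepQ 78364 Q78364 (allL N78364 (tt N80001 (iv1 F259339)) (tt N44586 (iv0 D157664)) (tt N100498 (iv2 F429197)) (tt N77326 F350969) (tt N110997 D214239) (tt N45529 F350970) (tt N71332 F350971) (tt N83190 (iv7 F350972)))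
theorem Q78366 : ∀ i, i < 78366 → P i := stepQ 78365 Q78365 (allL N78365 (tt N90466 (iv1 F389756)) (tt N90470 (iv0 F389778)) (tt N92408 (iv2 F396919)) (tt N48224 F324089) (tt N44586 (iv4 D157665)) (tt N72125 (iv5 F351837)) (tt N48222 F324090) (tt N100535 (iv7 F429379)))
theorem Q78367 : ∀ i, i < 78367 → P i := stepQ 78366 Q78366 (allL N78366 (tt N64652 F361941) (tt N53335 (iv0 F351868)) (tt N64875 F351870) (tt N53373 (iv3 F351869)) (tt N44588 (iv4 D157668)) (tt N110998 D214240) (tt N64627 (iv6 F351871)) (tt N53867 (iv7 F303707)))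
theorem Q78368 : ∀ i, i < 78368 → P i := stepQ 78367 Q78367 (allL N78367 (tt N52938 (iv1 F319953)) (tt N44589 (iv0 D157669)) (tt N52940 (iv2 F366437)) (tt N108440 F462574) (tt N109465 (iv4 F467101)) (tt N110999 D214241) (tt N82956 (iv6 F366438)) (tt N52934 F366436))
theorem Q78369 : ∀ i, i < 78369 → P i := stepQ 78368 Q78368 (allL N78368 (tt N71251 (iv1 F362498)) (tt N70977 (iv0 F362508)) (tt N71018 F351834) (tt N71895 F351835) (tt N108991 (iv4 F464800)) (tt N44589 (iv5 D157672)) (tt N111000 D214242) (tt N71935 (iv7 F362506)))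
theorem Q78370 : ∀ i, i < 78370 → P i := stepQ 78369 Q78369 (allL N78369 (tt N109494 F467265) (tt N94124 (iv0 F403324)) (tt N68400 F248446) (tt N82559 F330112) (tt N44590 F248447) (tt N110072 (iv5 F469845)) (tt N44589 (iv6 D157673)) (tt N68401 (iv7 F248448)))
theorem Q78371 : ∀ i, i < 78371 → P i := stepQ 78370 Q78370 (allL N78370 (tt N99578 F425259) (tt N108287 F461895) (tt N46434 F347969) (tt N44599 (iv3 D157697)) (tt N74944 F248505) (tt N45438 F347970) (tt N46427 F347971) (tt N108286 (iv7 F461883)))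
theorem Q78372 : ∀ i, i < 78372 → P i := stepQ 78371 Q78371 (allL N78371 (tt N111001 D214243) (tt N110600 (iv0 F472326)) (tt N109020 (iv2 F464962)) (tt N97677 (iv3 F417879)) (tt N44599 (iv4 D157698)) (tt N96954 F414761) (tt N110602 F472340) (tt N84269 F368751))
theorem Q78373 : ∀ i, i < 78373 → P i := stepQ 78372 Q78372 (allL N78372 (tt N48010 F347921) (tt N58889 F347922) (tt N58888 F347923) (tt N46427 F347924) (tt N110602 (iv4 F472338)) (tt N46426 F347925) (tt N44599 (iv6 D157700)) (tt N47565 F347926))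
theorem Q78374 : ∀ i, i < 78374 → P i := stepQ 78373 Q78373 (allL N78373 (tt N109022 (iv1 F464977)) (tt N108443 (iv0 F462595)) (tt N99558 (iv2 F425149)) (tt N44600 (iv3 D157702)) (tt N74708 (iv4 F354561)) (tt N78337 (iv5 F353679)) (tt N109100 (iv6 F465339)) (tt N78336 (iv7 F357685)))
theorem Q78375 : ∀ i, i < 78375 → P i := stepQ 78374 Q78374 (allL N78374 (tt N110600 (iv1 F472327)) (tt N111001 F474179) (tt N84269 (iv2 F368749)) (tt N55129 (iv3 F340699)) (tt N44600 (iv4 D157703)) (tt N96608 (iv5 F413164)) (tt N55126 F340700) (tt N109020 (iv7 F464965)))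
theorem Q78376 : ∀ i, i < 78376 → P i := stepQ 78375 Q78375 (allL N78375 (tt N80110 (iv1 F350689)) (tt N100339 (iv0 F428484)) (tt N46267 F346921) (tt N109100 (iv3 F465338)) (tt N55126 (iv4 F340701)) (tt N46264 F346922) (tt N44600 (iv6 D157705)) (tt N46271 F346923))
theorem Q78377 : ∀ i, i < 78377 → P i := stepQ 78376 Q78376 (allL N78376 (tt N73701 (iv1 F248520)) (tt N73700 F248519) (tt N44602 (iv2 D157708)) (tt N62540 (iv3 F320153)) (tt N73678 F248516) (tt N62485 F248517) (tt N62538 (iv6 F336516)) (tt N73655 F248518))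
theorem Q78378 : ∀ i, i < 78378 → P i := stepQ 78377 Q78377 (allL N78377 (tt N57486 F248533) (tt N57487 (iv0 F248534)) (tt N62605 F248530) (tt N109383 (iv3 F466682)) (tt N75384 F364021) (tt N63080 (iv5 F305137)) (tt N44605 (iv6 D157712)) (tt N62713 F248532))
theorem Q78379 : ∀ i, i < 78379 → P i := stepQ 78378 Q78378 (allL N78378 (tt N44607 (iv1 D157719)) (tt N44610 F248560) (tt N61304 (iv2 F248563)) (tt N100201 F427966) (tt N72971 (iv4 F331470)) (tt N61529 F248562) (tt N61238 (iv6 F248564)) (tt N61303 F248561))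
theorem Q78380 : ∀ i, i < 78380 → P i := stepQ 78379 Q78379 (allL N78379 (tt N103020 (iv1 F439705)) (tt N99349 (iv0 F424219)) (tt N61305 F248565) (tt N56772 F363656) (tt N44607 (iv4 D157720)) (tt N56770 F331517) (tt N57200 (iv6 F340039)) (tt N61307 F248566))
theorem Q78381 : ∀ i, i < 78381 → P i := stepQ 78380 Q78380 (allL N78380 (tt N44608 (iv1 D157721)) (tt N51501 F248567) (tt N51006 F248571) (tt N86470 F376324) (tt N78898 (iv4 F251282)) (tt N45129 F248569) (tt N61250 (iv6 F248570)) (tt N45999 F248568))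
theorem Q78382 : ∀ i, i < 78382 → P i := stepQ 78381 Q78381 (allL N78381 (tt N105057 (iv1 F448598)) (tt N98426 (iv0 F420894)) (tt N61383 (iv2 F366604)) (tt N44610 F248581) (tt N107304 (iv4 F457890)) (tt N44609 (iv5 D157726)) (tt N104057 (iv6 F443957)) (tt N61301 F248582))
theorem Q78383 : ∀ i, i < 78383 → P i := stepQ 78382 Q78382 (allL N78382 (tt N99349 (iv1 F424220)) (tt N103020 (iv0 F439704)) (tt N61307 F248584) (tt N107308 (iv3 F457902)) (tt N44610 (iv4 D157728)) (tt N73571 F331516) (tt N111002 D214244) (tt N61305 F248585))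
theorem Q78384 : ∀ i, i < 78384 → P i := stepQ 78383 Q78383 (allL N78383 (tt N60922 F396047) (tt N55739 (iv0 F248587)) (tt N60919 F248586) (tt N104057 (iv3 F443956)) (tt N111002 (iv4 F474182)) (tt N92239 (iv5 F396419)) (tt N44610 (iv6 D157729)) (tt N60920 (iv7 F248588)))
theorem Q78385 : ∀ i, i < 78385 → P i := stepQ 78384 Q78384 (allL N78384 (tt N50375 F345185) (tt N111003 D214245) (tt N61310 F248591) (tt N74925 (iv3 F366037)) (tt N103030 (iv4 F439741)) (tt N56605 F248592) (tt N44612 (iv6 D157731)) (tt N92964 (iv7 F398940)))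
theorem Q78386 : ∀ i, i < 78386 → P i := stepQ 78385 Q78385 (allL N78385 (tt N61354 (iv1 F338610)) (tt N61387 (iv0 F338609)) (tt N61385 (iv2 F360660)) (tt N44613 (iv3 D157732)) (tt N107314 (iv4 F457926)) (tt N61418 (iv5 F325991)) (tt N109407 F466808) (tt N61308 F248598))
theorem Q78387 : ∀ i, i < 78387 → P i := stepQ 78386 Q78386 (allL N78386 (tt N98487 (iv1 F421100)) (tt N100780 (iv0 F430440)) (tt N61312 F248599) (tt N109407 F466807) (tt N57062 (iv4 F339970)) (tt N61487 F248600) (tt N44613 (iv6 D157733)) (tt N96102 (iv7 F411063)))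
theorem Q78388 : ∀ i, i < 78388 → P i := stepQ 78387 Q78387 (allL N78387 (tt N61328 (iv1 F248610)) (tt N61327 F248611) (tt N61315 F248607) (tt N70188 F351260) (tt N70193 (iv4 F351259)) (tt N61258 F248608) (tt N44615 (iv6 D157737)) (tt N44618 F248609))
theorem Q78389 : ∀ i, i < 78389 → P i := stepQ 78388 Q78388 (allL N78388 (tt N61321 (iv1 F248618)) (tt N44616 (iv0 D157738)) (tt N61318 F376983) (tt N50396 F376984) (tt N78454 F376985) (tt N111004 D214246) (tt N100780 (iv6 F430442)) (tt N61319 F376986))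
theorem Q78390 : ∀ i, i < 78390 → P i := stepQ 78389 Q78389 (allL N78389 (tt N44616 (iv1 D157739)) (tt N61321 F248612) (tt N61319 (iv2 F376987)) (tt N100217 F428034) (tt N95201 (iv4 F407391)) (tt N98047 (iv5 F419290)) (tt N97989 (iv6 F420547)) (tt N61318 (iv7 F376988)))
theorem Q78391 : ∀ i, i < 78391 → P i := stepQ 78390 Q78390 (allL N78390 (tt N61609 F248615) (tt N98524 F421201) (tt N61320 F248613) (tt N84883 (iv3 F374803)) (tt N103191 (iv4 F440495)) (tt N44616 (iv5 D157740)) (tt N44956 F248614) (tt N86088 (iv7 F375079)))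
theorem Q78392 : ∀ i, i < 78392 → P i := stepQ 78391 Q78391 (allL N78391 (tt N61319 (iv1 F248619)) (tt N61318 F248620) (tt N61321 F248616) (tt N86062 (iv3 F375038)) (tt N93566 (iv4 F401159)) (tt N86088 (iv5 F375078)) (tt N50342 F248617) (tt N44616 (iv7 D157741)))
theorem Q78393 : ∀ i, i < 78393 → P i := stepQ 78392 Q78392 (allL N78392 (tt N61315 (iv1 F248622)) (tt N44618 (iv0 D157745)) (tt N61327 (iv2 F388626)) (tt N109685 F468104) (tt N98252 (iv4 F420185)) (tt N111005 D214247) (tt N92164 F396046) (tt N61328 (iv7 F388628)))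
theorem Q78394 : ∀ i, i < 78394 → P i := stepQ 78393 Q78393 (allL N78393 (tt N44618 (iv1 D157746)) (tt N61315 F248623) (tt N61328 F388627) (tt N98367 F420663) (tt N90128 (iv4 F388623)) (tt N104021 (iv5 F443818)) (tt N111006 D214248) (tt N61327 F388624))
theorem Q78395 : ∀ i, i < 78395 → P i := stepQ 78394 Q78394 (allL N78394 (tt N87780 (iv1 F380478)) (tt N44620 (iv0 D157752)) (tt N87779 F380711) (tt N97661 (iv3 F417824)) (tt N94718 (iv4 F405652)) (tt N86918 F380715) (tt N97660 (iv6 F417821)) (tt N80157 F380709))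
theorem Q78396 : ∀ i, i < 78396 → P i := stepQ 78395 Q78395 (allL N78395 (tt N44620 (iv1 D157753)) (tt N87780 F380480) (tt N80157 (iv2 F380707)) (tt N103412 (iv3 F441504)) (tt N94717 (iv4 F405650)) (tt N86919 (iv5 F380133)) (tt N80151 F380706) (tt N87779 (iv7 F380710)))
theorem Q78397 : ∀ i, i < 78397 → P i := stepQ 78396 Q78396 (allL N78396 (tt N87779 (iv1 F380479)) (tt N80157 F360458) (tt N44620 (iv2 D157754)) (tt N44632 F248632) (tt N82508 (iv4 F281397)) (tt N92019 (iv5 F395391)) (tt N81671 (iv6 F276420)) (tt N87780 (iv7 F380477)))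
theorem Q78398 : ∀ i, i < 78398 → P i := stepQ 78397 Q78397 (allL N78397 (tt N87909 (iv1 F381085)) (tt N87910 (iv0 F381087)) (tt N93058 (iv2 F399320)) (tt N44625 F248672) (tt N111007 D214249) (tt N44624 (iv5 D157777)) (tt N67325 F362858) (tt N82379 (iv7 F280631)))
theorem Q78399 : ∀ i, i < 78399 → P i := stepQ 78398 Q78398 (allL N78398 (tt N44628 (iv1 D157786)) (tt N51621 F248680) (tt N51619 (iv2 F363216)) (tt N111008 D214250) (tt N80656 (iv4 F270248)) (tt N93243 F400091) (tt N81746 (iv6 F377861)) (tt N51620 F363217))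
theorem Q78400 : ∀ i, i < 78400 → P i := stepQ 78399 Q78399 (allL N78399 (tt N51620 (iv1 F248681)) (tt N51619 F248679) (tt N44628 (iv2 D157787)) (tt N80052 (iv3 F260954)) (tt N83716 (iv4 F288742)) (tt N87852 (iv5 F380848)) (tt N92074 (iv6 F395633)) (tt N51621 F248678))
theorem Q78401 : ∀ i, i < 78401 → P i := stepQ 78400 Q78400 (allL N78400 (tt N87783 (iv1 F416706)) (tt N108777 F463882) (tt N65715 F358383) (tt N44630 (iv3 D157792)) (tt N80249 F262325) (tt N97053 (iv5 F415231)) (tt N92093 (iv6 F395712)) (tt N97052 (iv7 F415226)))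
theorem Q78402 : ∀ i, i < 78402 → P i := stepQ 78401 Q78401 (allL N78401 (tt N56527 (iv1 F334356)) (tt N82386 (iv0 F280667)) (tt N44633 F248689) (tt N92019 (iv3 F395390)) (tt N54265 F345251) (tt N44632 (iv5 D157800)) (tt N52979 (iv6 F345252)) (tt N97449 (iv7 F416939)))
theorem Q78403 : ∀ i, i < 78403 → P i := stepQ 78402 Q78402 (allL N78402 (tt N97449 (iv1 F416941)) (tt N44633 (iv0 D157801)) (tt N56527 (iv2 F334357)) (tt N68734 (iv3 F354708)) (tt N69940 (iv4 F354690)) (tt N55591 F280673) (tt N56525 F354699) (tt N82386 F280674))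
theorem Q78404 : ∀ i, i < 78404 → P i := stepQ 78403 Q78403 (allL N78403 (tt N44633 (iv1 D157802)) (tt N97449 (iv0 F416940)) (tt N82386 (iv2 F280666)) (tt N56531 (iv3 F334362)) (tt N69947 F334365) (tt N55592 F248690) (tt N68709 F334366) (tt N56527 (iv7 F334359)))
theorem Q78405 : ∀ i, i < 78405 → P i := stepQ 78404 Q78404 (allL N78404 (tt N90147 (iv1 F388689)) (tt N90149 (iv0 F388694)) (tt N54265 (iv2 F345250)) (tt N87831 (iv3 F380743)) (tt N44633 (iv4 D157803)) (tt N89106 (iv5 F385177)) (tt N49594 F345249) (tt N101886 (iv7 F434824)))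
theorem Q78406 : ∀ i, i < 78406 → P i := stepQ 78405 Q78405 (allL N78405 (tt N69286 (iv1 F338343)) (tt N69285 F345639) (tt N69288 F338338) (tt N44635 (iv3 D157807)) (tt N69171 (iv4 F338361)) (tt N46162 F248694) (tt N69259 F338342) (tt N69260 (iv7 F338320)))
theorem Q78407 : ∀ i, i < 78407 → P i := stepQ 78406 Q78406 (allL N78406 (tt N90239 (iv1 F389052)) (tt N90240 (iv0 F389056)) (tt N48787 F295105) (tt N69259 F338592) (tt N48549 F295106) (tt N98031 (iv5 F419234)) (tt N44635 (iv6 D157808)) (tt N69253 (iv7 F362898)))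
theorem Q78408 : ∀ i, i < 78408 → P i := stepQ 78407 Q78407 (allL N78407 (tt N92023 (iv1 F395420)) (tt N44636 (iv0 D157809)) (tt N92021 (iv2 F395408)) (tt N103372 F441329) (tt N87838 F395409) (tt N111009 D214251) (tt N107081 (iv6 F456888)) (tt N92022 (iv7 F395412)))
theorem Q78409 : ∀ i, i < 78409 → P i := stepQ 78408 Q78408 (allL N78408 (tt N92022 (iv1 F395411)) (tt N92021 (iv0 F395410)) (tt N92023 (iv2 F395416)) (tt N52978 (iv3 F361733)) (tt N69861 F361734) (tt N81766 (iv5 F276876)) (tt N97717 (iv6 F418047)) (tt N44636 (iv7 D157811)))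
theorem Q78410 : ∀ i, i < 78410 → P i := stepQ 78409 Q78409 (allL N78409 (tt N44637 (iv1 D157819)) (tt N79434 (iv0 F256613)) (tt N45487 (iv2 F254190)) (tt N47652 (iv3 F248704)) (tt N64140 (iv4 F254182)) (tt N57862 (iv5 F326781)) (tt N81800 (iv6 F359274)) (tt N80272 (iv7 F262444)))
theorem Q78411 : ∀ i, i < 78411 → P i := stepQ 78410 Q78410 (allL N78410 (tt N44638 (iv1 D157824)) (tt N44641 F248708) (tt N78758 (iv2 F254271)) (tt N82523 F281465) (tt N45891 (iv4 F254261)) (tt N88677 (iv5 F383849)) (tt N81804 F358039) (tt N82492 (iv7 F281203)))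
theorem Q78412 : ∀ i, i < 78412 → P i := stepQ 78411 Q78411 (allL N78411 (tt N60418 F341941) (tt N100687 F430020) (tt N102337 (iv2 F436787)) (tt N44638 (iv3 D157825)) (tt N82455 (iv4 F281097)) (tt N104557 (iv5 F446246)) (tt N100710 (iv6 F430125)) (tt N100682 (iv7 F429989)))
theorem Q78413 : ∀ i, i < 78413 → P i := stepQ 78412 Q78412 (allL N78412 (tt N52992 (iv1 F354676)) (tt N111010 D214252) (tt N88798 (iv2 F384178)) (tt N104557 (iv3 F446244)) (tt N52160 F345233) (tt N44638 (iv5 D157826)) (tt N97720 F418058) (tt N88794 (iv7 F384166)))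
theorem Q78414 : ∀ i, i < 78414 → P i := stepQ 78413 Q78413 (allL N78413 (tt N81756 (iv1 F342134)) (tt N81753 (iv0 F355890)) (tt N81206 (iv2 F355912)) (tt N100710 (iv3 F430124)) (tt N44639 F248709) (tt N111011 D214253) (tt N44638 (iv6 D157827)) (tt N81209 F355913))
theorem Q78415 : ∀ i, i < 78415 → P i := stepQ 78414 Q78414 (allL N78414 (tt N52834 (iv1 F333784)) (tt N44639 (iv0 D157834)) (tt N44938 F333770) (tt N45448 F333771) (tt N81816 F354490) (tt N45447 F333772) (tt N69401 F336019) (tt N79224 F333773))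
theorem Q78416 : ∀ i, i < 78416 → P i := stepQ 78415 Q78415 (allL N78415 (tt N45882 (iv1 F256588)) (tt N59531 (iv0 F327512)) (tt N44640 (iv2 D157840)) (tt N79434 (iv3 F256611)) (tt N65435 (iv4 F256579)) (tt N79341 F256538) (tt N111012 D214254) (tt N80232 (iv7 F262231)))
theorem Q78417 : ∀ i, i < 78417 → P i := stepQ 78416 Q78416 (allL N78416 (tt N45401 (iv1 F253656)) (tt N45398 (iv0 F248719)) (tt N65435 F256578) (tt N59611 F364839) (tt N44640 (iv4 D157841)) (tt N111013 D214255) (tt N111014 D214256) (tt N65434 F256575))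
theorem Q78418 : ∀ i, i < 78418 → P i := stepQ 78417 Q78417 (allL N78417 (tt N101526 F433260) (tt N82068 (iv0 F340649)) (tt N111012 (iv2 F474242)) (tt N44642 F248747) (tt N111014 (iv4 F474256)) (tt N47128 F329440) (tt N44640 (iv6 D157842)) (tt N52833 F329441))
theorem Q78419 : ∀ i, i < 78419 → P i := stepQ 78418 Q78418 (allL N78418 (tt N86954 (iv1 F377821)) (tt N46542 (iv0 F248748)) (tt N86953 F377823) (tt N44641 (iv3 D157843)) (tt N59611 (iv4 F364838)) (tt N97635 F417712) (tt N111015 D214257) (tt N86952 F377817))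
theorem Q78420 : ∀ i, i < 78420 → P i := stepQ 78419 Q78419 (allL N78419 (tt N111010 (iv1 F474228)) (tt N52992 (iv0 F354675)) (tt N88794 (iv2 F384165)) (tt N97635 (iv3 F417711)) (tt N52159 F345231) (tt N44641 (iv5 D157844)) (tt N97633 F417703) (tt N88798 (iv7 F384180)))
theorem Q78421 : ∀ i, i < 78421 → P i := stepQ 78420 Q78420 (allL N78420 (tt N44749 F329442) (tt N46796 F329443) (tt N46862 F329444) (tt N111015 (iv3 F474262)) (tt N44642 F248749) (tt N64342 F329445) (tt N44641 (iv6 D157845)) (tt N46861 F329446))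
theorem Q78422 : ∀ i, i < 78422 → P i := stepQ 78421 Q78421 (allL N78421 (tt N46362 F298997) (tt N52810 F248762) (tt N46364 F248756) (tt N44800 F248757) (tt N46662 (iv4 F301449)) (tt N45540 F248759) (tt N44643 (iv6 D157851)) (tt N46377 (iv7 F300547)))
theorem Q78423 : ∀ i, i < 78423 → P i := stepQ 78422 Q78422 (allL N78422 (tt N110595 F472303) (tt N110598 F472315) (tt N101674 (iv2 F433799)) (tt N44645 (iv3 D157852)) (tt N44646 F248763) (tt N81156 F353298) (tt N47141 F353299) (tt N46691 F248764))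
theorem Q78424 : ∀ i, i < 78424 → P i := stepQ 78423 Q78423 (allL N78423 (tt N45791 F248767) (tt N45408 F248768) (tt N79258 (iv2 F253750)) (tt N81156 (iv3 F353316)) (tt N46692 F248766) (tt N44645 (iv5 D157853)) (tt N81155 F353318) (tt N46692 F248765))
theorem Q78425 : ∀ i, i < 78425 → P i := stepQ 78424 Q78424 (allL N78424 (tt N46715 (iv1 F248769)) (tt N44646 (iv0 D157854)) (tt N46714 (iv2 F262395)) (tt N103050 (iv3 F439847)) (tt N111016 D214258) (tt N85276 (iv5 F372140)) (tt N89782 (iv6 F387535)) (tt N46713 (iv7 F262397)))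
theorem Q78426 : ∀ i, i < 78426 → P i := stepQ 78425 Q78425 (allL N78425 (tt N44646 (iv1 D157855)) (tt N46715 F248772) (tt N46713 F262396) (tt N82517 F281433) (tt N80259 (iv4 F262393)) (tt N109887 (iv5 F469081)) (tt N111017 D214259) (tt N46714 F262394))
theorem Q78427 : ∀ i, i < 78427 → P i := stepQ 78426 Q78426 (allL N78426 (tt N46714 (iv1 F248773)) (tt N46713 F248771) (tt N44646 (iv2 D157856)) (tt N78434 (iv3 F248782)) (tt N101674 (iv4 F433801)) (tt N111018 D214260) (tt N100852 (iv6 F430780)) (tt N46715 F248770))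
theorem Q78428 : ∀ i, i < 78428 → P i := stepQ 78427 Q78427 (allL N78427 (tt N111019 D214261) (tt N111020 D214262) (tt N111018 (iv2 F474278)) (tt N44647 F248774) (tt N86175 (iv4 F375270)) (tt N44646 (iv5 D157857)) (tt N57991 (iv6 F353303)) (tt N46716 F248775))
theorem Q78429 : ∀ i, i < 78429 → P i := stepQ 78428 Q78428 (allL N78428 (tt N80560 (iv1 F268411)) (tt N44648 (iv0 D157859)) (tt N80559 (iv2 F399476)) (tt N111021 D214263) (tt N97502 (iv4 F417135)) (tt N107082 (iv5 F456894)) (tt N103433 F441616) (tt N80558 (iv7 F399477)))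
theorem Q78430 : ∀ i, i < 78430 → P i := stepQ 78429 Q78429 (allL N78429 (tt N44648 (iv1 D157860)) (tt N80560 F268413) (tt N80558 (iv2 F399471)) (tt N111022 D214264) (tt N93076 F399375) (tt N111023 D214265) (tt N64957 F433305) (tt N80559 F399474))
theorem Q78431 : ∀ i, i < 78431 → P i := stepQ 78430 Q78430 (allL N78430 (tt N80559 (iv1 F268412)) (tt N80558 F268408) (tt N44648 (iv2 D157861)) (tt N44666 F248776) (tt N80418 (iv4 F267334)) (tt N107809 (iv5 F459792)) (tt N81860 (iv6 F277297)) (tt N80560 (iv7 F268410)))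
theorem Q78432 : ∀ i, i < 78432 → P i := stepQ 78431 Q78431 (allL N78431 (tt N95187 F412616) (tt N73490 (iv0 F380481)) (tt N107809 F459793) (tt N44649 F248777) (tt N101259 (iv4 F432434)) (tt N44648 (iv5 D157862)) (tt N106391 (iv6 F454263)) (tt N78464 (iv7 F248833)))
theorem Q78433 : ∀ i, i < 78433 → P i := stepQ 78432 Q78432 (allL N78432 (tt N72204 F364774) (tt N95169 (iv0 F407291)) (tt N44670 F248778) (tt N106391 F454262) (tt N48315 F248779) (tt N78134 (iv5 F349753)) (tt N44649 (iv6 D157863)) (tt N96712 (iv7 F413573)))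
theorem Q78434 : ∀ i, i < 78434 → P i := stepQ 78433 Q78433 (allL N78433 (tt N44650 (iv1 D157865)) (tt N58209 (iv0 F327604)) (tt N58210 (iv2 F327464)) (tt N111024 D214266) (tt N87037 (iv4 F378140)) (tt N111025 D214267) (tt N101660 F433743) (tt N58204 (iv7 F327613)))
theorem Q78435 : ∀ i, i < 78435 → P i := stepQ 78434 Q78434 (allL N78434 (tt N58204 (iv1 F327611)) (tt N58210 (iv0 F327462)) (tt N44650 (iv2 D157866)) (tt N78426 F248782) (tt N72092 F333845) (tt N86303 (iv5 F375760)) (tt N80603 (iv6 F268790)) (tt N58209 (iv7 F327608)))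
theorem Q78436 : ∀ i, i < 78436 → P i := stepQ 78435 Q78435 (allL N78435 (tt N50588 (iv1 F333850)) (tt N86300 (iv0 F375752)) (tt N86303 F375762) (tt N44651 F248787) (tt N48709 F333847) (tt N44650 (iv5 D157867)) (tt N58164 (iv6 F341405)) (tt N64287 F248788))
theorem Q78437 : ∀ i, i < 78437 → P i := stepQ 78436 Q78436 (allL N78436 (tt N96468 F412648) (tt N96010 (iv0 F410619)) (tt N111026 D214268) (tt N44652 (iv3 D157869)) (tt N48490 F248790) (tt N80588 (iv5 F268484)) (tt N95697 (iv6 F409185)) (tt N79357 (iv7 F254511)))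
theorem Q78438 : ∀ i, i < 78438 → P i := stepQ 78437 Q78437 (allL N78437 (tt N44653 (iv1 D157872)) (tt N79808 (iv0 F301267)) (tt N79811 (iv2 F301259)) (tt N96460 (iv3 F412618)) (tt N100670 (iv4 F429939)) (tt N86300 (iv5 F375751)) (tt N81959 (iv6 F361599)) (tt N79812 (iv7 F301266)))
theorem Q78439 : ∀ i, i < 78439 → P i := stepQ 78438 Q78438 (allL N78438 (tt N79812 (iv1 F301263)) (tt N79811 (iv0 F301258)) (tt N44653 (iv2 D157873)) (tt N82404 (iv3 F280709)) (tt N79432 (iv4 F256391)) (tt N85510 (iv5 F372889)) (tt N109903 F469142) (tt N79808 (iv7 F301270)))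
theorem Q78440 : ∀ i, i < 78440 → P i := stepQ 78439 Q78439 (allL N78439 (tt N84865 (iv1 F370907)) (tt N85500 (iv0 F372858)) (tt N85510 F372891) (tt N44654 F248793) (tt N48704 F333854) (tt N44653 (iv5 D157874)) (tt N111027 D214269) (tt N79813 (iv7 F301271)))
theorem Q78441 : ∀ i, i < 78441 → P i := stepQ 78440 Q78440 (allL N78440 (tt N95291 F407749) (tt N80009 F342062) (tt N109903 F469139) (tt N44655 F248794) (tt N64166 (iv4 F302606)) (tt N107118 (iv5 F457060)) (tt N44653 (iv6 D157875)) (tt N64155 F366912))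
theorem Q78442 : ∀ i, i < 78442 → P i := stepQ 78441 Q78441 (allL N78441 (tt N56786 F363357) (tt N105381 F449980) (tt N82407 (iv2 F280717)) (tt N111027 (iv3 F474326)) (tt N58327 (iv4 F363341)) (tt N111028 D214270) (tt N44654 (iv6 D157876)) (tt N105379 (iv7 F449970)))
theorem Q78443 : ∀ i, i < 78443 → P i := stepQ 78442 Q78442 (allL N78442 (tt N64150 (iv1 F300425)) (tt N44655 (iv0 D157877)) (tt N64158 (iv2 F300518)) (tt N96008 (iv3 F410609)) (tt N58733 (iv4 F326648)) (tt N96018 (iv5 F410652)) (tt N64576 (iv6 F299234)) (tt N64157 (iv7 F301039)))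
theorem Q78444 : ∀ i, i < 78444 → P i := stepQ 78443 Q78443 (allL N78443 (tt N44655 (iv1 D157878)) (tt N64150 (iv0 F300424)) (tt N64157 (iv2 F301038)) (tt N111029 D214271) (tt N58736 (iv4 F326638)) (tt N106460 (iv5 F454547)) (tt N65035 F250607) (tt N64158 (iv7 F300519)))
theorem Q78445 : ∀ i, i < 78445 → P i := stepQ 78444 Q78444 (allL N78444 (tt N95731 (iv1 F409355)) (tt N95733 (iv0 F409363)) (tt N82408 (iv2 F280723)) (tt N107118 (iv3 F457063)) (tt N111030 D214272) (tt N44655 (iv5 D157879)) (tt N111028 (iv6 F474331)) (tt N64159 F366946))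
theorem Q78446 : ∀ i, i < 78446 → P i := stepQ 78445 Q78445 (allL N78445 (tt N45629 F299555) (tt N44662 F257769) (tt N64162 (iv2 F299582)) (tt N72337 (iv3 F337374)) (tt N44656 (iv4 D157881)) (tt N65471 F351103) (tt N64310 F248798) (tt N64160 F299556))
theorem Q78447 : ∀ i, i < 78447 → P i := stepQ 78446 Q78446 (allL N78446 (tt N111031 D214273) (tt N92330 (iv0 F396728)) (tt N111032 D214274) (tt N44657 (iv3 D157882)) (tt N44658 F248799) (tt N111033 D214275) (tt N44689 F296211) (tt N79247 (iv7 F253702)))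
theorem Q78448 : ∀ i, i < 78448 → P i := stepQ 78447 Q78447 (allL N78447 (tt N46317 F248800) (tt N46315 F248801) (tt N50700 F296212) (tt N111033 (iv3 F474352)) (tt N79248 (iv4 F253705)) (tt N44657 (iv5 D157883)) (tt N85751 (iv6 F373793)) (tt N79248 (iv7 F253704)))
theorem Q78449 : ∀ i, i < 78449 → P i := stepQ 78448 Q78448 (allL N78448 (tt N82404 (iv1 F280711)) (tt N44658 (iv0 D157888)) (tt N82403 (iv2 F280825)) (tt N96012 (iv3 F410631)) (tt N91928 (iv4 F394988)) (tt N80583 (iv5 F406487)) (tt N81965 (iv6 F378078)) (tt N82402 (iv7 F280827)))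
theorem Q78450 : ∀ i, i < 78450 → P i := stepQ 78449 Q78449 (allL N78449 (tt N44658 (iv1 D157889)) (tt N82404 F280713) (tt N82402 F280826) (tt N82427 (iv3 F280822)) (tt N100718 (iv4 F430168)) (tt N80584 F431914) (tt N96422 (iv6 F412455)) (tt N82403 F280824))
theorem Q78451 : ∀ i, i < 78451 → P i := stepQ 78450 Q78450 (allL N78450 (tt N82403 (iv1 F280712)) (tt N82402 F280706) (tt N44658 (iv2 D157890)) (tt N79808 (iv3 F301269)) (tt N111032 (iv4 F474350)) (tt N111034 D214276) (tt N79797 F366928) (tt N82404 (iv7 F280710)))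
theorem Q78452 : ∀ i, i < 78452 → P i := stepQ 78451 Q78451 (allL N78451 (tt N85276 F376970) (tt N109887 (iv0 F469083)) (tt N111034 (iv2 F474353)) (tt N44659 F248805) (tt N50396 F376971) (tt N44658 (iv5 D157891)) (tt N107846 (iv6 F459974)) (tt N82405 (iv7 F280715)))
theorem Q78453 : ∀ i, i < 78453 → P i := stepQ 78452 Q78452 (allL N78452 (tt N59453 (iv1 F327450)) (tt N44660 (iv0 D157899)) (tt N82410 F363806) (tt N79833 (iv3 F304021)) (tt N93470 (iv4 F400822)) (tt N111035 D214277) (tt N59399 F410543) (tt N82409 F363804))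
theorem Q78454 : ∀ i, i < 78454 → P i := stepQ 78453 Q78453 (allL N78453 (tt N44660 (iv1 D157900)) (tt N59453 (iv0 F327449)) (tt N82409 (iv2 F363805)) (tt N111036 D214278) (tt N93471 F400823) (tt N105440 (iv5 F450275)) (tt N81972 (iv6 F402161)) (tt N82410 (iv7 F363807)))
theorem Q78455 : ∀ i, i < 78455 → P i := stepQ 78454 Q78454 (allL N78454 (tt N93900 F402346) (tt N61208 (iv0 F360112)) (tt N93386 (iv2 F400604)) (tt N44661 F248810) (tt N78388 (iv4 F376985)) (tt N44660 (iv5 D157902)) (tt N73032 (iv6 F360110)) (tt N82411 (iv7 F280731)))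
theorem Q78456 : ∀ i, i < 78456 → P i := stepQ 78455 Q78455 (allL N78455 (tt N65547 F364551) (tt N111037 D214279) (tt N111038 D214280) (tt N44664 (iv3 D157918)) (tt N82571 F282832) (tt N110221 (iv5 F470498)) (tt N111039 D214281) (tt N82414 (iv7 F280773)))
theorem Q78457 : ∀ i, i < 78457 → P i := stepQ 78456 Q78456 (allL N78456 (tt N82512 (iv1 F281421)) (tt N48333 (iv0 F258236)) (tt N80275 (iv2 F262466)) (tt N110221 F470496) (tt N69946 F354685) (tt N44664 (iv5 D157920)) (tt N111040 D214282) (tt N82415 (iv7 F280775)))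
theorem Q78458 : ∀ i, i < 78458 → P i := stepQ 78457 Q78457 (allL N78457 (tt N47292 F330858) (tt N79889 F337365) (tt N80276 (iv2 F262469)) (tt N111039 (iv3 F474381)) (tt N80273 (iv4 F262463)) (tt N107148 (iv5 F457200)) (tt N44664 (iv6 D157921)) (tt N80971 F330859))
theorem Q78459 : ∀ i, i < 78459 → P i := stepQ 78458 Q78458 (allL N78458 (tt N79830 (iv1 F304019)) (tt N79833 F348608) (tt N105717 (iv2 F451397)) (tt N44665 (iv3 D157923)) (tt N79779 (iv4 F258185)) (tt N111041 D214283) (tt N79820 (iv6 F363196)) (tt N80274 (iv7 F262465)))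
theorem Q78460 : ∀ i, i < 78460 → P i := stepQ 78459 Q78459 (allL N78459 (tt N48333 (iv1 F256341)) (tt N82512 F281422) (tt N82415 (iv2 F280774)) (tt N111041 (iv3 F474391)) (tt N89061 (iv4 F385014)) (tt N44665 (iv5 D157924)) (tt N95249 F407576) (tt N80275 (iv7 F262467)))
theorem Q78461 : ∀ i, i < 78461 → P i := stepQ 78460 Q78460 (allL N78460 (tt N82419 (iv1 F280788)) (tt N82418 F280785) (tt N44667 F248824) (tt N107809 F459795) (tt N89106 (iv4 F385176)) (tt N44666 (iv5 D157926)) (tt N89105 F385174) (tt N82416 (iv7 F280779)))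
theorem Q78462 : ∀ i, i < 78462 → P i := stepQ 78461 Q78461 (allL N78461 (tt N82416 (iv1 F280781)) (tt N44667 (iv0 D157927)) (tt N82419 F280791) (tt N95195 (iv3 F407368)) (tt N88710 (iv4 F383943)) (tt N48396 F258034) (tt N85398 (iv6 F372491)) (tt N82418 F280787))
theorem Q78463 : ∀ i, i < 78463 → P i := stepQ 78462 Q78462 (allL N78462 (tt N44667 (iv1 D157928)) (tt N82416 (iv0 F280780)) (tt N82418 F280786) (tt N85492 (iv3 F372821)) (tt N88709 (iv4 F383940)) (tt N48397 F248825) (tt N73435 F350367) (tt N82419 (iv7 F280789)))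
theorem Q78464 : ∀ i, i < 78464 → P i := stepQ 78463 Q78463 (allL N78463 (tt N111035 F474365) (tt N105440 (iv0 F450276)) (tt N95135 (iv2 F407183)) (tt N44668 (iv3 D157931)) (tt N98264 (iv4 F420238)) (tt N48395 F248827) (tt N57978 F351075) (tt N73509 (iv7 F341315)))
theorem Q78465 : ∀ i, i < 78465 → P i := stepQ 78464 Q78464 (allL N78464 (tt N72984 (iv1 F386114)) (tt N107745 (iv0 F459521)) (tt N108144 (iv2 F461299)) (tt N44669 (iv3 D157935)) (tt N64736 (iv4 F362330)) (tt N46704 F248832) (tt N64735 F362329) (tt N78431 F248833))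
theorem Q78466 : ∀ i, i < 78466 → P i := stepQ 78465 Q78465 (allL N78465 (tt N96712 (iv1 F413575)) (tt N44670 (iv0 D157937)) (tt N72204 (iv2 F357950)) (tt N93562 (iv3 F401140)) (tt N95126 (iv4 F407141)) (tt N72203 F357951) (tt N62349 F357952) (tt N95169 (iv7 F407290)))
theorem Q78467 : ∀ i, i < 78467 → P i := stepQ 78466 Q78466 (allL N78466 (tt N95169 F407293) (tt N72204 (iv0 F373413)) (tt N96712 (iv2 F413570)) (tt N89108 F385188) (tt N96398 (iv4 F412338)) (tt N78133 (iv5 F349766)) (tt N59654 (iv6 F345271)) (tt N44670 (iv7 D157939)))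
theorem Q78468 : ∀ i, i < 78468 → P i := stepQ 78467 Q78467 (allL N78467 (tt N44674 (iv1 F248852)) (tt N44671 (iv0 D157952)) (tt N82427 (iv2 F280821)) (tt N96011 F410621) (tt N45953 F248847) (tt N111042 D214284) (tt N95777 F409598) (tt N82426 F280817))
theorem Q78469 : ∀ i, i < 78469 → P i := stepQ 78468 Q78468 (allL N78468 (tt N44671 (iv1 D157953)) (tt N44674 F248848) (tt N82426 F280816) (tt N82403 F280707) (tt N46333 (iv4 F256633)) (tt N111043 D214285) (tt N82024 (iv6 F358932)) (tt N82427 (iv7 F280819)))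
theorem Q78470 : ∀ i, i < 78470 → P i := stepQ 78469 Q78469 (allL N78469 (tt N90152 (iv1 F388712)) (tt N53803 F354679) (tt N82432 (iv2 F280854)) (tt N86398 F376104) (tt N87671 (iv4 F380091)) (tt N44671 (iv5 D157955)) (tt N111044 D214286) (tt N82428 (iv7 F280831)))
theorem Q78471 : ∀ i, i < 78471 → P i := stepQ 78470 Q78470 (allL N78470 (tt N47103 F330873) (tt N56873 F337622) (tt N56874 (iv2 F342029)) (tt N95285 F407724) (tt N44672 F248849) (tt N94418 (iv5 F404403)) (tt N44671 (iv6 D157956)) (tt N56875 (iv7 F337616)))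
theorem Q78472 : ∀ i, i < 78472 → P i := stepQ 78471 Q78471 (allL N78471 (tt N47293 (iv1 F330878)) (tt N45857 (iv0 F330875)) (tt N47291 (iv2 F330881)) (tt N60017 (iv3 F337611)) (tt N56875 F337614) (tt N47431 F330874) (tt N60015 (iv6 F336092)) (tt N44672 (iv7 D157966)))
theorem Q78473 : ∀ i, i < 78473 → P i := stepQ 78472 Q78472 (allL N78472 (tt N82429 (iv1 F280844)) (tt N44673 (iv0 D157968)) (tt N45804 F257971) (tt N59533 (iv3 F327518)) (tt N50694 F248858) (tt N59531 (iv5 F327515)) (tt N82026 (iv6 F353484)) (tt N79848 (iv7 F258617)))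
theorem Q78474 : ∀ i, i < 78474 → P i := stepQ 78473 Q78473 (allL N78473 (tt N45984 (iv1 F254448)) (tt N45981 (iv0 F248859)) (tt N78530 (iv2 F261344)) (tt N96763 (iv3 F413830)) (tt N44673 (iv4 D157971)) (tt N82478 (iv5 F281170)) (tt N105343 (iv6 F449793)) (tt N82430 (iv7 F280848)))
theorem Q78475 : ∀ i, i < 78475 → P i := stepQ 78474 Q78474 (allL N78474 (tt N72110 (iv1 F359635)) (tt N72101 (iv0 F359634)) (tt N60010 F365775) (tt N44675 F248861) (tt N105343 (iv4 F449790)) (tt N102784 (iv5 F438640)) (tt N44673 (iv6 D157973)) (tt N104124 (iv7 F444301)))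
theorem Q78476 : ∀ i, i < 78476 → P i := stepQ 78475 Q78475 (allL N78475 (tt N91183 (iv1 F392192)) (tt N79429 (iv0 F256260)) (tt N91182 (iv2 F392190)) (tt N44674 (iv3 D157974)) (tt N96763 (iv4 F413831)) (tt N111045 D214287) (tt N79804 F364309) (tt N82431 (iv7 F280852)))
theorem Q78477 : ∀ i, i < 78477 → P i := stepQ 78476 Q78476 (allL N78476 (tt N53803 F354688) (tt N90152 F388711) (tt N82428 (iv2 F280830)) (tt N111045 (iv3 F474406)) (tt N87672 (iv4 F380098)) (tt N44674 (iv5 D157975)) (tt N111046 D214288) (tt N82432 (iv7 F280855)))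
theorem Q78478 : ∀ i, i < 78478 → P i := stepQ 78477 Q78477 (allL N78477 (tt N111047 D214289) (tt N107733 (iv0 F459452)) (tt N58024 (iv2 F327947)) (tt N79804 (iv3 F364308)) (tt N44675 F248862) (tt N111048 D214290) (tt N44674 (iv6 D157976)) (tt N104127 (iv7 F444317)))
theorem Q78479 : ∀ i, i < 78479 → P i := stepQ 78478 Q78478 (allL N78478 (tt N44675 (iv1 D157980)) (tt N60015 (iv0 F336089)) (tt N45813 F336083) (tt N79835 F336084) (tt N64963 F336085) (tt N67941 F336086) (tt N59986 F336087) (tt N67940 F336088))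
theorem Q78480 : ∀ i, i < 78480 → P i := stepQ 78479 Q78479 (allL N78479 (tt N46866 F319726) (tt N44751 F319727) (tt N44715 F248863) (tt N80449 (iv3 F267773)) (tt N89396 (iv4 F386362)) (tt N101526 (iv5 F433258)) (tt N44676 (iv6 D157983)) (tt N46865 F315280))
theorem Q78481 : ∀ i, i < 78481 → P i := stepQ 78480 Q78480 (allL N78480 (tt N100305 (iv1 F428351)) (tt N44678 (iv0 D157985)) (tt N89738 (iv2 F387370)) (tt N100136 (iv3 F427633)) (tt N89736 (iv4 F387360)) (tt N77594 F364462) (tt N79991 (iv6 F364463)) (tt N100304 (iv7 F428341)))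
theorem Q78482 : ∀ i, i < 78482 → P i := stepQ 78481 Q78481 (allL N78481 (tt N100147 F427696) (tt N68024 (iv0 F330221)) (tt N76547 F306783) (tt N44680 F248865) (tt N46788 F306784) (tt N44678 (iv5 D157987)) (tt N44754 F306785) (tt N100533 (iv7 F429366)))
theorem Q78483 : ∀ i, i < 78483 → P i := stepQ 78482 Q78482 (allL N78482 (tt N100304 (iv1 F428340)) (tt N89738 (iv0 F387374)) (tt N100305 (iv2 F428346)) (tt N44681 F248867) (tt N79140 (iv4 F253122)) (tt N100533 (iv5 F429368)) (tt N44720 F248868) (tt N44678 (iv7 D157988)))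
theorem Q78484 : ∀ i, i < 78484 → P i := stepQ 78483 Q78483 (allL N78483 (tt N55335 (iv1 F357443)) (tt N80618 (iv0 F310299)) (tt N44813 F248885) (tt N53484 F306786) (tt N44680 (iv4 D157994)) (tt N101743 (iv5 F434133)) (tt N44755 F306787) (tt N80917 (iv7 F356130)))
theorem Q78485 : ∀ i, i < 78485 → P i := stepQ 78484 Q78484 (allL N78484 (tt N111049 D214291) (tt N58244 (iv0 F365964)) (tt N111050 D214292) (tt N44683 (iv3 D158000)) (tt N65047 (iv4 F302230)) (tt N106735 (iv5 F455475)) (tt N44684 F248907) (tt N80925 (iv7 F366913)))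
theorem Q78486 : ∀ i, i < 78486 → P i := stepQ 78485 Q78485 (allL N78485 (tt N46783 (iv1 F248915)) (tt N44684 (iv0 D158003)) (tt N46782 F365630) (tt N86961 (iv3 F377868)) (tt N96355 (iv4 F412209)) (tt N85745 (iv5 F390830)) (tt N71033 F365631) (tt N46781 F365632))
theorem Q78487 : ∀ i, i < 78487 → P i := stepQ 78486 Q78486 (allL N78486 (tt N44684 (iv1 D158004)) (tt N46783 F248920) (tt N46781 F365626) (tt N71036 F365627) (tt N96363 (iv4 F412234)) (tt N85746 (iv5 F390834)) (tt N81009 F365628) (tt N46782 F365629))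
theorem Q78488 : ∀ i, i < 78488 → P i := stepQ 78487 Q78487 (allL N78487 (tt N46782 (iv1 F248921)) (tt N46781 F248919) (tt N44684 (iv2 D158005)) (tt N44854 F248916) (tt N79148 (iv4 F253200)) (tt N54897 F248917) (tt N111050 (iv6 F474425)) (tt N46783 F248918))
theorem Q78489 : ∀ i, i < 78489 → P i := stepQ 78488 Q78488 (allL N78488 (tt N46315 F248944) (tt N46317 F248945) (tt N79248 (iv2 F253703)) (tt N80075 (iv3 F261252)) (tt N50700 (iv4 F296206)) (tt N44685 (iv5 D158015)) (tt N111051 D214293) (tt N50700 (iv7 F296207)))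
theorem Q78490 : ∀ i, i < 78490 → P i := stepQ 78489 Q78489 (allL N78489 (tt N79347 F254494) (tt N102969 F439499) (tt N91989 (iv2 F395271)) (tt N44686 (iv3 D158019)) (tt N46352 F248948) (tt N106412 (iv5 F454334)) (tt N47235 F298024) (tt N64075 F248949))
theorem Q78491 : ∀ i, i < 78491 → P i := stepQ 78490 Q78490 (allL N78490 (tt N45408 F248951) (tt N45791 F248952) (tt N46692 F248950) (tt N106412 (iv3 F454331)) (tt N79258 (iv4 F253751)) (tt N44686 (iv5 D158020)) (tt N111052 D214294) (tt N79258 (iv7 F253752)))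
theorem Q78492 : ∀ i, i < 78492 → P i := stepQ 78491 Q78491 (allL N78491 (tt N58626 (iv1 F327097)) (tt N44687 (iv0 D158024)) (tt N80256 (iv2 F362520)) (tt N111053 D214295) (tt N55564 (iv4 F361140)) (tt N87306 (iv5 F379023)) (tt N81028 (iv6 F361141)) (tt N55562 F361131))
theorem Q78493 : ∀ i, i < 78493 → P i := stepQ 78492 Q78492 (allL N78492 (tt N80256 (iv1 F262378)) (tt N55562 (iv0 F362515)) (tt N44687 (iv2 D158026)) (tt N58630 (iv3 F326915)) (tt N44694 F248969) (tt N111054 D214296) (tt N80931 (iv6 F272490)) (tt N58626 (iv7 F327099)))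
theorem Q78494 : ∀ i, i < 78494 → P i := stepQ 78493 Q78493 (allL N78493 (tt N111055 D214297) (tt N111056 D214298) (tt N111054 (iv2 F474437)) (tt N44688 F248970) (tt N100547 (iv4 F429433)) (tt N44687 (iv5 D158027)) (tt N91438 (iv6 F393131)) (tt N80257 (iv7 F262381)))
theorem Q78495 : ∀ i, i < 78495 → P i := stepQ 78494 Q78494 (allL N78494 (tt N111057 D214299) (tt N111058 D214300) (tt N80254 (iv2 F262367)) (tt N91438 (iv3 F393130)) (tt N79315 (iv4 F254036)) (tt N80936 (iv5 F272500)) (tt N44688 (iv6 D158028)) (tt N111059 D214301))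
theorem Q78496 : ∀ i, i < 78496 → P i := stepQ 78495 Q78495 (allL N78495 (tt N79839 (iv1 F258572)) (tt N44689 (iv0 D158031)) (tt N79838 (iv2 F413681)) (tt N111060 D214302) (tt N111061 D214303) (tt N80659 (iv5 F413687)) (tt N81160 (iv6 F414081)) (tt N79837 F413683))
theorem Q78497 : ∀ i, i < 78497 → P i := stepQ 78496 Q78496 (allL N78496 (tt N44689 (iv1 D158032)) (tt N79839 F258574) (tt N79837 F413680) (tt N59692 (iv3 F365577)) (tt N93254 (iv4 F400147)) (tt N80660 (iv5 F365634)) (tt N59691 F365578) (tt N79838 (iv7 F413677)))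
theorem Q78498 : ∀ i, i < 78498 → P i := stepQ 78497 Q78497 (allL N78497 (tt N79838 (iv1 F258573)) (tt N79837 F258569) (tt N44689 (iv2 D158033)) (tt N50696 F248971) (tt N79797 (iv4 F258391)) (tt N85747 (iv5 F373775)) (tt N111032 (iv6 F474351)) (tt N79839 (iv7 F258571)))
theorem Q78499 : ∀ i, i < 78499 → P i := stepQ 78498 Q78498 (allL N78498 (tt N80062 (iv1 F261156)) (tt N44690 (iv0 D158041)) (tt N80061 F364279) (tt N100922 (iv3 F430978)) (tt N102275 (iv4 F436499)) (tt N104877 (iv5 F447763)) (tt N96917 F414605) (tt N80060 F364277))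
theorem Q78500 : ∀ i, i < 78500 → P i := stepQ 78499 Q78499 (allL N78499 (tt N44690 (iv1 D158042)) (tt N80062 F261158) (tt N80060 (iv2 F364276)) (tt N96934 F414669) (tt N100675 (iv4 F429964)) (tt N111062 D214304) (tt N81017 F364275) (tt N80061 (iv7 F364278)))
theorem Q78501 : ∀ i, i < 78501 → P i := stepQ 78500 Q78500 (allL N78500 (tt N80061 (iv1 F261157)) (tt N80060 F261152) (tt N44690 (iv2 D158043)) (tt N83716 (iv3 F288741)) (tt N46125 F248995) (tt N87167 (iv5 F378602)) (tt N75418 (iv6 F364272)) (tt N80062 (iv7 F261155)))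
theorem Q78502 : ∀ i, i < 78502 → P i := stepQ 78501 Q78501 (allL N78501 (tt N54902 F355823) (tt N54905 F356091) (tt N78537 (iv2 F249059)) (tt N87163 (iv3 F378592)) (tt N49370 F248997) (tt N72464 F357468) (tt N44691 (iv6 D158045)) (tt N87157 (iv7 F378566)))
theorem Q78503 : ∀ i, i < 78503 → P i := stepQ 78502 Q78502 (allL N78502 (tt N44696 F358443) (tt N44694 F358444) (tt N44692 (iv2 D158047)) (tt N111063 D214305) (tt N91901 (iv4 F394868)) (tt N52712 (iv5 F358111)) (tt N80930 F358100) (tt N44693 (iv7 F249002)))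
theorem Q78504 : ∀ i, i < 78504 → P i := stepQ 78503 Q78503 (allL N78503 (tt N88469 (iv1 F383179)) (tt N48367 (iv0 F254195)) (tt N71597 (iv2 F358388)) (tt N44692 (iv3 D158048)) (tt N80209 F262091) (tt N52686 (iv5 F294702)) (tt N71578 F358387) (tt N111064 D214306))
theorem Q78505 : ∀ i, i < 78505 → P i := stepQ 78504 Q78504 (allL N78504 (tt N79343 F254194) (tt N91887 F394840) (tt N91901 (iv2 F394867)) (tt N111065 D214307) (tt N44692 (iv4 D158049)) (tt N88027 (iv5 F381509)) (tt N91907 (iv6 F394910)) (tt N55480 F358422))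
theorem Q78506 : ∀ i, i < 78506 → P i := stepQ 78505 Q78505 (allL N78505 (tt N52711 (iv1 F358114)) (tt N47632 F358113) (tt N52712 F358110) (tt N52686 (iv3 F294701)) (tt N52694 (iv4 F294066)) (tt N44692 (iv5 D158050)) (tt N52698 (iv6 F358112)) (tt N49986 (iv7 F354471)))
theorem Q78507 : ∀ i, i < 78507 → P i := stepQ 78506 Q78506 (allL N78506 (tt N80931 (iv1 F358120)) (tt N80933 (iv0 F358117)) (tt N80930 (iv2 F358119)) (tt N71578 (iv3 F358386)) (tt N91907 (iv4 F394908)) (tt N71577 F358118) (tt N44692 (iv6 D158051)) (tt N80929 F358121))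
theorem Q78508 : ∀ i, i < 78508 → P i := stepQ 78507 Q78507 (allL N78507 (tt N44694 F358089) (tt N44696 F358090) (tt N44693 F249003) (tt N111064 (iv3 F474486)) (tt N55480 F358091) (tt N49986 F358092) (tt N49171 F358093) (tt N44692 (iv7 D158052)))
theorem Q78509 : ∀ i, i < 78509 → P i := stepQ 78508 Q78508 (allL N78508 (tt N100919 F430961) (tt N100922 (iv0 F436502)) (tt N111066 D214308) (tt N44693 (iv3 D158053)) (tt N111067 D214309) (tt N52706 (iv5 F358420)) (tt N52708 F358099) (tt N111063 (iv7 F474483)))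
theorem Q78510 : ∀ i, i < 78510 → P i := stepQ 78509 Q78509 (allL N78509 (tt N81577 (iv1 F348785)) (tt N81573 F343694) (tt N44695 F249006) (tt N86846 (iv3 F377407)) (tt N102354 (iv4 F436869)) (tt N44694 (iv5 D158059)) (tt N104785 (iv6 F447258)) (tt N86863 (iv7 F377483)))
theorem Q78511 : ∀ i, i < 78511 → P i := stepQ 78510 Q78510 (allL N78510 (tt N86863 (iv1 F377484)) (tt N44695 (iv0 D158060)) (tt N81577 (iv2 F348782)) (tt N84678 (iv3 F370182)) (tt N52668 (iv4 F348786)) (tt N78655 F348783) (tt N108511 (iv6 F462898)) (tt N81573 F348784))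
theorem Q78512 : ∀ i, i < 78512 → P i := stepQ 78511 Q78511 (allL N78511 (tt N44695 (iv1 D158061)) (tt N86863 F377485) (tt N81573 (iv2 F348773)) (tt N111068 D214310) (tt N68810 (iv4 F341830)) (tt N78656 (iv5 F348777)) (tt N104392 F445565) (tt N81577 (iv7 F348775)))
theorem Q78513 : ∀ i, i < 78513 → P i := stepQ 78512 Q78512 (allL N78512 (tt N102355 F436875) (tt N102350 (iv0 F436854)) (tt N102354 F436871) (tt N54881 F249007) (tt N44695 (iv4 D158062)) (tt N94793 F405968) (tt N100523 (iv6 F429317)) (tt N86859 (iv7 F377463)))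
theorem Q78514 : ∀ i, i < 78514 → P i := stepQ 78513 Q78513 (allL N78513 (tt N68803 F363612) (tt N68805 F380613) (tt N104785 (iv2 F447257)) (tt N44699 F249008) (tt N100523 (iv4 F429315)) (tt N81030 (iv5 F273059)) (tt N44695 (iv6 D158063)) (tt N104784 (iv7 F447254)))
theorem Q78515 : ∀ i, i < 78515 → P i := stepQ 78514 Q78514 (allL N78514 (tt N104877 (iv1 F447766)) (tt N111062 (iv0 F474477)) (tt N111069 D214311) (tt N44697 (iv3 D158066)) (tt N97193 (iv4 F415825)) (tt N44702 F249012) (tt N111070 D214312) (tt N53061 (iv7 F292605)))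
theorem Q78516 : ∀ i, i < 78516 → P i := stepQ 78515 Q78515 (allL N78515 (tt N85753 F377163) (tt N85757 (iv0 F373811)) (tt N81570 (iv2 F276100)) (tt N111070 (iv3 F474519)) (tt N50487 F249013) (tt N45803 F297237) (tt N44697 (iv6 D158067)) (tt N109765 (iv7 F468510)))
theorem Q78517 : ∀ i, i < 78517 → P i := stepQ 78516 Q78516 (allL N78516 (tt N88468 (iv1 F415855)) (tt N68089 F363219) (tt N104193 (iv2 F444623)) (tt N44698 (iv3 D158068)) (tt N68137 (iv4 F390840)) (tt N44700 F249014) (tt N103227 (iv6 F440669)) (tt N81569 (iv7 F276098)))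
theorem Q78518 : ∀ i, i < 78518 → P i := stepQ 78517 Q78517 (allL N78517 (tt N56427 F360837) (tt N85096 (iv0 F371616)) (tt N53060 (iv2 F292607)) (tt N103227 (iv3 F440667)) (tt N50009 (iv4 F292218)) (tt N103226 F440663) (tt N44698 (iv6 D158069)) (tt N60257 F360838))
theorem Q78519 : ∀ i, i < 78519 → P i := stepQ 78518 Q78518 (allL N78518 (tt N86850 (iv1 F377432)) (tt N44699 (iv0 D158070)) (tt N86848 F377420) (tt N56638 (iv3 F355121)) (tt N83757 F355120) (tt N91999 (iv5 F395313)) (tt N111071 D214313) (tt N86849 (iv7 F377418)))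
theorem Q78520 : ∀ i, i < 78520 → P i := stepQ 78519 Q78519 (allL N78519 (tt N44699 (iv1 D158071)) (tt N86850 F377431) (tt N86849 (iv2 F377422)) (tt N98278 (iv3 F420297)) (tt N83758 F355324) (tt N96605 (iv5 F413153)) (tt N98277 F420295) (tt N86848 F377421))
theorem Q78521 : ∀ i, i < 78521 → P i := stepQ 78520 Q78520 (allL N78520 (tt N86849 (iv1 F377414)) (tt N86848 F377423) (tt N86850 (iv2 F377428)) (tt N104784 (iv3 F447252)) (tt N54884 F249016) (tt N81037 (iv5 F273065)) (tt N69593 F352916) (tt N44699 (iv7 D158072)))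
theorem Q78522 : ∀ i, i < 78522 → P i := stepQ 78521 Q78521 (allL N78521 (tt N81568 (iv1 F276091)) (tt N44700 (iv0 D158092)) (tt N81567 F276093) (tt N50705 F249043) (tt N111072 D214314) (tt N103993 (iv5 F443687)) (tt N95464 (iv6 F408279)) (tt N79879 (iv7 F258688)))
theorem Q78523 : ∀ i, i < 78523 → P i := stepQ 78522 Q78522 (allL N78522 (tt N44700 (iv1 D158093)) (tt N81568 F276096) (tt N79879 (iv2 F276095)) (tt N106719 (iv3 F455393)) (tt N111073 D214315) (tt N106718 F455390) (tt N81165 (iv6 F435775)) (tt N81567 F276094))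
theorem Q78524 : ∀ i, i < 78524 → P i := stepQ 78523 Q78523 (allL N78523 (tt N81567 (iv1 F276092)) (tt N79879 F258690) (tt N44700 (iv2 D158094)) (tt N81564 (iv3 F276076)) (tt N82381 (iv4 F280642)) (tt N104193 (iv5 F444627)) (tt N103341 F441200) (tt N81568 (iv7 F276090)))
theorem Q78525 : ∀ i, i < 78525 → P i := stepQ 78524 Q78524 (allL N78524 (tt N103334 F441185) (tt N103234 (iv0 F440703)) (tt N103341 (iv2 F441199)) (tt N44701 F249044) (tt N82382 (iv4 F280646)) (tt N103228 (iv5 F440673)) (tt N44700 (iv6 D158095)) (tt N100716 (iv7 F430162)))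
theorem Q78526 : ∀ i, i < 78526 → P i := stepQ 78525 Q78525 (allL N78525 (tt N100728 (iv1 F430186)) (tt N96957 (iv0 F414775)) (tt N81566 (iv2 F276087)) (tt N103228 (iv3 F440671)) (tt N111074 D214316) (tt N44701 (iv5 D158098)) (tt N103226 F440664) (tt N100717 (iv7 F430165)))
theorem Q78527 : ∀ i, i < 78527 → P i := stepQ 78526 Q78526 (allL N78526 (tt N81564 (iv1 F276079)) (tt N44702 (iv0 D158100)) (tt N81563 (iv2 F363848)) (tt N111075 D214317) (tt N100816 (iv4 F430609)) (tt N52145 (iv5 F378610)) (tt N81169 F378021) (tt N81562 F363847))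
theorem Q78528 : ∀ i, i < 78528 → P i := stepQ 78527 Q78527 (allL N78527 (tt N81563 F276075) (tt N81562 F276073) (tt N44702 (iv2 D158102)) (tt N81568 (iv3 F276089)) (tt N45810 (iv4 F299313)) (tt N111069 (iv5 F474513)) (tt N45800 F297236) (tt N81564 (iv7 F276078)))
theorem Q78529 : ∀ i, i < 78529 → P i := stepQ 78528 Q78528 (allL N78528 (tt N95458 F408251) (tt N111076 D214318) (tt N111077 D214319) (tt N44703 (iv3 D158107)) (tt N59448 (iv4 F365858)) (tt N96936 (iv5 F414675)) (tt N101960 F435097) (tt N59728 (iv7 F327737)))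
theorem Q78530 : ∀ i, i < 78530 → P i := stepQ 78529 Q78529 (allL N78529 (tt N95347 (iv1 F407947)) (tt N58742 F365759) (tt N59732 (iv2 F327415)) (tt N101960 F435098) (tt N102019 (iv4 F435373)) (tt N96958 (iv5 F414777)) (tt N44703 (iv6 D158110)) (tt N95309 (iv7 F407809)))
theorem Q78531 : ∀ i, i < 78531 → P i := stepQ 78530 Q78530 (allL N78530 (tt N50702 F258622) (tt N50705 F258623) (tt N78473 F261344) (tt N44704 (iv3 D158112)) (tt N58820 (iv4 F327246)) (tt N96939 (iv5 F414686)) (tt N95308 (iv6 F407802)) (tt N59730 (iv7 F327413)))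
theorem Q78532 : ∀ i, i < 78532 → P i := stepQ 78531 Q78531 (allL N78531 (tt N59734 (iv1 F327739)) (tt N59733 (iv0 F327738)) (tt N44706 F249055) (tt N81578 (iv3 F276109)) (tt N104982 (iv4 F448258)) (tt N44705 (iv5 D158116)) (tt N111078 D214320) (tt N59688 (iv7 F327736)))
theorem Q78533 : ∀ i, i < 78533 → P i := stepQ 78532 Q78532 (allL N78532 (tt N59688 (iv1 F327735)) (tt N44706 (iv0 D158117)) (tt N59734 (iv2 F365719)) (tt N111079 D214321) (tt N97258 (iv4 F416108)) (tt N59861 F365718) (tt N73629 (iv6 F365720)) (tt N59733 (iv7 F365721)))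
theorem Q78534 : ∀ i, i < 78534 → P i := stepQ 78533 Q78533 (allL N78533 (tt N44706 (iv1 D158118)) (tt N59688 (iv0 F327734)) (tt N59733 (iv2 F365722)) (tt N82473 (iv3 F365725)) (tt N111080 D214322) (tt N59896 F365723) (tt N88329 (iv6 F382608)) (tt N59734 F365724))
theorem Q78535 : ∀ i, i < 78535 → P i := stepQ 78534 Q78534 (allL N78534 (tt N104981 (iv1 F448255)) (tt N52064 (iv0 F369350)) (tt N104982 (iv2 F448256)) (tt N84453 (iv3 F369347)) (tt N44706 (iv4 D158119)) (tt N70771 (iv5 F333566)) (tt N109741 (iv6 F468385)) (tt N59735 (iv7 F327741)))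
theorem Q78536 : ∀ i, i < 78536 → P i := stepQ 78535 Q78535 (allL N78535 (tt N111081 D214323) (tt N54857 F468388) (tt N111078 (iv2 F474556)) (tt N44709 F249056) (tt N109741 (iv4 F468383)) (tt N81180 (iv5 F273550)) (tt N44706 (iv6 D158120)) (tt N109740 (iv7 F468378)))
theorem Q78537 : ∀ i, i < 78537 → P i := stepQ 78536 Q78536 (allL N78536 (tt N103993 (iv1 F443691)) (tt N106718 (iv0 F455388)) (tt N97199 (iv2 F415850)) (tt N44707 (iv3 D158121)) (tt N92206 (iv4 F396247)) (tt N49303 F249057) (tt N60282 (iv6 F332882)) (tt N52787 F249058))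
theorem Q78538 : ∀ i, i < 78538 → P i := stepQ 78537 Q78537 (allL N78537 (tt N86797 F377239) (tt N73627 (iv0 F356107)) (tt N78501 F249059) (tt N60282 F332883) (tt N49319 F249060) (tt N74055 F357460) (tt N44707 (iv6 D158122)) (tt N91252 (iv7 F392413)))
theorem Q78539 : ∀ i, i < 78539 → P i := stepQ 78538 Q78538 (allL N78538 (tt N81583 (iv1 F276117)) (tt N44709 (iv0 D158125)) (tt N81581 F369279) (tt N111082 D214324) (tt N51592 F354339) (tt N111083 D214325) (tt N111084 D214326) (tt N81582 (iv7 F369278)))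
theorem Q78540 : ∀ i, i < 78540 → P i := stepQ 78539 Q78539 (allL N78539 (tt N44709 (iv1 D158126)) (tt N81583 F276116) (tt N81582 (iv2 F369280)) (tt N111085 D214327) (tt N51593 F369281) (tt N111086 D214328) (tt N60263 (iv6 F369284)) (tt N81581 F369282))
theorem Q78541 : ∀ i, i < 78541 → P i := stepQ 78540 Q78540 (allL N78540 (tt N81582 (iv1 F276112)) (tt N81581 F276115) (tt N81583 (iv2 F276113)) (tt N109740 (iv3 F468376)) (tt N84457 (iv4 F369382)) (tt N81189 (iv5 F273558)) (tt N81585 (iv6 F276151)) (tt N44709 (iv7 D158127)))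
theorem Q78542 : ∀ i, i < 78542 → P i := stepQ 78541 Q78541 (allL N78541 (tt N44710 (iv1 D158128)) (tt N52380 F249065) (tt N44756 F249070) (tt N44774 (iv3 F249069)) (tt N75592 (iv4 F306160)) (tt N46082 F249068) (tt N68585 (iv6 F335253)) (tt N52821 F249066))
theorem Q78543 : ∀ i, i < 78543 → P i := stepQ 78542 Q78542 (allL N78542 (tt N61036 F249076) (tt N64168 F249077) (tt N52857 (iv2 F304320)) (tt N79125 (iv3 F252766)) (tt N64708 F249075) (tt N44711 (iv5 D158130)) (tt N52852 (iv6 F346299)) (tt N77337 F249074))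
theorem Q78544 : ∀ i, i < 78544 → P i := stepQ 78543 Q78543 (allL N78543 (tt N66880 F353879) (tt N79397 F315281) (tt N68592 (iv2 F306579)) (tt N44715 F249086) (tt N47183 F249087) (tt N45885 F341884) (tt N44713 (iv6 D158137)) (tt N80690 (iv7 F354005)))
theorem Q78545 : ∀ i, i < 78545 → P i := stepQ 78544 Q78544 (allL N78544 (tt N64168 F249092) (tt N61036 F249093) (tt N77337 F249088) (tt N51850 F249089) (tt N64709 F249090) (tt N44714 (iv5 D158138)) (tt N111087 D214329) (tt N52857 (iv7 F304322)))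
theorem Q78546 : ∀ i, i < 78546 → P i := stepQ 78545 Q78545 (allL N78545 (tt N52833 F353096) (tt N111012 (iv0 F474247)) (tt N101526 (iv2 F433254)) (tt N45885 F363226) (tt N101495 (iv4 F433142)) (tt N44715 (iv5 D158142)) (tt N54301 F249095) (tt N82068 (iv7 F363227)))
theorem Q78547 : ∀ i, i < 78547 → P i := stepQ 78546 Q78546 (allL N78546 (tt N100340 F428489) (tt N104810 F447407) (tt N68578 (iv2 F366446)) (tt N104796 (iv3 F447315)) (tt N76501 F366445) (tt N100352 F428549) (tt N44719 (iv6 D158157)) (tt N111088 D214330))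
theorem Q78548 : ∀ i, i < 78548 → P i := stepQ 78547 Q78547 (allL N78547 (tt N68257 F331836) (tt N80319 (iv0 F308591)) (tt N44794 F273742) (tt N44792 F307486) (tt N85009 (iv4 F371362)) (tt N44721 (iv5 D158174)) (tt N68241 F336052) (tt N44792 F273743))
theorem Q78549 : ∀ i, i < 78549 → P i := stepQ 78548 Q78548 (allL N78548 (tt N80300 (iv1 F361265)) (tt N80294 F273744) (tt N44795 F273745) (tt N44793 F307487) (tt N52891 (iv4 F274636)) (tt N80884 (iv5 F309538)) (tt N44721 (iv6 D158175)) (tt N81218 (iv7 F273746)))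
theorem Q78550 : ∀ i, i < 78550 → P i := stepQ 78549 Q78549 (allL N78549 (tt N91341 F392811) (tt N91270 (iv0 F392479)) (tt N91339 F392797) (tt N44726 F249223) (tt N68538 (iv4 F314727)) (tt N80134 (iv5 F365699)) (tt N44724 (iv6 D158209)) (tt N80379 F365700))
theorem Q78551 : ∀ i, i < 78551 → P i := stepQ 78550 Q78550 (allL N78550 (tt N104077 F444063) (tt N80078 (iv0 F377380)) (tt N44827 F249249) (tt N67604 (iv3 F365901)) (tt N86836 F377379) (tt N111089 D214331) (tt N44729 (iv6 D158220)) (tt N71742 F365898))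
theorem Q78552 : ∀ i, i < 78552 → P i := stepQ 78551 Q78551 (allL N78551 (tt N46914 F249252) (tt N46913 F249253) (tt N44829 F249250) (tt N79225 (iv3 F331725)) (tt N96555 (iv4 F412965)) (tt N44730 (iv5 D158221)) (tt N111089 (iv6 F474607)) (tt N45444 F298787))
theorem Q78553 : ∀ i, i < 78553 → P i := stepQ 78552 Q78552 (allL N78552 (tt N46898 F298223) (tt N44733 (iv0 D158230)) (tt N46896 F298224) (tt N76899 F343393) (tt N79273 F298225) (tt N80965 F298226) (tt N105683 (iv6 F451233)) (tt N46897 F298227))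
theorem Q78554 : ∀ i, i < 78554 → P i := stepQ 78553 Q78553 (allL N78553 (tt N44733 (iv1 D158231)) (tt N46898 F298228) (tt N46897 F298229) (tt N88529 F383416) (tt N79274 F298230) (tt N53738 F298231) (tt N109004 F464866) (tt N46896 F298232))
theorem Q78555 : ∀ i, i < 78555 → P i := stepQ 78554 Q78554 (allL N78554 (tt N44739 (iv1 D158315)) (tt N44744 F249434) (tt N44742 (iv2 F249436)) (tt N88481 (iv3 F383225)) (tt N80954 (iv4 F344389)) (tt N81526 (iv5 F275818)) (tt N91341 (iv6 F392810)) (tt N44741 F249435))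
theorem Q78556 : ∀ i, i < 78556 → P i := stepQ 78555 Q78555 (allL N78555 (tt N44742 (iv1 F249442)) (tt N44741 F249443) (tt N44744 F249439) (tt N46789 (iv3 F300705)) (tt N67960 (iv4 F305687)) (tt N82338 F347489) (tt N45432 F298828) (tt N44739 (iv7 D158317)))
theorem Q78557 : ∀ i, i < 78557 → P i := stepQ 78556 Q78556 (allL N78556 (tt N68465 (iv1 F315779)) (tt N68468 F337610) (tt N47578 F249447) (tt N44746 F249448) (tt N47022 F249449) (tt N103250 (iv5 F440790)) (tt N46887 F249450) (tt N44740 (iv7 D158321)))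
theorem Q78558 : ∀ i, i < 78558 → P i := stepQ 78557 Q78557 (allL N78557 (tt N81517 F275781) (tt N80368 (iv0 F303728)) (tt N81527 (iv2 F275813)) (tt N101154 (iv3 F431971)) (tt N97421 (iv4 F416824)) (tt N44741 (iv5 D158323)) (tt N97420 F416820) (tt N81526 F275817))
theorem Q78559 : ∀ i, i < 78559 → P i := stepQ 78558 Q78558 (allL N78558 (tt N105348 F449819) (tt N80337 (iv0 F347334)) (tt N81070 F273323) (tt N110132 (iv3 F470108)) (tt N104238 F444871) (tt N81055 F273265) (tt N44741 (iv6 D158324)) (tt N81069 (iv7 F273330)))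
theorem Q78560 : ∀ i, i < 78560 → P i := stepQ 78559 Q78559 (allL N78559 (tt N80368 (iv1 F303729)) (tt N81517 F275819) (tt N81526 F275816) (tt N46149 F325401) (tt N97538 (iv4 F417304)) (tt N44742 (iv5 D158325)) (tt N111090 D214332) (tt N81527 (iv7 F275815)))
theorem Q78561 : ∀ i, i < 78561 → P i := stepQ 78560 Q78560 (allL N78560 (tt N80379 F346785) (tt N91339 (iv0 F392800)) (tt N91341 (iv2 F392807)) (tt N99956 F426948) (tt N91310 (iv4 F392661)) (tt N81542 (iv5 F346784)) (tt N44742 (iv6 D158326)) (tt N91270 (iv7 F392477)))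
theorem Q78562 : ∀ i, i < 78562 → P i := stepQ 78561 Q78561 (allL N78561 (tt N82338 F347495) (tt N44743 (iv0 D158327)) (tt N82365 (iv2 F347499)) (tt N80778 F347502) (tt N102413 (iv4 F437131)) (tt N47586 F347496) (tt N76028 F347497) (tt N82366 F347498))
theorem Q78563 : ∀ i, i < 78563 → P i := stepQ 78562 Q78562 (allL N78562 (tt N82366 F345777) (tt N82365 (iv0 F346960)) (tt N82338 (iv2 F347501)) (tt N44750 F249452) (tt N103417 (iv4 F441532)) (tt N44744 F249453) (tt N111091 D214333) (tt N44743 (iv7 D158330)))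
theorem Q78564 : ∀ i, i < 78564 → P i := stepQ 78563 Q78563 (allL N78563 (tt N44745 (iv1 D158332)) (tt N46846 F249454) (tt N46844 F275014) (tt N69300 F362986) (tt N60623 (iv4 F327544)) (tt N53561 (iv5 F249455)) (tt N60383 F362985) (tt N46843 F275015))
theorem Q78565 : ∀ i, i < 78565 → P i := stepQ 78564 Q78564 (allL N78564 (tt N46844 (iv1 F249461)) (tt N46843 F249462) (tt N46846 F249458) (tt N103250 (iv3 F440789)) (tt N65616 (iv4 F332677)) (tt N44746 F249459) (tt N111092 D214334) (tt N44745 (iv7 D158334)))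
theorem Q78566 : ∀ i, i < 78566 → P i := stepQ 78565 Q78565 (allL N78565 (tt N60388 F355865) (tt N90504 F389867) (tt N46859 F249465) (tt N45903 F334384) (tt N60544 F345734) (tt N63560 (iv5 F334400)) (tt N44747 (iv6 D158336)) (tt N45895 F334385))
theorem Q78567 : ∀ i, i < 78567 → P i := stepQ 78566 Q78566 (allL N78566 (tt N46796 F302490) (tt N44749 (iv0 D158339)) (tt N46861 (iv2 F249472)) (tt N102339 (iv3 F436796)) (tt N44771 F249470) (tt N78570 (iv5 F249487)) (tt N81209 (iv6 F333790)) (tt N46862 (iv7 F249473)))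
theorem Q78568 : ∀ i, i < 78568 → P i := stepQ 78567 Q78567 (allL N78567 (tt N102279 F436529) (tt N91857 (iv0 F394729)) (tt N46794 (iv2 F300663)) (tt N111091 (iv3 F474615)) (tt N80740 (iv4 F270729)) (tt N45434 F298396) (tt N44750 (iv6 D158342)) (tt N111092 (iv7 F474625)))
theorem Q78569 : ∀ i, i < 78569 → P i := stepQ 78568 Q78568 (allL N78568 (tt N95783 F409621) (tt N80876 F409623) (tt N96491 F412740) (tt N44752 F249483) (tt N111093 D214335) (tt N44751 (iv5 D158345)) (tt N111094 D214336) (tt N46867 F249484))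
theorem Q78570 : ∀ i, i < 78570 → P i := stepQ 78569 Q78569 (allL N78569 (tt N111088 (iv1 F474604)) (tt N68578 (iv0 F384812)) (tt N100340 (iv2 F428486)) (tt N44753 F249485) (tt N81970 F302492) (tt N81477 (iv5 F275367)) (tt N44751 (iv6 D158346)) (tt N104810 (iv7 F447405)))
theorem Q78571 : ∀ i, i < 78571 → P i := stepQ 78570 Q78570 (allL N78570 (tt N80369 (iv1 F303733)) (tt N80372 (iv0 F303742)) (tt N46672 F249486) (tt N111095 D214337) (tt N44752 (iv4 D158347)) (tt N78566 F249487) (tt N111096 D214338) (tt N46869 F249488))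
theorem Q78572 : ∀ i, i < 78572 → P i := stepQ 78571 Q78571 (allL N78571 (tt N45705 F333798) (tt N81776 F333799) (tt N46673 F249489) (tt N111094 (iv3 F474632)) (tt N111096 (iv4 F474643)) (tt N81478 (iv5 F275372)) (tt N44752 (iv6 D158348)) (tt N81775 (iv7 F339185)))
theorem Q78573 : ∀ i, i < 78573 → P i := stepQ 78572 Q78572 (allL N78572 (tt N47387 F343953) (tt N46983 F343954) (tt N54297 F343955) (tt N44760 (iv3 D158383)) (tt N75805 (iv4 F306921)) (tt N108260 (iv5 F461742)) (tt N66372 F343956) (tt N47443 F249546))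
theorem Q78574 : ∀ i, i < 78574 → P i := stepQ 78573 Q78573 (allL N78573 (tt N78161 (iv1 F346425)) (tt N47470 F346429) (tt N47441 F249547) (tt N108260 (iv3 F461744)) (tt N99606 F425387) (tt N44760 (iv5 D158384)) (tt N109299 (iv6 F466264)) (tt N47444 F249548))
theorem Q78575 : ∀ i, i < 78575 → P i := stepQ 78574 Q78574 (allL N78574 (tt N47470 F336431) (tt N78161 (iv0 F346424)) (tt N47444 F249553) (tt N100395 (iv3 F428781)) (tt N81809 F336432) (tt N44761 (iv5 D158386)) (tt N47264 F306605) (tt N47441 F249554))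
theorem Q78576 : ∀ i, i < 78576 → P i := stepQ 78575 Q78575 (allL N78575 (tt N47447 (iv1 F249562)) (tt N44762 (iv0 D158388)) (tt N47445 (iv2 F262968)) (tt N63711 F339382) (tt N65161 (iv4 F342139)) (tt N80300 (iv5 F361268)) (tt N82587 (iv6 F344807)) (tt N47446 F262967))
theorem Q78577 : ∀ i, i < 78577 → P i := stepQ 78576 Q78576 (allL N78576 (tt N44762 (iv1 D158389)) (tt N47447 F249557) (tt N47446 F262965) (tt N58851 (iv3 F361274)) (tt N65156 F336443) (tt N80294 (iv5 F262964)) (tt N58849 F332205) (tt N47445 (iv7 F262966)))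
theorem Q78578 : ∀ i, i < 78578 → P i := stepQ 78577 Q78577 (allL N78577 (tt N47446 (iv1 F249563)) (tt N47445 F249564) (tt N47447 F249560) (tt N46998 F313112) (tt N46795 F298187) (tt N44763 F249561) (tt N79270 F298188) (tt N44762 (iv7 D158391)))
theorem Q78579 : ∀ i, i < 78579 → P i := stepQ 78578 Q78578 (allL N78578 (tt N109007 F464888) (tt N82589 F346568) (tt N46688 F298184) (tt N100668 (iv3 F429926)) (tt N46786 F298185) (tt N47232 F249568) (tt N44764 (iv6 D158394)) (tt N109008 (iv7 F464894)))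
theorem Q78580 : ∀ i, i < 78580 → P i := stepQ 78579 Q78579 (allL N78579 (tt N80690 F344411) (tt N68592 (iv0 F334243)) (tt N66880 F353998) (tt N44765 (iv3 D158406)) (tt N68034 (iv4 F306365)) (tt N46145 F320006) (tt N104806 F447381) (tt N79397 (iv7 F318581)))
theorem Q78581 : ∀ i, i < 78581 → P i := stepQ 78580 Q78580 (allL N78580 (tt N46982 F342054) (tt N54302 F342055) (tt N54300 F342049) (tt N44768 (iv3 D158420)) (tt N82557 (iv4 F282516)) (tt N80007 (iv5 F342065)) (tt N77612 F347052) (tt N47433 F249603))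
theorem Q78582 : ∀ i, i < 78582 → P i := stepQ 78581 Q78581 (allL N78581 (tt N45858 F322734) (tt N47272 F305497) (tt N47435 F249604) (tt N80007 (iv3 F342064)) (tt N67275 F345744) (tt N44768 (iv5 D158421)) (tt N69406 (iv6 F334671)) (tt N47434 F249605))
theorem Q78583 : ∀ i, i < 78583 → P i := stepQ 78582 Q78582 (allL N78582 (tt N46423 F307531) (tt N47486 F274615) (tt N47436 F249606) (tt N77612 (iv3 F347053)) (tt N49567 F249607) (tt N69407 (iv5 F334629)) (tt N44768 (iv6 D158422)) (tt N54320 (iv7 F249608)))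
theorem Q78584 : ∀ i, i < 78584 → P i := stepQ 78583 Q78583 (allL N78583 (tt N47440 (iv1 F249616)) (tt N44769 (iv0 D158423)) (tt N47437 (iv2 F271831)) (tt N68490 F352479) (tt N67332 (iv4 F333047)) (tt N45517 F303267) (tt N81828 F353628) (tt N47438 F271830))
theorem Q78585 : ∀ i, i < 78585 → P i := stepQ 78584 Q78584 (allL N78584 (tt N44769 (iv1 D158424)) (tt N47440 F249610) (tt N47438 F271828) (tt N76722 F303270) (tt N67333 (iv4 F333042)) (tt N45518 F303271) (tt N95101 (iv6 F407041)) (tt N47437 (iv7 F271829)))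
theorem Q78586 : ∀ i, i < 78586 → P i := stepQ 78585 Q78585 (allL N78585 (tt N47438 (iv1 F249617)) (tt N47437 F249618) (tt N47440 F249613) (tt N45992 F322596) (tt N97467 (iv4 F416972)) (tt N44770 F249615) (tt N47901 F322597) (tt N44769 (iv7 D158426)))
theorem Q78587 : ∀ i, i < 78587 → P i := stepQ 78586 Q78586 (allL N78586 (tt N66878 F350690) (tt N44776 (iv0 F249621)) (tt N100532 F429361) (tt N44771 (iv3 D158427)) (tt N80108 F323856) (tt N47412 F249619) (tt N81207 (iv6 F333789)) (tt N52835 F249620))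
theorem Q78588 : ∀ i, i < 78588 → P i := stepQ 78587 Q78587 (allL N78587 (tt N66842 (iv1 F305569)) (tt N44775 (iv0 D158441)) (tt N46826 F309960) (tt N60071 (iv3 F340960)) (tt N46790 F270322) (tt N60068 F344922) (tt N102803 (iv6 F438709)) (tt N46823 F309961))
theorem Q78589 : ∀ i, i < 78589 → P i := stepQ 78588 Q78588 (allL N78588 (tt N44775 (iv1 D158442)) (tt N66842 F307597) (tt N46823 F314493) (tt N52824 F307598) (tt N46791 F307599) (tt N82350 (iv5 F342100)) (tt N66430 (iv6 F345593)) (tt N46826 F314494))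
theorem Q78590 : ∀ i, i < 78590 → P i := stepQ 78589 Q78589 (allL N78589 (tt N82376 F332000) (tt N82519 (iv0 F348554)) (tt N55524 (iv2 F335306)) (tt N44776 F249643) (tt N47617 F335292) (tt N44775 (iv5 D158443)) (tt N63205 F249644) (tt N87027 (iv7 F378087)))
theorem Q78591 : ∀ i, i < 78591 → P i := stepQ 78590 Q78590 (allL N78590 (tt N44776 (iv1 D158444)) (tt N66878 F350692) (tt N52835 F249646) (tt N111012 (iv3 F474243)) (tt N80107 (iv4 F346952)) (tt N47341 (iv5 F249645)) (tt N79434 F346953) (tt N100532 (iv7 F429363)))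
theorem Q78592 : ∀ i, i < 78592 → P i := stepQ 78591 Q78591 (allL N78591 (tt N101873 (iv1 F434776)) (tt N64148 F330729) (tt N74527 F346956) (tt N46236 F346954) (tt N44776 (iv4 D158445)) (tt N84137 (iv5 F368267)) (tt N68421 (iv6 F346955)) (tt N84136 (iv7 F368262)))
theorem Q78593 : ∀ i, i < 78593 → P i := stepQ 78592 Q78592 (allL N78592 (tt N44777 (iv1 D158447)) (tt N44785 F249647) (tt N44783 F344397) (tt N68034 F344398) (tt N68556 F344399) (tt N111097 D214339) (tt N108725 (iv6 F463713)) (tt N44782 F344400))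
theorem Q78594 : ∀ i, i < 78594 → P i := stepQ 78593 Q78593 (allL N78593 (tt N104224 (iv1 F444793)) (tt N68030 (iv0 F347046)) (tt N44784 F249648) (tt N66365 (iv3 F347076)) (tt N67775 F366307) (tt N44777 (iv5 D158448)) (tt N44779 F249649) (tt N104681 (iv7 F446847)))
theorem Q78595 : ∀ i, i < 78595 → P i := stepQ 78594 Q78594 (allL N78594 (tt N44783 (iv1 F249652)) (tt N44782 F249653) (tt N44785 F249650) (tt N46083 F300206) (tt N46638 F302949) (tt N104681 (iv5 F446846)) (tt N46082 F300207) (tt N44777 (iv7 D158449)))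
theorem Q78596 : ∀ i, i < 78596 → P i := stepQ 78595 Q78595 (allL N78595 (tt N44781 (iv1 D158458)) (tt N46638 F300254) (tt N46405 F301225) (tt N46651 F300255) (tt N46404 (iv4 F303002)) (tt N73777 F334996) (tt N99624 (iv6 F425462)) (tt N46639 F300257))
theorem Q78597 : ∀ i, i < 78597 → P i := stepQ 78596 Q78596 (allL N78596 (tt N46405 F301226) (tt N46639 F300253) (tt N46638 F304005) (tt N63326 F301227) (tt N44785 F249673) (tt N77551 (iv5 F346214)) (tt N46394 F301228) (tt N44781 (iv7 D158460)))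
theorem Q78598 : ∀ i, i < 78598 → P i := stepQ 78597 Q78597 (allL N78597 (tt N80285 (iv1 F351666)) (tt N96997 (iv0 F420358)) (tt N76767 (iv2 F366829)) (tt N104601 F446490) (tt N111098 D214340) (tt N44782 (iv5 D158464)) (tt N104848 (iv6 F447590)) (tt N111097 (iv7 F474650)))
theorem Q78599 : ∀ i, i < 78599 → P i := stepQ 78598 Q78598 (allL N78598 (tt N96997 (iv1 F420359)) (tt N80285 (iv0 F351665)) (tt N111097 (iv2 F474648)) (tt N76592 (iv3 F366832)) (tt N111099 D214341) (tt N44783 (iv5 D158469)) (tt N111100 D214342) (tt N76767 F366831))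
theorem Q78600 : ∀ i, i < 78600 → P i := stepQ 78599 Q78599 (allL N78599 (tt N44784 (iv1 D158472)) (tt N104681 (iv0 F446848)) (tt N68030 F347043) (tt N66229 (iv3 F347021)) (tt N103802 F442883) (tt N77611 (iv5 F347023)) (tt N66227 F347024) (tt N104224 (iv7 F444791)))
theorem Q78601 : ∀ i, i < 78601 → P i := stepQ 78600 Q78600 (allL N78600 (tt N66388 F347025) (tt N66387 F347026) (tt N62057 (iv2 F347028)) (tt N66419 (iv3 F347029)) (tt N103594 (iv4 F442175)) (tt N62053 (iv5 F347030)) (tt N44786 (iv6 D158483)) (tt N66386 F347027))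
theorem Q78602 : ∀ i, i < 78602 → P i := stepQ 78601 Q78601 (allL N78601 (tt N68252 F351652) (tt N96967 (iv0 F414836)) (tt N96993 (iv2 F414961)) (tt N66396 F351670) (tt N103595 (iv4 F442181)) (tt N58193 (iv5 F351661)) (tt N44789 (iv6 D158491)) (tt N58192 F351667))
theorem Q78603 : ∀ i, i < 78603 → P i := stepQ 78602 Q78602 (allL N78602 (tt N67916 F366569) (tt N104783 (iv0 F447249)) (tt N67961 (iv2 F315346)) (tt N67967 F366568) (tt N103800 (iv4 F442875)) (tt N81292 (iv5 F274136)) (tt N44791 (iv6 D158497)) (tt N111101 D214343))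
theorem Q78604 : ∀ i, i < 78604 → P i := stepQ 78603 Q78603 (allL N78603 (tt N44792 (iv1 D158517)) (tt N44794 F249704) (tt N68257 F331834) (tt N96997 (iv3 F414972)) (tt N86012 (iv4 F374871)) (tt N80323 (iv5 F307529)) (tt N68249 (iv6 F342171)) (tt N80319 (iv7 F308594)))
theorem Q78605 : ∀ i, i < 78605 → P i := stepQ 78604 Q78604 (allL N78604 (tt N44793 (iv1 D158522)) (tt N80321 (iv0 F308606)) (tt N61581 (iv2 F334794)) (tt N68491 (iv3 F357116)) (tt N76484 (iv4 F338064)) (tt N47465 (iv5 F272024)) (tt N45517 F303268) (tt N80320 (iv7 F308604)))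
theorem Q78606 : ∀ i, i < 78606 → P i := stepQ 78605 Q78605 (allL N78605 (tt N56204 F340902) (tt N85008 F371358) (tt N85009 (iv2 F371361)) (tt N70562 F340916) (tt N44794 (iv4 D158531)) (tt N61153 (iv5 F340913)) (tt N85004 (iv6 F371339)) (tt N50894 F340911))
theorem Q78607 : ∀ i, i < 78607 → P i := stepQ 78606 Q78606 (allL N78606 (tt N81218 (iv1 F273720)) (tt N44795 (iv0 D158533)) (tt N80300 (iv2 F361266)) (tt N108728 (iv3 F463725)) (tt N54264 (iv4 F249714)) (tt N47445 F249711) (tt N80297 (iv6 F304817)) (tt N80294 (iv7 F262969)))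
theorem Q78608 : ∀ i, i < 78608 → P i := stepQ 78607 Q78607 (allL N78607 (tt N80294 F272028) (tt N80300 (iv0 F361264)) (tt N81218 F273723) (tt N59755 F361270) (tt N88649 (iv4 F383705)) (tt N74755 (iv5 F346421)) (tt N80321 (iv6 F308611)) (tt N44795 (iv7 D158536)))
theorem Q78609 : ∀ i, i < 78609 → P i := stepQ 78608 Q78608 (allL N78608 (tt N67944 F360183) (tt N56274 (iv0 F339449)) (tt N68047 F337568) (tt N74880 (iv3 F337565)) (tt N44796 (iv4 D158539)) (tt N56324 (iv5 F356349)) (tt N74879 F364112) (tt N60779 (iv7 F337566)))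
theorem Q78610 : ∀ i, i < 78610 → P i := stepQ 78609 Q78609 (allL N78609 (tt N54320 (iv1 F249725)) (tt N47436 F249722) (tt N46423 F307532) (tt N47486 F311716) (tt N53129 F249721) (tt N44796 (iv5 D158540)) (tt N47483 F311717) (tt N47486 (iv7 F274679)))
theorem Q78611 : ∀ i, i < 78611 → P i := stepQ 78610 Q78610 (allL N78610 (tt N56355 (iv1 F361989)) (tt N67957 (iv0 F336080)) (tt N62398 F336044) (tt N60778 F337562) (tt N74879 (iv4 F364113)) (tt N66299 (iv5 F330917)) (tt N44796 (iv6 D158541)) (tt N73414 F361990))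
theorem Q78612 : ∀ i, i < 78612 → P i := stepQ 78611 Q78611 (allL N78611 (tt N67936 F362739) (tt N44797 (iv0 D158546)) (tt N104758 (iv2 F447136)) (tt N81409 F354876) (tt N70552 (iv4 F344095)) (tt N92228 (iv5 F396367)) (tt N83665 (iv6 F344106)) (tt N85059 (iv7 F371489)))
theorem Q78613 : ∀ i, i < 78613 → P i := stepQ 78612 Q78612 (allL N78612 (tt N44797 (iv1 D158547)) (tt N67936 (iv0 F339466)) (tt N85059 (iv2 F371485)) (tt N70820 F339461) (tt N54353 F272667) (tt N61265 F339464) (tt N50943 (iv6 F339462)) (tt N104758 (iv7 F447132)))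
theorem Q78614 : ∀ i, i < 78614 → P i := stepQ 78613 Q78613 (allL N78613 (tt N49881 F339465) (tt N84737 F370425) (tt N84736 (iv2 F370421)) (tt N100769 (iv3 F430381)) (tt N111102 D214344) (tt N44797 (iv5 D158549)) (tt N100768 F430379) (tt N84735 F370416))
theorem Q78615 : ∀ i, i < 78615 → P i := stepQ 78614 Q78614 (allL N78614 (tt N100073 F427444) (tt N111103 D214345) (tt N68038 F358457) (tt N46662 F304271) (tt N44799 F249761) (tt N90393 F389496) (tt N44798 (iv6 D158578)) (tt N79159 F304272))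
theorem Q78616 : ∀ i, i < 78616 → P i := stepQ 78615 Q78615 (allL N78615 (tt N68040 F342103) (tt N44799 (iv0 D158583)) (tt N52831 (iv2 F351719)) (tt N66430 F345592) (tt N110265 (iv4 F470723)) (tt N81474 (iv5 F344756)) (tt N52824 F342102) (tt N68039 (iv7 F351721)))
theorem Q78617 : ∀ i, i < 78617 → P i := stepQ 78616 Q78616 (allL N78616 (tt N44799 (iv1 D158584)) (tt N68040 (iv0 F346541)) (tt N68039 F351722) (tt N104797 F447328) (tt N110263 (iv4 F470709)) (tt N81475 (iv5 F346540)) (tt N104811 (iv6 F447410)) (tt N52831 F351720))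
theorem Q78618 : ∀ i, i < 78618 → P i := stepQ 78617 Q78617 (allL N78617 (tt N47260 F344758) (tt N101197 (iv0 F432145)) (tt N66565 F347448) (tt N44802 F249763) (tt N96157 (iv4 F411276)) (tt N44799 (iv5 D158585)) (tt N56353 (iv6 F344759)) (tt N47548 (iv7 F249764)))
theorem Q78619 : ∀ i, i < 78619 → P i := stepQ 78618 Q78618 (allL N78618 (tt N68039 (iv1 F351723)) (tt N52831 (iv0 F351713)) (tt N68040 F342104) (tt N44803 F249765) (tt N79159 F303418) (tt N47548 F249766) (tt N79158 F303419) (tt N44799 (iv7 D158586)))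
theorem Q78620 : ∀ i, i < 78620 → P i := stepQ 78619 Q78619 (allL N78619 (tt N80618 (iv1 F310300)) (tt N55335 (iv0 F335242)) (tt N80917 F357441) (tt N80591 (iv3 F335240)) (tt N44807 (iv4 D158669)) (tt N101106 (iv5 F431697)) (tt N67932 F357456) (tt N44813 F249824))
theorem Q78621 : ∀ i, i < 78621 → P i := stepQ 78620 Q78620 (allL N78620 (tt N45686 F306238) (tt N64450 (iv0 F320201)) (tt N54246 (iv2 F356145)) (tt N64636 F356148) (tt N44811 (iv4 D158685)) (tt N53902 F356151) (tt N54235 F356149) (tt N64449 F356150))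
theorem Q78622 : ∀ i, i < 78622 → P i := stepQ 78621 Q78621 (allL N78621 (tt N99422 F424503) (tt N83188 (iv0 F334215)) (tt N101743 (iv2 F434136)) (tt N80590 (iv3 F356146)) (tt N80926 (iv4 F356129)) (tt N44813 (iv5 D158696)) (tt N83070 F356147) (tt N101106 (iv7 F431699)))
theorem Q78623 : ∀ i, i < 78623 → P i := stepQ 78622 Q78622 (allL N78622 (tt N79991 (iv1 F332303)) (tt N83231 (iv0 F286406)) (tt N83232 (iv2 F286413)) (tt N44814 (iv3 D158697)) (tt N44915 F249851) (tt N80868 (iv5 F340657)) (tt N79289 (iv6 F253926)) (tt N46739 F249852))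
theorem Q78624 : ∀ i, i < 78624 → P i := stepQ 78623 Q78623 (allL N78623 (tt N91208 (iv1 F392263)) (tt N110253 F470653) (tt N80338 (iv2 F263846)) (tt N82327 F350984) (tt N47534 F300963) (tt N79453 (iv5 F256839)) (tt N44815 (iv6 D158707)) (tt N61281 F355843))
theorem Q78625 : ∀ i, i < 78625 → P i := stepQ 78624 Q78624 (allL N78624 (tt N93799 (iv1 F401939)) (tt N73421 F359159) (tt N67739 (iv2 F317509)) (tt N71365 (iv3 F361872)) (tt N69531 F366068) (tt N47215 F249924) (tt N44818 (iv6 D158744)) (tt N102825 (iv7 F438816)))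
theorem Q78626 : ∀ i, i < 78626 → P i := stepQ 78625 Q78625 (allL N78625 (tt N67754 (iv1 F337058)) (tt N67761 (iv0 F337057)) (tt N67759 (iv2 F342318)) (tt N44820 (iv3 D158754)) (tt N104237 (iv4 F444864)) (tt N81538 (iv5 F275947)) (tt N81120 F273423) (tt N46853 F249935))
theorem Q78627 : ∀ i, i < 78627 → P i := stepQ 78626 Q78626 (allL N78626 (tt N102830 (iv1 F438838)) (tt N67640 F438841) (tt N102831 (iv2 F438842)) (tt N44827 F249995) (tt N104272 (iv4 F445055)) (tt N111104 D214346) (tt N44824 (iv6 D158788)) (tt N102822 (iv7 F438808)))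
theorem Q78628 : ∀ i, i < 78628 → P i := stepQ 78627 Q78627 (allL N78627 (tt N105345 (iv1 F449800)) (tt N44825 (iv0 D158789)) (tt N102396 F437054) (tt N90562 (iv3 F390112)) (tt N81081 F363234) (tt N75366 F353938) (tt N80335 F353939) (tt N46888 F353940))
theorem Q78629 : ∀ i, i < 78629 → P i := stepQ 78628 Q78628 (allL N78628 (tt N44825 (iv1 D158790)) (tt N105345 F449799) (tt N46888 F307474) (tt N58881 (iv3 F313054)) (tt N80938 F307476) (tt N58880 F307477) (tt N45431 F307478) (tt N102396 (iv7 F437052)))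
theorem Q78630 : ∀ i, i < 78630 → P i := stepQ 78629 Q78629 (allL N78629 (tt N80733 F345765) (tt N79760 (iv0 F344721)) (tt N79226 F364964) (tt N44829 F249996) (tt N79296 F358419) (tt N44825 (iv5 D158791)) (tt N111104 (iv6 F474688)) (tt N97366 (iv7 F416534)))
theorem Q78631 : ∀ i, i < 78631 → P i := stepQ 78630 Q78630 (allL N78630 (tt N46888 F338815) (tt N102396 (iv0 F437053)) (tt N105345 (iv2 F449795)) (tt N44830 F249997) (tt N45510 F298788) (tt N97366 (iv5 F416531)) (tt N80379 F298789) (tt N44825 (iv7 D158792)))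
theorem Q78632 : ∀ i, i < 78632 → P i := stepQ 78631 Q78631 (allL N78631 (tt N68253 F369371) (tt N68255 F369370) (tt N86836 (iv2 F377375)) (tt N104944 (iv3 F448060)) (tt N44827 F249999) (tt N84455 (iv5 F369362)) (tt N44826 (iv6 D158794)) (tt N86005 (iv7 F374851)))
theorem Q78633 : ∀ i, i < 78633 → P i := stepQ 78632 Q78632 (allL N78632 (tt N44827 (iv1 D158796)) (tt N71742 F365900) (tt N80078 F365187) (tt N104595 (iv3 F446457)) (tt N92668 (iv4 F397817)) (tt N80077 (iv5 F365185)) (tt N90522 (iv6 F389944)) (tt N104077 (iv7 F444060)))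
theorem Q78634 : ∀ i, i < 78634 → P i := stepQ 78633 Q78633 (allL N78633 (tt N64079 F366377) (tt N101555 (iv0 F433387)) (tt N111089 (iv2 F474605)) (tt N111104 (iv3 F474687)) (tt N96584 (iv4 F430993)) (tt N44827 (iv5 D158797)) (tt N44829 F250000) (tt N111105 D214347))
theorem Q78635 : ∀ i, i < 78635 → P i := stepQ 78634 Q78634 (allL N78634 (tt N80078 (iv1 F377381)) (tt N104077 (iv0 F444061)) (tt N71742 (iv2 F365897)) (tt N102822 (iv3 F438805)) (tt N86005 (iv4 F374849)) (tt N111105 (iv5 F474696)) (tt N60827 F365896) (tt N44827 (iv7 D158798)))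
theorem Q78636 : ∀ i, i < 78636 → P i := stepQ 78635 Q78635 (allL N78635 (tt N47136 F250002) (tt N47130 F250003) (tt N96555 F412966) (tt N101124 F431800) (tt N44829 (iv4 D158800)) (tt N101124 (iv5 F431798)) (tt N96584 F430992) (tt N96526 F412856))
theorem Q78637 : ∀ i, i < 78637 → P i := stepQ 78636 Q78636 (allL N78636 (tt N46913 (iv1 F250006)) (tt N46914 F250007) (tt N45444 F298790) (tt N97366 (iv3 F416529)) (tt N96526 (iv4 F412855)) (tt N44830 F250005) (tt N90641 (iv6 F390372)) (tt N44829 (iv7 D158801)))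
theorem Q78638 : ∀ i, i < 78638 → P i := stepQ 78637 Q78637 (allL N78637 (tt N80336 F348440) (tt N44831 (iv0 D158802)) (tt N46890 F348441) (tt N76898 F348442) (tt N75843 F348443) (tt N80907 F348444) (tt N45430 F348445) (tt N80335 F348446))
theorem Q78639 : ∀ i, i < 78639 → P i := stepQ 78638 Q78638 (allL N78638 (tt N80788 (iv1 F271605)) (tt N45457 F300945) (tt N81020 F273034) (tt N95548 (iv3 F408599)) (tt N101123 (iv4 F431790)) (tt N44833 (iv5 D158810)) (tt N95546 (iv6 F408591)) (tt N81019 F273030))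
theorem Q78640 : ∀ i, i < 78640 → P i := stepQ 78639 Q78639 (allL N78639 (tt N92558 F397371) (tt N91884 (iv0 F394825)) (tt N91831 (iv2 F394596)) (tt N44834 (iv3 D158811)) (tt N44930 F250036) (tt N91264 (iv5 F392449)) (tt N47598 F250037) (tt N44845 F250038))
theorem Q78641 : ∀ i, i < 78641 → P i := stepQ 78640 Q78640 (allL N78640 (tt N97624 (iv1 F417654)) (tt N93911 (iv0 F402401)) (tt N80926 F356127) (tt N91264 (iv3 F392448)) (tt N101743 (iv4 F434134)) (tt N44834 (iv5 D158812)) (tt N91262 (iv6 F392443)) (tt N44846 F250039))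
theorem Q78642 : ∀ i, i < 78642 → P i := stepQ 78641 Q78641 (allL N78641 (tt N91966 (iv1 F395167)) (tt N55448 (iv0 F358407)) (tt N91827 (iv2 F394567)) (tt N44836 (iv3 D158829)) (tt N55518 F358404) (tt N103983 (iv5 F443646)) (tt N55518 F358405) (tt N79501 F358408))
theorem Q78643 : ∀ i, i < 78643 → P i := stepQ 78642 Q78642 (allL N78642 (tt N45751 F302217) (tt N80928 F302218) (tt N79500 F302219) (tt N103983 (iv3 F443644)) (tt N83188 F356172) (tt N44836 (iv5 D158830)) (tt N111106 D214348) (tt N79502 F302220))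
theorem Q78644 : ∀ i, i < 78644 → P i := stepQ 78643 Q78643 (allL N78643 (tt N81069 F358746) (tt N81070 (iv0 F273326)) (tt N105348 (iv2 F449814)) (tt N44840 F250086) (tt N80304 (iv4 F263216)) (tt N79448 (iv5 F343427)) (tt N44838 (iv6 D158835)) (tt N80337 F354171))
theorem Q78645 : ∀ i, i < 78645 → P i := stepQ 78644 Q78644 (allL N78644 (tt N80928 F302221) (tt N45751 F302222) (tt N79502 F302223) (tt N78276 (iv3 F348117)) (tt N99422 (iv4 F424499)) (tt N44841 (iv5 D158840)) (tt N78274 F348120) (tt N79500 F302224))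
theorem Q78646 : ∀ i, i < 78646 → P i := stepQ 78645 Q78645 (allL N78645 (tt N64122 (iv1 F296608)) (tt N47626 (iv0 F250094)) (tt N45977 F250091) (tt N59964 F348125) (tt N44842 F250092) (tt N111107 D214349) (tt N44841 (iv6 D158841)) (tt N45979 F250093))
theorem Q78647 : ∀ i, i < 78647 → P i := stepQ 78646 Q78646 (allL N78646 (tt N55552 F362850) (tt N108574 F463114) (tt N99710 (iv2 F425852)) (tt N44843 (iv3 D158852)) (tt N79204 F298038) (tt N111108 D214350) (tt N46314 F298039) (tt N79482 F298040))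
theorem Q78648 : ∀ i, i < 78648 → P i := stepQ 78647 Q78647 (allL N78647 (tt N80921 (iv1 F300476)) (tt N80924 (iv0 F300477)) (tt N79257 F298041) (tt N111108 (iv3 F474709)) (tt N53899 F356160) (tt N44843 (iv5 D158853)) (tt N111109 D214351) (tt N79483 F298042))
theorem Q78649 : ∀ i, i < 78649 → P i := stepQ 78648 Q78648 (allL N78648 (tt N80924 (iv1 F300478)) (tt N80921 (iv0 F300475)) (tt N79483 (iv2 F356161)) (tt N93725 (iv3 F401682)) (tt N53897 F356159) (tt N44844 (iv5 D158856)) (tt N54780 (iv6 F364235)) (tt N79257 F356162))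
theorem Q78650 : ∀ i, i < 78650 → P i := stepQ 78649 Q78649 (allL N78649 (tt N91831 F394601) (tt N44845 (iv0 D158858)) (tt N91884 (iv2 F394822)) (tt N79349 F364270) (tt N81003 F386453) (tt N111110 D214352) (tt N79347 (iv6 F364271)) (tt N92558 (iv7 F397369)))
theorem Q78651 : ∀ i, i < 78651 → P i := stepQ 78650 Q78650 (allL N78650 (tt N44845 (iv1 D158859)) (tt N91831 (iv0 F394600)) (tt N92558 (iv2 F397366)) (tt N55555 F379385) (tt N81004 (iv4 F359281)) (tt N111111 D214353) (tt N87455 (iv6 F379384)) (tt N91884 (iv7 F394823)))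
theorem Q78652 : ∀ i, i < 78652 → P i := stepQ 78651 Q78651 (allL N78651 (tt N91884 (iv1 F394826)) (tt N92558 (iv0 F397370)) (tt N44845 (iv2 D158860)) (tt N111050 (iv3 F474423)) (tt N44944 F250112) (tt N99234 (iv5 F423790)) (tt N44854 F250113) (tt N91831 (iv7 F394599)))
theorem Q78653 : ∀ i, i < 78653 → P i := stepQ 78652 Q78652 (allL N78652 (tt N99218 (iv1 F423736)) (tt N91397 (iv0 F392981)) (tt N99234 F423791) (tt N44846 F250114) (tt N108534 (iv4 F462983)) (tt N44845 (iv5 D158861)) (tt N99684 (iv6 F425732)) (tt N91264 F392451))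
theorem Q78654 : ∀ i, i < 78654 → P i := stepQ 78653 Q78653 (allL N78653 (tt N80926 F302426) (tt N44846 (iv0 D158862)) (tt N93911 (iv2 F402398)) (tt N71049 (iv3 F359252)) (tt N53902 (iv4 F356153)) (tt N45688 F302427) (tt N59578 F359253) (tt N97624 (iv7 F417653)))
theorem Q78655 : ∀ i, i < 78655 → P i := stepQ 78654 Q78654 (allL N78654 (tt N83188 F356173) (tt N99422 (iv0 F424502)) (tt N101106 F431701) (tt N110803 (iv3 F473232)) (tt N44846 (iv4 D158864)) (tt N80917 F356128) (tt N99408 F424438) (tt N101743 (iv7 F434132)))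
theorem Q78656 : ∀ i, i < 78656 → P i := stepQ 78655 Q78655 (allL N78655 (tt N47631 (iv1 F250127)) (tt N44847 (iv0 D158868)) (tt N47630 F348779) (tt N111112 D214354) (tt N84652 F370048) (tt N78510 (iv5 F348783)) (tt N79637 F358104) (tt N47629 F348780))
theorem Q78657 : ∀ i, i < 78657 → P i := stepQ 78656 Q78656 (allL N78656 (tt N44847 (iv1 D158869)) (tt N47631 F250131) (tt N47629 F348776) (tt N111113 D214355) (tt N84651 (iv4 F370039)) (tt N78511 F348777) (tt N93149 (iv6 F399678)) (tt N47630 F348778))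
theorem Q78658 : ∀ i, i < 78658 → P i := stepQ 78657 Q78657 (allL N78657 (tt N49986 F354476) (tt N52712 F358088) (tt N52711 (iv2 F358106)) (tt N44848 F250133) (tt N88304 (iv4 F382520)) (tt N44847 (iv5 D158871)) (tt N109251 (iv6 F465997)) (tt N47632 F250134))
theorem Q78659 : ∀ i, i < 78659 → P i := stepQ 78658 Q78658 (allL N78658 (tt N84239 F368647) (tt N86895 F377620) (tt N47634 F250136) (tt N109251 (iv3 F465995)) (tt N49857 F250137) (tt N96756 (iv5 F413793)) (tt N44848 (iv6 D158873)) (tt N104929 (iv7 F447994)))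
theorem Q78660 : ∀ i, i < 78660 → P i := stepQ 78659 Q78659 (allL N78659 (tt N44849 (iv1 D158878)) (tt N47638 F250158) (tt N47636 F362550) (tt N102140 F435915) (tt N111114 D214356) (tt N83812 (iv5 F362553)) (tt N108574 (iv6 F463111)) (tt N47637 F362551))
theorem Q78661 : ∀ i, i < 78661 → P i := stepQ 78660 Q78660 (allL N78660 (tt N47637 (iv1 F250159)) (tt N47636 F250157) (tt N44849 (iv2 D158879)) (tt N47646 F250155) (tt N95042 (iv4 F406782)) (tt N86876 (iv5 F377546)) (tt N95040 F406773) (tt N47638 F250156))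
theorem Q78662 : ∀ i, i < 78662 → P i := stepQ 78661 Q78661 (allL N78661 (tt N44850 (iv1 D158887)) (tt N47646 F250176) (tt N47644 F360304) (tt N52068 F360305) (tt N86676 (iv4 F376775)) (tt N52060 F360303) (tt N52063 (iv6 F360307)) (tt N47645 F360306))
theorem Q78663 : ∀ i, i < 78663 → P i := stepQ 78662 Q78662 (allL N78662 (tt N47645 (iv1 F250177)) (tt N47644 F250175) (tt N44850 (iv2 D158888)) (tt N47638 F250173) (tt N79354 (iv4 F254499)) (tt N86870 (iv5 F377516)) (tt N106107 (iv6 F453146)) (tt N47646 F250174))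
theorem Q78664 : ∀ i, i < 78664 → P i := stepQ 78663 Q78663 (allL N78663 (tt N58608 F365912) (tt N106106 F453141) (tt N106107 (iv2 F453142)) (tt N44851 F250180) (tt N48435 F250181) (tt N111115 D214357) (tt N44850 (iv6 D158890)) (tt N79294 (iv7 F300938)))
theorem Q78665 : ∀ i, i < 78665 → P i := stepQ 78664 Q78664 (allL N78664 (tt N65061 F250185) (tt N80786 (iv0 F346335)) (tt N47642 F250184) (tt N111115 (iv3 F474735)) (tt N81232 (iv4 F273811)) (tt N44851 (iv5 D158892)) (tt N86872 (iv6 F377524)) (tt N79295 (iv7 F300943)))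
theorem Q78666 : ∀ i, i < 78666 → P i := stepQ 78665 Q78665 (allL N78665 (tt N52068 (iv1 F364243)) (tt N91853 F394702) (tt N71042 (iv2 F359857)) (tt N44852 (iv3 D158894)) (tt N46160 F250187) (tt N111116 D214358) (tt N58368 (iv6 F351985)) (tt N47651 (iv7 F254229)))
theorem Q78667 : ∀ i, i < 78667 → P i := stepQ 78666 Q78666 (allL N78666 (tt N66045 (iv1 F326798)) (tt N48340 F250188) (tt N45485 F254226) (tt N80272 (iv3 F262441)) (tt N44852 (iv4 D158895)) (tt N79806 (iv5 F258422)) (tt N57491 (iv6 F340642)) (tt N47652 F254227))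
theorem Q78668 : ∀ i, i < 78668 → P i := stepQ 78667 Q78667 (allL N78667 (tt N79851 (iv1 F258627)) (tt N50697 F254240) (tt N47656 (iv2 F254235)) (tt N111116 (iv3 F474740)) (tt N110954 (iv4 F473948)) (tt N44852 (iv5 D158896)) (tt N111117 D214359) (tt N47653 (iv7 F254230)))
theorem Q78669 : ∀ i, i < 78669 → P i := stepQ 78668 Q78668 (allL N78668 (tt N75396 (iv1 F349847)) (tt N58614 (iv0 F349846)) (tt N47657 (iv2 F254236)) (tt N58368 (iv3 F351983)) (tt N57491 F340643) (tt N62115 F349843) (tt N44852 (iv6 D158897)) (tt N62113 (iv7 F349845)))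
theorem Q78670 : ∀ i, i < 78670 → P i := stepQ 78669 Q78669 (allL N78669 (tt N50697 F250821) (tt N79851 F258628) (tt N47653 (iv2 F254239)) (tt N91872 (iv3 F394777)) (tt N110950 (iv4 F473929)) (tt N44853 (iv5 D158900)) (tt N104410 (iv6 F445646)) (tt N47656 F254238))
theorem Q78671 : ∀ i, i < 78671 → P i := stepQ 78670 Q78670 (allL N78670 (tt N64103 (iv1 F353269)) (tt N79593 (iv0 F336522)) (tt N47654 F254242) (tt N91873 (iv3 F394781)) (tt N75400 (iv4 F334021)) (tt N81012 (iv5 F353243)) (tt N44853 (iv6 D158901)) (tt N75398 F353270))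
theorem Q78672 : ∀ i, i < 78672 → P i := stepQ 78671 Q78671 (allL N78671 (tt N47660 (iv1 F250193)) (tt N47659 F250194) (tt N44855 F250190) (tt N54897 F250191) (tt N111118 D214360) (tt N44854 (iv5 D158902)) (tt N111119 D214361) (tt N47658 F250192))
theorem Q78673 : ∀ i, i < 78673 → P i := stepQ 78672 Q78672 (allL N78672 (tt N47658 (iv1 F250195)) (tt N44855 (iv0 D158903)) (tt N47660 F257977) (tt N52067 F364485) (tt N108583 (iv4 F463147)) (tt N45967 (iv5 F254080)) (tt N107597 (iv6 F458883)) (tt N47659 (iv7 F257976)))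
theorem Q78674 : ∀ i, i < 78674 → P i := stepQ 78673 Q78673 (allL N78673 (tt N44855 (iv1 D158904)) (tt N47658 F250196) (tt N47659 (iv2 F257973)) (tt N84690 F370242) (tt N108584 (iv4 F463152)) (tt N45968 (iv5 F254079)) (tt N111120 D214362) (tt N47660 F257978))
theorem Q78675 : ∀ i, i < 78675 → P i := stepQ 78674 Q78674 (allL N78674 (tt N111121 D214363) (tt N111122 D214364) (tt N111118 (iv2 F474752)) (tt N52750 F250197) (tt N44855 (iv4 D158905)) (tt N111123 D214365) (tt N103222 (iv6 F440654)) (tt N47661 F250198))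
theorem Q78676 : ∀ i, i < 78676 → P i := stepQ 78675 Q78675 (allL N78675 (tt N108488 F462802) (tt N88287 (iv0 F382466)) (tt N111119 (iv2 F474763)) (tt N44856 F250199) (tt N103222 (iv4 F440649)) (tt N99684 (iv5 F425731)) (tt N44855 (iv6 D158906)) (tt N87871 (iv7 F380914)))
theorem Q78677 : ∀ i, i < 78677 → P i := stepQ 78676 Q78676 (allL N78676 (tt N69864 F336963) (tt N75587 (iv0 F280346)) (tt N44861 F250209) (tt N73927 F336960) (tt N44857 (iv4 D158911)) (tt N67550 (iv5 F336958)) (tt N73925 (iv6 F314579)) (tt N44864 F250211))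
theorem Q78678 : ∀ i, i < 78678 → P i := stepQ 78677 Q78677 (allL N78677 (tt N75587 (iv1 F280347)) (tt N69864 (iv0 F347368)) (tt N44864 F250218) (tt N76355 (iv3 F347360)) (tt N44858 (iv4 D158914)) (tt N69849 (iv5 F336961)) (tt N63047 F250219) (tt N44861 F250220))
theorem Q78679 : ∀ i, i < 78679 → P i := stepQ 78678 Q78678 (allL N78678 (tt N101755 F434203) (tt N69955 (iv0 F337007)) (tt N82242 (iv2 F279824)) (tt N69942 F361768) (tt N44859 (iv4 D158933)) (tt N87849 F380835) (tt N84402 (iv6 F369173)) (tt N75589 F250261))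
theorem Q78680 : ∀ i, i < 78680 → P i := stepQ 78679 Q78679 (allL N78679 (tt N75170 (iv1 F314052)) (tt N74341 (iv0 F322010)) (tt N75156 F250262) (tt N52591 (iv3 F334460)) (tt N84402 (iv4 F369172)) (tt N47976 F250263) (tt N44859 (iv6 D158934)) (tt N75158 F250264))
theorem Q78681 : ∀ i, i < 78681 → P i := stepQ 78680 Q78680 (allL N78680 (tt N69955 (iv1 F337008)) (tt N101755 (iv0 F434202)) (tt N75589 F250267) (tt N109693 (iv3 F468139)) (tt N44860 (iv4 D158935)) (tt N87848 (iv5 F380821)) (tt N75575 F250268) (tt N82242 (iv7 F279825)))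
theorem Q78682 : ∀ i, i < 78682 → P i := stepQ 78681 Q78681 (allL N78681 (tt N44864 (iv1 F250270)) (tt N44861 (iv0 D158936)) (tt N69864 F364183) (tt N98087 (iv3 F419403)) (tt N75905 F250269) (tt N103504 (iv5 F441874)) (tt N101168 (iv6 F432023)) (tt N75587 (iv7 F280345)))
theorem Q78683 : ∀ i, i < 78683 → P i := stepQ 78682 Q78682 (allL N78682 (tt N76357 F347362) (tt N45096 F347363) (tt N76354 F347364) (tt N44861 (iv3 D158938)) (tt N64203 F347365) (tt N95899 (iv5 F410152)) (tt N111124 D214366) (tt N76355 F347366))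
theorem Q78684 : ∀ i, i < 78684 → P i := stepQ 78683 Q78683 (allL N78683 (tt N75654 (iv1 F250275)) (tt N75653 F250276) (tt N73925 (iv2 F314577)) (tt N111124 (iv3 F474792)) (tt N44862 F250273) (tt N84295 (iv5 F368838)) (tt N44861 (iv6 D158940)) (tt N75642 F250274))
theorem Q78685 : ∀ i, i < 78685 → P i := stepQ 78684 Q78684 (allL N78684 (tt N62832 F352605) (tt N105142 (iv0 F448972)) (tt N111125 D214367) (tt N44864 (iv3 D158948)) (tt N63055 F250286) (tt N70594 F359676) (tt N63050 F250287) (tt N73927 (iv7 F359678)))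
theorem Q78686 : ∀ i, i < 78686 → P i := stepQ 78685 Q78685 (allL N78685 (tt N77358 F421250) (tt N98552 (iv0 F421301)) (tt N109689 (iv2 F468118)) (tt N44865 (iv3 D158950)) (tt N100157 (iv4 F427752)) (tt N73846 F347291) (tt N49399 F347292) (tt N73845 F347293))
theorem Q78687 : ∀ i, i < 78687 → P i := stepQ 78686 Q78686 (allL N78686 (tt N69787 F361790) (tt N67520 F361793) (tt N67781 (iv2 F361794)) (tt N73846 (iv3 F361799)) (tt N67777 (iv4 F361792)) (tt N44865 (iv5 D158951)) (tt N111126 D214368) (tt N69786 (iv7 F336979)))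
theorem Q78688 : ∀ i, i < 78688 → P i := stepQ 78687 Q78687 (allL N78687 (tt N90646 F390388) (tt N63922 (iv0 F356972)) (tt N109095 (iv2 F465311)) (tt N49399 F347296) (tt N44866 F250288) (tt N89178 (iv5 F385464)) (tt N44865 (iv6 D158952)) (tt N89177 F385461))
theorem Q78689 : ∀ i, i < 78689 → P i := stepQ 78688 Q78688 (allL N78688 (tt N44866 (iv1 D158953)) (tt N72331 F346825) (tt N64637 F310205) (tt N44889 F250291) (tt N48770 F347297) (tt N58543 (iv5 F316637)) (tt N45295 F310206) (tt N72690 (iv7 F345708)))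
theorem Q78690 : ∀ i, i < 78690 → P i := stepQ 78689 Q78689 (allL N78689 (tt N99542 F425070) (tt N105831 (iv0 F451921)) (tt N106994 (iv2 F456561)) (tt N44867 (iv3 D158954)) (tt N66547 (iv4 F321567)) (tt N70623 F359470) (tt N66546 (iv6 F359463)) (tt N105898 (iv7 F452245)))
theorem Q78691 : ∀ i, i < 78691 → P i := stepQ 78690 Q78690 (allL N78690 (tt N88662 F383773) (tt N103526 (iv0 F441951)) (tt N52314 F347309) (tt N68235 F347310) (tt N68994 F337005) (tt N44868 (iv5 D158958)) (tt N52312 (iv6 F347308)) (tt N70985 F347311))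
theorem Q78692 : ∀ i, i < 78692 → P i := stepQ 78691 Q78691 (allL N78691 (tt N54718 F347303) (tt N48770 F347304) (tt N52292 F347305) (tt N62867 F347306) (tt N91530 (iv4 F393509)) (tt N52291 F347307) (tt N44868 (iv6 D158959)) (tt N62864 F360606))
theorem Q78693 : ∀ i, i < 78693 → P i := stepQ 78692 Q78692 (allL N78692 (tt N81514 (iv1 F360618)) (tt N80908 F360619) (tt N62876 (iv2 F360614)) (tt N44869 (iv3 D158960)) (tt N104789 (iv4 F447283)) (tt N52319 F360615) (tt N62875 F360616) (tt N52294 F360617))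
theorem Q78694 : ∀ i, i < 78694 → P i := stepQ 78693 Q78693 (allL N78693 (tt N103526 (iv1 F441952)) (tt N88662 (iv0 F383772)) (tt N70985 F360628) (tt N52319 F360629) (tt N68001 (iv4 F360631)) (tt N44869 (iv5 D158961)) (tt N70980 (iv6 F360627)) (tt N52314 F360630))
theorem Q78695 : ∀ i, i < 78695 → P i := stepQ 78694 Q78694 (allL N78694 (tt N62861 (iv1 F360625)) (tt N62860 (iv0 F360624)) (tt N62865 F360609) (tt N62875 (iv3 F360621)) (tt N109009 (iv4 F464897)) (tt N70981 F360622) (tt N44869 (iv6 D158962)) (tt N62862 F360623))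
theorem Q78696 : ∀ i, i < 78696 → P i := stepQ 78695 Q78695 (allL N78695 (tt N91025 (iv1 F391638)) (tt N44870 (iv0 D158963)) (tt N88526 (iv2 F391592)) (tt N104070 (iv3 F444029)) (tt N94089 (iv4 F403150)) (tt N88691 (iv5 F391593)) (tt N84340 F391591) (tt N101838 (iv7 F434594)))
theorem Q78697 : ∀ i, i < 78697 → P i := stepQ 78696 Q78696 (allL N78696 (tt N44870 (iv1 D158964)) (tt N91025 F391637) (tt N101838 F434592) (tt N69765 F411691) (tt N111127 D214369) (tt N71972 (iv5 F411692)) (tt N71975 (iv6 F411693)) (tt N88526 F391594))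
theorem Q78698 : ∀ i, i < 78698 → P i := stepQ 78697 Q78697 (allL N78697 (tt N88526 F411696) (tt N101838 F434593) (tt N44870 (iv2 D158965)) (tt N69935 (iv3 F354743)) (tt N44900 F250298) (tt N69934 F354744) (tt N75747 F250299) (tt N91025 (iv7 F391635)))
theorem Q78699 : ∀ i, i < 78699 → P i := stepQ 78698 Q78698 (allL N78698 (tt N111128 D214370) (tt N69760 (iv0 F373075)) (tt N69934 (iv2 F354752)) (tt N44871 F250300) (tt N69879 (iv4 F352311)) (tt N44870 (iv5 D158966)) (tt N102579 F437751) (tt N101839 (iv7 F434597)))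
theorem Q78700 : ∀ i, i < 78700 → P i := stepQ 78699 Q78699 (allL N78699 (tt N44871 (iv1 D158968)) (tt N69936 F337001) (tt N66199 (iv2 F337002)) (tt N69964 (iv3 F360768)) (tt N66197 (iv4 F337003)) (tt N101755 (iv5 F434199)) (tt N72108 F364182) (tt N66194 F337004))
theorem Q78701 : ∀ i, i < 78701 → P i := stepQ 78700 Q78700 (allL N78700 (tt N66199 (iv1 F336988)) (tt N66194 (iv0 F336987)) (tt N69936 (iv2 F336982)) (tt N101839 (iv3 F434595)) (tt N67548 F336981) (tt N44872 F250302) (tt N111129 D214371) (tt N44871 (iv7 D158971)))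
theorem Q78702 : ∀ i, i < 78702 → P i := stepQ 78701 Q78701 (allL N78701 (tt N80011 (iv1 F259407)) (tt N44873 (iv0 D158972)) (tt N82008 F353944) (tt N87809 (iv3 F380600)) (tt N96036 (iv4 F410746)) (tt N48039 F250303) (tt N65137 F341254) (tt N65413 (iv7 F353943)))
theorem Q78703 : ∀ i, i < 78703 → P i := stepQ 78702 Q78702 (allL N78702 (tt N44873 (iv1 D158973)) (tt N80011 (iv0 F259406)) (tt N65413 (iv2 F353945)) (tt N80961 (iv3 F358645)) (tt N74222 F358647) (tt N45527 F305098) (tt N65398 F353946) (tt N82008 F353947))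
theorem Q78704 : ∀ i, i < 78704 → P i := stepQ 78703 Q78703 (allL N78703 (tt N62958 F250306) (tt N49704 (iv0 F352629)) (tt N81347 (iv2 F359669)) (tt N72185 F330638) (tt N44874 (iv4 D158976)) (tt N72184 F362457) (tt N70058 F352628) (tt N75591 F250305))
theorem Q78705 : ∀ i, i < 78705 → P i := stepQ 78704 Q78704 (allL N78704 (tt N104152 F444442) (tt N62984 (iv0 F349367)) (tt N100488 (iv2 F429133)) (tt N62560 (iv3 F313441)) (tt N70058 (iv4 F339491)) (tt N62559 (iv5 F313428)) (tt N44874 (iv6 D158977)) (tt N62840 (iv7 F310214)))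
theorem Q78706 : ∀ i, i < 78706 → P i := stepQ 78705 Q78705 (allL N78705 (tt N49704 F352634) (tt N62958 F250312) (tt N75591 F250310) (tt N81297 (iv3 F334538)) (tt N44875 (iv4 D158978)) (tt N109477 (iv5 F467172)) (tt N62935 F250311) (tt N81347 (iv7 F359670)))
theorem Q78707 : ∀ i, i < 78707 → P i := stepQ 78706 Q78706 (allL N78706 (tt N44876 (iv1 D158980)) (tt N62974 F250314) (tt N64430 F312496) (tt N45207 F312497) (tt N78737 (iv4 F250669)) (tt N72161 F358649) (tt N45206 F312498) (tt N100651 (iv7 F429848)))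
theorem Q78708 : ∀ i, i < 78708 → P i := stepQ 78707 Q78707 (allL N78707 (tt N97095 F415468) (tt N69895 (iv0 F342711)) (tt N101831 F434559) (tt N44877 (iv3 D158983)) (tt N109693 (iv4 F468140)) (tt N65300 F250316) (tt N66911 (iv6 F306221)) (tt N82140 (iv7 F278783)))
theorem Q78709 : ∀ i, i < 78709 → P i := stepQ 78708 Q78708 (allL N78708 (tt N79242 F311541) (tt N79241 F311542) (tt N47522 F323222) (tt N44878 (iv3 D158984)) (tt N80326 F311544) (tt N48145 F250318) (tt N47520 F323223) (tt N48389 F311546))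
theorem Q78710 : ∀ i, i < 78710 → P i := stepQ 78709 Q78709 (allL N78709 (tt N47510 F324709) (tt N47169 F324710) (tt N47013 F324711) (tt N47520 F324712) (tt N46235 F250320) (tt N68046 (iv5 F344946)) (tt N44878 (iv6 D158985)) (tt N47530 F324713))
theorem Q78711 : ∀ i, i < 78711 → P i := stepQ 78710 Q78710 (allL N78710 (tt N62847 (iv1 F250338)) (tt N62968 F250339) (tt N62911 F250334) (tt N44884 F250335) (tt N92573 (iv4 F397431)) (tt N69656 (iv5 F309931)) (tt N74964 F250337) (tt N44882 (iv7 D159001)))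
theorem Q78712 : ∀ i, i < 78712 → P i := stepQ 78711 Q78711 (allL N78711 (tt N44883 (iv1 D159003)) (tt N100650 F429846) (tt N82149 (iv2 F355432)) (tt N47418 F354242) (tt N88208 (iv4 F382182)) (tt N65323 F350203) (tt N47415 F354243) (tt N82152 F355164))
theorem Q78713 : ∀ i, i < 78713 → P i := stepQ 78712 Q78712 (allL N78712 (tt N82152 F355158) (tt N82149 F355414) (tt N44883 (iv2 D159004)) (tt N77260 F342706) (tt N80481 F350201) (tt N48095 F250340) (tt N80482 (iv6 F355157)) (tt N100650 (iv7 F429844)))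
theorem Q78714 : ∀ i, i < 78714 → P i := stepQ 78713 Q78713 (allL N78713 (tt N44886 (iv1 D159012)) (tt N99792 F426239) (tt N45308 F349383) (tt N80431 F349384) (tt N101291 (iv4 F432558)) (tt N72678 (iv5 F349390)) (tt N45298 F349385) (tt N72685 F349386))
theorem Q78715 : ∀ i, i < 78715 → P i := stepQ 78714 Q78714 (allL N78714 (tt N44887 (iv1 D159014)) (tt N82160 F278851) (tt N82158 F336342) (tt N94081 (iv3 F403119)) (tt N96206 (iv4 F411490)) (tt N48105 F336343) (tt N75018 (iv6 F356772)) (tt N82159 F336344))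
theorem Q78716 : ∀ i, i < 78716 → P i := stepQ 78715 Q78715 (allL N78715 (tt N82159 (iv1 F278850)) (tt N82158 F278845) (tt N44887 (iv2 D159015)) (tt N75168 F355446) (tt N110063 (iv4 F469798)) (tt N48086 F250351) (tt N66845 (iv6 F339311)) (tt N82160 (iv7 F278848)))
theorem Q78717 : ∀ i, i < 78717 → P i := stepQ 78716 Q78716 (allL N78716 (tt N65237 (iv1 F250381)) (tt N55213 F335117) (tt N75246 F250377) (tt N44893 (iv3 D159036)) (tt N58886 (iv4 F340718)) (tt N63786 F250378) (tt N75191 F250379) (tt N77509 F250380))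
theorem Q78718 : ∀ i, i < 78718 → P i := stepQ 78717 Q78717 (allL N78717 (tt N82240 (iv1 F279791)) (tt N44895 (iv0 D159037)) (tt N82239 (iv2 F353467)) (tt N101233 (iv3 F432332)) (tt N73388 F360155) (tt N48109 F350975) (tt N74247 F350976) (tt N82238 (iv7 F351004)))
theorem Q78719 : ∀ i, i < 78719 → P i := stepQ 78718 Q78718 (allL N78718 (tt N47498 F348510) (tt N105684 F451239) (tt N105683 F451230) (tt N44898 (iv3 D159051)) (tt N80670 (iv4 F348515)) (tt N71098 F348512) (tt N46896 F348513) (tt N101837 (iv7 F434586)))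
theorem Q78720 : ∀ i, i < 78720 → P i := stepQ 78719 Q78719 (allL N78719 (tt N69828 F348521) (tt N69827 (iv0 F361287)) (tt N69730 (iv2 F348518)) (tt N49630 F348516) (tt N44898 (iv4 D159052)) (tt N69729 (iv5 F348519)) (tt N49628 (iv6 F348520)) (tt N69825 F348523))
theorem Q78721 : ∀ i, i < 78721 → P i := stepQ 78720 Q78720 (allL N78720 (tt N100434 F428964) (tt N48054 F348497) (tt N101807 (iv2 F434434)) (tt N71098 (iv3 F348499)) (tt N111130 D214372) (tt N44898 (iv5 D159053)) (tt N82045 F348498) (tt N101806 (iv7 F434426)))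
theorem Q78722 : ∀ i, i < 78722 → P i := stepQ 78721 Q78721 (allL N78721 (tt N84341 (iv1 F368987)) (tt N45572 F348501) (tt N88528 (iv2 F383410)) (tt N46896 F348502) (tt N49628 F348525) (tt N82046 (iv5 F348500)) (tt N44898 (iv6 D159054)) (tt N88529 (iv7 F383414)))
theorem Q78723 : ∀ i, i < 78723 → P i := stepQ 78722 Q78722 (allL N78722 (tt N103124 F440183) (tt N101233 F432334) (tt N103123 F440178) (tt N44899 (iv3 D159056)) (tt N59268 (iv4 F354234)) (tt N103113 (iv5 F440131)) (tt N102330 F436764) (tt N96303 (iv7 F411930)))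
theorem Q78724 : ∀ i, i < 78724 → P i := stepQ 78723 Q78723 (allL N78723 (tt N48054 F348485) (tt N100434 (iv0 F428963)) (tt N101806 (iv2 F434425)) (tt N103113 F440134) (tt N94593 (iv4 F405107)) (tt N44899 (iv5 D159058)) (tt N79619 (iv6 F348490)) (tt N101807 (iv7 F434429)))
theorem Q78725 : ∀ i, i < 78725 → P i := stepQ 78724 Q78724 (allL N78724 (tt N79786 (iv1 F348484)) (tt N48013 F348482) (tt N82458 F354751) (tt N102330 (iv3 F436760)) (tt N69829 F348483) (tt N66042 (iv5 F348486)) (tt N44899 (iv6 D159059)) (tt N82459 (iv7 F352272)))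
theorem Q78726 : ∀ i, i < 78726 → P i := stepQ 78725 Q78725 (allL N78725 (tt N44904 (iv1 D159078)) (tt N46593 (iv0 F250444)) (tt N46597 F359870) (tt N78316 F351941) (tt N69304 (iv4 F319889)) (tt N80456 (iv5 F351940)) (tt N107899 F460182) (tt N46598 F359871))
theorem Q78727 : ∀ i, i < 78727 → P i := stepQ 78726 Q78726 (allL N78726 (tt N107571 F458792) (tt N110045 (iv0 F469710)) (tt N99624 (iv2 F425460)) (tt N44909 (iv3 D159114)) (tt N46407 (iv4 F303003)) (tt N99622 (iv5 F425454)) (tt N46405 F300259) (tt N104861 (iv7 F447672)))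
theorem Q78728 : ∀ i, i < 78728 → P i := stepQ 78727 Q78727 (allL N78727 (tt N75766 (iv1 F250529)) (tt N75430 F250528) (tt N44912 (iv2 D159121)) (tt N68442 (iv3 F309839)) (tt N76632 F334521) (tt N48159 F250525) (tt N74763 F250526) (tt N75778 F250527))
theorem Q78729 : ∀ i, i < 78729 → P i := stepQ 78728 Q78728 (allL N78728 (tt N57314 (iv1 F350992)) (tt N44914 (iv0 D159123)) (tt N82327 (iv2 F350994)) (tt N66984 F342704) (tt N109531 (iv4 F467396)) (tt N65388 (iv5 F350997)) (tt N100153 (iv6 F427733)) (tt N66976 F350993))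
theorem Q78730 : ∀ i, i < 78730 → P i := stepQ 78729 Q78729 (allL N78729 (tt N64481 (iv1 F357825)) (tt N64484 (iv0 F357862)) (tt N83238 (iv2 F286435)) (tt N44916 F250544) (tt N105889 (iv4 F452198)) (tt N44915 (iv5 D159129)) (tt N58994 F354431) (tt N46745 F250545))
theorem Q78731 : ∀ i, i < 78731 → P i := stepQ 78730 Q78730 (allL N78730 (tt N44917 (iv1 D159133)) (tt N71299 (iv0 F313527)) (tt N100638 F429788) (tt N89039 (iv3 F384920)) (tt N68357 F359392) (tt N64902 F359393) (tt N57475 (iv6 F359395)) (tt N46722 F359394))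
theorem Q78732 : ∀ i, i < 78732 → P i := stepQ 78731 Q78731 (allL N78731 (tt N71297 (iv1 F341532)) (tt N71296 (iv0 F337497)) (tt N71301 F341527) (tt N44918 F250553) (tt N71268 (iv4 F341528)) (tt N44917 (iv5 D159134)) (tt N71268 (iv6 F341526)) (tt N71288 (iv7 F341530)))
theorem Q78733 : ∀ i, i < 78733 → P i := stepQ 78732 Q78732 (allL N78732 (tt N70878 (iv1 F341520)) (tt N70877 F366146) (tt N44922 F250556) (tt N71268 F341516) (tt N99329 (iv4 F424122)) (tt N70867 (iv5 F341515)) (tt N44918 (iv6 D159137)) (tt N70876 F341518))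
theorem Q78734 : ∀ i, i < 78734 → P i := stepQ 78733 Q78733 (allL N78733 (tt N70876 F359225) (tt N44922 (iv0 D159159)) (tt N70878 F386309) (tt N111131 D214373) (tt N111132 D214374) (tt N71101 F359222) (tt N72560 (iv6 F359223)) (tt N70877 F386308))
theorem Q78735 : ∀ i, i < 78735 → P i := stepQ 78734 Q78734 (allL N78734 (tt N44922 (iv1 D159160)) (tt N70876 F341521) (tt N70877 F386307) (tt N84388 (iv3 F369112)) (tt N105374 (iv4 F449947)) (tt N71102 (iv5 F343267)) (tt N84385 (iv6 F369107)) (tt N70878 (iv7 F386311)))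
theorem Q78736 : ∀ i, i < 78736 → P i := stepQ 78735 Q78735 (allL N78735 (tt N81728 F351539) (tt N101158 (iv0 F431989)) (tt N81233 F366382) (tt N44924 (iv3 D159184)) (tt N44928 F250664) (tt N111133 D214375) (tt N79219 (iv6 F253489)) (tt N79171 (iv7 F305002)))
theorem Q78737 : ∀ i, i < 78737 → P i := stepQ 78736 Q78736 (allL N78736 (tt N59204 (iv1 F351083)) (tt N65050 F250666) (tt N79170 (iv2 F345408)) (tt N111133 (iv3 F474852)) (tt N111134 D214376) (tt N44924 (iv5 D159185)) (tt N59667 (iv6 F363573)) (tt N79172 F345407))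
theorem Q78738 : ∀ i, i < 78738 → P i := stepQ 78737 Q78737 (allL N78737 (tt N75810 F355402) (tt N51999 (iv0 F308807)) (tt N87702 (iv2 F380187)) (tt N44925 (iv3 D159186)) (tt N78706 F250669) (tt N49038 F307023) (tt N46588 F311017) (tt N82328 (iv7 F280306)))
theorem Q78739 : ∀ i, i < 78739 → P i := stepQ 78738 Q78738 (allL N78738 (tt N44928 (iv1 D159201)) (tt N79520 F257088) (tt N79518 F360735) (tt N102849 F438931) (tt N93466 (iv4 F400855)) (tt N101681 (iv5 F433840)) (tt N48256 F342101) (tt N79519 (iv7 F360739)))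
theorem Q78740 : ∀ i, i < 78740 → P i := stepQ 78739 Q78739 (allL N78739 (tt N44944 (iv1 F250698)) (tt N44930 (iv0 D159205)) (tt N44943 F345828) (tt N103064 (iv3 F439922)) (tt N96863 (iv4 F414324)) (tt N70528 F345829) (tt N95670 (iv6 F409067)) (tt N44942 F345830))
theorem Q78741 : ∀ i, i < 78741 → P i := stepQ 78740 Q78740 (allL N78740 (tt N44943 (iv1 F250703)) (tt N44942 F250701) (tt N44930 (iv2 D159207)) (tt N47085 F319512) (tt N91831 (iv4 F394597)) (tt N47083 F319513) (tt N48247 F250699) (tt N44944 F250700))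
theorem Q78742 : ∀ i, i < 78742 → P i := stepQ 78741 Q78741 (allL N78741 (tt N81214 F355871) (tt N81213 (iv0 F358038)) (tt N81216 (iv2 F339195)) (tt N44931 (iv3 D159215)) (tt N44932 F250713) (tt N80526 F339176) (tt N79516 (iv6 F257080)) (tt N79221 (iv7 F253519)))
theorem Q78743 : ∀ i, i < 78743 → P i := stepQ 78742 Q78742 (allL N78742 (tt N82533 F299711) (tt N45756 F299712) (tt N79541 F299713) (tt N80526 (iv3 F355916)) (tt N80193 F341689) (tt N44931 (iv5 D159216)) (tt N80191 (iv6 F355919)) (tt N60488 (iv7 F358954)))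
theorem Q78744 : ∀ i, i < 78744 → P i := stepQ 78743 Q78743 (allL N78743 (tt N46736 (iv1 F250723)) (tt N44936 (iv0 D159227)) (tt N47890 (iv2 F255331)) (tt N93843 F402116) (tt N63870 F302041) (tt N59351 (iv5 F360038)) (tt N47830 F255333) (tt N59524 (iv7 F343763)))
theorem Q78745 : ∀ i, i < 78745 → P i := stepQ 78744 Q78744 (allL N78744 (tt N65730 (iv1 F330155)) (tt N45732 F299544) (tt N64522 F299545) (tt N81806 F341712) (tt N79772 (iv4 F344881)) (tt N44937 (iv5 D159237)) (tt N60563 F358956) (tt N65729 (iv7 F341729)))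
theorem Q78746 : ∀ i, i < 78746 → P i := stepQ 78745 Q78745 (allL N78745 (tt N44941 (iv1 D159266)) (tt N64066 F304983) (tt N47112 F330762) (tt N101080 (iv3 F431572)) (tt N47795 F304984) (tt N47110 F330763) (tt N48274 F330764) (tt N45912 F330765))
theorem Q78747 : ∀ i, i < 78747 → P i := stepQ 78746 Q78746 (allL N78746 (tt N96882 (iv1 F414427)) (tt N96855 (iv0 F414278)) (tt N96881 F414421) (tt N71601 (iv3 F407250)) (tt N44942 (iv4 D159276)) (tt N111135 D214377) (tt N107079 (iv6 F456879)) (tt N96863 F414327))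
theorem Q78748 : ∀ i, i < 78748 → P i := stepQ 78747 Q78747 (allL N78747 (tt N96855 F414280) (tt N96882 F414428) (tt N96863 (iv2 F414323)) (tt N102134 (iv3 F435889)) (tt N44943 (iv4 D159281)) (tt N111136 D214378) (tt N58636 F381053) (tt N96881 (iv7 F414420)))
theorem Q78749 : ∀ i, i < 78749 → P i := stepQ 78748 Q78748 (allL N78748 (tt N101017 (iv1 F431291)) (tt N80290 (iv0 F345804)) (tt N44945 F250764) (tt N47076 (iv3 F317229)) (tt N80839 (iv4 F342349)) (tt N44944 (iv5 D159284)) (tt N65417 F250765) (tt N47083 F315003))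
theorem Q78750 : ∀ i, i < 78750 → P i := stepQ 78749 Q78749 (allL N78749 (tt N80840 F342341) (tt N80632 F342351) (tt N80839 F342348) (tt N64539 (iv3 F342344)) (tt N44945 (iv4 D159287)) (tt N111137 D214379) (tt N65419 F250766) (tt N64550 F342345))
theorem Q78751 : ∀ i, i < 78751 → P i := stepQ 78750 Q78750 (allL N78750 (tt N44947 (iv1 D159299)) (tt N48362 (iv0 F254289)) (tt N45908 (iv2 F254387)) (tt N47108 F330706) (tt N80233 F262244) (tt N45906 (iv5 F254418)) (tt N47106 F330707) (tt N48361 (iv7 F254356)))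
theorem Q78752 : ∀ i, i < 78752 → P i := stepQ 78751 Q78751 (allL N78751 (tt N48361 (iv1 F254294)) (tt N45908 (iv0 F254300)) (tt N44947 (iv2 D159300)) (tt N48376 F254314) (tt N46291 F254299) (tt N64260 (iv5 F254301)) (tt N97369 (iv6 F416545)) (tt N48362 (iv7 F254293)))
theorem Q78753 : ∀ i, i < 78753 → P i := stepQ 78752 Q78752 (allL N78752 (tt N65948 (iv1 F353602)) (tt N65944 F353612) (tt N97369 (iv2 F416543)) (tt N44949 F250779) (tt N55668 (iv4 F353615)) (tt N75593 F349825) (tt N44947 (iv6 D159302)) (tt N97629 (iv7 F417679)))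
theorem Q78754 : ∀ i, i < 78754 → P i := stepQ 78753 Q78753 (allL N78753 (tt N44951 (iv1 F250786)) (tt N44948 (iv0 D159304)) (tt N48366 F256564) (tt N96935 (iv3 F414670)) (tt N48402 F250781) (tt N111138 D214380) (tt N80703 F348562) (tt N48365 (iv7 F256563)))
theorem Q78755 : ∀ i, i < 78755 → P i := stepQ 78754 Q78754 (allL N78754 (tt N111064 (iv1 F474491)) (tt N71597 F360298) (tt N88469 (iv2 F383176)) (tt N44948 (iv3 D159306)) (tt N55670 (iv4 F343686)) (tt N87525 (iv5 F379655)) (tt N55669 F362851) (tt N48367 F254473))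
theorem Q78756 : ∀ i, i < 78756 → P i := stepQ 78755 Q78755 (allL N78755 (tt N111139 D214381) (tt N96939 F414691) (tt N48381 F254481) (tt N87525 F379657) (tt N111140 D214382) (tt N44948 (iv5 D159307)) (tt N104197 (iv6 F444648)) (tt N48368 F254474))
theorem Q78757 : ∀ i, i < 78757 → P i := stepQ 78756 Q78756 (allL N78756 (tt N48387 (iv1 F254488)) (tt N44949 (iv0 D159315)) (tt N48347 F330665) (tt N59537 F330666) (tt N75396 F349826) (tt N62498 (iv5 F349848)) (tt N95110 (iv6 F407088)) (tt N48385 F345365))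
theorem Q78758 : ∀ i, i < 78758 → P i := stepQ 78757 Q78757 (allL N78757 (tt N48385 (iv1 F254485)) (tt N48347 (iv0 F345366)) (tt N48387 (iv2 F254484)) (tt N97629 F417680) (tt N58571 F351034) (tt N62536 (iv5 F353463)) (tt N48374 F254490) (tt N44949 (iv7 D159318)))
theorem Q78759 : ∀ i, i < 78759 → P i := stepQ 78758 Q78758 (allL N78758 (tt N65430 F254413) (tt N65428 (iv0 F250793)) (tt N78410 F254271) (tt N88467 (iv3 F383171)) (tt N44950 (iv4 D159322)) (tt N90423 F389596) (tt N111141 D214383) (tt N48377 (iv7 F254272)))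
theorem Q78760 : ∀ i, i < 78760 → P i := stepQ 78759 Q78759 (allL N78759 (tt N79596 (iv1 F353283)) (tt N65846 (iv0 F353282)) (tt N79595 (iv2 F357778)) (tt N44952 F250822) (tt N111141 (iv4 F474895)) (tt N107103 (iv5 F456983)) (tt N44950 (iv6 D159323)) (tt N79590 (iv7 F363876)))
theorem Q78761 : ∀ i, i < 78761 → P i := stepQ 78760 Q78760 (allL N78760 (tt N96939 (iv1 F414690)) (tt N111139 F474886) (tt N48368 F254475) (tt N88468 (iv3 F383173)) (tt N111142 D214384) (tt N44951 (iv5 D159324)) (tt N111143 D214385) (tt N48381 (iv7 F254480)))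
theorem Q78762 : ∀ i, i < 78762 → P i := stepQ 78761 Q78761 (allL N78761 (tt N58594 (iv1 F353280)) (tt N95589 (iv0 F408793)) (tt N48369 F254463) (tt N81022 (iv3 F364248)) (tt N44952 F250823) (tt N81783 F338791) (tt N44951 (iv6 D159325)) (tt N79591 (iv7 F351037)))
theorem Q78763 : ∀ i, i < 78763 → P i := stepQ 78762 Q78762 (allL N78762 (tt N92587 (iv1 F397510)) (tt N100178 (iv0 F427867)) (tt N66578 F250827) (tt N111144 D214386) (tt N44954 (iv4 D159332)) (tt N109636 (iv5 F467864)) (tt N94160 (iv6 F403478)) (tt N85083 (iv7 F371581)))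
theorem Q78764 : ∀ i, i < 78764 → P i := stepQ 78763 Q78763 (allL N78763 (tt N100204 F427985) (tt N85133 (iv0 F371853)) (tt N60913 F250828) (tt N84797 (iv3 F370654)) (tt N94160 (iv4 F403476)) (tt N60909 F250829) (tt N44954 (iv6 D159333)) (tt N94157 (iv7 F403473)))
theorem Q78765 : ∀ i, i < 78765 → P i := stepQ 78764 Q78764 (allL N78764 (tt N76805 (iv1 F250831)) (tt N44955 (iv0 D159334)) (tt N76486 (iv2 F362841)) (tt N77400 F362839) (tt N63340 F250830) (tt N77397 (iv5 F362838)) (tt N76332 F362840) (tt N100209 (iv7 F428005)))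
theorem Q78766 : ∀ i, i < 78766 → P i := stepQ 78765 Q78765 (allL N78765 (tt N44955 (iv1 D159335)) (tt N76805 F250832) (tt N100209 F428007) (tt N111145 D214387) (tt N63341 F250833) (tt N111146 D214388) (tt N91059 F391800) (tt N76486 F362843))
theorem Q78767 : ∀ i, i < 78767 → P i := stepQ 78766 Q78766 (allL N78766 (tt N103721 F442583) (tt N104704 (iv0 F446930)) (tt N111147 D214389) (tt N44955 (iv3 D159336)) (tt N44968 F250834) (tt N111148 D214390) (tt N98500 (iv6 F421138)) (tt N98690 (iv7 F421865)))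
theorem Q78768 : ∀ i, i < 78768 → P i := stepQ 78767 Q78767 (allL N78767 (tt N111149 D214391) (tt N111150 D214392) (tt N100211 (iv2 F428009)) (tt N111148 (iv3 F474929)) (tt N100187 F427909) (tt N44955 (iv5 D159337)) (tt N100181 (iv6 F427876)) (tt N100212 (iv7 F428015)))
theorem Q78769 : ∀ i, i < 78769 → P i := stepQ 78768 Q78768 (allL N78768 (tt N111151 D214393) (tt N111152 D214394) (tt N86099 (iv2 F375122)) (tt N44957 (iv3 D159338)) (tt N86055 (iv4 F375021)) (tt N78785 (iv5 F250877)) (tt N71084 F343650) (tt N61629 F250835))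
theorem Q78770 : ∀ i, i < 78770 → P i := stepQ 78769 Q78769 (allL N78769 (tt N98698 (iv1 F421895)) (tt N98701 (iv0 F421912)) (tt N61623 F250836) (tt N71084 (iv3 F343649)) (tt N44958 F250837) (tt N71082 F343648) (tt N44957 (iv6 D159339)) (tt N111153 D214395))
theorem Q78771 : ∀ i, i < 78771 → P i := stepQ 78770 Q78770 (allL N78770 (tt N61626 (iv1 F250842)) (tt N44958 (iv0 D159340)) (tt N61624 F398914) (tt N106174 (iv3 F453451)) (tt N67673 F377475) (tt N86861 (iv5 F377473)) (tt N98510 (iv6 F421172)) (tt N61625 F398912))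
theorem Q78772 : ∀ i, i < 78772 → P i := stepQ 78771 Q78771 (allL N78771 (tt N44958 (iv1 D159341)) (tt N61626 F250838) (tt N61625 (iv2 F398913)) (tt N100228 (iv3 F428066)) (tt N104466 (iv4 F445887)) (tt N86862 (iv5 F377480)) (tt N111154 D214396) (tt N61624 (iv7 F398915)))
theorem Q78773 : ∀ i, i < 78773 → P i := stepQ 78772 Q78772 (allL N78772 (tt N61625 (iv1 F250843)) (tt N61624 F250844) (tt N61626 F250839) (tt N86060 (iv3 F375033)) (tt N111153 (iv4 F474957)) (tt N56599 F250840) (tt N61633 F250841) (tt N44958 (iv7 D159342)))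
theorem Q78774 : ∀ i, i < 78774 → P i := stepQ 78773 Q78773 (allL N78773 (tt N85282 (iv1 F372166)) (tt N79048 F374299) (tt N85875 (iv2 F374297)) (tt N44959 (iv3 D159343)) (tt N79029 F365412) (tt N78780 (iv5 F250866)) (tt N111155 D214397) (tt N61622 F250845))
theorem Q78775 : ∀ i, i < 78775 → P i := stepQ 78774 Q78774 (allL N78774 (tt N98212 F420012) (tt N98708 (iv0 F421949)) (tt N61630 F250846) (tt N111155 (iv3 F474968)) (tt N44960 F250847) (tt N97840 (iv5 F418463)) (tt N44959 (iv6 D159344)) (tt N111156 D214398))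
theorem Q78776 : ∀ i, i < 78776 → P i := stepQ 78775 Q78775 (allL N78775 (tt N61633 (iv1 F250855)) (tt N44960 (iv0 D159345)) (tt N61631 F250858) (tt N100170 F427821) (tt N97731 F418100) (tt N100773 (iv5 F430405)) (tt N86134 F383192) (tt N61632 F250857))
theorem Q78777 : ∀ i, i < 78777 → P i := stepQ 78776 Q78776 (allL N78776 (tt N44960 (iv1 D159346)) (tt N61633 F250848) (tt N61632 F250851) (tt N111157 D214399) (tt N103192 (iv4 F440499)) (tt N61496 (iv5 F250850)) (tt N61602 (iv6 F250849)) (tt N61631 (iv7 F250859)))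
theorem Q78778 : ∀ i, i < 78778 → P i := stepQ 78777 Q78777 (allL N78777 (tt N61632 (iv1 F250856)) (tt N61631 F250860) (tt N61633 F250853) (tt N74924 F366606) (tt N111156 (iv4 F474975)) (tt N79061 (iv5 F316761)) (tt N61626 F250854) (tt N44960 (iv7 D159347)))
theorem Q78779 : ∀ i, i < 78779 → P i := stepQ 78778 Q78778 (allL N78778 (tt N98170 (iv1 F419823)) (tt N98136 (iv0 F419634)) (tt N50970 F250861) (tt N111158 D214400) (tt N44961 (iv4 D159348)) (tt N72925 (iv5 F363561)) (tt N111159 D214401) (tt N50973 F250862))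
theorem Q78780 : ∀ i, i < 78780 → P i := stepQ 78779 Q78779 (allL N78779 (tt N86566 F376490) (tt N86564 (iv0 F376486)) (tt N50971 F250863) (tt N44963 F250864) (tt N111159 (iv4 F474996)) (tt N51316 F250865) (tt N44961 (iv6 D159349)) (tt N111160 D214402))
theorem Q78781 : ∀ i, i < 78781 → P i := stepQ 78780 Q78780 (allL N78780 (tt N103727 F442601) (tt N111161 D214403) (tt N111162 D214404) (tt N44962 (iv3 D159350)) (tt N111158 (iv4 F474988)) (tt N78773 F250866) (tt N71092 (iv6 F341587)) (tt N61640 F250867))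
theorem Q78782 : ∀ i, i < 78782 → P i := stepQ 78781 Q78781 (allL N78781 (tt N111163 D214405) (tt N111164 D214406) (tt N61636 F250868) (tt N71092 F341586) (tt N44963 F250869) (tt N103689 (iv5 F442485)) (tt N44962 (iv6 D159351)) (tt N111165 D214407))
theorem Q78783 : ∀ i, i < 78783 → P i := stepQ 78782 Q78782 (allL N78782 (tt N61639 (iv1 F250874)) (tt N44963 (iv0 D159352)) (tt N61637 F399564) (tt N101046 (iv3 F431435)) (tt N92271 (iv4 F396532)) (tt N104051 (iv5 F443936)) (tt N92270 (iv6 F396528)) (tt N61638 (iv7 F399565)))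
theorem Q78784 : ∀ i, i < 78784 → P i := stepQ 78783 Q78783 (allL N78783 (tt N44963 (iv1 D159353)) (tt N61639 F250870) (tt N61638 (iv2 F399567)) (tt N94005 (iv3 F403396)) (tt N103401 (iv4 F441452)) (tt N94137 F403395) (tt N111166 D214408) (tt N61637 F399566))
theorem Q78785 : ∀ i, i < 78785 → P i := stepQ 78784 Q78784 (allL N78784 (tt N61638 (iv1 F250875)) (tt N61637 F250876) (tt N61639 F250871) (tt N111160 (iv3 F475000)) (tt N111165 (iv4 F475033)) (tt N68383 F250872) (tt N61644 F250873) (tt N44963 (iv7 D159354)))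
theorem Q78786 : ∀ i, i < 78786 → P i := stepQ 78785 Q78785 (allL N78785 (tt N111167 D214409) (tt N111168 D214410) (tt N51005 F360963) (tt N44964 (iv3 D159355)) (tt N51001 F360964) (tt N78768 F250877) (tt N61612 (iv6 F360962)) (tt N61635 F250878))
theorem Q78787 : ∀ i, i < 78787 → P i := stepQ 78786 Q78786 (allL N78786 (tt N111169 D214411) (tt N111170 D214412) (tt N61641 F250879) (tt N61612 F360961) (tt N44965 F250880) (tt N106141 (iv5 F453321)) (tt N44964 (iv6 D159356)) (tt N98528 (iv7 F421219)))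
theorem Q78788 : ∀ i, i < 78788 → P i := stepQ 78787 Q78787 (allL N78787 (tt N61644 (iv1 F250885)) (tt N44965 (iv0 D159357)) (tt N61642 (iv2 F375203)) (tt N100204 (iv3 F427982)) (tt N103493 F441852) (tt N111171 D214413) (tt N100202 (iv6 F427974)) (tt N61643 F375202))
theorem Q78789 : ∀ i, i < 78789 → P i := stepQ 78788 Q78788 (allL N78788 (tt N44965 (iv1 D159358)) (tt N61644 F250881) (tt N61643 F375200) (tt N111172 D214414) (tt N111173 D214415) (tt N85053 (iv5 F371470)) (tt N51003 (iv6 F371471)) (tt N61642 (iv7 F375201)))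
theorem Q78790 : ∀ i, i < 78790 → P i := stepQ 78789 Q78789 (allL N78789 (tt N61643 (iv1 F250886)) (tt N61642 F250887) (tt N61644 F250882) (tt N98526 F421208) (tt N98528 (iv4 F421217)) (tt N75711 F250883) (tt N61639 F250884) (tt N44965 (iv7 D159359)))
theorem Q78791 : ∀ i, i < 78791 → P i := stepQ 78790 Q78790 (allL N78790 (tt N90081 (iv1 F388518)) (tt N90074 (iv0 F388497)) (tt N105128 (iv2 F448915)) (tt N44966 (iv3 D159360)) (tt N89071 (iv4 F385041)) (tt N67119 F250888) (tt N105123 (iv6 F448900)) (tt N61647 F250889))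
theorem Q78792 : ∀ i, i < 78792 → P i := stepQ 78791 Q78791 (allL N78791 (tt N92271 F396534) (tt N103401 (iv0 F441451)) (tt N61646 F250890) (tt N105123 (iv3 F448897)) (tt N56346 F250891) (tt N98713 (iv5 F421969)) (tt N44966 (iv6 D159361)) (tt N106127 (iv7 F453251)))
theorem Q78793 : ∀ i, i < 78793 → P i := stepQ 78792 Q78792 (allL N78792 (tt N54017 F343921) (tt N54012 F362782) (tt N91670 (iv2 F393969)) (tt N44967 (iv3 D159362)) (tt N83083 (iv4 F343919)) (tt N78803 (iv5 F250915)) (tt N106135 (iv6 F453295)) (tt N61645 F250892))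
theorem Q78794 : ∀ i, i < 78794 → P i := stepQ 78793 Q78793 (allL N78793 (tt N103493 F441854) (tt N111173 (iv0 F475082)) (tt N61648 F250893) (tt N106135 (iv3 F453293)) (tt N56348 F250894) (tt N104440 (iv5 F445777)) (tt N44967 (iv6 D159363)) (tt N106129 (iv7 F453266)))
theorem Q78795 : ∀ i, i < 78795 → P i := stepQ 78794 Q78794 (allL N78794 (tt N98687 (iv1 F421854)) (tt N44968 (iv0 D159364)) (tt N98689 F421863) (tt N111174 D214416) (tt N88923 (iv4 F446389)) (tt N111175 D214417) (tt N88921 F446388) (tt N98688 F421860))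
theorem Q78796 : ∀ i, i < 78796 → P i := stepQ 78795 Q78795 (allL N78795 (tt N44968 (iv1 D159365)) (tt N98687 F421851) (tt N98688 F421858) (tt N111176 D214418) (tt N111177 D214419) (tt N71077 F421852) (tt N71078 (iv6 F421853)) (tt N98689 (iv7 F421862)))
theorem Q78797 : ∀ i, i < 78797 → P i := stepQ 78796 Q78796 (allL N78796 (tt N98689 (iv1 F421861)) (tt N98688 F421857) (tt N44968 (iv2 D159366)) (tt N61651 F250895) (tt N111147 (iv4 F474926)) (tt N98057 (iv5 F419300)) (tt N98535 (iv6 F421230)) (tt N98687 (iv7 F421850)))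
theorem Q78798 : ∀ i, i < 78798 → P i := stepQ 78797 Q78797 (allL N78797 (tt N60969 (iv1 F250896)) (tt N44969 (iv0 D159367)) (tt N60974 F418782) (tt N111178 D214420) (tt N111179 D214421) (tt N111180 D214422) (tt N98337 (iv6 F420541)) (tt N60975 F418780))
theorem Q78799 : ∀ i, i < 78799 → P i := stepQ 78798 Q78798 (allL N78798 (tt N44969 (iv1 D159368)) (tt N60969 F250897) (tt N60975 (iv2 F418779)) (tt N102957 (iv3 F439439)) (tt N111181 D214423) (tt N97785 (iv5 F418298)) (tt N102956 (iv6 F439431)) (tt N60974 (iv7 F418781)))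
theorem Q78800 : ∀ i, i < 78800 → P i := stepQ 78799 Q78799 (allL N78799 (tt N61125 F250901) (tt N56345 F250902) (tt N60824 F250898) (tt N56099 F250899) (tt N93322 (iv4 F400395)) (tt N44970 (iv5 D159369)) (tt N93321 F400391) (tt N55772 F250900))
theorem Q78801 : ∀ i, i < 78801 → P i := stepQ 78800 Q78800 (allL N78800 (tt N50017 F250906) (tt N61662 F250907) (tt N44972 F250903) (tt N55350 (iv3 F335357)) (tt N50312 (iv4 F250908)) (tt N44971 (iv5 D159370)) (tt N111182 D214424) (tt N61124 F250905))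
theorem Q78802 : ∀ i, i < 78802 → P i := stepQ 78801 Q78801 (allL N78801 (tt N50109 F250911) (tt N50313 F250912) (tt N50312 F250909) (tt N83141 (iv3 F345166)) (tt N44972 (iv4 D159371)) (tt N109631 (iv5 F467840)) (tt N111183 D214425) (tt N50311 F250910))
theorem Q78803 : ∀ i, i < 78803 → P i := stepQ 78802 Q78802 (allL N78802 (tt N109379 F466665) (tt N111184 D214426) (tt N111182 (iv2 F475114)) (tt N44974 F250913) (tt N111183 (iv4 F475121)) (tt N56463 F250914) (tt N44972 (iv6 D159372)) (tt N111185 D214427))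
theorem Q78804 : ∀ i, i < 78804 → P i := stepQ 78803 Q78803 (allL N78803 (tt N111186 D214428) (tt N111187 D214429) (tt N83096 (iv2 F360999)) (tt N44973 (iv3 D159373)) (tt N83141 F361003) (tt N78792 F250915) (tt N111188 D214430) (tt N61664 F250916))
theorem Q78805 : ∀ i, i < 78805 → P i := stepQ 78804 Q78804 (allL N78804 (tt N67673 F333536) (tt N104466 (iv0 F445889)) (tt N61657 F250917) (tt N111188 (iv3 F475149)) (tt N44974 F250918) (tt N68850 F333529) (tt N44973 (iv6 D159374)) (tt N92266 (iv7 F396520)))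
theorem Q78806 : ∀ i, i < 78806 → P i := stepQ 78805 Q78805 (allL N78805 (tt N61660 (iv1 F250923)) (tt N44974 (iv0 D159375)) (tt N61658 F399596) (tt N61226 (iv3 F364998)) (tt N97924 F418821) (tt N110979 (iv5 F474055)) (tt N97820 (iv6 F418415)) (tt N61659 F399594))
theorem Q78807 : ∀ i, i < 78807 → P i := stepQ 78806 Q78806 (allL N78806 (tt N44974 (iv1 D159376)) (tt N61660 F250919) (tt N61659 (iv2 F399593)) (tt N107922 F460306) (tt N98633 (iv4 F421661)) (tt N92975 (iv5 F398988)) (tt N111189 D214431) (tt N61658 (iv7 F399595)))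
theorem Q78808 : ∀ i, i < 78808 → P i := stepQ 78807 Q78807 (allL N78807 (tt N61659 (iv1 F250924)) (tt N61658 F250925) (tt N61660 F250920) (tt N111185 (iv3 F475131)) (tt N92266 (iv4 F396519)) (tt N56465 F250921) (tt N61667 F250922) (tt N44974 (iv7 D159377)))
theorem Q78809 : ∀ i, i < 78809 → P i := stepQ 78808 Q78808 (allL N78808 (tt N56102 (iv1 F250939)) (tt N44975 (iv0 D159382)) (tt N56100 (iv2 F250938)) (tt N61662 (iv3 F250941)) (tt N50983 (iv4 F329845)) (tt N45264 F250936) (tt N111190 D214432) (tt N45263 F250940))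
theorem Q78810 : ∀ i, i < 78810 → P i := stepQ 78809 Q78809 (allL N78809 (tt N85274 (iv1 F372134)) (tt N50869 (iv0 F329253)) (tt N56101 F250942) (tt N98243 (iv3 F420115)) (tt N44975 (iv4 D159383)) (tt N84392 (iv5 F369125)) (tt N60910 F335903) (tt N76177 F250943))
theorem Q78811 : ∀ i, i < 78811 → P i := stepQ 78810 Q78810 (allL N78810 (tt N45257 F250961) (tt N61161 F250962) (tt N44981 F250958) (tt N56298 F250959) (tt N85481 (iv4 F372775)) (tt N44976 (iv5 D159389)) (tt N111191 D214433) (tt N44985 F250960))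
theorem Q78812 : ∀ i, i < 78812 → P i := stepQ 78811 Q78811 (allL N78811 (tt N111192 D214434) (tt N111193 D214435) (tt N111194 D214436) (tt N44979 (iv3 D159393)) (tt N65488 (iv4 F366757)) (tt N100271 (iv5 F428189)) (tt N65486 (iv6 F312158)) (tt N109635 (iv7 F467860)))
theorem Q78813 : ∀ i, i < 78813 → P i := stepQ 78812 Q78812 (allL N78812 (tt N82222 (iv1 F279613)) (tt N73607 (iv0 F322967)) (tt N44996 F250977) (tt N66636 F250978) (tt N71282 F359427) (tt N56036 F250979) (tt N44980 (iv6 D159394)) (tt N71276 (iv7 F312163)))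
theorem Q78814 : ∀ i, i < 78814 → P i := stepQ 78813 Q78813 (allL N78813 (tt N44981 (iv1 D159395)) (tt N44985 F250983) (tt N61161 F250987) (tt N61654 (iv3 F250986)) (tt N63319 (iv4 F250988)) (tt N45258 F250985) (tt N85921 (iv6 F375781)) (tt N45257 F250984))
theorem Q78815 : ∀ i, i < 78815 → P i := stepQ 78814 Q78814 (allL N78814 (tt N79000 (iv1 F251705)) (tt N84884 F374812) (tt N85481 (iv2 F372774)) (tt N84793 F370639) (tt N44981 (iv4 D159396)) (tt N111149 (iv5 F474931)) (tt N111195 D214437) (tt N66861 F250989))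
theorem Q78816 : ∀ i, i < 78816 → P i := stepQ 78815 Q78815 (allL N78815 (tt N105421 (iv1 F450183)) (tt N105006 (iv0 F448336)) (tt N111191 (iv2 F475161)) (tt N76178 F250990) (tt N111195 (iv4 F475176)) (tt N76453 F250991) (tt N44981 (iv6 D159397)) (tt N109364 (iv7 F466592)))
theorem Q78817 : ∀ i, i < 78817 → P i := stepQ 78816 Q78816 (allL N78816 (tt N63351 F250995) (tt N63347 F250996) (tt N107273 F457740) (tt N77157 F352730) (tt N111150 (iv4 F474940)) (tt N44982 (iv5 D159399)) (tt N77155 (iv6 F352729)) (tt N66870 F250994))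
theorem Q78818 : ∀ i, i < 78818 → P i := stepQ 78817 Q78817 (allL N78817 (tt N53343 (iv1 F339129)) (tt N44983 (iv0 D159401)) (tt N47812 F309227) (tt N46457 (iv3 F311376)) (tt N64387 (iv4 F341193)) (tt N47677 F309228) (tt N82233 (iv6 F279740)) (tt N47676 (iv7 F311372)))
theorem Q78819 : ∀ i, i < 78819 → P i := stepQ 78818 Q78818 (allL N78818 (tt N47676 (iv1 F311370)) (tt N47812 F309225) (tt N53343 (iv2 F339130)) (tt N66890 F251004) (tt N53311 F339127) (tt N64362 (iv5 F305313)) (tt N53319 (iv6 F339151)) (tt N44983 (iv7 D159402)))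
theorem Q78820 : ∀ i, i < 78820 → P i := stepQ 78819 Q78819 (allL N78819 (tt N84884 F374811) (tt N79000 (iv0 F251704)) (tt N66861 F251009) (tt N84868 (iv3 F370921)) (tt N44985 (iv4 D159403)) (tt N111150 (iv5 F474939)) (tt N109387 F466710) (tt N85481 (iv7 F372776)))
theorem Q78821 : ∀ i, i < 78821 → P i := stepQ 78820 Q78820 (allL N78820 (tt N100196 (iv1 F427944)) (tt N109362 F466581) (tt N66860 F251010) (tt N56296 F251011) (tt N109387 (iv4 F466708)) (tt N45205 F251012) (tt N44985 (iv6 D159404)) (tt N107918 (iv7 F460283)))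
theorem Q78822 : ∀ i, i < 78822 → P i := stepQ 78821 Q78821 (allL N78821 (tt N63347 F251015) (tt N63351 F251016) (tt N66870 F251014) (tt N52740 F352731) (tt N111149 (iv4 F474932)) (tt N44986 (iv5 D159406)) (tt N52729 (iv6 F352728)) (tt N107273 (iv7 F457742)))
theorem Q78823 : ∀ i, i < 78823 → P i := stepQ 78822 Q78822 (allL N78822 (tt N44987 (iv1 D159408)) (tt N53319 (iv0 F339147)) (tt N53363 (iv2 F339134)) (tt N66873 (iv3 F251023)) (tt N100177 (iv4 F427856)) (tt N48082 F308658) (tt N65386 (iv6 F251024)) (tt N53364 (iv7 F339146)))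
theorem Q78824 : ∀ i, i < 78824 → P i := stepQ 78823 Q78823 (allL N78823 (tt N83458 F373382) (tt N83455 (iv0 F358624)) (tt N106282 (iv2 F453882)) (tt N44988 (iv3 D159410)) (tt N75521 F251033) (tt N83350 (iv5 F358622)) (tt N109553 (iv6 F467486)) (tt N77518 F251034))
theorem Q78825 : ∀ i, i < 78825 → P i := stepQ 78824 Q78824 (allL N78824 (tt N100182 (iv1 F427882)) (tt N79102 (iv0 F252595)) (tt N100255 F428146) (tt N83350 F358623) (tt N111146 (iv4 F474922)) (tt N44988 (iv5 D159411)) (tt N83349 (iv6 F358626)) (tt N100254 F428142))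
theorem Q78826 : ∀ i, i < 78826 → P i := stepQ 78825 Q78825 (allL N78825 (tt N79102 (iv1 F252596)) (tt N100182 (iv0 F427881)) (tt N100254 (iv2 F428140)) (tt N90790 (iv3 F390883)) (tt N77397 F362836) (tt N44990 (iv5 D159416)) (tt N77396 (iv6 F362837)) (tt N100255 (iv7 F428144)))
theorem Q78827 : ∀ i, i < 78827 → P i := stepQ 78826 Q78826 (allL N78826 (tt N62603 F251048) (tt N87749 F380356) (tt N45191 F251044) (tt N62940 F251045) (tt N63389 (iv4 F316812)) (tt N44991 (iv5 D159419)) (tt N45187 F251046) (tt N63388 F334853))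
theorem Q78828 : ∀ i, i < 78828 → P i := stepQ 78827 Q78827 (allL N78827 (tt N70875 F357723) (tt N111196 D214438) (tt N71222 (iv2 F353568)) (tt N44992 (iv3 D159421)) (tt N99966 (iv4 F426991)) (tt N111197 D214439) (tt N54678 (iv6 F349499)) (tt N100236 (iv7 F428103)))
theorem Q78829 : ∀ i, i < 78829 → P i := stepQ 78828 Q78828 (allL N78828 (tt N63364 F251054) (tt N63361 F251055) (tt N66581 F251053) (tt N111197 (iv3 F475186)) (tt N109775 (iv4 F468555)) (tt N44992 (iv5 D159422)) (tt N100762 F430348) (tt N100237 (iv7 F428105)))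
theorem Q78830 : ∀ i, i < 78830 → P i := stepQ 78829 Q78829 (allL N78829 (tt N103187 (iv1 F440481)) (tt N44993 (iv0 D159423)) (tt N77734 F353003) (tt N83211 F353001) (tt N55049 (iv4 F353002)) (tt N111198 D214440) (tt N111199 D214441) (tt N103188 (iv7 F440487)))
theorem Q78831 : ∀ i, i < 78831 → P i := stepQ 78830 Q78830 (allL N78830 (tt N44993 (iv1 D159424)) (tt N103187 (iv0 F440480)) (tt N103188 F440485) (tt N71919 (iv3 F386854)) (tt N75682 (iv4 F251056)) (tt N111200 D214442) (tt N71917 F386860) (tt N77734 F353023))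
theorem Q78832 : ∀ i, i < 78832 → P i := stepQ 78831 Q78831 (allL N78831 (tt N77734 F251058) (tt N103188 F440486) (tt N44993 (iv2 D159425)) (tt N111194 (iv3 F475171)) (tt N44999 F251057) (tt N110409 (iv5 F471440)) (tt N71284 (iv6 F314605)) (tt N103187 (iv7 F440479)))
theorem Q78833 : ∀ i, i < 78833 → P i := stepQ 78832 Q78832 (allL N78832 (tt N110402 (iv1 F471413)) (tt N83468 (iv0 F391169)) (tt N110409 F471441) (tt N44994 F251059) (tt N111201 D214443) (tt N44993 (iv5 D159426)) (tt N111202 D214444) (tt N100273 (iv7 F428194)))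
theorem Q78834 : ∀ i, i < 78834 → P i := stepQ 78833 Q78833 (allL N78833 (tt N111150 (iv1 F474937)) (tt N111149 F474933) (tt N100212 (iv2 F428013)) (tt N111203 D214445) (tt N44994 (iv4 D159427)) (tt N76805 F251060) (tt N111204 D214446) (tt N100211 (iv7 F428011)))
theorem Q78835 : ∀ i, i < 78835 → P i := stepQ 78834 Q78834 (allL N78834 (tt N111205 D214447) (tt N111206 D214448) (tt N100272 (iv2 F428191)) (tt N111202 (iv3 F475207)) (tt N111204 (iv4 F475210)) (tt N53306 (iv5 F359929)) (tt N44994 (iv6 D159428)) (tt N111207 D214449))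
theorem Q78836 : ∀ i, i < 78836 → P i := stepQ 78835 Q78835 (allL N78835 (tt N71197 (iv1 F359420)) (tt N71280 (iv0 F359425)) (tt N71282 (iv2 F359426)) (tt N103189 (iv3 F440489)) (tt N44996 F251061) (tt N100233 (iv5 F428090)) (tt N44995 (iv6 D159429)) (tt N71272 (iv7 F314613)))
theorem Q78837 : ∀ i, i < 78837 → P i := stepQ 78836 Q78836 (allL N78836 (tt N44996 (iv1 D159431)) (tt N71276 (iv0 F312161)) (tt N73607 (iv2 F322969)) (tt N107237 (iv3 F457586)) (tt N54464 F334898) (tt N55183 (iv5 F319871)) (tt N54463 (iv6 F334897)) (tt N82222 (iv7 F279614)))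
theorem Q78838 : ∀ i, i < 78838 → P i := stepQ 78837 Q78837 (allL N78837 (tt N86376 (iv1 F376004)) (tt N77981 (iv0 F366455)) (tt N95767 (iv2 F409541)) (tt N44997 (iv3 D159433)) (tt N77754 F251063) (tt N102720 (iv5 F438349)) (tt N95782 (iv6 F409615)) (tt N60078 F349890))
theorem Q78839 : ∀ i, i < 78839 → P i := stepQ 78838 Q78838 (allL N78838 (tt N98995 (iv1 F422980)) (tt N98993 F422966) (tt N98991 F422952) (tt N111208 D214450) (tt N44997 (iv4 D159434)) (tt N106576 (iv5 F454923)) (tt N106845 (iv6 F455958)) (tt N98992 (iv7 F422956)))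
theorem Q78840 : ∀ i, i < 78840 → P i := stepQ 78839 Q78839 (allL N78839 (tt N79460 F346537) (tt N80299 (iv0 F346539)) (tt N80827 F349898) (tt N95782 (iv3 F409614)) (tt N106845 (iv4 F455957)) (tt N104811 (iv5 F447408)) (tt N44997 (iv6 D159436)) (tt N80828 (iv7 F349899)))
theorem Q78841 : ∀ i, i < 78841 → P i := stepQ 78840 Q78840 (allL N78840 (tt N45001 (iv1 D159446)) (tt N68115 F350554) (tt N54493 F350553) (tt N51806 (iv3 F317172)) (tt N92796 (iv4 F398265)) (tt N67135 (iv5 F350552)) (tt N66639 F358197) (tt N67134 F339727))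
theorem Q78842 : ∀ i, i < 78842 → P i := stepQ 78841 Q78841 (allL N78841 (tt N54493 F357127) (tt N67134 (iv0 F339729)) (tt N68115 F350598) (tt N56187 F251084) (tt N45004 F251085) (tt N60128 F339730) (tt N56187 F251086) (tt N45001 (iv7 D159448)))
theorem Q78843 : ∀ i, i < 78843 → P i := stepQ 78842 Q78842 (allL N78842 (tt N98220 (iv1 F420041)) (tt N66784 (iv0 F251088)) (tt N98134 (iv2 F419618)) (tt N100287 (iv3 F428264)) (tt N78243 (iv4 F350562)) (tt N45002 (iv5 D159451)) (tt N111209 D214451) (tt N78242 F350581))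
theorem Q78844 : ∀ i, i < 78844 → P i := stepQ 78843 Q78843 (allL N78843 (tt N85778 F398215) (tt N98082 F419383) (tt N81506 (iv2 F355242)) (tt N74448 F355243) (tt N87504 (iv4 F379594)) (tt N60805 F251089) (tt N45002 (iv6 D159452)) (tt N97789 (iv7 F418313)))
theorem Q78845 : ∀ i, i < 78845 → P i := stepQ 78844 Q78844 (allL N78844 (tt N85782 (iv1 F373916)) (tt N86222 (iv0 F375435)) (tt N98070 (iv2 F419345)) (tt N45003 (iv3 D159454)) (tt N80181 F358938) (tt N111210 D214452) (tt N79064 F358941) (tt N81507 (iv7 F358940)))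
theorem Q78846 : ∀ i, i < 78846 → P i := stepQ 78845 Q78845 (allL N78845 (tt N66784 (iv1 F353126)) (tt N98220 F420040) (tt N78242 (iv2 F350582)) (tt N111210 (iv3 F475237)) (tt N59063 (iv4 F350561)) (tt N45003 (iv5 D159456)) (tt N66804 (iv6 F251091)) (tt N98134 (iv7 F419621)))
theorem Q78847 : ∀ i, i < 78847 → P i := stepQ 78846 Q78846 (allL N78846 (tt N98121 (iv1 F419551)) (tt N46050 F353127) (tt N91556 (iv2 F393631)) (tt N79064 (iv3 F358942)) (tt N91554 (iv4 F393622)) (tt N103024 (iv5 F439722)) (tt N45003 (iv6 D159457)) (tt N98120 (iv7 F419541)))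
theorem Q78848 : ∀ i, i < 78848 → P i := stepQ 78847 Q78847 (allL N78847 (tt N45008 (iv1 F251104)) (tt N45005 (iv0 D159464)) (tt N61122 (iv2 F251105)) (tt N86312 F375796) (tt N98507 (iv4 F421162)) (tt N55780 F251103) (tt N104000 (iv6 F443723)) (tt N61560 (iv7 F251106)))
theorem Q78849 : ∀ i, i < 78849 → P i := stepQ 78848 Q78848 (allL N78848 (tt N45005 (iv1 D159465)) (tt N45008 F251107) (tt N61560 (iv2 F251111)) (tt N66784 (iv3 F359296)) (tt N98508 (iv4 F421169)) (tt N61123 F251109) (tt N66783 (iv6 F290518)) (tt N61122 F251108))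
theorem Q78850 : ∀ i, i < 78850 → P i := stepQ 78849 Q78849 (allL N78849 (tt N98599 (iv1 F421512)) (tt N98601 (iv0 F421520)) (tt N61561 F251113) (tt N103664 F442418) (tt N45005 (iv4 D159466)) (tt N98624 (iv5 F421627)) (tt N111211 D214453) (tt N61589 F251114))
theorem Q78851 : ∀ i, i < 78851 → P i := stepQ 78850 Q78850 (allL N78850 (tt N98700 F421907) (tt N111212 D214454) (tt N61562 F251115) (tt N69529 (iv3 F352122)) (tt N111211 (iv4 F475240)) (tt N69528 F352123) (tt N45005 (iv6 D159467)) (tt N105677 (iv7 F451213)))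
theorem Q78852 : ∀ i, i < 78852 → P i := stepQ 78851 Q78851 (allL N78851 (tt N76947 F357337) (tt N76950 (iv0 F348701)) (tt N76949 (iv2 F355680)) (tt N55830 F251122) (tt N45007 (iv4 D159471)) (tt N83072 (iv5 F356338)) (tt N111213 D214455) (tt N61546 F251123))
theorem Q78853 : ∀ i, i < 78853 → P i := stepQ 78852 Q78852 (allL N78852 (tt N109075 (iv1 F465237)) (tt N89877 F387832) (tt N98097 (iv2 F419452)) (tt N45008 F251124) (tt N111214 D214456) (tt N45007 (iv5 D159472)) (tt N85278 F372146) (tt N61558 F251125))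
theorem Q78854 : ∀ i, i < 78854 → P i := stepQ 78853 Q78853 (allL N78853 (tt N98113 F419509) (tt N98093 (iv0 F419433)) (tt N98098 (iv2 F419454)) (tt N45009 F251126) (tt N111213 (iv4 F475251)) (tt N103019 (iv5 F439697)) (tt N45007 (iv6 D159473)) (tt N98111 (iv7 F419496)))
theorem Q78855 : ∀ i, i < 78855 → P i := stepQ 78854 Q78854 (allL N78854 (tt N98601 (iv1 F421521)) (tt N98599 (iv0 F421511)) (tt N61589 F251127) (tt N111215 D214457) (tt N45008 (iv4 D159474)) (tt N98625 (iv5 F421634)) (tt N111216 D214458) (tt N61561 F251128))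
theorem Q78856 : ∀ i, i < 78856 → P i := stepQ 78855 Q78855 (allL N78855 (tt N85283 F372172) (tt N66806 (iv0 F251130)) (tt N61590 F251129) (tt N85278 (iv3 F372147)) (tt N111216 (iv4 F475261)) (tt N103021 (iv5 F439708)) (tt N45008 (iv6 D159475)) (tt N98235 (iv7 F420088)))
theorem Q78857 : ∀ i, i < 78857 → P i := stepQ 78856 Q78856 (allL N78856 (tt N50413 (iv1 F251135)) (tt N50412 F251136) (tt N50137 F251131) (tt N50447 F251132) (tt N98617 (iv4 F421599)) (tt N45174 F251133) (tt N45010 (iv6 D159476)) (tt N50410 (iv7 F251134)))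
theorem Q78858 : ∀ i, i < 78858 → P i := stepQ 78857 Q78857 (allL N78857 (tt N50459 (iv1 F251148)) (tt N50458 F251149) (tt N50461 (iv2 F251146)) (tt N45011 (iv3 D159477)) (tt N111217 D214459) (tt N78925 (iv5 F251386)) (tt N50429 (iv6 F251147)) (tt N50139 F251145))
theorem Q78859 : ∀ i, i < 78859 → P i := stepQ 78858 Q78858 (allL N78858 (tt N92999 F399074) (tt N87506 (iv0 F379601)) (tt N92831 (iv2 F398410)) (tt N50429 F251153) (tt N98620 (iv4 F421616)) (tt N78927 (iv5 F251394)) (tt N45011 (iv6 D159478)) (tt N50415 F251154))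
theorem Q78860 : ∀ i, i < 78860 → P i := stepQ 78859 Q78859 (allL N78859 (tt N90113 F388582) (tt N111218 D214460) (tt N104711 (iv2 F446949)) (tt N45012 (iv3 D159479)) (tt N93720 (iv4 F401662)) (tt N103778 (iv5 F442774)) (tt N45017 F251155) (tt N103777 F442770))
theorem Q78861 : ∀ i, i < 78861 → P i := stepQ 78860 Q78860 (allL N78860 (tt N98024 (iv1 F419210)) (tt N98022 (iv0 F419201)) (tt N92833 (iv2 F398425)) (tt N103778 (iv3 F442772)) (tt N92783 (iv4 F398205)) (tt N45012 (iv5 D159480)) (tt N103736 (iv6 F442627)) (tt N92782 F398202))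
theorem Q78862 : ∀ i, i < 78862 → P i := stepQ 78861 Q78861 (allL N78861 (tt N61613 (iv1 F251157)) (tt N61612 F251158) (tt N92834 (iv2 F398430)) (tt N103777 (iv3 F442768)) (tt N45013 F251156) (tt N92782 (iv5 F398201)) (tt N104616 (iv6 F446558)) (tt N45012 (iv7 D159481)))
theorem Q78863 : ∀ i, i < 78863 → P i := stepQ 78862 Q78862 (allL N78862 (tt N92795 (iv1 F398262)) (tt N92794 F398261) (tt N92787 (iv2 F398227)) (tt N66801 F251159) (tt N104616 (iv4 F446557)) (tt N56175 F251160) (tt N45013 (iv6 D159482)) (tt N45020 F251161))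
theorem Q78864 : ∀ i, i < 78864 → P i := stepQ 78863 Q78863 (allL N78863 (tt N92861 (iv1 F398558)) (tt N45014 (iv0 D159483)) (tt N92859 F398546) (tt N87507 (iv3 F379603)) (tt N111163 (iv4 F475019)) (tt N86886 F377589) (tt N87506 (iv6 F379599)) (tt N92860 (iv7 F398549)))
theorem Q78865 : ∀ i, i < 78865 → P i := stepQ 78864 Q78864 (allL N78864 (tt N45014 (iv1 D159484)) (tt N92861 F398557) (tt N92860 F398552) (tt N93132 F399623) (tt N111164 (iv4 F475027)) (tt N86885 (iv5 F377583)) (tt N111219 D214461) (tt N92859 F398547))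
theorem Q78866 : ∀ i, i < 78866 → P i := stepQ 78865 Q78865 (allL N78865 (tt N92860 (iv1 F398548)) (tt N92859 F398553) (tt N92861 (iv2 F398554)) (tt N71309 (iv3 F362771)) (tt N71071 F343929) (tt N68125 F251162) (tt N92864 (iv6 F398572)) (tt N45014 (iv7 D159485)))
theorem Q78867 : ∀ i, i < 78867 → P i := stepQ 78866 Q78866 (allL N78866 (tt N98298 (iv1 F420393)) (tt N93767 F401831) (tt N85652 F373400) (tt N98679 (iv3 F421828)) (tt N45015 (iv4 D159486)) (tt N108839 F464209) (tt N111220 D214462) (tt N92857 (iv7 F398536)))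
theorem Q78868 : ∀ i, i < 78868 → P i := stepQ 78867 Q78867 (allL N78867 (tt N89866 (iv1 F387796)) (tt N50423 (iv0 F251164)) (tt N89864 F387784) (tt N45016 F251163) (tt N111220 (iv4 F475277)) (tt N79052 (iv5 F252004)) (tt N45015 (iv6 D159487)) (tt N89865 (iv7 F387789)))
theorem Q78869 : ∀ i, i < 78869 → P i := stepQ 78868 Q78868 (allL N78868 (tt N92864 (iv1 F398574)) (tt N45016 (iv0 D159488)) (tt N92862 F398560) (tt N66779 (iv3 F251166)) (tt N111169 (iv4 F475055)) (tt N111221 D214463) (tt N66776 F251165) (tt N92863 (iv7 F398563)))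
theorem Q78870 : ∀ i, i < 78870 → P i := stepQ 78869 Q78869 (allL N78869 (tt N45016 (iv1 D159489)) (tt N92864 F398573) (tt N92863 (iv2 F398567)) (tt N111222 D214464) (tt N111170 (iv4 F475063)) (tt N111223 D214465) (tt N50413 F374519) (tt N92862 F398561))
theorem Q78871 : ∀ i, i < 78871 → P i := stepQ 78870 Q78870 (allL N78870 (tt N92863 (iv1 F398562)) (tt N92862 F398568) (tt N92864 (iv2 F398569)) (tt N89865 F387791) (tt N98681 (iv4 F421836)) (tt N79056 (iv5 F252010)) (tt N92861 (iv6 F398556)) (tt N45016 (iv7 D159490)))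
theorem Q78872 : ∀ i, i < 78872 → P i := stepQ 78871 Q78871 (allL N78871 (tt N111224 D214466) (tt N45017 (iv0 D159491)) (tt N103651 (iv2 F442364)) (tt N103716 (iv3 F442564)) (tt N95121 F421823) (tt N104692 (iv5 F446893)) (tt N103646 F442348) (tt N104691 (iv7 F446891)))
theorem Q78873 : ∀ i, i < 78873 → P i := stepQ 78872 Q78872 (allL N78872 (tt N45017 (iv1 D159492)) (tt N111224 F475298) (tt N104691 (iv2 F446886)) (tt N91693 (iv3 F394066)) (tt N89777 (iv4 F387516)) (tt N104685 (iv5 F446874)) (tt N104687 F446872) (tt N103651 F442367))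
theorem Q78874 : ∀ i, i < 78874 → P i := stepQ 78873 Q78873 (allL N78873 (tt N103651 F442369) (tt N104691 F446890) (tt N45017 (iv2 D159493)) (tt N92866 (iv3 F398575)) (tt N89827 F387665) (tt N111225 D214467) (tt N104711 (iv6 F446951)) (tt N111224 (iv7 F475299)))
theorem Q78875 : ∀ i, i < 78875 → P i := stepQ 78874 Q78874 (allL N78874 (tt N111226 D214468) (tt N111227 D214469) (tt N111225 (iv2 F475301)) (tt N45018 F251167) (tt N109451 (iv4 F467024)) (tt N45017 (iv5 D159494)) (tt N109146 F465564) (tt N56349 (iv7 F251168)))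
theorem Q78876 : ∀ i, i < 78876 → P i := stepQ 78875 Q78875 (allL N78875 (tt N104691 F446889) (tt N103651 F442368) (tt N111224 F475297) (tt N45019 F251169) (tt N66798 F251170) (tt N56349 F251171) (tt N67725 (iv6 F362933)) (tt N45017 (iv7 D159495)))
theorem Q78877 : ∀ i, i < 78877 → P i := stepQ 78876 Q78876 (allL N78876 (tt N98046 (iv1 F419289)) (tt N98049 (iv0 F419292)) (tt N78877 (iv2 F251173)) (tt N109146 (iv3 F465565)) (tt N56282 F251172) (tt N103736 (iv5 F442626)) (tt N45018 (iv6 D159496)) (tt N111228 D214470))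
theorem Q78878 : ∀ i, i < 78878 → P i := stepQ 78877 Q78877 (allL N78877 (tt N111179 F475107) (tt N111181 (iv0 F475113)) (tt N78876 F251173) (tt N67725 F362932) (tt N45020 F251174) (tt N67724 (iv5 F362931)) (tt N45019 (iv6 D159497)) (tt N104616 (iv7 F446559)))
theorem Q78879 : ∀ i, i < 78879 → P i := stepQ 78878 Q78878 (allL N78878 (tt N92787 (iv1 F398231)) (tt N45020 (iv0 D159498)) (tt N92794 (iv2 F418646)) (tt N100328 F432785) (tt N98051 (iv4 F419293)) (tt N97889 (iv5 F418674)) (tt N103048 (iv6 F439838)) (tt N92795 F418645))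
theorem Q78880 : ∀ i, i < 78880 → P i := stepQ 78879 Q78879 (allL N78879 (tt N45020 (iv1 D159499)) (tt N92787 F398230) (tt N92795 F418643) (tt N104958 (iv3 F448138)) (tt N98052 (iv4 F419294)) (tt N97879 (iv5 F418642)) (tt N98205 F419986) (tt N92794 (iv7 F418644)))
theorem Q78881 : ∀ i, i < 78881 → P i := stepQ 78880 Q78880 (allL N78880 (tt N80030 (iv1 F364190)) (tt N78939 (iv0 F355335)) (tt N47535 F324634) (tt N61336 F251176) (tt N61143 F251177) (tt N60851 F251178) (tt N45021 (iv6 D159500)) (tt N98769 (iv7 F422238)))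
theorem Q78882 : ∀ i, i < 78882 → P i := stepQ 78881 Q78881 (allL N78881 (tt N50279 F251182) (tt N50277 F251183) (tt N45056 F251179) (tt N45092 F251180) (tt N69206 F342165) (tt N45022 (iv5 D159501)) (tt N69204 (iv6 F342162)) (tt N55722 F251181))
theorem Q78883 : ∀ i, i < 78883 → P i := stepQ 78882 Q78882 (allL N78882 (tt N86602 (iv1 F376580)) (tt N84486 (iv0 F369507)) (tt N86031 (iv2 F374958)) (tt N55781 F251184) (tt N61144 F251185) (tt N104918 (iv5 F447934)) (tt N45026 (iv6 D159502)) (tt N86601 (iv7 F376573)))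
theorem Q78884 : ∀ i, i < 78884 → P i := stepQ 78883 Q78883 (allL N78883 (tt N60261 F251188) (tt N60269 F251189) (tt N60267 F251186) (tt N111229 D214471) (tt N45027 (iv4 D159503)) (tt N86813 (iv5 F377280)) (tt N98304 (iv6 F420426)) (tt N60266 F251187))
theorem Q78885 : ∀ i, i < 78885 → P i := stepQ 78884 Q78884 (allL N78884 (tt N64765 F251195) (tt N64037 (iv0 F251196)) (tt N46010 F251190) (tt N45028 (iv3 D159504)) (tt N45101 F251191) (tt N77200 F251192) (tt N51289 F251193) (tt N61466 F251194))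
theorem Q78886 : ∀ i, i < 78886 → P i := stepQ 78885 Q78885 (allL N78885 (tt N50823 F251200) (tt N51012 F251201) (tt N51010 F251197) (tt N61293 F251198) (tt N111230 D214472) (tt N45029 (iv5 D159505)) (tt N50969 F251199) (tt N51009 F364519))
theorem Q78887 : ∀ i, i < 78887 → P i := stepQ 78886 Q78886 (allL N78886 (tt N81088 F346728) (tt N92653 (iv0 F397776)) (tt N54426 (iv2 F346731)) (tt N75889 (iv3 F353461)) (tt N45031 F251203) (tt N46834 F346729) (tt N45030 (iv6 D159506)) (tt N54432 F346730))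
theorem Q78888 : ∀ i, i < 78888 → P i := stepQ 78887 Q78887 (allL N78887 (tt N55754 (iv1 F354890)) (tt N47479 F354891) (tt N60845 F251205) (tt N70823 (iv3 F363728)) (tt N71475 (iv4 F251210)) (tt N45031 (iv5 D159507)) (tt N50257 F251206) (tt N60962 (iv7 F251209)))
theorem Q78889 : ∀ i, i < 78889 → P i := stepQ 78888 Q78888 (allL N78888 (tt N66661 F335169) (tt N98483 F421082) (tt N62828 F335165) (tt N45036 F251259) (tt N62799 (iv4 F335163)) (tt N70701 F335167) (tt N45034 (iv6 D159519)) (tt N62826 F335166))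
theorem Q78890 : ∀ i, i < 78890 → P i := stepQ 78889 Q78889 (allL N78889 (tt N87715 (iv1 F380246)) (tt N45037 (iv0 D159520)) (tt N76035 F336922) (tt N87790 (iv3 F380511)) (tt N46117 F336923) (tt N97159 F415713) (tt N111231 D214473) (tt N76038 F336924))
theorem Q78891 : ∀ i, i < 78891 → P i := stepQ 78890 Q78890 (allL N78890 (tt N45037 (iv1 D159521)) (tt N87715 F380245) (tt N76038 F336917) (tt N46616 (iv3 F261862)) (tt N46118 F336918) (tt N111232 D214474) (tt N98123 (iv6 F419561)) (tt N76035 F336919))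
theorem Q78892 : ∀ i, i < 78892 → P i := stepQ 78891 Q78891 (allL N78891 (tt N71827 F439449) (tt N67133 (iv0 F365051)) (tt N71824 F365071) (tt N87712 (iv3 F380229)) (tt N86871 (iv4 F377521)) (tt N45037 (iv5 D159522)) (tt N51787 F251260) (tt N71825 (iv7 F365073)))
theorem Q78893 : ∀ i, i < 78893 → P i := stepQ 78892 Q78892 (allL N78892 (tt N76038 (iv1 F336926)) (tt N76035 F336930) (tt N87715 (iv2 F380242)) (tt N87713 (iv3 F380233)) (tt N45040 F251261) (tt N71825 F365074) (tt N87713 (iv6 F380235)) (tt N45037 (iv7 D159523)))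
theorem Q78894 : ∀ i, i < 78894 → P i := stepQ 78893 Q78893 (allL N78893 (tt N63412 F347602) (tt N45203 F347603) (tt N63410 (iv2 F347594)) (tt N45038 (iv3 D159524)) (tt N79068 F347592) (tt N66135 (iv5 F347599)) (tt N70030 F347593) (tt N63411 (iv7 F347590)))
theorem Q78895 : ∀ i, i < 78895 → P i := stepQ 78894 Q78894 (allL N78894 (tt N92642 F397729) (tt N85771 (iv0 F373868)) (tt N90768 (iv2 F390778)) (tt N70030 (iv3 F361697)) (tt N87118 (iv4 F378395)) (tt N70029 (iv5 F332614)) (tt N45038 (iv6 D159527)) (tt N90776 (iv7 F390802)))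
theorem Q78896 : ∀ i, i < 78896 → P i := stepQ 78895 Q78895 (allL N78895 (tt N61143 F251274) (tt N77209 F251275) (tt N77207 (iv2 F336957)) (tt N76362 F251273) (tt N45042 (iv4 D159543)) (tt N105087 (iv5 F448731)) (tt N111233 D214475) (tt N77206 F336934))
theorem Q78897 : ∀ i, i < 78897 → P i := stepQ 78896 Q78896 (allL N78896 (tt N98115 (iv1 F419516)) (tt N98116 (iv0 F419522)) (tt N98088 (iv2 F419408)) (tt N45044 F251277) (tt N111233 (iv4 F475349)) (tt N79929 (iv5 F259022)) (tt N45042 (iv6 D159545)) (tt N111234 D214476))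
theorem Q78898 : ∀ i, i < 78898 → P i := stepQ 78897 Q78897 (allL N78897 (tt N56161 (iv1 F259204)) (tt N46064 (iv0 F251279)) (tt N56159 F251278) (tt N105318 (iv3 F449684)) (tt N102494 (iv4 F437428)) (tt N79931 (iv5 F259025)) (tt N45043 (iv6 D159547)) (tt N56160 (iv7 F251280)))
theorem Q78899 : ∀ i, i < 78899 → P i := stepQ 78898 Q78898 (allL N78898 (tt N46041 F290523) (tt N46049 F251286) (tt N61113 F251281) (tt N111234 (iv3 F475350)) (tt N78380 F251282) (tt N61068 F251283) (tt N56275 F251284) (tt N45044 (iv7 D159548)))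
theorem Q78900 : ∀ i, i < 78900 → P i := stepQ 78899 Q78899 (allL N78899 (tt N111221 F475286) (tt N111223 (iv0 F475293)) (tt N69528 (iv2 F352124)) (tt N85980 F374726) (tt N103490 (iv4 F441846)) (tt N61562 F251289) (tt N45045 (iv6 D159552)) (tt N111235 D214477))
theorem Q78901 : ∀ i, i < 78901 → P i := stepQ 78900 Q78900 (allL N78900 (tt N45046 (iv1 D159554)) (tt N98064 F419330) (tt N69010 (iv2 F326565)) (tt N102448 (iv3 F437269)) (tt N45084 F251294) (tt N92925 (iv5 F398781)) (tt N111236 D214478) (tt N75702 F251293))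
theorem Q78902 : ∀ i, i < 78902 → P i := stepQ 78901 Q78901 (allL N78901 (tt N69010 (iv1 F326564)) (tt N75702 F251299) (tt N98064 (iv2 F419327)) (tt N69001 F362909) (tt N45047 F251297) (tt N93184 (iv5 F399852)) (tt N111237 D214479) (tt N45046 (iv7 D159557)))
theorem Q78903 : ∀ i, i < 78903 → P i := stepQ 78902 Q78902 (allL N78902 (tt N93199 (iv1 F399934)) (tt N92655 (iv0 F397779)) (tt N93196 (iv2 F399918)) (tt N60808 F251300) (tt N111237 (iv4 F475365)) (tt N56479 F251301) (tt N45047 (iv6 D159558)) (tt N45055 F251302))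
theorem Q78904 : ∀ i, i < 78904 → P i := stepQ 78903 Q78903 (allL N78903 (tt N50179 (iv1 F251306)) (tt N45048 (iv0 D159559)) (tt N50176 (iv2 F251303)) (tt N102940 (iv3 F439353)) (tt N85055 (iv4 F371473)) (tt N84425 (iv5 F369983)) (tt N111223 (iv6 F475291)) (tt N50177 (iv7 F251304)))
theorem Q78905 : ∀ i, i < 78905 → P i := stepQ 78904 Q78904 (allL N78904 (tt N69019 (iv1 F350879)) (tt N69013 F350881) (tt N69017 F347266) (tt N45051 (iv3 D159565)) (tt N66302 F251327) (tt N78917 (iv5 F251351)) (tt N85057 (iv6 F371480)) (tt N68903 (iv7 F325511)))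
theorem Q78906 : ∀ i, i < 78906 → P i := stepQ 78905 Q78905 (allL N78905 (tt N103696 (iv1 F442514)) (tt N45052 (iv0 D159566)) (tt N69024 (iv2 F365648)) (tt N69152 F347278) (tt N101997 (iv4 F435288)) (tt N111238 D214480) (tt N111239 D214481) (tt N103692 (iv7 F442499)))
theorem Q78907 : ∀ i, i < 78907 → P i := stepQ 78906 Q78906 (allL N78906 (tt N69024 (iv1 F402682)) (tt N103692 (iv0 F442497)) (tt N45052 (iv2 D159568)) (tt N98067 (iv3 F419334)) (tt N93976 F402681) (tt N111240 D214482) (tt N69002 F362914) (tt N103696 (iv7 F442515)))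
theorem Q78908 : ∀ i, i < 78908 → P i := stepQ 78907 Q78907 (allL N78907 (tt N111241 D214483) (tt N111242 D214484) (tt N111240 (iv2 F475379)) (tt N45053 F251329) (tt N111243 D214485) (tt N45052 (iv5 D159569)) (tt N105761 (iv6 F451576)) (tt N60989 (iv7 F251330)))
theorem Q78909 : ∀ i, i < 78909 → P i := stepQ 78908 Q78908 (allL N78908 (tt N103692 (iv1 F442498)) (tt N69024 (iv0 F365650)) (tt N103696 F442517) (tt N45054 F251331) (tt N60446 F251332) (tt N60989 F251333) (tt N103548 F442005) (tt N45052 (iv7 D159570)))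
theorem Q78910 : ∀ i, i < 78910 → P i := stepQ 78909 Q78909 (allL N78909 (tt N109445 (iv1 F466993)) (tt N109446 (iv0 F466997)) (tt N78910 (iv2 F251335)) (tt N105761 (iv3 F451575)) (tt N56675 F251334) (tt N105759 (iv5 F451567)) (tt N45053 (iv6 D159571)) (tt N111244 D214486))
theorem Q78911 : ∀ i, i < 78911 → P i := stepQ 78910 Q78910 (allL N78910 (tt N103544 F444286) (tt N111245 D214487) (tt N78909 F251335) (tt N103548 (iv3 F442004)) (tt N45055 F251336) (tt N111246 D214488) (tt N45054 (iv6 D159572)) (tt N111237 (iv7 F475367)))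
theorem Q78912 : ∀ i, i < 78912 → P i := stepQ 78911 Q78911 (allL N78911 (tt N45055 (iv1 D159574)) (tt N93196 F399921) (tt N93199 F399936) (tt N104082 (iv3 F444085)) (tt N103559 (iv4 F442038)) (tt N111247 D214489) (tt N105780 (iv6 F451680)) (tt N92655 F397781))
theorem Q78913 : ∀ i, i < 78913 → P i := stepQ 78912 Q78912 (allL N78912 (tt N103891 F443240) (tt N111248 D214490) (tt N69204 (iv2 F342161)) (tt N45058 F251337) (tt N69191 F330898) (tt N50974 F251338) (tt N45056 (iv6 D159575)) (tt N69200 (iv7 F363185)))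
theorem Q78914 : ∀ i, i < 78914 → P i := stepQ 78913 Q78913 (allL N78913 (tt N102857 F438969) (tt N111249 D214491) (tt N102714 (iv2 F438338)) (tt N45057 (iv3 D159576)) (tt N99177 (iv4 F423586)) (tt N60844 F251339) (tt N69089 F423590) (tt N75712 F251340))
theorem Q78915 : ∀ i, i < 78915 → P i := stepQ 78914 Q78914 (allL N78914 (tt N98670 F421805) (tt N97819 (iv0 F421802)) (tt N75708 F251341) (tt N69089 (iv3 F423591)) (tt N45058 F251342) (tt N111250 D214492) (tt N45057 (iv6 D159577)) (tt N111251 D214493))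
theorem Q78916 : ∀ i, i < 78916 → P i := stepQ 78915 Q78915 (allL N78915 (tt N45058 (iv1 D159579)) (tt N75711 F251344) (tt N75710 (iv2 F364723)) (tt N60912 F419052) (tt N104715 (iv4 F446962)) (tt N98604 (iv5 F421535)) (tt N111252 D214494) (tt N75709 F364722))
theorem Q78917 : ∀ i, i < 78917 → P i := stepQ 78916 Q78916 (allL N78916 (tt N75710 (iv1 F251349)) (tt N75709 F251350) (tt N75711 F251345) (tt N69200 F363186) (tt N111251 (iv4 F475439)) (tt N61644 F251346) (tt N75716 F251347) (tt N45058 (iv7 D159580)))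
theorem Q78918 : ∀ i, i < 78918 → P i := stepQ 78917 Q78917 (allL N78917 (tt N107037 (iv1 F456734)) (tt N111253 D214495) (tt N104632 (iv2 F446615)) (tt N45059 (iv3 D159581)) (tt N105568 (iv4 F450765)) (tt N78904 F251351) (tt N105567 (iv6 F450763)) (tt N75707 F251352))
theorem Q78919 : ∀ i, i < 78919 → P i := stepQ 78918 Q78918 (allL N78918 (tt N97861 (iv1 F418557)) (tt N109449 (iv0 F467013)) (tt N75713 F251353) (tt N105567 (iv3 F450758)) (tt N45060 F251354) (tt N106149 (iv5 F453357)) (tt N45059 (iv6 D159582)) (tt N111254 D214496))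
theorem Q78920 : ∀ i, i < 78920 → P i := stepQ 78919 Q78919 (allL N78919 (tt N75716 (iv1 F251361)) (tt N45060 (iv0 D159583)) (tt N75714 F251480) (tt N109052 (iv3 F465116)) (tt N104748 (iv4 F447092)) (tt N86571 (iv5 F376509)) (tt N50272 F251355) (tt N75715 F251478))
theorem Q78921 : ∀ i, i < 78921 → P i := stepQ 78920 Q78920 (allL N78920 (tt N45060 (iv1 D159584)) (tt N75716 F251356) (tt N75715 (iv2 F251477)) (tt N98743 (iv3 F422113)) (tt N66127 F364740) (tt N92206 (iv5 F396248)) (tt N66125 (iv6 F327787)) (tt N75714 (iv7 F251479)))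
theorem Q78922 : ∀ i, i < 78922 → P i := stepQ 78921 Q78921 (allL N78921 (tt N75715 (iv1 F251362)) (tt N75714 F251363) (tt N75716 F251358) (tt N83973 F367677) (tt N111254 (iv4 F475457)) (tt N68379 F251359) (tt N75711 F251360) (tt N45060 (iv7 D159585)))
theorem Q78923 : ∀ i, i < 78923 → P i := stepQ 78922 Q78922 (allL N78922 (tt N103987 (iv1 F443662)) (tt N98153 (iv0 F419739)) (tt N69451 F335868) (tt N100782 (iv3 F430446)) (tt N69448 (iv4 F364333)) (tt N45063 (iv5 D159593)) (tt N97176 (iv6 F415766)) (tt N103984 (iv7 F443651)))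
theorem Q78924 : ∀ i, i < 78924 → P i := stepQ 78923 Q78923 (allL N78923 (tt N107177 F457357) (tt N61144 (iv0 F251382)) (tt N81298 (iv2 F360779)) (tt N64543 (iv3 F336372)) (tt N45065 (iv4 D159595)) (tt N60303 F352978) (tt N111255 D214497) (tt N90859 F391068))
theorem Q78925 : ∀ i, i < 78925 → P i := stepQ 78924 Q78924 (allL N78924 (tt N92033 (iv1 F395444)) (tt N92032 F395453) (tt N92034 (iv2 F395449)) (tt N45066 F251383) (tt N86625 (iv4 F376619)) (tt N45065 (iv5 D159596)) (tt N85323 (iv6 F372237)) (tt N51425 F251384))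
theorem Q78926 : ∀ i, i < 78926 → P i := stepQ 78925 Q78925 (allL N78925 (tt N85368 (iv1 F372370)) (tt N85367 (iv0 F372366)) (tt N85370 (iv2 F372380)) (tt N45067 F251385) (tt N111255 (iv4 F475464)) (tt N78857 F251386) (tt N45065 (iv6 D159597)) (tt N84391 (iv7 F369124)))
theorem Q78927 : ∀ i, i < 78927 → P i := stepQ 78926 Q78926 (allL N78926 (tt N45066 (iv1 D159598)) (tt N45069 F251387) (tt N79949 (iv2 F259062)) (tt N103987 F443666) (tt N94013 (iv4 F402820)) (tt N56333 F251389) (tt N56449 (iv6 F251390)) (tt N61076 F251388))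
theorem Q78928 : ∀ i, i < 78928 → P i := stepQ 78927 Q78927 (allL N78927 (tt N93125 F399592) (tt N98699 (iv0 F421903)) (tt N78292 F364639) (tt N85323 (iv3 F372235)) (tt N93033 (iv4 F399198)) (tt N78858 F251394) (tt N45066 (iv6 D159600)) (tt N85297 (iv7 F372197)))
theorem Q78929 : ∀ i, i < 78929 → P i := stepQ 78928 Q78928 (allL N78928 (tt N45067 (iv1 D159601)) (tt N61121 F251395) (tt N61123 F251399) (tt N80144 (iv3 F353110)) (tt N61182 F251397) (tt N61560 F251400) (tt N46049 (iv6 F251398)) (tt N55780 F251396))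
theorem Q78930 : ∀ i, i < 78930 → P i := stepQ 78929 Q78929 (allL N78929 (tt N91203 F399404) (tt N74476 (iv0 F319880)) (tt N76639 F251408) (tt N45069 F251409) (tt N78296 (iv4 F364641)) (tt N45068 (iv5 D159605)) (tt N83726 (iv6 F345008)) (tt N76636 F251410))
theorem Q78931 : ∀ i, i < 78931 → P i := stepQ 78930 Q78930 (allL N78930 (tt N50073 F251414) (tt N76569 F251415) (tt N76640 F251411) (tt N45070 F251412) (tt N80878 F363651) (tt N83322 F287426) (tt N45068 (iv6 D159606)) (tt N76661 (iv7 F251413)))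
theorem Q78932 : ∀ i, i < 78932 → P i := stepQ 78931 Q78931 (allL N78931 (tt N85298 (iv1 F372200)) (tt N50010 (iv0 F251417)) (tt N51424 F251416) (tt N83726 F345010) (tt N104350 (iv4 F445370)) (tt N51423 (iv5 F251418)) (tt N45069 (iv6 D159608)) (tt N85286 (iv7 F372177)))
theorem Q78933 : ∀ i, i < 78933 → P i := stepQ 78932 Q78932 (allL N78932 (tt N52575 F251431) (tt N52574 (iv0 F251432)) (tt N53928 F251427) (tt N45071 (iv3 D159610)) (tt N49387 F251428) (tt N48531 F251429) (tt N77547 F334942) (tt N63018 (iv7 F307860)))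
theorem Q78934 : ∀ i, i < 78934 → P i := stepQ 78933 Q78933 (allL N78933 (tt N63073 F349086) (tt N108294 (iv0 F461935)) (tt N45073 F251433) (tt N77547 F334936) (tt N45072 F251434) (tt N62831 (iv5 F334938)) (tt N45071 (iv6 D159611)) (tt N73942 F335172))
theorem Q78935 : ∀ i, i < 78935 → P i := stepQ 78934 Q78934 (allL N78934 (tt N45077 (iv1 F251440)) (tt N45072 (iv0 D159612)) (tt N45074 F336846) (tt N81462 (iv3 F336872)) (tt N73375 (iv4 F336849)) (tt N70754 F336847) (tt N74867 F339440) (tt N45075 F336848))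
theorem Q78936 : ∀ i, i < 78936 → P i := stepQ 78935 Q78935 (allL N78935 (tt N45072 (iv1 D159613)) (tt N45077 F251435) (tt N45075 F336821) (tt N46118 F336822) (tt N46615 F283768) (tt N60954 F336823) (tt N98268 (iv6 F420256)) (tt N45074 F336824))
theorem Q78937 : ∀ i, i < 78937 → P i := stepQ 78936 Q78936 (allL N78936 (tt N45075 (iv1 F251441)) (tt N45074 F251442) (tt N45077 F251436) (tt N75688 F251437) (tt N73942 (iv4 F335170)) (tt N74905 F251438) (tt N75630 (iv6 F313235)) (tt N45072 (iv7 D159614)))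
theorem Q78938 : ∀ i, i < 78938 → P i := stepQ 78937 Q78937 (allL N78937 (tt N45260 F314750) (tt N62833 F314751) (tt N62831 F314752) (tt N63804 F251444) (tt N105077 (iv4 F448672)) (tt N45073 (iv5 D159616)) (tt N73940 (iv6 F356851)) (tt N62830 F314753))
theorem Q78939 : ∀ i, i < 78939 → P i := stepQ 78938 Q78938 (allL N78938 (tt N108294 (iv1 F461936)) (tt N63073 (iv0 F314046)) (tt N73942 F335171) (tt N63805 F251445) (tt N45077 F251446) (tt N62830 (iv5 F359682)) (tt N68575 (iv6 F309872)) (tt N45073 (iv7 D159617)))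
theorem Q78940 : ∀ i, i < 78940 → P i := stepQ 78939 Q78939 (allL N78939 (tt N78880 F355335) (tt N80901 (iv0 F335032)) (tt N76037 (iv2 F364187)) (tt N45075 (iv3 D159623)) (tt N70074 F355306) (tt N55406 (iv5 F355334)) (tt N111256 D214498) (tt N81462 F364189))
theorem Q78941 : ∀ i, i < 78941 → P i := stepQ 78940 Q78940 (allL N78940 (tt N74762 F335029) (tt N88192 F382106) (tt N46615 F336854) (tt N70076 (iv3 F335031)) (tt N45075 (iv4 D159624)) (tt N73376 F333168) (tt N111257 D214499) (tt N73375 F333231))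
theorem Q78942 : ∀ i, i < 78942 → P i := stepQ 78941 Q78941 (allL N78941 (tt N98270 (iv1 F421039)) (tt N75567 F421038) (tt N98268 F420257) (tt N111256 (iv3 F475470)) (tt N111257 (iv4 F475478)) (tt N98477 (iv5 F421056)) (tt N45075 (iv6 D159626)) (tt N98269 (iv7 F420260)))
theorem Q78943 : ∀ i, i < 78943 → P i := stepQ 78942 Q78942 (allL N78942 (tt N45079 (iv1 D159635)) (tt N45081 F251472) (tt N66125 (iv2 F327785)) (tt N70690 F349084) (tt N66123 (iv4 F341607)) (tt N61520 (iv5 F251474)) (tt N75715 F251476) (tt N66121 (iv7 F327780)))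
theorem Q78944 : ∀ i, i < 78944 → P i := stepQ 78943 Q78943 (allL N78943 (tt N45207 F347608) (tt N64545 F347609) (tt N64544 (iv2 F347612)) (tt N90859 (iv3 F391066)) (tt N45080 (iv4 D159640)) (tt N78164 (iv5 F360940)) (tt N90857 (iv6 F391064)) (tt N64543 (iv7 F336374)))
theorem Q78945 : ∀ i, i < 78945 → P i := stepQ 78944 Q78944 (allL N78944 (tt N74933 F364219) (tt N61490 F364430) (tt N76372 F332649) (tt N45082 F251492) (tt N90857 F391063) (tt N98473 (iv5 F421033)) (tt N45080 (iv6 D159642)) (tt N76386 F335475))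
theorem Q78946 : ∀ i, i < 78946 → P i := stepQ 78945 Q78945 (allL N78945 (tt N102423 (iv1 F437175)) (tt N102422 (iv0 F437170)) (tt N69147 (iv2 F327789)) (tt N102434 (iv3 F437215)) (tt N45081 (iv4 D159643)) (tt N93057 (iv5 F399315)) (tt N111258 D214500) (tt N75698 F251494))
theorem Q78947 : ∀ i, i < 78947 → P i := stepQ 78946 Q78946 (allL N78946 (tt N90779 (iv1 F390809)) (tt N60823 (iv0 F251496)) (tt N75700 F251495) (tt N55731 (iv3 F336803)) (tt N111258 (iv4 F475484)) (tt N98474 (iv5 F421042)) (tt N45081 (iv6 D159644)) (tt N100778 (iv7 F430426)))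
theorem Q78948 : ∀ i, i < 78948 → P i := stepQ 78947 Q78947 (allL N78947 (tt N45090 F343524) (tt N74412 F343525) (tt N69550 (iv2 F343526)) (tt N45084 (iv3 D159646)) (tt N105385 (iv4 F449997)) (tt N61600 F251498) (tt N111259 D214501) (tt N74411 (iv7 F347572)))
theorem Q78949 : ∀ i, i < 78949 → P i := stepQ 78948 Q78948 (allL N78948 (tt N111171 F475071) (tt N85053 (iv0 F371469)) (tt N75704 F251500) (tt N111259 (iv3 F475489)) (tt N111236 (iv4 F475362)) (tt N61604 F251501) (tt N45084 (iv6 D159647)) (tt N109660 (iv7 F467975)))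
theorem Q78950 : ∀ i, i < 78950 → P i := stepQ 78949 Q78949 (allL N78949 (tt N75732 (iv1 F251520)) (tt N75731 F251521) (tt N75706 F251516) (tt N74909 F251517) (tt N102572 (iv4 F437716)) (tt N57285 F251518) (tt N45086 (iv6 D159653)) (tt N45089 F251519))
theorem Q78951 : ∀ i, i < 78951 → P i := stepQ 78950 Q78950 (allL N78950 (tt N102591 (iv1 F437828)) (tt N45088 (iv0 D159654)) (tt N102588 F437812) (tt N111260 D214502) (tt N70629 F437666) (tt N109024 (iv5 F465461)) (tt N111261 D214503) (tt N102589 F437811))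
theorem Q78952 : ∀ i, i < 78952 → P i := stepQ 78951 Q78951 (allL N78951 (tt N45088 (iv1 D159655)) (tt N102591 F437827) (tt N102589 F437810) (tt N67744 (iv3 F350871)) (tt N70630 F367914) (tt N109025 (iv5 F464985)) (tt N67742 F360184) (tt N102588 (iv7 F437814)))
theorem Q78953 : ∀ i, i < 78953 → P i := stepQ 78952 Q78952 (allL N78952 (tt N75706 (iv1 F251523)) (tt N45089 (iv0 D159657)) (tt N75731 F444288) (tt N104121 (iv3 F444281)) (tt N103544 F441995) (tt N111262 D214504) (tt N109563 (iv6 F467543)) (tt N75732 (iv7 F444287)))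
theorem Q78954 : ∀ i, i < 78954 → P i := stepQ 78953 Q78953 (allL N78953 (tt N45089 (iv1 D159658)) (tt N75706 F251524) (tt N75732 (iv2 F444289)) (tt N111263 D214505) (tt N111245 (iv4 F475409)) (tt N105002 (iv5 F448315)) (tt N105922 (iv6 F452361)) (tt N75731 F444290))
theorem Q78955 : ∀ i, i < 78955 → P i := stepQ 78954 Q78954 (allL N78954 (tt N72030 F251539) (tt N92564 (iv0 F397399)) (tt N55720 F251537) (tt N70939 (iv3 F350299)) (tt N45092 (iv4 D159673)) (tt N73359 (iv5 F350015)) (tt N111264 D214506) (tt N55723 F251538))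
theorem Q78956 : ∀ i, i < 78956 → P i := stepQ 78955 Q78955 (allL N78955 (tt N60915 (iv1 F342164)) (tt N70778 (iv0 F342163)) (tt N55721 F251540) (tt N69204 F342160) (tt N111264 (iv4 F475517)) (tt N76181 F251541) (tt N45092 (iv6 D159674)) (tt N70776 (iv7 F342159)))
theorem Q78957 : ∀ i, i < 78957 → P i := stepQ 78956 Q78956 (allL N78956 (tt N92233 F396387) (tt N111263 (iv0 F475513)) (tt N60050 F251547) (tt N71816 (iv3 F327580)) (tt N73266 F365492) (tt N78283 F251549) (tt N45095 (iv6 D159677)) (tt N94045 (iv7 F402962)))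
theorem Q78958 : ∀ i, i < 78958 → P i := stepQ 78957 Q78957 (allL N78957 (tt N45096 (iv1 D159679)) (tt N76357 F251550) (tt N76355 F253050) (tt N111125 (iv3 F474798)) (tt N64204 (iv4 F261874)) (tt N105410 (iv5 F450126)) (tt N111265 D214507) (tt N76354 F253048))
theorem Q78959 : ∀ i, i < 78959 → P i := stepQ 78958 Q78958 (allL N78958 (tt N76355 (iv1 F251557)) (tt N76354 F251558) (tt N76357 F251553) (tt N110304 (iv3 F470940)) (tt N45099 F251554) (tt N105112 (iv5 F448850)) (tt N76371 F251555) (tt N45096 (iv7 D159681)))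
theorem Q78960 : ∀ i, i < 78960 → P i := stepQ 78959 Q78959 (allL N78959 (tt N51281 (iv1 F283584)) (tt N51285 (iv0 F251745)) (tt N76364 F251564) (tt N48625 F251565) (tt N105094 (iv4 F448762)) (tt N49245 F251566) (tt N45097 (iv6 D159683)) (tt N82741 (iv7 F283735)))
theorem Q78961 : ∀ i, i < 78961 → P i := stepQ 78960 Q78960 (allL N78960 (tt N45098 (iv1 D159685)) (tt N76367 F251568) (tt N57283 (iv2 F258987)) (tt N95893 (iv3 F410119)) (tt N111266 D214508) (tt N61544 F258988) (tt N111267 D214509) (tt N76365 (iv7 F259153)))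
theorem Q78962 : ∀ i, i < 78962 → P i := stepQ 78961 Q78961 (allL N78961 (tt N98359 F430456) (tt N83751 (iv0 F399769)) (tt N76366 F251569) (tt N103988 (iv3 F443668)) (tt N45098 (iv4 D159686)) (tt N111268 D214510) (tt N45100 F251570) (tt N109755 (iv7 F468466)))
theorem Q78963 : ∀ i, i < 78963 → P i := stepQ 78962 Q78962 (allL N78962 (tt N57283 (iv1 F259152)) (tt N76365 F251576) (tt N76367 F251571) (tt N60252 F251572) (tt N109755 (iv4 F468464)) (tt N45099 F251573) (tt N97173 (iv6 F415753)) (tt N45098 (iv7 D159687)))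
theorem Q78964 : ∀ i, i < 78964 → P i := stepQ 78963 Q78963 (allL N78963 (tt N100500 F429209) (tt N103808 (iv0 F442916)) (tt N98089 (iv2 F419413)) (tt N45102 F251579) (tt N51289 F251580) (tt N111269 D214511) (tt N45101 (iv6 D159689)) (tt N103816 (iv7 F442941)))
theorem Q78965 : ∀ i, i < 78965 → P i := stepQ 78964 Q78964 (allL N78964 (tt N45111 F251583) (tt N45102 (iv0 D159690)) (tt N45108 F251584) (tt N64405 F354945) (tt N50031 F251581) (tt N111270 D214512) (tt N71995 (iv6 F354834)) (tt N45109 (iv7 F251582)))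
theorem Q78966 : ∀ i, i < 78966 → P i := stepQ 78965 Q78965 (allL N78965 (tt N45102 (iv1 D159691)) (tt N45111 F251585) (tt N45109 (iv2 F251587)) (tt N108785 (iv3 F463920)) (tt N85821 (iv4 F374114)) (tt N111271 D214513) (tt N110866 (iv6 F473517)) (tt N45108 F251586))
theorem Q78967 : ∀ i, i < 78967 → P i := stepQ 78966 Q78966 (allL N78966 (tt N111272 D214514) (tt N111273 D214515) (tt N45110 F251588) (tt N111269 (iv3 F475544)) (tt N111274 D214516) (tt N45102 (iv5 D159692)) (tt N64538 F251589) (tt N111275 D214517))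
theorem Q78968 : ∀ i, i < 78968 → P i := stepQ 78967 Q78967 (allL N78967 (tt N45109 (iv1 F251592)) (tt N45108 F251593) (tt N45111 F251590) (tt N103816 F442943) (tt N45105 F251591) (tt N111275 (iv5 F475583)) (tt N100757 (iv6 F430320)) (tt N45102 (iv7 D159693)))
theorem Q78969 : ∀ i, i < 78969 → P i := stepQ 78968 Q78968 (allL N78968 (tt N77636 (iv1 F355763)) (tt N76265 F354956) (tt N45113 F251613) (tt N84151 (iv3 F368346)) (tt N45103 (iv4 D159696)) (tt N107264 (iv5 F457701)) (tt N84265 (iv6 F368736)) (tt N45117 (iv7 F251623)))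
theorem Q78970 : ∀ i, i < 78970 → P i := stepQ 78969 Q78969 (allL N78969 (tt N83640 F288148) (tt N49242 F288149) (tt N45114 F251614) (tt N84451 (iv3 F369334)) (tt N111276 D214518) (tt N45103 (iv5 D159697)) (tt N83681 (iv6 F288410)) (tt N45118 (iv7 F251621)))
theorem Q78971 : ∀ i, i < 78971 → P i := stepQ 78970 Q78970 (allL N78970 (tt N49242 F288150) (tt N83640 F288153) (tt N45118 (iv2 F251599)) (tt N89337 (iv3 F386172)) (tt N83020 (iv4 F285527)) (tt N45104 (iv5 D159701)) (tt N49231 F251598) (tt N45114 (iv7 F251604)))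
theorem Q78972 : ∀ i, i < 78972 → P i := stepQ 78971 Q78971 (allL N78971 (tt N111277 D214519) (tt N111278 D214520) (tt N111270 (iv2 F475550)) (tt N69540 (iv3 F341534)) (tt N111279 D214521) (tt N45108 (iv5 D159709)) (tt N69539 F341533) (tt N111271 (iv7 F475559)))
theorem Q78973 : ∀ i, i < 78973 → P i := stepQ 78972 Q78972 (allL N78972 (tt N111278 (iv1 F475598)) (tt N111277 F475596) (tt N111271 (iv2 F475556)) (tt N58968 (iv3 F360943)) (tt N111280 D214522) (tt N45109 (iv5 D159712)) (tt N58967 F360942) (tt N111270 (iv7 F475553)))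
theorem Q78974 : ∀ i, i < 78974 → P i := stepQ 78973 Q78973 (allL N78973 (tt N111275 (iv1 F475586)) (tt N45110 (iv0 D159714)) (tt N111272 F475563) (tt N83089 (iv3 F363123)) (tt N106379 (iv4 F454219)) (tt N111281 D214523) (tt N83086 F363122) (tt N111273 (iv7 F475569)))
theorem Q78975 : ∀ i, i < 78975 → P i := stepQ 78974 Q78974 (allL N78974 (tt N45110 (iv1 D159715)) (tt N111275 F475585) (tt N111273 (iv2 F475571)) (tt N105259 (iv3 F449424)) (tt N73273 (iv4 F449430)) (tt N85817 (iv5 F419901)) (tt N73272 F449431) (tt N111272 F475566))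
theorem Q78976 : ∀ i, i < 78976 → P i := stepQ 78975 Q78975 (allL N78975 (tt N111282 D214524) (tt N110178 (iv0 F470290)) (tt N111274 (iv2 F475574)) (tt N111283 D214525) (tt N45110 (iv4 D159716)) (tt N111284 D214526) (tt N106383 (iv6 F454230)) (tt N89840 (iv7 F387701)))
theorem Q78977 : ∀ i, i < 78977 → P i := stepQ 78976 Q78976 (allL N78976 (tt N111273 (iv1 F475568)) (tt N111272 (iv0 F475567)) (tt N111275 (iv2 F475580)) (tt N98105 (iv3 F419466)) (tt N89840 F387699) (tt N45111 F251638) (tt N89839 (iv6 F387700)) (tt N45110 (iv7 D159717)))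
theorem Q78978 : ∀ i, i < 78978 → P i := stepQ 78977 Q78977 (allL N78977 (tt N61699 (iv1 F343003)) (tt N45112 (iv0 D159718)) (tt N76537 (iv2 F342996)) (tt N45135 F342998) (tt N98079 (iv4 F419367)) (tt N82659 F342999) (tt N61416 F342991) (tt N61396 F342997))
theorem Q78979 : ∀ i, i < 78979 → P i := stepQ 78978 Q78978 (allL N78978 (tt N76537 (iv1 F363828)) (tt N61396 F363830) (tt N45112 (iv2 D159720)) (tt N51296 F251644) (tt N61007 (iv4 F251643)) (tt N85180 (iv5 F371828)) (tt N98761 (iv6 F422199)) (tt N61699 (iv7 F343004)))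
theorem Q78980 : ∀ i, i < 78980 → P i := stepQ 78979 Q78979 (allL N78979 (tt N61009 F251640) (tt N50770 (iv0 F251641)) (tt N61007 F251642) (tt N101216 (iv3 F432241)) (tt N45112 (iv4 D159721)) (tt N111285 D214527) (tt N73696 F342989) (tt N57381 (iv7 F335484)))
theorem Q78981 : ∀ i, i < 78981 → P i := stepQ 78980 Q78980 (allL N78980 (tt N111286 D214528) (tt N84784 F370623) (tt N85180 (iv2 F371827)) (tt N45114 F251648) (tt N84751 (iv4 F370474)) (tt N45112 (iv5 D159722)) (tt N84750 F370473) (tt N89337 (iv7 F386175)))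
theorem Q78982 : ∀ i, i < 78982 → P i := stepQ 78981 Q78981 (allL N78981 (tt N45117 (iv1 F251650)) (tt N45113 (iv0 D159724)) (tt N77636 (iv2 F355772)) (tt N77660 (iv3 F355773)) (tt N76266 (iv4 F355774)) (tt N111287 D214529) (tt N100764 F430359) (tt N76265 F355769))
theorem Q78983 : ∀ i, i < 78983 → P i := stepQ 78982 Q78982 (allL N78982 (tt N111288 D214530) (tt N109402 (iv0 F466785)) (tt N107264 (iv2 F457698)) (tt N101217 (iv3 F432248)) (tt N111289 D214531) (tt N45113 (iv5 D159727)) (tt N82574 F355766) (tt N101243 (iv7 F432375)))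
theorem Q78984 : ∀ i, i < 78984 → P i := stepQ 78983 Q78983 (allL N78983 (tt N45114 (iv1 D159729)) (tt N45118 F251653) (tt N49242 (iv2 F251654)) (tt N45129 F251655) (tt N83505 (iv4 F287675)) (tt N86470 (iv5 F376319)) (tt N50820 F251656) (tt N83640 (iv7 F288146)))
theorem Q78985 : ∀ i, i < 78985 → P i := stepQ 78984 Q78984 (allL N78984 (tt N83334 (iv1 F372527)) (tt N109621 (iv0 F467787)) (tt N111276 (iv2 F475588)) (tt N50161 (iv3 F295166)) (tt N45114 (iv4 D159730)) (tt N111290 D214532) (tt N50158 F366974) (tt N83020 F285528))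
theorem Q78986 : ∀ i, i < 78986 → P i := stepQ 78985 Q78985 (allL N78985 (tt N45115 (iv1 D159732)) (tt N108353 (iv0 F462207)) (tt N71996 (iv2 F353849)) (tt N45132 F258981) (tt N71966 F341539) (tt N76385 F355730) (tt N61555 F258982) (tt N55832 F258983))
theorem Q78987 : ∀ i, i < 78987 → P i := stepQ 78986 Q78986 (allL N78986 (tt N50740 F251659) (tt N51947 (iv0 F251660)) (tt N51945 F251682) (tt N111291 D214533) (tt N45116 (iv4 D159734)) (tt N111292 D214534) (tt N111293 D214535) (tt N51944 F251658))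
theorem Q78988 : ∀ i, i < 78988 → P i := stepQ 78987 Q78987 (allL N78987 (tt N97913 F418774) (tt N97915 (iv0 F418786)) (tt N61698 (iv2 F342955)) (tt N45119 F251683) (tt N111293 (iv4 F475670)) (tt N61697 F342954) (tt N45116 (iv6 D159736)) (tt N98004 (iv7 F419139)))
theorem Q78989 : ∀ i, i < 78989 → P i := stepQ 78988 Q78988 (allL N78988 (tt N51852 F359379) (tt N84153 F368353) (tt N84152 F368349) (tt N45117 (iv3 D159737)) (tt N111291 (iv4 F475662)) (tt N90166 (iv5 F388748)) (tt N111294 D214536) (tt N84151 F368347))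
theorem Q78990 : ∀ i, i < 78990 → P i := stepQ 78989 Q78989 (allL N78989 (tt N109402 (iv1 F466786)) (tt N111288 F475652) (tt N101243 (iv2 F432373)) (tt N90166 F388749) (tt N111295 D214537) (tt N45117 (iv5 D159738)) (tt N90165 (iv6 F388750)) (tt N107264 F457702))
theorem Q78991 : ∀ i, i < 78991 → P i := stepQ 78990 Q78990 (allL N78990 (tt N75048 (iv1 F426295)) (tt N109707 F468223) (tt N98758 (iv2 F422180)) (tt N111294 (iv3 F475674)) (tt N45119 F251684) (tt N96285 F411878) (tt N45117 (iv6 D159739)) (tt N108355 (iv7 F462220)))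
theorem Q78992 : ∀ i, i < 78992 → P i := stepQ 78991 Q78991 (allL N78991 (tt N109621 F467788) (tt N83334 (iv0 F372525)) (tt N83020 (iv2 F285525)) (tt N91289 (iv3 F392571)) (tt N45118 (iv4 D159740)) (tt N111296 D214538) (tt N50934 F251685) (tt N111276 (iv7 F475591)))
theorem Q78993 : ∀ i, i < 78993 → P i := stepQ 78992 Q78992 (allL N78992 (tt N61703 F347568) (tt N45119 (iv0 D159741)) (tt N98757 F422177) (tt N45141 F347569) (tt N110860 (iv4 F473482)) (tt N74411 F251686) (tt N98521 (iv6 F421196)) (tt N61600 F347570))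
theorem Q78994 : ∀ i, i < 78994 → P i := stepQ 78993 Q78993 (allL N78993 (tt N61600 (iv1 F364735)) (tt N98757 F422178) (tt N61703 F347573) (tt N98004 (iv3 F419137)) (tt N108355 (iv4 F462219)) (tt N61702 (iv5 F347574)) (tt N108353 (iv6 F462210)) (tt N45119 (iv7 D159744)))
theorem Q78995 : ∀ i, i < 78995 → P i := stepQ 78994 Q78994 (allL N78994 (tt N82659 F283525) (tt N51236 (iv0 F333360)) (tt N51291 F251692) (tt N45120 (iv3 D159746)) (tt N49438 (iv4 F251693)) (tt N98753 (iv5 F422162)) (tt N111297 D214539) (tt N51283 F283529))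
theorem Q78996 : ∀ i, i < 78996 → P i := stepQ 78995 Q78995 (allL N78995 (tt N84709 (iv1 F370299)) (tt N76988 F355771) (tt N51280 (iv2 F283585)) (tt N48533 F251694) (tt N45120 (iv4 D159747)) (tt N110144 (iv5 F470161)) (tt N88988 (iv6 F384678)) (tt N51284 F283581))
theorem Q78997 : ∀ i, i < 78997 → P i := stepQ 78996 Q78996 (allL N78996 (tt N82741 F283736) (tt N76364 F283739) (tt N51281 (iv2 F283583)) (tt N98753 (iv3 F422160)) (tt N111298 D214540) (tt N45120 (iv5 D159748)) (tt N81407 F336808) (tt N51285 F283582))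
theorem Q78998 : ∀ i, i < 78998 → P i := stepQ 78997 Q78997 (allL N78997 (tt N51260 F288415) (tt N91056 (iv0 F391789)) (tt N51282 F283590) (tt N111297 (iv3 F475686)) (tt N88988 (iv4 F384679)) (tt N50253 F251695) (tt N45120 (iv6 D159749)) (tt N86823 (iv7 F377306)))
theorem Q78999 : ∀ i, i < 78999 → P i := stepQ 78998 Q78998 (allL N78998 (tt N76988 F355770) (tt N84709 (iv0 F370300)) (tt N51284 (iv2 F283564)) (tt N88086 (iv3 F381744)) (tt N45121 (iv4 D159751)) (tt N111299 D214541) (tt N86820 (iv6 F377299)) (tt N51280 (iv7 F283563)))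
theorem Q79000 : ∀ i, i < 79000 → P i := stepQ 78999 Q78999 (allL N78999 (tt N76364 (iv1 F283738)) (tt N82741 F283737) (tt N51285 (iv2 F283565)) (tt N51294 F251697) (tt N111300 D214542) (tt N45121 (iv5 D159752)) (tt N63278 F251698) (tt N51281 F283552))
theorem Q79001 : ∀ i, i < 79001 → P i := stepQ 79000 Q79000 (allL N79000 (tt N78819 F251704) (tt N78814 F251705) (tt N63318 F251702) (tt N89702 (iv3 F387255)) (tt N45123 (iv4 D159754)) (tt N109604 (iv5 F467689)) (tt N85011 (iv6 F371371)) (tt N63316 F251703))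
theorem Q79002 : ∀ i, i < 79002 → P i := stepQ 79001 Q79001 (allL N79001 (tt N91047 (iv1 F391751)) (tt N83245 F349293) (tt N77561 F364731) (tt N91908 (iv3 F394914)) (tt N45127 (iv4 D159764)) (tt N77543 F333325) (tt N84444 (iv6 F369297)) (tt N77564 (iv7 F333328)))
theorem Q79003 : ∀ i, i < 79003 → P i := stepQ 79002 Q79002 (allL N79002 (tt N55794 F251728) (tt N88436 (iv0 F383038)) (tt N74484 F339793) (tt N45133 F251727) (tt N87626 (iv4 F379926)) (tt N45128 (iv5 D159768)) (tt N84445 (iv6 F369302)) (tt N61253 (iv7 F251729)))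
theorem Q79004 : ∀ i, i < 79004 → P i := stepQ 79003 Q79003 (allL N79003 (tt N51955 F251739) (tt N51939 F251740) (tt N51952 F251737) (tt N51919 F369587) (tt N98133 (iv4 F419614)) (tt N45130 (iv5 D159771)) (tt N104047 (iv6 F443927)) (tt N51953 F251738))
theorem Q79005 : ∀ i, i < 79005 → P i := stepQ 79004 Q79004 (allL N79004 (tt N45147 F251780) (tt N52859 F251781) (tt N61411 (iv2 F343007)) (tt N82659 (iv3 F283524)) (tt N49616 F251782) (tt N45135 (iv5 D159783)) (tt N82659 (iv6 F287409)) (tt N61397 F343006))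
theorem Q79006 : ∀ i, i < 79006 → P i := stepQ 79005 Q79005 (allL N79005 (tt N90079 (iv1 F388514)) (tt N88426 (iv0 F382996)) (tt N45138 F251788) (tt N77625 F333320) (tt N54724 F251789) (tt N45136 (iv5 D159786)) (tt N84773 (iv6 F370573)) (tt N61410 (iv7 F339759)))
theorem Q79007 : ∀ i, i < 79007 → P i := stepQ 79006 Q79006 (allL N79006 (tt N61410 (iv1 F363719)) (tt N45138 (iv0 D159791)) (tt N90079 (iv2 F388509)) (tt N50810 F349296) (tt N48989 F349297) (tt N104242 (iv5 F444887)) (tt N48987 F349298) (tt N88426 (iv7 F382995)))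
theorem Q79008 : ∀ i, i < 79008 → P i := stepQ 79007 Q79007 (allL N79007 (tt N45138 (iv1 D159792)) (tt N61410 F339762) (tt N88426 (iv2 F382998)) (tt N111286 (iv3 F475639)) (tt N85496 (iv4 F372842)) (tt N63812 F339763) (tt N85495 F372843) (tt N90079 (iv7 F388512)))
theorem Q79009 : ∀ i, i < 79009 → P i := stepQ 79008 Q79008 (allL N79008 (tt N89094 F385145) (tt N85456 (iv0 F380676)) (tt N89904 (iv2 F387927)) (tt N45140 (iv3 D159797)) (tt N87822 F380674) (tt N111301 D214543) (tt N47616 F331191) (tt N90643 (iv7 F390382)))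
theorem Q79010 : ∀ i, i < 79010 → P i := stepQ 79009 Q79009 (allL N79009 (tt N51939 F251809) (tt N51955 F251810) (tt N51953 F251807) (tt N111301 (iv3 F475708)) (tt N98132 (iv4 F419605)) (tt N45140 (iv5 D159798)) (tt N111302 D214544) (tt N51952 F251808))
theorem Q79011 : ∀ i, i < 79011 → P i := stepQ 79010 Q79010 (allL N79010 (tt N55020 F251816) (tt N111303 D214545) (tt N51949 F251813) (tt N51913 F251814) (tt N98130 (iv4 F419594)) (tt N45144 (iv5 D159801)) (tt N111304 D214546) (tt N51951 F251815))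
theorem Q79012 : ∀ i, i < 79012 → P i := stepQ 79011 Q79011 (allL N79011 (tt N45146 (iv1 D159804)) (tt N51353 (iv0 F251940)) (tt N51355 (iv2 F251947)) (tt N91056 (iv3 F391786)) (tt N84479 (iv4 F369462)) (tt N91784 (iv5 F394402)) (tt N89597 (iv6 F386902)) (tt N51346 F251946))
theorem Q79013 : ∀ i, i < 79013 → P i := stepQ 79012 Q79012 (allL N79012 (tt N51355 (iv1 F251829)) (tt N51346 F251830) (tt N51353 (iv2 F251941)) (tt N85743 (iv3 F373767)) (tt N84649 (iv4 F370028)) (tt N55714 F251827) (tt N85219 F371944) (tt N45146 (iv7 D159805)))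
theorem Q79014 : ∀ i, i < 79014 → P i := stepQ 79013 Q79013 (allL N79013 (tt N89598 F386911) (tt N111305 D214547) (tt N86780 (iv2 F377153)) (tt N45149 F251831) (tt N52863 F251832) (tt N98318 (iv5 F420480)) (tt N45147 (iv6 D159806)) (tt N89634 (iv7 F387025)))
theorem Q79015 : ∀ i, i < 79015 → P i := stepQ 79014 Q79014 (allL N79014 (tt N49544 (iv1 F289525)) (tt N49667 (iv0 F251837)) (tt N51915 F251833) (tt N45148 (iv3 D159807)) (tt N51846 F251834) (tt N111306 D214548) (tt N108492 (iv6 F462818)) (tt N51948 F251835))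
theorem Q79016 : ∀ i, i < 79016 → P i := stepQ 79015 Q79015 (allL N79015 (tt N111303 (iv1 F475721)) (tt N55020 F251840) (tt N51951 F251838) (tt N111306 (iv3 F475737)) (tt N98128 (iv4 F419585)) (tt N45148 (iv5 D159808)) (tt N78271 F410895) (tt N51949 F251839))
theorem Q79017 : ∀ i, i < 79017 → P i := stepQ 79016 Q79016 (allL N79016 (tt N85219 (iv1 F371940)) (tt N45149 (iv0 D159810)) (tt N55332 (iv2 F345186)) (tt N85193 (iv3 F371848)) (tt N74198 F345188) (tt N74522 F251843) (tt N86830 (iv6 F377345)) (tt N85216 (iv7 F371927)))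
theorem Q79018 : ∀ i, i < 79018 → P i := stepQ 79017 Q79017 (allL N79017 (tt N84500 F369550) (tt N52322 (iv0 F353224)) (tt N85767 (iv2 F373849)) (tt N45150 (iv3 D159813)) (tt N85767 (iv4 F373850)) (tt N111307 D214549) (tt N111308 D214550) (tt N51796 F251846))
theorem Q79019 : ∀ i, i < 79019 → P i := stepQ 79018 Q79018 (allL N79018 (tt N55507 F251849) (tt N91910 (iv0 F394928)) (tt N51794 F251847) (tt N111307 (iv3 F475742)) (tt N87941 (iv4 F381249)) (tt N45150 (iv5 D159814)) (tt N111309 D214551) (tt N51797 F251848))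
theorem Q79020 : ∀ i, i < 79020 → P i := stepQ 79019 Q79019 (allL N79019 (tt N49925 F283795) (tt N84479 F369463) (tt N51795 F251850) (tt N111308 (iv3 F475744)) (tt N50013 F251851) (tt N51642 F251852) (tt N45150 (iv6 D159815)) (tt N84478 (iv7 F369458)))
theorem Q79021 : ∀ i, i < 79021 → P i := stepQ 79020 Q79020 (allL N79020 (tt N91910 (iv1 F394929)) (tt N55507 F251855) (tt N51797 F251853) (tt N85774 (iv3 F373881)) (tt N87940 (iv4 F381247)) (tt N45151 (iv5 D159816)) (tt N97252 F416084) (tt N51794 F251854))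
theorem Q79022 : ∀ i, i < 79022 → P i := stepQ 79021 Q79021 (allL N79021 (tt N49884 (iv1 F251881)) (tt N45152 (iv0 D159818)) (tt N51799 (iv2 F251879)) (tt N111310 D214552) (tt N87416 (iv4 F379265)) (tt N55494 F251859) (tt N104039 (iv6 F443905)) (tt N51800 (iv7 F251880)))
theorem Q79023 : ∀ i, i < 79023 → P i := stepQ 79022 Q79022 (allL N79022 (tt N45152 (iv1 D159819)) (tt N49884 F251882) (tt N51800 (iv2 F251885)) (tt N86979 (iv3 F377928)) (tt N87417 (iv4 F379271)) (tt N52204 F251884) (tt N111311 D214553) (tt N51799 F251883))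
theorem Q79024 : ∀ i, i < 79024 → P i := stepQ 79023 Q79023 (allL N79023 (tt N98133 (iv1 F419611)) (tt N98132 F419607) (tt N51801 F251886) (tt N52550 (iv3 F251888)) (tt N45152 (iv4 D159820)) (tt N46054 F251887) (tt N111312 D214554) (tt N46053 (iv7 F251889)))
theorem Q79025 : ∀ i, i < 79025 → P i := stepQ 79024 Q79024 (allL N79024 (tt N111313 D214555) (tt N111314 D214556) (tt N51792 F251890) (tt N88034 (iv3 F381539)) (tt N111312 (iv4 F475763)) (tt N45167 F251891) (tt N45152 (iv6 D159821)) (tt N111315 D214557))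
theorem Q79026 : ∀ i, i < 79026 → P i := stepQ 79025 Q79025 (allL N79025 (tt N51800 (iv1 F251895)) (tt N51799 F251896) (tt N49884 F251892) (tt N84572 (iv3 F369737)) (tt N46053 F251893) (tt N45153 F251894) (tt N52544 (iv6 F251897)) (tt N45152 (iv7 D159822)))
theorem Q79027 : ∀ i, i < 79027 → P i := stepQ 79026 Q79026 (allL N79026 (tt N51291 F364169) (tt N51283 F364170) (tt N51236 F251898) (tt N61397 F251899) (tt N49571 F251900) (tt N61396 F251901) (tt N45155 (iv6 D159823)) (tt N82659 F343000))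
theorem Q79028 : ∀ i, i < 79028 → P i := stepQ 79027 Q79027 (allL N79027 (tt N84788 F370631) (tt N89330 (iv0 F386140)) (tt N85010 (iv2 F371365)) (tt N45160 F251902) (tt N48990 F361036) (tt N45156 (iv5 D159824)) (tt N45158 F251903) (tt N89788 (iv7 F387578)))
theorem Q79029 : ∀ i, i < 79029 → P i := stepQ 79028 Q79028 (allL N79028 (tt N51004 F251907) (tt N51003 F251908) (tt N50815 F251904) (tt N50984 F251905) (tt N61635 F360966) (tt N45159 (iv5 D159825)) (tt N98530 (iv6 F421225)) (tt N51001 F251906))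
theorem Q79030 : ∀ i, i < 79030 → P i := stepQ 79029 Q79029 (allL N79029 (tt N50999 (iv1 F251918)) (tt N45160 (iv0 D159827)) (tt N50824 (iv2 F251914)) (tt N51014 F251915) (tt N78773 (iv4 F365412)) (tt N89597 (iv5 F386901)) (tt N92189 (iv6 F396162)) (tt N51024 F251916))
theorem Q79031 : ∀ i, i < 79031 → P i := stepQ 79030 Q79030 (allL N79030 (tt N111316 D214558) (tt N86890 (iv0 F377597)) (tt N85049 (iv2 F371459)) (tt N90037 (iv3 F388369)) (tt N45160 (iv4 D159828)) (tt N110501 (iv5 F471868)) (tt N45162 F251919) (tt N90094 (iv7 F388547)))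
theorem Q79032 : ∀ i, i < 79032 → P i := stepQ 79031 Q79031 (allL N79031 (tt N51024 (iv1 F251922)) (tt N50824 F251923) (tt N50999 F251920) (tt N89788 (iv3 F387577)) (tt N90094 (iv4 F388546)) (tt N45161 F251921) (tt N98341 (iv6 F420555)) (tt N45160 (iv7 D159829)))
theorem Q79033 : ∀ i, i < 79033 → P i := stepQ 79032 Q79032 (allL N79032 (tt N111175 F475092) (tt N71077 (iv0 F421886)) (tt N90089 (iv2 F388531)) (tt N45162 (iv3 D159830)) (tt N90038 (iv4 F388376)) (tt N98627 (iv5 F421640)) (tt N90037 F388373) (tt N98628 (iv7 F421642)))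
theorem Q79034 : ∀ i, i < 79034 → P i := stepQ 79033 Q79033 (allL N79033 (tt N45164 (iv1 D159831)) (tt N52981 F251924) (tt N51246 (iv2 F344304)) (tt N86299 (iv3 F375745)) (tt N48664 F294953) (tt N105911 (iv5 F452309)) (tt N70021 F363797) (tt N82645 (iv7 F344306)))
theorem Q79035 : ∀ i, i < 79035 → P i := stepQ 79034 Q79034 (allL N79034 (tt N51246 (iv1 F251931)) (tt N82645 (iv0 F283458)) (tt N52981 F251926) (tt N45166 F251927) (tt N49518 F251928) (tt N68374 F251929) (tt N53146 F251930) (tt N45164 (iv7 D159832)))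
theorem Q79036 : ∀ i, i < 79036 → P i := stepQ 79035 Q79035 (allL N79035 (tt N51350 F251951) (tt N51349 (iv0 F251936)) (tt N51256 F251932) (tt N51325 F251933) (tt N52646 F331389) (tt N45165 (iv5 D159833)) (tt N111317 D214559) (tt N51345 F251934))
theorem Q79037 : ∀ i, i < 79037 → P i := stepQ 79036 Q79036 (allL N79036 (tt N51295 F251956) (tt N86095 (iv0 F375109)) (tt N51026 F251952) (tt N51326 F251953) (tt N52110 F251954) (tt N51024 F251955) (tt N45165 (iv6 D159834)) (tt N89597 (iv7 F386903)))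
theorem Q79038 : ∀ i, i < 79038 → P i := stepQ 79037 Q79037 (allL N79037 (tt N51793 (iv1 F251960)) (tt N45167 (iv0 D159835)) (tt N51790 (iv2 F251957)) (tt N75941 F362062) (tt N46069 F251958) (tt N111318 D214560) (tt N108320 (iv6 F462048)) (tt N51791 F251959))
theorem Q79039 : ∀ i, i < 79039 → P i := stepQ 79038 Q79038 (allL N79038 (tt N51791 (iv1 F251964)) (tt N51790 F251965) (tt N51793 F251961) (tt N87967 F381316) (tt N51297 F251962) (tt N111315 (iv5 F475777)) (tt N61499 F251963) (tt N45167 (iv7 D159836)))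
theorem Q79040 : ∀ i, i < 79040 → P i := stepQ 79039 Q79039 (allL N79039 (tt N50353 F251968) (tt N79986 F369500) (tt N51292 (iv2 F283551)) (tt N51281 F251967) (tt N88222 (iv4 F382239)) (tt N45168 (iv5 D159838)) (tt N111319 D214561) (tt N51294 F283550))
theorem Q79041 : ∀ i, i < 79041 → P i := stepQ 79040 Q79040 (allL N79040 (tt N51236 (iv1 F333361)) (tt N82659 (iv0 F283527)) (tt N51283 F251974) (tt N45169 (iv3 D159841)) (tt N49439 F251975) (tt N98370 (iv5 F420676)) (tt N111320 D214562) (tt N51291 F283530))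
theorem Q79042 : ∀ i, i < 79042 → P i := stepQ 79041 Q79041 (allL N79041 (tt N79986 (iv1 F369499)) (tt N50353 F283553) (tt N51294 (iv2 F283544)) (tt N98370 (iv3 F420673)) (tt N88223 (iv4 F382246)) (tt N45169 (iv5 D159842)) (tt N76033 (iv6 F251976)) (tt N51292 (iv7 F283543)))
theorem Q79043 : ∀ i, i < 79043 → P i := stepQ 79042 Q79042 (allL N79042 (tt N89597 (iv1 F386904)) (tt N51026 (iv0 F371817)) (tt N51295 (iv2 F283545)) (tt N111320 (iv3 F475804)) (tt N84595 (iv4 F369815)) (tt N85862 (iv5 F374248)) (tt N45169 (iv6 D159843)) (tt N86095 (iv7 F375107)))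
theorem Q79044 : ∀ i, i < 79044 → P i := stepQ 79043 Q79043 (allL N79043 (tt N89621 F386992) (tt N109616 (iv0 F467759)) (tt N61213 F251977) (tt N45175 F251978) (tt N83552 F356698) (tt N45170 (iv5 D159844)) (tt N45172 F251979) (tt N83559 (iv7 F356661)))
theorem Q79045 : ∀ i, i < 79045 → P i := stepQ 79044 Q79044 (allL N79044 (tt N50808 (iv1 F251981)) (tt N50806 F251982) (tt N84781 F370611) (tt N45176 F251980) (tt N84781 (iv4 F370609)) (tt N83559 F356699) (tt N84781 F370614) (tt N45170 (iv7 D159845)))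
theorem Q79046 : ∀ i, i < 79046 → P i := stepQ 79045 Q79045 (allL N79045 (tt N92803 (iv1 F398299)) (tt N98432 (iv0 F420904)) (tt N61212 F251983) (tt N111321 D214563) (tt N45172 (iv4 D159846)) (tt N82698 F356701) (tt N83552 (iv6 F356700)) (tt N50693 F356702))
theorem Q79047 : ∀ i, i < 79047 → P i := stepQ 79046 Q79046 (allL N79046 (tt N50409 (iv1 F251991)) (tt N45175 (iv0 D159847)) (tt N85938 F374514) (tt N50169 (iv3 F251994)) (tt N111322 D214564) (tt N50468 (iv5 F251995)) (tt N92638 (iv6 F397716)) (tt N51577 F251993))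
theorem Q79048 : ∀ i, i < 79048 → P i := stepQ 79047 Q79047 (allL N79047 (tt N45175 (iv1 D159848)) (tt N50409 F251984) (tt N51577 F251986) (tt N53844 (iv3 F367243)) (tt N103406 (iv4 F441474)) (tt N51572 (iv5 F251985)) (tt N103405 (iv6 F441471)) (tt N85938 (iv7 F374516)))
theorem Q79049 : ∀ i, i < 79049 → P i := stepQ 79048 Q79048 (allL N79048 (tt N78773 (iv1 F374299)) (tt N51025 F251988) (tt N85939 (iv2 F374520)) (tt N104700 (iv3 F446918)) (tt N45175 (iv4 D159849)) (tt N98643 (iv5 F421711)) (tt N45177 F251987) (tt N98631 (iv7 F421655)))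
theorem Q79050 : ∀ i, i < 79050 → P i := stepQ 79049 Q79049 (allL N79049 (tt N51577 (iv1 F251992)) (tt N85938 F374515) (tt N50409 F251989) (tt N83559 F356697) (tt N98631 (iv4 F421656)) (tt N45176 F251990) (tt N83560 (iv6 F356715)) (tt N45175 (iv7 D159850)))
theorem Q79051 : ∀ i, i < 79051 → P i := stepQ 79050 Q79050 (allL N79050 (tt N104692 F446895) (tt N104685 (iv0 F446920)) (tt N104690 F446885) (tt N45177 (iv3 D159851)) (tt N111321 (iv4 F475809)) (tt N90105 F388573) (tt N104700 F446919) (tt N98629 (iv7 F421647)))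
theorem Q79052 : ∀ i, i < 79052 → P i := stepQ 79051 Q79051 (allL N79051 (tt N50182 F252000) (tt N50181 F252001) (tt N45180 F251996) (tt N60890 F251997) (tt N70933 F251999) (tt N45179 (iv5 D159852)) (tt N70635 F345493) (tt N61035 F251998))
theorem Q79053 : ∀ i, i < 79053 → P i := stepQ 79052 Q79052 (allL N79052 (tt N104163 F444498) (tt N104165 F444505) (tt N70635 (iv2 F362199)) (tt N45182 F252002) (tt N71479 F252003) (tt N78867 F252004) (tt N45180 (iv6 D159853)) (tt N90405 (iv7 F389536)))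
theorem Q79054 : ∀ i, i < 79054 → P i := stepQ 79053 Q79053 (allL N79053 (tt N104440 F445778) (tt N104715 F446963) (tt N75734 F252005) (tt N103665 (iv3 F442420)) (tt N45182 F252006) (tt N103662 (iv5 F442412)) (tt N45181 (iv6 D159854)) (tt N104716 (iv7 F446970)))
theorem Q79055 : ∀ i, i < 79055 → P i := stepQ 79054 Q79054 (allL N79054 (tt N70633 (iv1 F328382)) (tt N45182 (iv0 D159855)) (tt N75735 F364678) (tt N55700 F395841) (tt N106141 (iv4 F453320)) (tt N111212 (iv5 F475245)) (tt N60815 F252007) (tt N60743 (iv7 F395854)))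
theorem Q79056 : ∀ i, i < 79056 → P i := stepQ 79055 Q79055 (allL N79055 (tt N45182 (iv1 D159856)) (tt N70633 (iv0 F328381)) (tt N60743 (iv2 F395853)) (tt N111323 D214565) (tt N109429 F466914) (tt N98700 (iv5 F421906)) (tt N105907 F452290) (tt N75735 F364680))
theorem Q79057 : ∀ i, i < 79057 → P i := stepQ 79056 Q79056 (allL N79056 (tt N60743 (iv1 F395852)) (tt N75735 F252014) (tt N70633 (iv2 F328383)) (tt N90405 F389537) (tt N104716 (iv4 F446968)) (tt N78870 F252010) (tt N75739 F252011) (tt N45182 (iv7 D159857)))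
theorem Q79058 : ∀ i, i < 79058 → P i := stepQ 79057 Q79057 (allL N79057 (tt N75739 (iv1 F252028)) (tt N45184 (iv0 D159860)) (tt N60786 (iv2 F331440)) (tt N102933 (iv3 F439317)) (tt N109434 (iv4 F466935)) (tt N97202 (iv5 F415875)) (tt N50175 F252020) (tt N75738 F252030))
theorem Q79059 : ∀ i, i < 79059 → P i := stepQ 79058 Q79058 (allL N79058 (tt N74949 (iv1 F317052)) (tt N62819 (iv0 F317049)) (tt N63761 (iv2 F317054)) (tt N76264 F252036) (tt N62814 F338148) (tt N76264 F252037) (tt N63758 (iv6 F314943)) (tt N45185 (iv7 D159865)))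
theorem Q79060 : ∀ i, i < 79060 → P i := stepQ 79059 Q79059 (allL N79059 (tt N70621 (iv1 F359569)) (tt N70628 (iv0 F359567)) (tt N70626 (iv2 F349102)) (tt N74404 F252050) (tt N55409 F335959) (tt N111324 D214566) (tt N45188 (iv6 D159869)) (tt N70625 (iv7 F349133)))
theorem Q79061 : ∀ i, i < 79061 → P i := stepQ 79060 Q79060 (allL N79060 (tt N56086 F252054) (tt N63288 F252055) (tt N63341 F252051) (tt N63269 F252052) (tt N100209 (iv4 F428006)) (tt N45189 (iv5 D159870)) (tt N111324 (iv6 F475827)) (tt N63340 F252053))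
theorem Q79062 : ∀ i, i < 79062 → P i := stepQ 79061 Q79061 (allL N79061 (tt N63304 F316758) (tt N76033 F316759) (tt N76034 F316760) (tt N45190 (iv3 D159871)) (tt N51636 (iv4 F318880)) (tt N78777 F316761) (tt N76031 F316762) (tt N46114 F316763))
theorem Q79063 : ∀ i, i < 79063 → P i := stepQ 79062 Q79062 (allL N79062 (tt N91030 F391664) (tt N91039 F391717) (tt N74857 F252084) (tt N56256 F252085) (tt N98039 (iv4 F419270)) (tt N79093 (iv5 F252363)) (tt N45193 (iv6 D159875)) (tt N91038 (iv7 F391718)))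
theorem Q79064 : ∀ i, i < 79064 → P i := stepQ 79063 Q79063 (allL N79063 (tt N74945 (iv1 F252109)) (tt N45195 (iv0 D159880)) (tt N74944 F355112) (tt N108338 (iv3 F462134)) (tt N46434 F355113) (tt N89861 (iv5 F387769)) (tt N46441 F355114) (tt N74943 F355115))
theorem Q79065 : ∀ i, i < 79065 → P i := stepQ 79064 Q79064 (allL N79064 (tt N45195 (iv1 D159881)) (tt N74945 F252114) (tt N74943 (iv2 F355116)) (tt N78846 F358942) (tt N108286 (iv4 F461885)) (tt N89860 (iv5 F387757)) (tt N78844 (iv6 F358941)) (tt N74944 (iv7 F355117)))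
theorem Q79066 : ∀ i, i < 79066 → P i := stepQ 79065 Q79065 (allL N79065 (tt N74944 (iv1 F252115)) (tt N74943 F252113) (tt N45195 (iv2 D159882)) (tt N74937 F252110) (tt N45198 F252111) (tt N76668 (iv5 F346146)) (tt N91204 (iv6 F392250)) (tt N74945 F252112))
theorem Q79067 : ∀ i, i < 79067 → P i := stepQ 79066 Q79066 (allL N79066 (tt N75017 (iv1 F252119)) (tt N74338 (iv0 F252118)) (tt N81326 (iv2 F365766)) (tt N45196 (iv3 D159884)) (tt N75107 F252117) (tt N95463 (iv5 F408277)) (tt N80888 F365765) (tt N96971 (iv7 F414860)))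
theorem Q79068 : ∀ i, i < 79068 → P i := stepQ 79067 Q79067 (allL N79067 (tt N73119 F352413) (tt N98307 (iv0 F420442)) (tt N81437 F352415) (tt N111325 D214567) (tt N45196 (iv4 D159885)) (tt N85148 F371747) (tt N68245 (iv6 F352414)) (tt N98294 (iv7 F420371)))
theorem Q79069 : ∀ i, i < 79069 → P i := stepQ 79068 Q79068 (allL N79068 (tt N75690 F347610) (tt N75686 (iv0 F308164)) (tt N75689 (iv2 F310415)) (tt N51754 (iv3 F317858)) (tt N78893 (iv4 F347592)) (tt N45199 (iv5 D159892)) (tt N61427 (iv6 F317671)) (tt N52020 (iv7 F310423)))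
theorem Q79070 : ∀ i, i < 79070 → P i := stepQ 79069 Q79069 (allL N79069 (tt N74442 (iv1 F252134)) (tt N45201 (iv0 D159893)) (tt N74441 (iv2 F252131)) (tt N63995 F252132) (tt N74448 F252130) (tt N82241 (iv5 F279814)) (tt N91472 (iv6 F393270)) (tt N64004 F252133))
theorem Q79071 : ∀ i, i < 79071 → P i := stepQ 79070 Q79070 (allL N79070 (tt N64004 (iv1 F252140)) (tt N74441 F252141) (tt N74442 F252135) (tt N45221 F252136) (tt N74799 F252137) (tt N45202 F252138) (tt N74427 F252139) (tt N45201 (iv7 D159894)))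
theorem Q79072 : ∀ i, i < 79072 → P i := stepQ 79071 Q79071 (allL N79071 (tt N45203 (iv1 D159896)) (tt N63412 F252143) (tt N63411 F347604) (tt N47557 F347605) (tt N75317 F347606) (tt N69220 (iv5 F347613)) (tt N75315 (iv6 F347614)) (tt N63410 F347607))
theorem Q79073 : ∀ i, i < 79073 → P i := stepQ 79072 Q79072 (allL N79072 (tt N63411 (iv1 F252149)) (tt N63410 F252150) (tt N63412 F252144) (tt N45211 F252145) (tt N48238 F314526) (tt N75081 F252146) (tt N63408 F252147) (tt N45203 (iv7 D159897)))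
theorem Q79074 : ∀ i, i < 79074 → P i := stepQ 79073 Q79073 (allL N79073 (tt N97273 F416158) (tt N74790 (iv0 F355697)) (tt N76259 F252152) (tt N56089 F252153) (tt N74478 (iv4 F341185)) (tt N45204 (iv5 D159900)) (tt N56088 F252154) (tt N108791 (iv7 F463960)))
theorem Q79075 : ∀ i, i < 79075 → P i := stepQ 79074 Q79074 (allL N79074 (tt N64544 (iv1 F252177)) (tt N64543 F252178) (tt N64545 F252173) (tt N100651 F429850) (tt N45211 F252174) (tt N72157 (iv5 F365415)) (tt N76373 F252175) (tt N45207 (iv7 D159909)))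
theorem Q79076 : ∀ i, i < 79076 → P i := stepQ 79075 Q79075 (allL N79075 (tt N80898 (iv1 F335189)) (tt N46007 F335179) (tt N81458 F349078) (tt N45208 (iv3 D159911)) (tt N73865 F335180) (tt N61723 (iv5 F336874)) (tt N99798 (iv6 F426269)) (tt N81459 F349077))
theorem Q79077 : ∀ i, i < 79077 → P i := stepQ 79076 Q79076 (allL N79076 (tt N109361 F466576) (tt N109016 (iv0 F464943)) (tt N83843 F349056) (tt N99798 (iv3 F426268)) (tt N83831 F356613) (tt N70617 (iv5 F335889)) (tt N45208 (iv6 D159914)) (tt N83839 (iv7 F356614)))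
theorem Q79078 : ∀ i, i < 79078 → P i := stepQ 79077 Q79077 (allL N79077 (tt N99814 F426356) (tt N108801 (iv0 F464015)) (tt N100787 (iv2 F430470)) (tt N46563 F360944) (tt N99916 (iv4 F426807)) (tt N75669 F360945) (tt N45209 (iv6 D159919)) (tt N80487 F360946))
theorem Q79079 : ∀ i, i < 79079 → P i := stepQ 79078 Q79078 (allL N79078 (tt N100790 (iv1 F430486)) (tt N45210 (iv0 D159920)) (tt N100788 F430475) (tt N61720 F355292) (tt N94478 (iv4 F404646)) (tt N99803 F426294) (tt N74884 (iv6 F355293)) (tt N98720 (iv7 F422004)))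
theorem Q79080 : ∀ i, i < 79080 → P i := stepQ 79079 Q79079 (allL N79079 (tt N45210 (iv1 D159921)) (tt N100790 F430485) (tt N98720 (iv2 F422002)) (tt N98058 (iv3 F419309)) (tt N94477 F419310) (tt N100160 (iv5 F427766)) (tt N111326 D214568) (tt N100788 (iv7 F430477)))
theorem Q79081 : ∀ i, i < 79081 → P i := stepQ 79080 Q79080 (allL N79080 (tt N71800 F365156) (tt N105385 (iv0 F449999)) (tt N100789 (iv2 F430479)) (tt N104479 F445944) (tt N45210 (iv4 D159922)) (tt N106245 (iv5 F453742)) (tt N45214 F252182) (tt N105454 (iv7 F450335)))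
theorem Q79082 : ∀ i, i < 79082 → P i := stepQ 79081 Q79081 (allL N79081 (tt N98720 F422006) (tt N100788 F430478) (tt N100790 (iv2 F430482)) (tt N75081 F252183) (tt N105454 (iv4 F450334)) (tt N45211 F252184) (tt N111327 D214569) (tt N45210 (iv7 D159923)))
theorem Q79083 : ∀ i, i < 79083 → P i := stepQ 79082 Q79082 (allL N79082 (tt N105396 F450052) (tt N105520 F450562) (tt N71989 F252188) (tt N45214 (iv3 D159925)) (tt N75078 F252189) (tt N73305 (iv5 F366348)) (tt N104479 (iv6 F445946)) (tt N105519 (iv7 F450553)))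
theorem Q79084 : ∀ i, i < 79084 → P i := stepQ 79083 Q79083 (allL N79083 (tt N73359 F350014) (tt N73358 F350016) (tt N73390 (iv2 F330617)) (tt N73305 F366347) (tt N63781 (iv4 F319489)) (tt N45214 (iv5 D159926)) (tt N108363 (iv6 F462262)) (tt N73343 F330618))
theorem Q79085 : ∀ i, i < 79085 → P i := stepQ 79084 Q79084 (allL N79084 (tt N62848 (iv1 F252193)) (tt N74408 F252194) (tt N72005 F252191) (tt N105519 F450555) (tt N45215 F252192) (tt N73343 F330619) (tt N88890 (iv6 F384439)) (tt N45214 (iv7 D159927)))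
theorem Q79086 : ∀ i, i < 79086 → P i := stepQ 79085 Q79085 (allL N79085 (tt N111328 D214570) (tt N111329 D214571) (tt N86588 (iv2 F376543)) (tt N60799 F252195) (tt N88890 (iv4 F384440)) (tt N78281 F252196) (tt N45215 (iv6 D159928)) (tt N111327 (iv7 F475841)))
theorem Q79087 : ∀ i, i < 79087 → P i := stepQ 79086 Q79086 (allL N79086 (tt N109739 (iv1 F468374)) (tt N93999 F430302) (tt N100754 F430301) (tt N103984 F443653) (tt N109750 (iv4 F468437)) (tt N45233 (iv5 D159981)) (tt N111330 D214572) (tt N100782 (iv7 F430448)))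
theorem Q79088 : ∀ i, i < 79088 → P i := stepQ 79087 Q79087 (allL N79087 (tt N99739 F425995) (tt N109076 (iv0 F465240)) (tt N100781 (iv2 F430443)) (tt N80141 F261790) (tt N108383 (iv4 F462347)) (tt N76277 F252359) (tt N45233 (iv6 D159982)) (tt N103103 (iv7 F440087)))
theorem Q79089 : ∀ i, i < 79089 → P i := stepQ 79088 Q79088 (allL N79088 (tt N93999 F402767) (tt N109739 (iv0 F468373)) (tt N100782 (iv2 F430445)) (tt N78282 F366755) (tt N98362 (iv4 F420647)) (tt N45234 (iv5 D159986)) (tt N86660 F376713) (tt N100754 (iv7 F430299)))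
theorem Q79090 : ∀ i, i < 79090 → P i := stepQ 79089 Q79089 (allL N79089 (tt N100785 (iv1 F430465)) (tt N45235 (iv0 D159988)) (tt N100783 F430452) (tt N52093 F397521) (tt N109724 (iv4 F468298)) (tt N109011 (iv5 F464912)) (tt N52092 F397522) (tt N93167 (iv7 F399767)))
theorem Q79091 : ∀ i, i < 79091 → P i := stepQ 79090 Q79090 (allL N79090 (tt N45235 (iv1 D159989)) (tt N100785 F430464) (tt N93167 (iv2 F399764)) (tt N68428 (iv3 F365582)) (tt N104979 (iv4 F448239)) (tt N100157 (iv5 F427753)) (tt N111331 D214573) (tt N100783 (iv7 F430453)))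
theorem Q79092 : ∀ i, i < 79092 → P i := stepQ 79091 Q79091 (allL N79091 (tt N95890 F410108) (tt N111266 (iv0 F475528)) (tt N100784 (iv2 F430458)) (tt N85172 (iv3 F371790)) (tt N45235 (iv4 D159990)) (tt N85142 (iv5 F371726)) (tt N45239 F252361) (tt N85141 F371724))
theorem Q79093 : ∀ i, i < 79093 → P i := stepQ 79092 Q79092 (allL N79092 (tt N93167 F399771) (tt N100783 F430454) (tt N100785 (iv2 F430461)) (tt N93186 F399865) (tt N85141 (iv4 F371722)) (tt N45236 F252362) (tt N85144 (iv6 F371734)) (tt N45235 (iv7 D159991)))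
theorem Q79094 : ∀ i, i < 79094 → P i := stepQ 79093 Q79093 (allL N79093 (tt N105777 (iv1 F451663)) (tt N105767 (iv0 F451612)) (tt N94127 (iv2 F403338)) (tt N92747 (iv3 F398058)) (tt N104215 (iv4 F444744)) (tt N79062 F252363) (tt N45237 (iv6 D159992)) (tt N105776 (iv7 F451654)))
theorem Q79095 : ∀ i, i < 79095 → P i := stepQ 79094 Q79094 (allL N79094 (tt N95843 (iv1 F409910)) (tt N63101 F303696) (tt N102983 (iv2 F439541)) (tt N45243 (iv3 D160009)) (tt N60373 (iv4 F323468)) (tt N76103 F303697) (tt N99925 (iv6 F426846)) (tt N76023 F303698))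
theorem Q79096 : ∀ i, i < 79096 → P i := stepQ 79095 Q79095 (allL N79095 (tt N94473 F404625) (tt N63331 (iv0 F252416)) (tt N76022 F307743) (tt N99925 (iv3 F426844)) (tt N76021 (iv4 F309478)) (tt N76125 (iv5 F308950)) (tt N45243 (iv6 D160011)) (tt N102989 (iv7 F439574)))
theorem Q79097 : ∀ i, i < 79097 → P i := stepQ 79096 Q79096 (allL N79096 (tt N45251 (iv1 D160037)) (tt N76441 F252500) (tt N63850 F252503) (tt N63451 (iv3 F252502)) (tt N69662 (iv4 F252501)) (tt N56076 (iv5 F340865)) (tt N107172 (iv6 F457322)) (tt N68284 F252504))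
theorem Q79098 : ∀ i, i < 79098 → P i := stepQ 79097 Q79097 (allL N79097 (tt N99544 F425080) (tt N100426 (iv0 F428925)) (tt N45282 F252524) (tt N76337 F252525) (tt N63086 F252526) (tt N99920 (iv5 F426827)) (tt N45255 (iv6 D160041)) (tt N108068 (iv7 F460978)))
theorem Q79099 : ∀ i, i < 79099 → P i := stepQ 79098 Q79098 (allL N79098 (tt N63283 F252542) (tt N63323 F252543) (tt N63320 F252540) (tt N111332 D214574) (tt N45257 (iv4 D160044)) (tt N111333 D214575) (tt N85196 (iv6 F371862)) (tt N63319 F252541))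
theorem Q79100 : ∀ i, i < 79100 → P i := stepQ 79099 Q79099 (allL N79099 (tt N73927 (iv1 F314582)) (tt N111125 F474804) (tt N62832 F252544) (tt N69893 (iv3 F365391)) (tt N45260 F252545) (tt N105064 (iv5 F448625)) (tt N45259 (iv6 D160045)) (tt N105142 (iv7 F448971)))
theorem Q79101 : ∀ i, i < 79101 → P i := stepQ 79100 Q79100 (allL N79100 (tt N62831 (iv1 F252554)) (tt N62830 F252555) (tt N62833 F252551) (tt N75053 F252552) (tt N105142 (iv4 F448969)) (tt N62800 F252553) (tt N107178 F457363) (tt N45260 (iv7 D160047)))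
theorem Q79102 : ∀ i, i < 79102 → P i := stepQ 79101 Q79101 (allL N79101 (tt N71483 F362178) (tt N111334 D214576) (tt N111335 D214577) (tt N45262 (iv3 D160058)) (tt N63172 F252591) (tt N111336 D214578) (tt N71458 (iv6 F366346)) (tt N63354 F252592))
theorem Q79103 : ∀ i, i < 79103 → P i := stepQ 79102 Q79102 (allL N79102 (tt N78824 F252595) (tt N78825 F252596) (tt N63359 F252593) (tt N111336 (iv3 F475883)) (tt N111337 D214579) (tt N45262 (iv5 D160059)) (tt N111338 D214580) (tt N63355 F252594))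
theorem Q79104 : ∀ i, i < 79104 → P i := stepQ 79103 Q79103 (allL N79103 (tt N73372 (iv1 F337200)) (tt N73364 (iv0 F337198)) (tt N89663 (iv2 F387149)) (tt N64561 F252601) (tt N89674 (iv4 F387184)) (tt N45265 (iv5 D160063)) (tt N65360 F359691) (tt N70418 F360243))
theorem Q79105 : ∀ i, i < 79105 → P i := stepQ 79104 Q79104 (allL N79104 (tt N50851 F349202) (tt N53290 (iv0 F349203)) (tt N53292 F349199) (tt N45268 (iv3 D160070)) (tt N63358 F252616) (tt N51193 (iv5 F349198)) (tt N71437 F349992) (tt N52719 (iv7 F349201)))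
theorem Q79106 : ∀ i, i < 79106 → P i := stepQ 79105 Q79105 (allL N79105 (tt N54086 (iv1 F335925)) (tt N53234 F335918) (tt N50982 (iv2 F331247)) (tt N51193 F349196) (tt N50819 (iv4 F335919)) (tt N45268 (iv5 D160071)) (tt N53298 F349197) (tt N50930 (iv7 F349195)))
theorem Q79107 : ∀ i, i < 79107 → P i := stepQ 79106 Q79106 (allL N79106 (tt N80489 (iv1 F335000)) (tt N80310 (iv0 F337085)) (tt N80491 (iv2 F337080)) (tt N45274 F252621) (tt N87085 (iv4 F378322)) (tt N68460 F252622) (tt N80491 (iv6 F337082)) (tt N45269 (iv7 D160074)))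
theorem Q79108 : ∀ i, i < 79108 → P i := stepQ 79107 Q79107 (allL N79107 (tt N77651 F366470) (tt N111339 D214581) (tt N79390 (iv2 F255566)) (tt N45271 F252623) (tt N84039 (iv4 F367887)) (tt N89056 F384990) (tt N45270 (iv6 D160075)) (tt N89799 (iv7 F387599)))
theorem Q79109 : ∀ i, i < 79109 → P i := stepQ 79108 Q79108 (allL N79108 (tt N89653 F387106) (tt N89693 F387236) (tt N89692 (iv2 F387232)) (tt N89056 (iv3 F384992)) (tt N99546 (iv4 F425088)) (tt N45271 (iv5 D160077)) (tt N53085 F252624) (tt N89691 F387228))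
theorem Q79110 : ∀ i, i < 79110 → P i := stepQ 79109 Q79109 (allL N79109 (tt N77667 F337086) (tt N77669 F356830) (tt N100976 (iv2 F431131)) (tt N89799 (iv3 F387598)) (tt N45274 F252625) (tt N89691 (iv5 F387227)) (tt N90867 F391094) (tt N45271 (iv7 D160078)))
theorem Q79111 : ∀ i, i < 79111 → P i := stepQ 79110 Q79110 (allL N79110 (tt N111340 D214582) (tt N90815 (iv0 F390958)) (tt N109763 (iv2 F468500)) (tt N47854 F366936) (tt N111341 D214583) (tt N45275 (iv5 D160088)) (tt N47850 F366937) (tt N111342 D214584))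
theorem Q79112 : ∀ i, i < 79112 → P i := stepQ 79111 Q79111 (allL N79111 (tt N90866 (iv1 F391089)) (tt N73365 (iv0 F346109)) (tt N90867 F391095) (tt N64782 F341422) (tt N45277 F252658) (tt N111342 (iv5 F475910)) (tt N100976 (iv6 F431134)) (tt N45275 (iv7 D160089)))
theorem Q79113 : ∀ i, i < 79113 → P i := stepQ 79112 Q79112 (allL N79112 (tt N45282 F252668) (tt N108068 (iv0 F460979)) (tt N100426 (iv2 F428921)) (tt N77137 (iv3 F360536)) (tt N45276 (iv4 D160093)) (tt N111343 D214585) (tt N105831 (iv6 F451924)) (tt N99544 F425081))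
theorem Q79114 : ∀ i, i < 79114 → P i := stepQ 79113 Q79113 (allL N79113 (tt N53088 (iv1 F354642)) (tt N53090 F354640) (tt N64630 F252669) (tt N64690 F252670) (tt N77247 F252671) (tt N106378 (iv5 F454215)) (tt N45278 (iv6 D160095)) (tt N105004 (iv7 F448325)))
theorem Q79115 : ∀ i, i < 79115 → P i := stepQ 79114 Q79114 (allL N79114 (tt N109404 (iv1 F466794)) (tt N107654 (iv0 F459100)) (tt N75983 F252672) (tt N89846 F387713) (tt N109614 (iv4 F467750)) (tt N45279 (iv5 D160096)) (tt N106378 (iv6 F454216)) (tt N110520 (iv7 F471963)))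
theorem Q79116 : ∀ i, i < 79116 → P i := stepQ 79115 Q79115 (allL N79115 (tt N75891 F332406) (tt N77141 F361522) (tt N77307 F252680) (tt N64452 F252681) (tt N77246 F252682) (tt N111344 D214586) (tt N45281 (iv6 D160099)) (tt N101749 (iv7 F434163)))
theorem Q79117 : ∀ i, i < 79117 → P i := stepQ 79116 Q79116 (allL N79116 (tt N99923 F426836) (tt N99911 (iv0 F426784)) (tt N99920 F426828) (tt N109096 (iv3 F465319)) (tt N111345 D214587) (tt N45282 (iv5 D160100)) (tt N111344 (iv6 F475918)) (tt N99921 (iv7 F426831)))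
theorem Q79118 : ∀ i, i < 79118 → P i := stepQ 79117 Q79117 (allL N79117 (tt N71810 F337902) (tt N74389 F364101) (tt N74388 (iv2 F338490)) (tt N64660 F252685) (tt N80450 (iv4 F267777)) (tt N90083 (iv5 F388520)) (tt N45283 (iv6 D160102)) (tt N74387 F346086))
theorem Q79119 : ∀ i, i < 79119 → P i := stepQ 79118 Q79118 (allL N79118 (tt N45285 (iv1 F252690)) (tt N45286 F252691) (tt N45284 F252686) (tt N50289 F252687) (tt N47706 F252688) (tt N64447 F252689) (tt N51495 (iv6 F252692)) (tt N45283 (iv7 D160103)))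
theorem Q79120 : ∀ i, i < 79120 → P i := stepQ 79119 Q79119 (allL N79119 (tt N109093 (iv1 F465305)) (tt N91539 (iv0 F393555)) (tt N101291 (iv2 F432556)) (tt N45289 F252703) (tt N45308 F252704) (tt N110104 (iv5 F470006)) (tt N45286 (iv6 D160107)) (tt N99790 (iv7 F426228)))
theorem Q79121 : ∀ i, i < 79121 → P i := stepQ 79120 Q79120 (allL N79120 (tt N88993 F384710) (tt N88996 (iv0 F384731)) (tt N75979 F252705) (tt N78330 F252706) (tt N76986 F252707) (tt N73913 F361530) (tt N45287 (iv6 D160108)) (tt N94150 (iv7 F403443)))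
theorem Q79122 : ∀ i, i < 79122 → P i := stepQ 79121 Q79121 (allL N79121 (tt N89648 (iv1 F387087)) (tt N76530 (iv0 F342634)) (tt N76483 (iv2 F342637)) (tt N63919 F252708) (tt N53294 F252709) (tt N72820 (iv5 F366713)) (tt N45288 (iv6 D160109)) (tt N89666 (iv7 F387163)))
theorem Q79123 : ∀ i, i < 79123 → P i := stepQ 79122 Q79122 (allL N79122 (tt N75973 (iv1 F252712)) (tt N45289 (iv0 D160113)) (tt N63085 (iv2 F252711)) (tt N76339 F357217) (tt N56119 F252714) (tt N108385 (iv5 F462356)) (tt N82166 F349349) (tt N75972 F252713))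
theorem Q79124 : ∀ i, i < 79124 → P i := stepQ 79123 Q79123 (allL N79123 (tt N73923 (iv1 F366558)) (tt N73926 (iv0 F314580)) (tt N100368 (iv2 F428627)) (tt N110104 (iv3 F470005)) (tt N106493 (iv4 F454662)) (tt N45289 (iv5 D160114)) (tt N89661 (iv6 F387139)) (tt N110505 (iv7 F471888)))
theorem Q79125 : ∀ i, i < 79125 → P i := stepQ 79124 Q79124 (allL N79124 (tt N45292 (iv1 D160119)) (tt N66287 F344910) (tt N74247 F344911) (tt N61479 F352374) (tt N46624 F344912) (tt N71156 F344913) (tt N82239 F353466) (tt N71155 F344914))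
theorem Q79126 : ∀ i, i < 79126 → P i := stepQ 79125 Q79125 (allL N79125 (tt N64424 F252764) (tt N65170 F252765) (tt N53552 F303941) (tt N78542 F252766) (tt N45295 (iv4 D160143)) (tt N48768 F303942) (tt N48770 F303943) (tt N75986 F252763))
theorem Q79127 : ∀ i, i < 79127 → P i := stepQ 79126 Q79126 (allL N79126 (tt N111346 D214588) (tt N99753 (iv0 F426069)) (tt N75935 F252884) (tt N45316 F252885) (tt N70092 (iv4 F330254)) (tt N69972 (iv5 F331674)) (tt N45315 (iv6 D160201)) (tt N111347 D214589))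
theorem Q79128 : ∀ i, i < 79128 → P i := stepQ 79127 Q79127 (allL N79127 (tt N45316 (iv1 D160202)) (tt N75966 (iv0 F252899)) (tt N63055 (iv2 F310967)) (tt N75633 (iv3 F313178)) (tt N111125 (iv4 F474799)) (tt N79904 F334858) (tt N63054 F360916) (tt N75958 F252896))
theorem Q79129 : ∀ i, i < 79129 → P i := stepQ 79128 Q79128 (allL N79128 (tt N63055 (iv1 F310966)) (tt N75958 F252907) (tt N75966 F252904) (tt N111347 (iv3 F475934)) (tt N69920 (iv4 F359679)) (tt N102952 (iv5 F439411)) (tt N75978 F252905) (tt N45316 (iv7 D160203)))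
theorem Q79130 : ∀ i, i < 79130 → P i := stepQ 79129 Q79129 (allL N79129 (tt N75904 F253031) (tt N101176 (iv0 F432063)) (tt N75934 F253027) (tt N45323 F253028) (tt N75996 F253029) (tt N74422 F253030) (tt N45322 (iv6 D160239)) (tt N111348 D214590))
theorem Q79131 : ∀ i, i < 79131 → P i := stepQ 79130 Q79130 (allL N79130 (tt N75635 (iv1 F313171)) (tt N45323 (iv0 D160240)) (tt N46230 (iv2 F253037)) (tt N75958 F253038) (tt N75265 F253034) (tt N101701 (iv5 F433947)) (tt N46225 F253036) (tt N75633 (iv7 F313180)))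
theorem Q79132 : ∀ i, i < 79132 → P i := stepQ 79131 Q79131 (allL N79131 (tt N75633 (iv1 F313177)) (tt N46230 F253058) (tt N75635 (iv2 F313172)) (tt N111348 (iv3 F475941)) (tt N81460 F363613) (tt N75781 F253055) (tt N52584 (iv6 F308834)) (tt N45323 (iv7 D160241)))
theorem Q79133 : ∀ i, i < 79133 → P i := stepQ 79132 Q79132 (allL N79132 (tt N59385 (iv1 F349857)) (tt N111349 D214591) (tt N59559 F360128) (tt N45328 (iv3 D160261)) (tt N48395 F253099) (tt N100556 (iv5 F429448)) (tt N57162 (iv6 F351071)) (tt N63872 F253100))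
theorem Q79134 : ∀ i, i < 79134 → P i := stepQ 79133 Q79133 (allL N79133 (tt N64969 (iv1 F253105)) (tt N45329 (iv0 D160263)) (tt N64968 (iv2 F262237)) (tt N59612 F377829) (tt N100678 (iv4 F429973)) (tt N100553 (iv5 F429438)) (tt N95213 (iv6 F413344)) (tt N64967 (iv7 F262239)))
theorem Q79135 : ∀ i, i < 79135 → P i := stepQ 79134 Q79134 (allL N79134 (tt N45329 (iv1 D160264)) (tt N64969 F253109) (tt N64967 F262238) (tt N65435 (iv3 F256581)) (tt N82454 (iv4 F281094)) (tt N100554 (iv5 F429442)) (tt N111350 D214592) (tt N64968 F262236))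
theorem Q79136 : ∀ i, i < 79136 → P i := stepQ 79135 Q79135 (allL N79135 (tt N64968 (iv1 F253110)) (tt N64967 F253108) (tt N45329 (iv2 D160265)) (tt N63877 F253106) (tt N68250 (iv4 F320277)) (tt N111351 D214593) (tt N79291 (iv6 F336020)) (tt N64969 F253107))
theorem Q79137 : ∀ i, i < 79137 → P i := stepQ 79136 Q79136 (allL N79136 (tt N101547 F433347) (tt N101548 (iv0 F433350)) (tt N111351 (iv2 F475958)) (tt N45330 F253111) (tt N111086 (iv4 F474590)) (tt N45329 (iv5 D160266)) (tt N111352 D214594) (tt N64970 F253112))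
theorem Q79138 : ∀ i, i < 79138 → P i := stepQ 79137 Q79137 (allL N79137 (tt N58035 F343777) (tt N58038 F343778) (tt N59621 (iv2 F343764)) (tt N111352 (iv3 F475963)) (tt N79200 (iv4 F253431)) (tt N59375 (iv5 F343773)) (tt N45330 (iv6 D160267)) (tt N59374 F343775))
theorem Q79139 : ∀ i, i < 79139 → P i := stepQ 79138 Q79138 (allL N79138 (tt N64337 F301832) (tt N63915 (iv0 F299267)) (tt N63890 F253114) (tt N53073 F253115) (tt N76521 (iv4 F306770)) (tt N111353 D214595) (tt N45331 (iv6 D160268)) (tt N48975 F301833))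
theorem Q79140 : ∀ i, i < 79140 → P i := stepQ 79139 Q79139 (allL N79139 (tt N90167 (iv1 F388753)) (tt N90243 (iv0 F389074)) (tt N76916 F253118) (tt N45336 F253119) (tt N101651 (iv4 F433705)) (tt N45333 (iv5 D160272)) (tt N100601 (iv6 F429647)) (tt N90267 (iv7 F389166)))
theorem Q79141 : ∀ i, i < 79141 → P i := stepQ 79140 Q79140 (allL N79140 (tt N76915 (iv1 F253125)) (tt N76914 F253126) (tt N76917 F253120) (tt N45337 F253121) (tt N78482 F253122) (tt N90267 (iv5 F389165)) (tt N63894 F253123) (tt N45333 (iv7 D160273)))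
theorem Q79142 : ∀ i, i < 79142 → P i := stepQ 79141 Q79141 (allL N79141 (tt N90556 (iv1 F390091)) (tt N49641 F354486) (tt N69329 F345500) (tt N45334 (iv3 D160274)) (tt N45447 F253127) (tt N54338 (iv5 F354494)) (tt N64301 (iv6 F299249)) (tt N45346 F253129))
theorem Q79143 : ∀ i, i < 79143 → P i := stepQ 79142 Q79142 (allL N79142 (tt N54156 (iv1 F310313)) (tt N65006 (iv0 F366001)) (tt N45345 F253130) (tt N54338 (iv3 F354492)) (tt N99111 (iv4 F423377)) (tt N45334 (iv5 D160275)) (tt N64859 F253131) (tt N45347 F253132))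
theorem Q79144 : ∀ i, i < 79144 → P i := stepQ 79143 Q79143 (allL N79143 (tt N65006 (iv1 F366002)) (tt N54156 (iv0 F310312)) (tt N45347 F253136) (tt N106832 (iv3 F455882)) (tt N101621 (iv4 F433589)) (tt N45335 (iv5 D160277)) (tt N98815 F422444) (tt N45345 F253137))
theorem Q79145 : ∀ i, i < 79145 → P i := stepQ 79144 Q79144 (allL N79144 (tt N45350 (iv1 F253145)) (tt N45349 F253146) (tt N45352 F253143) (tt N90267 (iv3 F389164)) (tt N101608 (iv4 F433529)) (tt N45337 F253144) (tt N106523 (iv6 F454767)) (tt N45336 (iv7 D160280)))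
theorem Q79146 : ∀ i, i < 79146 → P i := stepQ 79145 Q79145 (allL N79145 (tt N45612 (iv1 F301967)) (tt N73083 (iv0 F325841)) (tt N45359 F253164) (tt N103434 (iv3 F441617)) (tt N45339 (iv4 D160286)) (tt N57001 F345403) (tt N64160 F253165) (tt N45357 F253166))
theorem Q79147 : ∀ i, i < 79147 → P i := stepQ 79146 Q79146 (allL N79146 (tt N64359 (iv1 F253198)) (tt N45340 (iv0 D160293)) (tt N64358 F430997) (tt N111354 D214596) (tt N111355 D214597) (tt N111356 D214598) (tt N96567 (iv6 F430999)) (tt N64357 F430998))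
theorem Q79148 : ∀ i, i < 79148 → P i := stepQ 79147 Q79147 (allL N79147 (tt N45340 (iv1 D160294)) (tt N64359 F253203) (tt N64357 F430994) (tt N96584 F430995) (tt N111357 D214599) (tt N111358 D214600) (tt N101124 (iv6 F431801)) (tt N64358 F430996))
theorem Q79149 : ∀ i, i < 79149 → P i := stepQ 79148 Q79148 (allL N79148 (tt N64358 (iv1 F253204)) (tt N64357 F253202) (tt N45340 (iv2 D160295)) (tt N45375 F253199) (tt N78487 F253200) (tt N101597 (iv5 F433495)) (tt N93815 F402032) (tt N64359 F253201))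
theorem Q79150 : ∀ i, i < 79150 → P i := stepQ 79149 Q79149 (allL N79149 (tt N62993 (iv1 F350748)) (tt N62945 (iv0 F350746)) (tt N63004 (iv2 F350747)) (tt N45341 (iv3 D160297)) (tt N92578 (iv4 F397457)) (tt N106839 (iv5 F455922)) (tt N111359 D214601) (tt N63003 F350749))
theorem Q79151 : ∀ i, i < 79151 → P i := stepQ 79150 Q79150 (allL N79150 (tt N101290 (iv1 F432555)) (tt N98816 F422451) (tt N98902 (iv2 F422733)) (tt N106839 (iv3 F455921)) (tt N98901 (iv4 F422729)) (tt N45341 (iv5 D160299)) (tt N111360 D214602) (tt N100602 (iv7 F429652)))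
theorem Q79152 : ∀ i, i < 79152 → P i := stepQ 79151 Q79151 (allL N79151 (tt N59296 (iv1 F363297)) (tt N83413 (iv0 F363293)) (tt N85820 (iv2 F374112)) (tt N111359 (iv3 F475997)) (tt N100941 (iv4 F431041)) (tt N64776 F253206) (tt N45341 (iv6 D160300)) (tt N96209 (iv7 F411506)))
theorem Q79153 : ∀ i, i < 79153 → P i := stepQ 79152 Q79152 (allL N79152 (tt N69867 (iv1 F369020)) (tt N69741 F368214) (tt N69865 F364378) (tt N106843 (iv3 F455947)) (tt N49774 F360251) (tt N101277 (iv5 F432503)) (tt N45342 (iv6 D160305)) (tt N69866 F364377))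
theorem Q79154 : ∀ i, i < 79154 → P i := stepQ 79153 Q79153 (allL N79153 (tt N45343 (iv1 D160307)) (tt N100604 F429669) (tt N64790 (iv2 F363100)) (tt N90699 (iv3 F390555)) (tt N93507 (iv4 F400972)) (tt N64492 (iv5 F253208)) (tt N90698 F390552) (tt N96242 (iv7 F411707)))
theorem Q79155 : ∀ i, i < 79155 → P i := stepQ 79154 Q79154 (allL N79154 (tt N111361 D214603) (tt N70748 (iv0 F422827)) (tt N100603 (iv2 F429656)) (tt N108470 (iv3 F462724)) (tt N45343 (iv4 D160308)) (tt N99310 (iv5 F424050)) (tt N45351 F253209) (tt N107786 (iv7 F459726)))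
theorem Q79156 : ∀ i, i < 79156 → P i := stepQ 79155 Q79155 (allL N79155 (tt N64790 (iv1 F253212)) (tt N96242 (iv0 F411709)) (tt N100604 (iv2 F429665)) (tt N78343 F253210) (tt N107786 (iv4 F459725)) (tt N45344 F253211) (tt N111362 D214604) (tt N45343 (iv7 D160309)))
theorem Q79157 : ∀ i, i < 79157 → P i := stepQ 79156 Q79156 (allL N79156 (tt N101116 (iv1 F431761)) (tt N79420 F366036) (tt N99111 (iv2 F423373)) (tt N71567 F344871) (tt N45345 (iv4 D160317)) (tt N93630 (iv5 F401355)) (tt N71566 (iv6 F344869)) (tt N101621 (iv7 F433588)))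
theorem Q79158 : ∀ i, i < 79158 → P i := stepQ 79157 Q79157 (allL N79157 (tt N77842 F390553) (tt N77837 (iv0 F344870)) (tt N64859 F253225) (tt N94283 (iv3 F403949)) (tt N71566 F344868) (tt N64507 F253226) (tt N45345 (iv6 D160318)) (tt N105148 (iv7 F448996)))
theorem Q79159 : ∀ i, i < 79159 → P i := stepQ 79158 Q79158 (allL N79158 (tt N69331 (iv1 F347436)) (tt N69330 F342110) (tt N69332 (iv2 F342106)) (tt N45424 F253227) (tt N45346 (iv4 D160322)) (tt N79224 F342109) (tt N78618 (iv6 F303419)) (tt N45447 F253228))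
theorem Q79160 : ∀ i, i < 79160 → P i := stepQ 79159 Q79159 (allL N79159 (tt N101203 (iv1 F432183)) (tt N88483 (iv0 F383238)) (tt N103937 (iv2 F443451)) (tt N45348 F253230) (tt N78618 (iv4 F303418)) (tt N54250 (iv5 F304190)) (tt N45346 (iv6 D160324)) (tt N78614 (iv7 F304272)))
theorem Q79161 : ∀ i, i < 79161 → P i := stepQ 79160 Q79160 (allL N79160 (tt N79420 (iv1 F366902)) (tt N101116 (iv0 F431760)) (tt N101621 F433590) (tt N82104 F351559) (tt N45347 (iv4 D160325)) (tt N77939 (iv5 F351461)) (tt N70996 (iv6 F351560)) (tt N99111 (iv7 F423376)))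
theorem Q79162 : ∀ i, i < 79162 → P i := stepQ 79161 Q79161 (allL N79161 (tt N89167 F385421) (tt N100932 (iv0 F431016)) (tt N89901 (iv2 F387917)) (tt N45349 (iv3 D160327)) (tt N111363 D214605) (tt N46680 F304173) (tt N89113 (iv6 F385207)) (tt N101439 (iv7 F432974)))
theorem Q79163 : ∀ i, i < 79163 → P i := stepQ 79162 Q79162 (allL N79162 (tt N65022 F304174) (tt N65025 F304175) (tt N83717 F304176) (tt N110671 (iv3 F472695)) (tt N45349 (iv4 D160328)) (tt N111364 D214606) (tt N89310 (iv6 F386038)) (tt N100947 (iv7 F431071)))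
theorem Q79164 : ∀ i, i < 79164 → P i := stepQ 79163 Q79163 (allL N79163 (tt N65025 (iv1 F303344)) (tt N65022 (iv0 F356081)) (tt N100947 F431073) (tt N95800 F409713) (tt N45350 (iv4 D160331)) (tt N111365 D214607) (tt N106582 (iv6 F454944)) (tt N83717 F366897))
theorem Q79165 : ∀ i, i < 79165 → P i := stepQ 79164 Q79164 (allL N79164 (tt N111366 D214608) (tt N98830 (iv0 F422489)) (tt N101639 (iv2 F433656)) (tt N108469 (iv3 F462718)) (tt N81956 (iv4 F366916)) (tt N45351 (iv5 D160336)) (tt N111367 D214609) (tt N101637 (iv7 F433646)))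
theorem Q79166 : ∀ i, i < 79166 → P i := stepQ 79165 Q79165 (allL N79165 (tt N111368 D214610) (tt N105468 (iv0 F450378)) (tt N106523 (iv2 F454766)) (tt N78352 F253234) (tt N98860 (iv4 F434657)) (tt N63983 F253235) (tt N45352 (iv6 D160338)) (tt N111362 (iv7 F476015)))
theorem Q79167 : ∀ i, i < 79167 → P i := stepQ 79166 Q79166 (allL N79166 (tt N53757 (iv1 F338817)) (tt N53210 (iv0 F338814)) (tt N53755 (iv2 F338816)) (tt N45354 (iv3 D160343)) (tt N46383 F253249) (tt N52945 (iv5 F338818)) (tt N53566 (iv6 F301811)) (tt N46376 F253251))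
theorem Q79168 : ∀ i, i < 79168 → P i := stepQ 79167 Q79167 (allL N79167 (tt N65041 F366894) (tt N65032 (iv0 F346597)) (tt N77850 (iv2 F341524)) (tt N77993 (iv3 F341525)) (tt N45356 (iv4 D160352)) (tt N111366 (iv5 F476030)) (tt N77834 F341522) (tt N98810 (iv7 F422415)))
theorem Q79169 : ∀ i, i < 79169 → P i := stepQ 79168 Q79168 (allL N79168 (tt N45357 (iv1 D160358)) (tt N45359 F253286) (tt N45612 F303291) (tt N59207 F353082) (tt N45608 F303292) (tt N65055 F303293) (tt N64445 F253288) (tt N73083 (iv7 F325843)))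
theorem Q79170 : ∀ i, i < 79170 → P i := stepQ 79169 Q79169 (allL N79169 (tt N97497 F417111) (tt N111369 D214611) (tt N111370 D214612) (tt N45357 (iv3 D160359)) (tt N81732 F364151) (tt N111371 D214613) (tt N80600 (iv6 F306132)) (tt N103434 (iv7 F441620)))
theorem Q79171 : ∀ i, i < 79171 → P i := stepQ 79170 Q79170 (allL N79170 (tt N79428 F344462) (tt N57161 F351090) (tt N78736 F345408) (tt N111371 (iv3 F476048)) (tt N98830 (iv4 F422488)) (tt N45357 (iv5 D160360)) (tt N56828 F345413) (tt N57001 (iv7 F345404)))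
theorem Q79172 : ∀ i, i < 79172 → P i := stepQ 79171 Q79171 (allL N79171 (tt N101686 (iv1 F433865)) (tt N111372 D214614) (tt N111373 D214615) (tt N45359 (iv3 D160372)) (tt N45707 F305000) (tt N111374 D214616) (tt N79889 F305001) (tt N78735 F305002))
theorem Q79173 : ∀ i, i < 79173 → P i := stepQ 79172 Q79172 (allL N79172 (tt N57161 (iv1 F351091)) (tt N79428 F351092) (tt N57001 (iv2 F345402)) (tt N111374 (iv3 F476067)) (tt N111366 (iv4 F476031)) (tt N45359 (iv5 D160373)) (tt N56380 F345397) (tt N78736 (iv7 F345407)))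
theorem Q79174 : ∀ i, i < 79174 → P i := stepQ 79173 Q79173 (allL N79173 (tt N97662 (iv1 F417834)) (tt N93829 (iv0 F402055)) (tt N108453 (iv2 F462649)) (tt N45360 (iv3 D160386)) (tt N46297 F325520) (tt N47732 F325521) (tt N64285 (iv6 F358862)) (tt N58690 F358848))
theorem Q79175 : ∀ i, i < 79175 → P i := stepQ 79174 Q79174 (allL N79174 (tt N101149 (iv1 F431940)) (tt N101122 (iv0 F431787)) (tt N80570 F358858) (tt N47732 F358859) (tt N111365 (iv4 F476025)) (tt N45360 (iv5 D160387)) (tt N67067 (iv6 F358861)) (tt N58697 F358860))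
theorem Q79176 : ∀ i, i < 79176 → P i := stepQ 79175 Q79175 (allL N79175 (tt N95592 (iv1 F408808)) (tt N58171 (iv0 F365846)) (tt N106773 (iv2 F455618)) (tt N45361 (iv3 D160389)) (tt N81598 (iv4 F365849)) (tt N106052 (iv5 F452910)) (tt N58145 (iv6 F365847)) (tt N80568 F365848))
theorem Q79177 : ∀ i, i < 79177 → P i := stepQ 79176 Q79176 (allL N79176 (tt N101122 (iv1 F431788)) (tt N101149 (iv0 F431939)) (tt N58697 (iv2 F365855)) (tt N106052 (iv3 F452912)) (tt N111364 (iv4 F476020)) (tt N45361 (iv5 D160390)) (tt N111375 D214617) (tt N80570 F365856))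
theorem Q79178 : ∀ i, i < 79178 → P i := stepQ 79177 Q79177 (allL N79177 (tt N80947 (iv1 F351615)) (tt N45362 (iv0 D160392)) (tt N101660 (iv2 F433742)) (tt N57901 F365973) (tt N102397 (iv4 F437057)) (tt N111376 D214618) (tt N58210 (iv6 F365974)) (tt N57896 (iv7 F365975)))
theorem Q79179 : ∀ i, i < 79179 → P i := stepQ 79178 Q79178 (allL N79178 (tt N45362 (iv1 D160393)) (tt N80947 F351616) (tt N57896 (iv2 F365976)) (tt N58154 F365977) (tt N105347 (iv4 F449813)) (tt N111377 D214619) (tt N57894 F365978) (tt N101660 (iv7 F433739)))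
theorem Q79180 : ∀ i, i < 79180 → P i := stepQ 79179 Q79179 (allL N79179 (tt N101660 (iv1 F433738)) (tt N57896 (iv0 F362470)) (tt N45362 (iv2 D160394)) (tt N93815 (iv3 F402031)) (tt N45393 F253340) (tt N90245 (iv5 F389084)) (tt N45375 F253341) (tt N80947 (iv7 F351614)))
theorem Q79181 : ∀ i, i < 79181 → P i := stepQ 79180 Q79180 (allL N79180 (tt N107886 (iv1 F460127)) (tt N93741 (iv0 F401736)) (tt N90245 (iv2 F389083)) (tt N45363 F253342) (tt N71759 (iv4 F351463)) (tt N45362 (iv5 D160395)) (tt N111378 D214620) (tt N101652 (iv7 F433709)))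
theorem Q79182 : ∀ i, i < 79182 → P i := stepQ 79181 Q79181 (allL N79181 (tt N81956 F359939) (tt N45363 (iv0 D160397)) (tt N101661 F433747) (tt N78183 (iv3 F351464)) (tt N77939 F351456) (tt N65034 (iv5 F301181)) (tt N77938 (iv6 F351460)) (tt N81719 F351535))
theorem Q79183 : ∀ i, i < 79183 → P i := stepQ 79182 Q79182 (allL N79182 (tt N45363 (iv1 D160398)) (tt N81956 F359941) (tt N81719 (iv2 F351537)) (tt N71678 F361555) (tt N93630 (iv4 F401354)) (tt N65035 (iv5 F302251)) (tt N93629 F401350) (tt N101661 (iv7 F433745)))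
theorem Q79184 : ∀ i, i < 79184 → P i := stepQ 79183 Q79183 (allL N79183 (tt N98830 F422490) (tt N111366 F476034) (tt N101637 (iv2 F433645)) (tt N101609 (iv3 F433534)) (tt N45363 (iv4 D160399)) (tt N101608 (iv5 F433528)) (tt N111379 D214621) (tt N101639 (iv7 F433659)))
theorem Q79185 : ∀ i, i < 79185 → P i := stepQ 79184 Q79184 (allL N79184 (tt N111380 D214622) (tt N111381 D214623) (tt N101601 (iv2 F433503)) (tt N111378 (iv3 F476086)) (tt N111379 (iv4 F476089)) (tt N45379 F253346) (tt N45363 (iv6 D160400)) (tt N111382 D214624))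
theorem Q79186 : ∀ i, i < 79186 → P i := stepQ 79185 Q79185 (allL N79185 (tt N64958 (iv1 F253360)) (tt N45364 (iv0 D160404)) (tt N64957 (iv2 F433300)) (tt N111383 D214625) (tt N94792 (iv4 F405964)) (tt N100547 F429434) (tt N80558 (iv6 F431246)) (tt N64956 (iv7 F433301)))
theorem Q79187 : ∀ i, i < 79187 → P i := stepQ 79186 Q79186 (allL N79186 (tt N45364 (iv1 D160405)) (tt N64958 F253364) (tt N64956 F433298) (tt N111384 D214626) (tt N94793 (iv4 F405967)) (tt N100548 (iv5 F429427)) (tt N101860 (iv6 F434707)) (tt N64957 F433299))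
theorem Q79188 : ∀ i, i < 79188 → P i := stepQ 79187 Q79187 (allL N79187 (tt N64957 (iv1 F253365)) (tt N64956 F253363) (tt N45364 (iv2 D160406)) (tt N64963 F253361) (tt N83569 (iv4 F287861)) (tt N111385 D214627) (tt N111386 D214628) (tt N64958 F253362))
theorem Q79189 : ∀ i, i < 79189 → P i := stepQ 79188 Q79188 (allL N79188 (tt N87305 (iv1 F381520)) (tt N111387 D214629) (tt N111385 (iv2 F476107)) (tt N45365 F253366) (tt N88028 F381519) (tt N45364 (iv5 D160407)) (tt N111388 D214630) (tt N64959 F253367))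
theorem Q79190 : ∀ i, i < 79190 → P i := stepQ 79189 Q79189 (allL N79189 (tt N94784 F405929) (tt N94786 (iv0 F405931)) (tt N111386 (iv2 F476113)) (tt N45366 F253368) (tt N83570 (iv4 F287867)) (tt N95232 (iv5 F407516)) (tt N45364 (iv6 D160408)) (tt N94816 (iv7 F406054)))
theorem Q79191 : ∀ i, i < 79191 → P i := stepQ 79190 Q79190 (allL N79190 (tt N108109 (iv1 F461152)) (tt N108108 (iv0 F461143)) (tt N64966 F253369) (tt N111388 (iv3 F476124)) (tt N73552 (iv4 F343803)) (tt N78073 (iv5 F343817)) (tt N45365 (iv6 D160409)) (tt N78072 (iv7 F343807)))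
theorem Q79192 : ∀ i, i < 79192 → P i := stepQ 79191 Q79191 (allL N79191 (tt N63877 (iv1 F253399)) (tt N45367 (iv0 D160415)) (tt N63876 (iv2 F412090)) (tt N111389 D214631) (tt N65973 (iv4 F358047)) (tt N87305 F379022) (tt N111390 D214632) (tt N63875 (iv7 F412092)))
theorem Q79193 : ∀ i, i < 79193 → P i := stepQ 79192 Q79192 (allL N79192 (tt N45367 (iv1 D160416)) (tt N63877 F253403) (tt N63875 F412093) (tt N95160 (iv3 F412238)) (tt N65974 (iv4 F365641)) (tt N111387 (iv5 F476121)) (tt N95158 F412240) (tt N63876 F412091))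
theorem Q79194 : ∀ i, i < 79194 → P i := stepQ 79193 Q79193 (allL N79193 (tt N63876 (iv1 F253404)) (tt N63875 F253402) (tt N45367 (iv2 D160417)) (tt N64969 F253400) (tt N60641 (iv4 F327277)) (tt N111391 D214633) (tt N59626 F365774) (tt N63877 F253401))
theorem Q79195 : ∀ i, i < 79195 → P i := stepQ 79194 Q79194 (allL N79194 (tt N101539 (iv1 F433306)) (tt N101543 (iv0 F433324)) (tt N111391 (iv2 F476138)) (tt N45368 F253405) (tt N91776 (iv4 F394375)) (tt N45367 (iv5 D160418)) (tt N91774 F394373) (tt N63878 F253406))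
theorem Q79196 : ∀ i, i < 79196 → P i := stepQ 79195 Q79195 (allL N79195 (tt N96787 (iv1 F413941)) (tt N108201 F461481) (tt N64971 F253408) (tt N91774 (iv3 F394372)) (tt N59556 (iv4 F343783)) (tt N59620 (iv5 F343845)) (tt N45368 (iv6 D160420)) (tt N59555 (iv7 F362794)))
theorem Q79197 : ∀ i, i < 79197 → P i := stepQ 79196 Q79196 (allL N79196 (tt N64974 (iv1 F253421)) (tt N45369 (iv0 D160432)) (tt N64973 F412085) (tt N96330 F412070) (tt N111392 D214634) (tt N108237 F461632) (tt N108238 (iv6 F461635)) (tt N64972 F412082))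
theorem Q79198 : ∀ i, i < 79198 → P i := stepQ 79197 Q79197 (allL N79197 (tt N45369 (iv1 D160433)) (tt N64974 F253425) (tt N64972 (iv2 F412084)) (tt N93834 F412087) (tt N97661 (iv4 F417825)) (tt N111393 D214635) (tt N93829 F412088) (tt N64973 (iv7 F412086)))
theorem Q79199 : ∀ i, i < 79199 → P i := stepQ 79198 Q79198 (allL N79198 (tt N64973 (iv1 F253426)) (tt N64972 F253424) (tt N45369 (iv2 D160434)) (tt N64980 F253422) (tt N80425 (iv4 F267340)) (tt N111394 D214636) (tt N95706 (iv6 F409225)) (tt N64974 F253423))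
theorem Q79200 : ∀ i, i < 79200 → P i := stepQ 79199 Q79199 (allL N79199 (tt N111395 D214637) (tt N111396 D214638) (tt N111394 (iv2 F476154)) (tt N45370 F253427) (tt N111397 D214639) (tt N45369 (iv5 D160435)) (tt N91771 (iv6 F394369)) (tt N64975 F253428))
theorem Q79201 : ∀ i, i < 79201 → P i := stepQ 79200 Q79200 (allL N79200 (tt N96580 (iv1 F413063)) (tt N96579 F413060) (tt N64982 F253430) (tt N91771 F394368) (tt N79137 F253431) (tt N95709 (iv5 F409241)) (tt N45370 (iv6 D160437)) (tt N96335 (iv7 F412107)))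
theorem Q79202 : ∀ i, i < 79202 → P i := stepQ 79201 Q79201 (allL N79201 (tt N64980 (iv1 F253438)) (tt N45371 (iv0 D160441)) (tt N64979 (iv2 F365919)) (tt N96585 (iv3 F413080)) (tt N95593 (iv4 F408812)) (tt N111398 D214640) (tt N95592 F408810) (tt N64978 F365920))
theorem Q79203 : ∀ i, i < 79203 → P i := stepQ 79202 Q79202 (allL N79202 (tt N64979 (iv1 F253443)) (tt N64978 F253441) (tt N45371 (iv2 D160443)) (tt N64974 F253439) (tt N80245 (iv4 F262310)) (tt N111399 D214641) (tt N96557 (iv6 F412979)) (tt N64980 F253440))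
theorem Q79204 : ∀ i, i < 79204 → P i := stepQ 79203 Q79203 (allL N79203 (tt N111400 D214642) (tt N94889 (iv0 F412109)) (tt N111399 (iv2 F476178)) (tt N45372 F253444) (tt N111401 D214643) (tt N45371 (iv5 D160444)) (tt N64984 (iv6 F353992)) (tt N64981 F253445))
theorem Q79205 : ∀ i, i < 79205 → P i := stepQ 79204 Q79204 (allL N79204 (tt N96558 (iv1 F412983)) (tt N94959 (iv0 F406509)) (tt N96557 F412977) (tt N45373 F253446) (tt N78646 (iv4 F298038)) (tt N64985 F353987) (tt N45371 (iv6 D160445)) (tt N80601 F363324))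
theorem Q79206 : ∀ i, i < 79206 → P i := stepQ 79205 Q79205 (allL N79205 (tt N96331 (iv1 F412071)) (tt N96330 F412083) (tt N96333 (iv2 F412095)) (tt N45374 (iv3 D160454)) (tt N79748 (iv4 F257990)) (tt N111402 D214644) (tt N96534 (iv6 F412881)) (tt N64986 (iv7 F257962)))
theorem Q79207 : ∀ i, i < 79207 → P i := stepQ 79206 Q79206 (allL N79206 (tt N45945 F253455) (tt N96575 F413052) (tt N64984 F257960) (tt N111402 (iv3 F476195)) (tt N111403 D214645) (tt N45374 (iv5 D160455)) (tt N111399 (iv6 F476180)) (tt N64987 (iv7 F257963)))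
theorem Q79208 : ∀ i, i < 79208 → P i := stepQ 79207 Q79207 (allL N79207 (tt N45763 F329865) (tt N80603 (iv0 F353975)) (tt N64985 F257961) (tt N96534 (iv3 F412880)) (tt N79575 F329866) (tt N96557 (iv5 F412976)) (tt N45374 (iv6 D160456)) (tt N80602 F353979))
theorem Q79209 : ∀ i, i < 79209 → P i := stepQ 79208 Q79208 (allL N79208 (tt N64990 (iv1 F253458)) (tt N64989 F253459) (tt N45376 F253456) (tt N101597 (iv3 F433494)) (tt N111123 (iv4 F474786)) (tt N45375 (iv5 D160457)) (tt N111404 D214646) (tt N64988 F253457))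
theorem Q79210 : ∀ i, i < 79210 → P i := stepQ 79209 Q79209 (allL N79209 (tt N64988 (iv1 F253461)) (tt N45376 (iv0 D160458)) (tt N64990 F254249) (tt N57878 F363244) (tt N111405 D214647) (tt N57874 (iv5 F341847)) (tt N111406 D214648) (tt N64989 (iv7 F254251)))
theorem Q79211 : ∀ i, i < 79211 → P i := stepQ 79210 Q79210 (allL N79210 (tt N45376 (iv1 D160459)) (tt N64988 F253462) (tt N64989 F254252) (tt N111407 D214649) (tt N110953 (iv4 F473944)) (tt N64152 (iv5 F254090)) (tt N108222 F461550) (tt N64990 F254246))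
theorem Q79212 : ∀ i, i < 79212 → P i := stepQ 79211 Q79211 (allL N79211 (tt N111408 D214650) (tt N111409 D214651) (tt N111123 (iv2 F474784)) (tt N100928 (iv3 F431003)) (tt N45376 (iv4 D160460)) (tt N111118 (iv5 F474753)) (tt N111410 D214652) (tt N64991 F253463))
theorem Q79213 : ∀ i, i < 79213 → P i := stepQ 79212 Q79212 (allL N79212 (tt N111411 D214653) (tt N111412 D214654) (tt N111404 (iv2 F476203)) (tt N45379 F253464) (tt N111410 (iv4 F476231)) (tt N111378 (iv5 F476088)) (tt N45376 (iv6 D160461)) (tt N111413 D214655))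
theorem Q79214 : ∀ i, i < 79214 → P i := stepQ 79213 Q79213 (allL N79213 (tt N108237 (iv1 F461633)) (tt N111393 (iv0 F476152)) (tt N111414 D214656) (tt N45377 (iv3 D160462)) (tt N111415 D214657) (tt N64151 F253465) (tt N111416 D214658) (tt N64993 F253466))
theorem Q79215 : ∀ i, i < 79215 → P i := stepQ 79214 Q79214 (allL N79214 (tt N73562 (iv1 F363312)) (tt N73554 (iv0 F359657)) (tt N64996 F253467) (tt N111416 (iv3 F476248)) (tt N63889 F253468) (tt N62419 (iv5 F343180)) (tt N45377 (iv6 D160463)) (tt N94506 (iv7 F404756)))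
theorem Q79216 : ∀ i, i < 79216 → P i := stepQ 79215 Q79215 (allL N79215 (tt N111398 F476177) (tt N96581 (iv0 F413070)) (tt N111417 D214659) (tt N45378 (iv3 D160464)) (tt N111418 D214660) (tt N63883 F253469) (tt N108215 (iv6 F461526)) (tt N64995 F253470))
theorem Q79217 : ∀ i, i < 79217 → P i := stepQ 79216 Q79216 (allL N79216 (tt N101602 (iv1 F433515)) (tt N45379 (iv0 D160466)) (tt N101599 F433506) (tt N74596 (iv3 F401352)) (tt N111419 D214661) (tt N74593 F401351) (tt N108217 (iv6 F461539)) (tt N101600 (iv7 F433507)))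
theorem Q79218 : ∀ i, i < 79218 → P i := stepQ 79217 Q79217 (allL N79217 (tt N45379 (iv1 D160467)) (tt N101602 F433514) (tt N101600 (iv2 F433509)) (tt N91768 F461430) (tt N90351 (iv4 F461429)) (tt N110683 (iv5 F472752)) (tt N111420 D214662) (tt N101599 F433508))
theorem Q79219 : ∀ i, i < 79219 → P i := stepQ 79218 Q79218 (allL N79218 (tt N101600 (iv1 F433502)) (tt N101599 F433510) (tt N101602 (iv2 F433511)) (tt N111413 (iv3 F476234)) (tt N100931 (iv4 F431009)) (tt N111382 (iv5 F476099)) (tt N65001 F253473) (tt N45379 (iv7 D160468)))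
theorem Q79220 : ∀ i, i < 79220 → P i := stepQ 79219 Q79219 (allL N79219 (tt N45445 F318833) (tt N47295 F318834) (tt N47298 F318835) (tt N45381 (iv3 D160476)) (tt N45382 F253488) (tt N81603 F318836) (tt N78735 F253489) (tt N46946 F318837))
theorem Q79221 : ∀ i, i < 79221 → P i := stepQ 79220 Q79220 (allL N79220 (tt N64085 (iv1 F300176)) (tt N64086 F299678) (tt N64520 F299679) (tt N58837 (iv3 F348406)) (tt N45385 (iv4 D160487)) (tt N80223 F330164) (tt N46649 F253514) (tt N58832 (iv7 F325936)))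
theorem Q79222 : ∀ i, i < 79222 → P i := stepQ 79221 Q79221 (allL N79221 (tt N111421 D214663) (tt N96979 F414901) (tt N47284 F318842) (tt N45386 (iv3 D160490)) (tt N45387 F253518) (tt N97534 F417291) (tt N79371 (iv6 F320978)) (tt N78741 F253519))
theorem Q79223 : ∀ i, i < 79223 → P i := stepQ 79222 Q79222 (allL N79222 (tt N47285 F318838) (tt N45387 (iv0 D160492)) (tt N47282 (iv2 F342122)) (tt N104231 F444830) (tt N81757 F342119) (tt N69330 (iv5 F347444)) (tt N65158 (iv6 F347454)) (tt N47283 F342121))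
theorem Q79224 : ∀ i, i < 79224 → P i := stepQ 79223 Q79223 (allL N79223 (tt N45387 (iv1 D160493)) (tt N47285 F318839) (tt N47283 F342125) (tt N76648 F348193) (tt N81760 F342117) (tt N69331 (iv5 F347440)) (tt N76646 (iv6 F347780)) (tt N47282 F342126))
theorem Q79225 : ∀ i, i < 79225 → P i := stepQ 79224 Q79224 (allL N79224 (tt N47276 (iv1 F334676)) (tt N47280 F334673) (tt N45389 (iv2 D160514)) (tt N47129 F320955) (tt N60627 (iv4 F345503)) (tt N79158 (iv5 F342109)) (tt N60625 (iv6 F360715)) (tt N78414 (iv7 F333773)))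
theorem Q79226 : ∀ i, i < 79226 → P i := stepQ 79225 Q79225 (allL N79225 (tt N45394 F331723) (tt N45393 F331724) (tt N45391 (iv2 D160537)) (tt N78551 F331725) (tt N111422 D214664) (tt N63257 F331726) (tt N100666 F429916) (tt N45392 (iv7 F253623)))
theorem Q79227 : ∀ i, i < 79227 → P i := stepQ 79226 Q79226 (allL N79226 (tt N66030 F364968) (tt N80773 (iv0 F364967)) (tt N78629 (iv2 F364964)) (tt N45391 (iv3 D160538)) (tt N81017 F364965) (tt N70088 F364966) (tt N100675 (iv6 F429962)) (tt N102276 (iv7 F436506)))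
theorem Q79228 : ∀ i, i < 79228 → P i := stepQ 79227 Q79227 (allL N79227 (tt N96168 (iv1 F411322)) (tt N96165 F428774) (tt N111422 (iv2 F476282)) (tt N111423 D214665) (tt N45391 (iv4 D160539)) (tt N111424 D214666) (tt N100676 (iv6 F429967)) (tt N111425 D214667))
theorem Q79229 : ∀ i, i < 79229 → P i := stepQ 79228 Q79228 (allL N79228 (tt N45393 F331729) (tt N45394 F331730) (tt N45392 F253624) (tt N102276 (iv3 F436504)) (tt N111425 (iv4 F476302)) (tt N70094 F331731) (tt N66465 (iv6 F341234)) (tt N45391 (iv7 D160542)))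
theorem Q79230 : ∀ i, i < 79230 → P i := stepQ 79229 Q79229 (allL N79229 (tt N96165 (iv1 F428773)) (tt N96168 (iv0 F411323)) (tt N111425 (iv2 F476300)) (tt N94748 (iv3 F405801)) (tt N45392 (iv4 D160544)) (tt N110947 (iv5 F473915)) (tt N94746 F405793) (tt N111422 (iv7 F476283)))
theorem Q79231 : ∀ i, i < 79231 → P i := stepQ 79230 Q79230 (allL N79230 (tt N45397 (iv1 D160564)) (tt N45905 F254422) (tt N45889 F254420) (tt N45892 (iv3 F254401)) (tt N79342 (iv4 F254409)) (tt N48361 F253648) (tt N80773 F345769) (tt N45906 (iv7 F254419)))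
theorem Q79232 : ∀ i, i < 79232 → P i := stepQ 79231 Q79231 (allL N79231 (tt N45398 (iv1 D160568)) (tt N45401 F253652) (tt N65434 (iv2 F256577)) (tt N64968 (iv3 F262235)) (tt N80232 (iv4 F262234)) (tt N111426 D214668) (tt N96165 (iv6 F413342)) (tt N65435 (iv7 F256580)))
theorem Q79233 : ∀ i, i < 79233 → P i := stepQ 79232 Q79232 (allL N79232 (tt N111389 F476130) (tt N111427 D214669) (tt N111428 D214670) (tt N45398 (iv3 D160569)) (tt N80262 (iv4 F262404)) (tt N111429 D214671) (tt N96858 (iv6 F414294)) (tt N65436 F254442))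
theorem Q79234 : ∀ i, i < 79234 → P i := stepQ 79233 Q79233 (allL N79233 (tt N111430 D214672) (tt N111431 D214673) (tt N65444 F254451) (tt N111429 (iv3 F476325)) (tt N111432 D214674) (tt N45398 (iv5 D160570)) (tt N88973 (iv6 F384631)) (tt N65437 F254443))
theorem Q79235 : ∀ i, i < 79235 → P i := stepQ 79234 Q79234 (allL N79234 (tt N59594 F403529) (tt N96037 F410752) (tt N59382 (iv2 F349853)) (tt N96858 (iv3 F414293)) (tt N45399 F253653) (tt N88974 F384630) (tt N45398 (iv6 D160571)) (tt N109239 (iv7 F465935)))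
theorem Q79236 : ∀ i, i < 79236 → P i := stepQ 79235 Q79235 (allL N79235 (tt N48341 F253661) (tt N48339 (iv0 F253663)) (tt N82517 F281432) (tt N111433 D214675) (tt N45400 (iv4 D160581)) (tt N90152 (iv5 F388709)) (tt N95075 F406958) (tt N65442 (iv7 F254462)))
theorem Q79237 : ∀ i, i < 79237 → P i := stepQ 79236 Q79236 (allL N79236 (tt N100704 F430098) (tt N100679 F430099) (tt N100703 (iv2 F430096)) (tt N45402 F253664) (tt N95075 (iv4 F406957)) (tt N97407 (iv5 F416757)) (tt N45400 (iv6 D160582)) (tt N100700 (iv7 F430084)))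
theorem Q79238 : ∀ i, i < 79238 → P i := stepQ 79237 Q79237 (allL N79237 (tt N59559 (iv1 F360129)) (tt N63872 (iv0 F253665)) (tt N111349 (iv2 F475951)) (tt N45401 (iv3 D160583)) (tt N111433 (iv4 F476344)) (tt N111434 D214676) (tt N101125 F431811) (tt N59385 (iv7 F349859)))
theorem Q79239 : ∀ i, i < 79239 → P i := stepQ 79238 Q79238 (allL N79238 (tt N111431 (iv1 F476332)) (tt N111430 F476329) (tt N65437 F254444) (tt N111434 (iv3 F476348)) (tt N111435 D214677) (tt N45401 (iv5 D160584)) (tt N111436 D214678) (tt N65444 (iv7 F254450)))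
theorem Q79240 : ∀ i, i < 79240 → P i := stepQ 79239 Q79239 (allL N79239 (tt N80980 (iv1 F431803)) (tt N81812 F363842) (tt N65438 F254432) (tt N101125 (iv3 F431807)) (tt N45402 F253666) (tt N111437 D214679) (tt N45401 (iv6 D160585)) (tt N100701 (iv7 F430087)))
theorem Q79241 : ∀ i, i < 79241 → P i := stepQ 79240 Q79240 (allL N79240 (tt N45781 F353965) (tt N77777 F339261) (tt N65439 F254433) (tt N97407 (iv3 F416756)) (tt N111438 D214680) (tt N45402 (iv5 D160588)) (tt N85732 (iv6 F373711)) (tt N77778 (iv7 F351012)))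
theorem Q79242 : ∀ i, i < 79242 → P i := stepQ 79241 Q79241 (allL N79241 (tt N78708 (iv1 F311542)) (tt N45403 (iv0 D160594)) (tt N81195 (iv2 F342672)) (tt N75159 F428694) (tt N80823 F342671) (tt N48511 F346570) (tt N65164 (iv6 F342673)) (tt N81428 (iv7 F342674)))
theorem Q79243 : ∀ i, i < 79243 → P i := stepQ 79242 Q79242 (allL N79242 (tt N45403 (iv1 D160595)) (tt N78708 (iv0 F311541)) (tt N81428 (iv2 F342677)) (tt N110770 (iv3 F473111)) (tt N80890 F342678) (tt N48510 (iv5 F344810)) (tt N104762 (iv6 F447154)) (tt N81195 F342679))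
theorem Q79244 : ∀ i, i < 79244 → P i := stepQ 79243 Q79243 (allL N79243 (tt N71122 (iv1 F346455)) (tt N71126 (iv0 F342682)) (tt N47547 F300996) (tt N81457 (iv3 F327869)) (tt N111439 D214681) (tt N45403 (iv5 D160596)) (tt N45404 F253682) (tt N81448 (iv7 F327865)))
theorem Q79245 : ∀ i, i < 79245 → P i := stepQ 79244 Q79244 (allL N79244 (tt N46210 (iv1 F253692)) (tt N45404 (iv0 D160603)) (tt N47543 F302328) (tt N111440 D214682) (tt N53405 (iv4 F356191)) (tt N69335 (iv5 F316628)) (tt N71484 (iv6 F362175)) (tt N47542 F302330))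
theorem Q79246 : ∀ i, i < 79246 → P i := stepQ 79245 Q79245 (allL N79245 (tt N55364 (iv1 F328697)) (tt N53681 (iv0 F328700)) (tt N47546 F302342) (tt N54654 F363857) (tt N45404 (iv4 D160605)) (tt N111441 D214683) (tt N111439 (iv6 F476370)) (tt N47544 F302343))
theorem Q79247 : ∀ i, i < 79247 → P i := stepQ 79246 Q79246 (allL N79246 (tt N46779 F298007) (tt N47599 F298008) (tt N47621 (iv2 F298060)) (tt N84647 F370014) (tt N82829 F353214) (tt N45405 (iv5 D160609)) (tt N82827 F353207) (tt N47620 F298009))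
theorem Q79248 : ∀ i, i < 79248 → P i := stepQ 79247 Q79247 (allL N79247 (tt N111442 D214684) (tt N111443 D214685) (tt N111444 D214686) (tt N45406 (iv3 D160610)) (tt N48304 F253701) (tt N111445 D214687) (tt N111446 D214688) (tt N78446 F253702))
theorem Q79249 : ∀ i, i < 79249 → P i := stepQ 79248 Q79248 (allL N79248 (tt N45417 F253706) (tt N45467 F253707) (tt N78488 F253703) (tt N111445 (iv3 F476400)) (tt N78447 F253705) (tt N45406 (iv5 D160611)) (tt N111447 D214689) (tt N78447 F253704))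
theorem Q79250 : ∀ i, i < 79250 → P i := stepQ 79249 Q79249 (allL N79249 (tt N45974 (iv1 F298084)) (tt N45973 F296968) (tt N45976 F296969) (tt N111446 (iv3 F476403)) (tt N45964 F296970) (tt N111448 D214690) (tt N45406 (iv6 D160612)) (tt N45962 F296971))
theorem Q79251 : ∀ i, i < 79251 → P i := stepQ 79250 Q79250 (allL N79250 (tt N79302 (iv1 F254005)) (tt N45407 (iv0 D160616)) (tt N79301 F370044) (tt N84651 F370042) (tt N111449 D214691) (tt N101574 F433432) (tt N111450 D214692) (tt N79300 (iv7 F370043)))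
theorem Q79252 : ∀ i, i < 79252 → P i := stepQ 79251 Q79251 (allL N79251 (tt N45407 (iv1 D160617)) (tt N79302 F254007) (tt N79300 (iv2 F370045)) (tt N111451 D214693) (tt N111383 (iv4 F476103)) (tt N111452 D214694) (tt N54844 F443836) (tt N79301 F370046))
theorem Q79253 : ∀ i, i < 79253 → P i := stepQ 79252 Q79252 (allL N79252 (tt N79301 (iv1 F254006)) (tt N79300 F254003) (tt N45407 (iv2 D160618)) (tt N79307 (iv3 F254017)) (tt N94886 F406244) (tt N88107 (iv5 F381809)) (tt N55443 (iv6 F331244)) (tt N79302 (iv7 F254004)))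
theorem Q79254 : ∀ i, i < 79254 → P i := stepQ 79253 Q79253 (allL N79253 (tt N101592 F433474) (tt N111453 D214695) (tt N88107 (iv2 F381808)) (tt N45408 F253720) (tt N111454 D214696) (tt N45407 (iv5 D160619)) (tt N88085 (iv6 F381740)) (tt N79303 (iv7 F254009)))
theorem Q79255 : ∀ i, i < 79255 → P i := stepQ 79254 Q79254 (allL N79254 (tt N90757 (iv1 F390744)) (tt N111455 D214697) (tt N79310 (iv2 F254020)) (tt N88085 (iv3 F381739)) (tt N79640 (iv4 F257579)) (tt N82827 (iv5 F353205)) (tt N45408 (iv6 D160620)) (tt N88108 (iv7 F381811)))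
theorem Q79256 : ∀ i, i < 79256 → P i := stepQ 79255 Q79255 (allL N79255 (tt N53062 F298386) (tt N46350 F253723) (tt N53065 (iv2 F296801)) (tt N64049 F253722) (tt N75762 (iv4 F304124)) (tt N45409 (iv5 D160621)) (tt N74832 F338175) (tt N53064 (iv7 F296799)))
theorem Q79257 : ∀ i, i < 79257 → P i := stepQ 79256 Q79256 (allL N79256 (tt N59876 (iv1 F350491)) (tt N57218 F350488) (tt N62665 F346886) (tt N45414 (iv3 D160638)) (tt N80229 (iv4 F296355)) (tt N94442 (iv5 F404485)) (tt N45416 F253749) (tt N62666 (iv7 F346885)))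
theorem Q79258 : ∀ i, i < 79258 → P i := stepQ 79257 Q79257 (allL N79257 (tt N101730 (iv1 F434069)) (tt N90592 F390190) (tt N78647 (iv2 F298041)) (tt N94442 (iv3 F404490)) (tt N80597 F356163) (tt N45414 (iv5 D160639)) (tt N94440 F404489) (tt N78648 (iv7 F356162)))
theorem Q79259 : ∀ i, i < 79259 → P i := stepQ 79258 Q79258 (allL N79258 (tt N45459 F253753) (tt N45464 F253754) (tt N78423 F253750) (tt N100674 (iv3 F429958)) (tt N78490 F253751) (tt N45415 (iv5 D160640)) (tt N111456 D214698) (tt N78490 F253752))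
theorem Q79260 : ∀ i, i < 79260 → P i := stepQ 79259 Q79259 (allL N79259 (tt N45416 (iv1 D160642)) (tt N80250 F262334) (tt N80248 F262327) (tt N66702 (iv3 F333998)) (tt N97052 F415227) (tt N84556 (iv5 F369686)) (tt N97483 (iv6 F417039)) (tt N80249 (iv7 F262326)))
theorem Q79261 : ∀ i, i < 79261 → P i := stepQ 79260 Q79260 (allL N79260 (tt N80249 (iv1 F262330)) (tt N80248 F262323) (tt N45416 (iv2 D160643)) (tt N80245 (iv3 F262309)) (tt N80421 (iv4 F267335)) (tt N111457 D214699) (tt N62665 (iv6 F346887)) (tt N80250 (iv7 F262332)))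
theorem Q79262 : ∀ i, i < 79262 → P i := stepQ 79261 Q79261 (allL N79261 (tt N111458 D214700) (tt N111459 D214701) (tt N111457 (iv2 F476440)) (tt N45417 F253755) (tt N95657 (iv4 F409025)) (tt N45416 (iv5 D160644)) (tt N94441 (iv6 F404486)) (tt N80251 (iv7 F262336)))
theorem Q79263 : ∀ i, i < 79263 → P i := stepQ 79262 Q79262 (allL N79262 (tt N111460 D214702) (tt N111461 D214703) (tt N80247 (iv2 F262320)) (tt N94441 F404487) (tt N79316 (iv4 F254050)) (tt N94440 (iv5 F404488)) (tt N45417 (iv6 D160645)) (tt N111462 D214704))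
theorem Q79264 : ∀ i, i < 79264 → P i := stepQ 79263 Q79263 (allL N79263 (tt N58647 F348468) (tt N48357 F348464) (tt N96873 F414374) (tt N45422 F253756) (tt N62902 (iv4 F353588)) (tt N58854 F348465) (tt N45420 (iv6 D160648)) (tt N80188 (iv7 F350705)))
theorem Q79265 : ∀ i, i < 79265 → P i := stepQ 79264 Q79264 (allL N79264 (tt N45440 (iv1 F253766)) (tt N45439 F253767) (tt N45442 F253763) (tt N80188 F350706) (tt N46435 F253764) (tt N80182 (iv5 F350703)) (tt N79281 (iv6 F253894)) (tt N45422 (iv7 D160656)))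
theorem Q79266 : ∀ i, i < 79266 → P i := stepQ 79265 Q79265 (allL N79265 (tt N80242 (iv1 F262305)) (tt N45426 (iv0 D160675)) (tt N80241 F414343) (tt N96865 F414339) (tt N111463 D214705) (tt N111464 D214706) (tt N96864 (iv6 F414341)) (tt N80240 (iv7 F414342)))
theorem Q79267 : ∀ i, i < 79267 → P i := stepQ 79266 Q79266 (allL N79266 (tt N45426 (iv1 D160676)) (tt N80242 F262307) (tt N80240 (iv2 F414344)) (tt N111465 D214707) (tt N102133 F435887) (tt N111466 D214708) (tt N102132 (iv6 F435888)) (tt N80241 F414345))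
theorem Q79268 : ∀ i, i < 79268 → P i := stepQ 79267 Q79267 (allL N79267 (tt N80241 (iv1 F262306)) (tt N80240 F262301) (tt N45426 (iv2 D160677)) (tt N45471 F253816) (tt N80205 (iv4 F262066)) (tt N111467 D214709) (tt N81024 F358243) (tt N80242 (iv7 F262304)))
theorem Q79269 : ∀ i, i < 79269 → P i := stepQ 79268 Q79268 (allL N79268 (tt N111468 D214710) (tt N87181 (iv0 F415602)) (tt N111467 (iv2 F476471)) (tt N45427 F253817) (tt N93903 (iv4 F402358)) (tt N45426 (iv5 D160678)) (tt N97131 (iv6 F415601)) (tt N79325 (iv7 F254108)))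
theorem Q79270 : ∀ i, i < 79270 → P i := stepQ 79269 Q79269 (allL N79269 (tt N111469 D214711) (tt N111470 D214712) (tt N45476 F253818) (tt N97131 (iv3 F415599)) (tt N46329 F253819) (tt N81026 F348747) (tt N45427 (iv6 D160679)) (tt N111471 D214713))
theorem Q79271 : ∀ i, i < 79271 → P i := stepQ 79270 Q79270 (allL N79270 (tt N75788 (iv1 F336428)) (tt N80288 F262583) (tt N75011 (iv2 F315401)) (tt N80881 F336005) (tt N77638 (iv4 F298233)) (tt N81363 F334608) (tt N78577 (iv6 F298188)) (tt N45429 (iv7 D160687)))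
theorem Q79272 : ∀ i, i < 79272 → P i := stepQ 79271 Q79271 (allL N79271 (tt N77375 (iv1 F345674)) (tt N55179 F253863) (tt N81698 (iv2 F276476)) (tt N53066 (iv3 F296808)) (tt N45433 (iv4 D160712)) (tt N68266 (iv5 F306828)) (tt N72693 (iv6 F345676)) (tt N46892 F298394))
theorem Q79273 : ∀ i, i < 79273 → P i := stepQ 79272 Q79272 (allL N79272 (tt N109101 (iv1 F465349)) (tt N109100 (iv0 F465342)) (tt N98072 (iv2 F419349)) (tt N45434 F253864) (tt N72693 (iv4 F319653)) (tt N111091 (iv5 F474617)) (tt N45433 (iv6 D160713)) (tt N108684 (iv7 F463540)))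
theorem Q79274 : ∀ i, i < 79274 → P i := stepQ 79273 Q79273 (allL N79273 (tt N46795 (iv1 F253871)) (tt N45434 (iv0 D160717)) (tt N46792 F301004) (tt N60101 F332155) (tt N78552 (iv4 F298225)) (tt N60100 (iv5 F332156)) (tt N109236 (iv6 F465917)) (tt N46793 F301005))
theorem Q79275 : ∀ i, i < 79275 → P i := stepQ 79274 Q79274 (allL N79274 (tt N45434 (iv1 D160718)) (tt N46795 F253866) (tt N46793 F301006) (tt N54191 F332153) (tt N78553 (iv4 F298230)) (tt N55174 (iv5 F352210)) (tt N109023 (iv6 F464983)) (tt N46792 F301007))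
theorem Q79276 : ∀ i, i < 79276 → P i := stepQ 79275 Q79275 (allL N79275 (tt N46793 (iv1 F253872)) (tt N46792 F253873) (tt N46795 F253869) (tt N108684 (iv3 F463538)) (tt N47447 F298397) (tt N111092 (iv5 F474624)) (tt N46898 F298398) (tt N45434 (iv7 D160720)))
theorem Q79277 : ∀ i, i < 79277 → P i := stepQ 79276 Q79276 (allL N79276 (tt N75499 F354259) (tt N101702 (iv0 F433955)) (tt N57399 (iv2 F327106)) (tt N45436 F253883) (tt N75636 F335863) (tt N68059 (iv5 F335862)) (tt N45435 (iv6 D160724)) (tt N103137 (iv7 F440245)))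
theorem Q79278 : ∀ i, i < 79278 → P i := stepQ 79277 Q79277 (allL N79277 (tt N47521 F323226) (tt N45436 (iv0 D160725)) (tt N80327 F342691) (tt N97095 (iv3 F415464)) (tt N47044 F342662) (tt N57394 F344841) (tt N80765 F352333) (tt N80328 F342690))
theorem Q79279 : ∀ i, i < 79279 → P i := stepQ 79278 Q79278 (allL N79278 (tt N45436 (iv1 D160726)) (tt N47521 F323224) (tt N80328 F342689) (tt N66982 (iv3 F353928)) (tt N47045 F342669) (tt N57393 F344860) (tt N101704 F433964) (tt N80327 (iv7 F342693)))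
theorem Q79280 : ∀ i, i < 79280 → P i := stepQ 79279 Q79279 (allL N79279 (tt N80328 (iv1 F263826)) (tt N80327 F263833) (tt N47521 F323220) (tt N103137 (iv3 F440242)) (tt N47520 F323221) (tt N81545 F354147) (tt N80326 (iv6 F263822)) (tt N45436 (iv7 D160728)))
theorem Q79281 : ∀ i, i < 79281 → P i := stepQ 79280 Q79280 (allL N79280 (tt N46435 (iv1 F253895)) (tt N45438 (iv0 D160730)) (tt N46432 F352167) (tt N61103 F359836) (tt N75388 (iv4 F350707)) (tt N84772 F370570) (tt N94107 (iv6 F403238)) (tt N46433 F352168))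
theorem Q79282 : ∀ i, i < 79282 → P i := stepQ 79281 Q79281 (allL N79281 (tt N46433 (iv1 F253896)) (tt N46432 F253897) (tt N46435 F253892) (tt N99634 (iv3 F425515)) (tt N45442 F253893) (tt N108286 (iv5 F461884)) (tt N79264 F253894) (tt N45438 (iv7 D160733)))
theorem Q79283 : ∀ i, i < 79283 → P i := stepQ 79282 Q79282 (allL N79282 (tt N89724 (iv1 F387321)) (tt N97630 (iv0 F417686)) (tt N101904 (iv2 F434889)) (tt N65840 F359846) (tt N58143 (iv4 F359844)) (tt N45439 (iv5 D160737)) (tt N111472 D214714) (tt N75213 F359845))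
theorem Q79284 : ∀ i, i < 79284 → P i := stepQ 79283 Q79283 (allL N79283 (tt N80912 F433967) (tt N88645 (iv0 F383690)) (tt N109856 (iv2 F468938)) (tt N75271 F361634) (tt N99633 (iv4 F425512)) (tt N81115 F366958) (tt N45439 (iv6 D160738)) (tt N75459 (iv7 F361635)))
theorem Q79285 : ∀ i, i < 79285 → P i := stepQ 79284 Q79284 (allL N79284 (tt N80761 (iv1 F347985)) (tt N80765 (iv0 F347984)) (tt N75329 F347981) (tt N79882 F347982) (tt N47470 F347983) (tt N79878 (iv5 F347986)) (tt N45440 (iv6 D160743)) (tt N111473 D214715))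
theorem Q79286 : ∀ i, i < 79286 → P i := stepQ 79285 Q79285 (allL N79285 (tt N45441 (iv1 D160745)) (tt N80182 F353656) (tt N75334 F353655) (tt N79834 F353657) (tt N72892 (iv4 F353654)) (tt N109006 (iv5 F464878)) (tt N79832 (iv6 F353658)) (tt N80991 (iv7 F355096)))
theorem Q79287 : ∀ i, i < 79287 → P i := stepQ 79286 Q79286 (allL N79286 (tt N75334 (iv1 F353595)) (tt N80991 F355097) (tt N80182 F353660) (tt N60482 F358899) (tt N81977 F358895) (tt N45442 F253901) (tt N80179 (iv6 F358879)) (tt N45441 (iv7 D160747)))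
theorem Q79288 : ∀ i, i < 79288 → P i := stepQ 79287 Q79287 (allL N79287 (tt N47130 F300898) (tt N47136 F300899) (tt N96526 (iv2 F412854)) (tt N111474 D214716) (tt N45444 (iv4 D160763)) (tt N101123 (iv5 F431789)) (tt N69684 (iv6 F360745)) (tt N96555 (iv7 F412968)))
theorem Q79289 : ∀ i, i < 79289 → P i := stepQ 79288 Q79288 (allL N79288 (tt N89747 F387410) (tt N96666 (iv0 F413366)) (tt N90641 (iv2 F390370)) (tt N71750 F360746) (tt N69684 F360744) (tt N71746 (iv5 F328244)) (tt N45444 (iv6 D160764)) (tt N71745 (iv7 F360747)))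
theorem Q79290 : ∀ i, i < 79290 → P i := stepQ 79289 Q79289 (allL N79289 (tt N90172 (iv1 F388772)) (tt N53557 (iv0 F253928)) (tt N90173 (iv2 F388776)) (tt N45446 (iv3 D160779)) (tt N64307 F253925) (tt N47294 F300634) (tt N78622 F253926) (tt N64303 F253927))
theorem Q79291 : ∀ i, i < 79291 → P i := stepQ 79290 Q79290 (allL N79290 (tt N69332 (iv1 F342112)) (tt N45447 (iv0 D160781)) (tt N69330 F347443) (tt N70087 (iv3 F342114)) (tt N105719 (iv4 F451405)) (tt N47282 F342124) (tt N70085 F344795) (tt N69331 (iv7 F347442)))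
theorem Q79292 : ∀ i, i < 79292 → P i := stepQ 79291 Q79291 (allL N79291 (tt N47113 F300918) (tt N47107 F300919) (tt N64436 (iv2 F318100)) (tt N64584 (iv3 F364318)) (tt N45448 (iv4 D160788)) (tt N96615 (iv5 F413187)) (tt N79135 F336020) (tt N81006 F300921))
theorem Q79293 : ∀ i, i < 79293 → P i := stepQ 79292 Q79292 (allL N79292 (tt N71712 F365841) (tt N71710 (iv0 F357680)) (tt N71708 F365886) (tt N45452 (iv3 D160810)) (tt N79536 F366962) (tt N111475 D214717) (tt N79863 (iv6 F366955)) (tt N71709 F365885))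
theorem Q79294 : ∀ i, i < 79294 → P i := stepQ 79293 Q79293 (allL N79293 (tt N47142 F300933) (tt N47141 F300934) (tt N81009 F300935) (tt N111475 (iv3 F476516)) (tt N96615 (iv4 F413186)) (tt N45452 (iv5 D160811)) (tt N46781 F365624) (tt N81008 F300936))
theorem Q79295 : ∀ i, i < 79295 → P i := stepQ 79294 Q79294 (allL N79294 (tt N95539 F408554) (tt N95601 (iv0 F408851)) (tt N71053 (iv2 F354538)) (tt N45454 (iv3 D160819)) (tt N65982 (iv4 F326405)) (tt N91958 F395132) (tt N59766 (iv6 F325608)) (tt N78663 F300938))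
theorem Q79296 : ∀ i, i < 79296 → P i := stepQ 79295 Q79295 (allL N79295 (tt N47139 F300939) (tt N47134 F346340) (tt N81604 F300941) (tt N91958 (iv3 F395130)) (tt N47297 F300942) (tt N45454 (iv5 D160820)) (tt N106751 (iv6 F455536)) (tt N78664 F300943))
theorem Q79297 : ∀ i, i < 79297 → P i := stepQ 79296 Q79296 (allL N79296 (tt N81018 (iv1 F362538)) (tt N45456 (iv0 D160831)) (tt N81017 (iv2 F362526)) (tt N79299 (iv3 F358416)) (tt N78629 (iv4 F358419)) (tt N55431 F358415) (tt N80060 (iv6 F358418)) (tt N81016 (iv7 F362537)))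
theorem Q79298 : ∀ i, i < 79298 → P i := stepQ 79297 Q79297 (allL N79297 (tt N45456 (iv1 D160832)) (tt N81018 F362531) (tt N81016 F362535) (tt N71703 F362533) (tt N102276 (iv4 F436505)) (tt N55430 (iv5 F362532)) (tt N96911 (iv6 F414570)) (tt N81017 F362534))
theorem Q79299 : ∀ i, i < 79299 → P i := stepQ 79298 Q79298 (allL N79298 (tt N81017 (iv1 F362527)) (tt N81016 F362540) (tt N45456 (iv2 D160833)) (tt N81024 (iv3 F358245)) (tt N45481 F253992) (tt N47147 F337359) (tt N45471 F253993) (tt N81018 F362528))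
theorem Q79300 : ∀ i, i < 79300 → P i := stepQ 79299 Q79299 (allL N79299 (tt N45457 (iv1 D160837)) (tt N80788 F300946) (tt N81019 F300947) (tt N79296 F358416) (tt N101124 (iv4 F431799)) (tt N47131 F300948) (tt N111357 (iv6 F475989)) (tt N81020 F300949))
theorem Q79301 : ∀ i, i < 79301 → P i := stepQ 79300 Q79300 (allL N79300 (tt N79252 (iv1 F254003)) (tt N45458 (iv0 D160842)) (tt N79251 F370045) (tt N81576 F276107) (tt N111476 D214718) (tt N111401 F476192) (tt N79843 (iv6 F414785)) (tt N79250 F370043))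
theorem Q79302 : ∀ i, i < 79302 → P i := stepQ 79301 Q79301 (allL N79301 (tt N45458 (iv1 D160843)) (tt N79252 F254006) (tt N79250 (iv2 F370044)) (tt N111477 D214719) (tt N101537 (iv4 F433289)) (tt N111478 D214720) (tt N101959 (iv6 F435094)) (tt N79251 (iv7 F370046)))
theorem Q79303 : ∀ i, i < 79303 → P i := stepQ 79302 Q79302 (allL N79302 (tt N79251 (iv1 F254007)) (tt N79250 F254005) (tt N45458 (iv2 D160844)) (tt N79633 (iv3 F257538)) (tt N79805 (iv4 F258413)) (tt N111479 D214721) (tt N73688 (iv6 F362620)) (tt N79252 F254004))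
theorem Q79304 : ∀ i, i < 79304 → P i := stepQ 79303 Q79303 (allL N79303 (tt N111418 F476262) (tt N111480 D214722) (tt N111479 (iv2 F476531)) (tt N45459 F254008) (tt N111481 D214723) (tt N45458 (iv5 D160845)) (tt N110956 F473961) (tt N79253 F254009))
theorem Q79305 : ∀ i, i < 79305 → P i := stepQ 79304 Q79304 (allL N79304 (tt N111482 D214724) (tt N109386 (iv0 F466704)) (tt N73688 F344506) (tt N45460 F254010) (tt N57993 (iv4 F326452)) (tt N73651 (iv5 F344505)) (tt N45458 (iv6 D160846)) (tt N73686 F344502))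
theorem Q79306 : ∀ i, i < 79306 → P i := stepQ 79305 Q79305 (allL N79305 (tt N54555 F369053) (tt N111483 D214725) (tt N79635 (iv2 F257546)) (tt N110956 (iv3 F473957)) (tt N51871 (iv4 F365877)) (tt N90534 (iv5 F389993)) (tt N45459 (iv6 D160847)) (tt N87993 (iv7 F381419)))
theorem Q79307 : ∀ i, i < 79307 → P i := stepQ 79306 Q79306 (allL N79306 (tt N45463 (iv1 D160854)) (tt N79633 F257542) (tt N79631 (iv2 F365837)) (tt N79655 (iv3 F281152)) (tt N92014 (iv4 F395361)) (tt N111484 D214726) (tt N49351 F364554) (tt N79632 (iv7 F365839)))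
theorem Q79308 : ∀ i, i < 79308 → P i := stepQ 79307 Q79307 (allL N79307 (tt N79632 (iv1 F257541)) (tt N79631 F257537) (tt N45463 (iv2 D160855)) (tt N79252 F254017) (tt N87776 (iv4 F380457)) (tt N111485 D214727) (tt N55168 (iv6 F353177)) (tt N79633 (iv7 F257539)))
theorem Q79309 : ∀ i, i < 79309 → P i := stepQ 79308 Q79308 (allL N79308 (tt N95663 F409040) (tt N84556 (iv0 F369687)) (tt N111485 (iv2 F476560)) (tt N45464 F254018) (tt N95430 (iv4 F408163)) (tt N45463 (iv5 D160856)) (tt N52538 F353179) (tt N79634 (iv7 F257544)))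
theorem Q79310 : ∀ i, i < 79310 → P i := stepQ 79309 Q79309 (allL N79309 (tt N55164 F353182) (tt N55170 F353181) (tt N55168 F353175) (tt N45465 F254019) (tt N87695 (iv4 F380155)) (tt N52539 (iv5 F353176)) (tt N45463 (iv6 D160857)) (tt N55167 (iv7 F353192)))
theorem Q79311 : ∀ i, i < 79311 → P i := stepQ 79310 Q79310 (allL N79310 (tt N89945 (iv1 F388071)) (tt N111486 D214728) (tt N79254 F254020) (tt N52538 (iv3 F353203)) (tt N79324 (iv4 F254104)) (tt N52537 F353204) (tt N45464 (iv6 D160858)) (tt N111487 D214729))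
theorem Q79312 : ∀ i, i < 79312 → P i := stepQ 79311 Q79311 (allL N79311 (tt N80245 (iv1 F262312)) (tt N45466 (iv0 D160864)) (tt N80244 F394877) (tt N55487 (iv3 F358095)) (tt N101894 F434858) (tt N111418 F476261) (tt N55486 F358421) (tt N80243 F394875))
theorem Q79313 : ∀ i, i < 79313 → P i := stepQ 79312 Q79312 (allL N79312 (tt N45466 (iv1 D160865)) (tt N80245 F262314) (tt N80243 (iv2 F394876)) (tt N97678 F429396) (tt N100540 (iv4 F429393)) (tt N111480 (iv5 F476538)) (tt N58609 F408560) (tt N80244 (iv7 F394879)))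
theorem Q79314 : ∀ i, i < 79314 → P i := stepQ 79313 Q79313 (allL N79313 (tt N80244 (iv1 F262313)) (tt N80243 F262308) (tt N45466 (iv2 D160866)) (tt N80250 (iv3 F262331)) (tt N64980 F254032) (tt N111488 D214730) (tt N88175 F382026) (tt N80245 (iv7 F262311)))
theorem Q79315 : ∀ i, i < 79315 → P i := stepQ 79314 Q79314 (allL N79314 (tt N101574 F433433) (tt N111452 (iv0 F476425)) (tt N111488 (iv2 F476575)) (tt N45467 F254033) (tt N111489 D214731) (tt N45466 (iv5 D160867)) (tt N88100 (iv6 F474457)) (tt N80246 (iv7 F262316)))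
theorem Q79316 : ∀ i, i < 79316 → P i := stepQ 79315 Q79315 (allL N79315 (tt N111490 D214732) (tt N111491 D214733) (tt N80252 (iv2 F262338)) (tt N88100 F474456) (tt N78494 F254036) (tt N96955 (iv5 F414764)) (tt N45467 (iv6 D160869)) (tt N111492 D214734))
theorem Q79317 : ∀ i, i < 79317 → P i := stepQ 79316 Q79316 (allL N79316 (tt N88034 F381541) (tt N88041 F381557) (tt N80258 (iv2 F262384)) (tt N58651 (iv3 F365914)) (tt N79262 F254050) (tt N58645 F365915) (tt N45468 (iv6 D160888)) (tt N88039 (iv7 F381551)))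
theorem Q79318 : ∀ i, i < 79318 → P i := stepQ 79317 Q79317 (allL N79317 (tt N91871 F394774) (tt N111493 D214735) (tt N111016 (iv2 F474267)) (tt N45469 (iv3 D160894)) (tt N46714 F254054) (tt N111494 D214736) (tt N87793 F380528) (tt N80259 (iv7 F262392)))
theorem Q79319 : ∀ i, i < 79319 → P i := stepQ 79318 Q79318 (allL N79318 (tt N100719 (iv1 F430173)) (tt N45801 F254312) (tt N80263 (iv2 F262406)) (tt N111494 (iv3 F476594)) (tt N111495 D214737) (tt N45469 (iv5 D160896)) (tt N51822 F348741) (tt N80260 (iv7 F262399)))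
theorem Q79320 : ∀ i, i < 79320 → P i := stepQ 79319 Q79319 (allL N79319 (tt N95593 F408813) (tt N58653 (iv0 F358156)) (tt N111496 D214738) (tt N45470 (iv3 D160899)) (tt N65436 F254097) (tt N111497 D214739) (tt N96879 F414413) (tt N80262 (iv7 F262405)))
theorem Q79321 : ∀ i, i < 79321 → P i := stepQ 79320 Q79320 (allL N79320 (tt N45801 F254098) (tt N100719 (iv0 F430172)) (tt N80260 (iv2 F262398)) (tt N111497 (iv3 F476605)) (tt N111498 D214740) (tt N45470 (iv5 D160900)) (tt N111499 D214741) (tt N80263 (iv7 F262407)))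
theorem Q79322 : ∀ i, i < 79322 → P i := stepQ 79321 Q79321 (allL N79321 (tt N45750 F353254) (tt N75418 F353255) (tt N80261 (iv2 F262402)) (tt N96879 (iv3 F414412)) (tt N65433 F254099) (tt N111500 D214742) (tt N45470 (iv6 D160901)) (tt N81793 (iv7 F353259)))
theorem Q79323 : ∀ i, i < 79323 → P i := stepQ 79322 Q79322 (allL N79322 (tt N79643 (iv1 F257589)) (tt N52474 (iv0 F344659)) (tt N45472 F254100) (tt N111467 (iv3 F476472)) (tt N49949 F348736) (tt N45471 (iv5 D160902)) (tt N49948 (iv6 F348738)) (tt N80264 (iv7 F262413)))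
theorem Q79324 : ∀ i, i < 79324 → P i := stepQ 79323 Q79323 (allL N79323 (tt N80264 (iv1 F262415)) (tt N45472 (iv0 D160903)) (tt N79643 (iv2 F257590)) (tt N111501 D214743) (tt N88051 (iv4 F381592)) (tt N64123 F257591) (tt N87240 (iv6 F378857)) (tt N52474 (iv7 F344662)))
theorem Q79325 : ∀ i, i < 79325 → P i := stepQ 79324 Q79324 (allL N79324 (tt N54534 F365779) (tt N111502 D214744) (tt N79640 (iv2 F257578)) (tt N58452 F365778) (tt N79310 F254104) (tt N58445 (iv5 F365777)) (tt N45473 (iv6 D160908)) (tt N111503 D214745))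
theorem Q79326 : ∀ i, i < 79326 → P i := stepQ 79325 Q79325 (allL N79325 (tt N111309 F475751) (tt N104899 F447851) (tt N111504 D214746) (tt N45475 (iv3 D160911)) (tt N84543 (iv4 F369655)) (tt N46313 F254107) (tt N84542 F369653) (tt N79268 F254108))
theorem Q79327 : ∀ i, i < 79327 → P i := stepQ 79326 Q79326 (allL N79326 (tt N111505 D214747) (tt N111506 D214748) (tt N46329 F254109) (tt N84542 (iv3 F369652)) (tt N45476 F254110) (tt N81182 F366948) (tt N45475 (iv6 D160912)) (tt N111507 D214749))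
theorem Q79328 : ∀ i, i < 79328 → P i := stepQ 79327 Q79327 (allL N79327 (tt N111471 (iv1 F476495)) (tt N45476 (iv0 D160913)) (tt N111469 F476482) (tt N111508 D214750) (tt N111509 D214751) (tt N91843 (iv5 F459628)) (tt N111510 D214752) (tt N111470 (iv7 F476485)))
theorem Q79329 : ∀ i, i < 79329 → P i := stepQ 79328 Q79328 (allL N79328 (tt N45476 (iv1 D160914)) (tt N111471 F476494) (tt N111470 (iv2 F476488)) (tt N87281 (iv3 F378969)) (tt N111511 D214753) (tt N91844 (iv5 F394650)) (tt N87277 F378970) (tt N111469 F476483))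
theorem Q79330 : ∀ i, i < 79330 → P i := stepQ 79329 Q79329 (allL N79329 (tt N111470 (iv1 F476484)) (tt N111469 F476489) (tt N111471 (iv2 F476490)) (tt N49951 F348744) (tt N111507 (iv4 F476644)) (tt N55467 (iv5 F348745)) (tt N80269 (iv6 F262418)) (tt N45476 (iv7 D160915)))
theorem Q79331 : ∀ i, i < 79331 → P i := stepQ 79330 Q79330 (allL N79330 (tt N80196 (iv1 F330742)) (tt N80189 (iv0 F350679)) (tt N45477 (iv2 D160926)) (tt N58872 (iv3 F317712)) (tt N79512 F360255) (tt N63554 F350673) (tt N79512 (iv6 F257073)) (tt N63553 (iv7 F318808)))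
theorem Q79332 : ∀ i, i < 79332 → P i := stepQ 79331 Q79331 (allL N79331 (tt N45480 (iv1 F254161)) (tt N45479 (iv0 D160946)) (tt N45483 (iv2 F254159)) (tt N80238 (iv3 F262286)) (tt N81018 (iv4 F362529)) (tt N81262 F341916) (tt N66883 (iv6 F333987)) (tt N45481 F254160))
theorem Q79333 : ∀ i, i < 79333 → P i := stepQ 79332 Q79332 (allL N79332 (tt N80784 F389008) (tt N66034 (iv0 F364246)) (tt N81003 F359283) (tt N45479 (iv3 D160948)) (tt N91884 F394824) (tt N53557 (iv5 F364245)) (tt N80063 F336531) (tt N81004 F359280))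
theorem Q79334 : ∀ i, i < 79334 → P i := stepQ 79333 Q79333 (allL N79333 (tt N95541 F408565) (tt N91906 (iv0 F394904)) (tt N81618 (iv2 F364240)) (tt N91885 (iv3 F394828)) (tt N45479 (iv4 D160949)) (tt N55450 F364241) (tt N80064 F336532) (tt N91967 (iv7 F395172)))
theorem Q79335 : ∀ i, i < 79335 → P i := stepQ 79334 Q79334 (allL N79334 (tt N45481 F336546) (tt N45483 F336547) (tt N45480 F254163) (tt N81004 (iv3 F353246)) (tt N91967 (iv4 F395170)) (tt N69303 F336548) (tt N75413 (iv6 F336551)) (tt N45479 (iv7 D160952)))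
theorem Q79336 : ∀ i, i < 79336 → P i := stepQ 79335 Q79335 (allL N79335 (tt N99611 F425413) (tt N81207 F425414) (tt N100706 (iv2 F430107)) (tt N45480 (iv3 D160953)) (tt N109262 (iv4 F466053)) (tt N104256 (iv5 F444971)) (tt N106099 (iv6 F453106)) (tt N100707 (iv7 F430110)))
theorem Q79337 : ∀ i, i < 79337 → P i := stepQ 79336 Q79336 (allL N79336 (tt N109297 (iv1 F466257)) (tt N80631 (iv0 F334244)) (tt N45482 F254166) (tt N79531 (iv3 F316581)) (tt N80769 F334246) (tt N45481 (iv5 D160959)) (tt N79752 (iv6 F257997)) (tt N81262 (iv7 F341915)))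
theorem Q79338 : ∀ i, i < 79338 → P i := stepQ 79337 Q79337 (allL N79337 (tt N81262 (iv1 F345801)) (tt N45482 (iv0 D160960)) (tt N109297 (iv2 F466251)) (tt N80634 F345800) (tt N54346 (iv4 F345802)) (tt N79525 F336620) (tt N80848 (iv6 F345794)) (tt N80631 (iv7 F345798)))
theorem Q79339 : ∀ i, i < 79339 → P i := stepQ 79338 Q79338 (allL N79338 (tt N45482 (iv1 D160961)) (tt N81262 (iv0 F341914)) (tt N80631 F341909) (tt N68549 F341910) (tt N46883 F341911) (tt N68543 F341912) (tt N46875 F341913) (tt N109297 (iv7 F466255)))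
theorem Q79340 : ∀ i, i < 79340 → P i := stepQ 79339 Q79339 (allL N79339 (tt N45613 F318081) (tt N80768 F318082) (tt N80769 F318083) (tt N75838 F344046) (tt N45482 (iv4 D160962)) (tt N111512 D214754) (tt N69325 (iv6 F346990)) (tt N80770 F318084))
theorem Q79341 : ∀ i, i < 79341 → P i := stepQ 79340 Q79340 (allL N79340 (tt N80631 (iv1 F318965)) (tt N109297 (iv0 F466256)) (tt N81262 F314130) (tt N45484 F254167) (tt N80770 F314131) (tt N45483 F254168) (tt N66963 F334222) (tt N45482 (iv7 D160963)))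
theorem Q79342 : ∀ i, i < 79342 → P i := stepQ 79341 Q79341 (allL N79341 (tt N45485 (iv1 D160971)) (tt N47652 F254181) (tt N48340 F256536) (tt N45637 (iv3 F254178)) (tt N59921 (iv4 F326846)) (tt N78415 (iv5 F256538)) (tt N66034 (iv6 F358668)) (tt N66045 (iv7 F326802)))
theorem Q79343 : ∀ i, i < 79343 → P i := stepQ 79342 Q79342 (allL N79342 (tt N45486 (iv1 D160975)) (tt N45488 F254191) (tt N66703 (iv2 F334002)) (tt N80249 F262324) (tt N79230 F254409) (tt N84508 (iv5 F369564)) (tt N91906 (iv6 F394902)) (tt N66702 (iv7 F334000)))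
theorem Q79344 : ∀ i, i < 79344 → P i := stepQ 79343 Q79343 (allL N79343 (tt N55487 (iv1 F358094)) (tt N78504 (iv0 F254194)) (tt N88185 (iv2 F382076)) (tt N45486 (iv3 D160976)) (tt N47655 F254192) (tt N88132 (iv5 F381875)) (tt N51982 (iv6 F358423)) (tt N80270 (iv7 F262428)))
theorem Q79345 : ∀ i, i < 79345 → P i := stepQ 79344 Q79344 (allL N79344 (tt N111513 D214755) (tt N111514 D214756) (tt N66704 (iv2 F334007)) (tt N88132 (iv3 F381874)) (tt N111515 D214757) (tt N45486 (iv5 D160977)) (tt N51928 F364600) (tt N80271 (iv7 F262430)))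
theorem Q79346 : ∀ i, i < 79346 → P i := stepQ 79345 Q79345 (allL N79345 (tt N45911 F254302) (tt N45900 F254203) (tt N64140 F254202) (tt N111516 D214758) (tt N45487 (iv4 D160986)) (tt N80283 (iv5 F262494)) (tt N111517 D214759) (tt N64139 (iv7 F254204)))
theorem Q79347 : ∀ i, i < 79347 → P i := stepQ 79346 Q79346 (allL N79346 (tt N80979 F359604) (tt N79775 F359605) (tt N81800 (iv2 F359273)) (tt N45489 F254493) (tt N111517 (iv4 F476684)) (tt N60367 F336630) (tt N45487 (iv6 D160987)) (tt N75297 (iv7 F359276)))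
theorem Q79348 : ∀ i, i < 79348 → P i := stepQ 79347 Q79347 (allL N79347 (tt N72095 (iv1 F366247)) (tt N78489 (iv0 F254494)) (tt N100673 (iv2 F429956)) (tt N45488 (iv3 D160988)) (tt N111516 (iv4 F476676)) (tt N111518 D214760) (tt N78649 F364271) (tt N66696 (iv7 F334006)))
theorem Q79349 : ∀ i, i < 79349 → P i := stepQ 79348 Q79348 (allL N79348 (tt N111514 (iv1 F476664)) (tt N111513 F476660) (tt N80271 (iv2 F262429)) (tt N111518 (iv3 F476689)) (tt N111519 D214761) (tt N45488 (iv5 D160989)) (tt N111520 D214762) (tt N66704 (iv7 F334008)))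
theorem Q79350 : ∀ i, i < 79350 → P i := stepQ 79349 Q79349 (allL N79349 (tt N55457 (iv1 F359603)) (tt N59870 F359602) (tt N75417 (iv2 F334023)) (tt N78649 (iv3 F364270)) (tt N45489 F254495) (tt N111521 D214763) (tt N45488 (iv6 D160990)) (tt N66705 F364598))
theorem Q79351 : ∀ i, i < 79351 → P i := stepQ 79350 Q79350 (allL N79350 (tt N45712 F336617) (tt N75420 F336618) (tt N75422 (iv2 F334025)) (tt N60367 (iv3 F336629)) (tt N83279 (iv4 F388856)) (tt N45489 (iv5 D160993)) (tt N60366 F336627) (tt N75303 F336619))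
theorem Q79352 : ∀ i, i < 79352 → P i := stepQ 79351 Q79351 (allL N79351 (tt N56228 F348401) (tt N93249 (iv0 F400115)) (tt N65942 F364787) (tt N45490 (iv3 D160995)) (tt N48405 F254496) (tt N87768 (iv5 F380440)) (tt N47756 (iv6 F299387)) (tt N52351 F254497))
theorem Q79353 : ∀ i, i < 79353 → P i := stepQ 79352 Q79352 (allL N79352 (tt N80210 (iv1 F262095)) (tt N45491 (iv0 D160996)) (tt N80209 F360300) (tt N65974 (iv3 F365640)) (tt N71597 (iv4 F360299)) (tt N51538 (iv5 F293808)) (tt N71603 F360301) (tt N80208 F360302))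
theorem Q79354 : ∀ i, i < 79354 → P i := stepQ 79353 Q79353 (allL N79353 (tt N45491 (iv1 D160997)) (tt N80210 F262097) (tt N80208 (iv2 F360325)) (tt N104354 (iv3 F445394)) (tt N111064 (iv4 F474487)) (tt N88300 (iv5 F382499)) (tt N104909 (iv6 F447888)) (tt N80209 (iv7 F360326)))
theorem Q79355 : ∀ i, i < 79355 → P i := stepQ 79354 Q79354 (allL N79354 (tt N80209 (iv1 F262096)) (tt N80208 F262090) (tt N45491 (iv2 D160998)) (tt N80213 (iv3 F262132)) (tt N78662 F254499) (tt N83604 (iv5 F358223)) (tt N82536 (iv6 F282143)) (tt N80210 (iv7 F262094)))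
theorem Q79356 : ∀ i, i < 79356 → P i := stepQ 79355 Q79355 (allL N79355 (tt N51556 F343689) (tt N91223 (iv0 F392332)) (tt N83604 F358225) (tt N45492 F254500) (tt N51401 (iv4 F343690)) (tt N45491 (iv5 D160999)) (tt N83603 (iv6 F358244)) (tt N52663 (iv7 F293083)))
theorem Q79357 : ∀ i, i < 79357 → P i := stepQ 79356 Q79356 (allL N79356 (tt N79737 F324245) (tt N79736 F324246) (tt N46294 (iv2 F325398)) (tt N83603 F324247) (tt N49212 F254509) (tt N46293 F324248) (tt N45492 (iv6 D161002)) (tt N79734 F324249))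
theorem Q79358 : ∀ i, i < 79358 → P i := stepQ 79357 Q79357 (allL N79357 (tt N102064 (iv1 F435571)) (tt N102063 (iv0 F435566)) (tt N111522 D214764) (tt N45493 (iv3 D161003)) (tt N45496 F254510) (tt N100831 (iv5 F430684)) (tt N82543 (iv6 F282171)) (tt N78436 F254511))
theorem Q79359 : ∀ i, i < 79359 → P i := stepQ 79358 Q79358 (allL N79358 (tt N82572 (iv1 F282840)) (tt N45496 (iv0 D161007)) (tt N82571 (iv2 F282835)) (tt N103323 (iv3 F441137)) (tt N111038 (iv4 F474376)) (tt N83606 F382700) (tt N103322 (iv6 F441136)) (tt N82570 F282836))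
theorem Q79360 : ∀ i, i < 79360 → P i := stepQ 79359 Q79359 (allL N79359 (tt N45496 (iv1 D161008)) (tt N82572 F282841) (tt N82570 F282834) (tt N80286 (iv3 F262507)) (tt N82414 (iv4 F280772)) (tt N83605 F382705) (tt N86943 (iv6 F380471)) (tt N82571 (iv7 F282833)))
theorem Q79361 : ∀ i, i < 79361 → P i := stepQ 79360 Q79360 (allL N79360 (tt N82571 (iv1 F282837)) (tt N82570 F282830) (tt N45496 (iv2 D161009)) (tt N82569 (iv3 F282820)) (tt N111522 (iv4 F476711)) (tt N111523 D214765) (tt N82549 (iv6 F282285)) (tt N82572 (iv7 F282839)))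
theorem Q79362 : ∀ i, i < 79362 → P i := stepQ 79361 Q79361 (allL N79361 (tt N111524 D214766) (tt N111525 D214767) (tt N111523 (iv2 F476717)) (tt N45497 F254518) (tt N111526 D214768) (tt N45496 (iv5 D161010)) (tt N100711 (iv6 F430133)) (tt N52636 (iv7 F294052)))
theorem Q79363 : ∀ i, i < 79363 → P i := stepQ 79362 Q79362 (allL N79362 (tt N81579 F341812) (tt N88375 (iv0 F382792)) (tt N52651 (iv2 F294065)) (tt N100711 (iv3 F430132)) (tt N49996 F254524) (tt N82553 (iv5 F282296)) (tt N45497 (iv6 D161012)) (tt N111527 D214769))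
theorem Q79364 : ∀ i, i < 79364 → P i := stepQ 79363 Q79363 (allL N79363 (tt N63206 (iv1 F305794)) (tt N63216 F254536) (tt N63223 (iv2 F305812)) (tt N48976 F254532) (tt N45498 (iv4 D161015)) (tt N63852 F254533) (tt N80741 F351648) (tt N63222 (iv7 F305810)))
theorem Q79365 : ∀ i, i < 79365 → P i := stepQ 79364 Q79364 (allL N79364 (tt N46561 F340794) (tt N46623 F340795) (tt N46622 F312084) (tt N83168 (iv3 F286165)) (tt N80741 F340796) (tt N109300 (iv5 F466271)) (tt N45498 (iv6 D161016)) (tt N46591 F317488))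
theorem Q79366 : ∀ i, i < 79366 → P i := stepQ 79365 Q79365 (allL N79365 (tt N52350 F254667) (tt N47754 (iv0 F299384)) (tt N45881 F254664) (tt N81552 (iv3 F276055)) (tt N45500 (iv4 D161099)) (tt N67963 (iv5 F341973)) (tt N51608 (iv6 F299569)) (tt N45878 F254666))
theorem Q79367 : ∀ i, i < 79367 → P i := stepQ 79366 Q79366 (allL N79366 (tt N45510 (iv1 D161165)) (tt N68541 (iv0 F314735)) (tt N76731 (iv2 F254841)) (tt N63578 (iv3 F254842)) (tt N68035 (iv4 F351481)) (tt N103153 (iv5 F440324)) (tt N79725 (iv6 F342749)) (tt N63572 F254840))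
theorem Q79368 : ∀ i, i < 79368 → P i := stepQ 79367 Q79367 (allL N79367 (tt N63572 (iv1 F254847)) (tt N76731 F254846) (tt N45510 (iv2 D161166)) (tt N80303 (iv3 F263207)) (tt N105345 (iv4 F449797)) (tt N91395 (iv5 F392973)) (tt N104804 (iv6 F447366)) (tt N68541 (iv7 F314738)))
theorem Q79369 : ∀ i, i < 79369 → P i := stepQ 79368 Q79368 (allL N79368 (tt N104801 (iv1 F447351)) (tt N104800 (iv0 F447345)) (tt N104804 (iv2 F447363)) (tt N45511 F254849) (tt N80379 (iv4 F264150)) (tt N75000 F339821) (tt N45510 (iv6 D161168)) (tt N68538 (iv7 F314728)))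
theorem Q79370 : ∀ i, i < 79370 → P i := stepQ 79369 Q79369 (allL N79369 (tt N90266 (iv1 F389163)) (tt N101211 (iv0 F432222)) (tt N91709 (iv2 F394127)) (tt N45512 (iv3 D161173)) (tt N48927 F332007) (tt N45541 F302720) (tt N81234 F302721) (tt N73200 (iv7 F325902)))
theorem Q79371 : ∀ i, i < 79371 → P i := stepQ 79370 Q79370 (allL N79370 (tt N76730 (iv1 F345793)) (tt N103153 F440326) (tt N103152 F440322) (tt N45513 (iv3 D161177)) (tt N111528 D214770) (tt N45613 F303249) (tt N91378 (iv6 F392913)) (tt N73208 (iv7 F324976)))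
theorem Q79372 : ∀ i, i < 79372 → P i := stepQ 79371 Q79371 (allL N79371 (tt N88914 (iv1 F384522)) (tt N88903 (iv0 F384494)) (tt N67451 (iv2 F333034)) (tt N45991 F320977) (tt N45519 (iv4 D161298)) (tt N97719 (iv5 F418053)) (tt N79221 F320978) (tt N79706 F320979))
theorem Q79373 : ∀ i, i < 79373 → P i := stepQ 79372 Q79372 (allL N79372 (tt N68539 (iv1 F314730)) (tt N45521 (iv0 D161311)) (tt N79725 (iv2 F342747)) (tt N46096 F255131) (tt N100145 (iv4 F427685)) (tt N79553 (iv5 F342743)) (tt N76731 (iv6 F255132)) (tt N46091 (iv7 F255133)))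
theorem Q79374 : ∀ i, i < 79374 → P i := stepQ 79373 Q79373 (allL N79373 (tt N80120 F342758) (tt N96963 (iv0 F414815)) (tt N75410 F348427) (tt N45522 F255135) (tt N102402 (iv4 F437083)) (tt N45521 (iv5 D161314)) (tt N45935 F323068) (tt N79398 (iv7 F303679)))
theorem Q79375 : ∀ i, i < 79375 → P i := stepQ 79374 Q79374 (allL N79374 (tt N76782 F262848) (tt N110535 (iv0 F472041)) (tt N104803 (iv2 F447358)) (tt N45523 F255136) (tt N80337 (iv4 F263844)) (tt N66846 (iv5 F339315)) (tt N45521 (iv6 D161315)) (tt N80304 (iv7 F304801)))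
theorem Q79376 : ∀ i, i < 79376 → P i := stepQ 79375 Q79375 (allL N79375 (tt N45524 (iv1 D161331)) (tt N76726 F255152) (tt N80291 (iv2 F303236)) (tt N84147 (iv3 F368329)) (tt N57483 (iv4 F312660)) (tt N45988 F323617) (tt N74738 F345358) (tt N63220 F304808))
theorem Q79377 : ∀ i, i < 79377 → P i := stepQ 79376 Q79376 (allL N79376 (tt N48280 F345373) (tt N65310 F345378) (tt N77589 (iv2 F345372)) (tt N45525 F255153) (tt N91994 (iv4 F395291)) (tt N45524 (iv5 D161333)) (tt N59945 F323212) (tt N77588 (iv7 F303132)))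
theorem Q79378 : ∀ i, i < 79378 → P i := stepQ 79377 Q79377 (allL N79377 (tt N46839 F311735) (tt N68449 (iv0 F342027)) (tt N68484 (iv2 F333009)) (tt N45527 F255170) (tt N54288 F311736) (tt N80961 F311737) (tt N45526 (iv6 D161345)) (tt N54433 F311738))
theorem Q79379 : ∀ i, i < 79379 → P i := stepQ 79378 Q79378 (allL N79378 (tt N102661 (iv1 F438113)) (tt N70534 (iv0 F353997)) (tt N102647 (iv2 F438033)) (tt N45532 F255173) (tt N111529 D214771) (tt N45528 (iv5 D161353)) (tt N45530 F255174) (tt N102660 (iv7 F438104)))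
theorem Q79380 : ∀ i, i < 79380 → P i := stepQ 79379 Q79379 (allL N79379 (tt N110510 F471917) (tt N46831 F350967) (tt N76027 F331989) (tt N45529 (iv3 D161356)) (tt N66971 (iv4 F314799)) (tt N77326 (iv5 F331986)) (tt N101815 (iv6 F434476)) (tt N83191 F331991))
theorem Q79381 : ∀ i, i < 79381 → P i := stepQ 79380 Q79380 (allL N79380 (tt N54137 F350954) (tt N54133 (iv0 F350955)) (tt N54134 F350951) (tt N67041 (iv3 F335261)) (tt N45529 (iv4 D161357)) (tt N109465 (iv5 F467100)) (tt N82318 (iv6 F350952)) (tt N54135 (iv7 F332042)))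
theorem Q79382 : ∀ i, i < 79382 → P i := stepQ 79381 Q79381 (allL N79381 (tt N76748 F364286) (tt N45530 (iv0 D161365)) (tt N76750 (iv2 F364283)) (tt N77270 F364282) (tt N111530 D214772) (tt N63215 (iv5 F364284)) (tt N79585 (iv6 F364287)) (tt N63214 (iv7 F364285)))
theorem Q79383 : ∀ i, i < 79383 → P i := stepQ 79382 Q79382 (allL N79382 (tt N90471 (iv1 F389781)) (tt N76739 (iv0 F362180)) (tt N110509 (iv2 F471904)) (tt N73190 F366241) (tt N45530 (iv4 D161367)) (tt N108774 (iv5 F463868)) (tt N111529 (iv6 F476760)) (tt N100499 (iv7 F429204)))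
theorem Q79384 : ∀ i, i < 79384 → P i := stepQ 79383 Q79383 (allL N79383 (tt N45602 (iv1 F255193)) (tt N45534 (iv0 D161383)) (tt N45601 F333715) (tt N46894 F333711) (tt N77771 F333712) (tt N110574 (iv5 F472197)) (tt N45570 F333713) (tt N45579 F333716))
theorem Q79385 : ∀ i, i < 79385 → P i := stepQ 79384 Q79384 (allL N79384 (tt N45601 (iv1 F255199)) (tt N45579 F316556) (tt N45534 (iv2 D161385)) (tt N45598 F255194) (tt N47739 F255195) (tt N62139 F350924) (tt N68469 F337665) (tt N45602 F255196))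
theorem Q79386 : ∀ i, i < 79386 → P i := stepQ 79385 Q79385 (allL N79385 (tt N45535 (iv1 D161393)) (tt N45598 F255221) (tt N45597 F356998) (tt N110510 (iv3 F471912)) (tt N74531 F356999) (tt N80306 F357000) (tt N74530 F357001) (tt N45566 F357002))
theorem Q79387 : ∀ i, i < 79387 → P i := stepQ 79386 Q79386 (allL N79386 (tt N45566 F311870) (tt N45597 F255220) (tt N45535 (iv2 D161394)) (tt N45602 F255218) (tt N75824 (iv4 F309800)) (tt N104245 (iv5 F444904)) (tt N45602 F305073) (tt N45598 F255219))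
theorem Q79388 : ∀ i, i < 79388 → P i := stepQ 79387 Q79387 (allL N79387 (tt N110574 F472200) (tt N100309 (iv0 F428374)) (tt N109480 (iv2 F467182)) (tt N45536 (iv3 D161401)) (tt N98777 (iv4 F422278)) (tt N64274 F350670) (tt N79588 (iv6 F350669)) (tt N45607 F255239))
theorem Q79389 : ∀ i, i < 79389 → P i := stepQ 79388 Q79388 (allL N79388 (tt N52810 (iv1 F255496)) (tt N46362 F299040) (tt N46377 (iv2 F300546)) (tt N46489 F255492) (tt N46661 F299041) (tt N45539 (iv5 D161504)) (tt N46374 F299042) (tt N46364 F255493))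
theorem Q79390 : ∀ i, i < 79390 → P i := stepQ 79389 Q79389 (allL N79389 (tt N81040 (iv1 F303090)) (tt N80767 (iv0 F307886)) (tt N45542 (iv2 D161515)) (tt N81042 (iv3 F362192)) (tt N77597 (iv4 F328942)) (tt N75310 (iv5 F345660)) (tt N96902 (iv6 F414528)) (tt N81039 (iv7 F303093)))
theorem Q79391 : ∀ i, i < 79391 → P i := stepQ 79390 Q79390 (allL N79390 (tt N87262 F378936) (tt N87206 (iv0 F378764)) (tt N79107 F255566) (tt N45549 F255567) (tt N84156 (iv4 F368384)) (tt N53791 (iv5 F366787)) (tt N45547 (iv6 D161571)) (tt N110518 (iv7 F471954)))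
theorem Q79392 : ∀ i, i < 79392 → P i := stepQ 79391 Q79391 (allL N79391 (tt N53207 (iv1 F342028)) (tt N53209 F363206) (tt N53740 (iv2 F310429)) (tt N45550 F255570) (tt N101771 (iv4 F434272)) (tt N45548 (iv5 D161574)) (tt N53791 F366785) (tt N53739 (iv7 F312632)))
theorem Q79393 : ∀ i, i < 79393 → P i := stepQ 79392 Q79392 (allL N79392 (tt N89390 F386340) (tt N105259 (iv0 F449428)) (tt N64406 F255573) (tt N53791 (iv3 F366786)) (tt N101334 F432686) (tt N45549 (iv5 D161577)) (tt N45550 F255574) (tt N107419 (iv7 F458277)))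
theorem Q79394 : ∀ i, i < 79394 → P i := stepQ 79393 Q79393 (allL N79393 (tt N58978 (iv1 F354941)) (tt N64405 F255580) (tt N64407 F255575) (tt N110518 (iv3 F471952)) (tt N64403 F255576) (tt N107419 (iv5 F458276)) (tt N64403 F255577) (tt N45549 (iv7 D161578)))
theorem Q79395 : ∀ i, i < 79395 → P i := stepQ 79394 Q79394 (allL N79394 (tt N75838 (iv1 F350939)) (tt N63604 (iv0 F350938)) (tt N90457 (iv2 F389713)) (tt N45552 F255586) (tt N76446 F255587) (tt N81239 (iv5 F337074)) (tt N45551 (iv6 D161580)) (tt N81305 F359260))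
theorem Q79396 : ∀ i, i < 79396 → P i := stepQ 79395 Q79395 (allL N79395 (tt N45555 (iv1 D161588)) (tt N80882 F311755) (tt N47290 F311756) (tt N95751 (iv3 F409455)) (tt N56866 (iv4 F337617)) (tt N46366 F311757) (tt N60057 (iv6 F334614)) (tt N47287 F311758))
theorem Q79397 : ∀ i, i < 79397 → P i := stepQ 79396 Q79396 (allL N79396 (tt N80962 (iv1 F366764)) (tt N80966 F337636) (tt N81359 (iv2 F274488)) (tt N58727 (iv3 F358712)) (tt N45555 (iv4 D161589)) (tt N111531 D214773) (tt N65407 F358715) (tt N81402 F358800))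
theorem Q79398 : ∀ i, i < 79398 → P i := stepQ 79397 Q79397 (allL N79397 (tt N78543 (iv1 F315281)) (tt N79758 F341630) (tt N77029 (iv2 F354000)) (tt N45557 (iv3 D161596)) (tt N69327 (iv4 F305918)) (tt N46512 F318580) (tt N69306 (iv6 F341647)) (tt N78579 F318581))
theorem Q79399 : ∀ i, i < 79399 → P i := stepQ 79398 Q79398 (allL N79398 (tt N79755 (iv1 F361359)) (tt N81510 (iv0 F275744)) (tt N104250 (iv2 F444930)) (tt N45560 (iv3 D161611)) (tt N67414 F347322) (tt N46371 F303678) (tt N59942 F360217) (tt N79373 F303679))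
theorem Q79400 : ∀ i, i < 79400 → P i := stepQ 79399 Q79399 (allL N79399 (tt N100792 (iv1 F430495)) (tt N78189 F350916) (tt N87470 (iv2 F379448)) (tt N46836 F255636) (tt N87468 (iv4 F379438)) (tt N45564 (iv5 D161630)) (tt N47071 F255637) (tt N100310 (iv7 F428378)))
theorem Q79401 : ∀ i, i < 79401 → P i := stepQ 79400 Q79400 (allL N79400 (tt N76027 (iv1 F343502)) (tt N83191 (iv0 F343440)) (tt N46831 F255640) (tt N45566 F255641) (tt N68026 (iv4 F343439)) (tt N83275 F343436) (tt N45565 (iv6 D161632)) (tt N110510 (iv7 F471915)))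
theorem Q79402 : ∀ i, i < 79402 → P i := stepQ 79401 Q79401 (allL N79401 (tt N45605 F348503) (tt N47964 F348504) (tt N80305 F362744) (tt N83275 (iv3 F343438)) (tt N111532 D214774) (tt N45566 (iv5 D161636)) (tt N88460 (iv6 F383141)) (tt N80306 F343982))
theorem Q79403 : ∀ i, i < 79403 → P i := stepQ 79402 Q79402 (allL N79402 (tt N84353 (iv1 F369037)) (tt N74761 (iv0 F346296)) (tt N100791 (iv2 F430487)) (tt N46893 F255670) (tt N49618 (iv4 F339570)) (tt N45570 (iv5 D161651)) (tt N97089 (iv6 F415431)) (tt N88663 (iv7 F383780)))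
theorem Q79404 : ∀ i, i < 79404 → P i := stepQ 79403 Q79403 (allL N79403 (tt N74761 F361642) (tt N84353 (iv0 F369036)) (tt N88663 (iv2 F383777)) (tt N105173 (iv3 F449106)) (tt N96212 (iv4 F411515)) (tt N45571 (iv5 D161656)) (tt N47946 F319558) (tt N100791 (iv7 F430489)))
theorem Q79405 : ∀ i, i < 79405 → P i := stepQ 79404 Q79404 (allL N79404 (tt N54379 F310443) (tt N53378 F310444) (tt N54240 F255691) (tt N45579 F255692) (tt N64524 F255693) (tt N47204 F310445) (tt N45578 (iv6 D161682)) (tt N46894 F310446))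
theorem Q79406 : ∀ i, i < 79406 → P i := stepQ 79405 Q79405 (allL N79405 (tt N109480 (iv1 F467187)) (tt N45607 F343415) (tt N100309 (iv2 F428370)) (tt N47204 F343416) (tt N99186 (iv4 F423620)) (tt N45579 (iv5 D161685)) (tt N47944 F255694) (tt N110574 (iv7 F472198)))
theorem Q79407 : ∀ i, i < 79407 → P i := stepQ 79406 Q79406 (allL N79406 (tt N65412 (iv1 F353899)) (tt N65416 (iv0 F339280)) (tt N46825 F255707) (tt N45583 (iv3 D161708)) (tt N53536 (iv4 F344419)) (tt N46147 F318543) (tt N67765 (iv6 F339291)) (tt N82364 F318544))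
theorem Q79408 : ∀ i, i < 79408 → P i := stepQ 79407 Q79407 (allL N79407 (tt N47216 F337060) (tt N58803 (iv0 F350641)) (tt N47962 F255730) (tt N45589 F255731) (tt N99080 (iv4 F423258)) (tt N45587 (iv5 D161725)) (tt N45607 F302958) (tt N77707 (iv7 F350665)))
theorem Q79409 : ∀ i, i < 79409 → P i := stepQ 79408 Q79408 (allL N79408 (tt N80127 F365585) (tt N88460 (iv0 F383142)) (tt N88463 F383154) (tt N45595 (iv3 D161814)) (tt N73558 F366178) (tt N67761 (iv5 F365586)) (tt N77718 F365587) (tt N67760 F365588))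
theorem Q79410 : ∀ i, i < 79410 → P i := stepQ 79409 Q79409 (allL N79409 (tt N47964 F337581) (tt N45605 F337582) (tt N80306 F343981) (tt N54345 (iv3 F362749)) (tt N111533 D214775) (tt N45597 (iv5 D161832)) (tt N75680 F408980) (tt N80305 F362747))
theorem Q79411 : ∀ i, i < 79411 → P i := stepQ 79410 Q79410 (allL N79410 (tt N68471 (iv1 F344117)) (tt N68450 F344116) (tt N45600 F255810) (tt N68469 (iv3 F344120)) (tt N68459 F344119) (tt N67815 (iv5 F344118)) (tt N45598 (iv6 D161841)) (tt N68469 (iv7 F344121)))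
theorem Q79412 : ∀ i, i < 79412 → P i := stepQ 79411 Q79411 (allL N79411 (tt N75824 (iv1 F309798)) (tt N45599 (iv0 D161842)) (tt N78357 (iv2 F312348)) (tt N45738 F255811) (tt N77609 F255812) (tt N63722 (iv5 F340777)) (tt N46525 F302275) (tt N56123 (iv7 F255814)))
theorem Q79413 : ∀ i, i < 79413 → P i := stepQ 79412 Q79412 (allL N79412 (tt N68469 F346974) (tt N45600 (iv0 D161849)) (tt N68471 F346975) (tt N46842 F346976) (tt N66752 F346977) (tt N80311 (iv5 F350906)) (tt N46840 F346978) (tt N68450 F346979))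
theorem Q79414 : ∀ i, i < 79414 → P i := stepQ 79413 Q79413 (allL N79413 (tt N45607 F333718) (tt N109480 (iv0 F467186)) (tt N110574 (iv2 F472195)) (tt N103133 F440226) (tt N111534 D214776) (tt N45601 (iv5 D161879)) (tt N82219 (iv6 F357007)) (tt N100309 (iv7 F428373)))
theorem Q79415 : ∀ i, i < 79415 → P i := stepQ 79414 Q79414 (allL N79414 (tt N62141 (iv1 F357063)) (tt N58807 (iv0 F350642)) (tt N45604 F255867) (tt N104245 (iv3 F444905)) (tt N103216 (iv4 F440614)) (tt N45602 (iv5 D161882)) (tt N77741 (iv6 F360756)) (tt N62139 (iv7 F350927)))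
theorem Q79416 : ∀ i, i < 79416 → P i := stepQ 79415 Q79415 (allL N79415 (tt N62139 F357025) (tt N45604 (iv0 D161888)) (tt N62141 F357031) (tt N53574 (iv3 F357020)) (tt N61819 (iv4 F357023)) (tt N53573 F357019) (tt N60402 F357018) (tt N58807 (iv7 F357021)))
theorem Q79417 : ∀ i, i < 79417 → P i := stepQ 79416 Q79416 (allL N79416 (tt N80306 F305461) (tt N80305 F305462) (tt N45605 (iv2 D161909)) (tt N109480 (iv3 F467183)) (tt N111535 D214777) (tt N47965 F305463) (tt N79600 F359734) (tt N47964 F305464))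
theorem Q79418 : ∀ i, i < 79418 → P i := stepQ 79417 Q79417 (allL N79417 (tt N110895 F473656) (tt N111536 D214778) (tt N111535 (iv2 F476794)) (tt N107940 (iv3 F460384)) (tt N45605 (iv4 D161910)) (tt N107882 F460104) (tt N72840 F351691) (tt N80307 (iv7 F366904)))
theorem Q79419 : ∀ i, i < 79419 → P i := stepQ 79418 Q79418 (allL N79418 (tt N100309 (iv1 F428375)) (tt N110574 (iv0 F472199)) (tt N45607 (iv2 D161924)) (tt N47964 F302955) (tt N100402 F428817) (tt N47961 F302956) (tt N47962 F302957) (tt N109480 (iv7 F467185)))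
theorem Q79420 : ∀ i, i < 79420 → P i := stepQ 79419 Q79419 (allL N79419 (tt N99133 F423424) (tt N100404 F428821) (tt N100402 (iv2 F428818)) (tt N98781 (iv3 F422295)) (tt N45607 (iv4 D161925)) (tt N97213 (iv5 F422281)) (tt N99080 (iv6 F423259)) (tt N98777 F422280))
theorem Q79421 : ∀ i, i < 79421 → P i := stepQ 79420 Q79420 (allL N79420 (tt N79156 (iv1 F366036)) (tt N79160 F366902) (tt N65016 F255953) (tt N99061 (iv3 F423191)) (tt N45609 (iv4 D161958)) (tt N99292 (iv5 F423962)) (tt N111537 D214779) (tt N65019 F255954))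
theorem Q79422 : ∀ i, i < 79422 → P i := stepQ 79421 Q79421 (allL N79421 (tt N90943 F391322) (tt N108461 F462681) (tt N65017 F255955) (tt N88628 (iv3 F383646)) (tt N111537 (iv4 F476806)) (tt N64330 F255956) (tt N45609 (iv6 D161959)) (tt N107291 (iv7 F457827)))
theorem Q79423 : ∀ i, i < 79423 → P i := stepQ 79422 Q79422 (allL N79422 (tt N58301 (iv1 F324504)) (tt N65008 F255965) (tt N65055 F255962) (tt N58261 F365959) (tt N111538 D214780) (tt N45612 (iv5 D161962)) (tt N93275 (iv6 F400255)) (tt N65056 F255963))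
theorem Q79424 : ∀ i, i < 79424 → P i := stepQ 79423 Q79423 (allL N79423 (tt N80770 (iv1 F271480)) (tt N80769 F271479) (tt N45613 (iv2 D161965)) (tt N96902 (iv3 F414525)) (tt N80771 (iv4 F271502)) (tt N103152 (iv5 F440318)) (tt N81042 (iv6 F273099)) (tt N80768 (iv7 F271476)))
theorem Q79425 : ∀ i, i < 79425 → P i := stepQ 79424 Q79424 (allL N79424 (tt N55032 (iv1 F359866)) (tt N111512 (iv0 F476657)) (tt N102763 (iv2 F438529)) (tt N45614 (iv3 D161987)) (tt N104871 (iv4 F447732)) (tt N46387 F303671) (tt N81832 F366083) (tt N65325 (iv7 F325017)))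
theorem Q79426 : ∀ i, i < 79426 → P i := stepQ 79425 Q79425 (allL N79425 (tt N53187 F343485) (tt N53184 F343495) (tt N53562 F366784) (tt N45617 F256040) (tt N107683 (iv4 F459217)) (tt N45616 (iv5 D162025)) (tt N90984 (iv6 F391470)) (tt N53563 (iv7 F310558)))
theorem Q79427 : ∀ i, i < 79427 → P i := stepQ 79426 Q79426 (allL N79426 (tt N73192 (iv1 F331845)) (tt N45622 (iv0 D162043)) (tt N47313 F311769) (tt N100384 (iv3 F428721)) (tt N93615 (iv4 F401283)) (tt N46955 F311770) (tt N82145 (iv6 F345586)) (tt N47311 F311771))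
theorem Q79428 : ∀ i, i < 79428 → P i := stepQ 79427 Q79427 (allL N79427 (tt N81085 F363237) (tt N81078 (iv0 F343472)) (tt N90484 (iv2 F389807)) (tt N73016 F350128) (tt N45622 (iv4 D162045)) (tt N73015 (iv5 F360587)) (tt N76974 (iv6 F360588)) (tt N73184 (iv7 F360589)))
theorem Q79429 : ∀ i, i < 79429 → P i := stepQ 79428 Q79428 (allL N79428 (tt N79172 (iv1 F351092)) (tt N79170 (iv0 F344462)) (tt N59204 (iv2 F351084)) (tt N58181 (iv3 F351094)) (tt N99110 (iv4 F423370)) (tt N45624 (iv5 D162074)) (tt N73044 (iv6 F351096)) (tt N65050 F256149))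
theorem Q79430 : ∀ i, i < 79430 → P i := stepQ 79429 Q79429 (allL N79429 (tt N78475 F256260) (tt N59448 (iv0 F365859)) (tt N111539 D214781) (tt N45626 (iv3 D162162)) (tt N45965 F256258) (tt N100833 (iv5 F430690)) (tt N58710 (iv6 F365921)) (tt N54841 F256259))
theorem Q79431 : ∀ i, i < 79431 → P i := stepQ 79430 Q79430 (allL N79430 (tt N111540 D214782) (tt N111541 D214783) (tt N93399 (iv2 F400637)) (tt N94910 (iv3 F406296)) (tt N73518 (iv4 F362692)) (tt N93397 (iv5 F400635)) (tt N45628 (iv6 D162235)) (tt N111542 D214784))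
theorem Q79432 : ∀ i, i < 79432 → P i := stepQ 79431 Q79431 (allL N79431 (tt N45956 F302616) (tt N45632 (iv0 D162242)) (tt N45958 F348598) (tt N75210 (iv3 F339244)) (tt N111543 D214785) (tt N49587 F338418) (tt N75209 F339242) (tt N45957 F348599))
theorem Q79433 : ∀ i, i < 79433 → P i := stepQ 79432 Q79432 (allL N79432 (tt N45958 F302618) (tt N45957 F302619) (tt N45632 (iv2 D162244)) (tt N46166 F256390) (tt N78438 F256391) (tt N66461 (iv5 F336496)) (tt N76746 (iv6 F348623)) (tt N45956 F302620))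
theorem Q79434 : ∀ i, i < 79434 → P i := stepQ 79433 Q79433 (allL N79433 (tt N111419 (iv1 F476268)) (tt N90351 (iv0 F406288)) (tt N100539 (iv2 F429391)) (tt N73449 F343772) (tt N100536 (iv4 F429384)) (tt N73448 F360037) (tt N45633 (iv6 D162293)) (tt N73524 (iv7 F360079)))
theorem Q79435 : ∀ i, i < 79435 → P i := stepQ 79434 Q79434 (allL N79434 (tt N78409 F256613) (tt N46332 F256614) (tt N64083 F256610) (tt N78415 F256611) (tt N48352 F256612) (tt N45637 (iv5 D162408)) (tt N78590 (iv6 F346953)) (tt N64080 F256615))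
theorem Q79436 : ∀ i, i < 79436 → P i := stepQ 79435 Q79435 (allL N79435 (tt N45653 (iv1 F256746)) (tt N45642 (iv0 D162537)) (tt N45650 F354963) (tt N61010 (iv3 F354962)) (tt N80665 F354964) (tt N111544 D214786) (tt N74838 (iv6 F355107)) (tt N45651 F354965))
theorem Q79437 : ∀ i, i < 79437 → P i := stepQ 79436 Q79436 (allL N79436 (tt N45651 (iv1 F256747)) (tt N45650 F256748) (tt N45653 F256744) (tt N97088 (iv3 F415421)) (tt N48393 F256745) (tt N81116 F366952) (tt N79440 (iv6 F256817)) (tt N45642 (iv7 D162540)))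
theorem Q79438 : ∀ i, i < 79438 → P i := stepQ 79437 Q79437 (allL N79437 (tt N103377 F441353) (tt N86978 (iv0 F377926)) (tt N103376 F441348) (tt N45645 (iv3 D162554)) (tt N67579 (iv4 F341770)) (tt N81181 F366956) (tt N46313 F256789) (tt N83769 F363246))
theorem Q79439 : ∀ i, i < 79439 → P i := stepQ 79438 Q79438 (allL N79438 (tt N48393 (iv1 F256818)) (tt N45649 (iv0 D162570)) (tt N48390 F355083) (tt N46021 F355084) (tt N109007 (iv4 F464885)) (tt N66491 F355085) (tt N109006 (iv6 F464879)) (tt N48391 F355086))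
theorem Q79440 : ∀ i, i < 79440 → P i := stepQ 79439 Q79439 (allL N79439 (tt N45649 (iv1 D162571)) (tt N48393 F256812) (tt N48391 F354969) (tt N82560 F342201) (tt N82589 (iv4 F342202)) (tt N103424 (iv5 F441565)) (tt N82588 F355091) (tt N48390 F354970))
theorem Q79441 : ∀ i, i < 79441 → P i := stepQ 79440 Q79440 (allL N79440 (tt N48391 (iv1 F256819)) (tt N48390 F256820) (tt N48393 F256815) (tt N103807 F442909) (tt N45653 F256816) (tt N104578 (iv5 F446375)) (tt N79436 F256817) (tt N45649 (iv7 D162573)))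
theorem Q79442 : ∀ i, i < 79442 → P i := stepQ 79441 Q79441 (allL N79441 (tt N111545 D214787) (tt N81094 (iv0 F392943)) (tt N111544 (iv2 F476839)) (tt N77443 (iv3 F363178)) (tt N92874 F415051) (tt N45650 (iv5 D162577)) (tt N92872 (iv6 F415050)) (tt N104773 (iv7 F447198)))
theorem Q79443 : ∀ i, i < 79443 → P i := stepQ 79442 Q79442 (allL N79442 (tt N80671 F363180) (tt N109233 (iv0 F465901)) (tt N74838 F355109) (tt N77444 (iv3 F363179)) (tt N95823 (iv4 F409815)) (tt N108287 (iv5 F461892)) (tt N45650 (iv6 D162578)) (tt N109460 (iv7 F467076)))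
theorem Q79444 : ∀ i, i < 79444 → P i := stepQ 79443 Q79443 (allL N79443 (tt N81094 F383691) (tt N111545 F476846) (tt N104773 (iv2 F447195)) (tt N94102 (iv3 F403212)) (tt N111546 D214788) (tt N45651 (iv5 D162582)) (tt N81124 F353017) (tt N111544 (iv7 F476842)))
theorem Q79445 : ∀ i, i < 79445 → P i := stepQ 79444 Q79444 (allL N79444 (tt N81116 (iv1 F366954)) (tt N45652 (iv0 D162584)) (tt N81114 F409642) (tt N75460 (iv3 F409647)) (tt N111547 D214789) (tt N75459 F409646) (tt N60396 F352469) (tt N81115 (iv7 F409643)))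
theorem Q79446 : ∀ i, i < 79446 → P i := stepQ 79445 Q79445 (allL N79445 (tt N45652 (iv1 D162585)) (tt N81116 F366951) (tt N81115 (iv2 F409645)) (tt N102682 F466148) (tt N111548 D214790) (tt N109856 (iv5 F468942)) (tt N110588 (iv6 F472256)) (tt N81114 F409644))
theorem Q79447 : ∀ i, i < 79447 → P i := stepQ 79446 Q79446 (allL N79446 (tt N111549 D214791) (tt N81710 (iv0 F346563)) (tt N81113 (iv2 F366932)) (tt N111550 D214792) (tt N45652 (iv4 D162586)) (tt N111551 D214793) (tt N45656 F256823) (tt N111552 D214794))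
theorem Q79448 : ∀ i, i < 79448 → P i := stepQ 79447 Q79447 (allL N79447 (tt N81115 (iv1 F366950)) (tt N81114 F366953) (tt N81116 (iv2 F366949)) (tt N67004 F256824) (tt N111552 (iv4 F476882)) (tt N45653 F256825) (tt N81118 F362966) (tt N45652 (iv7 D162587)))
theorem Q79449 : ∀ i, i < 79449 → P i := stepQ 79448 Q79448 (allL N79448 (tt N81054 (iv1 F343433)) (tt N77449 (iv0 F343428)) (tt N81063 F354168) (tt N45654 (iv3 D162604)) (tt N107438 (iv4 F458343)) (tt N78643 F343427) (tt N77195 (iv6 F343426)) (tt N81064 (iv7 F354169)))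
theorem Q79450 : ∀ i, i < 79450 → P i := stepQ 79449 Q79449 (allL N79449 (tt N65142 (iv1 F365169)) (tt N74575 (iv0 F330952)) (tt N74573 F365170) (tt N107439 F458342) (tt N45654 (iv4 D162605)) (tt N111553 D214795) (tt N110937 (iv6 F473874)) (tt N74572 (iv7 F365174)))
theorem Q79451 : ∀ i, i < 79451 → P i := stepQ 79450 Q79450 (allL N79450 (tt N100420 (iv1 F428893)) (tt N54990 (iv0 F353018)) (tt N81107 F343423) (tt N77195 F343424) (tt N110937 (iv4 F473872)) (tt N54241 (iv5 F343422)) (tt N45654 (iv6 D162606)) (tt N77186 F343425))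
theorem Q79452 : ∀ i, i < 79452 → P i := stepQ 79451 Q79451 (allL N79451 (tt N80793 F360151) (tt N71333 (iv0 F359090)) (tt N101862 (iv2 F434715)) (tt N45655 (iv3 D162607)) (tt N110659 (iv4 F472631)) (tt N66473 (iv5 F327818)) (tt N48234 F350985) (tt N81106 (iv7 F366933)))
theorem Q79453 : ∀ i, i < 79453 → P i := stepQ 79452 Q79452 (allL N79452 (tt N74575 (iv1 F330953)) (tt N65142 (iv0 F360152)) (tt N74572 F365173) (tt N111554 D214796) (tt N45655 (iv4 D162608)) (tt N111555 D214797) (tt N94415 (iv6 F404382)) (tt N74573 F365171))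
theorem Q79454 : ∀ i, i < 79454 → P i := stepQ 79453 Q79453 (allL N79453 (tt N81086 F343365) (tt N60398 (iv0 F362989)) (tt N81108 F359161) (tt N48234 F360153) (tt N94415 F404380) (tt N78623 F256839) (tt N45655 (iv6 D162609)) (tt N98303 (iv7 F420421)))
theorem Q79455 : ∀ i, i < 79455 → P i := stepQ 79454 Q79454 (allL N79454 (tt N80801 F303389) (tt N45656 (iv0 D162610)) (tt N81109 F303390) (tt N111556 D214798) (tt N47229 F303391) (tt N111557 D214799) (tt N81476 (iv6 F364933)) (tt N81110 F303392))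
theorem Q79456 : ∀ i, i < 79456 → P i := stepQ 79455 Q79455 (allL N79455 (tt N45656 (iv1 D162611)) (tt N80801 F303393) (tt N81110 F303394) (tt N74673 F341148) (tt N47230 F303395) (tt N111558 D214800) (tt N82146 F341150) (tt N81109 F303396))
theorem Q79457 : ∀ i, i < 79457 → P i := stepQ 79456 Q79456 (allL N79456 (tt N91570 F464702) (tt N111559 D214801) (tt N111560 D214802) (tt N45656 (iv3 D162612)) (tt N67029 F256840) (tt N111561 D214803) (tt N111550 (iv6 F476875)) (tt N74672 F362968))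
theorem Q79458 : ∀ i, i < 79458 → P i := stepQ 79457 Q79457 (allL N79457 (tt N83773 F303397) (tt N47325 F303398) (tt N81112 F303399) (tt N111561 (iv3 F476930)) (tt N80816 F303400) (tt N45656 (iv5 D162613)) (tt N111562 D214804) (tt N81117 F303401))
theorem Q79459 : ∀ i, i < 79459 → P i := stepQ 79458 Q79458 (allL N79458 (tt N47777 F256845) (tt N47827 F302197) (tt N47876 F302198) (tt N94833 (iv3 F406089)) (tt N45657 (iv4 D162617)) (tt N100915 (iv5 F430946)) (tt N58680 (iv6 F365905)) (tt N47877 F302199))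
theorem Q79460 : ∀ i, i < 79460 → P i := stepQ 79459 Q79459 (allL N79459 (tt N46952 F303405) (tt N46951 F303406) (tt N45658 (iv2 D162623)) (tt N46386 F303407) (tt N81378 (iv4 F348279)) (tt N77704 F366507) (tt N47267 F303408) (tt N46379 F303409))
theorem Q79461 : ∀ i, i < 79461 → P i := stepQ 79460 Q79460 (allL N79460 (tt N88498 F383288) (tt N78839 (iv0 F346537)) (tt N77704 F366506) (tt N45659 F256856) (tt N111563 D214805) (tt N45658 (iv5 D162624)) (tt N111564 D214806) (tt N46953 F303410))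
theorem Q79462 : ∀ i, i < 79462 → P i := stepQ 79461 Q79461 (allL N79461 (tt N47323 F303411) (tt N47322 F303412) (tt N47326 F303413) (tt N96166 (iv3 F411316)) (tt N45659 (iv4 D162628)) (tt N83773 F303414) (tt N96163 F411304) (tt N46960 F303415))
theorem Q79463 : ∀ i, i < 79463 → P i := stepQ 79462 Q79462 (allL N79462 (tt N93810 (iv1 F402012)) (tt N93792 (iv0 F401903)) (tt N47327 F303416) (tt N111564 (iv3 F476941)) (tt N96163 (iv4 F411303)) (tt N47299 F303417) (tt N45659 (iv6 D162629)) (tt N93809 (iv7 F401993)))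
theorem Q79464 : ∀ i, i < 79464 → P i := stepQ 79463 Q79463 (allL N79463 (tt N55516 F365997) (tt N87082 F392205) (tt N87081 F378314) (tt N45660 (iv3 D162635)) (tt N94833 (iv4 F406090)) (tt N111565 D214807) (tt N88182 (iv6 F382058)) (tt N54846 F302204))
theorem Q79465 : ∀ i, i < 79465 → P i := stepQ 79464 Q79464 (allL N79464 (tt N47239 F302205) (tt N47236 F302206) (tt N83775 F302207) (tt N111565 (iv3 F476947)) (tt N47325 F302208) (tt N45660 (iv5 D162636)) (tt N111566 D214808) (tt N54847 F302209))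
theorem Q79466 : ∀ i, i < 79466 → P i := stepQ 79465 Q79465 (allL N79465 (tt N55481 F365703) (tt N91899 F394864) (tt N91898 F394857) (tt N45663 (iv3 D162652)) (tt N100911 (iv4 F430928)) (tt N111567 D214809) (tt N108280 F461848) (tt N91837 F394626))
theorem Q79467 : ∀ i, i < 79467 → P i := stepQ 79466 Q79466 (allL N79466 (tt N80811 F303298) (tt N65150 F303299) (tt N81158 F303300) (tt N111567 (iv3 F476954)) (tt N111558 (iv4 F476915)) (tt N45663 (iv5 D162653)) (tt N111568 D214810) (tt N81157 F303301))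
theorem Q79468 : ∀ i, i < 79468 → P i := stepQ 79467 Q79467 (allL N79467 (tt N58668 F344524) (tt N58615 F344526) (tt N96900 (iv2 F414517)) (tt N108280 (iv3 F461847)) (tt N45664 F256893) (tt N79865 F300520) (tt N45663 (iv6 D162654)) (tt N47614 F300521))
theorem Q79469 : ∀ i, i < 79469 → P i := stepQ 79468 Q79468 (allL N79468 (tt N46222 (iv1 F256895)) (tt N45664 (iv0 D162655)) (tt N59936 (iv2 F323061)) (tt N79672 (iv3 F257704)) (tt N59851 (iv4 F362592)) (tt N85738 (iv5 F373747)) (tt N46319 F256894) (tt N85738 (iv7 F373748)))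
theorem Q79470 : ∀ i, i < 79470 → P i := stepQ 79469 Q79469 (allL N79469 (tt N102107 (iv1 F435763)) (tt N91862 (iv0 F394750)) (tt N111569 D214811) (tt N45665 (iv3 D162657)) (tt N86934 (iv4 F377758)) (tt N111302 (iv5 F475718)) (tt N47615 F303302) (tt N101722 (iv7 F434036)))
theorem Q79471 : ∀ i, i < 79471 → P i := stepQ 79470 Q79470 (allL N79470 (tt N65150 F303303) (tt N80811 F303304) (tt N81157 F303305) (tt N111302 (iv3 F475716)) (tt N111557 (iv4 F476910)) (tt N45665 (iv5 D162658)) (tt N111301 (iv6 F475709)) (tt N81158 F303306))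
theorem Q79472 : ∀ i, i < 79472 → P i := stepQ 79471 Q79471 (allL N79471 (tt N47245 F301424) (tt N47247 (iv0 F302210)) (tt N81149 F301425) (tt N95739 (iv3 F409382)) (tt N111555 (iv4 F476900)) (tt N45666 (iv5 D162660)) (tt N111570 D214812) (tt N81150 F301426))
theorem Q79473 : ∀ i, i < 79473 → P i := stepQ 79472 Q79472 (allL N79472 (tt N47247 (iv1 F302211)) (tt N47245 F301427) (tt N81150 F301428) (tt N51841 (iv3 F348938)) (tt N111553 (iv4 F476889)) (tt N45667 (iv5 D162663)) (tt N51839 F348937) (tt N81149 F301429))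
theorem Q79474 : ∀ i, i < 79474 → P i := stepQ 79473 Q79473 (allL N79473 (tt N87014 (iv1 F378040)) (tt N45668 (iv0 D162664)) (tt N87015 (iv2 F378048)) (tt N91979 F395212) (tt N76167 F358730) (tt N88010 (iv5 F381469)) (tt N87021 (iv6 F378065)) (tt N52275 (iv7 F358795)))
theorem Q79475 : ∀ i, i < 79475 → P i := stepQ 79474 Q79474 (allL N79474 (tt N87015 (iv1 F378051)) (tt N52275 (iv0 F358723)) (tt N45668 (iv2 D162666)) (tt N103376 (iv3 F441347)) (tt N45672 F256904) (tt N111571 D214813) (tt N46327 F256905) (tt N87014 (iv7 F378041)))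
theorem Q79476 : ∀ i, i < 79476 → P i := stepQ 79475 Q79475 (allL N79475 (tt N87281 F378967) (tt N108160 (iv0 F461344)) (tt N111571 (iv2 F476970)) (tt N45669 F256906) (tt N101603 (iv4 F436684)) (tt N45668 (iv5 D162667)) (tt N111572 D214814) (tt N81183 (iv7 F366903)))
theorem Q79477 : ∀ i, i < 79477 → P i := stepQ 79476 Q79476 (allL N79476 (tt N52275 (iv1 F358724)) (tt N87015 F378050) (tt N87014 (iv2 F378047)) (tt N45670 F256907) (tt N45674 F256908) (tt N81183 F303296) (tt N47143 F303297) (tt N45668 (iv7 D162668)))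
theorem Q79478 : ∀ i, i < 79478 → P i := stepQ 79477 Q79477 (allL N79477 (tt N47325 F302242) (tt N83773 F302243) (tt N81117 F302244) (tt N93553 (iv3 F401112)) (tt N45669 (iv4 D162671)) (tt N80801 F302245) (tt N111573 D214815) (tt N81112 F302246))
theorem Q79479 : ∀ i, i < 79479 → P i := stepQ 79478 Q79478 (allL N79478 (tt N111574 D214816) (tt N111575 D214817) (tt N81182 (iv2 F366947)) (tt N111572 (iv3 F476975)) (tt N111573 (iv4 F476979)) (tt N46329 F256910) (tt N45669 (iv6 D162672)) (tt N111576 D214818))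
theorem Q79480 : ∀ i, i < 79480 → P i := stepQ 79479 Q79479 (allL N79479 (tt N68014 F340259) (tt N67996 F340262) (tt N45673 F256930) (tt N79752 (iv3 F257996)) (tt N77034 (iv4 F340261)) (tt N45672 (iv5 D162692)) (tt N79531 (iv6 F316582)) (tt N68012 F340263))
theorem Q79481 : ∀ i, i < 79481 → P i := stepQ 79480 Q79480 (allL N79480 (tt N68012 F330132) (tt N45673 (iv0 D162693)) (tt N68014 F330133) (tt N81333 (iv3 F330137)) (tt N46486 F330134) (tt N74395 (iv5 F333981)) (tt N67995 F330135) (tt N67996 F330136))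
theorem Q79482 : ∀ i, i < 79482 → P i := stepQ 79481 Q79481 (allL N79481 (tt N88499 F383292) (tt N88494 (iv0 F383277)) (tt N69340 (iv2 F315039)) (tt N64271 F353799) (tt N80598 (iv4 F353801)) (tt N47545 F303621) (tt N45676 (iv6 D162702)) (tt N80343 (iv7 F353798)))
theorem Q79483 : ∀ i, i < 79483 → P i := stepQ 79482 Q79482 (allL N79482 (tt N81588 F362560) (tt N91973 (iv0 F395195)) (tt N91978 F395208) (tt N45677 (iv3 D162703)) (tt N80601 (iv4 F363325)) (tt N106104 (iv5 F453127)) (tt N88179 F382044) (tt N78646 (iv7 F298040)))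
theorem Q79484 : ∀ i, i < 79484 → P i := stepQ 79483 Q79483 (allL N79483 (tt N90592 F390189) (tt N101730 (iv0 F434068)) (tt N78648 F356161) (tt N106104 (iv3 F453126)) (tt N89905 (iv4 F387936)) (tt N45677 (iv5 D162704)) (tt N89287 F385933) (tt N78647 (iv7 F298042)))
theorem Q79485 : ∀ i, i < 79485 → P i := stepQ 79484 Q79484 (allL N79484 (tt N64449 (iv1 F346707)) (tt N54246 F346708) (tt N45686 F256942) (tt N54370 F334409) (tt N45679 (iv4 D162709)) (tt N89925 (iv5 F388014)) (tt N53374 (iv6 F354506)) (tt N64450 (iv7 F320205)))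
theorem Q79486 : ∀ i, i < 79486 → P i := stepQ 79485 Q79485 (allL N79485 (tt N97039 (iv1 F415155)) (tt N97044 (iv0 F415194)) (tt N111577 D214819) (tt N45680 (iv3 D162711)) (tt N65735 (iv4 F330151)) (tt N74622 F365218) (tt N80814 (iv6 F356158)) (tt N65734 F356157))
theorem Q79487 : ∀ i, i < 79487 → P i := stepQ 79486 Q79486 (allL N79486 (tt N80937 (iv1 F272504)) (tt N80255 (iv0 F262371)) (tt N45694 F256944) (tt N74622 (iv3 F365219)) (tt N89926 (iv4 F388022)) (tt N45680 (iv5 D162712)) (tt N111578 D214820) (tt N80934 (iv7 F272495)))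
theorem Q79488 : ∀ i, i < 79488 → P i := stepQ 79487 Q79487 (allL N79487 (tt N110544 (iv1 F472069)) (tt N110132 (iv0 F470110)) (tt N80919 (iv2 F272403)) (tt N75458 (iv3 F354139)) (tt N75471 F358451) (tt N80649 F302454) (tt N45682 (iv6 D162718)) (tt N103136 (iv7 F440239)))
theorem Q79489 : ∀ i, i < 79489 → P i := stepQ 79488 Q79488 (allL N79488 (tt N66971 (iv1 F256948)) (tt N45683 (iv0 D162719)) (tt N47036 F317076) (tt N47040 F317077) (tt N76561 F317078) (tt N52813 (iv5 F300770)) (tt N47035 F317079) (tt N76026 (iv7 F256950)))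
theorem Q79490 : ∀ i, i < 79490 → P i := stepQ 79489 Q79489 (allL N79489 (tt N46831 F340245) (tt N110510 (iv0 F471916)) (tt N83191 (iv2 F331992)) (tt N53378 F332034) (tt N45683 (iv4 D162721)) (tt N55340 (iv5 F307371)) (tt N53376 F360162) (tt N76027 F256955))
theorem Q79491 : ∀ i, i < 79491 → P i := stepQ 79490 Q79490 (allL N79490 (tt N46904 F334402) (tt N46909 F334403) (tt N46907 F334404) (tt N45687 F256957) (tt N53376 F344056) (tt N80733 (iv5 F345766)) (tt N45683 (iv6 D162722)) (tt N46906 F334405))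
theorem Q79492 : ∀ i, i < 79492 → P i := stepQ 79491 Q79491 (allL N79491 (tt N79773 (iv1 F344678)) (tt N45684 (iv0 D162723)) (tt N67034 F264118) (tt N70494 F348588) (tt N72343 (iv4 F314344)) (tt N80363 (iv5 F264116)) (tt N65368 (iv6 F264117)) (tt N80381 (iv7 F264189)))
theorem Q79493 : ∀ i, i < 79493 → P i := stepQ 79492 Q79492 (allL N79492 (tt N45684 (iv1 D162724)) (tt N79773 (iv0 F344677)) (tt N80381 F264187) (tt N90505 (iv3 F389870)) (tt N80523 (iv4 F268175)) (tt N75206 (iv5 F344685)) (tt N52796 (iv6 F300721)) (tt N67034 F264121))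
theorem Q79494 : ∀ i, i < 79494 → P i := stepQ 79493 Q79493 (allL N79493 (tt N72412 (iv1 F363371)) (tt N73990 (iv0 F363368)) (tt N70106 (iv2 F363370)) (tt N45685 (iv3 D162729)) (tt N90168 (iv4 F388757)) (tt N52816 F363369) (tt N100902 (iv6 F430894)) (tt N70108 F363372))
theorem Q79495 : ∀ i, i < 79495 → P i := stepQ 79494 Q79494 (allL N79494 (tt N65178 (iv1 F318024)) (tt N64546 (iv0 F318021)) (tt N65180 F334413) (tt N64566 (iv3 F334412)) (tt N45685 (iv4 D162730)) (tt N109626 (iv5 F467808)) (tt N77205 (iv6 F334415)) (tt N65177 F334414))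
theorem Q79496 : ∀ i, i < 79496 → P i := stepQ 79495 Q79495 (allL N79495 (tt N54244 F334416) (tt N47943 F334417) (tt N54241 F334418) (tt N100902 (iv3 F430893)) (tt N77205 F334419) (tt N81107 F343420) (tt N45685 (iv6 D162731)) (tt N54242 F334420))
theorem Q79497 : ∀ i, i < 79497 → P i := stepQ 79496 Q79496 (allL N79496 (tt N80597 (iv1 F356164)) (tt N89905 (iv0 F387938)) (tt N89925 F388017) (tt N53382 F334410) (tt N80934 F272498) (tt N45686 (iv5 D162735)) (tt N72427 (iv6 F357396)) (tt N89926 (iv7 F388020)))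
theorem Q79498 : ∀ i, i < 79498 → P i := stepQ 79497 Q79497 (allL N79497 (tt N47951 F334393) (tt N45687 (iv0 D162737)) (tt N54238 F334394) (tt N47067 F334395) (tt N48713 F334396) (tt N109287 (iv5 F466193)) (tt N47065 F334397) (tt N54335 F351751))
theorem Q79499 : ∀ i, i < 79499 → P i := stepQ 79498 Q79498 (allL N79498 (tt N45687 (iv1 D162738)) (tt N47951 F334398) (tt N54335 (iv2 F351752)) (tt N101017 (iv3 F431286)) (tt N77423 F351791) (tt N109288 (iv5 F466202)) (tt N77412 (iv6 F351792)) (tt N54238 (iv7 F351753)))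
theorem Q79500 : ∀ i, i < 79500 → P i := stepQ 79499 Q79499 (allL N79499 (tt N111579 D214821) (tt N111580 D214822) (tt N99708 (iv2 F425841)) (tt N45688 (iv3 D162745)) (tt N101119 (iv4 F431768)) (tt N71049 F359250) (tt N71050 (iv6 F359249)) (tt N100692 (iv7 F430043)))
theorem Q79501 : ∀ i, i < 79501 → P i := stepQ 79500 Q79500 (allL N79500 (tt N53903 (iv1 F356141)) (tt N52818 (iv0 F300484)) (tt N78642 (iv2 F302219)) (tt N62688 (iv3 F348126)) (tt N109626 (iv4 F467807)) (tt N45691 (iv5 D162751)) (tt N111581 D214823) (tt N78644 (iv7 F302224)))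
theorem Q79502 : ∀ i, i < 79502 → P i := stepQ 79501 Q79501 (allL N79501 (tt N55538 F358398) (tt N91849 F394674) (tt N91847 (iv2 F394668)) (tt N45692 (iv3 D162753)) (tt N55431 (iv4 F358397)) (tt N68101 (iv5 F348124)) (tt N79869 (iv6 F366942)) (tt N78641 (iv7 F358408)))
theorem Q79503 : ∀ i, i < 79503 → P i := stepQ 79502 Q79502 (allL N79502 (tt N52818 (iv1 F300485)) (tt N53903 (iv0 F356140)) (tt N78644 (iv2 F302223)) (tt N68101 F348123) (tt N65179 F356154) (tt N45692 (iv5 D162754)) (tt N68099 (iv6 F348122)) (tt N78642 (iv7 F302220)))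
theorem Q79504 : ∀ i, i < 79504 → P i := stepQ 79503 Q79503 (allL N79503 (tt N100695 (iv1 F430062)) (tt N45693 (iv0 D162756)) (tt N100694 (iv2 F430052)) (tt N81038 (iv3 F378046)) (tt N109290 (iv4 F466215)) (tt N106712 (iv5 F455358)) (tt N81031 F378045) (tt N100693 (iv7 F430055)))
theorem Q79505 : ∀ i, i < 79505 → P i := stepQ 79504 Q79504 (allL N79504 (tt N45693 (iv1 D162757)) (tt N100695 F430063) (tt N100693 F430056) (tt N95366 (iv3 F430057)) (tt N101671 (iv4 F433785)) (tt N111582 D214824) (tt N100723 F445013) (tt N100694 F430054))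
theorem Q79506 : ∀ i, i < 79506 → P i := stepQ 79505 Q79505 (allL N79505 (tt N100694 F430050) (tt N100693 F430045) (tt N45693 (iv2 D162758)) (tt N111577 (iv3 F476982)) (tt N45711 F256985) (tt N111583 D214825) (tt N81171 F366170) (tt N100695 (iv7 F430061)))
theorem Q79507 : ∀ i, i < 79507 → P i := stepQ 79506 Q79506 (allL N79506 (tt N90672 F390473) (tt N111500 (iv0 F476618)) (tt N111583 (iv2 F477013)) (tt N45694 F256986) (tt N111584 D214826) (tt N45693 (iv5 D162759)) (tt N111585 D214827) (tt N100696 (iv7 F430065)))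
theorem Q79508 : ∀ i, i < 79508 → P i := stepQ 79507 Q79507 (allL N79507 (tt N89905 (iv1 F387939)) (tt N80597 (iv0 F344901)) (tt N89926 F388024) (tt N109471 F467140) (tt N45694 (iv4 D162762)) (tt N64450 (iv5 F320204)) (tt N89948 F388077) (tt N89925 F388018))
theorem Q79509 : ∀ i, i < 79509 → P i := stepQ 79508 Q79508 (allL N79508 (tt N111586 D214828) (tt N111587 D214829) (tt N111578 (iv2 F476989)) (tt N111585 (iv3 F477021)) (tt N89948 (iv4 F388078)) (tt N81173 (iv5 F366917)) (tt N45694 (iv6 D162763)) (tt N90572 (iv7 F390144)))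
theorem Q79510 : ∀ i, i < 79510 → P i := stepQ 79509 Q79509 (allL N79509 (tt N47084 F257002) (tt N47082 (iv0 F257004)) (tt N100357 (iv2 F428571)) (tt N45697 (iv3 D162770)) (tt N63590 F256999) (tt N69318 (iv5 F331999)) (tt N66935 F257000) (tt N63586 F257001))
theorem Q79511 : ∀ i, i < 79511 → P i := stepQ 79510 Q79510 (allL N79510 (tt N95774 F409580) (tt N45703 (iv0 D162789)) (tt N95755 (iv2 F409475)) (tt N111588 D214830) (tt N104232 (iv4 F444833)) (tt N95761 (iv5 F409507)) (tt N45925 F359358) (tt N95804 (iv7 F409734)))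
theorem Q79512 : ∀ i, i < 79512 → P i := stepQ 79511 Q79511 (allL N79511 (tt N45703 (iv1 D162790)) (tt N95774 F409579) (tt N95804 (iv2 F409732)) (tt N111090 (iv3 F474611)) (tt N104231 (iv4 F444825)) (tt N95760 (iv5 F409500)) (tt N46149 F359983) (tt N95755 (iv7 F409478)))
theorem Q79513 : ∀ i, i < 79513 → P i := stepQ 79512 Q79512 (allL N79512 (tt N95755 F409480) (tt N95804 (iv0 F409737)) (tt N45703 (iv2 D162791)) (tt N60083 F350672) (tt N79330 (iv4 F360255)) (tt N82214 (iv5 F350671)) (tt N79330 F257073) (tt N95774 (iv7 F409577)))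
theorem Q79514 : ∀ i, i < 79514 → P i := stepQ 79513 Q79513 (allL N79513 (tt N64111 (iv1 F351388)) (tt N64115 (iv0 F348469)) (tt N82214 F350668) (tt N45704 F257074) (tt N99609 (iv4 F425397)) (tt N45703 (iv5 D162792)) (tt N77707 (iv6 F350667)) (tt N79588 (iv7 F257408)))
theorem Q79515 : ∀ i, i < 79515 → P i := stepQ 79514 Q79514 (allL N79514 (tt N81776 (iv1 F276962)) (tt N45705 (iv0 D162799)) (tt N81775 (iv2 F339182)) (tt N104254 F444963) (tt N97534 (iv4 F417289)) (tt N81818 (iv5 F342327)) (tt N65424 (iv6 F360740)) (tt N46673 F333800))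
theorem Q79516 : ∀ i, i < 79516 → P i := stepQ 79515 Q79515 (allL N79515 (tt N81775 (iv1 F276963)) (tt N46673 F333806) (tt N45705 (iv2 D162801)) (tt N47299 (iv3 F320974)) (tt N93620 (iv4 F401301)) (tt N111564 (iv5 F476943)) (tt N47285 F320350) (tt N81776 (iv7 F276961)))
theorem Q79517 : ∀ i, i < 79517 → P i := stepQ 79516 Q79516 (allL N79516 (tt N93621 (iv1 F401309)) (tt N80730 (iv0 F354771)) (tt N93620 F401302) (tt N64030 F257079) (tt N45705 (iv4 D162802)) (tt N80736 (iv5 F355907)) (tt N78741 F257080) (tt N81734 (iv7 F276717)))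
theorem Q79518 : ∀ i, i < 79518 → P i := stepQ 79517 Q79517 (allL N79517 (tt N47797 F345841) (tt N47802 F345842) (tt N111564 (iv2 F476940)) (tt N45706 F257081) (tt N106390 (iv4 F454256)) (tt N45705 (iv5 D162803)) (tt N77704 F366508) (tt N54325 (iv7 F333803)))
theorem Q79519 : ∀ i, i < 79519 → P i := stepQ 79518 Q79518 (allL N79518 (tt N47299 F322729) (tt N45707 (iv0 D162805)) (tt N78738 (iv2 F360735)) (tt N60082 (iv3 F360736)) (tt N96430 (iv4 F412489)) (tt N65080 (iv5 F360733)) (tt N52830 F360734) (tt N60077 (iv7 F360737)))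
theorem Q79520 : ∀ i, i < 79520 → P i := stepQ 79519 Q79519 (allL N79519 (tt N45707 (iv1 D162806)) (tt N47299 F322728) (tt N60077 (iv2 F360738)) (tt N95765 (iv3 F409531)) (tt N96425 (iv4 F412468)) (tt N65081 (iv5 F346531)) (tt N60075 F346488) (tt N78738 F360739))
theorem Q79521 : ∀ i, i < 79521 → P i := stepQ 79520 Q79520 (allL N79520 (tt N78738 (iv1 F257088)) (tt N60077 (iv0 F349923)) (tt N45707 (iv2 D162807)) (tt N81776 (iv3 F276959)) (tt N111373 (iv4 F476060)) (tt N93809 F401994) (tt N47293 F322730) (tt N47299 F322731))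
theorem Q79522 : ∀ i, i < 79522 → P i := stepQ 79521 Q79521 (allL N79521 (tt N93792 F401904) (tt N93810 F402011) (tt N93809 (iv2 F401996)) (tt N45708 F257091) (tt N101665 (iv4 F433760)) (tt N45707 (iv5 D162809)) (tt N47318 F322732) (tt N47327 F322733))
theorem Q79523 : ∀ i, i < 79523 → P i := stepQ 79522 Q79522 (allL N79522 (tt N95765 (iv1 F409535)) (tt N95766 F409539) (tt N66500 F349867) (tt N45709 (iv3 D162812)) (tt N81013 F272998) (tt N57410 (iv5 F349866)) (tt N111589 D214831) (tt N66506 F349868))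
theorem Q79524 : ∀ i, i < 79524 → P i := stepQ 79523 Q79523 (allL N79523 (tt N58407 (iv1 F354192)) (tt N111590 D214832) (tt N100699 (iv2 F430078)) (tt N91399 F392987) (tt N45709 (iv4 D162813)) (tt N55253 (iv5 F392988)) (tt N91527 (iv6 F393490)) (tt N100697 (iv7 F430070)))
theorem Q79525 : ∀ i, i < 79525 → P i := stepQ 79524 Q79524 (allL N79524 (tt N79567 F345788) (tt N47792 F345789) (tt N79568 F345786) (tt N57410 F345790) (tt N72431 F345791) (tt N45709 (iv5 D162814)) (tt N77700 F354057) (tt N66505 (iv7 F360765)))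
theorem Q79526 : ∀ i, i < 79526 → P i := stepQ 79525 Q79525 (allL N79525 (tt N75284 F345792) (tt N46254 F345795) (tt N75386 (iv2 F345797)) (tt N111589 (iv3 F477039)) (tt N91527 (iv4 F393489)) (tt N79337 (iv5 F336620)) (tt N45709 (iv6 D162815)) (tt N75385 F345796))
theorem Q79527 : ∀ i, i < 79527 → P i := stepQ 79526 Q79526 (allL N79526 (tt N111590 (iv1 F477045)) (tt N58407 (iv0 F365764)) (tt N100697 (iv2 F430067)) (tt N80843 F354795) (tt N45710 (iv4 D162818)) (tt N55252 F359598) (tt N69314 F336600) (tt N100699 (iv7 F430080)))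
theorem Q79528 : ∀ i, i < 79528 → P i := stepQ 79527 Q79527 (allL N79527 (tt N47792 F336594) (tt N79567 F336595) (tt N66505 (iv2 F360763)) (tt N100400 (iv3 F428806)) (tt N77278 (iv4 F331988)) (tt N45710 (iv5 D162819)) (tt N69316 (iv6 F334213)) (tt N79568 F345787))
theorem Q79529 : ∀ i, i < 79529 → P i := stepQ 79528 Q79528 (allL N79528 (tt N75303 (iv1 F333975)) (tt N75422 (iv0 F333976)) (tt N45712 F257095) (tt N81830 (iv3 F277117)) (tt N91720 (iv4 F394164)) (tt N45711 (iv5 D162821)) (tt N103091 F440023) (tt N75420 (iv7 F336610)))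
theorem Q79530 : ∀ i, i < 79530 → P i := stepQ 79529 Q79529 (allL N79529 (tt N91719 (iv1 F394162)) (tt N91718 F394166) (tt N91720 (iv2 F394163)) (tt N77680 (iv3 F349428)) (tt N45712 (iv4 D162825)) (tt N91747 (iv5 F394285)) (tt N91722 (iv6 F394176)) (tt N48940 F329244))
theorem Q79531 : ∀ i, i < 79531 → P i := stepQ 79530 Q79530 (allL N79530 (tt N66881 (iv1 F323393)) (tt N45713 (iv0 D162827)) (tt N68013 (iv2 F340270)) (tt N91304 (iv3 F392633)) (tt N84551 (iv4 F369668)) (tt N67996 F340268) (tt N45811 F340269) (tt N74395 (iv7 F340271)))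
theorem Q79532 : ∀ i, i < 79532 → P i := stepQ 79531 Q79531 (allL N79531 (tt N46605 F302998) (tt N47330 (iv0 F311612)) (tt N46310 F316580) (tt N79336 F316581) (tt N45716 (iv4 D162838)) (tt N46307 (iv5 F318945)) (tt N79479 F316582) (tt N47333 F310095))
theorem Q79533 : ∀ i, i < 79533 → P i := stepQ 79532 Q79532 (allL N79532 (tt N81735 F325523) (tt N81733 F325524) (tt N47759 F325525) (tt N45717 (iv3 D162840)) (tt N58690 (iv4 F358846)) (tt N46298 F325526) (tt N58681 F358844) (tt N46297 F325527))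
theorem Q79534 : ∀ i, i < 79534 → P i := stepQ 79533 Q79533 (allL N79533 (tt N82539 (iv1 F282150)) (tt N82538 F282149) (tt N65986 (iv2 F326408)) (tt N46298 F319349) (tt N46311 F319350) (tt N45717 (iv5 D162841)) (tt N79741 F319351) (tt N46295 (iv7 F321370)))
theorem Q79535 : ∀ i, i < 79535 → P i := stepQ 79534 Q79534 (allL N79534 (tt N45718 (iv1 D162844)) (tt N76020 F257117) (tt N81685 (iv2 F357091)) (tt N109465 (iv3 F467102)) (tt N63857 (iv4 F335260)) (tt N67041 F332085) (tt N81681 F335262) (tt N82526 F357094))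
theorem Q79536 : ∀ i, i < 79536 → P i := stepQ 79535 Q79535 (allL N79535 (tt N74741 (iv1 F326481)) (tt N64030 (iv0 F302530)) (tt N45736 F257152) (tt N60763 F347426) (tt N45721 (iv4 D162858)) (tt N81673 F347427) (tt N55595 (iv6 F347425)) (tt N81717 (iv7 F299407)))
theorem Q79537 : ∀ i, i < 79537 → P i := stepQ 79536 Q79536 (allL N79536 (tt N111591 D214833) (tt N101986 (iv0 F435230)) (tt N97843 (iv2 F418470)) (tt N45726 (iv3 D162894)) (tt N79292 (iv4 F366962)) (tt N92119 F395830) (tt N105873 (iv6 F452124)) (tt N100683 (iv7 F429996)))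
theorem Q79538 : ∀ i, i < 79538 → P i := stepQ 79537 Q79537 (allL N79537 (tt N46585 F299607) (tt N87920 F381129) (tt N79548 F341704) (tt N92119 (iv3 F395829)) (tt N66838 F341684) (tt N45726 (iv5 D162895)) (tt N92118 F395827) (tt N87919 (iv7 F381123)))
theorem Q79539 : ∀ i, i < 79539 → P i := stepQ 79538 Q79538 (allL N79538 (tt N47770 F363191) (tt N47685 F363192) (tt N47766 F363193) (tt N45728 (iv3 D162898)) (tt N101648 (iv4 F433684)) (tt N64064 F363194) (tt N108959 (iv6 F464673)) (tt N47767 F363195))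
theorem Q79540 : ∀ i, i < 79540 → P i := stepQ 79539 Q79539 (allL N79539 (tt N87920 (iv1 F381130)) (tt N46585 F299606) (tt N87919 F381121) (tt N64064 F341679) (tt N47920 F341680) (tt N45728 (iv5 D162899)) (tt N47918 F341681) (tt N79548 F341682))
theorem Q79541 : ∀ i, i < 79541 → P i := stepQ 79540 Q79540 (allL N79540 (tt N102043 (iv1 F435484)) (tt N103435 (iv0 F441624)) (tt N103437 (iv2 F441629)) (tt N45730 (iv3 D162904)) (tt N80600 (iv4 F306131)) (tt N111592 D214834) (tt N81732 (iv6 F364150)) (tt N80443 F345580))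
theorem Q79542 : ∀ i, i < 79542 → P i := stepQ 79541 Q79541 (allL N79541 (tt N64102 F257223) (tt N74650 (iv0 F357897)) (tt N78742 (iv2 F299713)) (tt N111592 (iv3 F477057)) (tt N47115 F341676) (tt N45730 (iv5 D162905)) (tt N97429 (iv6 F416858)) (tt N76121 (iv7 F341696)))
theorem Q79543 : ∀ i, i < 79543 → P i := stepQ 79542 Q79542 (allL N79542 (tt N45731 (iv1 D162907)) (tt N100685 F430008) (tt N100684 F429999) (tt N102035 (iv3 F435461)) (tt N101669 (iv4 F433778)) (tt N97499 (iv5 F417119)) (tt N80447 (iv6 F417118)) (tt N97498 F417117))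
theorem Q79544 : ∀ i, i < 79544 → P i := stepQ 79543 Q79543 (allL N79543 (tt N97498 (iv1 F417115)) (tt N100684 F430000) (tt N45731 (iv2 D162908)) (tt N58140 (iv3 F365217)) (tt N45745 F257224) (tt N58137 F365216) (tt N101965 (iv6 F435116)) (tt N100685 (iv7 F430006)))
theorem Q79545 : ∀ i, i < 79545 → P i := stepQ 79544 Q79544 (allL N79544 (tt N102353 F436865) (tt N111593 D214835) (tt N58137 (iv2 F365214)) (tt N45732 F257225) (tt N58154 (iv4 F365215)) (tt N45731 (iv5 D162909)) (tt N58135 F365213) (tt N100686 (iv7 F430013)))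
theorem Q79546 : ∀ i, i < 79546 → P i := stepQ 79545 Q79545 (allL N79545 (tt N102091 (iv1 F435676)) (tt N85677 (iv0 F373497)) (tt N101965 (iv2 F435113)) (tt N45733 F257226) (tt N45747 F257227) (tt N111594 D214836) (tt N45731 (iv6 D162910)) (tt N82435 (iv7 F280898)))
theorem Q79547 : ∀ i, i < 79547 → P i := stepQ 79546 Q79546 (allL N79546 (tt N46307 F319345) (tt N46311 F319346) (tt N46309 F330140) (tt N105347 (iv3 F449808)) (tt N45732 (iv4 D162913)) (tt N66835 (iv5 F311611)) (tt N60371 (iv6 F360211)) (tt N46308 F330141))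
theorem Q79548 : ∀ i, i < 79548 → P i := stepQ 79547 Q79547 (allL N79547 (tt N65886 (iv1 F357904)) (tt N65897 (iv0 F357903)) (tt N65728 F360840) (tt N111594 (iv3 F477069)) (tt N102189 (iv4 F436100)) (tt N45733 (iv5 D162916)) (tt N65724 (iv6 F360841)) (tt N65894 (iv7 F360842)))
theorem Q79549 : ∀ i, i < 79549 → P i := stepQ 79548 Q79548 (allL N79548 (tt N52373 F341702) (tt N80447 (iv0 F341706)) (tt N79537 (iv2 F341704)) (tt N45736 (iv3 D162928)) (tt N45748 F257259) (tt N64086 F341703) (tt N95848 (iv6 F409938)) (tt N79539 (iv7 F341682)))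
theorem Q79550 : ∀ i, i < 79550 → P i := stepQ 79549 Q79549 (allL N79549 (tt N54135 (iv1 F332044)) (tt N54134 (iv0 F350946)) (tt N54137 (iv2 F310339)) (tt N45741 (iv3 D162940)) (tt N54306 (iv4 F312017)) (tt N57479 F257302) (tt N56112 F257303) (tt N54133 (iv7 F350957)))
theorem Q79551 : ∀ i, i < 79551 → P i := stepQ 79550 Q79550 (allL N79550 (tt N111094 F474635) (tt N102788 (iv0 F438658)) (tt N95768 (iv2 F409546)) (tt N45743 (iv3 D162948)) (tt N81772 F276949) (tt N109911 (iv5 F469175)) (tt N80010 (iv6 F363107)) (tt N100688 (iv7 F430023)))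
theorem Q79552 : ∀ i, i < 79552 → P i := stepQ 79551 Q79551 (allL N79551 (tt N111595 D214837) (tt N102022 F435395) (tt N95816 F409779) (tt N97770 (iv3 F418241)) (tt N45743 (iv4 D162949)) (tt N97765 F418217) (tt N106944 (iv6 F456388)) (tt N100689 (iv7 F430028)))
theorem Q79553 : ∀ i, i < 79553 → P i := stepQ 79552 Q79552 (allL N79552 (tt N79577 F345640) (tt N47790 F345641) (tt N79578 (iv2 F348422)) (tt N109911 (iv3 F469174)) (tt N91618 (iv4 F393787)) (tt N45743 (iv5 D162950)) (tt N107942 (iv6 F460396)) (tt N67049 F348421))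
theorem Q79554 : ∀ i, i < 79554 → P i := stepQ 79553 Q79553 (allL N79553 (tt N45852 F342739) (tt N45856 F342740) (tt N45854 F342741) (tt N80010 F342742) (tt N106944 (iv4 F456387)) (tt N79372 F342743) (tt N45743 (iv6 D162951)) (tt N45853 F342744))
theorem Q79555 : ∀ i, i < 79555 → P i := stepQ 79554 Q79554 (allL N79554 (tt N102022 F435394) (tt N111595 F477078) (tt N100689 (iv2 F430026)) (tt N65562 (iv3 F348408)) (tt N45744 (iv4 D162954)) (tt N111596 D214838) (tt N82533 F357896) (tt N95816 (iv7 F409777)))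
theorem Q79556 : ∀ i, i < 79556 → P i := stepQ 79555 Q79555 (allL N79555 (tt N47790 F348423) (tt N79577 F348424) (tt N67049 F348419) (tt N95770 (iv3 F409556)) (tt N91621 (iv4 F393792)) (tt N45744 (iv5 D162955)) (tt N66922 (iv6 F348420)) (tt N79578 (iv7 F348418)))
theorem Q79557 : ∀ i, i < 79557 → P i := stepQ 79556 Q79556 (allL N79556 (tt N45748 F341873) (tt N82018 F341874) (tt N67050 F341875) (tt N47344 F341876) (tt N82533 F341877) (tt N46605 F341878) (tt N45744 (iv6 D162956)) (tt N47334 F341879))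
theorem Q79558 : ∀ i, i < 79558 → P i := stepQ 79557 Q79557 (allL N79557 (tt N80237 (iv1 F341638)) (tt N81787 (iv0 F341639)) (tt N45746 F257322) (tt N75420 (iv3 F336606)) (tt N86966 (iv4 F377877)) (tt N45745 (iv5 D162957)) (tt N55030 (iv6 F355173)) (tt N81830 (iv7 F277119)))
theorem Q79559 : ∀ i, i < 79559 → P i := stepQ 79558 Q79558 (allL N79558 (tt N58054 (iv1 F321499)) (tt N45848 F329022) (tt N45747 F257323) (tt N82434 (iv3 F280868)) (tt N101965 (iv4 F435114)) (tt N91713 (iv5 F394147)) (tt N45745 (iv6 D162958)) (tt N60365 (iv7 F324603)))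
theorem Q79560 : ∀ i, i < 79560 → P i := stepQ 79559 Q79559 (allL N79559 (tt N81830 (iv1 F277120)) (tt N45746 (iv0 D162959)) (tt N80237 F341869) (tt N108702 (iv3 F463618)) (tt N55052 F352018) (tt N45757 F341870) (tt N82154 (iv6 F341872)) (tt N81787 F341871))
theorem Q79561 : ∀ i, i < 79561 → P i := stepQ 79560 Q79560 (allL N79560 (tt N45746 (iv1 D162960)) (tt N81830 F277122) (tt N81787 F341866) (tt N92067 (iv3 F395603)) (tt N55053 F390202) (tt N45758 F341867) (tt N111597 D214839) (tt N80237 F341868))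
theorem Q79562 : ∀ i, i < 79562 → P i := stepQ 79561 Q79561 (allL N79561 (tt N60365 (iv1 F324600)) (tt N45747 (iv0 D162963)) (tt N58054 F341857) (tt N58064 F341858) (tt N60408 F341859) (tt N75451 (iv5 F341865)) (tt N46246 F341861) (tt N45848 F341860))
theorem Q79563 : ∀ i, i < 79563 → P i := stepQ 79562 Q79562 (allL N79562 (tt N82018 (iv1 F277845)) (tt N45748 (iv0 D162973)) (tt N47334 F334232) (tt N80003 F334233) (tt N45756 F334234) (tt N47330 F334235) (tt N45853 F334236) (tt N67050 F341677))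
theorem Q79564 : ∀ i, i < 79564 → P i := stepQ 79563 Q79563 (allL N79563 (tt N102134 (iv1 F435891)) (tt N102132 (iv0 F435883)) (tt N108936 (iv2 F464565)) (tt N45749 (iv3 D162978)) (tt N82532 (iv4 F282126)) (tt N89935 (iv5 F388044)) (tt N80129 (iv6 F261688)) (tt N80927 (iv7 F272481)))
theorem Q79565 : ∀ i, i < 79565 → P i := stepQ 79564 Q79564 (allL N79564 (tt N75418 (iv1 F336333)) (tt N45750 (iv0 D162982)) (tt N81793 F353258) (tt N90673 (iv3 F390474)) (tt N102256 (iv4 F436402)) (tt N90672 (iv5 F390472)) (tt N51655 (iv6 F353257)) (tt N80261 F353256))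
theorem Q79566 : ∀ i, i < 79566 → P i := stepQ 79565 Q79565 (allL N79565 (tt N81793 (iv1 F277034)) (tt N80261 (iv0 F353260)) (tt N45750 (iv2 D162984)) (tt N108936 (iv3 F464566)) (tt N45752 F257340) (tt N85624 (iv5 F373256)) (tt N49872 (iv6 F328300)) (tt N75418 (iv7 F336335)))
theorem Q79567 : ∀ i, i < 79567 → P i := stepQ 79566 Q79566 (allL N79566 (tt N93938 F402492) (tt N93934 (iv0 F402481)) (tt N85624 (iv2 F373253)) (tt N45751 F257341) (tt N91487 (iv4 F393338)) (tt N45750 (iv5 D162985)) (tt N48914 F357426) (tt N81794 (iv7 F277037)))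
theorem Q79568 : ∀ i, i < 79568 → P i := stepQ 79567 Q79567 (allL N79567 (tt N79527 (iv1 F336595)) (tt N79524 (iv0 F345788)) (tt N45753 F257361) (tt N81789 (iv3 F277000)) (tt N110298 (iv4 F470912)) (tt N45752 (iv5 D163002)) (tt N48106 F313849) (tt N75419 (iv7 F336329)))
theorem Q79569 : ∀ i, i < 79569 → P i := stepQ 79568 Q79568 (allL N79568 (tt N45753 (iv1 D163004)) (tt N75419 (iv0 F336325)) (tt N79524 (iv2 F345786)) (tt N102774 (iv3 F438587)) (tt N86382 (iv4 F376025)) (tt N64100 (iv5 F362183)) (tt N86380 F376019) (tt N79527 (iv7 F345787)))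
theorem Q79570 : ∀ i, i < 79570 → P i := stepQ 79569 Q79569 (allL N79569 (tt N101747 F455698) (tt N110300 F470924) (tt N110298 F470913) (tt N48101 F313850) (tt N45753 (iv4 D163005)) (tt N106792 (iv5 F455697)) (tt N48099 F313851) (tt N73247 (iv7 F324988)))
theorem Q79571 : ∀ i, i < 79571 → P i := stepQ 79570 Q79570 (allL N79570 (tt N81788 (iv1 F276998)) (tt N45755 (iv0 D163018)) (tt N80222 F357781) (tt N97611 F417594) (tt N82465 F357782) (tt N102353 (iv5 F436863)) (tt N45868 F357783) (tt N81790 (iv7 F357784)))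
theorem Q79572 : ∀ i, i < 79572 → P i := stepQ 79571 Q79571 (allL N79571 (tt N45755 (iv1 D163019)) (tt N81788 F276997) (tt N81790 (iv2 F357786)) (tt N92085 (iv3 F395680)) (tt N82470 F336523) (tt N111593 (iv5 F477064)) (tt N92083 F395675) (tt N80222 F357785))
theorem Q79573 : ∀ i, i < 79573 → P i := stepQ 79572 Q79572 (allL N79572 (tt N80222 (iv1 F338778)) (tt N81790 F277004) (tt N45755 (iv2 D163020)) (tt N92074 (iv3 F395632)) (tt N45759 F257377) (tt N93619 (iv5 F401298)) (tt N80052 (iv6 F366911)) (tt N81788 (iv7 F276996)))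
theorem Q79574 : ∀ i, i < 79574 → P i := stepQ 79573 Q79573 (allL N79573 (tt N108957 (iv1 F464657)) (tt N60453 (iv0 F417098)) (tt N93619 (iv2 F401296)) (tt N45756 F257378) (tt N93743 (iv4 F401739)) (tt N45755 (iv5 D163021)) (tt N103438 (iv6 F441636)) (tt N81791 (iv7 F277008)))
theorem Q79575 : ∀ i, i < 79575 → P i := stepQ 79574 Q79574 (allL N79574 (tt N103321 F441133) (tt N103915 (iv0 F443351)) (tt N87853 (iv2 F380853)) (tt N103438 (iv3 F441634)) (tt N45853 F359800) (tt N51696 F359799) (tt N45756 (iv6 D163026)) (tt N106944 (iv7 F456389)))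
theorem Q79576 : ∀ i, i < 79576 → P i := stepQ 79575 Q79575 (allL N79575 (tt N81797 (iv1 F403545)) (tt N81811 (iv0 F362464)) (tt N81810 F351048) (tt N45757 (iv3 D163034)) (tt N79207 (iv4 F329866)) (tt N108702 (iv5 F463620)) (tt N45882 F329757) (tt N81786 F338329))
theorem Q79577 : ∀ i, i < 79577 → P i := stepQ 79576 Q79576 (allL N79576 (tt N65957 (iv1 F338328)) (tt N65956 F365326) (tt N65959 F329758) (tt N97589 (iv3 F417496)) (tt N45757 (iv4 D163035)) (tt N102118 (iv5 F435823)) (tt N45883 F329759) (tt N65952 F338327))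
theorem Q79578 : ∀ i, i < 79578 → P i := stepQ 79577 Q79577 (allL N79577 (tt N79555 (iv1 F348424)) (tt N79552 (iv0 F345640)) (tt N45760 F257393) (tt N75419 (iv3 F336328)) (tt N103198 (iv4 F440525)) (tt N45759 (iv5 D163043)) (tt N102643 (iv6 F438014)) (tt N81789 (iv7 F277001)))
theorem Q79579 : ∀ i, i < 79579 → P i := stepQ 79578 Q79578 (allL N79578 (tt N45760 (iv1 D163046)) (tt N81789 F277002) (tt N79552 F348422) (tt N97078 (iv3 F415367)) (tt N111598 D214840) (tt N64091 (iv5 F348414)) (tt N103153 (iv6 F440325)) (tt N79555 F348418))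
theorem Q79580 : ∀ i, i < 79580 → P i := stepQ 79579 Q79579 (allL N79579 (tt N54360 F357910) (tt N74030 (iv0 F366323)) (tt N103198 (iv2 F440523)) (tt N62480 (iv3 F366320)) (tt N45760 (iv4 D163047)) (tt N111599 D214841) (tt N62478 F366319) (tt N81792 (iv7 F277011)))
theorem Q79581 : ∀ i, i < 79581 → P i := stepQ 79580 Q79580 (allL N79580 (tt N81812 F277091) (tt N80980 (iv0 F431802)) (tt N100701 (iv2 F430085)) (tt N111600 D214842) (tt N45761 (iv4 D163061)) (tt N111600 (iv5 F477111)) (tt N109239 (iv6 F465934)) (tt N65438 F339263))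
theorem Q79582 : ∀ i, i < 79582 → P i := stepQ 79581 Q79581 (allL N79581 (tt N77777 (iv1 F339265)) (tt N45781 F339266) (tt N77778 (iv2 F353967)) (tt N109240 (iv3 F465938)) (tt N111601 D214843) (tt N45761 (iv5 D163062)) (tt N109277 (iv6 F466144)) (tt N65439 F339264))
theorem Q79583 : ∀ i, i < 79583 → P i := stepQ 79582 Q79582 (allL N79582 (tt N80602 (iv1 F353976)) (tt N64985 (iv0 F353983)) (tt N45763 F257402) (tt N80993 F351053) (tt N45762 (iv4 D163069)) (tt N80992 (iv5 F351056)) (tt N82001 (iv6 F277778)) (tt N80603 F353974))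
theorem Q79584 : ∀ i, i < 79584 → P i := stepQ 79583 Q79583 (allL N79583 (tt N81781 (iv1 F341247)) (tt N81779 (iv0 F339277)) (tt N45764 F257403) (tt N57316 (iv3 F353994)) (tt N94209 (iv4 F403711)) (tt N45762 (iv5 D163070)) (tt N48111 F316251) (tt N66260 F353960))
theorem Q79585 : ∀ i, i < 79585 → P i := stepQ 79584 Q79584 (allL N79584 (tt N101119 F431771) (tt N111602 D214844) (tt N80992 F351057) (tt N47786 F257405) (tt N95368 (iv4 F408000)) (tt N45763 (iv5 D163073)) (tt N59486 (iv6 F360137)) (tt N72899 F360139))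
theorem Q79586 : ∀ i, i < 79586 → P i := stepQ 79585 Q79585 (allL N79585 (tt N66260 (iv1 F353961)) (tt N45764 (iv0 D163074)) (tt N81781 (iv2 F341245)) (tt N110297 (iv3 F470906)) (tt N111603 D214845) (tt N65065 F341244) (tt N79381 F364287) (tt N81779 (iv7 F341246)))
theorem Q79587 : ∀ i, i < 79587 → P i := stepQ 79586 Q79586 (allL N79586 (tt N45764 (iv1 D163075)) (tt N66260 (iv0 F353964)) (tt N81779 (iv2 F353971)) (tt N80809 (iv3 F353973)) (tt N93693 F401585) (tt N65066 (iv5 F353880)) (tt N80796 F353970) (tt N81781 F353972))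
theorem Q79588 : ∀ i, i < 79588 → P i := stepQ 79587 Q79587 (allL N79587 (tt N111604 D214846) (tt N92442 F403713) (tt N94209 (iv2 F403709)) (tt N94353 (iv3 F404106)) (tt N45764 (iv4 D163076)) (tt N111605 D214847) (tt N48112 F316252) (tt N100702 (iv7 F430093)))
theorem Q79589 : ∀ i, i < 79589 → P i := stepQ 79588 Q79588 (allL N79588 (tt N100680 (iv1 F429983)) (tt N48121 F357027) (tt N100709 F430120) (tt N45765 (iv3 D163078)) (tt N110022 (iv4 F469591)) (tt N64089 F257407) (tt N79387 F350669) (tt N79513 F257408))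
theorem Q79590 : ∀ i, i < 79590 → P i := stepQ 79589 Q79589 (allL N79589 (tt N45772 F359730) (tt N45775 F359731) (tt N82061 (iv2 F342295)) (tt N45766 (iv3 D163080)) (tt N94646 (iv4 F405348)) (tt N58783 (iv5 F317713)) (tt N63542 F342294) (tt N74739 (iv7 F321759)))
theorem Q79591 : ∀ i, i < 79591 → P i := stepQ 79590 Q79590 (allL N79590 (tt N102262 (iv1 F436439)) (tt N45770 F351046) (tt N90560 (iv2 F390104)) (tt N45767 (iv3 D163091)) (tt N81803 (iv4 F277078)) (tt N90555 (iv5 F390085)) (tt N60360 (iv6 F363877)) (tt N78759 F363876))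
theorem Q79592 : ∀ i, i < 79592 → P i := stepQ 79591 Q79591 (allL N79591 (tt N82483 (iv1 F351038)) (tt N82482 F362314) (tt N82485 (iv2 F338807)) (tt N111606 D214848) (tt N45767 (iv4 D163092)) (tt N101670 (iv5 F433780)) (tt N59904 (iv6 F351036)) (tt N78761 F351037))
theorem Q79593 : ∀ i, i < 79593 → P i := stepQ 79592 Q79592 (allL N79592 (tt N45783 F338801) (tt N82491 (iv0 F338808)) (tt N74244 F338802) (tt N90555 (iv3 F390084)) (tt N71023 F338803) (tt N45767 (iv5 D163093)) (tt N66285 (iv6 F338805)) (tt N72133 F338804))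
theorem Q79594 : ∀ i, i < 79594 → P i := stepQ 79593 Q79593 (allL N79593 (tt N78670 F336522) (tt N81622 F336524) (tt N45769 F257416) (tt N65069 F353267) (tt N45768 (iv4 D163095)) (tt N64103 F353268) (tt N72095 F366245) (tt N79594 (iv7 F353253)))
theorem Q79595 : ∀ i, i < 79595 → P i := stepQ 79594 Q79594 (allL N79594 (tt N75398 (iv1 F353252)) (tt N47654 F353251) (tt N64103 (iv2 F353266)) (tt N47142 F257420) (tt N48372 F351055) (tt N45769 (iv5 D163100)) (tt N55483 F352060) (tt N79593 F353253))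
theorem Q79596 : ∀ i, i < 79596 → P i := stepQ 79595 Q79595 (allL N79595 (tt N45770 (iv1 D163123)) (tt N102262 F436440) (tt N78759 F357778) (tt N82465 F357779) (tt N81804 (iv4 F358041)) (tt N89218 (iv5 F385650)) (tt N45891 F357780) (tt N90560 (iv7 F390105)))
theorem Q79597 : ∀ i, i < 79597 → P i := stepQ 79596 Q79596 (allL N79596 (tt N90560 (iv1 F390106)) (tt N78759 F353283) (tt N45770 (iv2 D163124)) (tt N91858 (iv3 F394733)) (tt N47761 F341721) (tt N106221 (iv5 F453621)) (tt N91857 F394731) (tt N102262 (iv7 F436438)))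
theorem Q79598 : ∀ i, i < 79598 → P i := stepQ 79597 Q79597 (allL N79597 (tt N66495 F354779) (tt N54339 F354484) (tt N106221 (iv2 F453620)) (tt N45772 F257444) (tt N78355 (iv4 F352332)) (tt N45770 (iv5 D163126)) (tt N57394 F352330) (tt N66468 (iv7 F352334)))
theorem Q79599 : ∀ i, i < 79599 → P i := stepQ 79598 Q79598 (allL N79598 (tt N46794 F352337) (tt N111092 (iv0 F474626)) (tt N91857 (iv2 F394725)) (tt N45773 F257445) (tt N90427 (iv4 F389604)) (tt N80765 F334603) (tt N45770 (iv6 D163127)) (tt N102279 (iv7 F436527)))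
theorem Q79600 : ∀ i, i < 79600 → P i := stepQ 79599 Q79599 (allL N79599 (tt N96249 (iv1 F411739)) (tt N58363 (iv0 F364887)) (tt N72667 (iv2 F364885)) (tt N56906 (iv3 F364886)) (tt N45773 F257449) (tt N56905 F332172) (tt N45771 (iv6 D163133)) (tt N58194 F332164))
theorem Q79601 : ∀ i, i < 79601 → P i := stepQ 79600 Q79600 (allL N79600 (tt N45775 (iv1 F257456)) (tt N45772 (iv0 D163135)) (tt N74739 (iv2 F359733)) (tt N100709 F430123) (tt N94645 (iv4 F405342)) (tt N58780 F359729) (tt N79416 (iv6 F359734)) (tt N82061 F359732))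
theorem Q79602 : ∀ i, i < 79602 → P i := stepQ 79601 Q79601 (allL N79601 (tt N108940 F464587) (tt N111607 D214849) (tt N101836 (iv2 F434580)) (tt N78356 F359728) (tt N45772 (iv4 D163137)) (tt N99469 F424725) (tt N101830 F434557) (tt N102263 (iv7 F436444)))
theorem Q79603 : ∀ i, i < 79603 → P i := stepQ 79602 Q79602 (allL N79602 (tt N80104 F332165) (tt N45773 (iv0 D163140)) (tt N64235 F332166) (tt N80109 F332167) (tt N57579 F332168) (tt N95841 (iv5 F409891)) (tt N45913 F332169) (tt N80105 F332170))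
theorem Q79604 : ∀ i, i < 79604 → P i := stepQ 79603 Q79603 (allL N79603 (tt N91858 F394736) (tt N45774 (iv0 D163145)) (tt N65433 F353262) (tt N100703 F430094) (tt N80261 F353263) (tt N111608 D214850) (tt N45905 F353264) (tt N102256 (iv7 F436403)))
theorem Q79605 : ∀ i, i < 79605 → P i := stepQ 79604 Q79604 (allL N79604 (tt N65433 (iv1 F394738)) (tt N102256 F436405) (tt N45774 (iv2 D163147)) (tt N102262 (iv3 F436434)) (tt N91859 (iv4 F394741)) (tt N106821 (iv5 F455831)) (tt N102280 (iv6 F436533)) (tt N91858 (iv7 F394737)))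
theorem Q79606 : ∀ i, i < 79606 → P i := stepQ 79605 Q79605 (allL N79605 (tt N81076 F418065) (tt N110297 (iv0 F470909)) (tt N106821 (iv2 F455828)) (tt N45775 F257461) (tt N95938 (iv4 F410347)) (tt N45774 (iv5 D163149)) (tt N95937 F410345) (tt N101834 F434578))
theorem Q79607 : ∀ i, i < 79607 → P i := stepQ 79606 Q79606 (allL N79606 (tt N111607 (iv1 F477136)) (tt N108940 F464588) (tt N102263 (iv2 F436441)) (tt N73431 F359767) (tt N45775 (iv4 D163154)) (tt N108995 (iv5 F464819)) (tt N73429 (iv6 F359766)) (tt N101836 (iv7 F434583)))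
theorem Q79608 : ∀ i, i < 79608 → P i := stepQ 79607 Q79607 (allL N79607 (tt N102267 (iv1 F436460)) (tt N95772 (iv0 F409565)) (tt N45779 F257470) (tt N72845 F351860) (tt N45776 (iv4 D163172)) (tt N72844 (iv5 F351858)) (tt N95759 (iv6 F409497)) (tt N102252 (iv7 F436382)))
theorem Q79609 : ∀ i, i < 79609 → P i := stepQ 79608 Q79608 (allL N79608 (tt N90555 F390086) (tt N89218 (iv0 F385649)) (tt N80377 F342300) (tt N45777 (iv3 D163175)) (tt N82869 (iv4 F342323)) (tt N46855 F342301) (tt N46856 F342302) (tt N90558 F390098))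
theorem Q79610 : ∀ i, i < 79610 → P i := stepQ 79609 Q79609 (allL N79609 (tt N111609 D214851) (tt N111610 D214852) (tt N102265 (iv2 F436451)) (tt N78350 F342322) (tt N45777 (iv4 D163176)) (tt N108698 (iv5 F463605)) (tt N83074 (iv6 F342321)) (tt N95791 (iv7 F409670)))
theorem Q79611 : ∀ i, i < 79611 → P i := stepQ 79610 Q79610 (allL N79610 (tt N63656 F342311) (tt N76148 F342303) (tt N102266 (iv2 F436454)) (tt N46856 F342304) (tt N83074 F342312) (tt N46853 F342305) (tt N45777 (iv6 D163178)) (tt N81538 F342306))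
theorem Q79612 : ∀ i, i < 79612 → P i := stepQ 79611 Q79611 (allL N79611 (tt N111608 (iv1 F477143)) (tt N109240 (iv0 F465941)) (tt N90196 (iv2 F388849)) (tt N45778 (iv3 D163180)) (tt N49022 F354188) (tt N60093 (iv5 F354190)) (tt N48944 F354189) (tt N102264 (iv7 F436447)))
theorem Q79613 : ∀ i, i < 79613 → P i := stepQ 79612 Q79612 (allL N79612 (tt N111610 (iv1 F477148)) (tt N111609 F477146) (tt N95791 (iv2 F409668)) (tt N85892 (iv3 F374339)) (tt N45778 (iv4 D163181)) (tt N108993 (iv5 F464809)) (tt N85890 (iv6 F374330)) (tt N102265 (iv7 F436452)))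
theorem Q79614 : ∀ i, i < 79614 → P i := stepQ 79613 Q79613 (allL N79613 (tt N102252 (iv1 F436384)) (tt N45779 (iv0 D163184)) (tt N102267 F436463) (tt N74009 F366415) (tt N95773 (iv4 F409572)) (tt N92406 F404838) (tt N78079 (iv6 F366416)) (tt N95772 F409567))
theorem Q79615 : ∀ i, i < 79615 → P i := stepQ 79614 Q79614 (allL N79614 (tt N45779 (iv1 D163185)) (tt N102252 (iv0 F436383)) (tt N95772 (iv2 F409562)) (tt N90006 (iv3 F409568)) (tt N60081 (iv4 F403551)) (tt N90005 F409569) (tt N99337 (iv6 F424160)) (tt N102267 (iv7 F436461)))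
theorem Q79616 : ∀ i, i < 79616 → P i := stepQ 79615 Q79615 (allL N79615 (tt N54167 F366553) (tt N66905 (iv0 F360583)) (tt N77474 F366791) (tt N45779 (iv3 D163186)) (tt N45784 F257475) (tt N108228 (iv5 F461575)) (tt N82156 (iv6 F366771)) (tt N77476 F366128))
theorem Q79617 : ∀ i, i < 79617 → P i := stepQ 79616 Q79616 (allL N79616 (tt N94647 (iv1 F405357)) (tt N94523 F404837) (tt N72844 F351859) (tt N108228 (iv3 F461577)) (tt N92409 (iv4 F396925)) (tt N45779 (iv5 D163187)) (tt N111611 D214853) (tt N102268 (iv7 F436466)))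
theorem Q79618 : ∀ i, i < 79618 → P i := stepQ 79617 Q79617 (allL N79617 (tt N105153 (iv1 F449030)) (tt N105151 F449017) (tt N95759 (iv2 F409495)) (tt N82156 F366770) (tt N45780 F257476) (tt N111612 D214854) (tt N45779 (iv6 D163188)) (tt N105150 (iv7 F449006)))
theorem Q79619 : ∀ i, i < 79619 → P i := stepQ 79618 Q79618 (allL N79618 (tt N60060 F346927) (tt N45780 (iv0 D163190)) (tt N95757 F409489) (tt N90520 (iv3 F389937)) (tt N96161 (iv4 F411296)) (tt N65865 (iv5 F352282)) (tt N68527 (iv6 F330813)) (tt N95758 (iv7 F409492)))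
theorem Q79620 : ∀ i, i < 79620 → P i := stepQ 79619 Q79619 (allL N79619 (tt N45780 (iv1 D163191)) (tt N60060 (iv0 F348492)) (tt N95758 F409494) (tt N102152 (iv3 F435948)) (tt N111613 D214855) (tt N65864 (iv5 F348489)) (tt N78723 F348490) (tt N95757 F409490))
theorem Q79621 : ∀ i, i < 79621 → P i := stepQ 79620 Q79620 (allL N79620 (tt N95758 (iv1 F409491)) (tt N95757 F409488) (tt N60060 F361876) (tt N45786 F257478) (tt N105150 (iv4 F449007)) (tt N45927 F257479) (tt N102261 (iv6 F436432)) (tt N45780 (iv7 D163192)))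
theorem Q79622 : ∀ i, i < 79622 → P i := stepQ 79621 Q79621 (allL N79621 (tt N77778 (iv1 F353968)) (tt N65439 F351013) (tt N45781 (iv2 D163199)) (tt N82491 (iv3 F338782)) (tt N111614 D214856) (tt N47781 F257485) (tt N106164 (iv6 F453407)) (tt N77777 (iv7 F353966)))
theorem Q79623 : ∀ i, i < 79623 → P i := stepQ 79622 Q79622 (allL N79622 (tt N111615 D214857) (tt N74280 (iv0 F463621)) (tt N111614 (iv2 F477156)) (tt N77768 (iv3 F366795)) (tt N45781 (iv4 D163200)) (tt N95579 (iv5 F408731)) (tt N111616 D214858) (tt N77763 F366794))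
theorem Q79624 : ∀ i, i < 79624 → P i := stepQ 79623 Q79623 (allL N79623 (tt N66979 F339293) (tt N111617 D214859) (tt N106164 (iv2 F453404)) (tt N45782 F257486) (tt N111616 (iv4 F477168)) (tt N67765 F339292) (tt N45781 (iv6 D163201)) (tt N63801 F359170))
theorem Q79625 : ∀ i, i < 79625 → P i := stepQ 79624 Q79624 (allL N79624 (tt N108332 (iv1 F462105)) (tt N85732 (iv0 F373713)) (tt N92493 (iv2 F397152)) (tt N45785 (iv3 D163223)) (tt N73326 (iv4 F353518)) (tt N59945 (iv5 F324003)) (tt N63867 F353520) (tt N65390 (iv7 F353476)))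
theorem Q79626 : ∀ i, i < 79626 → P i := stepQ 79625 Q79625 (allL N79625 (tt N60095 (iv1 F321473)) (tt N45787 (iv0 D163230)) (tt N66762 F313788) (tt N109842 (iv3 F468859)) (tt N56084 F313789) (tt N48128 F313790) (tt N73427 (iv6 F341142)) (tt N66763 F313792))
theorem Q79627 : ∀ i, i < 79627 → P i := stepQ 79626 Q79626 (allL N79626 (tt N100715 (iv1 F430158)) (tt N45788 (iv0 D163235)) (tt N100714 (iv2 F430151)) (tt N70084 (iv3 F338710)) (tt N111618 D214860) (tt N111309 (iv5 F475750)) (tt N51642 (iv6 F377940)) (tt N100713 F430147))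
theorem Q79628 : ∀ i, i < 79628 → P i := stepQ 79627 Q79627 (allL N79627 (tt N45788 (iv1 D163236)) (tt N100715 F430159) (tt N100713 (iv2 F430148)) (tt N111619 D214861) (tt N105874 (iv4 F452127)) (tt N104899 (iv5 F447849)) (tt N95392 (iv6 F408091)) (tt N100714 (iv7 F430149)))
theorem Q79629 : ∀ i, i < 79629 → P i := stepQ 79628 Q79628 (allL N79628 (tt N100714 F430154) (tt N100713 F430145) (tt N45788 (iv2 D163237)) (tt N45800 F257515) (tt N85675 (iv4 F373485)) (tt N111620 D214862) (tt N81568 F366961) (tt N100715 (iv7 F430157)))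
theorem Q79630 : ∀ i, i < 79630 → P i := stepQ 79629 Q79629 (allL N79629 (tt N111464 F476464) (tt N111466 (iv0 F476470)) (tt N111620 (iv2 F477184)) (tt N45789 F257516) (tt N111621 D214863) (tt N45788 (iv5 D163238)) (tt N111622 D214864) (tt N79648 (iv7 F257601)))
theorem Q79631 : ∀ i, i < 79631 → P i := stepQ 79630 Q79630 (allL N79630 (tt N111623 D214865) (tt N88043 (iv0 F381564)) (tt N45803 F257518) (tt N111622 (iv3 F477188)) (tt N64127 F257519) (tt N81570 F366960) (tt N45789 (iv6 D163240)) (tt N111624 D214866))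
theorem Q79632 : ∀ i, i < 79632 → P i := stepQ 79631 Q79631 (allL N79631 (tt N79307 (iv1 F257537)) (tt N45790 (iv0 D163246)) (tt N79306 F365837) (tt N58386 (iv3 F365835)) (tt N60471 F365834) (tt N111458 (iv5 F476444)) (tt N54848 (iv6 F365836)) (tt N58468 (iv7 F365838)))
theorem Q79633 : ∀ i, i < 79633 → P i := stepQ 79632 Q79632 (allL N79632 (tt N45790 (iv1 D163247)) (tt N79307 F257541) (tt N58468 (iv2 F365840)) (tt N91525 F393486) (tt N82385 (iv4 F280665)) (tt N111459 (iv5 F476449)) (tt N103396 (iv6 F441429)) (tt N79306 F365839))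
theorem Q79634 : ∀ i, i < 79634 → P i := stepQ 79633 Q79633 (allL N79633 (tt N79306 (iv1 F257542)) (tt N58468 (iv0 F365804)) (tt N45790 (iv2 D163248)) (tt N79302 F257538) (tt N86949 (iv4 F377803)) (tt N111625 D214867) (tt N58416 F362621) (tt N79307 F257539))
theorem Q79635 : ∀ i, i < 79635 → P i := stepQ 79634 Q79634 (allL N79634 (tt N111626 D214868) (tt N104044 F443915) (tt N111625 (iv2 F477202)) (tt N45791 F257543) (tt N110958 F473971) (tt N45790 (iv5 D163249)) (tt N111627 D214869) (tt N79308 F257544))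
theorem Q79636 : ∀ i, i < 79636 → P i := stepQ 79635 Q79635 (allL N79635 (tt N89258 (iv1 F385815)) (tt N90758 F390747) (tt N79305 F257546) (tt N111627 (iv3 F477213)) (tt N52460 (iv4 F365875)) (tt N111628 D214870) (tt N45791 (iv6 D163251)) (tt N90756 (iv7 F390741)))
theorem Q79637 : ∀ i, i < 79637 → P i := stepQ 79636 Q79636 (allL N79636 (tt N54706 F344561) (tt N53445 (iv0 F349518)) (tt N54484 (iv2 F344509)) (tt N96791 F413968) (tt N53402 (iv4 F344572)) (tt N45792 (iv5 D163254)) (tt N111628 (iv6 F477215)) (tt N54486 F344516))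
theorem Q79638 : ∀ i, i < 79638 → P i := stepQ 79637 Q79637 (allL N79637 (tt N51733 (iv1 F326719)) (tt N45796 (iv0 D163264)) (tt N81561 F358411) (tt N111629 D214871) (tt N111630 D214872) (tt N111055 (iv5 F474442)) (tt N78655 (iv6 F358104)) (tt N81560 (iv7 F358412)))
theorem Q79639 : ∀ i, i < 79639 → P i := stepQ 79638 Q79638 (allL N79638 (tt N45796 (iv1 D163265)) (tt N51733 (iv0 F326718)) (tt N81560 (iv2 F358414)) (tt N111631 D214873) (tt N91184 (iv4 F392195)) (tt N111056 (iv5 F474447)) (tt N111632 D214874) (tt N81561 F358413))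
theorem Q79640 : ∀ i, i < 79640 → P i := stepQ 79639 Q79639 (allL N79639 (tt N87990 (iv1 F381402)) (tt N87989 F381401) (tt N87991 (iv2 F381406)) (tt N45797 F257574) (tt N100542 (iv4 F429404)) (tt N45796 (iv5 D163267)) (tt N88000 (iv6 F381432)) (tt N51876 (iv7 F326725)))
theorem Q79641 : ∀ i, i < 79641 → P i := stepQ 79640 Q79640 (allL N79640 (tt N89246 (iv1 F390666)) (tt N90728 F390665) (tt N79324 F257578) (tt N88000 (iv3 F381431)) (tt N79254 F257579) (tt N91001 (iv5 F391525)) (tt N45797 (iv6 D163269)) (tt N87994 (iv7 F381421)))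
theorem Q79642 : ∀ i, i < 79642 → P i := stepQ 79641 Q79641 (allL N79641 (tt N111631 F477225) (tt N111633 D214875) (tt N91928 (iv2 F394987)) (tt N45798 (iv3 D163272)) (tt N82403 F280708) (tt N84184 (iv5 F368452)) (tt N51671 F344664) (tt N100718 (iv7 F430169)))
theorem Q79643 : ∀ i, i < 79643 → P i := stepQ 79642 Q79642 (allL N79642 (tt N95411 (iv1 F408137)) (tt N94888 (iv0 F406253)) (tt N95363 (iv2 F407994)) (tt N45799 (iv3 D163275)) (tt N82487 (iv4 F281182)) (tt N111634 D214876) (tt N59798 F344709) (tt N87818 (iv7 F380649)))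
theorem Q79644 : ∀ i, i < 79644 → P i := stepQ 79643 Q79643 (allL N79643 (tt N46328 F257588) (tt N79322 F257589) (tt N79323 F257590) (tt N111634 (iv3 F477232)) (tt N87210 (iv4 F378772)) (tt N45799 (iv5 D163276)) (tt N87209 F378771) (tt N51830 (iv7 F344658)))
theorem Q79645 : ∀ i, i < 79645 → P i := stepQ 79644 Q79644 (allL N79644 (tt N59810 (iv1 F344705)) (tt N87814 F380631) (tt N87815 (iv2 F380632)) (tt N59798 (iv3 F344708)) (tt N60090 (iv4 F344696)) (tt N73706 (iv5 F361852)) (tt N45799 (iv6 D163277)) (tt N51670 (iv7 F344647)))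
theorem Q79646 : ∀ i, i < 79646 → P i := stepQ 79645 Q79645 (allL N79645 (tt N80263 (iv1 F262409)) (tt N80260 (iv0 F262400)) (tt N45801 F257593) (tt N111620 (iv3 F477185)) (tt N111635 D214877) (tt N45800 (iv5 D163278)) (tt N88068 (iv6 F381662)) (tt N100719 (iv7 F430171)))
theorem Q79647 : ∀ i, i < 79647 → P i := stepQ 79646 Q79646 (allL N79646 (tt N111515 (iv1 F476674)) (tt N111519 (iv0 F476696)) (tt N111635 (iv2 F477237)) (tt N111636 D214878) (tt N45801 (iv4 D163280)) (tt N111637 D214879) (tt N55503 (iv6 F381668)) (tt N100721 (iv7 F430177)))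
theorem Q79648 : ∀ i, i < 79648 → P i := stepQ 79647 Q79647 (allL N79647 (tt N86425 F376177) (tt N51838 (iv0 F362493)) (tt N88068 (iv2 F381666)) (tt N45803 F257596) (tt N55503 F381667) (tt N111070 (iv5 F474521)) (tt N45801 (iv6 D163281)) (tt N88069 (iv7 F381670)))
theorem Q79649 : ∀ i, i < 79649 → P i := stepQ 79648 Q79648 (allL N79648 (tt N111638 D214880) (tt N111639 D214881) (tt N111640 D214882) (tt N45802 (iv3 D163286)) (tt N111636 (iv4 F477243)) (tt N64121 F257600) (tt N111641 D214883) (tt N79629 F257601))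
theorem Q79650 : ∀ i, i < 79650 → P i := stepQ 79649 Q79649 (allL N79649 (tt N111642 D214884) (tt N111643 D214885) (tt N64127 F257602) (tt N111641 (iv3 F477272)) (tt N45803 F257603) (tt N111644 D214886) (tt N45802 (iv6 D163287)) (tt N111645 D214887))
theorem Q79651 : ∀ i, i < 79651 → P i := stepQ 79650 Q79650 (allL N79650 (tt N111624 (iv1 F477201)) (tt N45803 (iv0 D163288)) (tt N111623 F477193) (tt N102327 F436747) (tt N111646 D214888) (tt N104035 (iv5 F443892)) (tt N88168 F394769) (tt N88043 F443893))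
theorem Q79652 : ∀ i, i < 79652 → P i := stepQ 79651 Q79651 (allL N79651 (tt N45803 (iv1 D163289)) (tt N111624 F477200) (tt N88043 (iv2 F381562)) (tt N51885 F381417) (tt N111647 D214889) (tt N88348 (iv5 F382683)) (tt N51883 F381418) (tt N111623 (iv7 F477195)))
theorem Q79653 : ∀ i, i < 79653 → P i := stepQ 79652 Q79652 (allL N79652 (tt N88043 (iv1 F381565)) (tt N111623 F477196) (tt N111624 (iv2 F477197)) (tt N88069 F381673) (tt N111645 (iv4 F477284)) (tt N109765 (iv5 F468511)) (tt N100727 (iv6 F430185)) (tt N45803 (iv7 D163291)))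
theorem Q79654 : ∀ i, i < 79654 → P i := stepQ 79653 Q79653 (allL N79653 (tt N75389 (iv1 F340641)) (tt N60105 (iv0 F340636)) (tt N82026 F353483) (tt N45806 F257631) (tt N79850 (iv4 F258625)) (tt N76650 F353493) (tt N45804 (iv6 D163322)) (tt N82012 (iv7 F353482)))
theorem Q79655 : ∀ i, i < 79655 → P i := stepQ 79654 Q79654 (allL N79654 (tt N45808 (iv1 F257638)) (tt N45805 (iv0 D163324)) (tt N91525 F393483) (tt N58387 F363504) (tt N58816 (iv4 F325699)) (tt N111513 (iv5 F476659)) (tt N104252 (iv6 F444950)) (tt N58466 (iv7 F363503)))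
theorem Q79656 : ∀ i, i < 79656 → P i := stepQ 79655 Q79655 (allL N79655 (tt N45805 (iv1 D163325)) (tt N45808 F257634) (tt N58466 (iv2 F363501)) (tt N79306 F281152) (tt N64261 F258254) (tt N111514 (iv5 F476666)) (tt N83778 (iv6 F364553)) (tt N91525 (iv7 F393485)))
theorem Q79657 : ∀ i, i < 79657 → P i := stepQ 79656 Q79656 (allL N79656 (tt N75452 F356617) (tt N46238 F356618) (tt N55589 (iv2 F356623)) (tt N76650 (iv3 F347813)) (tt N51678 F356619) (tt N45806 (iv5 D163332)) (tt N75283 (iv6 F328756)) (tt N82013 (iv7 F356625)))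
theorem Q79658 : ∀ i, i < 79658 → P i := stepQ 79657 Q79657 (allL N79657 (tt N46173 (iv1 F258062)) (tt N46169 F257969) (tt N45807 (iv2 D163336)) (tt N79848 (iv3 F258616)) (tt N79666 (iv4 F302185)) (tt N59534 (iv5 F326796)) (tt N95764 (iv6 F409528)) (tt N59533 (iv7 F327520)))
theorem Q79659 : ∀ i, i < 79659 → P i := stepQ 79658 Q79658 (allL N79658 (tt N95826 (iv1 F409827)) (tt N95825 (iv0 F409823)) (tt N95764 (iv2 F409526)) (tt N45809 F257645) (tt N80280 (iv4 F262477)) (tt N111648 D214890) (tt N45807 (iv6 D163337)) (tt N111649 D214891))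
theorem Q79660 : ∀ i, i < 79660 → P i := stepQ 79659 Q79659 (allL N79659 (tt N85714 F373632) (tt N46167 (iv0 F257646)) (tt N85718 (iv2 F373649)) (tt N45808 (iv3 D163338)) (tt N80278 (iv4 F262473)) (tt N111650 D214892) (tt N96806 (iv6 F414044)) (tt N85717 F373645))
theorem Q79661 : ∀ i, i < 79661 → P i := stepQ 79660 Q79660 (allL N79660 (tt N49916 (iv1 F358134)) (tt N49915 F358130) (tt N49917 (iv2 F358131)) (tt N111650 (iv3 F477305)) (tt N84616 (iv4 F369872)) (tt N45808 (iv5 D163339)) (tt N84592 (iv6 F369801)) (tt N49891 F358133))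
theorem Q79662 : ∀ i, i < 79662 → P i := stepQ 79661 Q79661 (allL N79661 (tt N45809 (iv1 D163342)) (tt N82014 F351993) (tt N46347 F351994) (tt N60365 F351995) (tt N87814 (iv4 F380627)) (tt N103148 (iv5 F440301)) (tt N66881 F351996) (tt N82434 F351997))
theorem Q79663 : ∀ i, i < 79663 → P i := stepQ 79662 Q79662 (allL N79662 (tt N81832 F361263) (tt N82153 (iv0 F355174)) (tt N82154 F352005) (tt N111648 (iv3 F477296)) (tt N95334 (iv4 F407892)) (tt N45809 (iv5 D163343)) (tt N80237 (iv6 F262275)) (tt N82155 (iv7 F352004)))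
theorem Q79664 : ∀ i, i < 79664 → P i := stepQ 79663 Q79663 (allL N79663 (tt N46347 F352000) (tt N82434 F352001) (tt N82014 F351999) (tt N111649 (iv3 F477300)) (tt N54949 (iv4 F352006)) (tt N82155 F352003) (tt N46251 F352002) (tt N45809 (iv7 D163344)))
theorem Q79665 : ∀ i, i < 79665 → P i := stepQ 79664 Q79664 (allL N79664 (tt N104124 F444305) (tt N60010 F359628) (tt N72110 F359625) (tt N45811 (iv3 D163350)) (tt N80074 F302179) (tt N67976 F359632) (tt N91304 (iv6 F392634)) (tt N72101 (iv7 F359631)))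
theorem Q79666 : ∀ i, i < 79666 → P i := stepQ 79665 Q79665 (allL N79665 (tt N96738 F413700) (tt N83778 F376765) (tt N68015 F364488) (tt N84553 (iv3 F369675)) (tt N45811 (iv4 D163351)) (tt N52066 F364244) (tt N84551 F369672) (tt N88190 (iv7 F382101)))
theorem Q79667 : ∀ i, i < 79667 → P i := stepQ 79666 Q79666 (allL N79666 (tt N45918 F302182) (tt N45921 F302183) (tt N46337 F302184) (tt N45812 (iv3 D163355)) (tt N79657 F302185) (tt N68006 F334310) (tt N75380 F354849) (tt N46338 F302186))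
theorem Q79668 : ∀ i, i < 79668 → P i := stepQ 79667 Q79667 (allL N79667 (tt N80213 (iv1 F262134)) (tt N45815 (iv0 D163410)) (tt N80212 (iv2 F262248)) (tt N104779 (iv3 F447226)) (tt N58277 (iv4 F346875)) (tt N88279 F435367) (tt N111651 D214893) (tt N80211 (iv7 F262250)))
theorem Q79669 : ∀ i, i < 79669 → P i := stepQ 79668 Q79668 (allL N79668 (tt N45815 (iv1 D163411)) (tt N80213 F262136) (tt N80211 F262249) (tt N80233 (iv3 F262246)) (tt N58278 (iv4 F346872)) (tt N88280 (iv5 F382447)) (tt N101083 (iv6 F431593)) (tt N80212 F262247))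
theorem Q79670 : ∀ i, i < 79670 → P i := stepQ 79669 Q79669 (allL N79669 (tt N80212 (iv1 F262135)) (tt N80211 F262130) (tt N45815 (iv2 D163412)) (tt N80210 (iv3 F262092)) (tt N80573 (iv4 F268468)) (tt N83607 F358842) (tt N65987 (iv6 F358840)) (tt N80213 (iv7 F262133)))
theorem Q79671 : ∀ i, i < 79671 → P i := stepQ 79670 Q79670 (allL N79670 (tt N83606 F327187) (tt N83605 F327188) (tt N83607 F327189) (tt N45816 F257693) (tt N82820 F327190) (tt N45815 (iv5 D163413)) (tt N68781 (iv6 F340296)) (tt N46296 F327192))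
theorem Q79672 : ∀ i, i < 79672 → P i := stepQ 79671 Q79671 (allL N79671 (tt N56557 F358273) (tt N56552 F358255) (tt N52664 (iv2 F293085)) (tt N68781 F348725) (tt N49207 F257695) (tt N65990 F349603) (tt N45816 (iv6 D163415)) (tt N79738 (iv7 F348726)))
theorem Q79673 : ∀ i, i < 79673 → P i := stepQ 79672 Q79672 (allL N79672 (tt N51607 (iv1 F297305)) (tt N45879 (iv0 F257706)) (tt N45934 F257703) (tt N79468 F257704) (tt N97671 (iv4 F417865)) (tt N79709 (iv5 F257771)) (tt N45817 (iv6 D163421)) (tt N79709 (iv7 F257908)))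
theorem Q79674 : ∀ i, i < 79674 → P i := stepQ 79673 Q79673 (allL N79673 (tt N45818 (iv1 D163423)) (tt N85675 F373489) (tt N85673 F373477) (tt N102055 (iv3 F435535)) (tt N91954 (iv4 F395115)) (tt N83602 (iv5 F358378)) (tt N91953 (iv6 F395113)) (tt N85674 (iv7 F373478)))
theorem Q79675 : ∀ i, i < 79675 → P i := stepQ 79674 Q79674 (allL N79674 (tt N85674 (iv1 F373483)) (tt N85673 F373469) (tt N45818 (iv2 D163424)) (tt N45832 F257707) (tt N100715 (iv4 F430156)) (tt N52674 (iv5 F367036)) (tt N103413 (iv6 F441509)) (tt N85675 (iv7 F373487)))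
theorem Q79676 : ∀ i, i < 79676 → P i := stepQ 79675 Q79675 (allL N79675 (tt N102395 F437048) (tt N74658 (iv0 F362870)) (tt N103413 (iv2 F441507)) (tt N45819 F257708) (tt N100716 (iv4 F430161)) (tt N98034 (iv5 F419249)) (tt N45818 (iv6 D163425)) (tt N82382 F366963))
theorem Q79677 : ∀ i, i < 79677 → P i := stepQ 79676 Q79676 (allL N79676 (tt N82569 (iv1 F282823)) (tt N45822 (iv0 D163430)) (tt N82568 F367214) (tt N101542 (iv3 F433320)) (tt N111652 D214894) (tt N51556 F367210) (tt N86947 (iv6 F377809)) (tt N82567 (iv7 F367211)))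
theorem Q79678 : ∀ i, i < 79678 → P i := stepQ 79677 Q79677 (allL N79677 (tt N45822 (iv1 D163431)) (tt N82569 F282825) (tt N82567 (iv2 F367212)) (tt N103337 (iv3 F441191)) (tt N81571 (iv4 F276104)) (tt N91223 (iv5 F392331)) (tt N103335 F441187) (tt N82568 (iv7 F367213)))
theorem Q79679 : ∀ i, i < 79679 → P i := stepQ 79678 Q79678 (allL N79678 (tt N82568 (iv1 F282824)) (tt N82567 F282819) (tt N45822 (iv2 D163432)) (tt N82572 (iv3 F282838)) (tt N54850 F257722) (tt N86672 (iv5 F376757)) (tt N96746 (iv6 F413747)) (tt N82569 (iv7 F282822)))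
theorem Q79680 : ∀ i, i < 79680 → P i := stepQ 79679 Q79679 (allL N79679 (tt N84459 (iv1 F376285)) (tt N68827 (iv0 F350483)) (tt N86672 (iv2 F376756)) (tt N45823 F257723) (tt N86459 F376283) (tt N45822 (iv5 D163433)) (tt N68822 F367034) (tt N52650 (iv7 F294063)))
theorem Q79681 : ∀ i, i < 79681 → P i := stepQ 79680 Q79680 (allL N79680 (tt N88356 (iv1 F382724)) (tt N68821 (iv0 F373555)) (tt N52637 (iv2 F294054)) (tt N68822 (iv3 F367033)) (tt N49998 F257726) (tt N65773 F366006) (tt N45823 (iv6 D163435)) (tt N111653 D214895))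
theorem Q79682 : ∀ i, i < 79682 → P i := stepQ 79681 Q79681 (allL N79681 (tt N83567 (iv1 F287815)) (tt N45825 (iv0 D163439)) (tt N82387 F334345) (tt N83779 F289084) (tt N96983 (iv4 F414919)) (tt N97705 (iv5 F417987)) (tt N55591 (iv6 F334344)) (tt N83566 (iv7 F334376)))
theorem Q79683 : ∀ i, i < 79683 → P i := stepQ 79682 Q79682 (allL N79682 (tt N82387 (iv1 F334375)) (tt N83566 F287811) (tt N45825 (iv2 D163441)) (tt N83569 (iv3 F287860)) (tt N79835 (iv4 F334377)) (tt N111654 D214896) (tt N96978 F414894) (tt N83567 (iv7 F287814)))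
theorem Q79684 : ∀ i, i < 79684 → P i := stepQ 79683 Q79683 (allL N79683 (tt N86675 F376770) (tt N102077 (iv0 F435620)) (tt N111654 (iv2 F477323)) (tt N45826 F257729) (tt N111655 D214897) (tt N45825 (iv5 D163442)) (tt N111656 D214898) (tt N52709 (iv7 F294072)))
theorem Q79685 : ∀ i, i < 79685 → P i := stepQ 79684 Q79684 (allL N79684 (tt N111657 D214899) (tt N111658 D214900) (tt N52695 (iv2 F294070)) (tt N111656 (iv3 F477330)) (tt N48530 F257731) (tt N102420 (iv5 F437159)) (tt N45826 (iv6 D163444)) (tt N111659 D214901))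
theorem Q79686 : ∀ i, i < 79686 → P i := stepQ 79685 Q79685 (allL N79685 (tt N111660 D214902) (tt N111661 D214903) (tt N52710 F354385) (tt N45828 F257733) (tt N49986 F354386) (tt N45827 (iv5 D163449)) (tt N45828 F354387) (tt N52694 (iv7 F294068)))
theorem Q79687 : ∀ i, i < 79687 → P i := stepQ 79686 Q79686 (allL N79686 (tt N46189 F354380) (tt N82346 F354381) (tt N65405 F354382) (tt N45829 F257734) (tt N64446 F257735) (tt N45829 F354383) (tt N45827 (iv6 D163450)) (tt N80411 F354384))
theorem Q79688 : ∀ i, i < 79688 → P i := stepQ 79687 Q79687 (allL N79687 (tt N46343 (iv1 F258227)) (tt N45920 (iv0 F258182)) (tt N45980 F257738) (tt N85729 (iv3 F373688)) (tt N45830 (iv4 D163454)) (tt N45905 F257740) (tt N95788 (iv6 F409654)) (tt N46342 F257739))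
theorem Q79689 : ∀ i, i < 79689 → P i := stepQ 79688 Q79688 (allL N79688 (tt N79734 (iv1 F257869)) (tt N46294 F257741) (tt N79737 F257877) (tt N103284 (iv3 F440980)) (tt N83577 (iv4 F370194)) (tt N45830 (iv5 D163455)) (tt N111662 D214904) (tt N79736 F257874))
theorem Q79690 : ∀ i, i < 79690 → P i := stepQ 79689 Q79689 (allL N79689 (tt N101965 F435118) (tt N82435 (iv0 F409657)) (tt N85677 (iv2 F373494)) (tt N97484 (iv3 F417042)) (tt N95788 F409655) (tt N111663 D214905) (tt N45830 (iv6 D163456)) (tt N102091 (iv7 F435677)))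
theorem Q79691 : ∀ i, i < 79691 → P i := stepQ 79690 Q79690 (allL N79690 (tt N83776 F289082) (tt N83779 (iv0 F376763)) (tt N102076 F435613) (tt N45831 (iv3 D163457)) (tt N85725 (iv4 F373670)) (tt N86673 F376762) (tt N97116 (iv6 F415512)) (tt N85676 (iv7 F373492)))
theorem Q79692 : ∀ i, i < 79692 → P i := stepQ 79691 Q79691 (allL N79691 (tt N46294 F257742) (tt N79734 (iv0 F257868)) (tt N79736 F257873) (tt N86673 (iv3 F376761)) (tt N83578 (iv4 F358961)) (tt N45831 (iv5 D163458)) (tt N102068 F435581) (tt N79737 (iv7 F257875)))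
theorem Q79693 : ∀ i, i < 79693 → P i := stepQ 79692 Q79692 (allL N79692 (tt N46243 F373665) (tt N82016 F373666) (tt N82019 (iv2 F362483)) (tt N97116 (iv3 F415511)) (tt N85724 (iv4 F373662)) (tt N97115 F415509) (tt N45831 (iv6 D163459)) (tt N82020 (iv7 F362485)))
theorem Q79694 : ∀ i, i < 79694 → P i := stepQ 79693 Q79693 (allL N79693 (tt N80221 (iv1 F262196)) (tt N68828 (iv0 F341796)) (tt N45833 F257743) (tt N52674 F367037) (tt N111637 (iv4 F477253)) (tt N45832 (iv5 D163460)) (tt N68763 F339678) (tt N69284 (iv7 F347523)))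
theorem Q79695 : ∀ i, i < 79695 → P i := stepQ 79694 Q79694 (allL N79694 (tt N69284 (iv1 F347525)) (tt N45833 (iv0 D163462)) (tt N80221 F262193) (tt N56569 (iv3 F358281)) (tt N81580 (iv4 F341802)) (tt N45868 F262194) (tt N81579 F341810) (tt N68828 (iv7 F341800)))
theorem Q79696 : ∀ i, i < 79696 → P i := stepQ 79695 Q79695 (allL N79695 (tt N45833 (iv1 D163463)) (tt N69284 (iv0 F347524)) (tt N68828 (iv2 F341798)) (tt N68711 F343679) (tt N111664 D214906) (tt N45869 F257746) (tt N68710 (iv6 F343688)) (tt N80221 (iv7 F262191)))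
theorem Q79697 : ∀ i, i < 79697 → P i := stepQ 79696 Q79696 (allL N79696 (tt N111665 D214907) (tt N97641 (iv0 F417736)) (tt N111637 (iv2 F477249)) (tt N52337 (iv3 F367174)) (tt N45833 (iv4 D163464)) (tt N111635 (iv5 F477238)) (tt N87602 F379862) (tt N85678 (iv7 F373500)))
theorem Q79698 : ∀ i, i < 79698 → P i := stepQ 79697 Q79697 (allL N79697 (tt N56565 F349639) (tt N68819 F399280) (tt N68763 F349641) (tt N45837 F257747) (tt N87602 (iv4 F379861)) (tt N56534 (iv5 F349640)) (tt N45833 (iv6 D163465)) (tt N68766 (iv7 F347528)))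
theorem Q79699 : ∀ i, i < 79699 → P i := stepQ 79698 Q79698 (allL N79698 (tt N97705 (iv1 F417986)) (tt N97691 (iv0 F417917)) (tt N97707 (iv2 F417995)) (tt N45835 (iv3 D163470)) (tt N111666 D214908) (tt N45866 F257751) (tt N111667 D214909) (tt N52670 (iv7 F294897)))
theorem Q79700 : ∀ i, i < 79700 → P i := stepQ 79699 Q79699 (allL N79699 (tt N100712 (iv1 F430142)) (tt N100711 (iv0 F430135)) (tt N52669 (iv2 F294905)) (tt N111667 (iv3 F477384)) (tt N49202 F257752) (tt N60563 (iv5 F358959)) (tt N45835 (iv6 D163471)) (tt N100736 (iv7 F430226)))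
theorem Q79701 : ∀ i, i < 79701 → P i := stepQ 79700 Q79700 (allL N79700 (tt N68802 (iv1 F354469)) (tt N68811 (iv0 F354468)) (tt N68810 (iv2 F348770)) (tt N45836 (iv3 D163472)) (tt N81573 (iv4 F276105)) (tt N45867 F257753) (tt N85680 F373540) (tt N52668 (iv7 F294904)))
theorem Q79702 : ∀ i, i < 79702 → P i := stepQ 79701 Q79701 (allL N79701 (tt N103271 F440913) (tt N56661 (iv0 F357664)) (tt N52671 (iv2 F294899)) (tt N85680 F373539) (tt N48524 F257754) (tt N102301 (iv5 F436616)) (tt N45836 (iv6 D163473)) (tt N111668 D214910))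
theorem Q79703 : ∀ i, i < 79703 → P i := stepQ 79702 Q79702 (allL N79702 (tt N52624 (iv1 F332553)) (tt N45837 (iv0 D163474)) (tt N52620 (iv2 F361096)) (tt N111669 D214911) (tt N82949 F332552) (tt N104061 (iv5 F443987)) (tt N56659 (iv6 F363608)) (tt N52621 (iv7 F361099)))
theorem Q79704 : ∀ i, i < 79704 → P i := stepQ 79703 Q79703 (allL N79703 (tt N45837 (iv1 D163475)) (tt N52624 F361101) (tt N52621 F361100) (tt N56658 (iv3 F361103)) (tt N82950 (iv4 F361102)) (tt N103568 (iv5 F442066)) (tt N103201 (iv6 F440544)) (tt N52620 F361098))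
theorem Q79705 : ∀ i, i < 79705 → P i := stepQ 79704 Q79704 (allL N79704 (tt N61745 F363962) (tt N61749 (iv0 F363963)) (tt N52623 F356957) (tt N56534 F349642) (tt N111670 D214912) (tt N45837 (iv5 D163476)) (tt N45840 F257755) (tt N68764 (iv7 F359039)))
theorem Q79706 : ∀ i, i < 79706 → P i := stepQ 79705 Q79705 (allL N79705 (tt N52621 (iv1 F361104)) (tt N52620 F332556) (tt N52624 F332554) (tt N68766 (iv3 F359034)) (tt N52348 (iv4 F332555)) (tt N68764 F359035) (tt N69252 F359033) (tt N45837 (iv7 D163477)))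
theorem Q79707 : ∀ i, i < 79707 → P i := stepQ 79706 Q79706 (allL N79706 (tt N80717 (iv1 F345749)) (tt N80719 (iv0 F333043)) (tt N103431 (iv2 F441600)) (tt N45838 (iv3 D163478)) (tt N45858 F299561) (tt N105931 (iv5 F452400)) (tt N81734 F299562) (tt N79371 (iv7 F320979)))
theorem Q79708 : ∀ i, i < 79708 → P i := stepQ 79707 Q79707 (allL N79707 (tt N102528 (iv1 F437523)) (tt N103357 (iv0 F441263)) (tt N70618 (iv2 F333487)) (tt N70733 (iv3 F333486)) (tt N45840 (iv4 D163484)) (tt N70755 F333485) (tt N111670 (iv6 F477403)) (tt N103414 (iv7 F441514)))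
theorem Q79709 : ∀ i, i < 79709 → P i := stepQ 79708 Q79708 (allL N79708 (tt N103914 (iv1 F443347)) (tt N103335 (iv0 F441188)) (tt N111671 D214913) (tt N45842 (iv3 D163489)) (tt N97626 (iv4 F417660)) (tt N103312 (iv5 F441095)) (tt N97625 F417658) (tt N105873 (iv7 F452125)))
theorem Q79710 : ∀ i, i < 79710 → P i := stepQ 79709 Q79709 (allL N79709 (tt N45845 (iv1 F257772)) (tt N45843 (iv0 D163491)) (tt N59941 (iv2 F324477)) (tt N85738 (iv3 F373745)) (tt N82355 (iv4 F333465)) (tt N79672 F257771) (tt N52250 (iv6 F296058)) (tt N79672 F257908))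
theorem Q79711 : ∀ i, i < 79711 → P i := stepQ 79710 Q79710 (allL N79710 (tt N103322 F441135) (tt N111672 D214914) (tt N111673 D214915) (tt N45844 (iv3 D163495)) (tt N93440 (iv4 F400750)) (tt N103311 (iv5 F441092)) (tt N47767 F363254) (tt N105872 (iv7 F452121)))
theorem Q79712 : ∀ i, i < 79712 → P i := stepQ 79711 Q79711 (allL N79711 (tt N45846 (iv1 D163499)) (tt N79806 (iv0 F258429)) (tt N65421 F261299) (tt N46169 (iv3 F257779)) (tt N82486 (iv4 F281179)) (tt N82429 (iv5 F280842)) (tt N80008 F342069) (tt N82396 (iv7 F280693)))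
theorem Q79713 : ∀ i, i < 79713 → P i := stepQ 79712 Q79712 (allL N79712 (tt N82396 (iv1 F280694)) (tt N65421 F258468) (tt N45846 (iv2 D163500)) (tt N57862 (iv3 F326780)) (tt N57874 (iv4 F341846)) (tt N47652 F257781) (tt N57861 (iv6 F359831)) (tt N79806 (iv7 F258421)))
theorem Q79714 : ∀ i, i < 79714 → P i := stepQ 79713 Q79713 (allL N79713 (tt N58063 (iv1 F341854)) (tt N58062 (iv0 F344743)) (tt N57861 F341851) (tt N45848 F257784) (tt N57872 (iv4 F341849)) (tt N94051 (iv5 F402993)) (tt N45846 (iv6 D163501)) (tt N58064 F341852))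
theorem Q79715 : ∀ i, i < 79715 → P i := stepQ 79714 Q79714 (allL N79714 (tt N45847 (iv1 D163502)) (tt N45850 F257785) (tt N79782 (iv2 F258256)) (tt N82571 F282831) (tt N79781 F258255) (tt N97640 (iv5 F417729)) (tt N103915 (iv6 F443354)) (tt N80286 (iv7 F262504)))
theorem Q79716 : ∀ i, i < 79716 → P i := stepQ 79715 Q79715 (allL N79715 (tt N101542 F433321) (tt N101538 (iv0 F433291)) (tt N57956 F341841) (tt N45847 (iv3 D163503)) (tt N58007 (iv4 F341840)) (tt N111527 (iv5 F476747)) (tt N57954 F341842) (tt N82553 F356038))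
theorem Q79717 : ∀ i, i < 79717 → P i := stepQ 79716 Q79716 (allL N79716 (tt N100736 (iv1 F430228)) (tt N52669 F358964) (tt N100712 (iv2 F430138)) (tt N111527 (iv3 F476745)) (tt N52659 (iv4 F358965)) (tt N45847 (iv5 D163504)) (tt N111674 D214916) (tt N100711 (iv7 F430134)))
theorem Q79718 : ∀ i, i < 79718 → P i := stepQ 79717 Q79717 (allL N79717 (tt N102764 F438539) (tt N65303 (iv0 F358996)) (tt N60366 (iv2 F336628)) (tt N94051 (iv3 F402991)) (tt N82789 F360195) (tt N45848 (iv5 D163508)) (tt N75422 (iv6 F334026)) (tt N75451 F363242))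
theorem Q79719 : ∀ i, i < 79719 → P i := stepQ 79718 Q79718 (allL N79718 (tt N52669 F358963) (tt N100736 (iv0 F430227)) (tt N100711 (iv2 F430131)) (tt N95822 (iv3 F409803)) (tt N52660 F367194) (tt N45850 (iv5 D163514)) (tt N111523 (iv6 F476719)) (tt N100712 (iv7 F430140)))
theorem Q79720 : ∀ i, i < 79720 → P i := stepQ 79719 Q79719 (allL N79719 (tt N60484 (iv1 F395541)) (tt N80191 (iv0 F355920)) (tt N75453 (iv2 F355923)) (tt N60119 F355922) (tt N45851 F257792) (tt N82549 F356068) (tt N45850 (iv6 D163515)) (tt N60410 (iv7 F355924)))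
theorem Q79721 : ∀ i, i < 79721 → P i := stepQ 79720 Q79720 (allL N79720 (tt N45856 (iv1 F257796)) (tt N45852 (iv0 D163520)) (tt N45853 F337587) (tt N47339 F337588) (tt N87853 (iv4 F380856)) (tt N47332 F337589) (tt N47334 F337590) (tt N45854 F337591))
theorem Q79722 : ∀ i, i < 79722 → P i := stepQ 79721 Q79721 (allL N79721 (tt N47574 F323690) (tt N47160 F323691) (tt N45855 F257794) (tt N70047 F323692) (tt N47023 F323693) (tt N45852 (iv5 D163522)) (tt N70047 F323694) (tt N47575 F323695))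
theorem Q79723 : ∀ i, i < 79723 → P i := stepQ 79722 Q79722 (allL N79722 (tt N45854 (iv1 F257797)) (tt N45853 F257798) (tt N45856 F257795) (tt N69313 F334265) (tt N103245 (iv4 F440759)) (tt N47575 F322743) (tt N46164 F302532) (tt N45852 (iv7 D163523)))
theorem Q79724 : ∀ i, i < 79724 → P i := stepQ 79723 Q79723 (allL N79723 (tt N95763 (iv1 F409525)) (tt N60017 F361360) (tt N95288 (iv2 F407736)) (tt N45854 (iv3 D163530)) (tt N92113 (iv4 F395799)) (tt N47340 F361361) (tt N60079 F348425) (tt N47339 F361362))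
theorem Q79725 : ∀ i, i < 79725 → P i := stepQ 79724 Q79724 (allL N79724 (tt N103915 (iv1 F443352)) (tt N103321 (iv0 F441132)) (tt N106944 (iv2 F456385)) (tt N92114 (iv3 F395804)) (tt N45854 (iv4 D163531)) (tt N87854 (iv5 F380861)) (tt N95816 (iv6 F409776)) (tt N87853 F380857))
theorem Q79726 : ∀ i, i < 79726 → P i := stepQ 79725 Q79725 (allL N79725 (tt N46371 F342745) (tt N69311 F342746) (tt N79372 F342747) (tt N47340 F342748) (tt N103934 (iv4 F443433)) (tt N45854 (iv5 D163532)) (tt N79366 F342749) (tt N47332 F342750))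
theorem Q79727 : ∀ i, i < 79727 → P i := stepQ 79726 Q79726 (allL N79726 (tt N47575 F323681) (tt N45855 (iv0 D163534)) (tt N47574 F323682) (tt N54302 F323683) (tt N69265 (iv4 F342053)) (tt N80120 F342757) (tt N63706 (iv6 F342756)) (tt N47160 F323684))
theorem Q79728 : ∀ i, i < 79728 → P i := stepQ 79727 Q79727 (allL N79727 (tt N45855 (iv1 D163535)) (tt N47575 F323685) (tt N47160 F323686) (tt N69646 (iv3 F333447)) (tt N47164 F323687) (tt N96963 (iv5 F414813)) (tt N46900 F323688) (tt N47574 F323689))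
theorem Q79729 : ∀ i, i < 79729 → P i := stepQ 79728 Q79728 (allL N79728 (tt N80971 F320316) (tt N80276 (iv0 F330846)) (tt N47292 F320318) (tt N64162 (iv3 F299583)) (tt N45857 (iv4 D163541)) (tt N93422 (iv5 F400685)) (tt N46946 F320319) (tt N79889 (iv7 F258779)))
theorem Q79730 : ∀ i, i < 79730 → P i := stepQ 79729 Q79729 (allL N79729 (tt N47434 F322736) (tt N47435 F322737) (tt N45858 (iv2 D163549)) (tt N47293 F322738) (tt N103431 (iv4 F441601)) (tt N47273 F322739) (tt N81776 (iv6 F276960)) (tt N47272 F322740))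
theorem Q79731 : ∀ i, i < 79731 → P i := stepQ 79730 Q79730 (allL N79730 (tt N47754 (iv1 F299385)) (tt N52350 (iv0 F257861)) (tt N45878 F257858) (tt N111675 D214917) (tt N45864 (iv4 D163590)) (tt N67991 (iv5 F341974)) (tt N65907 (iv6 F327890)) (tt N45881 F257860))
theorem Q79732 : ∀ i, i < 79732 → P i := stepQ 79731 Q79731 (allL N79731 (tt N80218 (iv1 F262174)) (tt N45867 (iv0 D163594)) (tt N80217 (iv2 F412080)) (tt N92079 F430661) (tt N101576 (iv4 F433438)) (tt N88308 F382537) (tt N103428 F441587) (tt N80216 F412079))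
theorem Q79733 : ∀ i, i < 79733 → P i := stepQ 79732 Q79732 (allL N79732 (tt N45867 (iv1 D163595)) (tt N80218 F262176) (tt N80216 F412077) (tt N102344 (iv3 F436824)) (tt N95060 (iv4 F406893)) (tt N88307 F382533) (tt N81670 (iv6 F382534)) (tt N80217 (iv7 F412078)))
theorem Q79734 : ∀ i, i < 79734 → P i := stepQ 79733 Q79733 (allL N79733 (tt N102344 F436827) (tt N103422 (iv0 F441556)) (tt N68826 F341805) (tt N45868 (iv3 D163599)) (tt N82523 F281466) (tt N56569 (iv5 F358283)) (tt N97611 F417595) (tt N68829 (iv7 F341808)))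
theorem Q79735 : ∀ i, i < 79735 → P i := stepQ 79734 Q79734 (allL N79734 (tt N79691 F257868) (tt N79688 F257869) (tt N45871 F257867) (tt N68605 F348749) (tt N83592 F348731) (tt N45870 (iv5 D163604)) (tt N68603 (iv6 F348748)) (tt N79356 (iv7 F324249)))
theorem Q79736 : ∀ i, i < 79736 → P i := stepQ 79735 Q79735 (allL N79735 (tt N82367 F280579) (tt N103417 F441535) (tt N45872 F257870) (tt N67400 (iv3 F348752)) (tt N45884 F257871) (tt N68604 F348750) (tt N45870 (iv6 D163605)) (tt N102365 (iv7 F436923)))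
theorem Q79737 : ∀ i, i < 79737 → P i := stepQ 79736 Q79736 (allL N79736 (tt N79356 (iv1 F324246)) (tt N45871 (iv0 D163606)) (tt N79691 (iv2 F257873)) (tt N67489 (iv3 F341817)) (tt N84681 (iv4 F370197)) (tt N50667 F257872) (tt N111676 D214918) (tt N79688 (iv7 F257874)))
theorem Q79738 : ∀ i, i < 79738 → P i := stepQ 79737 Q79737 (allL N79737 (tt N45871 (iv1 D163607)) (tt N79356 (iv0 F324245)) (tt N79688 (iv2 F257877)) (tt N86832 (iv3 F377355)) (tt N84680 (iv4 F370189)) (tt N50668 F257876) (tt N104316 (iv6 F445208)) (tt N79691 F257875))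
theorem Q79739 : ∀ i, i < 79739 → P i := stepQ 79738 Q79738 (allL N79738 (tt N88319 (iv1 F382568)) (tt N88318 F382564) (tt N68603 (iv2 F348727)) (tt N45873 F257878) (tt N83586 (iv4 F348728)) (tt N68602 (iv5 F348756)) (tt N45871 (iv6 D163609)) (tt N79671 F348726))
theorem Q79740 : ∀ i, i < 79740 → P i := stepQ 79739 Q79739 (allL N79739 (tt N45872 (iv1 D163611)) (tt N102365 (iv0 F436925)) (tt N103417 (iv2 F441530)) (tt N91808 (iv3 F394508)) (tt N82338 (iv4 F280376)) (tt N67205 F358321) (tt N80097 F418142) (tt N82367 F358322))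
theorem Q79741 : ∀ i, i < 79741 → P i := stepQ 79740 Q79740 (allL N79740 (tt N97910 (iv1 F418760)) (tt N102364 F436918) (tt N68604 (iv2 F348751)) (tt N45876 F257879) (tt N103295 (iv4 F441028)) (tt N45872 (iv5 D163612)) (tt N68602 F348755) (tt N95677 (iv7 F409105)))
theorem Q79742 : ∀ i, i < 79742 → P i := stepQ 79741 Q79741 (allL N79741 (tt N103417 (iv1 F441536)) (tt N82367 (iv0 F280578)) (tt N102365 (iv2 F436921)) (tt N45877 F257880) (tt N45888 F257881) (tt N95677 (iv5 F409104)) (tt N79533 (iv6 F319351)) (tt N45872 (iv7 D163613)))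
theorem Q79743 : ∀ i, i < 79743 → P i := stepQ 79742 Q79742 (allL N79742 (tt N81754 (iv1 F383327)) (tt N88665 (iv0 F383789)) (tt N54269 F361240) (tt N45874 (iv3 D163622)) (tt N47901 (iv4 F302831)) (tt N49595 (iv5 F361241)) (tt N97467 (iv6 F416975)) (tt N80117 F300044))
theorem Q79744 : ∀ i, i < 79744 → P i := stepQ 79743 Q79743 (allL N79743 (tt N65124 F299823) (tt N65127 F299824) (tt N67436 (iv2 F361748)) (tt N49595 F342194) (tt N70482 (iv4 F342193)) (tt N45874 (iv5 D163623)) (tt N49600 F361253) (tt N67427 F342195))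
theorem Q79745 : ∀ i, i < 79745 → P i := stepQ 79744 Q79744 (allL N79744 (tt N103428 (iv1 F441586)) (tt N102335 (iv0 F436783)) (tt N82354 (iv2 F359332)) (tt N45875 (iv3 D163625)) (tt N100640 (iv4 F429797)) (tt N67429 (iv5 F359330)) (tt N80095 (iv6 F261501)) (tt N101511 (iv7 F433217)))
theorem Q79746 : ∀ i, i < 79746 → P i := stepQ 79745 Q79745 (allL N79745 (tt N111677 D214919) (tt N104909 F447891) (tt N91518 (iv2 F393450)) (tt N45878 (iv3 D163632)) (tt N80138 (iv4 F302348)) (tt N111678 D214920) (tt N102211 (iv6 F436209)) (tt N81552 (iv7 F276056)))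
theorem Q79747 : ∀ i, i < 79747 → P i := stepQ 79746 Q79746 (allL N79746 (tt N67990 F354352) (tt N67989 (iv0 F354286)) (tt N67991 (iv2 F354347)) (tt N111678 (iv3 F477437)) (tt N67843 F341950) (tt N45878 (iv5 D163633)) (tt N68011 (iv6 F354364)) (tt N67963 F354363))
theorem Q79748 : ∀ i, i < 79748 → P i := stepQ 79747 Q79747 (allL N79747 (tt N111651 F477312) (tt N111679 D214921) (tt N111680 D214922) (tt N45881 (iv3 D163636)) (tt N80554 (iv4 F268402)) (tt N67984 (iv5 F354342)) (tt N80094 (iv6 F261492)) (tt N111675 (iv7 F477426)))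
theorem Q79749 : ∀ i, i < 79749 → P i := stepQ 79748 Q79748 (allL N79748 (tt N65974 (iv1 F365638)) (tt N65973 (iv0 F358048)) (tt N65976 (iv2 F358049)) (tt N45883 (iv3 D163648)) (tt N79205 F257990) (tt N111681 D214923) (tt N97589 (iv6 F417498)) (tt N65971 (iv7 F328513)))
theorem Q79750 : ∀ i, i < 79750 → P i := stepQ 79749 Q79749 (allL N79749 (tt N68797 (iv1 F358968)) (tt N97640 F417731) (tt N80236 (iv2 F262269)) (tt N111681 (iv3 F477450)) (tt N111665 (iv4 F477376)) (tt N45883 (iv5 D163649)) (tt N111660 (iv6 F477352)) (tt N80234 (iv7 F262254)))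
theorem Q79751 : ∀ i, i < 79751 → P i := stepQ 79750 Q79750 (allL N79750 (tt N45888 (iv1 F258000)) (tt N45884 (iv0 D163662)) (tt N45885 F363239) (tt N96964 (iv3 F414818)) (tt N97757 (iv4 F418190)) (tt N68592 F334242) (tt N96963 F414816) (tt N45886 F363240))
theorem Q79752 : ∀ i, i < 79752 → P i := stepQ 79751 Q79751 (allL N79751 (tt N45884 (iv1 D163663)) (tt N45888 F257994) (tt N45886 F341664) (tt N82068 F341665) (tt N111682 D214924) (tt N80690 F341666) (tt N64239 F341667) (tt N45885 F341668))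
theorem Q79753 : ∀ i, i < 79753 → P i := stepQ 79752 Q79752 (allL N79752 (tt N69293 (iv1 F341890)) (tt N69267 F334239) (tt N45887 F257995) (tt N79479 F257996) (tt N68028 (iv4 F345778)) (tt N45884 (iv5 D163664)) (tt N79336 F257997) (tt N69291 (iv7 F341885)))
theorem Q79754 : ∀ i, i < 79754 → P i := stepQ 79753 Q79753 (allL N79753 (tt N45886 (iv1 F258001)) (tt N45885 F258002) (tt N45888 F257998) (tt N66883 (iv3 F333986)) (tt N102365 (iv4 F436924)) (tt N69291 F341918) (tt N80238 (iv6 F262287)) (tt N45884 (iv7 D163665)))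
theorem Q79755 : ∀ i, i < 79755 → P i := stepQ 79754 Q79754 (allL N79754 (tt N102162 F435987) (tt N97638 F417725) (tt N97757 (iv2 F418188)) (tt N103918 (iv3 F443369)) (tt N45885 (iv4 D163668)) (tt N111683 D214925) (tt N97631 F417694) (tt N111682 (iv7 F477458)))
theorem Q79756 : ∀ i, i < 79756 → P i := stepQ 79755 Q79755 (allL N79755 (tt N75410 F348428) (tt N79398 F361359) (tt N96963 (iv2 F414811)) (tt N54301 F341921) (tt N97631 (iv4 F417691)) (tt N47160 F341922) (tt N45885 (iv6 D163670)) (tt N80120 F341663))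
theorem Q79757 : ∀ i, i < 79757 → P i := stepQ 79756 Q79756 (allL N79756 (tt N66046 (iv1 F363260)) (tt N66037 (iv0 F363259)) (tt N106223 (iv2 F453631)) (tt N45886 (iv3 D163672)) (tt N79774 F363262) (tt N80476 F363258) (tt N80121 (iv6 F341659)) (tt N96964 (iv7 F414821)))
theorem Q79758 : ∀ i, i < 79758 → P i := stepQ 79757 Q79757 (allL N79757 (tt N97638 F417724) (tt N102162 (iv0 F435985)) (tt N111682 (iv2 F477455)) (tt N93420 (iv3 F400677)) (tt N45886 (iv4 D163673)) (tt N93066 F399347) (tt N80122 (iv6 F341660)) (tt N97757 F418191))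
theorem Q79759 : ∀ i, i < 79759 → P i := stepQ 79758 Q79758 (allL N79758 (tt N79397 (iv1 F341630)) (tt N66880 F354003) (tt N80690 F341654) (tt N80476 (iv3 F341632)) (tt N76751 F341656) (tt N45886 (iv5 D163674)) (tt N66836 (iv6 F341646)) (tt N68592 F341631))
theorem Q79760 : ∀ i, i < 79760 → P i := stepQ 79759 Q79759 (allL N79759 (tt N69291 F348171) (tt N45887 (iv0 D163676)) (tt N69293 (iv2 F341886)) (tt N46993 F341887) (tt N90517 (iv4 F389923)) (tt N80040 (iv5 F348167)) (tt N46990 F341888) (tt N69267 F341889))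
theorem Q79761 : ∀ i, i < 79761 → P i := stepQ 79760 Q79760 (allL N79760 (tt N78629 F344721) (tt N102276 (iv0 F436507)) (tt N80773 F344718) (tt N45890 F258013) (tt N58604 (iv4 F358122)) (tt N63558 (iv5 F344717)) (tt N45889 (iv6 D163682)) (tt N66030 F344716))
theorem Q79762 : ∀ i, i < 79762 → P i := stepQ 79761 Q79761 (allL N79761 (tt N45917 F258032) (tt N46334 (iv0 F258214)) (tt N45953 F258030) (tt N82464 (iv3 F281147)) (tt N82427 F280820) (tt N45891 (iv5 D163690)) (tt N95792 (iv6 F409672)) (tt N46333 F258031))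
theorem Q79763 : ∀ i, i < 79763 → P i := stepQ 79762 Q79762 (allL N79762 (tt N60638 (iv1 F345737)) (tt N60627 (iv0 F345761)) (tt N60637 (iv2 F355857)) (tt N55640 (iv3 F345736)) (tt N45895 F258048) (tt N67277 F345741) (tt N45893 (iv6 D163695)) (tt N60544 F345735))
theorem Q79764 : ∀ i, i < 79764 → P i := stepQ 79763 Q79763 (allL N79763 (tt N101867 (iv1 F434742)) (tt N77026 F358720) (tt N90506 (iv2 F389873)) (tt N45901 F258049) (tt N82511 (iv4 F281418)) (tt N82040 F355392) (tt N45894 (iv6 D163696)) (tt N47114 F355393))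
theorem Q79765 : ∀ i, i < 79765 → P i := stepQ 79764 Q79764 (allL N79764 (tt N46859 F355883) (tt N45895 (iv0 D163697)) (tt N90504 F389866) (tt N76533 F355884) (tt N81756 F355885) (tt N76529 F355886) (tt N100672 (iv6 F429948)) (tt N60388 (iv7 F381051)))
theorem Q79766 : ∀ i, i < 79766 → P i := stepQ 79765 Q79765 (allL N79765 (tt N45895 (iv1 D163698)) (tt N46859 F334387) (tt N60388 (iv2 F381049)) (tt N76117 (iv3 F345738)) (tt N81753 F355888) (tt N76116 F345740) (tt N60384 (iv6 F381048)) (tt N90504 (iv7 F389868)))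
theorem Q79767 : ∀ i, i < 79767 → P i := stepQ 79766 Q79766 (allL N79766 (tt N71616 (iv1 F347064)) (tt N71615 (iv0 F347060)) (tt N58602 (iv2 F347063)) (tt N55641 (iv3 F347066)) (tt N77582 F347061) (tt N45899 (iv5 D163720)) (tt N70572 F347062) (tt N60375 F347065))
theorem Q79768 : ∀ i, i < 79768 → P i := stepQ 79767 Q79767 (allL N79767 (tt N45900 (iv1 D163723)) (tt N45911 F258078) (tt N64139 (iv2 F258080)) (tt N46160 (iv3 F258081)) (tt N80272 (iv4 F262442)) (tt N80284 (iv5 F262497)) (tt N104247 (iv6 F444917)) (tt N64140 F258079))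
theorem Q79769 : ∀ i, i < 79769 → P i := stepQ 79768 Q79768 (allL N79768 (tt N87037 F378141) (tt N58189 (iv0 F365733)) (tt N104778 (iv2 F447218)) (tt N45900 (iv3 D163724)) (tt N82510 (iv4 F281415)) (tt N104777 F447216) (tt N100379 F428685) (tt N64141 F258082))
theorem Q79770 : ∀ i, i < 79770 → P i := stepQ 79769 Q79769 (allL N79769 (tt N67999 (iv1 F359609)) (tt N68006 F359611) (tt N64147 F258083) (tt N104777 (iv3 F447212)) (tt N102441 (iv4 F437247)) (tt N45900 (iv5 D163725)) (tt N104694 (iv6 F446897)) (tt N64142 F258084))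
theorem Q79771 : ∀ i, i < 79771 → P i := stepQ 79770 Q79770 (allL N79770 (tt N74527 F346958) (tt N84136 F368263) (tt N64148 F258085) (tt N100379 (iv3 F428683)) (tt N45901 F258086) (tt N97627 (iv5 F417665)) (tt N45900 (iv6 D163726)) (tt N101873 (iv7 F434774)))
theorem Q79772 : ∀ i, i < 79772 → P i := stepQ 79771 Q79771 (allL N79771 (tt N49891 F340617) (tt N49917 F340635) (tt N49916 F358135) (tt N58661 (iv3 F365831)) (tt N91913 (iv4 F394937)) (tt N45907 (iv5 D163753)) (tt N111684 D214926) (tt N49915 F358129))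
theorem Q79773 : ∀ i, i < 79773 → P i := stepQ 79772 Q79772 (allL N79772 (tt N78354 F344879) (tt N103064 (iv0 F439925)) (tt N47106 F344880) (tt N45912 F258115) (tt N78744 F344881) (tt N47105 F344882) (tt N45908 (iv6 D163755)) (tt N101080 (iv7 F431575)))
theorem Q79774 : ∀ i, i < 79774 → P i := stepQ 79773 Q79773 (allL N79773 (tt N79492 F344677) (tt N79491 F344678) (tt N46478 F344679) (tt N45914 F258116) (tt N46487 F344680) (tt N45909 (iv5 D163758)) (tt N47105 F344681) (tt N77283 F344682))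
theorem Q79775 : ∀ i, i < 79775 → P i := stepQ 79774 Q79774 (allL N79774 (tt N45910 (iv1 D163766)) (tt N60376 F363263) (tt N71157 (iv2 F363264)) (tt N56837 F363266) (tt N79756 (iv4 F363262)) (tt N56835 (iv5 F363265)) (tt N96249 (iv6 F411737)) (tt N60405 F363267))
theorem Q79776 : ∀ i, i < 79776 → P i := stepQ 79775 Q79775 (allL N79775 (tt N79346 (iv1 F359605)) (tt N109262 (iv0 F466056)) (tt N64143 F258127) (tt N47799 F344875) (tt N45912 F258128) (tt N66383 (iv5 F351470)) (tt N45911 (iv6 D163771)) (tt N47795 F344876))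
theorem Q79777 : ∀ i, i < 79777 → P i := stepQ 79776 Q79776 (allL N79776 (tt N46333 (iv1 F258233)) (tt N45953 F258232) (tt N45917 (iv2 D163801)) (tt N46343 (iv3 F258225)) (tt N48311 (iv4 F258230)) (tt N85728 (iv5 F373681)) (tt N101546 (iv6 F433339)) (tt N46334 (iv7 F258218)))
theorem Q79778 : ∀ i, i < 79778 → P i := stepQ 79777 Q79777 (allL N79777 (tt N70507 F362638) (tt N109278 (iv0 F466153)) (tt N101546 (iv2 F433337)) (tt N45919 F258168) (tt N63885 (iv4 F330794)) (tt N68981 (iv5 F362642)) (tt N45917 (iv6 D163802)) (tt N46168 F330782))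
theorem Q79779 : ∀ i, i < 79779 → P i := stepQ 79778 Q79778 (allL N79778 (tt N45921 (iv1 F258180)) (tt N45918 (iv0 D163804)) (tt N46338 F258175) (tt N72110 (iv3 F359614)) (tt N60552 (iv4 F327435)) (tt N67999 (iv5 F334305)) (tt N81345 F354802) (tt N46337 (iv7 F258174)))
theorem Q79780 : ∀ i, i < 79780 → P i := stepQ 79779 Q79779 (allL N79779 (tt N100670 F429941) (tt N95827 (iv0 F409833)) (tt N82398 F362658) (tt N45918 (iv3 D163806)) (tt N78458 F258185) (tt N71852 (iv5 F348609)) (tt N82396 F342070) (tt N46339 (iv7 F258248)))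
theorem Q79781 : ∀ i, i < 79781 → P i := stepQ 79780 Q79780 (allL N79780 (tt N100733 (iv1 F430213)) (tt N100734 (iv0 F430218)) (tt N46346 (iv2 F258250)) (tt N71852 F348611) (tt N67885 F345861) (tt N45918 (iv5 D163807)) (tt N60011 F359612) (tt N46340 (iv7 F258249)))
theorem Q79782 : ∀ i, i < 79782 → P i := stepQ 79781 Q79781 (allL N79781 (tt N45980 F258191) (tt N46342 F258192) (tt N45920 (iv2 D163815)) (tt N46334 (iv3 F258216)) (tt N79714 (iv4 F258255)) (tt N82466 (iv5 F281158)) (tt N103448 F441684) (tt N46343 F258193))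
theorem Q79783 : ∀ i, i < 79783 → P i := stepQ 79782 Q79782 (allL N79782 (tt N64120 F258258) (tt N64119 F258259) (tt N79714 F258256) (tt N104780 (iv3 F447231)) (tt N45920 (iv4 D163816)) (tt N104409 (iv5 F445640)) (tt N105171 (iv6 F449101)) (tt N46344 F258257))
theorem Q79784 : ∀ i, i < 79784 → P i := stepQ 79783 Q79783 (allL N79783 (tt N103278 (iv1 F440953)) (tt N101809 F434447) (tt N103448 F441681) (tt N45922 F258260) (tt N105171 (iv4 F449098)) (tt N68468 (iv5 F355018)) (tt N45920 (iv6 D163817)) (tt N68466 F355019))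
theorem Q79785 : ∀ i, i < 79785 → P i := stepQ 79784 Q79784 (allL N79784 (tt N100734 (iv1 F430219)) (tt N100733 (iv0 F430212)) (tt N46340 F258263) (tt N69400 F345856) (tt N67884 (iv4 F345860)) (tt N45921 (iv5 D163819)) (tt N108838 (iv6 F464198)) (tt N46346 F258264))
theorem Q79786 : ∀ i, i < 79786 → P i := stepQ 79785 Q79785 (allL N79785 (tt N111685 D214927) (tt N85734 (iv0 F407806)) (tt N111686 D214928) (tt N45923 (iv3 D163830)) (tt N82394 (iv4 F280687)) (tt N68983 (iv5 F366150)) (tt N68466 (iv6 F355020)) (tt N46172 F261320))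
theorem Q79787 : ∀ i, i < 79787 → P i := stepQ 79786 Q79786 (allL N79786 (tt N82097 (iv1 F348477)) (tt N78724 F348484) (tt N58511 (iv2 F348474)) (tt N46175 F258287) (tt N99836 (iv4 F426454)) (tt N45924 (iv5 D163838)) (tt N67833 (iv6 F348472)) (tt N82071 F348473))
theorem Q79788 : ∀ i, i < 79788 → P i := stepQ 79787 Q79787 (allL N79787 (tt N96420 F412450) (tt N95792 F415409) (tt N106825 (iv2 F455849)) (tt N45925 (iv3 D163841)) (tt N107897 F460171) (tt N106823 (iv5 F455838)) (tt N111588 (iv6 F477032)) (tt N95756 (iv7 F409483)))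
theorem Q79789 : ∀ i, i < 79789 → P i := stepQ 79788 Q79788 (allL N79788 (tt N81343 F354817) (tt N75380 F354857) (tt N75291 F354824) (tt N76567 F354825) (tt N45925 (iv4 D163842)) (tt N75173 (iv5 F354823)) (tt N104232 F444834) (tt N75287 F354826))
theorem Q79790 : ∀ i, i < 79790 → P i := stepQ 79789 Q79789 (allL N79789 (tt N95788 F409656) (tt N111687 D214929) (tt N97420 (iv2 F416818)) (tt N45926 (iv3 D163846)) (tt N65552 (iv4 F363243)) (tt N81071 F358757) (tt N81527 F330809) (tt N86370 (iv7 F375973)))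
theorem Q79791 : ∀ i, i < 79791 → P i := stepQ 79790 Q79790 (allL N79790 (tt N75380 F354863) (tt N81343 F354864) (tt N75287 (iv2 F354866)) (tt N65157 (iv3 F354867)) (tt N45926 (iv4 D163847)) (tt N75174 (iv5 F354868)) (tt N65154 F330810) (tt N75291 F354865))
theorem Q79792 : ∀ i, i < 79792 → P i := stepQ 79791 Q79791 (allL N79791 (tt N85731 (iv1 F373703)) (tt N45928 (iv0 D163863)) (tt N85733 (iv2 F373714)) (tt N111687 F477487) (tt N58498 F360148) (tt N108332 (iv5 F462107)) (tt N46256 F340165) (tt N45982 F340166))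
theorem Q79793 : ∀ i, i < 79793 → P i := stepQ 79792 Q79792 (allL N79792 (tt N85733 (iv1 F373719)) (tt N45982 F351014) (tt N45928 (iv2 D163865)) (tt N66401 F346328) (tt N66692 (iv4 F346326)) (tt N66400 F346327) (tt N47784 F258296) (tt N85731 (iv7 F373704)))
theorem Q79794 : ∀ i, i < 79794 → P i := stepQ 79793 Q79793 (allL N79793 (tt N45929 (iv1 D163871)) (tt N66401 F338758) (tt N82490 F338759) (tt N96420 (iv3 F412449)) (tt N111688 D214930) (tt N67737 F338760) (tt N46259 F338761) (tt N45955 F338762))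
theorem Q79795 : ∀ i, i < 79795 → P i := stepQ 79794 Q79794 (allL N79794 (tt N97522 (iv1 F417241)) (tt N77349 (iv0 F361984)) (tt N66647 F356781) (tt N45936 F258364) (tt N105282 (iv4 F449541)) (tt N45935 (iv5 D163930)) (tt N66846 (iv6 F356780)) (tt N82157 (iv7 F350804)))
theorem Q79796 : ∀ i, i < 79796 → P i := stepQ 79795 Q79795 (allL N79795 (tt N100741 (iv1 F430247)) (tt N45937 (iv0 D163938)) (tt N100740 F430249) (tt N93471 F400824) (tt N111689 D214931) (tt N100926 (iv5 F433491)) (tt N101145 F459633) (tt N100739 F430243))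
theorem Q79797 : ∀ i, i < 79797 → P i := stepQ 79796 Q79796 (allL N79796 (tt N45937 (iv1 D163939)) (tt N100741 F430252) (tt N100739 (iv2 F430251)) (tt N94823 (iv3 F433500)) (tt N111690 D214932) (tt N100927 (iv5 F431002)) (tt N94821 F433499) (tt N100740 F430250))
theorem Q79798 : ∀ i, i < 79798 → P i := stepQ 79797 Q79797 (allL N79797 (tt N100740 (iv1 F430248)) (tt N100739 F430242) (tt N45937 (iv2 D163940)) (tt N45944 F258390) (tt N78497 F258391) (tt N111691 D214933) (tt N78450 (iv6 F366928)) (tt N100741 (iv7 F430246)))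
theorem Q79799 : ∀ i, i < 79799 → P i := stepQ 79798 Q79798 (allL N79798 (tt N111356 F475986) (tt N111358 (iv0 F475995)) (tt N111691 (iv2 F477507)) (tt N45938 F258392) (tt N87269 (iv4 F382752)) (tt N45937 (iv5 D163941)) (tt N87268 F382753) (tt N79814 (iv7 F258443)))
theorem Q79800 : ∀ i, i < 79800 → P i := stepQ 79799 Q79799 (allL N79799 (tt N111692 D214934) (tt N93310 (iv0 F400343)) (tt N45948 F258395) (tt N87268 (iv3 F382754)) (tt N64156 F258396) (tt N73033 F360116) (tt N45938 (iv6 D163943)) (tt N94877 (iv7 F406217)))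
theorem Q79801 : ∀ i, i < 79801 → P i := stepQ 79800 Q79800 (allL N79800 (tt N100743 (iv1 F430262)) (tt N45939 (iv0 D163949)) (tt N93469 (iv2 F400818)) (tt N67457 F341832) (tt N60711 (iv4 F341836)) (tt N111395 (iv5 F476159)) (tt N67456 (iv6 F341834)) (tt N94870 (iv7 F406199)))
theorem Q79802 : ∀ i, i < 79802 → P i := stepQ 79801 Q79801 (allL N79801 (tt N45939 (iv1 D163950)) (tt N100743 F430263) (tt N94870 (iv2 F406197)) (tt N93473 (iv3 F400826)) (tt N60710 (iv4 F365833)) (tt N111396 (iv5 F476166)) (tt N102063 (iv6 F435564)) (tt N93469 F400821))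
theorem Q79803 : ∀ i, i < 79803 → P i := stepQ 79802 Q79802 (allL N79802 (tt N93469 (iv1 F406202)) (tt N94870 F406201) (tt N45939 (iv2 D163951)) (tt N94886 (iv3 F406246)) (tt N86944 (iv4 F377796)) (tt N90364 F389424) (tt N90365 (iv6 F389426)) (tt N100743 (iv7 F430261)))
theorem Q79804 : ∀ i, i < 79804 → P i := stepQ 79803 Q79803 (allL N79803 (tt N102046 F435496) (tt N102895 (iv0 F439161)) (tt N90365 (iv2 F389425)) (tt N45940 F258411) (tt N82565 (iv4 F366964)) (tt N72937 (iv5 F363366)) (tt N45939 (iv6 D163952)) (tt N96953 (iv7 F414759)))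
theorem Q79805 : ∀ i, i < 79805 → P i := stepQ 79804 Q79804 (allL N79804 (tt N94886 (iv1 F406247)) (tt N45941 (iv0 D163954)) (tt N94678 (iv2 F405489)) (tt N78477 F364308) (tt N95411 (iv4 F408136)) (tt N111400 (iv5 F476184)) (tt N78475 (iv6 F364309)) (tt N94887 (iv7 F406248)))
theorem Q79806 : ∀ i, i < 79806 → P i := stepQ 79805 Q79805 (allL N79805 (tt N94678 F405494) (tt N94887 F406250) (tt N45941 (iv2 D163956)) (tt N100743 (iv3 F430258)) (tt N79302 F258413) (tt N101591 (iv5 F433471)) (tt N72897 F362622) (tt N94886 (iv7 F406242)))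
theorem Q79807 : ∀ i, i < 79807 → P i := stepQ 79806 Q79806 (allL N79806 (tt N79711 F258429) (tt N48301 F258423) (tt N64118 F258420) (tt N58819 (iv3 F327240)) (tt N45942 (iv4 D163960)) (tt N78666 F258422) (tt N94930 (iv6 F406384)) (tt N79712 F258421))
theorem Q79808 : ∀ i, i < 79808 → P i := stepQ 79807 Q79807 (allL N79807 (tt N64987 (iv1 F258435)) (tt N64984 F258434) (tt N45945 F258433) (tt N111691 (iv3 F477508)) (tt N111693 D214935) (tt N45944 (iv5 D163964)) (tt N111694 D214936) (tt N96575 (iv7 F413053)))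
theorem Q79809 : ∀ i, i < 79809 → P i := stepQ 79808 Q79808 (allL N79808 (tt N78437 F301267) (tt N59325 (iv0 F327453)) (tt N45946 F258436) (tt N78450 F301269) (tt N45956 F258437) (tt N82860 F333851) (tt N45944 (iv6 D163965)) (tt N78438 F301270))
theorem Q79810 : ∀ i, i < 79810 → P i := stepQ 79809 Q79809 (allL N79809 (tt N111432 (iv1 F476342)) (tt N111435 (iv0 F476355)) (tt N111693 (iv2 F477520)) (tt N111570 (iv3 F476967)) (tt N45945 (iv4 D163966)) (tt N95738 F409380) (tt N95739 (iv6 F409383)) (tt N100745 (iv7 F430270)))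
theorem Q79811 : ∀ i, i < 79811 → P i := stepQ 79810 Q79810 (allL N79810 (tt N73542 (iv1 F409388)) (tt N106268 (iv0 F453817)) (tt N111694 (iv2 F477527)) (tt N45948 F258438) (tt N95739 (iv4 F409385)) (tt N94878 (iv5 F406225)) (tt N45945 (iv6 D163967)) (tt N111695 D214937))
theorem Q79812 : ∀ i, i < 79812 → P i := stepQ 79811 Q79811 (allL N79811 (tt N78438 F301258) (tt N45946 (iv0 D163968)) (tt N78437 F301259) (tt N59328 F343103) (tt N80281 F301260) (tt N51159 F301261) (tt N59483 (iv6 F343105)) (tt N59325 (iv7 F327457)))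
theorem Q79813 : ∀ i, i < 79813 → P i := stepQ 79812 Q79812 (allL N79812 (tt N45946 (iv1 D163969)) (tt N78438 F301263) (tt N59325 (iv2 F327455)) (tt N59435 F351736) (tt N80068 F301265) (tt N85556 (iv5 F373054)) (tt N59323 (iv6 F351735)) (tt N78437 F301266))
theorem Q79814 : ∀ i, i < 79814 → P i := stepQ 79813 Q79813 (allL N79813 (tt N50553 F333858) (tt N111025 (iv0 F474319)) (tt N82860 (iv2 F333853)) (tt N45949 F258439) (tt N82848 (iv4 F333855)) (tt N45946 (iv5 D163970)) (tt N94878 (iv6 F406226)) (tt N78439 F301271))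
theorem Q79815 : ∀ i, i < 79815 → P i := stepQ 79814 Q79814 (allL N79814 (tt N100920 F430975) (tt N100923 (iv0 F430980)) (tt N111696 D214938) (tt N45947 (iv3 D163972)) (tt N111570 (iv4 F476968)) (tt N64149 F258442) (tt N111555 (iv6 F476901)) (tt N79798 F258443))
theorem Q79816 : ∀ i, i < 79816 → P i := stepQ 79815 Q79815 (allL N79815 (tt N108179 (iv1 F461412)) (tt N108104 (iv0 F461120)) (tt N64156 F258444) (tt N111555 (iv3 F476899)) (tt N45948 F258445) (tt N111554 F476896) (tt N45947 (iv6 D163973)) (tt N108176 (iv7 F461402)))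
theorem Q79817 : ∀ i, i < 79817 → P i := stepQ 79816 Q79816 (allL N79816 (tt N94877 (iv1 F406222)) (tt N45948 (iv0 D163974)) (tt N111692 F477516) (tt N111697 D214939) (tt N111540 (iv4 F476818)) (tt N93311 (iv5 F406224)) (tt N111698 D214940) (tt N93310 F406223))
theorem Q79818 : ∀ i, i < 79818 → P i := stepQ 79817 Q79817 (allL N79817 (tt N45948 (iv1 D163975)) (tt N94877 (iv0 F406218)) (tt N93310 (iv2 F400340)) (tt N111699 D214941) (tt N111541 (iv4 F476825)) (tt N70129 (iv5 F343789)) (tt N70130 F343790) (tt N111692 (iv7 F477518)))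
theorem Q79819 : ∀ i, i < 79819 → P i := stepQ 79818 Q79818 (allL N79818 (tt N93310 F400345) (tt N111692 F477517) (tt N94877 (iv2 F406216)) (tt N111695 (iv3 F477536)) (tt N108176 (iv4 F461405)) (tt N73029 F360121) (tt N100751 (iv6 F430291)) (tt N45948 (iv7 D163977)))
theorem Q79820 : ∀ i, i < 79820 → P i := stepQ 79819 Q79819 (allL N79819 (tt N45954 (iv1 F258466)) (tt N45951 (iv0 D164000)) (tt N82486 F281180) (tt N111700 D214942) (tt N65421 F258465) (tt N111430 (iv5 F476328)) (tt N59090 F364753) (tt N82397 (iv7 F280699)))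
theorem Q79821 : ∀ i, i < 79821 → P i := stepQ 79820 Q79820 (allL N79820 (tt N45951 (iv1 D164001)) (tt N45954 F258470) (tt N82397 (iv2 F280698)) (tt N63885 F280697) (tt N82396 F280696) (tt N111431 (iv5 F476334)) (tt N78458 F363196) (tt N82486 (iv7 F281178)))
theorem Q79822 : ∀ i, i < 79822 → P i := stepQ 79821 Q79821 (allL N79821 (tt N101537 F433290) (tt N111476 (iv0 F476524)) (tt N111701 D214943) (tt N45951 (iv3 D164002)) (tt N87818 (iv4 F380647)) (tt N111702 D214944) (tt N87817 F380645) (tt N82487 (iv7 F281183)))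
theorem Q79823 : ∀ i, i < 79823 → P i := stepQ 79822 Q79822 (allL N79822 (tt N101891 (iv1 F434846)) (tt N101893 (iv0 F434854)) (tt N82499 (iv2 F281220)) (tt N111702 (iv3 F477575)) (tt N101585 (iv4 F433463)) (tt N45951 (iv5 D164003)) (tt N111703 D214945) (tt N82488 (iv7 F281185)))
theorem Q79824 : ∀ i, i < 79824 → P i := stepQ 79823 Q79823 (allL N79823 (tt N110554 (iv1 F472118)) (tt N101157 F431985) (tt N82500 (iv2 F281222)) (tt N87817 (iv3 F380642)) (tt N45952 F258471) (tt N111704 D214946) (tt N45951 (iv6 D164004)) (tt N100802 (iv7 F430542)))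
theorem Q79825 : ∀ i, i < 79825 → P i := stepQ 79824 Q79824 (allL N79824 (tt N106825 (iv1 F455853)) (tt N95756 (iv0 F409485)) (tt N95792 (iv2 F409671)) (tt N45955 F258473) (tt N95777 (iv4 F409595)) (tt N111705 D214947) (tt N45953 (iv6 D164009)) (tt N96420 (iv7 F412448)))
theorem Q79826 : ∀ i, i < 79826 → P i := stepQ 79825 Q79825 (allL N79825 (tt N58034 (iv1 F364145)) (tt N56822 (iv0 F337390)) (tt N101534 (iv2 F433277)) (tt N45954 (iv3 D164010)) (tt N96011 (iv4 F410620)) (tt N111706 D214948) (tt N57976 F345343) (tt N82498 (iv7 F281218)))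
theorem Q79827 : ∀ i, i < 79827 → P i := stepQ 79826 Q79826 (allL N79826 (tt N101893 (iv1 F434855)) (tt N101891 (iv0 F434845)) (tt N82488 (iv2 F281184)) (tt N111706 (iv3 F477590)) (tt N101586 F434847) (tt N45954 (iv5 D164011)) (tt N111707 D214949) (tt N82499 (iv7 F281221)))
theorem Q79828 : ∀ i, i < 79828 → P i := stepQ 79827 Q79827 (allL N79827 (tt N102787 (iv1 F438653)) (tt N72901 (iv0 F352240)) (tt N82489 (iv2 F281186)) (tt N57976 (iv3 F345342)) (tt N45955 F258475) (tt N111708 D214950) (tt N45954 (iv6 D164012)) (tt N111688 (iv7 F477494)))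
theorem Q79829 : ∀ i, i < 79829 → P i := stepQ 79828 Q79828 (allL N79828 (tt N62697 F336491) (tt N57329 (iv0 F336492)) (tt N67736 (iv2 F338763)) (tt N111705 (iv3 F477585)) (tt N68054 F336488) (tt N45955 (iv5 D164015)) (tt N72133 (iv6 F336487)) (tt N67737 F363874))
theorem Q79830 : ∀ i, i < 79830 → P i := stepQ 79829 Q79829 (allL N79829 (tt N60003 (iv1 F351679)) (tt N100815 (iv0 F430607)) (tt N100816 F430611) (tt N45957 (iv3 D164022)) (tt N81563 F304018) (tt N67440 F348596) (tt N80363 (iv6 F348595)) (tt N75210 F348597))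
theorem Q79831 : ∀ i, i < 79831 → P i := stepQ 79830 Q79830 (allL N79830 (tt N111709 D214951) (tt N78458 F304019) (tt N70518 (iv2 F348607)) (tt N111710 D214952) (tt N45957 (iv4 D164023)) (tt N82851 F348605) (tt N111711 D214953) (tt N111543 (iv7 F476836)))
theorem Q79832 : ∀ i, i < 79832 → P i := stepQ 79831 Q79831 (allL N79831 (tt N94954 F406494) (tt N46147 F339508) (tt N70516 F339509) (tt N80363 F348589) (tt N111711 (iv4 F477608)) (tt N70494 F339510) (tt N45957 (iv6 D164025)) (tt N101869 (iv7 F434752)))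
theorem Q79833 : ∀ i, i < 79833 → P i := stepQ 79832 Q79832 (allL N79832 (tt N101546 (iv1 F433341)) (tt N46168 F348610) (tt N109278 (iv2 F466149)) (tt N45958 (iv3 D164027)) (tt N107733 (iv4 F459451)) (tt N70508 F363808) (tt N79285 F353658) (tt N70507 (iv7 F363809)))
theorem Q79834 : ∀ i, i < 79834 → P i := stepQ 79833 Q79833 (allL N79833 (tt N78458 (iv1 F348608)) (tt N111709 F477600) (tt N111543 (iv2 F476834)) (tt N78452 F304021) (tt N45958 (iv4 D164028)) (tt N82868 F348604) (tt N96403 (iv6 F412361)) (tt N70518 (iv7 F348606)))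
theorem Q79835 : ∀ i, i < 79835 → P i := stepQ 79834 Q79834 (allL N79834 (tt N59472 (iv1 F348615)) (tt N59469 F348614) (tt N75209 F348612) (tt N79285 (iv3 F353657)) (tt N96403 (iv4 F412362)) (tt N75208 (iv5 F348613)) (tt N45958 (iv6 D164030)) (tt N95844 (iv7 F409912)))
theorem Q79836 : ∀ i, i < 79836 → P i := stepQ 79835 Q79835 (allL N79835 (tt N48303 F334632) (tt N69229 (iv0 F323705)) (tt N45959 (iv2 D164068)) (tt N78478 (iv3 F336084)) (tt N79682 F334377) (tt N54753 (iv5 F334633)) (tt N96968 (iv6 F414840)) (tt N69218 (iv7 F323704)))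
theorem Q79837 : ∀ i, i < 79837 → P i := stepQ 79836 Q79836 (allL N79836 (tt N81212 (iv1 F334766)) (tt N101732 (iv0 F434083)) (tt N96968 (iv2 F414838)) (tt N45960 F258562) (tt N65573 F356082) (tt N47518 F323364) (tt N45959 (iv6 D164070)) (tt N47517 F323365))
theorem Q79838 : ∀ i, i < 79838 → P i := stepQ 79837 Q79837 (allL N79837 (tt N78497 (iv1 F258569)) (tt N45961 (iv0 D164074)) (tt N78496 (iv2 F413680)) (tt N106815 (iv3 F455801)) (tt N111712 D214954) (tt N54895 F413684) (tt N96740 (iv6 F413707)) (tt N78495 (iv7 F413683)))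
theorem Q79839 : ∀ i, i < 79839 → P i := stepQ 79838 Q79838 (allL N79838 (tt N45961 (iv1 D164075)) (tt N78497 F258573) (tt N78495 F413681) (tt N96736 (iv3 F413676)) (tt N96786 (iv4 F413933)) (tt N54896 (iv5 F380920)) (tt N96813 (iv6 F414076)) (tt N78496 F413677))
theorem Q79840 : ∀ i, i < 79840 → P i := stepQ 79839 Q79839 (allL N79839 (tt N78496 (iv1 F258574)) (tt N78495 F258572) (tt N45961 (iv2 D164076)) (tt N45969 F258570) (tt N100741 (iv4 F430245)) (tt N51569 (iv5 F367159)) (tt N111713 D214955) (tt N78497 F258571))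
theorem Q79841 : ∀ i, i < 79841 → P i := stepQ 79840 Q79840 (allL N79840 (tt N111714 D214956) (tt N81601 (iv0 F377575)) (tt N111713 (iv2 F477617)) (tt N45962 F258575) (tt N92882 (iv4 F398634)) (tt N97272 (iv5 F416154)) (tt N45961 (iv6 D164077)) (tt N111446 (iv7 F476405)))
theorem Q79842 : ∀ i, i < 79842 → P i := stepQ 79841 Q79841 (allL N79841 (tt N111715 D214957) (tt N81549 (iv0 F276053)) (tt N45975 F258581) (tt N97272 (iv3 F416152)) (tt N111716 D214958) (tt N45962 (iv5 D164079)) (tt N51518 (iv6 F367173)) (tt N111448 (iv7 F476410)))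
theorem Q79843 : ∀ i, i < 79843 → P i := stepQ 79842 Q79842 (allL N79842 (tt N47626 F258597) (tt N64122 F298083) (tt N45979 F258594) (tt N91828 (iv3 F394571)) (tt N45963 (iv4 D164082)) (tt N111717 D214959) (tt N47131 F258595) (tt N45977 F258596))
theorem Q79844 : ∀ i, i < 79844 → P i := stepQ 79843 Q79843 (allL N79843 (tt N54845 (iv1 F258600)) (tt N45965 (iv0 D164083)) (tt N54844 F443832) (tt N111718 D214960) (tt N111719 D214961) (tt N81594 (iv5 F414784)) (tt N79300 F414785) (tt N54843 F443833))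
theorem Q79845 : ∀ i, i < 79845 → P i := stepQ 79844 Q79844 (allL N79844 (tt N45965 (iv1 D164084)) (tt N54845 F258604) (tt N54843 F443830) (tt N106818 F455818) (tt N111021 (iv4 F474295)) (tt N81595 (iv5 F382167)) (tt N111720 D214962) (tt N54844 F443831))
theorem Q79846 : ∀ i, i < 79846 → P i := stepQ 79845 Q79845 (allL N79845 (tt N54844 (iv1 F258605)) (tt N54843 F258603) (tt N45965 (iv2 D164085)) (tt N54850 F258601) (tt N111539 (iv4 F476812)) (tt N83813 (iv5 F289213)) (tt N88181 F382064) (tt N54845 F258602))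
theorem Q79847 : ∀ i, i < 79847 → P i := stepQ 79846 Q79846 (allL N79846 (tt N88184 (iv1 F382075)) (tt N88172 (iv0 F382012)) (tt N88181 F382060) (tt N45966 F258606) (tt N58710 F365922) (tt N111721 D214963) (tt N45965 (iv6 D164086)) (tt N88182 (iv7 F382059)))
theorem Q79848 : ∀ i, i < 79848 → P i := stepQ 79847 Q79847 (allL N79847 (tt N58667 F344529) (tt N49730 F344531) (tt N54851 F258607) (tt N111721 (iv3 F477656)) (tt N49725 (iv4 F344530)) (tt N45966 (iv5 D164087)) (tt N83817 (iv6 F289221)) (tt N90686 (iv7 F390521)))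
theorem Q79849 : ∀ i, i < 79849 → P i := stepQ 79848 Q79848 (allL N79848 (tt N58820 (iv1 F327244)) (tt N48321 F258619) (tt N64132 F258615) (tt N79657 F258616) (tt N45967 (iv4 D164090)) (tt N64983 F258618) (tt N58771 F353241) (tt N78472 F258617))
theorem Q79850 : ∀ i, i < 79850 → P i := stepQ 79849 Q79849 (allL N79849 (tt N111722 D214964) (tt N111718 F477644) (tt N84553 (iv2 F369674)) (tt N45968 (iv3 D164092)) (tt N49971 (iv4 F340623)) (tt N84690 (iv5 F370240)) (tt N49970 F340638) (tt N85712 (iv7 F373620)))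
theorem Q79851 : ∀ i, i < 79851 → P i := stepQ 79850 Q79850 (allL N79850 (tt N46258 F340634) (tt N100803 (iv0 F430547)) (tt N85711 (iv2 F373613)) (tt N49970 (iv3 F340637)) (tt N79653 F258625) (tt N84506 (iv5 F369559)) (tt N45968 (iv6 D164093)) (tt N84565 (iv7 F369706)))
theorem Q79852 : ∀ i, i < 79852 → P i := stepQ 79851 Q79851 (allL N79851 (tt N78669 (iv1 F258628)) (tt N78667 F258627) (tt N45970 F258626) (tt N51569 F367160) (tt N95738 (iv4 F409379)) (tt N45969 (iv5 D164094)) (tt N95737 F409376) (tt N81620 (iv7 F276255)))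
theorem Q79853 : ∀ i, i < 79853 → P i := stepQ 79852 Q79852 (allL N79852 (tt N101813 (iv1 F434461)) (tt N101812 F434457) (tt N45971 F258629) (tt N111713 (iv3 F477618)) (tt N45986 F258630) (tt N101818 (iv5 F434492)) (tt N45969 (iv6 D164095)) (tt N101808 (iv7 F434438)))
theorem Q79854 : ∀ i, i < 79854 → P i := stepQ 79853 Q79853 (allL N79853 (tt N82480 (iv1 F281175)) (tt N82497 (iv0 F281215)) (tt N95738 (iv2 F409378)) (tt N51478 (iv3 F294559)) (tt N45970 (iv4 D164096)) (tt N111693 (iv5 F477523)) (tt N95300 F407779) (tt N85715 (iv7 F373634)))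
theorem Q79855 : ∀ i, i < 79855 → P i := stepQ 79854 Q79854 (allL N79854 (tt N87116 F378390) (tt N111723 D214965) (tt N95737 (iv2 F409374)) (tt N45972 F258631) (tt N95300 (iv4 F407780)) (tt N111724 D214966) (tt N45970 (iv6 D164097)) (tt N111725 D214967))
theorem Q79856 : ∀ i, i < 79856 → P i := stepQ 79855 Q79855 (allL N79855 (tt N101808 (iv1 F434439)) (tt N45971 (iv0 D164098)) (tt N101813 (iv2 F434465)) (tt N69314 F334260) (tt N68495 F354793) (tt N111726 D214968) (tt N80843 (iv6 F354794)) (tt N101812 F434460))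
theorem Q79857 : ∀ i, i < 79857 → P i := stepQ 79856 Q79856 (allL N79856 (tt N45971 (iv1 D164099)) (tt N101808 F434440) (tt N101812 (iv2 F434459)) (tt N91968 (iv3 F395176)) (tt N102851 (iv4 F438943)) (tt N78261 (iv5 F356892)) (tt N81621 (iv6 F353276)) (tt N101813 (iv7 F434462)))
theorem Q79858 : ∀ i, i < 79858 → P i := stepQ 79857 Q79857 (allL N79857 (tt N109805 (iv1 F468709)) (tt N72323 F348068) (tt N101818 (iv2 F434490)) (tt N45975 F258632) (tt N78275 (iv4 F348067)) (tt N45971 (iv5 D164100)) (tt N111724 (iv6 F477676)) (tt N101814 (iv7 F434469)))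
theorem Q79859 : ∀ i, i < 79859 → P i := stepQ 79858 Q79858 (allL N79858 (tt N51519 (iv1 F340683)) (tt N45972 (iv0 D164102)) (tt N51515 (iv2 F340686)) (tt N111727 D214969) (tt N53059 F340685) (tt N111728 D214970) (tt N111729 D214971) (tt N51516 F340684))
theorem Q79860 : ∀ i, i < 79860 → P i := stepQ 79859 Q79859 (allL N79859 (tt N111730 D214972) (tt N60268 (iv0 F355625)) (tt N51518 F367172) (tt N111724 (iv3 F477674)) (tt N111731 D214973) (tt N45972 (iv5 D164104)) (tt N45975 F258635) (tt N111732 D214974))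
theorem Q79861 : ∀ i, i < 79861 → P i := stepQ 79860 Q79860 (allL N79860 (tt N51516 F340680) (tt N51515 F340681) (tt N51519 (iv2 F340682)) (tt N111725 (iv3 F477680)) (tt N51305 (iv4 F294560)) (tt N111732 (iv5 F477722)) (tt N85723 (iv6 F373659)) (tt N45972 (iv7 D164105)))
theorem Q79862 : ∀ i, i < 79862 → P i := stepQ 79861 Q79861 (allL N79861 (tt N111450 F476420) (tt N111720 (iv0 F477654)) (tt N108279 (iv2 F461841)) (tt N45973 (iv3 D164106)) (tt N100752 (iv4 F430292)) (tt N108263 F461766) (tt N100692 (iv6 F430042)) (tt N100730 (iv7 F430195)))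
theorem Q79863 : ∀ i, i < 79863 → P i := stepQ 79862 Q79862 (allL N79862 (tt N96944 (iv1 F414717)) (tt N96901 (iv0 F414523)) (tt N100732 (iv2 F430203)) (tt N108263 (iv3 F461767)) (tt N111733 D214975) (tt N45973 (iv5 D164107)) (tt N97300 F416288) (tt N100731 (iv7 F430200)))
theorem Q79864 : ∀ i, i < 79864 → P i := stepQ 79863 Q79863 (allL N79863 (tt N83777 F365690) (tt N103396 F441432) (tt N106805 (iv2 F455752)) (tt N45974 (iv3 D164109)) (tt N105873 (iv4 F452122)) (tt N104195 (iv5 F444637)) (tt N79292 F366955) (tt N97626 (iv7 F417662)))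
theorem Q79865 : ∀ i, i < 79865 → P i := stepQ 79864 Q79864 (allL N79864 (tt N96901 (iv1 F414524)) (tt N96944 (iv0 F414716)) (tt N100731 (iv2 F430197)) (tt N104195 (iv3 F444635)) (tt N111734 D214976) (tt N45974 (iv5 D164110)) (tt N51567 F377572) (tt N100732 (iv7 F430206)))
theorem Q79866 : ∀ i, i < 79866 → P i := stepQ 79865 Q79865 (allL N79865 (tt N111448 (iv1 F476412)) (tt N45975 (iv0 D164111)) (tt N111715 F477627) (tt N111735 D214977) (tt N111736 D214978) (tt N79467 (iv5 F300520)) (tt N111737 D214979) (tt N81549 (iv7 F276052)))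
theorem Q79867 : ∀ i, i < 79867 → P i := stepQ 79866 Q79866 (allL N79866 (tt N45975 (iv1 D164112)) (tt N111448 (iv0 F476411)) (tt N81549 (iv2 F276051)) (tt N111738 D214980) (tt N111739 D214981) (tt N80139 (iv5 F300516)) (tt N111740 D214982) (tt N111715 (iv7 F477629)))
theorem Q79868 : ∀ i, i < 79868 → P i := stepQ 79867 Q79867 (allL N79867 (tt N86427 F430193) (tt N111741 D214983) (tt N111716 (iv2 F477632)) (tt N111742 D214984) (tt N45975 (iv4 D164113)) (tt N111743 D214985) (tt N111731 (iv6 F477716)) (tt N111744 D214986))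
theorem Q79869 : ∀ i, i < 79869 → P i := stepQ 79868 Q79868 (allL N79868 (tt N81549 (iv1 F276054)) (tt N111715 F477628) (tt N111448 (iv2 F476409)) (tt N101814 (iv3 F434468)) (tt N111744 (iv4 F477761)) (tt N45976 F258641) (tt N111745 D214987) (tt N45975 (iv7 D164114)))
theorem Q79870 : ∀ i, i < 79870 → P i := stepQ 79869 Q79869 (allL N79869 (tt N93141 F399651) (tt N93149 (iv0 F399677)) (tt N111746 D214988) (tt N45977 (iv3 D164120)) (tt N91828 (iv4 F394572)) (tt N93158 F399716) (tt N79501 F366942) (tt N91828 (iv7 F394573)))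
theorem Q79871 : ∀ i, i < 79871 → P i := stepQ 79870 Q79870 (allL N79870 (tt N96919 (iv1 F414618)) (tt N96868 (iv0 F414359)) (tt N111107 (iv2 F474703)) (tt N93158 (iv3 F399719)) (tt N111747 D214989) (tt N45977 (iv5 D164121)) (tt N103982 (iv6 F443641)) (tt N111717 (iv7 F477636)))
theorem Q79872 : ∀ i, i < 79872 → P i := stepQ 79871 Q79871 (allL N79871 (tt N58642 (iv1 F362599)) (tt N58574 F362590) (tt N58738 (iv2 F326190)) (tt N87758 (iv3 F380397)) (tt N45978 (iv4 D164123)) (tt N100728 (iv5 F430188)) (tt N47233 F258673) (tt N47610 F258674))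
theorem Q79873 : ∀ i, i < 79873 → P i := stepQ 79872 Q79872 (allL N79872 (tt N96868 (iv1 F414360)) (tt N96919 (iv0 F414617)) (tt N111717 (iv2 F477634)) (tt N95741 (iv3 F409399)) (tt N86634 F430964) (tt N45979 (iv5 D164126)) (tt N86632 (iv6 F430963)) (tt N111107 (iv7 F474706)))
theorem Q79874 : ∀ i, i < 79874 → P i := stepQ 79873 Q79873 (allL N79873 (tt N86370 F375976) (tt N97420 (iv0 F416819)) (tt N95788 (iv2 F409653)) (tt N45982 F258681) (tt N85677 (iv4 F373495)) (tt N111748 D214990) (tt N45980 (iv6 D164128)) (tt N111687 (iv7 F477486)))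
theorem Q79875 : ∀ i, i < 79875 → P i := stepQ 79874 Q79874 (allL N79874 (tt N111112 F474725) (tt N111749 D214991) (tt N103460 (iv2 F441725)) (tt N45981 (iv3 D164130)) (tt N85676 (iv4 F373491)) (tt N71595 (iv5 F377361)) (tt N96752 (iv6 F413769)) (tt N85725 (iv7 F373671)))
theorem Q79876 : ∀ i, i < 79876 → P i := stepQ 79875 Q79875 (allL N79875 (tt N111138 (iv1 F474881)) (tt N96770 F413851) (tt N85730 (iv2 F373698)) (tt N71595 F377362) (tt N111121 (iv4 F474771)) (tt N45981 (iv5 D164131)) (tt N111750 D214992) (tt N85726 (iv7 F373674)))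
theorem Q79877 : ∀ i, i < 79877 → P i := stepQ 79876 Q79876 (allL N79876 (tt N92493 (iv1 F397155)) (tt N65390 (iv0 F353473)) (tt N85732 (iv2 F373709)) (tt N111748 (iv3 F477773)) (tt N108037 (iv4 F460835)) (tt N45982 (iv5 D164135)) (tt N65439 F258684) (tt N108332 (iv7 F462106)))
theorem Q79878 : ∀ i, i < 79878 → P i := stepQ 79877 Q79877 (allL N79877 (tt N65422 F258686) (tt N65420 F258685) (tt N82393 (iv2 F280686)) (tt N111751 D214993) (tt N45983 (iv4 D164137)) (tt N88706 (iv5 F383923)) (tt N111752 D214994) (tt N82392 F280683))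
theorem Q79879 : ∀ i, i < 79879 → P i := stepQ 79878 Q79878 (allL N79878 (tt N55174 F352212) (tt N60100 F352213) (tt N95840 (iv2 F409890)) (tt N45985 F258687) (tt N111752 (iv4 F477792)) (tt N79284 F347986) (tt N45983 (iv6 D164138)) (tt N95787 (iv7 F409650)))
theorem Q79880 : ∀ i, i < 79880 → P i := stepQ 79879 Q79879 (allL N79879 (tt N78523 (iv1 F258690)) (tt N47627 (iv0 F258689)) (tt N78522 F276095) (tt N45984 (iv3 D164139)) (tt N111751 (iv4 F477786)) (tt N88471 (iv5 F415858)) (tt N111753 D214995) (tt N78521 F258688))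
theorem Q79881 : ∀ i, i < 79881 → P i := stepQ 79880 Q79880 (allL N79880 (tt N96770 F413850) (tt N111138 (iv0 F474880)) (tt N85726 (iv2 F373673)) (tt N88471 F415859) (tt N111122 F474780) (tt N45984 (iv5 D164140)) (tt N111754 D214996) (tt N85730 (iv7 F373699)))
theorem Q79882 : ∀ i, i < 79882 → P i := stepQ 79881 Q79881 (allL N79881 (tt N58437 F352214) (tt N82027 (iv0 F353519)) (tt N85727 (iv2 F373678)) (tt N111753 (iv3 F477798)) (tt N45985 F258691) (tt N111755 D214997) (tt N45984 (iv6 D164141)) (tt N96754 (iv7 F413783)))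
theorem Q79883 : ∀ i, i < 79883 → P i := stepQ 79882 Q79882 (allL N79882 (tt N46278 F339580) (tt N61760 (iv0 F340153)) (tt N76662 (iv2 F336471)) (tt N79284 (iv3 F347982)) (tt N76572 F339582) (tt N45985 (iv5 D164144)) (tt N65446 F258692) (tt N94108 (iv7 F403240)))
theorem Q79884 : ∀ i, i < 79884 → P i := stepQ 79883 Q79883 (allL N79883 (tt N68466 F347505) (tt N103448 F441682) (tt N103278 (iv2 F440947)) (tt N45987 (iv3 D164151)) (tt N80446 F339655) (tt N68508 (iv5 F343512)) (tt N76119 (iv6 F343514)) (tt N101809 (iv7 F434444)))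
theorem Q79885 : ∀ i, i < 79885 → P i := stepQ 79884 Q79884 (allL N79884 (tt N111756 D214998) (tt N96767 (iv0 F414178)) (tt N101811 (iv2 F434452)) (tt N99715 (iv3 F425880)) (tt N45987 (iv4 D164152)) (tt N103977 (iv5 F443624)) (tt N96832 F414176) (tt N101810 (iv7 F434450)))
theorem Q79886 : ∀ i, i < 79886 → P i := stepQ 79885 Q79885 (allL N79885 (tt N100804 F430554) (tt N47785 F345368) (tt N100808 (iv2 F430574)) (tt N76119 (iv3 F362179)) (tt N96832 (iv4 F414174)) (tt N80290 F345819) (tt N45987 (iv6 D164154)) (tt N100807 F430568))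
theorem Q79887 : ∀ i, i < 79887 → P i := stepQ 79886 Q79886 (allL N79886 (tt N46838 F354789) (tt N46841 F354790) (tt N67276 F354788) (tt N45988 (iv3 D164156)) (tt N67272 F354791) (tt N84147 (iv5 F368331)) (tt N80376 (iv6 F354787)) (tt N84146 (iv7 F368325)))
theorem Q79888 : ∀ i, i < 79888 → P i := stepQ 79887 Q79887 (allL N79887 (tt N96767 F413841) (tt N111756 F477810) (tt N101810 (iv2 F434448)) (tt N111757 D214999) (tt N45988 (iv4 D164157)) (tt N82481 (iv5 F362310)) (tt N82484 F345357) (tt N101811 (iv7 F434453)))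
theorem Q79889 : ∀ i, i < 79889 → P i := stepQ 79888 Q79888 (allL N79888 (tt N105763 (iv1 F451588)) (tt N102404 (iv0 F437096)) (tt N70804 F333455) (tt N97719 F418054) (tt N68301 (iv4 F333456)) (tt N45991 (iv5 D164178)) (tt N60487 (iv6 F359050)) (tt N70813 F333450))
theorem Q79890 : ∀ i, i < 79890 → P i := stepQ 79889 Q79889 (allL N79889 (tt N78457 (iv1 F337365)) (tt N81220 (iv0 F337363)) (tt N81221 (iv2 F337364)) (tt N45993 (iv3 D164192)) (tt N45994 F258777) (tt N89770 (iv5 F387497)) (tt N79171 (iv6 F305001)) (tt N79728 F258779))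
theorem Q79891 : ∀ i, i < 79891 → P i := stepQ 79890 Q79890 (allL N79890 (tt N51553 (iv1 F258795)) (tt N45995 (iv0 D164200)) (tt N47534 (iv2 F325739)) (tt N86601 F376575) (tt N80338 (iv4 F355846)) (tt N86837 (iv5 F377384)) (tt N47017 F324640) (tt N55781 F258796))
theorem Q79892 : ∀ i, i < 79892 → P i := stepQ 79891 Q79891 (allL N79891 (tt N47015 F324704) (tt N47529 F324705) (tt N47527 F324719) (tt N60356 (iv3 F332574)) (tt N45995 (iv4 D164201)) (tt N60354 F335997) (tt N47932 F335998) (tt N47526 F324720))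
theorem Q79893 : ∀ i, i < 79893 → P i := stepQ 79892 Q79892 (allL N79892 (tt N109690 (iv1 F468130)) (tt N109550 (iv0 F467472)) (tt N109717 (iv2 F468260)) (tt N45997 F258806) (tt N47932 F335995) (tt N51012 F258808) (tt N45995 (iv6 D164203)) (tt N51011 F258807))
theorem Q79894 : ∀ i, i < 79894 → P i := stepQ 79893 Q79893 (allL N79893 (tt N98126 (iv1 F419575)) (tt N93245 (iv0 F400100)) (tt N63816 F258815) (tt N69247 (iv3 F363069)) (tt N45996 (iv4 D164205)) (tt N69246 F363068) (tt N97645 F417753) (tt N63818 F258816))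
theorem Q79895 : ∀ i, i < 79895 → P i := stepQ 79894 Q79894 (allL N79894 (tt N92960 F398928) (tt N98638 (iv0 F421683)) (tt N63817 F258817) (tt N51562 F258818) (tt N97645 (iv4 F417751)) (tt N61614 F258819) (tt N45996 (iv6 D164206)) (tt N51557 F258820))
theorem Q79896 : ∀ i, i < 79896 → P i := stepQ 79895 Q79895 (allL N79895 (tt N45997 (iv1 D164207)) (tt N61250 F258821) (tt N61252 F258825) (tt N100020 (iv3 F427230)) (tt N61569 F258823) (tt N61517 F258826) (tt N61245 (iv6 F258824)) (tt N55789 F258822))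
theorem Q79897 : ∀ i, i < 79897 → P i := stepQ 79896 Q79896 (allL N79896 (tt N93245 (iv1 F400102)) (tt N98126 (iv0 F419574)) (tt N63818 F258827) (tt N68641 (iv3 F363065)) (tt N45998 (iv4 D164208)) (tt N66128 F363067) (tt N91223 (iv6 F392329)) (tt N63816 F258828))
theorem Q79898 : ∀ i, i < 79898 → P i := stepQ 79897 Q79897 (allL N79897 (tt N80899 (iv1 F355329)) (tt N46000 (iv0 D164209)) (tt N81451 (iv2 F355321)) (tt N46057 F283775) (tt N110253 (iv4 F470649)) (tt N83756 (iv5 F331428)) (tt N82035 F375440) (tt N81450 (iv7 F326301)))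
theorem Q79899 : ∀ i, i < 79899 → P i := stepQ 79898 Q79898 (allL N79898 (tt N46001 (iv1 D164213)) (tt N69426 (iv0 F326287)) (tt N76634 (iv2 F283769)) (tt N80909 F334106) (tt N64033 F283774) (tt N70492 (iv5 F357813)) (tt N109276 F466141) (tt N76633 (iv7 F283773)))
theorem Q79900 : ∀ i, i < 79900 → P i := stepQ 79899 Q79899 (allL N79899 (tt N74476 (iv1 F319881)) (tt N91203 F399405) (tt N76636 (iv2 F258957)) (tt N92034 (iv3 F395450)) (tt N68270 (iv4 F364640)) (tt N46002 (iv5 D164219)) (tt N68269 F333556) (tt N76639 F258956))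
theorem Q79901 : ∀ i, i < 79901 → P i := stepQ 79900 Q79900 (allL N79900 (tt N61108 (iv1 F419674)) (tt N77642 (iv0 F346134)) (tt N76637 F258968) (tt N85370 (iv3 F372381)) (tt N80855 F346135) (tt N76626 F258846) (tt N46002 (iv6 D164220)) (tt N85360 (iv7 F372341)))
theorem Q79902 : ∀ i, i < 79902 → P i := stepQ 79901 Q79901 (allL N79901 (tt N76643 (iv1 F258853)) (tt N46003 (iv0 D164226)) (tt N56474 (iv2 F363498)) (tt N93187 (iv3 F399867)) (tt N104086 (iv4 F444102)) (tt N105687 (iv5 F451254)) (tt N104085 F444099) (tt N76641 F363497))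
theorem Q79903 : ∀ i, i < 79903 → P i := stepQ 79902 Q79902 (allL N79902 (tt N105910 F452305) (tt N111758 D215000) (tt N76642 F258849) (tt N98663 (iv3 F421786)) (tt N46003 (iv4 D164228)) (tt N98445 F420939) (tt N46004 F258850) (tt N104081 (iv7 F444082)))
theorem Q79904 : ∀ i, i < 79904 → P i := stepQ 79903 Q79903 (allL N79903 (tt N104026 (iv1 F443856)) (tt N104024 (iv0 F443844)) (tt N98069 (iv2 F419338)) (tt N104925 (iv3 F447970)) (tt N53735 (iv4 F311796)) (tt N46004 (iv5 D164231)) (tt N111759 D215001) (tt N98364 (iv7 F420652)))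
theorem Q79905 : ∀ i, i < 79905 → P i := stepQ 79904 Q79904 (allL N79904 (tt N73375 (iv1 F349016)) (tt N46615 F336883) (tt N74762 F336884) (tt N94104 (iv3 F403220)) (tt N46007 F258865) (tt N79127 (iv5 F334858)) (tt N46006 (iv6 D164234)) (tt N88192 (iv7 F382107)))
theorem Q79906 : ∀ i, i < 79906 → P i := stepQ 79905 Q79905 (allL N79905 (tt N46007 (iv1 D164236)) (tt N80898 F349008) (tt N81459 (iv2 F349014)) (tt N46620 F349009) (tt N73722 F349010) (tt N61724 F349011) (tt N46635 F349012) (tt N81458 (iv7 F349081)))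
theorem Q79907 : ∀ i, i < 79907 → P i := stepQ 79906 Q79906 (allL N79906 (tt N101029 F431361) (tt N47402 F362051) (tt N51289 F258902) (tt N46011 F258903) (tt N98089 (iv4 F419415)) (tt N104507 (iv5 F446065)) (tt N46010 (iv6 D164261)) (tt N111760 D215002))
theorem Q79908 : ∀ i, i < 79908 → P i := stepQ 79907 Q79907 (allL N79907 (tt N46019 (iv1 F258908)) (tt N46011 (iv0 D164262)) (tt N46016 F338585) (tt N69269 (iv3 F338587)) (tt N64177 (iv4 F258910)) (tt N69244 (iv5 F338589)) (tt N109853 (iv6 F468923)) (tt N46017 F338586))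
theorem Q79909 : ∀ i, i < 79909 → P i := stepQ 79908 Q79908 (allL N79908 (tt N46011 (iv1 D164263)) (tt N46019 F258904) (tt N46017 F338580) (tt N111761 D215003) (tt N64193 (iv4 F338601)) (tt N69239 F338581) (tt N46988 F338582) (tt N46016 F338583))
theorem Q79910 : ∀ i, i < 79910 → P i := stepQ 79909 Q79909 (allL N79909 (tt N76784 F349326) (tt N86014 F374888) (tt N46018 F258905) (tt N104507 (iv3 F446063)) (tt N77451 (iv4 F349324)) (tt N46011 (iv5 D164264)) (tt N66425 F349325) (tt N86015 (iv7 F374893)))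
theorem Q79911 : ∀ i, i < 79911 → P i := stepQ 79910 Q79910 (allL N79910 (tt N46017 (iv1 F258909)) (tt N46016 F258911) (tt N46019 F258906) (tt N111760 (iv3 F477829)) (tt N46014 F258907) (tt N86015 (iv5 F374892)) (tt N85804 (iv6 F374022)) (tt N46011 (iv7 D164265)))
theorem Q79912 : ∀ i, i < 79912 → P i := stepQ 79911 Q79911 (allL N79911 (tt N105687 F451257) (tt N56196 F362050) (tt N46025 F323423) (tt N98117 (iv3 F419525)) (tt N101036 (iv4 F431397)) (tt N99736 (iv5 F425979)) (tt N46013 (iv6 D164274)) (tt N109069 (iv7 F465205)))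
theorem Q79913 : ∀ i, i < 79913 → P i := stepQ 79912 Q79912 (allL N79912 (tt N95475 F408330) (tt N95477 (iv0 F408335)) (tt N77348 F361967) (tt N46016 (iv3 D164280)) (tt N52503 (iv4 F348883)) (tt N107095 (iv5 F456939)) (tt N57494 (iv6 F354602)) (tt N111761 (iv7 F477838)))
theorem Q79914 : ∀ i, i < 79914 → P i := stepQ 79913 Q79913 (allL N79913 (tt N109068 F465201) (tt N94090 (iv0 F403156)) (tt N109853 (iv2 F468920)) (tt N57494 F354603) (tt N98400 (iv4 F420790)) (tt N58857 (iv5 F354604)) (tt N46016 (iv6 D164283)) (tt N59461 (iv7 F354605)))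
theorem Q79915 : ∀ i, i < 79915 → P i := stepQ 79914 Q79914 (allL N79914 (tt N47500 F338569) (tt N109797 F468662) (tt N46988 F338570) (tt N69266 (iv3 F338574)) (tt N98401 (iv4 F420796)) (tt N46977 F338571) (tt N46017 (iv6 D164288)) (tt N46992 F338572))
theorem Q79916 : ∀ i, i < 79916 → P i := stepQ 79915 Q79915 (allL N79915 (tt N86015 (iv1 F374894)) (tt N46018 (iv0 D164289)) (tt N76784 (iv2 F347111)) (tt N111100 (iv3 F474661)) (tt N64596 F374896) (tt N97363 (iv5 F416511)) (tt N76592 F347110) (tt N86014 (iv7 F374889)))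
theorem Q79917 : ∀ i, i < 79917 → P i := stepQ 79916 Q79916 (allL N79916 (tt N46018 (iv1 D164290)) (tt N86015 F374895) (tt N86014 F374887) (tt N104566 F446303) (tt N64597 F338555) (tt N97364 (iv5 F416518)) (tt N102696 (iv6 F438232)) (tt N76784 F347112))
theorem Q79918 : ∀ i, i < 79918 → P i := stepQ 79917 Q79917 (allL N79917 (tt N61474 F258929) (tt N61467 (iv0 F258930)) (tt N61471 F353807) (tt N109007 (iv3 F464884)) (tt N46020 (iv4 D164301)) (tt N111762 D215004) (tt N74831 F353817) (tt N61472 F353813))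
theorem Q79919 : ∀ i, i < 79919 → P i := stepQ 79918 Q79918 (allL N79918 (tt N111234 (iv1 F475354)) (tt N98088 (iv0 F419411)) (tt N98115 (iv2 F419513)) (tt N46022 F258931) (tt N75645 F366174) (tt N46020 (iv5 D164302)) (tt N85367 (iv6 F372365)) (tt N98116 (iv7 F419521)))
theorem Q79920 : ∀ i, i < 79920 → P i := stepQ 79919 Q79919 (allL N79919 (tt N55805 (iv1 F337886)) (tt N67055 F337887) (tt N74829 F337879) (tt N65103 F337875) (tt N46024 (iv4 D164323)) (tt N80442 F337874) (tt N68427 (iv6 F337883)) (tt N66658 F337882))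
theorem Q79921 : ∀ i, i < 79921 → P i := stepQ 79920 Q79920 (allL N79920 (tt N109069 F465207) (tt N46025 (iv0 D164330)) (tt N105687 (iv2 F451251)) (tt N46045 F334823) (tt N47500 F334826) (tt N56474 F334824) (tt N92854 (iv6 F398524)) (tt N56196 F334825))
theorem Q79922 : ∀ i, i < 79922 → P i := stepQ 79921 Q79921 (allL N79921 (tt N104080 (iv1 F444078)) (tt N69535 (iv0 F346154)) (tt N94106 (iv2 F403231)) (tt N81467 F347681) (tt N77643 F346132) (tt N46026 (iv5 D164337)) (tt N77642 (iv6 F346133)) (tt N61105 F347677))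
theorem Q79923 : ∀ i, i < 79923 → P i := stepQ 79922 Q79922 (allL N79922 (tt N100289 F428273) (tt N109010 (iv0 F464907)) (tt N100325 (iv2 F428431)) (tt N98093 (iv3 F419430)) (tt N73405 F353541) (tt N69717 (iv5 F353540)) (tt N46026 (iv6 D164338)) (tt N92550 (iv7 F397340)))
theorem Q79924 : ∀ i, i < 79924 → P i := stepQ 79923 Q79923 (allL N79923 (tt N69535 (iv1 F346156)) (tt N104080 F444077) (tt N61105 (iv2 F359852)) (tt N109366 (iv3 F466599)) (tt N94043 (iv4 F402949)) (tt N46027 (iv5 D164342)) (tt N61094 F258971) (tt N94106 (iv7 F403233)))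
theorem Q79925 : ∀ i, i < 79925 → P i := stepQ 79924 Q79924 (allL N79924 (tt N63408 (iv1 F259008)) (tt N46029 (iv0 D164344)) (tt N63406 (iv2 F288205)) (tt N81451 F355309) (tt N63803 (iv4 F355308)) (tt N91202 (iv5 F392247)) (tt N75496 (iv6 F355313)) (tt N63407 (iv7 F288208)))
theorem Q79926 : ∀ i, i < 79926 → P i := stepQ 79925 Q79925 (allL N79925 (tt N46029 (iv1 D164345)) (tt N63408 F258972) (tt N63407 F288206) (tt N46058 (iv3 F258975)) (tt N52605 F258973) (tt N91196 (iv5 F392233)) (tt N85805 F374031) (tt N63406 F288204))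
theorem Q79927 : ∀ i, i < 79927 → P i := stepQ 79926 Q79926 (allL N79926 (tt N75239 (iv1 F359664)) (tt N97277 F416179) (tt N60180 F259002) (tt N61141 F259003) (tt N111763 D215005) (tt N46029 (iv5 D164346)) (tt N46030 F259004) (tt N111764 D215006))
theorem Q79928 : ∀ i, i < 79928 → P i := stepQ 79927 Q79927 (allL N79927 (tt N63407 (iv1 F259009)) (tt N63406 F259010) (tt N63408 F259005) (tt N61142 F259006) (tt N75912 F334456) (tt N111764 (iv5 F477853)) (tt N63412 F259007) (tt N46029 (iv7 D164347)))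
theorem Q79929 : ∀ i, i < 79929 → P i := stepQ 79928 Q79928 (allL N79928 (tt N87129 F378468) (tt N87499 F379566) (tt N60179 F259011) (tt N111765 D215007) (tt N46030 (iv4 D164348)) (tt N87124 F378438) (tt N111763 (iv6 F477848)) (tt N60177 F259012))
theorem Q79930 : ∀ i, i < 79930 → P i := stepQ 79929 Q79929 (allL N79929 (tt N81470 F335478) (tt N81467 F347658) (tt N75476 F346172) (tt N46034 (iv3 D164373)) (tt N75482 F357767) (tt N78896 F259022) (tt N81403 F347629) (tt N81449 (iv7 F347628)))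
theorem Q79931 : ∀ i, i < 79931 → P i := stepQ 79930 Q79930 (allL N79930 (tt N64189 F259023) (tt N64186 F259024) (tt N87494 (iv2 F379543)) (tt N102980 (iv3 F439534)) (tt N46034 (iv4 D164374)) (tt N91919 (iv5 F394962)) (tt N90769 (iv6 F390787)) (tt N87489 F379537))
theorem Q79932 : ∀ i, i < 79932 → P i := stepQ 79931 Q79931 (allL N79931 (tt N85771 F373869) (tt N92642 (iv0 F397730)) (tt N90776 (iv2 F390799)) (tt N81403 (iv3 F347646)) (tt N90769 (iv4 F390785)) (tt N78897 F259025) (tt N46034 (iv6 D164375)) (tt N90768 F390782))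
theorem Q79933 : ∀ i, i < 79933 → P i := stepQ 79932 Q79932 (allL N79932 (tt N46043 (iv1 F259029)) (tt N46036 (iv0 D164378)) (tt N98122 F419555) (tt N87750 F380363) (tt N61484 F259028) (tt N111766 D215008) (tt N111767 D215009) (tt N98123 (iv7 F419558)))
theorem Q79934 : ∀ i, i < 79934 → P i := stepQ 79933 Q79933 (allL N79933 (tt N46036 (iv1 D164379)) (tt N46043 F259030) (tt N98123 F419562) (tt N111768 D215010) (tt N61485 F259031) (tt N111769 D215011) (tt N76038 (iv6 F259032)) (tt N98122 F419556))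
theorem Q79935 : ∀ i, i < 79935 → P i := stepQ 79934 Q79934 (allL N79934 (tt N66751 F346184) (tt N66748 F346187) (tt N109529 (iv2 F467386)) (tt N46036 (iv3 D164380)) (tt N80498 (iv4 F346186)) (tt N111770 D215012) (tt N102875 F439055) (tt N98125 (iv7 F419569)))
theorem Q79936 : ∀ i, i < 79936 → P i := stepQ 79935 Q79935 (allL N79935 (tt N87398 (iv1 F379239)) (tt N61498 F259034) (tt N87417 F379272) (tt N111770 (iv3 F477882)) (tt N51800 F259033) (tt N46036 (iv5 D164381)) (tt N97133 (iv6 F415607)) (tt N87416 F379268))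
theorem Q79937 : ∀ i, i < 79937 → P i := stepQ 79936 Q79936 (allL N79936 (tt N61118 (iv1 F353119)) (tt N46037 (iv0 D164383)) (tt N97122 (iv2 F415543)) (tt N82035 (iv3 F375441)) (tt N57641 (iv4 F350590)) (tt N61196 F259036) (tt N46057 (iv6 F259037)) (tt N93751 (iv7 F401768)))
theorem Q79938 : ∀ i, i < 79938 → P i := stepQ 79937 Q79937 (allL N79937 (tt N46037 (iv1 D164384)) (tt N61118 F353124) (tt N93751 (iv2 F401765)) (tt N99741 F426008) (tt N97123 (iv4 F415552)) (tt N59160 (iv5 F350597)) (tt N85769 F373861) (tt N97122 (iv7 F415549)))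
theorem Q79939 : ∀ i, i < 79939 → P i := stepQ 79938 Q79938 (allL N79938 (tt N93751 (iv1 F401770)) (tt N97122 (iv0 F415547)) (tt N61118 (iv2 F353117)) (tt N80143 F353116) (tt N71829 (iv4 F353121)) (tt N98220 (iv5 F420038)) (tt N61115 (iv6 F290567)) (tt N46037 (iv7 D164385)))
theorem Q79940 : ∀ i, i < 79940 → P i := stepQ 79939 Q79939 (allL N79939 (tt N91374 (iv1 F392897)) (tt N111771 D215013) (tt N87941 (iv2 F381248)) (tt N98080 (iv3 F419374)) (tt N51794 F290521) (tt N46040 (iv5 D164402)) (tt N104992 F448286) (tt N87940 (iv7 F381246)))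
theorem Q79941 : ∀ i, i < 79941 → P i := stepQ 79940 Q79940 (allL N79940 (tt N111772 D215014) (tt N111773 D215015) (tt N87942 (iv2 F381251)) (tt N98081 (iv3 F419377)) (tt N46042 F259046) (tt N68110 F340444) (tt N46040 (iv6 D164403)) (tt N104933 (iv7 F448008)))
theorem Q79942 : ∀ i, i < 79942 → P i := stepQ 79941 Q79941 (allL N79941 (tt N98127 (iv1 F419580)) (tt N46042 (iv0 D164408)) (tt N97276 (iv2 F416168)) (tt N74433 (iv3 F331579)) (tt N109018 (iv4 F464952)) (tt N56454 F290526) (tt N74431 F331578) (tt N56190 (iv7 F331580)))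
theorem Q79943 : ∀ i, i < 79943 → P i := stepQ 79942 Q79942 (allL N79942 (tt N46042 (iv1 D164409)) (tt N98127 F419579) (tt N56190 F398530) (tt N109841 (iv3 F468852)) (tt N111774 D215016) (tt N56455 F398531) (tt N46062 F398532) (tt N97276 (iv7 F416169)))
theorem Q79944 : ∀ i, i < 79944 → P i := stepQ 79943 Q79943 (allL N79943 (tt N79967 F290527) (tt N79966 F290528) (tt N61112 F290529) (tt N46046 F259049) (tt N52616 F358374) (tt N46042 (iv5 D164410)) (tt N55778 F290530) (tt N104002 (iv7 F443738)))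
theorem Q79945 : ∀ i, i < 79945 → P i := stepQ 79944 Q79944 (allL N79944 (tt N56190 F397761) (tt N97276 F416173) (tt N98127 (iv2 F419576)) (tt N46047 F259050) (tt N104933 (iv4 F448009)) (tt N104002 (iv5 F443737)) (tt N98121 (iv6 F419549)) (tt N46042 (iv7 D164411)))
theorem Q79946 : ∀ i, i < 79946 → P i := stepQ 79945 Q79945 (allL N79945 (tt N111775 D215017) (tt N66723 (iv0 F346185)) (tt N85775 (iv2 F373884)) (tt N46043 (iv3 D164412)) (tt N61174 F353131) (tt N111314 (iv5 F475771)) (tt N51633 (iv6 F353130)) (tt N85770 (iv7 F373864)))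
theorem Q79947 : ∀ i, i < 79947 → P i := stepQ 79946 Q79946 (allL N79946 (tt N61498 F259052) (tt N87398 (iv0 F379238)) (tt N87416 F379267) (tt N111314 F475772) (tt N51799 F259051) (tt N46043 (iv5 D164413)) (tt N111776 D215018) (tt N87417 (iv7 F379270)))
theorem Q79948 : ∀ i, i < 79948 → P i := stepQ 79947 Q79947 (allL N79947 (tt N108797 F463994) (tt N111777 D215019) (tt N92639 (iv2 F397717)) (tt N55778 (iv3 F364650)) (tt N111778 D215020) (tt N46044 (iv5 D164414)) (tt N46046 F259057) (tt N61117 F364649))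
theorem Q79949 : ∀ i, i < 79949 → P i := stepQ 79948 Q79948 (allL N79948 (tt N63818 F259060) (tt N63816 F259061) (tt N98126 (iv2 F419571)) (tt N52617 (iv3 F358373)) (tt N46046 (iv4 D164416)) (tt N111779 D215021) (tt N111778 (iv6 F477926)) (tt N93245 F400103))
theorem Q79950 : ∀ i, i < 79950 → P i := stepQ 79949 Q79949 (allL N79949 (tt N60993 (iv1 F259064)) (tt N60994 F259065) (tt N78926 F259062) (tt N104002 (iv3 F443735)) (tt N93245 (iv4 F400099)) (tt N46047 F259063) (tt N56615 (iv6 F259066)) (tt N46046 (iv7 D164417)))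
theorem Q79951 : ∀ i, i < 79951 → P i := stepQ 79950 Q79950 (allL N79950 (tt N75944 F362084) (tt N68474 F362085) (tt N75941 F362083) (tt N46048 (iv3 D164424)) (tt N80310 (iv4 F362082)) (tt N111780 D215022) (tt N96753 F413779) (tt N75942 F362069))
theorem Q79952 : ∀ i, i < 79952 → P i := stepQ 79951 Q79951 (allL N79951 (tt N111771 (iv1 F477887)) (tt N91374 (iv0 F392896)) (tt N87940 (iv2 F381244)) (tt N111780 (iv3 F477938)) (tt N51797 F259073) (tt N46048 (iv5 D164425)) (tt N104901 (iv6 F447854)) (tt N87941 (iv7 F381250)))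
theorem Q79953 : ∀ i, i < 79953 → P i := stepQ 79952 Q79952 (allL N79952 (tt N66639 (iv1 F377909)) (tt N66670 F390530) (tt N66668 F366047) (tt N96753 (iv3 F413774)) (tt N46050 F259074) (tt N86975 F377908) (tt N46048 (iv6 D164426)) (tt N66669 F366046))
theorem Q79954 : ∀ i, i < 79954 → P i := stepQ 79953 Q79953 (allL N79953 (tt N46050 (iv1 D164428)) (tt N98121 F419550) (tt N98120 (iv2 F419544)) (tt N109010 (iv3 F464903)) (tt N91558 (iv4 F393640)) (tt N103023 (iv5 F439715)) (tt N97789 (iv6 F418315)) (tt N91556 F393635))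
theorem Q79955 : ∀ i, i < 79955 → P i := stepQ 79954 Q79954 (allL N79954 (tt N109546 (iv1 F467456)) (tt N84031 (iv0 F378765)) (tt N77346 F361975) (tt N46051 (iv3 D164443)) (tt N77345 (iv4 F361979)) (tt N111781 D215023) (tt N106806 F455761) (tt N98129 (iv7 F419590)))
theorem Q79956 : ∀ i, i < 79956 → P i := stepQ 79955 Q79955 (allL N79955 (tt N91911 (iv1 F394933)) (tt N111782 D215024) (tt N98128 (iv2 F419581)) (tt N111781 (iv3 F477942)) (tt N51951 F259085) (tt N46051 (iv5 D164444)) (tt N104903 F447865) (tt N98130 (iv7 F419595)))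
theorem Q79957 : ∀ i, i < 79957 → P i := stepQ 79956 Q79956 (allL N79956 (tt N91554 F393625) (tt N91558 F393642) (tt N60755 (iv2 F354598)) (tt N106806 (iv3 F455758)) (tt N64192 F259086) (tt N60754 F357960) (tt N46051 (iv6 D164445)) (tt N91557 (iv7 F393638)))
theorem Q79958 : ∀ i, i < 79958 → P i := stepQ 79957 Q79957 (allL N79957 (tt N52494 (iv1 F361974)) (tt N52506 F361973) (tt N52504 F357959) (tt N46052 (iv3 D164446)) (tt N111761 (iv4 F477835)) (tt N111783 D215025) (tt N91549 (iv6 F393609)) (tt N52503 (iv7 F348885)))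
theorem Q79959 : ∀ i, i < 79959 → P i := stepQ 79958 Q79958 (allL N79958 (tt N111782 (iv1 F477944)) (tt N91911 (iv0 F394932)) (tt N98130 (iv2 F419593)) (tt N111783 (iv3 F477952)) (tt N51949 F259087) (tt N46052 (iv5 D164447)) (tt N111784 D215026) (tt N98128 (iv7 F419584)))
theorem Q79960 : ∀ i, i < 79960 → P i := stepQ 79959 Q79959 (allL N79959 (tt N109018 F464956) (tt N111774 (iv0 F477909)) (tt N98131 (iv2 F419598)) (tt N91549 F393611) (tt N64194 F259088) (tt N69501 (iv5 F350610)) (tt N46052 (iv6 D164448)) (tt N106816 (iv7 F455809)))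
theorem Q79961 : ∀ i, i < 79961 → P i := stepQ 79960 Q79960 (allL N79960 (tt N51801 (iv1 F259091)) (tt N46053 (iv0 D164449)) (tt N98132 F419608) (tt N111785 D215027) (tt N51953 F259090) (tt N64186 F259089) (tt N97127 (iv6 F415579)) (tt N98133 (iv7 F419612)))
theorem Q79962 : ∀ i, i < 79962 → P i := stepQ 79961 Q79961 (allL N79961 (tt N46053 (iv1 D164450)) (tt N51801 F259092) (tt N98133 F419615) (tt N111786 D215028) (tt N51952 F259094) (tt N64189 F259093) (tt N111787 D215029) (tt N98132 F419609))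
theorem Q79963 : ∀ i, i < 79963 → P i := stepQ 79962 Q79962 (allL N79962 (tt N46056 (iv1 D164452)) (tt N87713 F380236) (tt N79985 F350604) (tt N84044 F367902) (tt N61087 (iv4 F259095)) (tt N69500 (iv5 F340439)) (tt N111775 (iv6 F477913)) (tt N69499 F340440))
theorem Q79964 : ∀ i, i < 79964 → P i := stepQ 79963 Q79963 (allL N79963 (tt N111788 D215030) (tt N108473 (iv0 F462743)) (tt N87712 (iv2 F380228)) (tt N109249 (iv3 F465987)) (tt N79967 F340437) (tt N46056 (iv5 D164453)) (tt N51789 F259097) (tt N111789 D215031))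
theorem Q79965 : ∀ i, i < 79965 → P i := stepQ 79964 Q79964 (allL N79964 (tt N79985 (iv1 F259265)) (tt N69499 (iv0 F352662)) (tt N87713 (iv2 F380232)) (tt N109250 (iv3 F465990)) (tt N46059 F259098) (tt N111789 (iv5 F477984)) (tt N87715 (iv6 F380244)) (tt N46056 (iv7 D164454)))
theorem Q79966 : ∀ i, i < 79966 → P i := stepQ 79965 Q79965 (allL N79965 (tt N52601 F259102) (tt N46071 F259106) (tt N52338 (iv2 F288179)) (tt N52588 (iv3 F259105)) (tt N46057 (iv4 D164457)) (tt N57639 F340438) (tt N57641 (iv6 F350611)) (tt N52602 F259104))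
theorem Q79967 : ∀ i, i < 79967 → P i := stepQ 79966 Q79966 (allL N79966 (tt N79943 (iv1 F290528)) (tt N98157 F419764) (tt N98068 (iv2 F419335)) (tt N83756 F331426) (tt N106880 (iv4 F456109)) (tt N46057 (iv5 D164458)) (tt N83745 F331427) (tt N83746 (iv7 F331424)))
theorem Q79968 : ∀ i, i < 79968 → P i := stepQ 79967 Q79967 (allL N79967 (tt N98157 (iv1 F419765)) (tt N79943 (iv0 F290527)) (tt N83746 (iv2 F331423)) (tt N91196 (iv3 F392232)) (tt N79963 (iv4 F340437)) (tt N46058 (iv5 D164460)) (tt N60253 F259110) (tt N98068 (iv7 F419336)))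
theorem Q79969 : ∀ i, i < 79969 → P i := stepQ 79968 Q79968 (allL N79968 (tt N85766 (iv1 F373848)) (tt N61174 F288219) (tt N83639 F288172) (tt N85805 F374030) (tt N52604 F259112) (tt N83638 (iv5 F288171)) (tt N46058 (iv6 D164461)) (tt N85769 (iv7 F373860)))
theorem Q79970 : ∀ i, i < 79970 → P i := stepQ 79969 Q79969 (allL N79969 (tt N56187 F259115) (tt N46061 (iv0 D164462)) (tt N56184 (iv2 F355723)) (tt N51809 (iv3 F340928)) (tt N55813 F259113) (tt N67141 F355727) (tt N111773 (iv6 F477903)) (tt N56185 (iv7 F340931)))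
theorem Q79971 : ∀ i, i < 79971 → P i := stepQ 79970 Q79970 (allL N79970 (tt N46061 (iv1 D164463)) (tt N56187 F259116) (tt N56185 (iv2 F355726)) (tt N53887 F346748) (tt N75992 F346747) (tt N102870 (iv5 F439023)) (tt N111790 D215032) (tt N56184 F355725))
theorem Q79972 : ∀ i, i < 79972 → P i := stepQ 79971 Q79971 (allL N79971 (tt N90374 (iv1 F389445)) (tt N90369 F397741) (tt N56186 F259117) (tt N101754 (iv3 F434194)) (tt N111791 D215033) (tt N46061 (iv5 D164464)) (tt N52193 F259118) (tt N111792 D215034))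
theorem Q79973 : ∀ i, i < 79973 → P i := stepQ 79972 Q79972 (allL N79972 (tt N56185 (iv1 F259122)) (tt N56184 F259123) (tt N56187 F259119) (tt N75918 F259120) (tt N46065 F259121) (tt N111792 (iv5 F478001)) (tt N68115 (iv6 F350599)) (tt N46061 (iv7 D164465)))
theorem Q79974 : ∀ i, i < 79974 → P i := stepQ 79973 Q79973 (allL N79973 (tt N54568 (iv1 F314185)) (tt N46067 (iv0 F259133)) (tt N54570 (iv2 F319839)) (tt N54972 (iv3 F259127)) (tt N46062 (iv4 D164468)) (tt N106110 (iv5 F453164)) (tt N111774 (iv6 F477907)) (tt N54569 (iv7 F325809)))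
theorem Q79975 : ∀ i, i < 79975 → P i := stepQ 79974 Q79974 (allL N79974 (tt N92843 F398472) (tt N84923 F398473) (tt N56189 F366118) (tt N84959 (iv3 F374760)) (tt N111793 D215035) (tt N46062 (iv5 D164469)) (tt N104832 (iv6 F447516)) (tt N56192 F366116))
theorem Q79976 : ∀ i, i < 79976 → P i := stepQ 79975 Q79975 (allL N79975 (tt N84923 (iv1 F398474)) (tt N92843 F398471) (tt N56192 F366117) (tt N68205 (iv3 F362422)) (tt N111794 D215036) (tt N46063 (iv5 D164472)) (tt N68203 (iv6 F362426)) (tt N56189 F362427))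
theorem Q79977 : ∀ i, i < 79977 → P i := stepQ 79976 Q79976 (allL N79976 (tt N111258 F475486) (tt N103837 (iv0 F443029)) (tt N56157 F259205) (tt N111795 D215037) (tt N46064 (iv4 D164475)) (tt N111796 D215038) (tt N56155 F259206) (tt N111797 D215039))
theorem Q79978 : ∀ i, i < 79978 → P i := stepQ 79977 Q79977 (allL N79977 (tt N56160 (iv1 F259209)) (tt N56159 F259210) (tt N56161 F259207) (tt N92734 (iv3 F398023)) (tt N111797 (iv4 F478019)) (tt N46065 F259208) (tt N97897 (iv6 F418700)) (tt N46064 (iv7 D164476)))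
theorem Q79979 : ∀ i, i < 79979 → P i := stepQ 79978 Q79978 (allL N79978 (tt N49243 (iv1 F288037)) (tt N83642 F288215) (tt N83641 F288168) (tt N92808 (iv3 F398317)) (tt N84675 (iv4 F370165)) (tt N46069 (iv5 D164484)) (tt N50416 F259223) (tt N83613 (iv7 F288035)))
theorem Q79980 : ∀ i, i < 79980 → P i := stepQ 79979 Q79979 (allL N79979 (tt N87089 F445254) (tt N69943 (iv0 F361766)) (tt N77288 F259225) (tt N46071 F259226) (tt N77286 F259227) (tt N111798 D215040) (tt N46070 (iv6 D164486)) (tt N111799 D215041))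
theorem Q79981 : ∀ i, i < 79981 → P i := stepQ 79980 Q79980 (allL N79980 (tt N111800 D215042) (tt N52616 (iv0 F358375)) (tt N87397 (iv2 F379233)) (tt N111798 (iv3 F478024)) (tt N86439 (iv4 F376226)) (tt N46071 (iv5 D164487)) (tt N52534 F259228) (tt N111801 D215043))
theorem Q79982 : ∀ i, i < 79982 → P i := stepQ 79981 Q79981 (allL N79981 (tt N52602 (iv1 F288201)) (tt N52338 (iv0 F261860)) (tt N52601 F259229) (tt N111799 (iv3 F478028)) (tt N46074 F259230) (tt N111801 (iv5 F478041)) (tt N80029 (iv6 F259570)) (tt N46071 (iv7 D164488)))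
theorem Q79983 : ∀ i, i < 79983 → P i := stepQ 79982 Q79982 (allL N79982 (tt N86601 (iv1 F376572)) (tt N86031 (iv0 F374960)) (tt N86602 (iv2 F376577)) (tt N46072 (iv3 D164490)) (tt N59261 (iv4 F347687)) (tt N86444 (iv5 F376237)) (tt N83863 (iv6 F347690)) (tt N84486 (iv7 F369506)))
theorem Q79984 : ∀ i, i < 79984 → P i := stepQ 79983 Q79983 (allL N79983 (tt N92205 (iv1 F396244)) (tt N98273 F420280) (tt N98135 (iv2 F419624)) (tt N86444 (iv3 F376236)) (tt N111801 (iv4 F478040)) (tt N46072 (iv5 D164492)) (tt N86608 (iv6 F376591)) (tt N86439 F376229))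
theorem Q79985 : ∀ i, i < 79985 → P i := stepQ 79984 Q79984 (allL N79984 (tt N98476 (iv1 F421053)) (tt N64187 (iv0 F259234)) (tt N68117 (iv2 F335532)) (tt N83863 F347694) (tt N60163 F352664) (tt N61233 F259233) (tt N46072 (iv6 D164493)) (tt N84190 (iv7 F368464)))
theorem Q79986 : ∀ i, i < 79986 → P i := stepQ 79985 Q79985 (allL N79985 (tt N52196 F259263) (tt N79964 F259265) (tt N79962 (iv2 F350604)) (tt N52213 (iv3 F334522)) (tt N46073 (iv4 D164496)) (tt N68113 (iv5 F350607)) (tt N102965 (iv6 F439476)) (tt N68112 F350603))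
theorem Q79987 : ∀ i, i < 79987 → P i := stepQ 79986 Q79986 (allL N79986 (tt N79039 (iv1 F369500)) (tt N79041 F369499) (tt N84485 (iv2 F369498)) (tt N91170 (iv3 F392145)) (tt N102965 (iv4 F439475)) (tt N85176 (iv5 F371813)) (tt N46073 (iv6 D164497)) (tt N85175 (iv7 F371809)))
theorem Q79988 : ∀ i, i < 79988 → P i := stepQ 79987 Q79987 (allL N79987 (tt N46075 (iv1 D164499)) (tt N61370 F259236) (tt N61368 (iv2 F347806)) (tt N80025 F290481) (tt N59530 (iv4 F347800)) (tt N111802 D215044) (tt N61716 (iv6 F413009)) (tt N61367 (iv7 F347805)))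
theorem Q79989 : ∀ i, i < 79989 → P i := stepQ 79988 Q79988 (allL N79988 (tt N100205 (iv1 F431407)) (tt N111157 (iv0 F474985)) (tt N61369 F259237) (tt N75598 (iv3 F366342)) (tt N109863 F468981) (tt N46075 (iv5 D164500)) (tt N56095 F259238) (tt N111803 D215045))
theorem Q79990 : ∀ i, i < 79990 → P i := stepQ 79989 Q79989 (allL N79989 (tt N61368 (iv1 F259242)) (tt N61367 F259243) (tt N61370 F259239) (tt N62537 (iv3 F347810)) (tt N62538 (iv4 F347814)) (tt N111803 (iv5 F478051)) (tt N73678 (iv6 F319093)) (tt N46075 (iv7 D164501)))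
theorem Q79991 : ∀ i, i < 79991 → P i := stepQ 79990 Q79990 (allL N79990 (tt N63824 (iv1 F336413)) (tt N63830 F336414) (tt N63241 (iv2 F336405)) (tt N46078 F259255) (tt N52486 F259256) (tt N63209 (iv5 F332309)) (tt N46077 (iv6 D164506)) (tt N63238 (iv7 F336412)))
theorem Q79992 : ∀ i, i < 79992 → P i := stepQ 79991 Q79991 (allL N79991 (tt N48978 F332302) (tt N78622 F332303) (tt N53747 F332304) (tt N63209 F332308) (tt N53746 F332305) (tt N46078 (iv5 D164507)) (tt N78480 F364463) (tt N63237 (iv7 F332314)))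
theorem Q79993 : ∀ i, i < 79993 → P i := stepQ 79992 Q79992 (allL N79992 (tt N98770 (iv1 F422247)) (tt N61280 (iv0 F259270)) (tt N63806 F259268) (tt N46079 (iv3 D164510)) (tt N73977 (iv4 F315716)) (tt N87481 F379488) (tt N73976 F363835) (tt N75263 F259269))
theorem Q79994 : ∀ i, i < 79994 → P i := stepQ 79993 Q79993 (allL N79993 (tt N98358 F420798) (tt N108807 F464045) (tt N100656 (iv2 F429870)) (tt N87481 (iv3 F379489)) (tt N68369 F379491) (tt N46079 (iv5 D164512)) (tt N68368 F379492) (tt N100657 (iv7 F429878)))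
theorem Q79995 : ∀ i, i < 79995 → P i := stepQ 79994 Q79994 (allL N79994 (tt N108807 (iv1 F464046)) (tt N98358 (iv0 F420635)) (tt N100657 (iv2 F429876)) (tt N63811 F259286) (tt N104025 (iv4 F443847)) (tt N46080 (iv5 D164514)) (tt N98361 (iv6 F420643)) (tt N100656 (iv7 F429872)))
theorem Q79996 : ∀ i, i < 79996 → P i := stepQ 79995 Q79995 (allL N79995 (tt N86476 F382256) (tt N86471 (iv0 F376335)) (tt N100658 (iv2 F429881)) (tt N63812 F259287) (tt N100497 (iv4 F429192)) (tt N111286 (iv5 F475637)) (tt N46080 (iv6 D164515)) (tt N100496 (iv7 F429187)))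
theorem Q79997 : ∀ i, i < 79997 → P i := stepQ 79996 Q79996 (allL N79996 (tt N57702 F339019) (tt N68552 (iv0 F339021)) (tt N68554 (iv2 F333419)) (tt N46084 (iv3 D164520)) (tt N78312 (iv4 F339007)) (tt N58755 F339018) (tt N58758 (iv6 F339016)) (tt N68553 (iv7 F333435)))
theorem Q79998 : ∀ i, i < 79998 → P i := stepQ 79997 Q79997 (allL N79997 (tt N54312 (iv1 F316746)) (tt N54309 F362743) (tt N76735 F259316) (tt N58755 (iv3 F361256)) (tt N92553 (iv4 F397350)) (tt N46084 (iv5 D164521)) (tt N58753 F361255) (tt N76736 F259317))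
theorem Q79999 : ∀ i, i < 79999 → P i := stepQ 79998 Q79998 (allL N79998 (tt N54309 F362742) (tt N54312 (iv0 F316745)) (tt N76736 F259322) (tt N54317 (iv3 F346472)) (tt N111804 D215046) (tt N46085 (iv5 D164523)) (tt N111805 D215047) (tt N76735 F259323))
theorem Q80000 : ∀ i, i < 80000 → P i := stepQ 79999 Q79999 (allL N79999 (tt N76773 F339365) (tt N76590 (iv0 F339380)) (tt N76737 F259325) (tt N80300 (iv3 F263181)) (tt N76063 F259326) (tt N63711 (iv5 F339377)) (tt N46085 (iv6 D164524)) (tt N76772 (iv7 F259327)))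
theorem Q80001 : ∀ i, i < 80001 → P i := stepQ 80000 Q80000 (allL N80000 (tt N110509 (iv1 F471910)) (tt N100499 (iv0 F429205)) (tt N76739 F259329) (tt N111806 D215048) (tt N46086 (iv4 D164527)) (tt N92416 (iv5 F396946)) (tt N81272 (iv6 F274072)) (tt N90471 (iv7 F389780)))
theorem Q80002 : ∀ i, i < 80002 → P i := stepQ 80001 Q80001 (allL N80001 (tt N77604 F259338) (tt N78364 F259339) (tt N63867 F259336) (tt N62695 F360159) (tt N74718 (iv4 F360160)) (tt N46088 (iv5 D164529)) (tt N92493 (iv6 F397153)) (tt N66373 (iv7 F323813)))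
theorem Q80003 : ∀ i, i < 80003 → P i := stepQ 80002 Q80002 (allL N80002 (tt N46092 (iv1 D164553)) (tt N63590 F259370) (tt N63588 (iv2 F273678)) (tt N77620 F259371) (tt N73991 (iv4 F319376)) (tt N100708 (iv5 F430116)) (tt N80943 F364609) (tt N63587 (iv7 F273677)))
theorem Q80004 : ∀ i, i < 80004 → P i := stepQ 80003 Q80003 (allL N80003 (tt N81210 (iv1 F346373)) (tt N100140 (iv0 F427654)) (tt N63589 F259373) (tt N79562 (iv3 F334233)) (tt N101650 F433698) (tt N46092 (iv5 D164554)) (tt N46095 F259374) (tt N103145 (iv7 F440281)))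
theorem Q80005 : ∀ i, i < 80005 → P i := stepQ 80004 Q80004 (allL N80004 (tt N82134 (iv1 F278759)) (tt N54301 (iv0 F308158)) (tt N68529 (iv2 F314758)) (tt N47437 F307508) (tt N96031 (iv4 F410725)) (tt N46093 (iv5 D164556)) (tt N59528 F342072) (tt N76722 F259381))
theorem Q80006 : ∀ i, i < 80006 → P i := stepQ 80005 Q80005 (allL N80005 (tt N75656 (iv1 F259386)) (tt N75657 (iv0 F259385)) (tt N68530 (iv2 F314762)) (tt N61581 (iv3 F334795)) (tt N109467 (iv4 F467114)) (tt N61580 (iv5 F335511)) (tt N46093 (iv6 D164557)) (tt N76785 F259383))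
theorem Q80007 : ∀ i, i < 80007 → P i := stepQ 80006 Q80006 (allL N80006 (tt N54301 (iv1 F308159)) (tt N82134 F278760) (tt N76722 F259395) (tt N68492 F358657) (tt N96038 (iv4 F410755)) (tt N46094 (iv5 D164559)) (tt N94024 F402857) (tt N68529 (iv7 F314759)))
theorem Q80008 : ∀ i, i < 80008 → P i := stepQ 80007 Q80007 (allL N80007 (tt N76725 (iv1 F259401)) (tt N46095 (iv0 D164560)) (tt N68544 (iv2 F342063)) (tt N78581 F342064) (tt N93475 (iv4 F400842)) (tt N78580 F342065) (tt N80282 F342066) (tt N76723 F342067))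
theorem Q80009 : ∀ i, i < 80009 → P i := stepQ 80008 Q80008 (allL N80008 (tt N46095 (iv1 D164561)) (tt N76725 F259397) (tt N76723 (iv2 F342060)) (tt N68497 (iv3 F334534)) (tt N93474 (iv4 F400828)) (tt N74525 F342059) (tt N79711 (iv6 F342069)) (tt N68544 (iv7 F342061)))
theorem Q80010 : ∀ i, i < 80010 → P i := stepQ 80009 Q80009 (allL N80009 (tt N78440 (iv1 F342062)) (tt N100744 (iv0 F430266)) (tt N76724 F259398) (tt N67454 F361366) (tt N46095 (iv4 D164562)) (tt N78184 F338230) (tt N101650 F433699) (tt N100747 (iv7 F430278)))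
theorem Q80011 : ∀ i, i < 80011 → P i := stepQ 80010 Q80010 (allL N80010 (tt N76723 (iv1 F259402)) (tt N68544 (iv0 F342043)) (tt N76725 F259399) (tt N79553 (iv3 F342742)) (tt N100747 (iv4 F430279)) (tt N46096 F259400) (tt N79550 F363107) (tt N46095 (iv7 D164563)))
theorem Q80012 : ∀ i, i < 80012 → P i := stepQ 80011 Q80011 (allL N80011 (tt N78702 F259406) (tt N78701 F259407) (tt N64014 F259404) (tt N77589 F362309) (tt N94701 (iv4 F405592)) (tt N46097 (iv5 D164564)) (tt N71749 (iv6 F341239)) (tt N76727 F259405))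
theorem Q80013 : ∀ i, i < 80013 → P i := stepQ 80012 Q80012 (allL N80012 (tt N62857 F259410) (tt N58977 (iv0 F338237)) (tt N48051 F259408) (tt N75741 F348298) (tt N46098 (iv4 D164565)) (tt N72159 (iv5 F345983)) (tt N69977 (iv6 F363093)) (tt N74983 F259409))
theorem Q80014 : ∀ i, i < 80014 → P i := stepQ 80013 Q80013 (allL N80013 (tt N74982 (iv1 F259425)) (tt N46099 (iv0 D164567)) (tt N74980 (iv2 F259435)) (tt N84279 (iv3 F368790)) (tt N74815 (iv4 F259427)) (tt N108660 (iv5 F463407)) (tt N81701 (iv6 F366834)) (tt N74981 (iv7 F259437)))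
theorem Q80015 : ∀ i, i < 80015 → P i := stepQ 80014 Q80014 (allL N80014 (tt N46099 (iv1 D164568)) (tt N74982 F259418) (tt N74981 F259436) (tt N59263 (iv3 F364007)) (tt N76126 F259419) (tt N108661 (iv5 F463411)) (tt N73709 F411607) (tt N74980 F259434))
theorem Q80016 : ∀ i, i < 80016 → P i := stepQ 80015 Q80015 (allL N80015 (tt N59270 F333935) (tt N82076 F333936) (tt N47410 F333937) (tt N46099 (iv3 D164569)) (tt N47366 F333938) (tt N59246 F333939) (tt N46101 F259421) (tt N47401 F333940))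
theorem Q80017 : ∀ i, i < 80017 → P i := stepQ 80016 Q80016 (allL N80016 (tt N84233 (iv1 F368620)) (tt N59255 (iv0 F352630)) (tt N71674 (iv2 F329016)) (tt N59246 (iv3 F364008)) (tt N107245 (iv4 F457624)) (tt N46099 (iv5 D164570)) (tt N70943 F365538) (tt N96034 (iv7 F410737)))
theorem Q80018 : ∀ i, i < 80018 → P i := stepQ 80017 Q80017 (allL N80017 (tt N74981 (iv1 F259426)) (tt N74980 F259429) (tt N74982 F259423) (tt N47401 F361430) (tt N46100 F259424) (tt N96034 (iv5 F410738)) (tt N101031 (iv6 F431365)) (tt N46099 (iv7 D164571)))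
theorem Q80019 : ∀ i, i < 80019 → P i := stepQ 80018 Q80018 (allL N80018 (tt N46101 (iv1 D164573)) (tt N73854 F259449) (tt N101289 (iv2 F432543)) (tt N54189 (iv3 F383421)) (tt N82097 (iv4 F348478)) (tt N54176 (iv5 F383422)) (tt N54178 F383420) (tt N105144 (iv7 F448984)))
theorem Q80020 : ∀ i, i < 80020 → P i := stepQ 80019 Q80019 (allL N80019 (tt N105144 F448986) (tt N101289 (iv0 F432548)) (tt N46101 (iv2 D164574)) (tt N73714 F259446) (tt N47411 F333957) (tt N108397 (iv5 F462404)) (tt N47410 F333958) (tt N73854 F259448))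
theorem Q80021 : ∀ i, i < 80021 → P i := stepQ 80020 Q80020 (allL N80020 (tt N99861 (iv1 F426589)) (tt N99863 (iv0 F426596)) (tt N108397 (iv2 F462403)) (tt N46102 F259450) (tt N93954 (iv4 F402578)) (tt N46101 (iv5 D164575)) (tt N70942 (iv6 F365609)) (tt N71114 F365608))
theorem Q80022 : ∀ i, i < 80022 → P i := stepQ 80021 Q80021 (allL N80021 (tt N81684 (iv1 F357109)) (tt N81687 F357112) (tt N100392 (iv2 F428762)) (tt N46950 F259515) (tt N46108 F259516) (tt N111807 D215049) (tt N46106 (iv6 D164598)) (tt N100527 (iv7 F429335)))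
theorem Q80023 : ∀ i, i < 80023 → P i := stepQ 80022 Q80022 (allL N80022 (tt N92203 (iv1 F396232)) (tt N98353 (iv0 F420615)) (tt N54903 (iv2 F355643)) (tt N46113 F259535) (tt N75577 (iv4 F347741)) (tt N51510 F259536) (tt N46112 (iv6 D164614)) (tt N54906 (iv7 F356105)))
theorem Q80024 : ∀ i, i < 80024 → P i := stepQ 80023 Q80023 (allL N80023 (tt N76030 (iv1 F259544)) (tt N61493 F259545) (tt N76031 F259541) (tt N54906 F356104) (tt N87710 (iv4 F380222)) (tt N54904 (iv5 F356101)) (tt N76034 F259543) (tt N46113 (iv7 D164616)))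
theorem Q80025 : ∀ i, i < 80025 → P i := stepQ 80024 Q80024 (allL N80024 (tt N76034 F259548) (tt N46114 (iv0 D164617)) (tt N76033 (iv2 F283546)) (tt N63278 (iv3 F259547)) (tt N51978 (iv4 F259549)) (tt N86097 (iv5 F375115)) (tt N51294 F259546) (tt N63304 (iv7 F283572)))
theorem Q80026 : ∀ i, i < 80026 → P i := stepQ 80025 Q80025 (allL N80025 (tt N46114 (iv1 D164618)) (tt N76034 F259550) (tt N63304 (iv2 F283571)) (tt N79987 (iv3 F290481)) (tt N51979 F290482) (tt N98674 (iv5 F421811)) (tt N98749 (iv6 F422141)) (tt N76033 F283547))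
theorem Q80027 : ∀ i, i < 80027 → P i := stepQ 80026 Q80026 (allL N80026 (tt N49816 F360930) (tt N96194 (iv0 F411437)) (tt N88078 (iv2 F381709)) (tt N46116 F259563) (tt N49711 (iv4 F307590)) (tt N111808 D215050) (tt N46115 (iv6 D164620)) (tt N111809 D215051))
theorem Q80028 : ∀ i, i < 80028 → P i := stepQ 80027 Q80027 (allL N80027 (tt N52015 (iv1 F347580)) (tt N46116 (iv0 D164621)) (tt N51753 F332628) (tt N52002 (iv3 F342252)) (tt N61082 (iv4 F332627)) (tt N108640 (iv5 F463327)) (tt N54561 F366709) (tt N52016 (iv7 F361701)))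
theorem Q80029 : ∀ i, i < 80029 → P i := stepQ 80028 Q80028 (allL N80028 (tt N66530 (iv1 F378456)) (tt N52030 (iv0 F356964)) (tt N66527 (iv2 F355231)) (tt N111808 (iv3 F478078)) (tt N103217 (iv4 F440619)) (tt N46116 (iv5 D164623)) (tt N51936 F259567) (tt N66528 (iv7 F355234)))
theorem Q80030 : ∀ i, i < 80030 → P i := stepQ 80029 Q80029 (allL N80029 (tt N52016 (iv1 F361699)) (tt N51753 (iv0 F342956)) (tt N52015 (iv2 F347581)) (tt N111809 (iv3 F478083)) (tt N46119 F259569) (tt N66528 F355235) (tt N79981 F259570) (tt N46116 (iv7 D164624)))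
theorem Q80031 : ∀ i, i < 80031 → P i := stepQ 80030 Q80030 (allL N80030 (tt N80901 F364185) (tt N78880 F364190) (tt N81462 F364184) (tt N46117 (iv3 D164625)) (tt N98086 (iv4 F419395)) (tt N55407 F364191) (tt N84735 (iv6 F370413)) (tt N76037 F259574))
theorem Q80032 : ∀ i, i < 80032 → P i := stepQ 80031 Q80031 (allL N80031 (tt N98749 F422144) (tt N111319 (iv0 F475801)) (tt N76036 F259582) (tt N84735 F370415) (tt N111231 (iv4 F475339)) (tt N97902 F418727) (tt N46117 (iv6 D164628)) (tt N100769 (iv7 F430383)))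
theorem Q80033 : ∀ i, i < 80033 → P i := stepQ 80032 Q80032 (allL N80032 (tt N102286 (iv1 F436560)) (tt N95104 (iv0 F407062)) (tt N94032 (iv2 F402895)) (tt N46123 (iv3 D164841)) (tt N102969 (iv4 F439496)) (tt N103622 (iv5 F442274)) (tt N58750 (iv6 F359282)) (tt N80063 (iv7 F261159)))
theorem Q80034 : ∀ i, i < 80034 → P i := stepQ 80033 Q80033 (allL N80033 (tt N83673 F362994) (tt N80370 F334337) (tt N88915 (iv2 F384524)) (tt N46126 (iv3 D164977)) (tt N65605 (iv4 F334371)) (tt N102281 (iv5 F436536)) (tt N46841 F334338) (tt N60002 (iv7 F357790)))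
theorem Q80035 : ∀ i, i < 80035 → P i := stepQ 80034 Q80034 (allL N80034 (tt N54132 (iv1 F348717)) (tt N48236 F305844) (tt N82557 (iv2 F282515)) (tt N46130 (iv3 D165029)) (tt N54300 (iv4 F308156)) (tt N74438 F305846) (tt N76025 F305847) (tt N75860 F305848))
theorem Q80036 : ∀ i, i < 80036 → P i := stepQ 80035 Q80035 (allL N80035 (tt N77348 F346569) (tt N111761 (iv0 F477839)) (tt N95477 (iv2 F408332)) (tt N46786 F260459) (tt N82938 (iv4 F284870)) (tt N68239 (iv5 F366571)) (tt N46137 (iv6 D165197)) (tt N95475 (iv7 F408327)))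
theorem Q80037 : ∀ i, i < 80037 → P i := stepQ 80036 Q80036 (allL N80036 (tt N63082 F312434) (tt N48442 F312435) (tt N46141 (iv2 D165316)) (tt N48409 F312436) (tt N64275 F312437) (tt N99857 (iv5 F426572)) (tt N64639 F312438) (tt N48486 F312439))
theorem Q80038 : ∀ i, i < 80038 → P i := stepQ 80037 Q80037 (allL N80037 (tt N64455 F364921) (tt N53322 (iv0 F364926)) (tt N64275 (iv2 F364923)) (tt N54235 F364920) (tt N46141 (iv4 D165317)) (tt N111810 D215052) (tt N64636 (iv6 F364924)) (tt N54247 F364922))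
theorem Q80039 : ∀ i, i < 80039 → P i := stepQ 80038 Q80038 (allL N80038 (tt N81528 F348161) (tt N111811 D215053) (tt N102093 (iv2 F435686)) (tt N46144 (iv3 D165604)) (tt N46145 F260877) (tt N102373 (iv5 F436963)) (tt N82435 F366192) (tt N65126 F260878))
theorem Q80040 : ∀ i, i < 80040 → P i := stepQ 80039 Q80039 (allL N80039 (tt N67427 F341740) (tt N67436 F341754) (tt N65124 F260879) (tt N102373 (iv3 F436961)) (tt N67844 (iv4 F341749)) (tt N46144 (iv5 D165605)) (tt N102372 F436960) (tt N65127 F260880))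
theorem Q80041 : ∀ i, i < 80041 → P i := stepQ 80040 Q80040 (allL N80040 (tt N80399 (iv1 F348170)) (tt N46145 (iv0 D165611)) (tt N60478 (iv2 F348165)) (tt N80876 (iv3 F348173)) (tt N60490 F348166) (tt N79759 F348167) (tt N60476 F348168) (tt N80398 F348169))
theorem Q80042 : ∀ i, i < 80042 → P i := stepQ 80041 Q80041 (allL N80041 (tt N60478 (iv1 F354042)) (tt N80398 (iv0 F354038)) (tt N46145 (iv2 D165613)) (tt N66881 F354040) (tt N102093 (iv4 F435688)) (tt N66880 (iv5 F353999)) (tt N60365 (iv6 F354039)) (tt N80399 (iv7 F348164)))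
theorem Q80043 : ∀ i, i < 80043 → P i := stepQ 80042 Q80042 (allL N80042 (tt N46827 F322452) (tt N46146 (iv0 D165633)) (tt N80371 F363626) (tt N81517 (iv3 F363627)) (tt N91813 F394523) (tt N48283 F330242) (tt N95845 (iv6 F409919)) (tt N80527 F340179))
theorem Q80044 : ∀ i, i < 80044 → P i := stepQ 80043 Q80043 (allL N80043 (tt N80371 (iv1 F340181)) (tt N80527 F305505) (tt N46146 (iv2 D165635)) (tt N94954 (iv3 F406489)) (tt N54909 F343036) (tt N46791 F322457) (tt N85731 F373706) (tt N46827 F322458))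
theorem Q80045 : ∀ i, i < 80045 → P i := stepQ 80044 Q80044 (allL N80044 (tt N46147 (iv1 D165646)) (tt N94954 (iv0 F406493)) (tt N101869 F434750) (tt N111812 D215054) (tt N111813 D215055) (tt N70517 (iv5 F348593)) (tt N95844 F409914) (tt N70516 F348594))
theorem Q80046 : ∀ i, i < 80046 → P i := stepQ 80045 Q80045 (allL N80045 (tt N70516 F353876) (tt N101869 F434751) (tt N46147 (iv2 D165647)) (tt N46827 F322454) (tt N59481 (iv4 F361604)) (tt N46825 F322455) (tt N47781 F306734) (tt N94954 (iv7 F406491)))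
theorem Q80047 : ∀ i, i < 80047 → P i := stepQ 80046 Q80046 (allL N80046 (tt N59483 (iv1 F361600)) (tt N59476 (iv0 F361596)) (tt N59481 F361602) (tt N47777 F302253) (tt N46147 (iv4 D165648)) (tt N107783 (iv5 F459710)) (tt N47776 F302254) (tt N47878 F260928))
theorem Q80048 : ∀ i, i < 80048 → P i := stepQ 80047 Q80047 (allL N80047 (tt N111812 F478106) (tt N109610 (iv0 F467727)) (tt N101154 (iv2 F431969)) (tt N46148 (iv3 D165656)) (tt N89602 (iv4 F386925)) (tt N88478 F383219) (tt N95756 (iv6 F409482)) (tt N100336 (iv7 F428468)))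
theorem Q80049 : ∀ i, i < 80049 → P i := stepQ 80048 Q80048 (allL N80048 (tt N111814 D215056) (tt N82015 F360229) (tt N65154 (iv2 F354870)) (tt N82064 F352226) (tt N46148 (iv4 D165657)) (tt N82063 (iv5 F352227)) (tt N75287 (iv6 F352228)) (tt N100338 (iv7 F428476)))
theorem Q80050 : ∀ i, i < 80050 → P i := stepQ 80049 Q80049 (allL N80049 (tt N82015 F360228) (tt N111814 F478115) (tt N100338 (iv2 F428473)) (tt N65158 (iv3 F347452)) (tt N46149 (iv4 D165662)) (tt N109796 (iv5 F468649)) (tt N104231 F444827) (tt N65154 F347456))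
theorem Q80051 : ∀ i, i < 80051 → P i := stepQ 80050 Q80050 (allL N80050 (tt N52254 (iv1 F260953)) (tt N46151 (iv0 D165684)) (tt N52253 F416730) (tt N111815 D215057) (tt N97399 F416731) (tt N104787 (iv5 F447269)) (tt N97397 F416732) (tt N52252 F416733))
theorem Q80052 : ∀ i, i < 80052 → P i := stepQ 80051 Q80051 (allL N80051 (tt N46151 (iv1 D165685)) (tt N52254 F260958) (tt N52252 F416734) (tt N102148 F435944) (tt N107078 (iv4 F456874)) (tt N101709 (iv5 F433988)) (tt N82538 F416735) (tt N52253 F416736))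
theorem Q80053 : ∀ i, i < 80053 → P i := stepQ 80052 Q80052 (allL N80052 (tt N52253 (iv1 F260959)) (tt N52252 F260957) (tt N46151 (iv2 D165686)) (tt N78399 F260954) (tt N46157 F260955) (tt N87046 (iv5 F378167)) (tt N79572 F366911) (tt N52254 F260956))
theorem Q80054 : ∀ i, i < 80054 → P i := stepQ 80053 Q80053 (allL N80053 (tt N68250 (iv1 F320276)) (tt N46153 (iv0 D165708)) (tt N67959 (iv2 F342181)) (tt N58190 (iv3 F325138)) (tt N96336 (iv4 F412111)) (tt N67918 F334634) (tt N81992 F336007) (tt N65884 (iv7 F345538)))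
theorem Q80055 : ∀ i, i < 80055 → P i := stepQ 80054 Q80054 (allL N80054 (tt N67959 (iv1 F345532)) (tt N65884 (iv0 F345535)) (tt N46153 (iv2 D165710)) (tt N60643 (iv3 F327282)) (tt N64969 F261042) (tt N68251 (iv5 F342148)) (tt N60056 (iv6 F336021)) (tt N68250 (iv7 F320278)))
theorem Q80056 : ∀ i, i < 80056 → P i := stepQ 80055 Q80055 (allL N80055 (tt N104778 (iv1 F447224)) (tt N64141 (iv0 F261081)) (tt N58189 F360221) (tt N46155 (iv3 D165723)) (tt N58204 (iv4 F327612)) (tt N66234 (iv5 F328565)) (tt N58188 (iv6 F360220)) (tt N87037 (iv7 F378139)))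
theorem Q80057 : ∀ i, i < 80057 → P i := stepQ 80056 Q80056 (allL N80056 (tt N100682 (iv1 F429990)) (tt N102337 (iv0 F436789)) (tt N60418 (iv2 F341937)) (tt N65742 (iv3 F360223)) (tt N46155 (iv4 D165724)) (tt N104378 (iv5 F445500)) (tt N60416 F360222) (tt N100687 (iv7 F430019)))
theorem Q80058 : ∀ i, i < 80058 → P i := stepQ 80057 Q80057 (allL N80057 (tt N60370 (iv1 F360214)) (tt N59942 F360215) (tt N57290 F341934) (tt N58188 F360216) (tt N60416 (iv4 F360213)) (tt N66233 (iv5 F338382)) (tt N46155 (iv6 D165726)) (tt N60371 F360212))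
theorem Q80059 : ∀ i, i < 80059 → P i := stepQ 80058 Q80058 (allL N80058 (tt N58191 (iv1 F363224)) (tt N58190 F363225) (tt N58193 F363221) (tt N46156 (iv3 D165728)) (tt N58185 F363222) (tt N96993 (iv5 F414958)) (tt N60374 F363223) (tt N57292 (iv7 F363220)))
theorem Q80060 : ∀ i, i < 80060 → P i := stepQ 80059 Q80059 (allL N80059 (tt N102337 F436790) (tt N100682 (iv0 F429992)) (tt N100687 (iv2 F430016)) (tt N46544 F261084) (tt N46156 (iv4 D165729)) (tt N67914 F338377) (tt N65730 (iv6 F363212)) (tt N60418 (iv7 F341938)))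
theorem Q80061 : ∀ i, i < 80061 → P i := stepQ 80060 Q80060 (allL N80060 (tt N78500 (iv1 F261152)) (tt N46158 (iv0 D165765)) (tt N78499 F364276) (tt N111357 (iv3 F475988)) (tt N111104 (iv4 F474691)) (tt N88819 F384248) (tt N79296 F358418) (tt N78498 (iv7 F364277)))
theorem Q80062 : ∀ i, i < 80062 → P i := stepQ 80061 Q80061 (allL N80061 (tt N46158 (iv1 D165766)) (tt N78500 F261157) (tt N78498 (iv2 F364279)) (tt N95545 (iv3 F408586)) (tt N97367 (iv4 F416536)) (tt N88820 (iv5 F384249)) (tt N95543 F408580) (tt N78499 F364278))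
theorem Q80063 : ∀ i, i < 80063 → P i := stepQ 80062 Q80062 (allL N80062 (tt N78499 (iv1 F261158)) (tt N78498 F261156) (tt N46158 (iv2 D165767)) (tt N52786 F261153) (tt N46161 F261154) (tt N51784 (iv5 F364274)) (tt N49926 F364273) (tt N78500 F261155))
theorem Q80064 : ∀ i, i < 80064 → P i := stepQ 80063 Q80063 (allL N80063 (tt N101680 F433839) (tt N65881 (iv0 F394704)) (tt N111516 (iv2 F476675)) (tt N46159 (iv3 D165768)) (tt N100673 F429954) (tt N104574 (iv5 F446350)) (tt N79332 (iv6 F336531)) (tt N80032 F261159))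
theorem Q80065 : ∀ i, i < 80065 → P i := stepQ 80064 Q80064 (allL N80064 (tt N91853 (iv1 F394703)) (tt N52068 (iv0 F364242)) (tt N47651 F261160) (tt N55563 F362542) (tt N46159 (iv4 D165769)) (tt N93166 (iv5 F399761)) (tt N79333 (iv6 F336532)) (tt N71042 (iv7 F359860)))
theorem Q80066 : ∀ i, i < 80066 → P i := stepQ 80065 Q80065 (allL N80065 (tt N69287 (iv1 F358991)) (tt N46162 (iv0 D165783)) (tt N82384 (iv2 F373726)) (tt N67480 (iv3 F400051)) (tt N111685 (iv4 F477472)) (tt N87044 (iv5 F378163)) (tt N111816 D215058) (tt N82383 (iv7 F373727)))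
theorem Q80067 : ∀ i, i < 80067 → P i := stepQ 80066 Q80066 (allL N80066 (tt N46162 (iv1 D165784)) (tt N69287 (iv0 F358990)) (tt N82383 F373724) (tt N111817 D215059) (tt N85734 (iv4 F373723)) (tt N87045 (iv5 F378165)) (tt N111811 F478099) (tt N82384 F373725))
theorem Q80068 : ∀ i, i < 80068 → P i := stepQ 80067 Q80067 (allL N80067 (tt N82384 (iv1 F280657)) (tt N82383 F280651) (tt N46162 (iv2 D165785)) (tt N82381 (iv3 F280641)) (tt N46164 F261188) (tt N69288 F358997) (tt N103245 (iv6 F440757)) (tt N69287 (iv7 F358995)))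
theorem Q80069 : ∀ i, i < 80069 → P i := stepQ 80068 Q80068 (allL N80068 (tt N82398 F362659) (tt N46339 (iv0 F261279)) (tt N95827 (iv2 F409829)) (tt N46163 (iv3 D165799)) (tt N79812 (iv4 F301265)) (tt N82628 (iv5 F295103)) (tt N76651 F351733) (tt N100670 (iv7 F429938)))
theorem Q80070 : ∀ i, i < 80070 → P i := stepQ 80069 Q80069 (allL N80069 (tt N68799 (iv1 F358971)) (tt N104795 F447312) (tt N55625 F338351) (tt N60457 (iv3 F351737)) (tt N46163 (iv4 D165800)) (tt N104598 (iv5 F446471)) (tt N55624 F351738) (tt N100671 (iv7 F429945)))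
theorem Q80071 : ∀ i, i < 80071 → P i := stepQ 80070 Q80070 (allL N80070 (tt N60475 (iv1 F338356)) (tt N46248 F338355) (tt N55617 F338352) (tt N76651 (iv3 F351732)) (tt N55624 (iv4 F338353)) (tt N102949 F439392) (tt N46163 (iv6 D165802)) (tt N60476 (iv7 F338354)))
theorem Q80072 : ∀ i, i < 80072 → P i := stepQ 80071 Q80071 (allL N80071 (tt N46172 F373728) (tt N111686 F477484) (tt N111685 F477474) (tt N46165 (iv3 D165868)) (tt N82384 F280653) (tt N102847 (iv5 F438918)) (tt N97527 F417265) (tt N85734 (iv7 F373722)))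
theorem Q80073 : ∀ i, i < 80073 → P i := stepQ 80072 Q80072 (allL N80072 (tt N105343 (iv1 F449788)) (tt N58457 F408146) (tt N85736 (iv2 F373731)) (tt N111818 D215060) (tt N46165 (iv4 D165869)) (tt N111819 D215061) (tt N58433 F357451) (tt N85735 (iv7 F373730)))
theorem Q80074 : ∀ i, i < 80074 → P i := stepQ 80073 Q80073 (allL N80073 (tt N85718 (iv1 F373646)) (tt N85717 F373642) (tt N46167 F261248) (tt N111444 (iv3 F476395)) (tt N46166 (iv4 D165877)) (tt N111820 D215062) (tt N101808 (iv6 F434437)) (tt N85714 (iv7 F373631)))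
theorem Q80075 : ∀ i, i < 80075 → P i := stepQ 80074 Q80074 (allL N80074 (tt N46167 (iv1 D165880)) (tt N85714 (iv0 F373630)) (tt N85717 F373643) (tt N54960 (iv3 F369679)) (tt N79664 (iv4 F302179)) (tt N88024 (iv5 F381504)) (tt N54959 F369680) (tt N85718 (iv7 F373647)))
theorem Q80076 : ∀ i, i < 80076 → P i := stepQ 80075 Q80075 (allL N80075 (tt N111518 (iv1 F476692)) (tt N111821 D215063) (tt N111820 (iv2 F478145)) (tt N78488 F261252) (tt N111822 D215064) (tt N46167 (iv5 D165881)) (tt N111823 D215065) (tt N85719 (iv7 F373651)))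
theorem Q80077 : ∀ i, i < 80077 → P i := stepQ 80076 Q80076 (allL N80076 (tt N46168 (iv1 D165937)) (tt N101546 F433343) (tt N70507 F377700) (tt N100816 (iv3 F430614)) (tt N111047 (iv4 F474409)) (tt N70499 (iv5 F377699)) (tt N109610 (iv6 F467725)) (tt N109278 (iv7 F466155)))
theorem Q80078 : ∀ i, i < 80078 → P i := stepQ 80077 Q80077 (allL N80077 (tt N109278 F466154) (tt N70507 F362640) (tt N46168 (iv2 D165938)) (tt N111686 (iv3 F477478)) (tt N63884 F261369) (tt N78632 F365185) (tt N47102 F365186) (tt N101546 (iv7 F433340)))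
theorem Q80079 : ∀ i, i < 80079 → P i := stepQ 80078 Q80078 (allL N80078 (tt N78550 F377380) (tt N78634 F377381) (tt N78632 (iv2 F365187)) (tt N46170 F261370) (tt N68198 F366058) (tt N46168 (iv5 D165939)) (tt N111824 D215066) (tt N68981 F362644))
theorem Q80080 : ∀ i, i < 80080 → P i := stepQ 80079 Q80079 (allL N80079 (tt N47104 F330850) (tt N46910 F330851) (tt N47102 F330852) (tt N46171 F261371) (tt N81220 F330853) (tt N68449 F337635) (tt N46168 (iv6 D165940)) (tt N46336 F330800))
theorem Q80081 : ∀ i, i < 80081 → P i := stepQ 80080 Q80080 (allL N80080 (tt N80308 F350897) (tt N68051 (iv0 F350898)) (tt N68470 F350896) (tt N111824 (iv3 F478155)) (tt N103565 (iv4 F442058)) (tt N68450 (iv5 F350895)) (tt N46170 (iv6 D165943)) (tt N80311 (iv7 F350908)))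
theorem Q80082 : ∀ i, i < 80082 → P i := stepQ 80081 Q80081 (allL N80081 (tt N111686 (iv1 F477483)) (tt N46172 (iv0 D165948)) (tt N85734 (iv2 F373720)) (tt N80370 F334347) (tt N82383 F280652) (tt N104397 (iv5 F445590)) (tt N80368 (iv6 F334348)) (tt N111685 (iv7 F477476)))
theorem Q80083 : ∀ i, i < 80083 → P i := stepQ 80082 Q80082 (allL N80082 (tt N85734 F433342) (tt N111685 F477475) (tt N46172 (iv2 D165950)) (tt N101546 (iv3 F433338)) (tt N92050 (iv4 F395550)) (tt N111825 D215067) (tt N46343 F330787) (tt N111686 (iv7 F477482)))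
theorem Q80084 : ∀ i, i < 80084 → P i := stepQ 80083 Q80083 (allL N80083 (tt N111826 D215068) (tt N103583 (iv0 F442126)) (tt N111825 (iv2 F478161)) (tt N46174 F261376) (tt N87044 (iv4 F378164)) (tt N46172 (iv5 D165952)) (tt N100817 (iv6 F430616)) (tt N68983 F366151))
theorem Q80085 : ∀ i, i < 80085 → P i := stepQ 80084 Q80084 (allL N80084 (tt N82228 (iv1 F306077)) (tt N82227 (iv0 F305218)) (tt N75959 F261448) (tt N99426 (iv3 F424526)) (tt N100230 (iv4 F428078)) (tt N46178 (iv5 D166049)) (tt N53364 (iv6 F339145)) (tt N56127 F261449))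
theorem Q80086 : ∀ i, i < 80086 → P i := stepQ 80085 Q80085 (allL N80085 (tt N75960 (iv1 F261452)) (tt N72397 (iv0 F309989)) (tt N46180 F261450) (tt N81683 (iv3 F344486)) (tt N73848 (iv4 F335441)) (tt N46179 (iv5 D166050)) (tt N66549 (iv6 F334852)) (tt N69637 (iv7 F306076)))
theorem Q80087 : ∀ i, i < 80087 → P i := stepQ 80086 Q80086 (allL N80086 (tt N69637 (iv1 F306075)) (tt N46180 (iv0 D166052)) (tt N75960 F261464) (tt N102999 (iv3 F439618)) (tt N106863 (iv4 F456058)) (tt N72398 (iv5 F307962)) (tt N99458 (iv6 F424676)) (tt N72397 (iv7 F309991)))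
theorem Q80088 : ∀ i, i < 80088 → P i := stepQ 80087 Q80087 (allL N80087 (tt N108404 F462441) (tt N73947 (iv0 F342553)) (tt N73848 F335440) (tt N90255 F389126) (tt N46180 (iv4 D166054)) (tt N111827 D215069) (tt N73800 (iv6 F335439)) (tt N75961 F261471))
theorem Q80089 : ∀ i, i < 80089 → P i := stepQ 80088 Q80088 (allL N80088 (tt N75518 (iv1 F360577)) (tt N52358 F360579) (tt N77492 F350082) (tt N70027 F359316) (tt N46181 (iv4 D166060)) (tt N100824 (iv5 F430648)) (tt N74711 (iv6 F350125)) (tt N77491 (iv7 F350085)))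
theorem Q80090 : ∀ i, i < 80090 → P i := stepQ 80089 Q80089 (allL N80089 (tt N52358 (iv1 F360578)) (tt N75518 (iv0 F360576)) (tt N77491 F350084) (tt N111828 D215070) (tt N46182 (iv4 D166063)) (tt N82353 (iv5 F347417)) (tt N78320 (iv6 F359317)) (tt N77492 F350083))
theorem Q80091 : ∀ i, i < 80091 → P i := stepQ 80090 Q80090 (allL N80090 (tt N111829 D215071) (tt N107098 (iv0 F456961)) (tt N106938 (iv2 F456359)) (tt N46183 (iv3 D166067)) (tt N90255 (iv4 F389127)) (tt N111830 D215072) (tt N90306 (iv6 F389294)) (tt N100794 (iv7 F430503)))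
theorem Q80092 : ∀ i, i < 80092 → P i := stepQ 80091 Q80091 (allL N80091 (tt N82552 (iv1 F282295)) (tt N57886 (iv0 F354278)) (tt N81697 (iv2 F350061)) (tt N111830 (iv3 F478189)) (tt N82346 (iv4 F299709)) (tt N46183 (iv5 D166068)) (tt N96452 (iv6 F412579)) (tt N86940 (iv7 F377787)))
theorem Q80093 : ∀ i, i < 80093 → P i := stepQ 80092 Q80092 (allL N80092 (tt N60120 F362942) (tt N60449 (iv0 F362283)) (tt N95821 F409800) (tt N46184 (iv3 D166079)) (tt N101722 (iv4 F434034)) (tt N80412 (iv5 F362940)) (tt N102302 (iv6 F436618)) (tt N86934 (iv7 F377760)))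
theorem Q80094 : ∀ i, i < 80094 → P i := stepQ 80093 Q80093 (allL N80093 (tt N82343 F299599) (tt N81738 F299600) (tt N86933 (iv2 F377754)) (tt N80412 (iv3 F362941)) (tt N107203 (iv4 F457441)) (tt N46184 (iv5 D166080)) (tt N103925 (iv6 F443399)) (tt N86935 (iv7 F377766)))
theorem Q80095 : ∀ i, i < 80095 → P i := stepQ 80094 Q80094 (allL N80094 (tt N111015 F474266) (tt N111831 D215073) (tt N111832 D215074) (tt N46186 (iv3 D166082)) (tt N100912 (iv4 F430932)) (tt N80119 F345666) (tt N79747 F261492) (tt N86932 (iv7 F377752)))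
theorem Q80096 : ∀ i, i < 80096 → P i := stepQ 80095 Q80095 (allL N80095 (tt N46244 F359323) (tt N82345 F359324) (tt N48259 F359325) (tt N46187 (iv3 D166088)) (tt N80551 (iv4 F301995)) (tt N46535 F359326) (tt N79744 F261501) (tt N67434 F359327))
theorem Q80097 : ∀ i, i < 80097 → P i := stepQ 80096 Q80096 (allL N80096 (tt N100797 (iv1 F430515)) (tt N46188 (iv0 D166090)) (tt N100796 (iv2 F430508)) (tt N67192 F364829) (tt N109332 (iv4 F466418)) (tt N111833 D215075) (tt N67190 (iv6 F364830)) (tt N100795 F430511))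
theorem Q80098 : ∀ i, i < 80098 → P i := stepQ 80097 Q80097 (allL N80097 (tt N46188 (iv1 D166091)) (tt N100797 F430516) (tt N100795 F430510) (tt N97751 (iv3 F418159)) (tt N101725 (iv4 F434050)) (tt N97747 (iv5 F418141)) (tt N79739 (iv6 F418142)) (tt N100796 (iv7 F430509)))
theorem Q80099 : ∀ i, i < 80099 → P i := stepQ 80098 Q80098 (allL N80098 (tt N100796 (iv1 F430507)) (tt N100795 F430504) (tt N46188 (iv2 D166092)) (tt N86938 (iv3 F377778)) (tt N46207 F261503) (tt N60708 F350090) (tt N52254 F366945) (tt N100797 (iv7 F430514)))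
theorem Q80100 : ∀ i, i < 80100 → P i := stepQ 80099 Q80099 (allL N80099 (tt N64410 (iv1 F356490)) (tt N77044 (iv0 F261540)) (tt N75956 F261535) (tt N92837 (iv3 F398444)) (tt N46192 (iv4 D166111)) (tt N88840 (iv5 F384300)) (tt N73888 (iv6 F316950)) (tt N56120 F261537))
theorem Q80101 : ∀ i, i < 80101 → P i := stepQ 80100 Q80100 (allL N80100 (tt N64365 (iv1 F361504)) (tt N76136 F361505) (tt N75965 F261562) (tt N63065 (iv3 F317792)) (tt N84733 (iv4 F370403)) (tt N69650 F261564) (tt N46194 (iv6 D166116)) (tt N73157 (iv7 F321790)))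
theorem Q80102 : ∀ i, i < 80102 → P i := stepQ 80101 Q80101 (allL N80101 (tt N75888 F362046) (tt N75853 F362047) (tt N73153 F363824) (tt N46195 (iv3 D166117)) (tt N63702 (iv4 F339402)) (tt N76166 F261566) (tt N73152 (iv6 F322666)) (tt N75890 F261568))
theorem Q80103 : ∀ i, i < 80103 → P i := stepQ 80102 Q80102 (allL N80102 (tt N110505 (iv1 F471890)) (tt N100368 (iv0 F428629)) (tt N73923 F366559) (tt N75655 (iv3 F366566)) (tt N111834 D215076) (tt N46196 (iv5 D166122)) (tt N111835 D215077) (tt N73926 (iv7 F314581)))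
theorem Q80104 : ∀ i, i < 80104 → P i := stepQ 80103 Q80103 (allL N80103 (tt N84400 (iv1 F369161)) (tt N77550 (iv0 F261597)) (tt N75896 F261595) (tt N87122 F378424) (tt N46197 (iv4 D166129)) (tt N54702 (iv5 F353168)) (tt N102971 (iv6 F439509)) (tt N75897 F261596))
theorem Q80105 : ∀ i, i < 80105 → P i := stepQ 80104 Q80104 (allL N80104 (tt N46199 (iv1 D166143)) (tt N79602 (iv0 F332165)) (tt N65876 F332144) (tt N55453 F361885) (tt N59926 F332145) (tt N60103 (iv5 F332138)) (tt N59925 (iv6 F332143)) (tt N65849 F332146))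
theorem Q80106 : ∀ i, i < 80106 → P i := stepQ 80105 Q80105 (allL N80105 (tt N65849 (iv1 F332160)) (tt N65876 F332162) (tt N46199 (iv2 D166144)) (tt N63485 (iv3 F350696)) (tt N59971 F332135) (tt N96980 (iv5 F414904)) (tt N59970 F332136) (tt N79602 (iv7 F332170)))
theorem Q80107 : ∀ i, i < 80107 → P i := stepQ 80106 Q80106 (allL N80106 (tt N58879 F332147) (tt N64251 F361331) (tt N96980 (iv2 F414906)) (tt N46200 F261628) (tt N111836 D215078) (tt N46199 (iv5 D166145)) (tt N64228 (iv6 F358630)) (tt N74824 (iv7 F318787)))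
theorem Q80108 : ∀ i, i < 80108 → P i := stepQ 80107 Q80107 (allL N80107 (tt N63485 (iv1 F350694)) (tt N46201 (iv0 D166147)) (tt N64084 F330773) (tt N111837 D215079) (tt N78590 F346952) (tt N46274 F330774) (tt N48352 F330775) (tt N64112 (iv7 F346936)))
theorem Q80109 : ∀ i, i < 80109 → P i := stepQ 80108 Q80108 (allL N80108 (tt N46201 (iv1 D166148)) (tt N63485 (iv0 F346950)) (tt N64112 F346944) (tt N109230 (iv3 F465879)) (tt N78586 (iv4 F323856)) (tt N46275 F346945) (tt N64108 F346946) (tt N64084 F346947))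
theorem Q80110 : ∀ i, i < 80110 → P i := stepQ 80109 Q80109 (allL N80109 (tt N64084 (iv1 F342279)) (tt N64112 F346937) (tt N46201 (iv2 D166149)) (tt N79602 (iv3 F332167)) (tt N48275 F304979) (tt N80186 (iv5 F330730)) (tt N48275 F261631) (tt N63485 (iv7 F350697)))
theorem Q80111 : ∀ i, i < 80111 → P i := stepQ 80110 Q80110 (allL N80110 (tt N80187 (iv1 F350675)) (tt N78375 F350689) (tt N80186 (iv2 F361636)) (tt N46202 F261632) (tt N51804 (iv4 F350699)) (tt N46201 (iv5 D166150)) (tt N51803 F347917) (tt N74826 (iv7 F318784)))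
theorem Q80112 : ∀ i, i < 80112 → P i := stepQ 80111 Q80111 (allL N80111 (tt N75987 F319965) (tt N63088 F319966) (tt N74825 F319967) (tt N51803 F319968) (tt N46521 F319969) (tt N48277 F261633) (tt N46202 (iv6 D166151)) (tt N63436 F319970))
theorem Q80113 : ∀ i, i < 80113 → P i := stepQ 80112 Q80112 (allL N80112 (tt N46203 (iv1 D166153)) (tt N81994 F277735) (tt N81992 F345530) (tt N91860 F403038) (tt N111838 D215080) (tt N82030 F345525) (tt N67959 F345524) (tt N81993 (iv7 F345529)))
theorem Q80114 : ∀ i, i < 80114 → P i := stepQ 80113 Q80113 (allL N80113 (tt N81993 (iv1 F277734)) (tt N81992 F277729) (tt N46203 (iv2 D166154)) (tt N81363 (iv3 F323505)) (tt N111839 D215081) (tt N80881 (iv5 F336004)) (tt N80882 F336006) (tt N81994 (iv7 F277732)))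
theorem Q80115 : ∀ i, i < 80115 → P i := stepQ 80114 Q80114 (allL N80114 (tt N101666 (iv1 F466429)) (tt N111350 (iv0 F475956)) (tt N111839 (iv2 F478235)) (tt N64352 (iv3 F301767)) (tt N46203 (iv4 D166155)) (tt N107814 F459817) (tt N81402 (iv6 F358802)) (tt N64940 (iv7 F302546)))
theorem Q80116 : ∀ i, i < 80116 → P i := stepQ 80115 Q80115 (allL N80115 (tt N81363 (iv1 F323503)) (tt N46204 (iv0 D166159)) (tt N81991 F362460) (tt N64148 F334678) (tt N88684 (iv4 F383884)) (tt N65163 F334607) (tt N64146 (iv6 F334677)) (tt N47798 F362461))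
theorem Q80117 : ∀ i, i < 80117 → P i := stepQ 80116 Q80116 (allL N80116 (tt N46204 (iv1 D166160)) (tt N81363 (iv0 F323502)) (tt N47798 F336439) (tt N100380 F428691) (tt N88683 (iv4 F383877)) (tt N65164 F336440) (tt N47794 F336441) (tt N81991 F336442))
theorem Q80118 : ∀ i, i < 80118 → P i := stepQ 80117 Q80117 (allL N80117 (tt N90428 (iv1 F389610)) (tt N90427 F389605) (tt N88509 (iv2 F383321)) (tt N65116 F261642) (tt N46204 (iv4 D166162)) (tt N84093 (iv5 F368078)) (tt N52839 (iv6 F321833)) (tt N79742 (iv7 F300044)))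
theorem Q80119 : ∀ i, i < 80119 → P i := stepQ 80118 Q80118 (allL N80118 (tt N100380 (iv1 F428688)) (tt N100379 (iv0 F428686)) (tt N100381 (iv2 F428699)) (tt N46205 (iv3 D166166)) (tt N82000 F277776) (tt N47983 F337722) (tt N90460 (iv6 F389731)) (tt N47982 F337723))
theorem Q80120 : ∀ i, i < 80120 → P i := stepQ 80119 Q80119 (allL N80119 (tt N102339 (iv1 F436799)) (tt N111840 D215082) (tt N100801 (iv2 F430535)) (tt N67987 (iv3 F354345)) (tt N46205 (iv4 D166167)) (tt N80094 (iv5 F345666)) (tt N67983 F354373) (tt N100800 (iv7 F430530)))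
theorem Q80121 : ∀ i, i < 80121 → P i := stepQ 80120 Q80120 (allL N80120 (tt N104250 (iv1 F444936)) (tt N79373 (iv0 F342758)) (tt N81510 F342760) (tt N90460 (iv3 F389729)) (tt N67983 F342761) (tt N79726 (iv5 F342757)) (tt N46205 (iv6 D166169)) (tt N79755 (iv7 F341663)))
theorem Q80122 : ∀ i, i < 80122 → P i := stepQ 80121 Q80121 (allL N80121 (tt N65883 F363261) (tt N65860 (iv0 F366442)) (tt N100378 (iv2 F428676)) (tt N46206 (iv3 D166171)) (tt N96249 (iv4 F411740)) (tt N96972 (iv5 F414863)) (tt N79756 F341659) (tt N95754 F409474))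
theorem Q80123 : ∀ i, i < 80123 → P i := stepQ 80122 Q80122 (allL N80122 (tt N111840 (iv1 F478241)) (tt N102339 (iv0 F436798)) (tt N100800 (iv2 F430529)) (tt N97289 (iv3 F416234)) (tt N46206 (iv4 D166172)) (tt N111841 D215083) (tt N79757 F341660) (tt N100801 (iv7 F430538)))
theorem Q80124 : ∀ i, i < 80124 → P i := stepQ 80123 Q80123 (allL N80123 (tt N47919 F337726) (tt N75013 F337727) (tt N47981 F337728) (tt N96972 (iv3 F414869)) (tt N80431 F337729) (tt N46206 (iv5 D166173)) (tt N80430 F337730) (tt N75012 F345647))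
theorem Q80125 : ∀ i, i < 80125 → P i := stepQ 80124 Q80124 (allL N80124 (tt N53681 (iv1 F328701)) (tt N55364 (iv0 F328696)) (tt N47544 F302332) (tt N76146 F356223) (tt N46210 (iv4 D166196)) (tt N82829 F353215) (tt N106492 (iv6 F454659)) (tt N47546 F302333))
theorem Q80126 : ∀ i, i < 80126 → P i := stepQ 80125 Q80125 (allL N80125 (tt N71472 (iv1 F353792)) (tt N80825 (iv0 F353790)) (tt N47545 F302334) (tt N69342 (iv3 F344765)) (tt N106492 (iv4 F454658)) (tt N69340 (iv5 F315040)) (tt N46210 (iv6 D166197)) (tt N82229 F344771))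
theorem Q80127 : ∀ i, i < 80127 → P i := stepQ 80126 Q80126 (allL N80126 (tt N47599 F300492) (tt N46779 F300493) (tt N47620 F300494) (tt N52061 (iv3 F353187)) (tt N111441 (iv4 F476380)) (tt N46211 (iv5 D166199)) (tt N111842 D215084) (tt N47621 F300495))
theorem Q80128 : ∀ i, i < 80128 → P i := stepQ 80127 Q80127 (allL N80127 (tt N103755 (iv1 F442686)) (tt N79408 (iv0 F365585)) (tt N103758 (iv2 F442702)) (tt N46213 F261680) (tt N91741 (iv4 F394273)) (tt N46212 (iv5 D166202)) (tt N101840 (iv6 F434599)) (tt N52780 (iv7 F366930)))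
theorem Q80129 : ∀ i, i < 80129 → P i := stepQ 80128 Q80128 (allL N80128 (tt N98469 (iv1 F421017)) (tt N98466 (iv0 F421002)) (tt N46219 F261683) (tt N101840 F434601) (tt N91740 (iv4 F394271)) (tt N80904 (iv5 F366898)) (tt N46213 (iv6 D166205)) (tt N90514 (iv7 F389907)))
theorem Q80130 : ∀ i, i < 80130 → P i := stepQ 80129 Q80129 (allL N80129 (tt N82373 F347475) (tt N85946 (iv0 F374553)) (tt N84480 (iv2 F369465)) (tt N46214 (iv3 D166207)) (tt N82352 (iv4 F299705)) (tt N84479 F369464) (tt N79563 F261688) (tt N52783 (iv7 F366941)))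
theorem Q80131 : ∀ i, i < 80131 → P i := stepQ 80130 Q80130 (allL N80130 (tt N51872 (iv1 F324884)) (tt N52142 (iv0 F356186)) (tt N46224 F261689) (tt N84479 (iv3 F369461)) (tt N80940 F331229) (tt N46214 (iv5 D166208)) (tt N53925 F356183) (tt N52140 F357438))
theorem Q80132 : ∀ i, i < 80132 → P i := stepQ 80131 Q80131 (allL N80131 (tt N66946 (iv1 F261705)) (tt N46215 (iv0 D166216)) (tt N75949 F264136) (tt N66255 (iv3 F359092)) (tt N111843 D215085) (tt N76522 F353863) (tt N66253 (iv6 F359168)) (tt N75948 F264134))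
theorem Q80133 : ∀ i, i < 80133 → P i := stepQ 80132 Q80132 (allL N80132 (tt N46215 (iv1 D166217)) (tt N66946 F261706) (tt N75948 (iv2 F264133)) (tt N90398 (iv3 F415395)) (tt N111844 D215086) (tt N76118 F261707) (tt N86368 (iv6 F375971)) (tt N75949 (iv7 F264135)))
theorem Q80134 : ∀ i, i < 80134 → P i := stepQ 80133 Q80133 (allL N80133 (tt N66413 (iv1 F362981)) (tt N86372 F375990) (tt N109327 (iv2 F466400)) (tt N89269 (iv3 F385862)) (tt N46215 (iv4 D166218)) (tt N111845 D215087) (tt N86365 F375962) (tt N75950 F261708))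
theorem Q80135 : ∀ i, i < 80135 → P i := stepQ 80134 Q80134 (allL N80134 (tt N80756 F365702) (tt N81051 (iv0 F365701)) (tt N66246 F365697) (tt N46216 (iv3 D166222)) (tt N53410 (iv4 F365696)) (tt N78549 F365699) (tt N66244 (iv6 F365698)) (tt N54455 F365695))
theorem Q80136 : ∀ i, i < 80136 → P i := stepQ 80135 Q80135 (allL N80135 (tt N111441 (iv1 F476383)) (tt N82829 (iv0 F353217)) (tt N52136 (iv2 F331220)) (tt N49823 (iv3 F331221)) (tt N52140 (iv4 F331218)) (tt N46218 (iv5 D166232)) (tt N50491 F331219) (tt N80940 (iv7 F331224)))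
theorem Q80137 : ∀ i, i < 80137 → P i := stepQ 80136 Q80136 (allL N80136 (tt N111846 D215088) (tt N106352 F454106) (tt N91740 (iv2 F394269)) (tt N89270 (iv3 F385866)) (tt N46219 F261723) (tt N111847 D215089) (tt N46218 (iv6 D166233)) (tt N109330 (iv7 F466413)))
theorem Q80138 : ∀ i, i < 80138 → P i := stepQ 80137 Q80137 (allL N80137 (tt N90514 F389909) (tt N46219 (iv0 D166234)) (tt N98469 (iv2 F421012)) (tt N55093 (iv3 F347875)) (tt N106232 (iv4 F453688)) (tt N66998 F347876) (tt N55092 F347874) (tt N98466 (iv7 F421000)))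
theorem Q80139 : ∀ i, i < 80139 → P i := stepQ 80138 Q80138 (allL N80138 (tt N91854 (iv1 F394708)) (tt N52063 (iv0 F350447)) (tt N55166 F331170) (tt N46221 (iv3 D166248)) (tt N79745 F302348) (tt N55163 (iv5 F331169)) (tt N96793 F413973) (tt N47615 F302349))
theorem Q80140 : ∀ i, i < 80140 → P i := stepQ 80139 Q80139 (allL N80139 (tt N58615 F344582) (tt N58668 F344527) (tt N47614 F300515) (tt N96793 F413972) (tt N46222 F261752) (tt N79866 F300516) (tt N46221 (iv6 D166250)) (tt N96900 (iv7 F414514)))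
theorem Q80141 : ∀ i, i < 80141 → P i := stepQ 80140 Q80140 (allL N80140 (tt N82829 (iv1 F353218)) (tt N111441 (iv0 F476382)) (tt N80940 (iv2 F331227)) (tt N49927 F331228) (tt N46224 (iv4 D166261)) (tt N52782 F331230) (tt N55071 F357430) (tt N52136 F331231))
theorem Q80142 : ∀ i, i < 80142 → P i := stepQ 80141 Q80141 (allL N80141 (tt N73735 (iv1 F317994)) (tt N73975 (iv0 F315702)) (tt N46229 F261786) (tt N79087 (iv3 F261790)) (tt N46225 (iv4 D166272)) (tt N92821 (iv5 F398377)) (tt N75265 F261787) (tt N66947 F261788))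
theorem Q80143 : ∀ i, i < 80143 → P i := stepQ 80142 Q80142 (allL N80142 (tt N66924 (iv1 F278148)) (tt N66926 (iv0 F261795)) (tt N72808 (iv2 F318794)) (tt N46227 (iv3 D166273)) (tt N77574 F261794) (tt N105025 (iv5 F448442)) (tt N72807 (iv6 F354096)) (tt N75903 (iv7 F278142)))
theorem Q80144 : ∀ i, i < 80144 → P i := stepQ 80143 Q80143 (allL N80143 (tt N66947 (iv1 F261816)) (tt N46229 (iv0 D166278)) (tt N73735 (iv2 F353113)) (tt N79938 (iv3 F353116)) (tt N62453 (iv4 F346253)) (tt N109558 (iv5 F467510)) (tt N62452 F353114) (tt N73975 F353115))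
theorem Q80145 : ∀ i, i < 80145 → P i := stepQ 80144 Q80144 (allL N80144 (tt N46229 (iv1 D166279)) (tt N66947 F261817) (tt N73975 F353112) (tt N78928 F353110) (tt N62555 (iv4 F353105)) (tt N98559 (iv5 F421327)) (tt N75613 F353111) (tt N73735 (iv7 F353109)))
theorem Q80146 : ∀ i, i < 80146 → P i := stepQ 80145 Q80145 (allL N80145 (tt N75552 F355207) (tt N99744 (iv0 F426019)) (tt N105024 (iv2 F448434)) (tt N46229 (iv3 D166280)) (tt N46234 F261818) (tt N100234 F428094) (tt N75628 (iv6 F307830)) (tt N63060 (iv7 F316774)))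
theorem Q80147 : ∀ i, i < 80147 → P i := stepQ 80146 Q80146 (allL N80146 (tt N66793 F261822) (tt N92820 (iv0 F398376)) (tt N92821 F398378) (tt N100234 F428093) (tt N83291 (iv4 F362978)) (tt N46229 (iv5 D166281)) (tt N82881 F362979) (tt N75954 F261821))
theorem Q80148 : ∀ i, i < 80148 → P i := stepQ 80147 Q80147 (allL N80147 (tt N80481 F355138) (tt N73141 F355139) (tt N101701 (iv2 F433950)) (tt N46235 F261823) (tt N103137 (iv4 F440243)) (tt N46230 (iv5 D166282)) (tt N46233 F261824) (tt N75636 (iv7 F360563)))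
theorem Q80149 : ∀ i, i < 80149 → P i := stepQ 80148 Q80148 (allL N80148 (tt N48239 (iv1 F273263)) (tt N66927 F274097) (tt N68004 (iv2 F314649)) (tt N46231 (iv3 D166283)) (tt N67998 (iv4 F315293)) (tt N75779 F261826) (tt N80385 (iv6 F264405)) (tt N67060 F261827))
theorem Q80150 : ∀ i, i < 80150 → P i := stepQ 80149 Q80149 (allL N80149 (tt N47556 F334060) (tt N75468 F261843) (tt N75467 F261840) (tt N80326 (iv3 F342687)) (tt N46233 (iv4 D166287)) (tt N63998 F362490) (tt N103137 (iv6 F440244)) (tt N75368 F261841))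
theorem Q80151 : ∀ i, i < 80151 → P i := stepQ 80150 Q80150 (allL N80150 (tt N46234 (iv1 D166289)) (tt N63058 (iv0 F315987)) (tt N63062 F355214) (tt N72378 F355215) (tt N100766 (iv4 F430366)) (tt N62853 (iv5 F355208)) (tt N75569 F355216) (tt N63063 F355217))
theorem Q80152 : ∀ i, i < 80152 → P i := stepQ 80151 Q80151 (allL N80151 (tt N67434 (iv1 F347413)) (tt N48259 F299802) (tt N46244 F261903) (tt N67397 (iv3 F358177)) (tt N99358 (iv4 F424263)) (tt N46240 (iv5 D166314)) (tt N78395 (iv6 F380706)) (tt N82345 F299803))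
theorem Q80153 : ∀ i, i < 80153 → P i := stepQ 80152 Q80152 (allL N80152 (tt N52296 (iv1 F347422)) (tt N55597 (iv0 F347421)) (tt N46245 F261906) (tt N55691 (iv3 F347424)) (tt N46242 F261907) (tt N97683 (iv5 F417890)) (tt N46240 (iv6 D166315)) (tt N55595 F347423))
theorem Q80154 : ∀ i, i < 80154 → P i := stepQ 80153 Q80153 (allL N80153 (tt N82016 (iv1 F277836)) (tt N46243 (iv0 D166318)) (tt N82020 (iv2 F373668)) (tt N102096 (iv3 F435700)) (tt N109275 (iv4 F466130)) (tt N101976 (iv5 F435179)) (tt N102091 F435680) (tt N82019 F373667))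
theorem Q80155 : ∀ i, i < 80155 → P i := stepQ 80154 Q80154 (allL N80154 (tt N82020 (iv1 F277849)) (tt N82019 F277847) (tt N46243 (iv2 D166320)) (tt N51643 F356009) (tt N46247 F261912) (tt N111848 D215090) (tt N60760 (iv6 F356013)) (tt N82016 (iv7 F277834)))
theorem Q80156 : ∀ i, i < 80156 → P i := stepQ 80155 Q80155 (allL N80155 (tt N111849 D215091) (tt N111850 D215092) (tt N111848 (iv2 F478288)) (tt N46244 F261913) (tt N101521 F433236) (tt N46243 (iv5 D166321)) (tt N96650 (iv6 F413333)) (tt N82021 (iv7 F277852)))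
theorem Q80157 : ∀ i, i < 80157 → P i := stepQ 80156 Q80156 (allL N80156 (tt N111816 F478131) (tt N102885 F439102) (tt N60760 F356014) (tt N46245 F261914) (tt N46248 F261915) (tt N102407 (iv5 F437104)) (tt N46243 (iv6 D166322)) (tt N95848 (iv7 F409939)))
theorem Q80158 : ∀ i, i < 80158 → P i := stepQ 80157 Q80157 (allL N80157 (tt N78396 (iv1 F360458)) (tt N52251 (iv0 F360457)) (tt N78395 F380707) (tt N96650 F413332) (tt N107905 (iv4 F460204)) (tt N82804 (iv5 F358301)) (tt N46244 (iv6 D166326)) (tt N78394 (iv7 F380709)))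
theorem Q80159 : ∀ i, i < 80159 → P i := stepQ 80158 Q80158 (allL N80158 (tt N65159 (iv1 F406373)) (tt N82064 F352225) (tt N58066 F352222) (tt N46246 (iv3 D166334)) (tt N58096 (iv4 F353072)) (tt N62548 (iv5 F352221)) (tt N58064 F341863) (tt N62547 F352224))
theorem Q80160 : ∀ i, i < 80160 → P i := stepQ 80159 Q80159 (allL N80159 (tt N80191 F262039) (tt N60484 F395542) (tt N60410 F356022) (tt N82554 (iv3 F356024)) (tt N46246 (iv4 D166335)) (tt N82550 F356026) (tt N60408 F341864) (tt N75453 (iv7 F356025)))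
theorem Q80161 : ∀ i, i < 80161 → P i := stepQ 80160 Q80160 (allL N80160 (tt N51642 F356002) (tt N51641 F356065) (tt N51644 F355929) (tt N46249 (iv3 D166360)) (tt N82344 (iv4 F299405)) (tt N51632 (iv5 F356000)) (tt N83718 F366940) (tt N51631 F356001))
theorem Q80162 : ∀ i, i < 80162 → P i := stepQ 80161 Q80161 (allL N80161 (tt N100338 (iv1 F428478)) (tt N65154 (iv0 F362445)) (tt N111814 F478114) (tt N46251 (iv3 D166381)) (tt N47413 F327672) (tt N85667 (iv5 F373443)) (tt N111649 (iv6 F477302)) (tt N82015 F360227))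
theorem Q80163 : ∀ i, i < 80163 → P i := stepQ 80162 Q80162 (allL N80162 (tt N75386 (iv1 F341905)) (tt N75385 F345799) (tt N46254 F261970) (tt N82018 (iv3 F277843)) (tt N51673 (iv4 F358102)) (tt N69301 (iv5 F351974)) (tt N46252 (iv6 D166386)) (tt N75284 F341904))
theorem Q80164 : ∀ i, i < 80164 → P i := stepQ 80163 Q80163 (allL N80163 (tt N69266 F361709) (tt N97523 (iv0 F417247)) (tt N87824 (iv2 F380681)) (tt N46255 F261971) (tt N51684 F339706) (tt N103934 (iv5 F443434)) (tt N46253 (iv6 D166390)) (tt N75753 (iv7 F363721)))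
theorem Q80165 : ∀ i, i < 80165 → P i := stepQ 80164 Q80164 (allL N80164 (tt N46270 F355921) (tt N97528 F417271) (tt N109275 (iv2 F466128)) (tt N46256 (iv3 D166399)) (tt N82020 F277850) (tt N107917 (iv5 F460276)) (tt N111687 F477488) (tt N85724 F373669))
theorem Q80166 : ∀ i, i < 80166 → P i := stepQ 80165 Q80165 (allL N80165 (tt N82027 F277911) (tt N58437 F353506) (tt N96754 (iv2 F413780)) (tt N91962 F395147) (tt N46256 (iv4 D166400)) (tt N111851 D215093) (tt N58498 (iv6 F360149)) (tt N85727 (iv7 F373680)))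
theorem Q80167 : ∀ i, i < 80167 → P i := stepQ 80166 Q80166 (allL N80166 (tt N61760 F340160) (tt N46278 F340161) (tt N94108 F403243) (tt N107917 (iv3 F460275)) (tt N76667 F340162) (tt N46256 (iv5 D166401)) (tt N85798 (iv6 F373996)) (tt N76662 F340163))
theorem Q80168 : ∀ i, i < 80168 → P i := stepQ 80167 Q80167 (allL N80167 (tt N84565 F369709) (tt N85711 F373616) (tt N46258 F261979) (tt N106809 F455774) (tt N46257 (iv4 D166408)) (tt N91896 F394851) (tt N96850 (iv6 F414247)) (tt N100803 (iv7 F430545)))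
theorem Q80169 : ∀ i, i < 80169 → P i := stepQ 80168 Q80168 (allL N80168 (tt N100803 (iv1 F430548)) (tt N46258 (iv0 D166411)) (tt N84565 (iv2 F369708)) (tt N74401 F364237) (tt N97068 (iv4 F415304)) (tt N111852 D215094) (tt N73400 (iv6 F364238)) (tt N85711 (iv7 F373615)))
theorem Q80170 : ∀ i, i < 80170 → P i := stepQ 80169 Q80169 (allL N80169 (tt N87436 F379327) (tt N55568 (iv0 F356782)) (tt N91896 (iv2 F394852)) (tt N47240 F261983) (tt N111853 D215095) (tt N46258 (iv5 D166413)) (tt N111854 D215096) (tt N91895 F394850))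
theorem Q80171 : ∀ i, i < 80171 → P i := stepQ 80170 Q80170 (allL N80170 (tt N47117 F358934) (tt N46265 F358935) (tt N87813 (iv2 F380623)) (tt N46259 (iv3 D166435)) (tt N82023 (iv4 F277900)) (tt N109286 (iv5 F466189)) (tt N96420 (iv6 F412447)) (tt N82496 F358936))
theorem Q80172 : ∀ i, i < 80172 → P i := stepQ 80171 Q80171 (allL N80171 (tt N101157 F431984) (tt N110554 (iv0 F472119)) (tt N100802 (iv2 F430540)) (tt N101150 (iv3 F431942)) (tt N46259 (iv4 D166436)) (tt N111855 D215097) (tt N111688 (iv6 F477493)) (tt N82500 (iv7 F365211)))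
theorem Q80173 : ∀ i, i < 80173 → P i := stepQ 80172 Q80172 (allL N80172 (tt N46279 F334088) (tt N63544 F334089) (tt N77573 (iv2 F337690)) (tt N109286 (iv3 F466188)) (tt N75903 F334090) (tt N46259 (iv5 D166437)) (tt N74246 F334091) (tt N77574 (iv7 F337707)))
theorem Q80174 : ∀ i, i < 80174 → P i := stepQ 80173 Q80173 (allL N80173 (tt N47088 F334111) (tt N47078 F334112) (tt N46262 F262001) (tt N100804 (iv3 F430550)) (tt N94970 (iv4 F406542)) (tt N70093 F330282) (tt N46260 (iv6 D166441)) (tt N47086 F330283))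
theorem Q80175 : ∀ i, i < 80175 → P i := stepQ 80174 Q80174 (allL N80174 (tt N47973 F330681) (tt N100374 F428660) (tt N94969 (iv2 F406536)) (tt N47912 F262003) (tt N47354 F330682) (tt N46261 (iv5 D166444)) (tt N62366 F344433) (tt N77524 F359307))
theorem Q80176 : ∀ i, i < 80176 → P i := stepQ 80175 Q80175 (allL N80175 (tt N47086 F330277) (tt N46262 (iv0 D166450)) (tt N47088 F330278) (tt N95842 F409901) (tt N111856 D215098) (tt N47079 F330279) (tt N47779 F339274) (tt N47078 F330280))
theorem Q80177 : ∀ i, i < 80177 → P i := stepQ 80176 Q80176 (allL N80176 (tt N46275 (iv1 F262013)) (tt N46274 F262014) (tt N46277 F262011) (tt N60062 (iv3 F332150)) (tt N59858 F363695) (tt N46263 (iv5 D166457)) (tt N95639 (iv6 F408984)) (tt N46273 F262012))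
theorem Q80178 : ∀ i, i < 80178 → P i := stepQ 80177 Q80177 (allL N80177 (tt N109275 (iv1 F466134)) (tt N85724 (iv0 F395544)) (tt N97528 (iv2 F417266)) (tt N46264 (iv3 D166460)) (tt N92049 (iv4 F395539)) (tt N109100 (iv5 F465341)) (tt N92048 F395536) (tt N46270 F262017))
theorem Q80179 : ∀ i, i < 80179 → P i := stepQ 80178 Q80178 (allL N80178 (tt N46265 (iv1 D166465)) (tt N47117 F358927) (tt N82496 F358928) (tt N51672 (iv3 F358930)) (tt N82024 F358931) (tt N109257 (iv5 F466033)) (tt N46333 F358929) (tt N87813 (iv7 F380624)))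
theorem Q80180 : ∀ i, i < 80180 → P i := stepQ 80179 Q80179 (allL N80179 (tt N87813 (iv1 F380626)) (tt N82496 (iv0 F358881)) (tt N46265 (iv2 D166466)) (tt N97528 (iv3 F417267)) (tt N47891 F358892) (tt N103117 F440152) (tt N79286 F358879) (tt N47117 F358880))
theorem Q80181 : ∀ i, i < 80181 → P i := stepQ 80180 Q80180 (allL N80180 (tt N47895 F262023) (tt N47893 (iv0 F262024)) (tt N47891 F358913) (tt N111857 D215099) (tt N46265 (iv4 D166467)) (tt N107812 (iv5 F459806)) (tt N101554 (iv6 F433381)) (tt N47892 F358914))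
theorem Q80182 : ∀ i, i < 80182 → P i := stepQ 80181 Q80181 (allL N80181 (tt N61268 F358937) (tt N98502 (iv0 F421149)) (tt N103117 (iv2 F440154)) (tt N46267 F262025) (tt N78844 (iv4 F358938)) (tt N46265 (iv5 D166468)) (tt N108286 (iv6 F461888)) (tt N47567 F358923))
theorem Q80183 : ∀ i, i < 80183 → P i := stepQ 80182 Q80182 (allL N80182 (tt N79285 (iv1 F353656)) (tt N75204 F353659) (tt N79286 (iv2 F353660)) (tt N46268 F262026) (tt N101554 F433379) (tt N79264 F350703) (tt N46265 (iv6 D166469)) (tt N47120 F350704))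
theorem Q80184 : ∀ i, i < 80184 → P i := stepQ 80183 Q80183 (allL N80183 (tt N82496 (iv1 F358882)) (tt N87813 (iv0 F380625)) (tt N47117 F358883) (tt N46269 F262027) (tt N47892 F350678) (tt N47567 F358884) (tt N46915 F358885) (tt N46265 (iv7 D166470)))
theorem Q80185 : ∀ i, i < 80185 → P i := stepQ 80184 Q80184 (allL N80184 (tt N80876 (iv1 F361597)) (tt N95783 (iv0 F409620)) (tt N46867 F328129) (tt N46266 (iv3 D166473)) (tt N111857 (iv4 F478334)) (tt N46866 F328130) (tt N58062 (iv6 F344740)) (tt N96491 (iv7 F412742)))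
theorem Q80186 : ∀ i, i < 80186 → P i := stepQ 80185 Q80185 (allL N80185 (tt N95764 F409529) (tt N111649 F477303) (tt N95825 (iv2 F409820)) (tt N58062 F344744) (tt N46268 F262030) (tt N81278 (iv5 F362472)) (tt N46266 (iv6 D166475)) (tt N95826 (iv7 F409825)))
theorem Q80187 : ∀ i, i < 80187 → P i := stepQ 80186 Q80186 (allL N80186 (tt N46271 (iv1 F262037)) (tt N46267 (iv0 D166477)) (tt N80110 F361636) (tt N95841 F409895) (tt N87188 (iv4 F378639)) (tt N80109 F330730) (tt N51907 (iv6 F330759)) (tt N100339 (iv7 F428483)))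
theorem Q80188 : ∀ i, i < 80188 → P i := stepQ 80187 Q80187 (allL N80187 (tt N100339 (iv1 F428485)) (tt N80110 F350675) (tt N46271 F262035) (tt N47567 F346917) (tt N55197 F346918) (tt N46269 F262036) (tt N47565 F346919) (tt N46267 (iv7 D166481)))
theorem Q80189 : ∀ i, i < 80189 → P i := stepQ 80188 Q80188 (allL N80188 (tt N59854 (iv1 F324023)) (tt N82462 F281117) (tt N82460 F355563) (tt N79264 (iv3 F350706)) (tt N99820 (iv4 F426381)) (tt N46268 (iv5 D166484)) (tt N99634 F425519) (tt N79263 F350705))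
theorem Q80190 : ∀ i, i < 80190 → P i := stepQ 80189 Q80189 (allL N80189 (tt N79330 F350679) (tt N46464 F350680) (tt N46272 F262038) (tt N46915 F350681) (tt N100341 (iv4 F428491)) (tt N63834 F350682) (tt N46269 (iv6 D166486)) (tt N47118 F350683))
theorem Q80191 : ∀ i, i < 80191 → P i := stepQ 80190 Q80190 (allL N80190 (tt N85724 F373664) (tt N109275 F466133) (tt N46270 (iv2 D166489)) (tt N47117 F358924) (tt N97429 (iv4 F416857)) (tt N109101 (iv5 F465348)) (tt N47115 F358925) (tt N97528 (iv7 F417269)))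
theorem Q80192 : ∀ i, i < 80192 → P i := stepQ 80191 Q80191 (allL N80191 (tt N79719 F355920) (tt N80159 (iv0 F262039)) (tt N97429 F416859) (tt N46672 F355917) (tt N46270 (iv4 D166490)) (tt N80735 F355918) (tt N78742 F355919) (tt N92049 (iv7 F395540)))
theorem Q80193 : ∀ i, i < 80193 → P i := stepQ 80192 Q80192 (allL N80192 (tt N108684 (iv1 F463541)) (tt N98072 (iv0 F419352)) (tt N109101 (iv2 F465344)) (tt N46271 F262040) (tt N55201 F346916) (tt N46270 (iv5 D166491)) (tt N74397 (iv6 F346914)) (tt N109100 (iv7 F465340)))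
theorem Q80194 : ∀ i, i < 80194 → P i := stepQ 80193 Q80193 (allL N80193 (tt N76120 (iv1 F341691)) (tt N76119 (iv0 F363241)) (tt N47115 F341688) (tt N46272 F262041) (tt N78742 (iv4 F341689)) (tt N66834 (iv5 F341690)) (tt N46270 (iv6 D166492)) (tt N66833 F341687))
theorem Q80195 : ∀ i, i < 80195 → P i := stepQ 80194 Q80194 (allL N80194 (tt N58889 (iv1 F330756)) (tt N48010 F330753) (tt N47565 F330754) (tt N74397 F346913) (tt N55199 (iv4 F346912)) (tt N63230 F330752) (tt N46271 (iv6 D166497)) (tt N58888 (iv7 F346715)))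
theorem Q80196 : ∀ i, i < 80196 → P i := stepQ 80195 Q80195 (allL N80195 (tt N68980 (iv1 F330749)) (tt N68976 (iv0 F330767)) (tt N63834 F330738) (tt N66834 (iv3 F330745)) (tt N68424 F330751) (tt N46272 (iv5 D166500)) (tt N63230 (iv6 F330746)) (tt N66831 (iv7 F330740)))
theorem Q80197 : ∀ i, i < 80197 → P i := stepQ 80196 Q80196 (allL N80196 (tt N46464 F330741) (tt N79330 F330742) (tt N47118 F330743) (tt N66833 (iv3 F341685)) (tt N104254 (iv4 F444960)) (tt N66831 F330744) (tt N59972 F330735) (tt N46272 (iv7 D166501)))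
theorem Q80198 : ∀ i, i < 80198 → P i := stepQ 80197 Q80197 (allL N80197 (tt N46273 (iv1 D166513)) (tt N46277 F262047) (tt N46275 F346930) (tt N109285 F466185) (tt N76886 (iv4 F346938)) (tt N64112 (iv5 F262048)) (tt N82208 F347913) (tt N46274 F346931))
theorem Q80199 : ∀ i, i < 80199 → P i := stepQ 80198 Q80198 (allL N80198 (tt N109286 (iv1 F466192)) (tt N109257 (iv0 F466034)) (tt N86227 (iv2 F375458)) (tt N46274 (iv3 D166516)) (tt N83644 F354322) (tt N111837 (iv5 F478226)) (tt N82742 (iv6 F354321)) (tt N109285 (iv7 F466183)))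
theorem Q80200 : ∀ i, i < 80200 → P i := stepQ 80199 Q80199 (allL N80199 (tt N88206 (iv1 F382171)) (tt N77789 (iv0 F357201)) (tt N88207 (iv2 F382176)) (tt N94413 (iv3 F404373)) (tt N46274 (iv4 D166517)) (tt N53424 (iv5 F346943)) (tt N104734 (iv6 F447038)) (tt N76886 F346940))
theorem Q80201 : ∀ i, i < 80201 → P i := stepQ 80200 Q80200 (allL N80200 (tt N59858 (iv1 F363700)) (tt N46276 (iv0 D166525)) (tt N59855 F363712) (tt N75852 (iv3 F363702)) (tt N97627 (iv4 F417666)) (tt N63490 F363701) (tt N103009 (iv6 F439656)) (tt N59856 (iv7 F363711)))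
theorem Q80202 : ∀ i, i < 80202 → P i := stepQ 80201 Q80201 (allL N80201 (tt N46276 (iv1 D166526)) (tt N59858 (iv0 F363697)) (tt N59856 (iv2 F363709)) (tt N111858 D215100) (tt N97628 (iv4 F417672)) (tt N63491 (iv5 F348114)) (tt N111859 D215101) (tt N59855 F363713))
theorem Q80203 : ∀ i, i < 80203 → P i := stepQ 80202 Q80202 (allL N80202 (tt N59856 (iv1 F363714)) (tt N59855 F363699) (tt N59858 (iv2 F363696)) (tt N84237 F368640) (tt N46277 F262054) (tt N62495 F339845) (tt N95619 (iv6 F408913)) (tt N46276 (iv7 D166529)))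
theorem Q80204 : ∀ i, i < 80204 → P i := stepQ 80203 Q80203 (allL N80203 (tt N94108 (iv1 F403239)) (tt N76662 (iv0 F348624)) (tt N46278 (iv2 D166533)) (tt N63544 F348625) (tt N61763 F348626) (tt N47905 F262056) (tt N70495 F338700) (tt N61760 F335979))
theorem Q80205 : ∀ i, i < 80205 → P i := stepQ 80204 Q80204 (allL N80204 (tt N46282 (iv1 D166554)) (tt N60617 (iv0 F358149)) (tt N60619 (iv2 F358158)) (tt N111860 D215102) (tt N111861 D215103) (tt N85686 F373515) (tt N66039 (iv6 F358159)) (tt N60608 F358157))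
theorem Q80206 : ∀ i, i < 80206 → P i := stepQ 80205 Q80205 (allL N80205 (tt N60608 (iv1 F358161)) (tt N60619 (iv0 F327624)) (tt N46282 (iv2 D166555)) (tt N46293 F262065) (tt N79267 F262066) (tt N83603 (iv5 F288005)) (tt N82537 (iv6 F358241)) (tt N60617 (iv7 F358154)))
theorem Q80207 : ∀ i, i < 80207 → P i := stepQ 80206 Q80206 (allL N80206 (tt N86959 F377858) (tt N101984 (iv0 F435223)) (tt N82537 F358228) (tt N46283 F262071) (tt N47145 (iv4 F299762)) (tt N82536 (iv5 F358226)) (tt N46282 (iv6 D166556)) (tt N47758 F297570))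
theorem Q80208 : ∀ i, i < 80208 → P i := stepQ 80207 Q80207 (allL N80207 (tt N81733 F297571) (tt N81735 F297572) (tt N46297 F262077) (tt N82536 F358229) (tt N108453 (iv4 F462647)) (tt N46283 (iv5 D166558)) (tt N80213 (iv6 F326385)) (tt N47759 F297573))
theorem Q80209 : ∀ i, i < 80209 → P i := stepQ 80208 Q80208 (allL N80208 (tt N79354 (iv1 F262090)) (tt N46286 (iv0 D166562)) (tt N79353 F360325) (tt N100544 (iv3 F429421)) (tt N82474 F281167) (tt N84459 (iv5 F369394)) (tt N111862 D215104) (tt N79352 (iv7 F360302)))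
theorem Q80210 : ∀ i, i < 80210 → P i := stepQ 80209 Q80209 (allL N80209 (tt N46286 (iv1 D166563)) (tt N79354 F262096) (tt N79352 (iv2 F360300)) (tt N111863 D215105) (tt N78503 (iv4 F262091)) (tt N68827 (iv5 F341786)) (tt N106693 (iv6 F455306)) (tt N79353 F360326))
theorem Q80211 : ∀ i, i < 80211 → P i := stepQ 80210 Q80210 (allL N80210 (tt N79353 (iv1 F262097)) (tt N79352 F262095) (tt N46286 (iv2 D166564)) (tt N79669 F262092) (tt N47646 F262093) (tt N68616 (iv5 F343692)) (tt N66515 F358232) (tt N79354 F262094))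
theorem Q80212 : ∀ i, i < 80212 → P i := stepQ 80211 Q80211 (allL N80211 (tt N79669 (iv1 F262130)) (tt N46287 (iv0 D166575)) (tt N79668 (iv2 F262249)) (tt N81817 F364115) (tt N95183 (iv4 F407336)) (tt N111524 (iv5 F476728)) (tt N81815 (iv6 F364116)) (tt N79667 F262250))
theorem Q80213 : ∀ i, i < 80213 → P i := stepQ 80212 Q80212 (allL N80212 (tt N46287 (iv1 D166576)) (tt N79669 F262135) (tt N79667 F262248) (tt N60562 (iv3 F328087)) (tt N82440 (iv4 F280908)) (tt N111525 F476736) (tt N111864 D215106) (tt N79668 (iv7 F262247)))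
theorem Q80214 : ∀ i, i < 80214 → P i := stepQ 80213 Q80213 (allL N80213 (tt N79668 (iv1 F262136)) (tt N79667 F262134) (tt N46287 (iv2 D166577)) (tt N79354 F262132) (tt N100828 (iv4 F430668)) (tt N49218 F326384) (tt N80207 F326385) (tt N79669 F262133))
theorem Q80215 : ∀ i, i < 80215 → P i := stepQ 80214 Q80214 (allL N80214 (tt N60647 (iv1 F327285)) (tt N46289 (iv0 D166583)) (tt N60574 (iv2 F358050)) (tt N86676 (iv3 F376773)) (tt N102278 (iv4 F436517)) (tt N86675 F376771) (tt N90428 F389614) (tt N60645 (iv7 F361881)))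
theorem Q80216 : ∀ i, i < 80216 → P i := stepQ 80215 Q80215 (allL N80215 (tt N46289 (iv1 D166584)) (tt N60647 (iv0 F327284)) (tt N60645 F361879) (tt N55647 F358044) (tt N100667 (iv4 F429918)) (tt N102077 (iv5 F435618)) (tt N47762 F358045) (tt N60574 (iv7 F358046)))
theorem Q80217 : ∀ i, i < 80217 → P i := stepQ 80216 Q80216 (allL N80216 (tt N60641 (iv1 F327275)) (tt N46290 (iv0 D166591)) (tt N79732 (iv2 F412077)) (tt N102119 (iv3 F435829)) (tt N96331 (iv4 F412072)) (tt N111660 (iv5 F477350)) (tt N102118 (iv6 F435827)) (tt N79731 (iv7 F412079)))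
theorem Q80218 : ∀ i, i < 80218 → P i := stepQ 80217 Q80217 (allL N80217 (tt N46290 (iv1 D166592)) (tt N60641 (iv0 F327274)) (tt N79731 F412080) (tt N104425 F445696) (tt N96330 (iv4 F412069)) (tt N111661 (iv5 F477358)) (tt N111865 D215107) (tt N79732 F412078))
theorem Q80219 : ∀ i, i < 80219 → P i := stepQ 80218 Q80218 (allL N80218 (tt N79732 (iv1 F262176)) (tt N79731 F262174) (tt N46290 (iv2 D166593)) (tt N60647 (iv3 F327287)) (tt N63877 F262172) (tt N88323 (iv5 F382592)) (tt N101082 (iv6 F431586)) (tt N60641 (iv7 F327278)))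
theorem Q80220 : ∀ i, i < 80220 → P i := stepQ 80219 Q80219 (allL N80219 (tt N60600 F416550) (tt N66047 (iv0 F416548)) (tt N55668 (iv2 F353614)) (tt N101999 (iv3 F435298)) (tt N97369 F416546) (tt N93678 (iv5 F401533)) (tt N46291 (iv6 D166598)) (tt N101996 (iv7 F435286)))
theorem Q80221 : ∀ i, i < 80221 → P i := stepQ 80220 Q80220 (allL N80220 (tt N60577 F360324) (tt N86676 (iv0 F376776)) (tt N104424 (iv2 F445687)) (tt N46292 (iv3 D166599)) (tt N48367 F262188) (tt N91224 (iv5 F392337)) (tt N111866 D215108) (tt N55670 (iv7 F343687)))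
theorem Q80222 : ∀ i, i < 80222 → P i := stepQ 80221 Q80221 (allL N80221 (tt N50670 F262192) (tt N79693 F262196) (tt N79694 (iv2 F262193)) (tt N91224 (iv3 F392340)) (tt N111867 D215109) (tt N46292 (iv5 D166600)) (tt N88303 (iv6 F382516)) (tt N79695 F262191))
theorem Q80223 : ∀ i, i < 80223 → P i := stepQ 80222 Q80222 (allL N80222 (tt N47789 F338777) (tt N79572 F338778) (tt N79570 (iv2 F357781)) (tt N111866 (iv3 F478390)) (tt N48364 F262198) (tt N95030 (iv5 F429412)) (tt N46292 (iv6 D166601)) (tt N79571 (iv7 F357785)))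
theorem Q80224 : ∀ i, i < 80224 → P i := stepQ 80223 Q80223 (allL N80223 (tt N65986 F341708) (tt N46295 (iv0 D166606)) (tt N82538 (iv2 F330163)) (tt N65962 F348407) (tt N78354 F330162) (tt N79220 (iv5 F330164)) (tt N52252 (iv6 F341945)) (tt N82539 (iv7 F330167)))
theorem Q80225 : ∀ i, i < 80225 → P i := stepQ 80224 Q80224 (allL N80224 (tt N46295 (iv1 D166607)) (tt N65986 (iv0 F326407)) (tt N82539 F322994) (tt N99712 F425865) (tt N103064 (iv4 F439923)) (tt N47745 F322995) (tt N102113 (iv6 F435793)) (tt N82538 F322996))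
theorem Q80226 : ∀ i, i < 80226 → P i := stepQ 80225 Q80225 (allL N80225 (tt N83607 (iv1 F288014)) (tt N46296 (iv0 D166610)) (tt N83605 F382703) (tt N111868 D215110) (tt N87770 F382707) (tt N82570 F382706) (tt N111869 D215111) (tt N83606 F382701))
theorem Q80227 : ∀ i, i < 80227 → P i := stepQ 80226 Q80226 (allL N80226 (tt N46296 (iv1 D166611)) (tt N83607 F288013) (tt N83606 (iv2 F382698)) (tt N97640 (iv3 F417730)) (tt N87771 (iv4 F380448)) (tt N82571 (iv5 F356069)) (tt N111870 D215112) (tt N83605 (iv7 F382702)))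
theorem Q80228 : ∀ i, i < 80228 → P i := stepQ 80227 Q80227 (allL N80227 (tt N47759 F299621) (tt N46297 (iv0 D166619)) (tt N81733 F299622) (tt N80736 F355908) (tt N110223 (iv4 F470504)) (tt N64030 (iv5 F302531)) (tt N80735 (iv6 F355914)) (tt N81735 F299623))
theorem Q80229 : ∀ i, i < 80229 → P i := stepQ 80228 Q80228 (allL N80228 (tt N46297 (iv1 D166620)) (tt N47759 F299624) (tt N81735 F299625) (tt N65956 F406813) (tt N96660 (iv4 F413351)) (tt N74741 (iv5 F326483)) (tt N80424 (iv6 F377826)) (tt N81733 F299626))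
theorem Q80230 : ∀ i, i < 80230 → P i := stepQ 80229 Q80229 (allL N80229 (tt N106726 (iv1 F455430)) (tt N106693 (iv0 F455309)) (tt N99711 (iv2 F425858)) (tt N46299 (iv3 D166624)) (tt N79256 F296355) (tt N103281 F440965) (tt N46540 F296356) (tt N65757 (iv7 F326457)))
theorem Q80231 : ∀ i, i < 80231 → P i := stepQ 80230 Q80230 (allL N80230 (tt N81667 F296358) (tt N74656 (iv0 F326475)) (tt N81736 F296360) (tt N103281 F440966) (tt N111871 D215113) (tt N46299 (iv5 D166625)) (tt N102050 (iv6 F435511)) (tt N65762 (iv7 F326460)))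
theorem Q80232 : ∀ i, i < 80232 → P i := stepQ 80231 Q80231 (allL N80231 (tt N81815 F366966) (tt N102406 (iv0 F437101)) (tt N111872 D215114) (tt N46300 (iv3 D166627)) (tt N59511 (iv4 F363327)) (tt N102043 (iv5 F435482)) (tt N59946 F363328) (tt N81740 F363329))
theorem Q80233 : ∀ i, i < 80233 → P i := stepQ 80232 Q80232 (allL N80232 (tt N46301 (iv1 D166630)) (tt N64983 F262230) (tt N65429 F262233) (tt N64080 (iv3 F262232)) (tt N79231 F262234) (tt N66045 (iv5 F326801)) (tt N100393 (iv6 F428769)) (tt N78415 F262231))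
theorem Q80234 : ∀ i, i < 80234 → P i := stepQ 80233 Q80233 (allL N80233 (tt N46302 (iv1 D166632)) (tt N46305 F262242) (tt N60563 (iv2 F328091)) (tt N79668 F262246) (tt N78750 (iv4 F262244)) (tt N52669 (iv5 F358960)) (tt N64522 F358958) (tt N60562 (iv7 F328089)))
theorem Q80235 : ∀ i, i < 80235 → P i := stepQ 80234 Q80234 (allL N80234 (tt N104409 (iv1 F445642)) (tt N104401 (iv0 F445611)) (tt N60564 (iv2 F328096)) (tt N102350 (iv3 F436852)) (tt N88211 F382196) (tt N46302 (iv5 D166634)) (tt N88210 (iv6 F382198)) (tt N79749 F262254))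
theorem Q80236 : ∀ i, i < 80236 → P i := stepQ 80235 Q80235 (allL N80235 (tt N65836 F338337) (tt N65834 F338336) (tt N65853 F338334) (tt N46306 F262265) (tt N55639 (iv4 F338333)) (tt N97080 (iv5 F415375)) (tt N46304 (iv6 D166640)) (tt N55638 F338335))
theorem Q80237 : ∀ i, i < 80237 → P i := stepQ 80236 Q80236 (allL N80236 (tt N104401 F445612) (tt N104409 F445641) (tt N79749 F262269) (tt N60573 F365683) (tt N84554 (iv4 F369682)) (tt N46305 (iv5 D166642)) (tt N88307 (iv6 F382531)) (tt N60564 (iv7 F328097)))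
theorem Q80238 : ∀ i, i < 80238 → P i := stepQ 80237 Q80237 (allL N80237 (tt N47811 F341637) (tt N79557 F341638) (tt N79559 (iv2 F341869)) (tt N97080 F415378) (tt N90596 F390199) (tt N46306 (iv5 D166646)) (tt N79662 F262275) (tt N79560 (iv7 F341868)))
theorem Q80239 : ∀ i, i < 80239 → P i := stepQ 80238 Q80238 (allL N80238 (tt N46309 (iv1 F262289)) (tt N46308 F262290) (tt N46311 F262285) (tt N79331 F262286) (tt N65986 (iv4 F341707)) (tt N47333 F330161) (tt N79753 F262287) (tt N46307 (iv7 D166651)))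
theorem Q80240 : ∀ i, i < 80240 → P i := stepQ 80239 Q80239 (allL N80239 (tt N88508 F383320) (tt N100393 (iv0 F428771)) (tt N102397 (iv2 F437056)) (tt N46308 (iv3 D166653)) (tt N101660 (iv4 F433740)) (tt N68018 F365220) (tt N87037 (iv6 F378138)) (tt N105347 (iv7 F449810)))
theorem Q80241 : ∀ i, i < 80241 → P i := stepQ 80240 Q80240 (allL N80240 (tt N79267 (iv1 F262301)) (tt N46313 (iv0 D166668)) (tt N79266 F414344) (tt N95649 F409005) (tt N111873 D215115) (tt N111638 (iv5 F477256)) (tt N111874 D215116) (tt N79265 F414342))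
theorem Q80242 : ∀ i, i < 80242 → P i := stepQ 80241 Q80241 (allL N80241 (tt N46313 (iv1 D166669)) (tt N79267 F262306) (tt N79265 (iv2 F414343)) (tt N111875 D215117) (tt N92689 F397885) (tt N111639 (iv5 F477261)) (tt N86971 (iv6 F397886)) (tt N79266 (iv7 F414345)))
theorem Q80243 : ∀ i, i < 80243 → P i := stepQ 80242 Q80242 (allL N80242 (tt N79266 (iv1 F262307)) (tt N79265 F262305) (tt N46313 (iv2 D166670)) (tt N46327 F262302) (tt N60617 (iv4 F358152)) (tt N111504 (iv5 F476636)) (tt N103376 (iv6 F441349)) (tt N79267 F262304))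
theorem Q80244 : ∀ i, i < 80244 → P i := stepQ 80243 Q80243 (allL N80243 (tt N79313 (iv1 F262308)) (tt N46314 (iv0 D166671)) (tt N79312 F394876) (tt N91901 F394874) (tt N111427 F476314) (tt N101592 F433473) (tt N95542 (iv6 F408574)) (tt N79311 (iv7 F394875)))
theorem Q80245 : ∀ i, i < 80245 → P i := stepQ 80244 Q80244 (allL N80244 (tt N46314 (iv1 D166672)) (tt N79313 F262313) (tt N79311 (iv2 F394877)) (tt N111876 D215118) (tt N111389 (iv4 F476129)) (tt N111453 (iv5 F476427)) (tt N91899 F394878) (tt N79312 F394879))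
theorem Q80246 : ∀ i, i < 80246 → P i := stepQ 80245 Q80245 (allL N80245 (tt N79312 (iv1 F262314)) (tt N79311 F262312) (tt N46314 (iv2 D166673)) (tt N79260 F262309) (tt N79202 F262310) (tt N111877 D215119) (tt N99710 (iv6 F425853)) (tt N79313 F262311))
theorem Q80247 : ∀ i, i < 80247 → P i := stepQ 80246 Q80246 (allL N80246 (tt N111401 F476193) (tt N111478 (iv0 F476529)) (tt N111877 (iv2 F478454)) (tt N46315 F262315) (tt N111878 D215120) (tt N46314 (iv5 D166674)) (tt N111879 D215121) (tt N79314 F262316))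
theorem Q80248 : ∀ i, i < 80248 → P i := stepQ 80247 Q80247 (allL N80247 (tt N111880 D215122) (tt N111881 D215123) (tt N79262 F262320) (tt N111879 (iv3 F478464)) (tt N80258 (iv4 F262385)) (tt N111109 (iv5 F474713)) (tt N46315 (iv6 D166676)) (tt N111882 D215124))
theorem Q80249 : ∀ i, i < 80249 → P i := stepQ 80248 Q80248 (allL N80248 (tt N79260 (iv1 F262323)) (tt N46316 (iv0 D166678)) (tt N79259 (iv2 F262327)) (tt N58631 F358382) (tt N74378 F364820) (tt N111626 (iv5 F477207)) (tt N102107 (iv6 F435761)) (tt N58663 (iv7 F358148)))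
theorem Q80250 : ∀ i, i < 80250 → P i := stepQ 80249 Q80249 (allL N80249 (tt N46316 (iv1 D166679)) (tt N79260 F262330) (tt N58663 (iv2 F358147)) (tt N79342 (iv3 F262324)) (tt N78400 (iv4 F262325)) (tt N104044 (iv5 F443913)) (tt N106106 (iv6 F453137)) (tt N79259 F262326))
theorem Q80251 : ∀ i, i < 80251 → P i := stepQ 80250 Q80250 (allL N80250 (tt N79259 (iv1 F262334)) (tt N58663 (iv0 F358145)) (tt N46316 (iv2 D166680)) (tt N79313 F262331) (tt N86957 (iv4 F377832)) (tt N111787 (iv5 F477972)) (tt N58485 (iv6 F346890)) (tt N79260 F262332))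
theorem Q80252 : ∀ i, i < 80252 → P i := stepQ 80251 Q80251 (allL N80251 (tt N95435 F408177) (tt N111484 (iv0 F476559)) (tt N111787 (iv2 F477969)) (tt N46317 F262335) (tt N104047 (iv4 F443929)) (tt N46316 (iv5 D166681)) (tt N98133 (iv6 F419617)) (tt N79261 F262336))
theorem Q80253 : ∀ i, i < 80253 → P i := stepQ 80252 Q80252 (allL N80252 (tt N109545 (iv1 F467453)) (tt N111883 D215125) (tt N79315 F262338) (tt N98133 F419616) (tt N80254 (iv4 F262368)) (tt N84213 F368534) (tt N46317 (iv6 D166683)) (tt N111785 (iv7 F477959)))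
theorem Q80254 : ∀ i, i < 80254 → P i := stepQ 80253 Q80253 (allL N80253 (tt N59758 F353321) (tt N59761 F353323) (tt N59957 (iv2 F325573)) (tt N52569 F338520) (tt N84141 (iv4 F368288)) (tt N46318 (iv5 D166686)) (tt N84213 (iv6 F368533)) (tt N89903 (iv7 F387922)))
theorem Q80255 : ∀ i, i < 80255 → P i := stepQ 80254 Q80254 (allL N80254 (tt N88040 F391528) (tt N111884 D215126) (tt N78494 F262367) (tt N87373 F379156) (tt N80252 F262368) (tt N91653 F393912) (tt N46321 (iv6 D166694)) (tt N111885 D215127))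
theorem Q80256 : ∀ i, i < 80256 → P i := stepQ 80255 Q80255 (allL N80255 (tt N79486 F262371) (tt N64098 F262372) (tt N47061 F262369) (tt N59867 (iv3 F363693)) (tt N111886 D215128) (tt N46322 (iv5 D166695)) (tt N91653 (iv6 F393909)) (tt N59853 (iv7 F326157)))
theorem Q80257 : ∀ i, i < 80257 → P i := stepQ 80256 Q80256 (allL N80256 (tt N46323 (iv1 D166697)) (tt N78492 F262378) (tt N78491 F362520) (tt N81021 F362521) (tt N55471 F362522) (tt N87989 (iv5 F381396)) (tt N47148 F362523) (tt N55468 F362524))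
theorem Q80258 : ∀ i, i < 80258 → P i := stepQ 80257 Q80257 (allL N80257 (tt N111887 D215129) (tt N111888 D215130) (tt N87294 (iv2 F379000)) (tt N46324 F262380) (tt N101539 (iv4 F433295)) (tt N46323 (iv5 D166699)) (tt N52422 F364152) (tt N78493 F262381))
theorem Q80259 : ∀ i, i < 80259 → P i := stepQ 80258 Q80258 (allL N80258 (tt N52458 F365879) (tt N111889 D215131) (tt N79316 F262384) (tt N52422 (iv3 F364153)) (tt N80247 F262385) (tt N84208 (iv5 F368514)) (tt N46324 (iv6 D166701)) (tt N87289 (iv7 F378993)))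
theorem Q80260 : ∀ i, i < 80260 → P i := stepQ 80259 Q80259 (allL N80259 (tt N81021 F362541) (tt N111890 D215132) (tt N80576 (iv2 F268476)) (tt N46325 (iv3 D166704)) (tt N78425 F262393) (tt N111891 D215133) (tt N106715 (iv6 F455376)) (tt N79317 F262392))
theorem Q80261 : ∀ i, i < 80261 → P i := stepQ 80260 Q80260 (allL N80260 (tt N79645 F262400) (tt N64125 F262401) (tt N79320 F262398) (tt N111891 (iv3 F478529)) (tt N111892 D215134) (tt N46325 (iv5 D166705)) (tt N91661 (iv6 F393934)) (tt N79318 F262399))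
theorem Q80262 : ∀ i, i < 80262 → P i := stepQ 80261 Q80261 (allL N80261 (tt N79565 F353260) (tt N47791 F353261) (tt N79321 F262402) (tt N106715 (iv3 F455372)) (tt N79603 (iv4 F353263)) (tt N91662 (iv5 F393943)) (tt N46325 (iv6 D166706)) (tt N79564 (iv7 F353256)))
theorem Q80263 : ∀ i, i < 80263 → P i := stepQ 80262 Q80262 (allL N80262 (tt N95647 (iv1 F408999)) (tt N95586 (iv0 F408774)) (tt N95627 (iv2 F408942)) (tt N46326 (iv3 D166707)) (tt N79232 F262404) (tt N111893 D215135) (tt N59842 F364247) (tt N79319 F262405))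
theorem Q80264 : ∀ i, i < 80264 → P i := stepQ 80263 Q80263 (allL N80263 (tt N64125 F262408) (tt N79645 F262409) (tt N79318 F262406) (tt N111893 (iv3 F478535)) (tt N111894 D215136) (tt N46326 (iv5 D166708)) (tt N52470 F361123) (tt N79320 F262407))
theorem Q80265 : ∀ i, i < 80265 → P i := stepQ 80264 Q80264 (allL N80264 (tt N51830 (iv1 F344657)) (tt N79323 F262415) (tt N46328 F262412) (tt N111504 (iv3 F476635)) (tt N84617 (iv4 F369878)) (tt N46327 (iv5 D166710)) (tt N111895 D215137) (tt N79322 F262413))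
theorem Q80266 : ∀ i, i < 80266 → P i := stepQ 80265 Q80265 (allL N80265 (tt N49914 (iv1 F358138)) (tt N84616 F369876) (tt N84617 (iv2 F369877)) (tt N93903 (iv3 F402355)) (tt N46328 (iv4 D166711)) (tt N83592 F348737) (tt N84623 (iv6 F369898)) (tt N49909 (iv7 F348734)))
theorem Q80267 : ∀ i, i < 80267 → P i := stepQ 80266 Q80266 (allL N80266 (tt N111896 D215138) (tt N111897 D215139) (tt N111895 (iv2 F478544)) (tt N46329 F262417) (tt N84623 (iv4 F369896)) (tt N111572 (iv5 F476976)) (tt N46328 (iv6 D166712)) (tt N84620 (iv7 F369892)))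
theorem Q80268 : ∀ i, i < 80268 → P i := stepQ 80267 Q80267 (allL N80267 (tt N111507 (iv1 F476648)) (tt N46329 (iv0 D166713)) (tt N111505 (iv2 F492218)) (tt N111898 D215141) (tt N111899 D215142) (tt N111900 D215143) (tt N111901 D215144) (tt N111506 (iv7 F492223)))
theorem Q80269 : ∀ i, i < 80269 → P i := stepQ 80268 Q80268 (allL N80268 (tt N46329 (iv1 D166714)) (tt N111507 F476647) (tt N111506 (iv2 F492222)) (tt N111902 D215146) (tt N106810 (iv4 F463198)) (tt N111903 D215147) (tt N111904 D215148) (tt N111505 (iv7 F492221)))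
theorem Q80270 : ∀ i, i < 80270 → P i := stepQ 80269 Q80269 (allL N80269 (tt N111506 (iv1 F476641)) (tt N111505 F476646) (tt N111507 (iv2 F476642)) (tt N84620 (iv3 F369890)) (tt N111471 (iv4 F476492)) (tt N111576 (iv5 F476981)) (tt N79329 F262418) (tt N46329 (iv7 D166715)))
theorem Q80271 : ∀ i, i < 80271 → P i := stepQ 80270 Q80270 (allL N80270 (tt N91901 (iv1 F394872)) (tt N55480 (iv0 F358442)) (tt N91887 (iv2 F394836)) (tt N46331 (iv3 D166718)) (tt N55469 (iv4 F361135)) (tt N111905 D215149) (tt N55556 F358425) (tt N79343 F262428))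
theorem Q80272 : ∀ i, i < 80272 → P i := stepQ 80271 Q80271 (allL N80271 (tt N91916 F394949) (tt N102978 F439527) (tt N79348 F262429) (tt N111905 (iv3 F478567)) (tt N88316 (iv4 F382561)) (tt N46331 (iv5 D166719)) (tt N91600 (iv6 F393750)) (tt N79344 F262430))
theorem Q80273 : ∀ i, i < 80273 → P i := stepQ 80272 Q80272 (allL N80272 (tt N64083 (iv1 F262446)) (tt N64080 F262445) (tt N46332 (iv2 D166725)) (tt N78666 F262441) (tt N79767 F262442) (tt N58819 (iv5 F327241)) (tt N94176 (iv6 F403554)) (tt N78409 F262444))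
theorem Q80274 : ∀ i, i < 80274 → P i := stepQ 80273 Q80273 (allL N80273 (tt N46910 F330842) (tt N47104 F330843) (tt N46336 F262462) (tt N103448 (iv3 F441680)) (tt N78457 F262463) (tt N46839 F330844) (tt N46334 (iv6 D166735)) (tt N47102 F330845))
theorem Q80275 : ∀ i, i < 80275 → P i := stepQ 80274 Q80274 (allL N80274 (tt N111543 (iv1 F476838)) (tt N70518 F344360) (tt N111709 F477599) (tt N46335 (iv3 D166736)) (tt N46339 F262464) (tt N85506 (iv5 F372884)) (tt N59089 F342048) (tt N78458 F262465))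
theorem Q80276 : ∀ i, i < 80276 → P i := stepQ 80275 Q80275 (allL N80275 (tt N48399 F262468) (tt N53812 (iv0 F345209)) (tt N78456 F262466) (tt N85506 (iv3 F372885)) (tt N53804 (iv4 F354687)) (tt N46335 (iv5 D166737)) (tt N107703 F459300) (tt N78459 F262467))
theorem Q80277 : ∀ i, i < 80277 → P i := stepQ 80276 Q80276 (allL N80276 (tt N79728 F330846) (tt N81221 F330847) (tt N78457 F262469) (tt N59089 F342047) (tt N46336 F262470) (tt N107506 (iv5 F458569)) (tt N46335 (iv6 D166738)) (tt N81220 F330848))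
theorem Q80278 : ∀ i, i < 80278 → P i := stepQ 80277 Q80277 (allL N80277 (tt N46336 (iv1 D166740)) (tt N47102 F330838) (tt N47104 F330839) (tt N104788 F447279) (tt N56873 (iv4 F333006)) (tt N46911 F330840) (tt N111906 D215150) (tt N46910 F330841))
theorem Q80279 : ∀ i, i < 80279 → P i := stepQ 80278 Q80278 (allL N80278 (tt N60010 F357776) (tt N104124 (iv0 F444302)) (tt N72101 F359629) (tt N46337 (iv3 D166743)) (tt N79659 F262473) (tt N71016 (iv5 F359627)) (tt N59981 (iv6 F357775)) (tt N72110 F359626))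
theorem Q80280 : ∀ i, i < 80280 → P i := stepQ 80279 Q80279 (allL N80279 (tt N64147 F262474) (tt N64142 F262475) (tt N68006 (iv2 F334304)) (tt N71016 (iv3 F334325)) (tt N70568 (iv4 F334308)) (tt N46337 (iv5 D166744)) (tt N111101 (iv6 F474670)) (tt N67999 F334303))
theorem Q80281 : ∀ i, i < 80281 → P i := stepQ 80280 Q80280 (allL N80280 (tt N75291 (iv1 F354856)) (tt N75287 F354858) (tt N75380 F354811) (tt N59981 F354805) (tt N79658 F262477) (tt N81344 F354806) (tt N46337 (iv6 D166745)) (tt N81343 (iv7 F354804)))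
theorem Q80282 : ∀ i, i < 80282 → P i := stepQ 80281 Q80281 (allL N80281 (tt N46339 (iv1 D166749)) (tt N82398 F362660) (tt N100670 (iv2 F429935)) (tt N60009 (iv3 F343104)) (tt N79811 (iv4 F301260)) (tt N104774 (iv5 F447202)) (tt N95783 (iv6 F409618)) (tt N95827 (iv7 F409832)))
theorem Q80283 : ∀ i, i < 80283 → P i := stepQ 80282 Q80282 (allL N80282 (tt N95827 (iv1 F409834)) (tt N100670 F429940) (tt N46339 (iv2 D166750)) (tt N69406 (iv3 F334670)) (tt N111709 (iv4 F477598)) (tt N69404 F347058) (tt N80007 (iv6 F342066)) (tt N82398 (iv7 F334666)))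
theorem Q80284 : ∀ i, i < 80284 → P i := stepQ 80283 Q80283 (allL N80283 (tt N46346 (iv1 F262495)) (tt N46340 (iv0 D166753)) (tt N100734 (iv2 F430214)) (tt N104117 (iv3 F444259)) (tt N103872 (iv4 F443160)) (tt N79345 F262494) (tt N69388 (iv6 F351663)) (tt N100733 (iv7 F430210)))
theorem Q80285 : ∀ i, i < 80285 → P i := stepQ 80284 Q80284 (allL N80284 (tt N46340 (iv1 D166754)) (tt N46346 F262496) (tt N100733 (iv2 F430209)) (tt N68988 (iv3 F336566)) (tt N92262 (iv4 F396508)) (tt N79767 F262497) (tt N102772 F438579) (tt N100734 (iv7 F430217)))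
theorem Q80286 : ∀ i, i < 80286 → P i := stepQ 80285 Q80285 (allL N80285 (tt N78598 F351665) (tt N78597 F351666) (tt N108838 (iv2 F464196)) (tt N102783 (iv3 F438630)) (tt N103553 (iv4 F442016)) (tt N68458 (iv5 F351664)) (tt N46340 (iv6 D166756)) (tt N109916 (iv7 F469201)))
theorem Q80287 : ∀ i, i < 80287 → P i := stepQ 80286 Q80286 (allL N80286 (tt N64119 F262505) (tt N64120 F262506) (tt N46344 F262503) (tt N79359 F262507) (tt N46343 (iv4 D166776)) (tt N104401 (iv5 F445609)) (tt N92050 (iv6 F395551)) (tt N79714 F262504))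
theorem Q80288 : ∀ i, i < 80288 → P i := stepQ 80287 Q80287 (allL N80287 (tt N105337 (iv1 F449767)) (tt N111907 D215151) (tt N82401 (iv2 F358985)) (tt N46344 (iv3 D166778)) (tt N46345 F262509) (tt N104406 (iv5 F445629)) (tt N65420 F358984) (tt N104780 (iv7 F447233)))
theorem Q80289 : ∀ i, i < 80289 → P i := stepQ 80288 Q80288 (allL N80288 (tt N79270 (iv1 F262583)) (tt N46351 (iv0 D166843)) (tt N65161 F346443) (tt N109796 (iv3 F468651)) (tt N47445 F298402) (tt N65158 (iv5 F347453)) (tt N47497 F346444) (tt N65156 (iv7 F336446)))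
theorem Q80290 : ∀ i, i < 80290 → P i := stepQ 80289 Q80289 (allL N80289 (tt N72234 F344471) (tt N76061 (iv0 F344470)) (tt N57688 (iv2 F310487)) (tt N66823 F344468) (tt N46356 F262760) (tt N72221 (iv5 F344469)) (tt N46354 (iv6 D166900)) (tt N94169 (iv7 F403515)))
theorem Q80291 : ∀ i, i < 80291 → P i := stepQ 80290 Q80290 (allL N80290 (tt N78748 F345804) (tt N78327 F345823) (tt N64458 F262761) (tt N52789 F262762) (tt N64346 F262763) (tt N79885 (iv5 F345819)) (tt N46355 (iv6 D166901)) (tt N67011 (iv7 F351767)))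
theorem Q80292 : ∀ i, i < 80292 → P i := stepQ 80291 Q80291 (allL N80291 (tt N72314 (iv1 F311896)) (tt N46372 F304287) (tt N79375 F303236) (tt N75844 F348452) (tt N94169 (iv4 F403512)) (tt N65311 F303237) (tt N77606 F303238) (tt N46356 (iv7 D166905)))
theorem Q80293 : ∀ i, i < 80293 → P i := stepQ 80292 Q80292 (allL N80292 (tt N66974 (iv1 F332340)) (tt N67009 (iv0 F332361)) (tt N64464 F262768) (tt N67017 (iv3 F305617)) (tt N54122 (iv4 F306325)) (tt N77608 F332363) (tt N46358 (iv6 D166908)) (tt N67010 F332354))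
theorem Q80294 : ∀ i, i < 80294 → P i := stepQ 80293 Q80293 (allL N80293 (tt N46393 F312089) (tt N46398 F312090) (tt N46360 (iv2 D166946)) (tt N46404 F262790) (tt N46639 F262791) (tt N103948 (iv5 F443483)) (tt N104230 (iv6 F444819)) (tt N46404 F303284))
theorem Q80295 : ∀ i, i < 80295 → P i := stepQ 80294 Q80294 (allL N80294 (tt N78548 (iv1 F273744)) (tt N78607 (iv0 F272028)) (tt N47288 F262962) (tt N95824 (iv3 F409818)) (tt N53271 F262963) (tt N78576 F262964) (tt N46365 (iv6 D166999)) (tt N78606 F262969))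
theorem Q80296 : ∀ i, i < 80296 → P i := stepQ 80295 Q80295 (allL N80295 (tt N80757 F340217) (tt N80758 (iv0 F343379)) (tt N66941 F362758) (tt N46369 F262994) (tt N47162 F262995) (tt N90677 (iv5 F390487)) (tt N46368 (iv6 D167007)) (tt N103890 (iv7 F443233)))
theorem Q80297 : ∀ i, i < 80297 → P i := stepQ 80296 Q80296 (allL N80296 (tt N46376 (iv1 D167068)) (tt N53755 (iv0 F333416)) (tt N53757 (iv2 F333418)) (tt N76926 F333411) (tt N80969 (iv4 F333410)) (tt N88626 (iv5 F383635)) (tt N53744 F333412) (tt N53210 F333413))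
theorem Q80298 : ∀ i, i < 80298 → P i := stepQ 80297 Q80297 (allL N80297 (tt N46378 (iv1 D167081)) (tt N46383 F263158) (tt N46381 (iv2 F263160)) (tt N94474 (iv3 F404627)) (tt N54044 F304815) (tt N81418 F304816) (tt N78606 F304817) (tt N46380 F263159))
theorem Q80299 : ∀ i, i < 80299 → P i := stepQ 80298 Q80298 (allL N80298 (tt N46381 (iv1 F263167)) (tt N46380 F263168) (tt N46383 F263164) (tt N46957 F263165) (tt N53755 F304820) (tt N47488 F304821) (tt N47273 F263166) (tt N46378 (iv7 D167083)))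
theorem Q80300 : ∀ i, i < 80300 → P i := stepQ 80299 Q80299 (allL N80299 (tt N78839 F346539) (tt N88498 (iv0 F383287)) (tt N46953 F263170) (tt N46385 F263171) (tt N111908 D215152) (tt N46379 (iv5 D167086)) (tt N46382 F263172) (tt N77704 (iv7 F366505)))
theorem Q80301 : ∀ i, i < 80301 → P i := stepQ 80300 Q80300 (allL N80300 (tt N78607 F361264) (tt N78548 F361265) (tt N78606 F361266) (tt N79999 F263181) (tt N54038 F361267) (tt N78575 F361268) (tt N46381 (iv6 D167092)) (tt N47288 F361269))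
theorem Q80302 : ∀ i, i < 80302 → P i := stepQ 80301 Q80301 (allL N80301 (tt N80707 F304829) (tt N90513 (iv0 F389903)) (tt N54326 F304830) (tt N106906 F456229) (tt N46382 (iv4 D167095)) (tt N107956 (iv5 F460469)) (tt N111908 (iv6 F478586)) (tt N54324 F304831))
theorem Q80303 : ∀ i, i < 80303 → P i := stepQ 80302 Q80302 (allL N80302 (tt N68043 F322570) (tt N48146 F322571) (tt N47306 F307720) (tt N66934 F354107) (tt N63070 F322572) (tt N46384 (iv5 D167098)) (tt N63069 F322573) (tt N47308 F307721))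
theorem Q80304 : ∀ i, i < 80304 → P i := stepQ 80303 Q80303 (allL N80303 (tt N69317 (iv1 F334190)) (tt N69297 (iv0 F333402)) (tt N46388 (iv2 D167114)) (tt N79367 F263207) (tt N70105 (iv4 F330195)) (tt N65188 (iv5 F331984)) (tt N103065 (iv6 F439928)) (tt N69315 (iv7 F334210)))
theorem Q80305 : ∀ i, i < 80305 → P i := stepQ 80304 Q80304 (allL N80304 (tt N109412 F466840) (tt N103933 (iv0 F447064)) (tt N103065 (iv2 F439927)) (tt N46389 F263215) (tt N78643 F263216) (tt N77051 (iv5 F348671)) (tt N46388 (iv6 D167116)) (tt N79374 F304801))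
theorem Q80306 : ∀ i, i < 80306 → P i := stepQ 80305 Q80305 (allL N80305 (tt N79416 (iv1 F305462)) (tt N46400 (iv0 D167233)) (tt N79401 (iv2 F362744)) (tt N52781 (iv3 F362745)) (tt N108939 (iv4 F464581)) (tt N52777 F344053) (tt N52780 (iv6 F362746)) (tt N79409 (iv7 F362747)))
theorem Q80307 : ∀ i, i < 80307 → P i := stepQ 80306 Q80306 (allL N80306 (tt N46400 (iv1 D167234)) (tt N79416 (iv0 F305461)) (tt N79409 (iv2 F343981)) (tt N81060 (iv3 F332015)) (tt N89972 (iv4 F388148)) (tt N79385 (iv5 F357000)) (tt N101841 F434608) (tt N79401 (iv7 F343982)))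
theorem Q80308 : ∀ i, i < 80308 → P i := stepQ 80307 Q80307 (allL N80307 (tt N107887 F460130) (tt N111909 D215153) (tt N82047 (iv2 F278128)) (tt N74610 F350963) (tt N46400 (iv4 D167235)) (tt N74609 (iv5 F350962)) (tt N63541 F263393) (tt N79417 F366904))
theorem Q80309 : ∀ i, i < 80309 → P i := stepQ 80308 Q80308 (allL N80308 (tt N67642 (iv1 F350909)) (tt N80080 (iv0 F350897)) (tt N46406 F263476) (tt N103948 (iv3 F443482)) (tt N111910 D215154) (tt N46404 (iv5 D167342)) (tt N67625 (iv6 F358026)) (tt N103948 (iv7 F443485)))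
theorem Q80310 : ∀ i, i < 80310 → P i := stepQ 80309 Q80309 (allL N80309 (tt N91314 F392688) (tt N82039 (iv0 F350910)) (tt N46407 F263477) (tt N104230 F444823) (tt N99624 F425464) (tt N110907 (iv5 F473728)) (tt N46404 (iv6 D167343)) (tt N104240 (iv7 F444879)))
theorem Q80311 : ∀ i, i < 80311 → P i := stepQ 80310 Q80310 (allL N80310 (tt N79106 F337085) (tt N75244 (iv0 F334995)) (tt N73777 (iv2 F334994)) (tt N46566 F300258) (tt N79950 F362082) (tt N46405 (iv5 D167345)) (tt N73775 F334993) (tt N46640 (iv7 F301929)))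
theorem Q80312 : ∀ i, i < 80312 → P i := stepQ 80311 Q80311 (allL N80311 (tt N103948 (iv1 F443486)) (tt N46406 (iv0 D167347)) (tt N67642 (iv2 F350905)) (tt N80721 (iv3 F350912)) (tt N111911 D215155) (tt N79412 F350906) (tt N65878 F350907) (tt N80080 F350908))
theorem Q80313 : ∀ i, i < 80313 → P i := stepQ 80312 Q80312 (allL N80312 (tt N111912 D215156) (tt N103869 F464202) (tt N111910 (iv2 F478598)) (tt N69351 F366840) (tt N46406 (iv4 D167349)) (tt N111913 D215157) (tt N104111 (iv6 F444231)) (tt N103946 (iv7 F443475)))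
theorem Q80314 : ∀ i, i < 80314 → P i := stepQ 80313 Q80313 (allL N80313 (tt N104240 F444881) (tt N46407 (iv0 D167351)) (tt N91314 (iv2 F392682)) (tt N53575 (iv3 F357028)) (tt N74314 F357082) (tt N91311 (iv5 F392668)) (tt N53573 F357026) (tt N82039 (iv7 F357029)))
theorem Q80315 : ∀ i, i < 80315 → P i := stepQ 80314 Q80314 (allL N80314 (tt N82039 (iv1 F350911)) (tt N91314 (iv0 F392686)) (tt N104240 (iv2 F444877)) (tt N46408 F263488) (tt N104861 (iv4 F447670)) (tt N64229 F263489) (tt N95443 (iv6 F408197)) (tt N46407 (iv7 D167354)))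
theorem Q80316 : ∀ i, i < 80316 → P i := stepQ 80315 Q80315 (allL N80315 (tt N46416 (iv1 F263560)) (tt N46415 F263561) (tt N46417 F263555) (tt N52810 (iv3 F301028)) (tt N47859 F263557) (tt N47886 F263558) (tt N52810 F263559) (tt N46410 (iv7 D167435)))
theorem Q80317 : ∀ i, i < 80317 → P i := stepQ 80316 Q80316 (allL N80316 (tt N100887 (iv1 F430861)) (tt N64844 F304437) (tt N64322 F263581) (tt N111914 D215158) (tt N46411 (iv4 D167442)) (tt N88488 (iv5 F383252)) (tt N111915 D215159) (tt N64324 F263582))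
theorem Q80318 : ∀ i, i < 80318 → P i := stepQ 80317 Q80317 (allL N80317 (tt N111916 D215160) (tt N111917 D215161) (tt N64323 F263583) (tt N88560 (iv3 F383495)) (tt N111915 (iv4 F478625)) (tt N47863 F263584) (tt N46411 (iv6 D167443)) (tt N111918 D215162))
theorem Q80319 : ∀ i, i < 80319 → P i := stepQ 80318 Q80318 (allL N80318 (tt N63905 F304392) (tt N53520 F263595) (tt N47859 F263590) (tt N53578 (iv3 F338074)) (tt N46417 F263591) (tt N47824 F263592) (tt N64025 F263593) (tt N46412 (iv7 D167445)))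
theorem Q80320 : ∀ i, i < 80320 → P i := stepQ 80319 Q80319 (allL N80319 (tt N78547 F308591) (tt N46418 (iv0 D167465)) (tt N69407 (iv2 F334628)) (tt N108838 (iv3 F464197)) (tt N85067 (iv4 F374884)) (tt N47436 F308593) (tt N69400 (iv6 F345854)) (tt N78603 F308594))
theorem Q80321 : ∀ i, i < 80321 → P i := stepQ 80320 Q80320 (allL N80320 (tt N47472 F308599) (tt N46419 (iv0 D167469)) (tt N47314 F308600) (tt N100385 (iv3 F428725)) (tt N53244 F308601) (tt N80879 F308602) (tt N46955 F308603) (tt N78604 F308604))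
theorem Q80322 : ∀ i, i < 80322 → P i := stepQ 80321 Q80321 (allL N80321 (tt N78604 F308606) (tt N47314 F308607) (tt N47472 F308608) (tt N46420 F263627) (tt N53578 F308609) (tt N47000 F308610) (tt N78607 F308611) (tt N46419 (iv7 D167472)))
theorem Q80323 : ∀ i, i < 80323 → P i := stepQ 80322 Q80322 (allL N80322 (tt N68028 F345776) (tt N68032 (iv0 F346973)) (tt N104807 F447387) (tt N46422 (iv3 D167490)) (tt N47589 F263660) (tt N68990 F346981) (tt N47573 F303149) (tt N47576 F263661))
theorem Q80324 : ∀ i, i < 80324 → P i := stepQ 80323 Q80323 (allL N80323 (tt N47486 (iv1 F309520)) (tt N46423 (iv0 D167492)) (tt N54320 F307527) (tt N100397 F428793) (tt N53371 F307528) (tt N78603 F307529) (tt N47431 F309570) (tt N47436 F307530))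
theorem Q80325 : ∀ i, i < 80325 → P i := stepQ 80324 Q80324 (allL N80324 (tt N47047 (iv1 F263823)) (tt N46430 (iv0 D167564)) (tt N47044 F342660) (tt N63534 (iv3 F342644)) (tt N80327 (iv4 F342692)) (tt N63533 F342652) (tt N52967 (iv6 F342654)) (tt N47045 (iv7 F342667)))
theorem Q80326 : ∀ i, i < 80326 → P i := stepQ 80325 Q80325 (allL N80325 (tt N46430 (iv1 D167565)) (tt N47047 F263818) (tt N47045 (iv2 F342666)) (tt N80906 (iv3 F342649)) (tt N80328 (iv4 F342688)) (tt N80905 F342647) (tt N109324 F466390) (tt N47044 F342665))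
theorem Q80327 : ∀ i, i < 80327 → P i := stepQ 80326 Q80326 (allL N80326 (tt N47045 (iv1 F263824)) (tt N47044 F263825) (tt N47047 F263821) (tt N80149 F342687) (tt N78708 (iv4 F311544)) (tt N100643 (iv5 F429811)) (tt N79279 F263822) (tt N46430 (iv7 D167567)))
theorem Q80328 : ∀ i, i < 80328 → P i := stepQ 80327 Q80327 (allL N80327 (tt N79279 (iv1 F263833)) (tt N46431 (iv0 D167568)) (tt N79277 (iv2 F342691)) (tt N77187 (iv3 F342696)) (tt N80324 F342692) (tt N71151 F344830) (tt N88664 (iv6 F383785)) (tt N79278 F342693))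
theorem Q80329 : ∀ i, i < 80329 → P i := stepQ 80328 Q80328 (allL N80328 (tt N46431 (iv1 D167569)) (tt N79279 F263826) (tt N79278 (iv2 F342689)) (tt N65339 (iv3 F352321)) (tt N80325 F342688) (tt N65337 (iv5 F352326)) (tt N111919 D215163) (tt N79277 (iv7 F342690)))
theorem Q80330 : ∀ i, i < 80330 → P i := stepQ 80329 Q80329 (allL N80329 (tt N59989 F352159) (tt N62541 F352160) (tt N75388 F352166) (tt N48346 F352161) (tt N46432 (iv4 D167574)) (tt N48345 F352162) (tt N111920 D215164) (tt N48344 F352163))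
theorem Q80331 : ∀ i, i < 80331 → P i := stepQ 80330 Q80330 (allL N80330 (tt N111919 F478650) (tt N111921 D215165) (tt N94107 (iv2 F403236)) (tt N65115 (iv3 F361188)) (tt N111920 (iv4 F478653)) (tt N85958 (iv5 F374617)) (tt N46432 (iv6 D167576)) (tt N65113 F361189))
theorem Q80332 : ∀ i, i < 80332 → P i := stepQ 80331 Q80331 (allL N80331 (tt N62541 F352170) (tt N59989 F352171) (tt N48344 F352172) (tt N76645 (iv3 F353622)) (tt N46433 (iv4 D167579)) (tt N48342 F352174) (tt N65162 F352175) (tt N75388 F352176))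
theorem Q80333 : ∀ i, i < 80333 → P i := stepQ 80332 Q80332 (allL N80332 (tt N52954 F359842) (tt N52967 F359843) (tt N65165 F352178) (tt N63745 F352180) (tt N65162 (iv4 F352177)) (tt N80964 F352179) (tt N46433 (iv6 D167581)) (tt N77641 (iv7 F352183)))
theorem Q80334 : ∀ i, i < 80334 → P i := stepQ 80333 Q80333 (allL N80333 (tt N108286 (iv1 F461889)) (tt N46434 (iv0 D167582)) (tt N99578 (iv2 F425258)) (tt N99842 (iv3 F426481)) (tt N61478 F420374) (tt N109460 (iv5 F467077)) (tt N61476 (iv6 F420375)) (tt N108287 (iv7 F461893)))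
theorem Q80335 : ∀ i, i < 80335 → P i := stepQ 80334 Q80334 (allL N80334 (tt N108287 (iv1 F461894)) (tt N99578 (iv0 F425257)) (tt N108286 (iv2 F461887)) (tt N99558 (iv3 F425154)) (tt N74943 F347975) (tt N46435 F263839) (tt N103117 F440153) (tt N46434 (iv7 D167585)))
theorem Q80336 : ∀ i, i < 80336 → P i := stepQ 80335 Q80335 (allL N80335 (tt N70091 (iv1 F342734)) (tt N46436 (iv0 D167586)) (tt N78213 (iv2 F316073)) (tt N100622 (iv3 F429743)) (tt N68507 F339654) (tt N47582 F301463) (tt N78627 (iv6 F353939)) (tt N78637 (iv7 F348446)))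
theorem Q80337 : ∀ i, i < 80337 → P i := stepQ 80336 Q80336 (allL N80336 (tt N78213 F348433) (tt N78637 (iv0 F348440)) (tt N46436 (iv2 D167588)) (tt N63255 (iv3 F317040)) (tt N69311 (iv4 F312341)) (tt N81050 (iv5 F348429)) (tt N111922 D215166) (tt N70091 F348432))
theorem Q80338 : ∀ i, i < 80338 → P i := stepQ 80337 Q80337 (allL N80337 (tt N78558 F347334) (tt N86378 F376015) (tt N111922 (iv2 F478665)) (tt N46438 F263843) (tt N79374 F263844) (tt N81064 (iv5 F342727)) (tt N46436 (iv6 D167590)) (tt N78643 (iv7 F354171)))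
theorem Q80339 : ∀ i, i < 80339 → P i := stepQ 80338 Q80338 (allL N80338 (tt N82202 (iv1 F355847)) (tt N98302 F420414) (tt N78623 F263846) (tt N77190 F355845) (tt N79890 F355846) (tt N81108 (iv5 F359160)) (tt N46437 (iv6 D167592)) (tt N77185 (iv7 F355844)))
theorem Q80340 : ∀ i, i < 80340 → P i := stepQ 80339 Q80339 (allL N80339 (tt N46439 (iv1 D167594)) (tt N63255 (iv0 F317038)) (tt N70090 F330261) (tt N89733 (iv3 F387348)) (tt N69185 (iv4 F315475)) (tt N47562 F330262) (tt N70093 (iv6 F330268)) (tt N70089 F330263))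
theorem Q80341 : ∀ i, i < 80341 → P i := stepQ 80340 Q80340 (allL N80340 (tt N63697 (iv1 F334108)) (tt N80909 (iv0 F334105)) (tt N70092 F364587) (tt N46440 F263857) (tt N75935 (iv4 F334110)) (tt N46439 (iv5 D167596)) (tt N63089 F334107) (tt N70095 (iv7 F321356)))
theorem Q80342 : ∀ i, i < 80342 → P i := stepQ 80341 Q80341 (allL N80341 (tt N98502 (iv1 F421148)) (tt N61268 F358939) (tt N47567 F301480) (tt N109101 (iv3 F465345)) (tt N81439 F301481) (tt N47117 F301482) (tt N46442 (iv6 D167611)) (tt N103117 (iv7 F440150)))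
theorem Q80343 : ∀ i, i < 80343 → P i := stepQ 80342 Q80342 (allL N80342 (tt N81434 (iv1 F344944)) (tt N61283 F344943) (tt N46443 (iv2 D167614)) (tt N68046 F344945) (tt N100564 (iv4 F429475)) (tt N47520 F303420) (tt N104812 (iv6 F447418)) (tt N68045 (iv7 F344787)))
theorem Q80344 : ∀ i, i < 80344 → P i := stepQ 80343 Q80343 (allL N80343 (tt N52827 (iv1 F353800)) (tt N104811 F447413) (tt N104812 (iv2 F447414)) (tt N46444 F263870) (tt N100565 (iv4 F429483)) (tt N81485 (iv5 F353795)) (tt N46443 (iv6 D167616)) (tt N79481 F353798))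
theorem Q80345 : ∀ i, i < 80345 → P i := stepQ 80344 Q80344 (allL N80344 (tt N68424 F351483) (tt N46447 (iv0 D167641)) (tt N80457 F351474) (tt N57704 F351475) (tt N68588 F351476) (tt N73333 (iv5 F351472)) (tt N68587 (iv6 F351473)) (tt N68558 (iv7 F359900)))
theorem Q80346 : ∀ i, i < 80346 → P i := stepQ 80345 Q80345 (allL N80345 (tt N46447 (iv1 D167642)) (tt N68424 F351504) (tt N68558 (iv2 F359902)) (tt N89445 (iv3 F386537)) (tt N100152 (iv4 F427726)) (tt N81714 (iv5 F351503)) (tt N111923 D215167) (tt N80457 F359903))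
theorem Q80347 : ∀ i, i < 80347 → P i := stepQ 80346 Q80346 (allL N80346 (tt N77772 F351482) (tt N107660 F459128) (tt N107145 (iv2 F457190)) (tt N46449 F263922) (tt N99035 (iv4 F423100)) (tt N46447 (iv5 D167643)) (tt N82651 (iv6 F283475)) (tt N47731 F299103))
theorem Q80348 : ∀ i, i < 80348 → P i := stepQ 80347 Q80347 (allL N80347 (tt N77134 (iv1 F312392)) (tt N76888 (iv0 F312397)) (tt N46458 F263936) (tt N58697 (iv3 F358850)) (tt N46449 (iv4 D167648)) (tt N58690 F358849) (tt N76884 (iv6 F330095)) (tt N47732 F299122))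
theorem Q80349 : ∀ i, i < 80349 → P i := stepQ 80348 Q80348 (allL N80348 (tt N72338 (iv1 F360014)) (tt N62448 F360015) (tt N73746 F366258) (tt N81260 (iv3 F360016)) (tt N46453 (iv4 D167672)) (tt N96660 F413353) (tt N81257 F360017) (tt N73747 F366257))
theorem Q80350 : ∀ i, i < 80350 → P i := stepQ 80349 Q80349 (allL N80349 (tt N71977 F339091) (tt N72309 (iv0 F339105)) (tt N72063 (iv2 F339093)) (tt N46455 F263959) (tt N71304 (iv4 F339088)) (tt N46454 (iv5 D167677)) (tt N109003 (iv6 F464859)) (tt N72060 (iv7 F363375)))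
theorem Q80351 : ∀ i, i < 80351 → P i := stepQ 80350 Q80350 (allL N80350 (tt N72801 (iv1 F357374)) (tt N62299 F357373) (tt N72750 (iv2 F357371)) (tt N46456 F263960) (tt N80522 (iv4 F268169)) (tt N81692 F366297) (tt N46454 (iv6 D167678)) (tt N72799 F357372))
theorem Q80352 : ∀ i, i < 80352 → P i := stepQ 80351 Q80351 (allL N80351 (tt N62448 (iv1 F347185)) (tt N72338 (iv0 F347183)) (tt N73747 F366256) (tt N59198 F359940) (tt N46455 (iv4 D167679)) (tt N110223 (iv5 F470503)) (tt N73017 (iv6 F440005)) (tt N73746 (iv7 F366259)))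
theorem Q80353 : ∀ i, i < 80353 → P i := stepQ 80352 Q80352 (allL N80352 (tt N73149 F341032) (tt N72228 (iv0 F350103)) (tt N73172 (iv2 F350117)) (tt N109003 (iv3 F464856)) (tt N73017 F440004) (tt N81693 (iv5 F341075)) (tt N46455 (iv6 D167680)) (tt N73171 (iv7 F350108)))
theorem Q80354 : ∀ i, i < 80354 → P i := stepQ 80353 Q80353 (allL N80353 (tt N74977 (iv1 F348850)) (tt N67061 F348851) (tt N47737 F300150) (tt N82233 (iv3 F355808)) (tt N108984 (iv4 F464767)) (tt N75342 (iv5 F330083)) (tt N46457 (iv6 D167686)) (tt N82234 F330082))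
theorem Q80355 : ∀ i, i < 80355 → P i := stepQ 80354 Q80354 (allL N80354 (tt N47732 F299632) (tt N46458 (iv0 D167687)) (tt N77134 (iv2 F312393)) (tt N59211 F364417) (tt N51605 F299634) (tt N93484 (iv5 F400875)) (tt N72688 (iv6 F364418)) (tt N76888 (iv7 F312400)))
theorem Q80356 : ∀ i, i < 80356 → P i := stepQ 80355 Q80355 (allL N80355 (tt N46458 (iv1 D167688)) (tt N47732 F300151) (tt N76888 (iv2 F312399)) (tt N91617 (iv3 F393786)) (tt N76211 (iv4 F308515)) (tt N111871 (iv5 F478421)) (tt N109258 (iv6 F466038)) (tt N77134 (iv7 F312394)))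
theorem Q80357 : ∀ i, i < 80357 → P i := stepQ 80356 Q80356 (allL N80356 (tt N93829 (iv1 F402056)) (tt N97662 (iv0 F417833)) (tt N58690 F358847) (tt N106773 (iv3 F455619)) (tt N47759 F300154) (tt N46458 (iv5 D167690)) (tt N58688 (iv6 F358863)) (tt N108453 (iv7 F462645)))
theorem Q80358 : ∀ i, i < 80358 → P i := stepQ 80357 Q80357 (allL N80357 (tt N76888 (iv1 F312398)) (tt N77134 (iv0 F312391)) (tt N47732 F300157) (tt N106054 (iv3 F452917)) (tt N46459 F263964) (tt N108453 (iv5 F462646)) (tt N57197 F330109) (tt N46458 (iv7 D167691)))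
theorem Q80359 : ∀ i, i < 80359 → P i := stepQ 80358 Q80358 (allL N80358 (tt N67475 F362186) (tt N111924 D215168) (tt N97613 (iv2 F417603)) (tt N46460 (iv3 D167709)) (tt N93912 (iv4 F402407)) (tt N65963 (iv5 F362295)) (tt N100683 (iv6 F429995)) (tt N97625 (iv7 F417657)))
theorem Q80360 : ∀ i, i < 80360 → P i := stepQ 80359 Q80359 (allL N80359 (tt N68289 F360898) (tt N99341 (iv0 F424188)) (tt N76535 F360900) (tt N46462 F264021) (tt N100617 (iv4 F429718)) (tt N78304 (iv5 F360899)) (tt N46461 (iv6 D167717)) (tt N87922 (iv7 F381142)))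
theorem Q80361 : ∀ i, i < 80361 → P i := stepQ 80360 Q80360 (allL N80360 (tt N111925 D215169) (tt N107743 (iv0 F459509)) (tt N111926 D215170) (tt N46463 (iv3 D167722)) (tt N101120 (iv4 F431772)) (tt N97660 (iv5 F417818)) (tt N105872 (iv6 F452120)) (tt N108959 (iv7 F464674)))
theorem Q80362 : ∀ i, i < 80362 → P i := stepQ 80361 Q80361 (allL N80361 (tt N76168 F264109) (tt N75337 (iv0 F344687)) (tt N46469 F264107) (tt N58522 F344633) (tt N58523 F344634) (tt N46468 (iv5 D167760)) (tt N97087 (iv6 F415419)) (tt N58802 (iv7 F344632)))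
theorem Q80363 : ∀ i, i < 80363 → P i := stepQ 80362 Q80362 (allL N80362 (tt N76118 (iv1 F264114)) (tt N76522 F353866) (tt N46470 F264111) (tt N80728 F342319) (tt N46482 F264112) (tt N77193 F264113) (tt N46468 (iv6 D167761)) (tt N103105 (iv7 F440097)))
theorem Q80364 : ∀ i, i < 80364 → P i := stepQ 80363 Q80363 (allL N80363 (tt N58802 (iv1 F344629)) (tt N46469 (iv0 D167762)) (tt N76168 (iv2 F264120)) (tt N79831 (iv3 F348589)) (tt N111927 D215171) (tt N79491 F264116) (tt N79829 F348595) (tt N75337 (iv7 F344690)))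
theorem Q80365 : ∀ i, i < 80365 → P i := stepQ 80364 Q80364 (allL N80364 (tt N84551 (iv1 F369669)) (tt N74401 (iv0 F354854)) (tt N58523 (iv2 F344635)) (tt N83770 F345723) (tt N46469 (iv4 D167764)) (tt N87437 (iv5 F379328)) (tt N111590 F477049) (tt N76169 F264127))
theorem Q80366 : ∀ i, i < 80366 → P i := stepQ 80365 Q80365 (allL N80365 (tt N81777 F409903) (tt N97086 F415420) (tt N97087 (iv2 F415416)) (tt N46474 F264128) (tt N111590 F477048) (tt N103114 (iv5 F440139)) (tt N46469 (iv6 D167765)) (tt N97085 (iv7 F415414)))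
theorem Q80367 : ∀ i, i < 80367 → P i := stepQ 80366 Q80366 (allL N80366 (tt N103105 (iv1 F440099)) (tt N46470 (iv0 D167766)) (tt N76118 (iv2 F264131)) (tt N76526 (iv3 F358560)) (tt N72409 (iv4 F313935)) (tt N75948 F264129) (tt N66832 (iv6 F264132)) (tt N76522 F353864))
theorem Q80368 : ∀ i, i < 80368 → P i := stepQ 80367 Q80367 (allL N80367 (tt N46470 (iv1 D167767)) (tt N103105 (iv0 F440098)) (tt N76522 (iv2 F353862)) (tt N105722 (iv3 F451412)) (tt N69654 (iv4 F309117)) (tt N75949 (iv5 F264139)) (tt N69653 F353861) (tt N76118 F264137))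
theorem Q80369 : ∀ i, i < 80369 → P i := stepQ 80368 Q80368 (allL N80368 (tt N78557 F303728) (tt N78559 F303729) (tt N111928 D215172) (tt N46471 (iv3 D167768)) (tt N101712 (iv4 F434000)) (tt N47589 F303730) (tt N80081 F334348) (tt N47588 F303731))
theorem Q80370 : ∀ i, i < 80370 → P i := stepQ 80369 Q80369 (allL N80369 (tt N64342 F303732) (tt N78570 F303733) (tt N80525 F303734) (tt N105878 (iv3 F452142)) (tt N46471 (iv4 D167769)) (tt N80525 F303735) (tt N105876 (iv6 F452136)) (tt N47594 F303736))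
theorem Q80371 : ∀ i, i < 80371 → P i := stepQ 80370 Q80370 (allL N80370 (tt N80033 (iv1 F334337)) (tt N96983 F414923) (tt N70073 (iv2 F321672)) (tt N80081 (iv3 F334347)) (tt N105876 (iv4 F452133)) (tt N70071 (iv5 F317500)) (tt N46471 (iv6 D167770)) (tt N96977 (iv7 F414887)))
theorem Q80372 : ∀ i, i < 80372 → P i := stepQ 80371 Q80371 (allL N80371 (tt N46677 F340180) (tt N80043 F340181) (tt N80042 (iv2 F363626)) (tt N46472 (iv3 D167771)) (tt N95379 (iv4 F408049)) (tt N47031 F303740) (tt N75597 F340172) (tt N70082 (iv7 F321670)))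
theorem Q80373 : ∀ i, i < 80373 → P i := stepQ 80372 Q80372 (allL N80372 (tt N78570 F303742) (tt N64342 F303743) (tt N47594 F303744) (tt N91301 (iv3 F392625)) (tt N46472 (iv4 D167772)) (tt N47594 F303745) (tt N96974 (iv6 F414876)) (tt N80525 F303746))
theorem Q80374 : ∀ i, i < 80374 → P i := stepQ 80373 Q80373 (allL N80373 (tt N52845 F303715) (tt N46473 (iv0 D167774)) (tt N65404 (iv2 F322048)) (tt N65405 (iv3 F358447)) (tt N46671 F303717) (tt N65404 (iv5 F322049)) (tt N83567 F334343) (tt N80726 F303719))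
theorem Q80375 : ∀ i, i < 80375 → P i := stepQ 80374 Q80374 (allL N80374 (tt N93620 F401304) (tt N81734 (iv0 F363866)) (tt N80730 (iv2 F363869)) (tt N102108 (iv3 F435765)) (tt N46474 F264148) (tt N81758 F363868) (tt N46473 (iv6 D167778)) (tt N93621 (iv7 F401308)))
theorem Q80376 : ∀ i, i < 80376 → P i := stepQ 80375 Q80375 (allL N80375 (tt N58795 (iv1 F354785)) (tt N46474 (iv0 D167779)) (tt N80731 (iv2 F354783)) (tt N109600 (iv3 F467667)) (tt N97619 (iv4 F417627)) (tt N54339 (iv5 F357891)) (tt N90503 (iv6 F389860)) (tt N80732 F354784))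
theorem Q80377 : ∀ i, i < 80377 → P i := stepQ 80376 Q80376 (allL N80376 (tt N46474 (iv1 D167780)) (tt N58795 F354774) (tt N80732 F354782) (tt N65063 (iv3 F354777)) (tt N97702 (iv4 F417971)) (tt N66495 F354776) (tt N79886 F354787) (tt N80731 (iv7 F354778)))
theorem Q80378 : ∀ i, i < 80378 → P i := stepQ 80377 Q80377 (allL N80377 (tt N54388 F363867) (tt N107103 (iv0 F456985)) (tt N79608 (iv2 F342300)) (tt N103114 (iv3 F440137)) (tt N81824 F363865) (tt N46474 (iv5 D167781)) (tt N46476 F264149) (tt N111929 D215173))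
theorem Q80379 : ∀ i, i < 80379 → P i := stepQ 80378 Q80378 (allL N80378 (tt N80732 (iv1 F354786)) (tt N80731 F354775) (tt N58795 F354773) (tt N97085 (iv3 F415411)) (tt N93621 (iv4 F401306)) (tt N111929 (iv5 F478714)) (tt N58793 (iv6 F357787)) (tt N46474 (iv7 D167782)))
theorem Q80380 : ∀ i, i < 80380 → P i := stepQ 80379 Q80379 (allL N80379 (tt N54991 F339826) (tt N78560 (iv0 F346785)) (tt N111930 D215174) (tt N46475 (iv3 D167783)) (tt N79368 F264150) (tt N54455 (iv5 F339823)) (tt N78630 (iv6 F298789)) (tt N78549 (iv7 F365700)))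
theorem Q80381 : ∀ i, i < 80381 → P i := stepQ 80380 Q80380 (allL N80380 (tt N46774 F300829) (tt N46775 F300830) (tt N47601 (iv2 F301374)) (tt N77192 F264157) (tt N81479 F300831) (tt N46477 F264158) (tt N71341 (iv6 F343450)) (tt N46476 (iv7 D167786)))
theorem Q80382 : ∀ i, i < 80382 → P i := stepQ 80381 Q80381 (allL N80381 (tt N77283 (iv1 F264188)) (tt N46478 (iv0 D167794)) (tt N79492 (iv2 F264187)) (tt N65418 F357867) (tt N77279 F264190) (tt N75337 (iv5 F344689)) (tt N47553 F305633) (tt N79491 F264189))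
theorem Q80383 : ∀ i, i < 80383 → P i := stepQ 80382 Q80382 (allL N80382 (tt N63151 F264233) (tt N100344 (iv0 F428512)) (tt N53365 F346753) (tt N46481 F264231) (tt N53425 (iv4 F352734)) (tt N46479 (iv5 D167806)) (tt N110988 (iv6 F474107)) (tt N61376 F264232))
theorem Q80384 : ∀ i, i < 80384 → P i := stepQ 80383 Q80383 (allL N80383 (tt N66889 F264248) (tt N66888 F264247) (tt N54116 (iv2 F352709)) (tt N54228 F352732) (tt N46481 (iv4 D167809)) (tt N54231 (iv5 F366554)) (tt N54167 F366552) (tt N66849 F264246))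
theorem Q80385 : ∀ i, i < 80385 → P i := stepQ 80384 Q80384 (allL N80384 (tt N63130 F264402) (tt N107097 (iv0 F456956)) (tt N57692 F364034) (tt N63905 (iv3 F301821)) (tt N46485 (iv4 D167836)) (tt N75871 F264401) (tt N57685 (iv6 F310494)) (tt N76076 F264400))
theorem Q80386 : ∀ i, i < 80386 → P i := stepQ 80385 Q80385 (allL N80385 (tt N48229 (iv1 F264409)) (tt N82098 F278516) (tt N103921 (iv2 F443380)) (tt N46486 (iv3 D167837)) (tt N47414 (iv4 F264407)) (tt N73580 (iv5 F319309)) (tt N80148 F264405) (tt N47409 F264406))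
theorem Q80387 : ∀ i, i < 80387 → P i := stepQ 80386 Q80386 (allL N80386 (tt N46495 (iv1 D167879)) (tt N73121 (iv0 F324347)) (tt N67097 (iv2 F318181)) (tt N67098 F338608) (tt N46642 F302811) (tt N67097 (iv5 F318182)) (tt N85792 (iv6 F373961)) (tt N75269 (iv7 F315508)))
theorem Q80388 : ∀ i, i < 80388 → P i := stepQ 80387 Q80387 (allL N80387 (tt N75614 (iv1 F317883)) (tt N48411 F264515) (tt N46633 F301930) (tt N98471 (iv3 F421022)) (tt N46562 F301931) (tt N46495 (iv5 D167881)) (tt N61337 F333385) (tt N46632 F301932))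
theorem Q80389 : ∀ i, i < 80389 → P i := stepQ 80388 Q80388 (allL N80388 (tt N62459 F364872) (tt N75262 (iv0 F361432)) (tt N80480 F364874) (tt N98472 (iv3 F421029)) (tt N46496 F264516) (tt N104881 (iv5 F447782)) (tt N46495 (iv6 D167882)) (tt N73139 F364873))
theorem Q80390 : ∀ i, i < 80390 → P i := stepQ 80389 Q80389 (allL N80389 (tt N48411 F264539) (tt N75614 (iv0 F317882)) (tt N46632 F301933) (tt N98460 (iv3 F420971)) (tt N46499 (iv4 D167897)) (tt N73121 (iv5 F324350)) (tt N73978 (iv6 F364345)) (tt N46633 F301934))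
theorem Q80391 : ∀ i, i < 80391 → P i := stepQ 80390 Q80390 (allL N80390 (tt N46649 F296426) (tt N65092 (iv0 F297503)) (tt N48484 F264551) (tt N81765 F361743) (tt N46500 (iv4 D167904)) (tt N103577 (iv5 F442101)) (tt N58843 (iv6 F323910)) (tt N48488 F264553))
theorem Q80392 : ∀ i, i < 80392 → P i := stepQ 80391 Q80391 (allL N80391 (tt N62409 (iv1 F319676)) (tt N62408 (iv0 F319673)) (tt N46507 F264576) (tt N88946 (iv3 F384580)) (tt N46503 (iv4 D167913)) (tt N88875 (iv5 F384408)) (tt N73255 (iv6 F366453)) (tt N62405 (iv7 F319297)))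
theorem Q80393 : ∀ i, i < 80393 → P i := stepQ 80392 Q80392 (allL N80392 (tt N46510 (iv1 F264589)) (tt N46504 (iv0 D167915)) (tt N46508 (iv2 F264587)) (tt N109469 (iv3 F467126)) (tt N76441 F337033) (tt N56058 F264586) (tt N46514 F305407) (tt N46509 F264588))
theorem Q80394 : ∀ i, i < 80394 → P i := stepQ 80393 Q80393 (allL N80393 (tt N109468 (iv1 F467123)) (tt N62095 (iv0 F319615)) (tt N99592 (iv2 F425316)) (tt N46506 (iv3 D167920)) (tt N76776 F264608) (tt N48500 F264606) (tt N99045 (iv6 F423126)) (tt N62441 (iv7 F319701)))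
theorem Q80395 : ∀ i, i < 80395 → P i := stepQ 80394 Q80394 (allL N80394 (tt N59889 F342372) (tt N95613 (iv0 F408890)) (tt N62440 (iv2 F319694)) (tt N99045 (iv3 F423127)) (tt N108369 (iv4 F462290)) (tt N48505 F264613) (tt N46506 (iv6 D167922)) (tt N72280 (iv7 F348045)))
theorem Q80396 : ∀ i, i < 80396 → P i := stepQ 80395 Q80395 (allL N80395 (tt N62405 (iv1 F319296)) (tt N46507 (iv0 D167923)) (tt N62409 (iv2 F319677)) (tt N102799 (iv3 F438692)) (tt N73869 (iv4 F348329)) (tt N109613 (iv5 F467742)) (tt N72253 F360544) (tt N62408 (iv7 F319675)))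
theorem Q80397 : ∀ i, i < 80397 → P i := stepQ 80396 Q80396 (allL N80396 (tt N46507 (iv1 D167924)) (tt N62405 (iv0 F319295)) (tt N62408 (iv2 F319674)) (tt N91065 (iv3 F391808)) (tt N62494 (iv4 F322185)) (tt N109614 (iv5 F467749)) (tt N88994 (iv6 F384716)) (tt N62409 (iv7 F319679)))
theorem Q80398 : ∀ i, i < 80398 → P i := stepQ 80397 Q80397 (allL N80397 (tt N85416 F372545) (tt N88876 F384412) (tt N88875 F384409) (tt N62420 (iv3 F365570)) (tt N110523 (iv4 F471970)) (tt N46507 (iv5 D167926)) (tt N70192 F365569) (tt N62410 (iv7 F319680)))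
theorem Q80399 : ∀ i, i < 80399 → P i := stepQ 80398 Q80398 (allL N80398 (tt N80041 F354038) (tt N46512 (iv0 D167935)) (tt N69292 (iv2 F341643)) (tt N80744 F348178) (tt N97540 (iv4 F417312)) (tt N69267 F341644) (tt N64067 F341645) (tt N80040 (iv7 F348169)))
theorem Q80400 : ∀ i, i < 80400 → P i := stepQ 80399 Q80399 (allL N80399 (tt N69292 F341880) (tt N80040 F348170) (tt N46512 (iv2 D167937)) (tt N77030 (iv3 F323496)) (tt N97846 (iv4 F418489)) (tt N77029 F354002) (tt N64092 F264645) (tt N80041 F348164))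
theorem Q80401 : ∀ i, i < 80401 → P i := stepQ 80400 Q80400 (allL N80400 (tt N76102 F305403) (tt N76105 F305404) (tt N76104 (iv2 F307444)) (tt N46514 (iv3 D168081)) (tt N66371 (iv4 F331967)) (tt N76023 F305405) (tt N109469 (iv6 F467129)) (tt N76103 F305406))
theorem Q80402 : ∀ i, i < 80402 → P i := stepQ 80401 Q80401 (allL N80401 (tt N65107 F267224) (tt N65109 F267225) (tt N82564 F366790) (tt N75616 F363210) (tt N46522 (iv4 D169805)) (tt N67590 (iv5 F341970)) (tt N75440 F355211) (tt N75351 (iv7 F366789)))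
theorem Q80403 : ∀ i, i < 80403 → P i := stepQ 80402 Q80402 (allL N80402 (tt N46528 F267243) (tt N46524 (iv0 D169814)) (tt N46525 F267244) (tt N54254 (iv3 F267241)) (tt N47377 F267240) (tt N77004 F340755) (tt N78357 (iv6 F359261)) (tt N46526 (iv7 F267242)))
theorem Q80404 : ∀ i, i < 80404 → P i := stepQ 80403 Q80403 (allL N80403 (tt N109348 (iv1 F466507)) (tt N73945 F360582) (tt N46527 F267250) (tt N62464 F340767) (tt N111931 D215175) (tt N46524 (iv5 D169816)) (tt N62462 (iv6 F340763)) (tt N76044 (iv7 F340766)))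
theorem Q80405 : ∀ i, i < 80405 → P i := stepQ 80404 Q80404 (allL N80404 (tt N62586 F340780) (tt N82545 F348294) (tt N77004 (iv2 F340756)) (tt N63336 (iv3 F340776)) (tt N74282 F348295) (tt N46525 (iv5 D169819)) (tt N63335 F340775) (tt N72701 (iv7 F340778)))
theorem Q80406 : ∀ i, i < 80406 → P i := stepQ 80405 Q80405 (allL N80405 (tt N82545 F348293) (tt N62586 (iv0 F340750)) (tt N72701 (iv2 F340781)) (tt N65289 (iv3 F340752)) (tt N74281 (iv4 F363461)) (tt N46526 (iv5 D169822)) (tt N65244 F340751) (tt N77004 (iv7 F340754)))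
theorem Q80407 : ∀ i, i < 80407 → P i := stepQ 80406 Q80406 (allL N80406 (tt N76044 (iv1 F366805)) (tt N46527 (iv0 D169824)) (tt N109348 (iv2 F466511)) (tt N73418 (iv3 F366807)) (tt N108832 (iv4 F464165)) (tt N107571 (iv5 F458789)) (tt N111932 D215176) (tt N73945 F366806))
theorem Q80408 : ∀ i, i < 80408 → P i := stepQ 80407 Q80407 (allL N80407 (tt N92514 (iv1 F427304)) (tt N110592 (iv0 F472279)) (tt N111931 (iv2 F478725)) (tt N89369 (iv3 F386262)) (tt N46527 (iv4 D169826)) (tt N89368 F386261) (tt N73819 (iv6 F340749)) (tt N76049 F363486))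
theorem Q80409 : ∀ i, i < 80409 → P i := stepQ 80408 Q80408 (allL N80408 (tt N108949 F464625) (tt N106972 (iv0 F456484)) (tt N91842 (iv2 F394645)) (tt N46531 (iv3 D169875)) (tt N89369 F386263) (tt N91838 (iv5 F394630)) (tt N110468 (iv6 F471721)) (tt N109353 F466531))
theorem Q80410 : ∀ i, i < 80410 → P i := stepQ 80409 Q80409 (allL N80409 (tt N101008 (iv1 F431244)) (tt N72218 (iv0 F350025)) (tt N87905 (iv2 F381064)) (tt N91838 F394633) (tt N82551 F350059) (tt N46531 (iv5 D169876)) (tt N111933 D215177) (tt N87907 (iv7 F381079)))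
theorem Q80411 : ∀ i, i < 80411 → P i := stepQ 80410 Q80410 (allL N80410 (tt N62196 (iv1 F324147)) (tt N72217 (iv0 F312853)) (tt N48249 F267308) (tt N101159 (iv3 F431991)) (tt N46533 (iv4 D169883)) (tt N101008 (iv5 F431241)) (tt N77483 F366681) (tt N48458 F302291))
theorem Q80412 : ∀ i, i < 80412 → P i := stepQ 80411 Q80411 (allL N80411 (tt N64238 F341733) (tt N51610 F341734) (tt N48252 F341735) (tt N46534 (iv3 D169886)) (tt N72218 (iv4 F341738)) (tt N46534 F341736) (tt N66058 F362998) (tt N79686 (iv7 F354384)))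
theorem Q80413 : ∀ i, i < 80413 → P i := stepQ 80412 Q80412 (allL N80412 (tt N46536 (iv1 D169898)) (tt N60536 F362937) (tt N97289 (iv2 F416233)) (tt N80093 F362941) (tt N60328 (iv4 F362938)) (tt N80092 F362940) (tt N101707 F433977) (tt N60689 F362939))
theorem Q80414 : ∀ i, i < 80414 → P i := stepQ 80413 Q80413 (allL N80413 (tt N60689 F362935) (tt N97289 (iv0 F416238)) (tt N46536 (iv2 D169899)) (tt N67338 (iv3 F392620)) (tt N62635 (iv4 F326906)) (tt N91303 (iv5 F392631)) (tt N46545 F267325) (tt N60536 F362936))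
theorem Q80415 : ∀ i, i < 80415 → P i := stepQ 80414 Q80414 (allL N80414 (tt N60412 (iv1 F356058)) (tt N82529 F345720) (tt N91303 (iv2 F392629)) (tt N46537 F267326) (tt N91307 (iv4 F392647)) (tt N46536 (iv5 D169900)) (tt N60454 (iv6 F360822)) (tt N102090 (iv7 F435675)))
theorem Q80416 : ∀ i, i < 80416 → P i := stepQ 80415 Q80415 (allL N80415 (tt N82530 F330415) (tt N82554 F330416) (tt N82551 F350078) (tt N102090 (iv3 F435672)) (tt N87905 (iv4 F381066)) (tt N46538 F267332) (tt N108957 F464661) (tt N46537 (iv7 D169906)))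
theorem Q80417 : ∀ i, i < 80417 → P i := stepQ 80416 Q80416 (allL N80416 (tt N87827 (iv1 F380703)) (tt N46539 (iv0 D169907)) (tt N67461 (iv2 F362852)) (tt N97779 (iv3 F418277)) (tt N59441 (iv4 F362854)) (tt N82778 F364793) (tt N67423 F362853) (tt N87826 (iv7 F380697)))
theorem Q80418 : ∀ i, i < 80418 → P i := stepQ 80417 Q80417 (allL N80417 (tt N46539 (iv1 D169908)) (tt N87827 F380704) (tt N87826 F380694) (tt N67491 (iv3 F343673)) (tt N59440 (iv4 F365872)) (tt N82779 F395389) (tt N67460 F343674) (tt N67461 F343675))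
theorem Q80419 : ∀ i, i < 80419 → P i := stepQ 80418 Q80418 (allL N80418 (tt N67461 (iv1 F380698)) (tt N87826 F380695) (tt N46539 (iv2 D169909)) (tt N48295 F267333) (tt N78430 F267334) (tt N86920 (iv5 F377705)) (tt N101689 (iv6 F433877)) (tt N87827 (iv7 F380702)))
theorem Q80420 : ∀ i, i < 80420 → P i := stepQ 80419 Q80419 (allL N80419 (tt N86957 (iv1 F377834)) (tt N46540 (iv0 D169910)) (tt N86956 (iv2 F383833)) (tt N65746 F365755) (tt N111934 D215178) (tt N93987 (iv5 F402718)) (tt N102358 (iv6 F436886)) (tt N86955 F383832))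
theorem Q80421 : ∀ i, i < 80421 → P i := stepQ 80420 Q80420 (allL N80420 (tt N46540 (iv1 D169911)) (tt N86957 F377836) (tt N86955 F383829) (tt N91981 (iv3 F395231)) (tt N91985 (iv4 F395256)) (tt N60448 F364823) (tt N60449 (iv6 F364824)) (tt N86956 (iv7 F383831)))
theorem Q80422 : ∀ i, i < 80422 → P i := stepQ 80421 Q80421 (allL N80421 (tt N86956 (iv1 F377835)) (tt N86955 F377830) (tt N46540 (iv2 D169912)) (tt N86954 (iv3 F377818)) (tt N79260 F267335) (tt N102388 (iv5 F437016)) (tt N99711 (iv6 F425860)) (tt N86957 (iv7 F377833)))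
theorem Q80423 : ∀ i, i < 80423 → P i := stepQ 80422 Q80422 (allL N80422 (tt N93073 (iv1 F399368)) (tt N97822 F418423) (tt N102388 (iv2 F437014)) (tt N46541 F267336) (tt N70788 (iv4 F364701)) (tt N46540 (iv5 D169913)) (tt N86575 (iv6 F376526)) (tt N83006 (iv7 F364709)))
theorem Q80424 : ∀ i, i < 80424 → P i := stepQ 80423 Q80423 (allL N80423 (tt N92025 F418137) (tt N67191 (iv0 F364716)) (tt N83000 F367161) (tt N86575 (iv3 F376525)) (tt N52308 F267339) (tt N102050 (iv5 F435510)) (tt N46541 (iv6 D169915)) (tt N102049 F435508))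
theorem Q80425 : ∀ i, i < 80425 → P i := stepQ 80424 Q80424 (allL N80424 (tt N46542 (iv1 D169917)) (tt N86954 F377827) (tt N86952 (iv2 F377825)) (tt N102337 (iv3 F436788)) (tt N59612 F377828) (tt N111935 D215179) (tt N80228 F377826) (tt N86953 F377824))
theorem Q80426 : ∀ i, i < 80426 → P i := stepQ 80425 Q80425 (allL N80425 (tt N86953 (iv1 F377822)) (tt N86952 F377815) (tt N46542 (iv2 D169918)) (tt N86957 (iv3 F377831)) (tt N79198 F267340) (tt N92745 F398056) (tt N65763 (iv6 F365909)) (tt N86954 (iv7 F377820)))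
theorem Q80427 : ∀ i, i < 80427 → P i := stepQ 80426 Q80426 (allL N80426 (tt N111936 D215180) (tt N98767 (iv0 F422228)) (tt N92745 (iv2 F398053)) (tt N46543 F267341) (tt N92727 (iv4 F397996)) (tt N46542 (iv5 D169919)) (tt N92726 F397993) (tt N82999 F367078))
theorem Q80428 : ∀ i, i < 80428 → P i := stepQ 80427 Q80427 (allL N80427 (tt N102215 (iv1 F436228)) (tt N102347 (iv0 F436839)) (tt N83007 F367079) (tt N92726 (iv3 F397991)) (tt N52303 F267344) (tt N65766 (iv5 F366009)) (tt N46543 (iv6 D169921)) (tt N92738 (iv7 F398040)))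
theorem Q80429 : ∀ i, i < 80429 → P i := stepQ 80428 Q80428 (allL N80428 (tt N97635 F417713) (tt N111935 (iv0 F478751)) (tt N111937 D215181) (tt N46548 (iv3 D169936)) (tt N87578 F379800) (tt N52249 F267356) (tt N111938 D215182) (tt N86945 (iv7 F377800)))
theorem Q80430 : ∀ i, i < 80430 → P i := stepQ 80429 Q80429 (allL N80429 (tt N93097 F399486) (tt N93094 (iv0 F399460)) (tt N86951 (iv2 F377810)) (tt N111938 (iv3 F478765)) (tt N48791 (iv4 F295060)) (tt N92777 (iv5 F398177)) (tt N46548 (iv6 D169937)) (tt N93095 (iv7 F399463)))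
theorem Q80431 : ∀ i, i < 80431 → P i := stepQ 80430 Q80430 (allL N80430 (tt N64049 F267388) (tt N64048 F267389) (tt N64051 F267384) (tt N64765 F267385) (tt N46551 (iv4 D169955)) (tt N66836 F267386) (tt N80123 (iv6 F337730)) (tt N64050 F267387))
theorem Q80432 : ∀ i, i < 80432 → P i := stepQ 80431 Q80431 (allL N80431 (tt N75004 F335067) (tt N75003 F335068) (tt N64055 F267390) (tt N78713 (iv3 F349384)) (tt N80123 (iv4 F337729)) (tt N99618 (iv5 F425439)) (tt N46551 (iv6 D169956)) (tt N74999 F335069))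
theorem Q80433 : ∀ i, i < 80433 → P i := stepQ 80432 Q80432 (allL N80432 (tt N75491 (iv1 F340816)) (tt N52607 (iv0 F334470)) (tt N75227 F362750) (tt N62776 (iv3 F310760)) (tt N87751 (iv4 F380365)) (tt N46553 (iv5 D169961)) (tt N62775 (iv6 F310765)) (tt N75326 (iv7 F344001)))
theorem Q80434 : ∀ i, i < 80434 → P i := stepQ 80433 Q80433 (allL N80433 (tt N78316 F342635) (tt N78315 F351934) (tt N66818 F341995) (tt N46555 F267452) (tt N63919 F267453) (tt N67903 (iv5 F351929)) (tt N46554 (iv6 D170010)) (tt N78317 F351928))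
theorem Q80435 : ∀ i, i < 80435 → P i := stepQ 80434 Q80434 (allL N80434 (tt N83168 F344409) (tt N88538 F383462) (tt N88537 (iv2 F383456)) (tt N46558 (iv3 D170021)) (tt N80502 F268092) (tt N70069 (iv5 F334132)) (tt N103061 (iv6 F439905)) (tt N88536 F383450))
theorem Q80436 : ∀ i, i < 80436 → P i := stepQ 80435 Q80435 (allL N80435 (tt N53933 F340972) (tt N48532 F340973) (tt N53930 (iv2 F340966)) (tt N76989 F366854) (tt N46558 (iv4 D170022)) (tt N109760 (iv5 F468489)) (tt N109067 F465194) (tt N53931 F340971))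
theorem Q80437 : ∀ i, i < 80437 → P i := stepQ 80436 Q80436 (allL N80436 (tt N57480 F334135) (tt N57429 (iv0 F334138)) (tt N57481 F340984) (tt N103061 F439907) (tt N109067 (iv4 F465190)) (tt N111257 (iv5 F475479)) (tt N46558 (iv6 D170024)) (tt N57482 F340982))
theorem Q80438 : ∀ i, i < 80438 → P i := stepQ 80437 Q80437 (allL N80437 (tt N48532 F337196) (tt N53933 F337197) (tt N53931 F340970) (tt N64370 F354032) (tt N46559 (iv4 D170027)) (tt N109759 (iv5 F468481)) (tt N99434 (iv6 F424557)) (tt N53930 (iv7 F340968)))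
theorem Q80439 : ∀ i, i < 80439 → P i := stepQ 80438 Q80438 (allL N80438 (tt N66747 F346188) (tt N109300 (iv0 F466274)) (tt N99447 (iv2 F424622)) (tt N46562 (iv3 D170051)) (tt N75595 (iv4 F350980)) (tt N47723 F267499) (tt N66737 F354092) (tt N46631 F267500))
theorem Q80440 : ∀ i, i < 80440 → P i := stepQ 80439 Q80439 (allL N80439 (tt N46650 (iv1 F267528)) (tt N46580 F267527) (tt N46564 (iv2 D170060)) (tt N46639 F267525) (tt N46651 (iv4 F301927)) (tt N64052 (iv5 F334473)) (tt N76902 F334471) (tt N46651 F267526))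
theorem Q80441 : ∀ i, i < 80441 → P i := stepQ 80440 Q80440 (allL N80440 (tt N62455 (iv1 F364496)) (tt N62461 F364497) (tt N46644 F267545) (tt N73774 (iv3 F364495)) (tt N61074 F364498) (tt N87891 (iv5 F380984)) (tt N46565 (iv6 D170066)) (tt N62460 F364494))
theorem Q80442 : ∀ i, i < 80442 → P i := stepQ 80441 Q80441 (allL N80441 (tt N99624 F425463) (tt N104861 (iv0 F447673)) (tt N110045 (iv2 F469705)) (tt N73948 (iv3 F342547)) (tt N81265 (iv4 F274050)) (tt N73945 (iv5 F360581)) (tt N46569 (iv6 D170091)) (tt N107571 (iv7 F458791)))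
theorem Q80443 : ∀ i, i < 80443 → P i := stepQ 80442 Q80442 (allL N80442 (tt N57482 (iv1 F332464)) (tt N57481 (iv0 F332460)) (tt N57480 (iv2 F332461)) (tt N46582 F267743) (tt N76498 (iv4 F332463)) (tt N79919 (iv5 F337874)) (tt N46581 (iv6 D170227)) (tt N57429 F332462))
theorem Q80444 : ∀ i, i < 80444 → P i := stepQ 80443 Q80443 (allL N80443 (tt N111939 D215183) (tt N94841 (iv0 F412413)) (tt N67453 F333033) (tt N46583 (iv3 D170230)) (tt N81226 (iv4 F345576)) (tt N107743 (iv5 F459508)) (tt N67446 F345575) (tt N79540 (iv7 F345580)))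
theorem Q80445 : ∀ i, i < 80445 → P i := stepQ 80444 Q80444 (allL N80444 (tt N60534 (iv1 F343936)) (tt N46584 (iv0 D170243)) (tt N92685 (iv2 F397875)) (tt N65680 (iv3 F346881)) (tt N60537 F343937) (tt N62667 (iv5 F343938)) (tt N87901 (iv6 F397859)) (tt N92678 F397858))
theorem Q80446 : ∀ i, i < 80446 → P i := stepQ 80445 Q80445 (allL N80445 (tt N97043 F415189) (tt N97042 (iv0 F415185)) (tt N67467 (iv2 F343933)) (tt N46585 F267763) (tt N62671 F332911) (tt N46584 (iv5 D170246)) (tt N67465 (iv6 F362769)) (tt N97041 (iv7 F415177)))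
theorem Q80447 : ∀ i, i < 80447 → P i := stepQ 80446 Q80446 (allL N80446 (tt N67409 (iv1 F347507)) (tt N67406 (iv0 F339683)) (tt N67216 (iv2 F339666)) (tt N67465 F362770) (tt N79883 (iv4 F339655)) (tt N69775 (iv5 F329121)) (tt N46585 (iv6 D170251)) (tt N67470 F339665))
theorem Q80448 : ∀ i, i < 80448 → P i := stepQ 80447 Q80447 (allL N80447 (tt N79548 F341706) (tt N87919 F381124) (tt N87920 (iv2 F381125)) (tt N97041 F415179) (tt N67015 F341701) (tt N46586 F267766) (tt N79542 F417118) (tt N46585 (iv7 D170252)))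
theorem Q80449 : ∀ i, i < 80449 → P i := stepQ 80448 Q80448 (allL N80448 (tt N88537 (iv1 F383452)) (tt N88536 (iv0 F383451)) (tt N88538 (iv2 F383458)) (tt N46591 F267771) (tt N76924 F267772) (tt N109302 (iv5 F466283)) (tt N46589 (iv6 D170259)) (tt N83168 F366572))
theorem Q80450 : ∀ i, i < 80450 → P i := stepQ 80449 Q80449 (allL N80449 (tt N58788 F337178) (tt N58893 (iv0 F344920)) (tt N87923 (iv2 F381144)) (tt N78479 F267773) (tt N46591 F267774) (tt N95753 (iv5 F409467)) (tt N46590 (iv6 D170260)) (tt N80741 (iv7 F351705)))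
theorem Q80451 : ∀ i, i < 80451 → P i := stepQ 80450 Q80450 (allL N80450 (tt N66642 F338165) (tt N74786 F338167) (tt N46596 F267775) (tt N55805 F267776) (tt N79117 F267777) (tt N101012 (iv5 F431266)) (tt N46592 (iv6 D170265)) (tt N74785 (iv7 F359380)))
theorem Q80452 : ∀ i, i < 80452 → P i := stepQ 80451 Q80451 (allL N80451 (tt N81700 (iv1 F348685)) (tt N55189 (iv0 F348684)) (tt N81679 (iv2 F276449)) (tt N63391 F267779) (tt N76267 F267780) (tt N72738 F364631) (tt N46594 (iv6 D170267)) (tt N74809 (iv7 F333629)))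
theorem Q80453 : ∀ i, i < 80453 → P i := stepQ 80452 Q80452 (allL N80452 (tt N46596 (iv1 D170270)) (tt N74785 F359382) (tt N74786 (iv2 F359383)) (tt N101302 (iv3 F432585)) (tt N95922 (iv4 F410274)) (tt N111940 D215184) (tt N95921 F410272) (tt N66642 F359376))
theorem Q80454 : ∀ i, i < 80454 → P i := stepQ 80453 Q80453 (allL N80453 (tt N52964 F359374) (tt N82957 F359378) (tt N101012 (iv2 F431262)) (tt N46600 F267784) (tt N89158 (iv4 F385387)) (tt N46596 (iv5 D170271)) (tt N46599 F267785) (tt N89156 (iv7 F385379)))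
theorem Q80455 : ∀ i, i < 80455 → P i := stepQ 80454 Q80454 (allL N80454 (tt N57485 (iv1 F309211)) (tt N47337 (iv0 F267789)) (tt N76039 (iv2 F359874)) (tt N46597 (iv3 D170274)) (tt N63555 F267788) (tt N68561 (iv5 F333669)) (tt N74315 F333691) (tt N76040 F359878))
theorem Q80456 : ∀ i, i < 80456 → P i := stepQ 80455 Q80455 (allL N80455 (tt N107275 F457755) (tt N104237 (iv0 F444867)) (tt N107899 (iv2 F460183)) (tt N74315 (iv3 F364616)) (tt N69305 F364617) (tt N110591 (iv5 F472268)) (tt N46597 (iv6 D170277)) (tt N104257 (iv7 F444975)))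
theorem Q80457 : ∀ i, i < 80457 → P i := stepQ 80456 Q80456 (allL N80456 (tt N66818 (iv1 F351943)) (tt N78317 (iv0 F351942)) (tt N78315 F359872) (tt N46598 (iv3 D170279)) (tt N70536 (iv4 F359867)) (tt N78725 F351940) (tt N83170 F351938) (tt N78316 F359869))
theorem Q80458 : ∀ i, i < 80458 → P i := stepQ 80457 Q80457 (allL N80457 (tt N75823 F351935) (tt N75791 F351937) (tt N80344 (iv2 F351474)) (tt N83170 (iv3 F351936)) (tt N104264 (iv4 F445016)) (tt N99240 F423823) (tt N46598 (iv6 D170282)) (tt N80345 (iv7 F359903)))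
theorem Q80459 : ∀ i, i < 80459 → P i := stepQ 80458 Q80458 (allL N80458 (tt N55178 F360667) (tt N56115 F360671) (tt N56138 (iv2 F360673)) (tt N46604 (iv3 D170341)) (tt N56130 (iv4 F360668)) (tt N69664 (iv5 F360669)) (tt N56052 (iv6 F360670)) (tt N56137 F360672))
theorem Q80460 : ∀ i, i < 80460 → P i := stepQ 80459 Q80459 (allL N80459 (tt N66684 (iv1 F337288)) (tt N66683 F348018) (tt N46608 F267844) (tt N63388 F267845) (tt N62942 (iv4 F337285)) (tt N102877 (iv5 F439063)) (tt N46606 (iv6 D170357)) (tt N62940 F337287))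
theorem Q80461 : ∀ i, i < 80461 → P i := stepQ 80460 Q80460 (allL N80460 (tt N62929 F337300) (tt N62928 (iv0 F346011)) (tt N62942 (iv2 F337283)) (tt N49648 (iv3 F307586)) (tt N46608 F267847) (tt N108293 (iv5 F461925)) (tt N46607 (iv6 D170358)) (tt N62897 F337301))
theorem Q80462 : ∀ i, i < 80462 → P i := stepQ 80461 Q80461 (allL N80461 (tt N46608 (iv1 D170360)) (tt N62940 F337289) (tt N66683 (iv2 F348008)) (tt N74489 F337291) (tt N99854 (iv4 F426553)) (tt N110855 (iv5 F473451)) (tt N111941 D215185) (tt N66684 (iv7 F348016)))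
theorem Q80463 : ∀ i, i < 80463 → P i := stepQ 80462 Q80462 (allL N80462 (tt N46618 F341003) (tt N66730 F341004) (tt N62607 (iv2 F341010)) (tt N56057 F341005) (tt N51983 (iv4 F341007)) (tt N56128 F341006) (tt N46609 (iv6 D170367)) (tt N88196 (iv7 F382128)))
theorem Q80464 : ∀ i, i < 80464 → P i := stepQ 80463 Q80463 (allL N80463 (tt N73568 (iv1 F362632)) (tt N77508 (iv0 F344475)) (tt N62388 (iv2 F362627)) (tt N96086 F410979) (tt N46610 (iv4 D170375)) (tt N108666 (iv5 F463449)) (tt N47698 F267854) (tt N62386 (iv7 F362629)))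
theorem Q80465 : ∀ i, i < 80465 → P i := stepQ 80464 Q80464 (allL N80464 (tt N70076 F355307) (tt N46611 (iv0 D170400)) (tt N88194 F382119) (tt N82332 F334465) (tt N69957 (iv4 F347359)) (tt N109490 (iv5 F467240)) (tt N82328 (iv6 F334466)) (tt N87701 (iv7 F380184)))
theorem Q80466 : ∀ i, i < 80466 → P i := stepQ 80465 Q80465 (allL N80465 (tt N88194 (iv1 F382116)) (tt N87701 (iv0 F380185)) (tt N46611 (iv2 D170402)) (tt N73375 F352580) (tt N70044 F352581) (tt N73370 F352582) (tt N99438 (iv6 F424580)) (tt N70076 (iv7 F352578)))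
theorem Q80467 : ∀ i, i < 80467 → P i := stepQ 80466 Q80466 (allL N80466 (tt N70101 F335851) (tt N69974 F335852) (tt N73370 (iv2 F352583)) (tt N46613 F267877) (tt N47030 F335853) (tt N46611 (iv5 D170404)) (tt N73368 F335854) (tt N47563 F335855))
theorem Q80468 : ∀ i, i < 80468 → P i := stepQ 80467 Q80467 (allL N80467 (tt N62705 F364334) (tt N110792 (iv0 F473202)) (tt N99438 (iv2 F424578)) (tt N46614 F267878) (tt N62966 F352620) (tt N91543 (iv5 F393578)) (tt N46611 (iv6 D170405)) (tt N66728 F364213))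
theorem Q80469 : ∀ i, i < 80469 → P i := stepQ 80468 Q80468 (allL N80468 (tt N87792 (iv1 F380521)) (tt N51646 (iv0 F366649)) (tt N87790 F380512) (tt N46612 (iv3 D170409)) (tt N70056 (iv4 F355350)) (tt N111942 D215186) (tt N96870 (iv6 F414362)) (tt N87744 (iv7 F380330)))
theorem Q80470 : ∀ i, i < 80470 → P i := stepQ 80469 Q80469 (allL N80469 (tt N87211 (iv1 F378775)) (tt N88376 (iv0 F382798)) (tt N87743 (iv2 F380318)) (tt N111942 (iv3 F478790)) (tt N98764 (iv4 F422211)) (tt N46612 (iv5 D170410)) (tt N111943 D215187) (tt N87745 (iv7 F380334)))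
theorem Q80471 : ∀ i, i < 80471 → P i := stepQ 80470 Q80470 (allL N80470 (tt N51656 F346814) (tt N78188 F366429) (tt N66731 F350622) (tt N96870 F414361) (tt N46614 F267881) (tt N87199 (iv5 F378733)) (tt N46612 (iv6 D170411)) (tt N66729 F364214))
theorem Q80472 : ∀ i, i < 80472 → P i := stepQ 80471 Q80471 (allL N80471 (tt N65087 F338079) (tt N109383 (iv0 F466686)) (tt N111257 (iv2 F475476)) (tt N46618 F267892) (tt N98268 (iv4 F420254)) (tt N57481 F338078) (tt N46615 (iv6 D170427)) (tt N104259 (iv7 F444991)))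
theorem Q80473 : ∀ i, i < 80473 → P i := stepQ 80472 Q80472 (allL N80472 (tt N88376 (iv1 F382799)) (tt N87211 (iv0 F378774)) (tt N87745 (iv2 F380333)) (tt N111232 (iv3 F475344)) (tt N98766 (iv4 F422221)) (tt N46616 (iv5 D170428)) (tt N88350 (iv6 F382691)) (tt N87743 (iv7 F380319)))
theorem Q80474 : ∀ i, i < 80474 → P i := stepQ 80473 Q80473 (allL N80473 (tt N87751 (iv1 F380369)) (tt N51722 (iv0 F378287)) (tt N87746 (iv2 F380335)) (tt N98123 F419560) (tt N46618 F267893) (tt N87278 (iv5 F378958)) (tt N46616 (iv6 D170429)) (tt N87750 (iv7 F380359)))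
theorem Q80475 : ∀ i, i < 80475 → P i := stepQ 80474 Q80474 (allL N80474 (tt N66730 (iv1 F341021)) (tt N46618 (iv0 D170432)) (tt N88196 F382126) (tt N62608 F341019) (tt N87893 (iv4 F380996)) (tt N81699 F276548) (tt N66727 F341020) (tt N62607 (iv7 F341018)))
theorem Q80476 : ∀ i, i < 80476 → P i := stepQ 80475 Q80475 (allL N80475 (tt N93205 F399966) (tt N93201 (iv0 F399949)) (tt N88199 (iv2 F382139)) (tt N61724 (iv3 F349015)) (tt N88257 (iv4 F382383)) (tt N46620 (iv5 D170448)) (tt N92732 (iv6 F398013)) (tt N88256 F382379))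
theorem Q80477 : ∀ i, i < 80477 → P i := stepQ 80476 Q80476 (allL N80476 (tt N58893 F344916) (tt N58788 (iv0 F337180)) (tt N80741 (iv2 F351704)) (tt N79758 F341632) (tt N46622 (iv4 D170452)) (tt N79756 (iv5 F363258)) (tt N63223 F341655) (tt N87923 (iv7 F381147)))
theorem Q80478 : ∀ i, i < 80478 → P i := stepQ 80477 Q80477 (allL N80477 (tt N46624 (iv1 D170463)) (tt N77668 (iv0 F354090)) (tt N102699 (iv2 F438245)) (tt N107628 (iv3 F458998)) (tt N71352 F344131) (tt N81716 F344130) (tt N107628 (iv6 F458999)) (tt N104219 (iv7 F444765)))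
theorem Q80479 : ∀ i, i < 80479 → P i := stepQ 80478 Q80478 (allL N80478 (tt N92539 F403562) (tt N96296 (iv0 F411912)) (tt N73388 (iv2 F360156)) (tt N46627 F267906) (tt N82239 (iv4 F353468)) (tt N110291 (iv5 F470878)) (tt N46624 (iv6 D170465)) (tt N73583 (iv7 F353471)))
theorem Q80480 : ∀ i, i < 80480 → P i := stepQ 80479 Q80479 (allL N80479 (tt N81677 F344909) (tt N111944 D215188) (tt N99944 (iv2 F426900)) (tt N46628 F267907) (tt N99948 (iv4 F426918)) (tt N46625 (iv5 D170468)) (tt N110291 (iv6 F470879)) (tt N65106 (iv7 F267908)))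
theorem Q80481 : ∀ i, i < 80481 → P i := stepQ 80480 Q80480 (allL N80480 (tt N99554 F425134) (tt N61435 (iv0 F355438)) (tt N80388 (iv2 F364874)) (tt N61481 F366620) (tt N46627 F267926) (tt N91227 (iv5 F392349)) (tt N46626 (iv6 D170478)) (tt N73588 F364875))
theorem Q80482 : ∀ i, i < 80482 → P i := stepQ 80481 Q80481 (allL N80481 (tt N94104 (iv1 F403224)) (tt N80147 (iv0 F355138)) (tt N65110 F267927) (tt N110291 (iv3 F470877)) (tt N78712 (iv4 F350201)) (tt N46627 (iv5 D170481)) (tt N46628 F267928) (tt N73590 (iv7 F350200)))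
theorem Q80483 : ∀ i, i < 80483 → P i := stepQ 80482 Q80482 (allL N80482 (tt N82564 F354308) (tt N75351 F341975) (tt N65109 F267929) (tt N104739 (iv3 F447058)) (tt N46628 (iv4 D170483)) (tt N67844 (iv5 F341958)) (tt N78712 F355157) (tt N65107 F267930))
theorem Q80484 : ∀ i, i < 80484 → P i := stepQ 80483 Q80483 (allL N80483 (tt N51302 F364024) (tt N55804 (iv0 F337889)) (tt N61475 (iv2 F352408)) (tt N46630 (iv3 D170508)) (tt N61049 (iv4 F347667)) (tt N80484 (iv5 F267965)) (tt N73591 (iv6 F361682)) (tt N61482 (iv7 F352421)))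
theorem Q80485 : ∀ i, i < 80485 → P i := stepQ 80484 Q80484 (allL N80484 (tt N109423 (iv1 F466890)) (tt N47537 F364022) (tt N98464 (iv2 F420986)) (tt N46632 (iv3 D170522)) (tt N75481 (iv4 F332127)) (tt N80483 F267965) (tt N109550 (iv6 F467470)) (tt N98471 (iv7 F421023)))
theorem Q80486 : ∀ i, i < 80486 → P i := stepQ 80485 Q80485 (allL N80485 (tt N109038 F465044) (tt N46635 (iv0 D170543)) (tt N98107 (iv2 F419476)) (tt N94106 (iv3 F403232)) (tt N65087 F354306) (tt N92809 (iv5 F398321)) (tt N91308 (iv6 F392648)) (tt N109366 (iv7 F466601)))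
theorem Q80487 : ∀ i, i < 80487 → P i := stepQ 80486 Q80486 (allL N80486 (tt N98107 (iv1 F419479)) (tt N109366 F466604) (tt N46635 (iv2 D170545)) (tt N100787 (iv3 F430471)) (tt N76492 F366624) (tt N111945 D215189) (tt N81459 F361071) (tt N109038 (iv7 F465042)))
theorem Q80488 : ∀ i, i < 80488 → P i := stepQ 80487 Q80487 (allL N80487 (tt N74475 F363495) (tt N74948 (iv0 F349013)) (tt N111945 (iv2 F478801)) (tt N46636 F267973) (tt N111946 D215190) (tt N46635 (iv5 D170546)) (tt N109045 (iv6 F465084)) (tt N79077 (iv7 F360946)))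
theorem Q80489 : ∀ i, i < 80489 → P i := stepQ 80488 Q80488 (allL N80488 (tt N98210 (iv1 F420008)) (tt N73160 (iv0 F366153)) (tt N75667 (iv2 F314923)) (tt N109045 (iv3 F465082)) (tt N54130 (iv4 F299888)) (tt N92732 (iv5 F398011)) (tt N46636 (iv6 D170548)) (tt N92767 (iv7 F398138)))
theorem Q80490 : ∀ i, i < 80490 → P i := stepQ 80489 Q80489 (allL N80489 (tt N75244 (iv1 F334998)) (tt N79106 F335000) (tt N46640 F267996) (tt N64052 (iv3 F364491)) (tt N87173 (iv4 F378619)) (tt N46639 (iv5 D170568)) (tt N73816 F364504) (tt N73777 F334997))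
theorem Q80491 : ∀ i, i < 80491 → P i := stepQ 80490 Q80490 (allL N80490 (tt N76481 (iv1 F337068)) (tt N68531 (iv0 F335001)) (tt N46641 F267997) (tt N76902 (iv3 F334472)) (tt N104230 (iv4 F444818)) (tt N81310 F335002) (tt N46639 (iv6 D170569)) (tt N76480 F355320))
theorem Q80492 : ∀ i, i < 80492 → P i := stepQ 80491 Q80491 (allL N80491 (tt N46640 (iv1 D170571)) (tt N73777 (iv0 F337084)) (tt N79106 F337080) (tt N76468 F337081) (tt N75947 (iv4 F362066)) (tt N76451 (iv5 F337079)) (tt N79106 F337082) (tt N75244 F337083))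
theorem Q80493 : ∀ i, i < 80493 → P i := stepQ 80492 Q80492 (allL N80492 (tt N73806 (iv1 F346242)) (tt N73817 (iv0 F346241)) (tt N73816 F364502) (tt N46644 F267998) (tt N109535 (iv4 F467415)) (tt N88227 (iv5 F382266)) (tt N46640 (iv6 D170573)) (tt N73814 (iv7 F334992)))
theorem Q80494 : ∀ i, i < 80494 → P i := stepQ 80493 Q80493 (allL N80493 (tt N76480 F337039) (tt N46641 (iv0 D170574)) (tt N76481 (iv2 F337035)) (tt N76441 F337034) (tt N68534 F337067) (tt N74427 (iv5 F337036)) (tt N75827 (iv6 F337037)) (tt N68531 (iv7 F337038)))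
theorem Q80495 : ∀ i, i < 80495 → P i := stepQ 80494 Q80494 (allL N80494 (tt N61423 (iv1 F344378)) (tt N81312 (iv0 F344379)) (tt N81310 (iv2 F359667)) (tt N46645 F267999) (tt N54859 F344374) (tt N46641 (iv5 D170576)) (tt N88227 (iv6 F382267)) (tt N81309 (iv7 F344376)))
theorem Q80496 : ∀ i, i < 80496 → P i := stepQ 80495 Q80495 (allL N80495 (tt N64041 F340117) (tt N62508 (iv0 F361076)) (tt N56152 (iv2 F340121)) (tt N46642 (iv3 D170581)) (tt N81503 (iv4 F340118)) (tt N48483 F302807) (tt N64044 (iv6 F340119)) (tt N62886 F340120))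
theorem Q80497 : ∀ i, i < 80497 → P i := stepQ 80496 Q80496 (allL N80496 (tt N87584 (iv1 F379810)) (tt N56309 (iv0 F356823)) (tt N61074 (iv2 F364499)) (tt N61077 F364500) (tt N46644 F268014) (tt N98153 (iv5 F419738)) (tt N46643 (iv6 D170585)) (tt N73595 (iv7 F364493)))
theorem Q80498 : ∀ i, i < 80498 → P i := stepQ 80497 Q80497 (allL N80497 (tt N65091 F268021) (tt N65115 F268022) (tt N65112 F268020) (tt N54864 (iv3 F344375)) (tt N46645 (iv4 D170592)) (tt N70480 F337898) (tt N94099 (iv6 F403198)) (tt N65111 F268028))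
theorem Q80499 : ∀ i, i < 80499 → P i := stepQ 80498 Q80498 (allL N80498 (tt N73934 (iv1 F346232)) (tt N63032 (iv0 F346217)) (tt N104221 (iv2 F444774)) (tt N46647 F268035) (tt N79934 F346186) (tt N46646 (iv5 D170600)) (tt N73932 (iv6 F346239)) (tt N73742 (iv7 F321824)))
theorem Q80500 : ∀ i, i < 80500 → P i := stepQ 80499 Q80499 (allL N80499 (tt N97489 (iv1 F417066)) (tt N81533 (iv0 F361382)) (tt N91876 (iv2 F394792)) (tt N46654 (iv3 D170641)) (tt N65122 F299401) (tt N80738 F361715) (tt N67280 (iv6 F361369)) (tt N82342 (iv7 F280404)))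
theorem Q80501 : ∀ i, i < 80501 → P i := stepQ 80500 Q80500 (allL N80500 (tt N86933 (iv1 F377757)) (tt N86935 (iv0 F377767)) (tt N81738 (iv2 F276733)) (tt N80738 (iv3 F361716)) (tt N101129 (iv4 F431828)) (tt N46654 (iv5 D170642)) (tt N97587 F417482) (tt N82343 (iv7 F280405)))
theorem Q80502 : ∀ i, i < 80502 → P i := stepQ 80501 Q80501 (allL N80501 (tt N64369 (iv1 F268091)) (tt N46655 (iv0 D170643)) (tt N64371 F354034) (tt N53930 (iv3 F340969)) (tt N105026 (iv4 F448446)) (tt N105335 (iv5 F449756)) (tt N100614 F429711) (tt N64370 (iv7 F354033)))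
theorem Q80503 : ∀ i, i < 80503 → P i := stepQ 80502 Q80502 (allL N80502 (tt N46655 (iv1 D170644)) (tt N64369 (iv0 F268093)) (tt N64370 (iv2 F354035)) (tt N76990 (iv3 F366853)) (tt N80434 (iv4 F268092)) (tt N111947 D215191) (tt N68280 F431273) (tt N64371 F354036))
theorem Q80504 : ∀ i, i < 80504 → P i := stepQ 80503 Q80503 (allL N80503 (tt N101185 F432098) (tt N104204 (iv0 F444679)) (tt N109398 (iv2 F466758)) (tt N46656 F268097) (tt N104736 (iv4 F447042)) (tt N46655 (iv5 D170646)) (tt N88441 (iv6 F383065)) (tt N64372 F268098))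
theorem Q80505 : ∀ i, i < 80505 → P i := stepQ 80504 Q80504 (allL N80504 (tt N64327 (iv1 F302100)) (tt N64329 (iv0 F302101)) (tt N52806 F299272) (tt N105200 (iv3 F449182)) (tt N46656 (iv4 D170647)) (tt N63932 F268100) (tt N88443 (iv6 F383071)) (tt N64373 F268099))
theorem Q80506 : ∀ i, i < 80506 → P i := stepQ 80505 Q80505 (allL N80505 (tt N105335 (iv1 F449758)) (tt N111947 (iv0 F478820)) (tt N68397 (iv2 F352112)) (tt N46657 (iv3 D170649)) (tt N71926 F334126) (tt N63447 (iv5 F311986)) (tt N105818 (iv6 F451867)) (tt N100886 (iv7 F430856)))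
theorem Q80507 : ∀ i, i < 80507 → P i := stepQ 80506 Q80506 (allL N80506 (tt N64322 (iv1 F302109)) (tt N64324 (iv0 F302125)) (tt N64844 F268104) (tt N105194 F449166) (tt N46657 (iv4 D170650)) (tt N64844 F268105) (tt N111948 D215192) (tt N100887 (iv7 F430859)))
theorem Q80508 : ∀ i, i < 80508 → P i := stepQ 80507 Q80507 (allL N80507 (tt N111949 D215193) (tt N110030 (iv0 F469638)) (tt N64842 F268108) (tt N105818 F451870) (tt N111948 (iv4 F478823)) (tt N64502 F268109) (tt N46657 (iv6 D170651)) (tt N111950 D215194))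
theorem Q80509 : ∀ i, i < 80509 → P i := stepQ 80508 Q80508 (allL N80508 (tt N100072 (iv1 F427440)) (tt N84160 (iv0 F368396)) (tt N111951 D215195) (tt N46658 (iv3 D170652)) (tt N107393 (iv4 F458195)) (tt N54341 (iv5 F355382)) (tt N111952 D215196) (tt N64837 F268111))
theorem Q80510 : ∀ i, i < 80510 → P i := stepQ 80509 Q80509 (allL N80509 (tt N64324 (iv1 F302126)) (tt N64322 (iv0 F302108)) (tt N100887 (iv2 F430857)) (tt N107394 (iv3 F458198)) (tt N46658 (iv4 D170653)) (tt N100887 (iv5 F430858)) (tt N111953 D215197) (tt N64844 F268112))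
theorem Q80511 : ∀ i, i < 80511 → P i := stepQ 80510 Q80510 (allL N80510 (tt N101281 F432512) (tt N111954 D215198) (tt N100626 (iv2 F429755)) (tt N111952 (iv3 F478840)) (tt N111953 (iv4 F478841)) (tt N80530 (iv5 F366927)) (tt N46658 (iv6 D170654)) (tt N111955 D215199))
theorem Q80512 : ∀ i, i < 80512 → P i := stepQ 80511 Q80511 (allL N80511 (tt N82294 (iv1 F366875)) (tt N46659 (iv0 D170655)) (tt N64922 (iv2 F268117)) (tt N111956 D215200) (tt N64516 F268116) (tt N64922 F268115) (tt N111957 D215201) (tt N82251 (iv7 F366874)))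
theorem Q80513 : ∀ i, i < 80513 → P i := stepQ 80512 Q80512 (allL N80512 (tt N111957 F478857) (tt N111958 D215202) (tt N111959 D215203) (tt N46659 (iv3 D170657)) (tt N110030 (iv4 F469635)) (tt N111960 D215204) (tt N111961 D215205) (tt N100888 (iv7 F430864)))
theorem Q80514 : ∀ i, i < 80514 → P i := stepQ 80513 Q80513 (allL N80513 (tt N63914 F268123) (tt N64299 (iv0 F302008)) (tt N64331 (iv2 F304426)) (tt N111960 (iv3 F478863)) (tt N63931 F268122) (tt N46659 (iv5 D170658)) (tt N107387 (iv6 F458174)) (tt N64332 (iv7 F304431)))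
theorem Q80515 : ∀ i, i < 80515 → P i := stepQ 80514 Q80514 (allL N80514 (tt N111962 D215206) (tt N100940 F431038) (tt N100900 (iv2 F430886)) (tt N111961 (iv3 F478865)) (tt N46660 F268125) (tt N108033 (iv5 F460818)) (tt N46659 (iv6 D170659)) (tt N111963 D215207))
theorem Q80516 : ∀ i, i < 80516 → P i := stepQ 80515 Q80515 (allL N80515 (tt N100901 (iv1 F430891)) (tt N46660 (iv0 D170660)) (tt N69870 F363073) (tt N111964 D215208) (tt N111965 D215209) (tt N67805 (iv5 F342835)) (tt N73309 F342833) (tt N69869 F363074))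
theorem Q80517 : ∀ i, i < 80517 → P i := stepQ 80516 Q80516 (allL N80516 (tt N46660 (iv1 D170661)) (tt N100901 F430890) (tt N69869 (iv2 F363085)) (tt N49833 (iv3 F365798)) (tt N111966 D215210) (tt N69742 (iv5 F363086)) (tt N84327 F368919) (tt N69870 F363084))
theorem Q80518 : ∀ i, i < 80518 → P i := stepQ 80517 Q80517 (allL N80517 (tt N69869 (iv1 F363076)) (tt N69870 (iv0 F363083)) (tt N100901 (iv2 F430888)) (tt N84332 (iv3 F368931)) (tt N111963 (iv4 F478872)) (tt N68223 F363078) (tt N84331 F368929) (tt N46660 (iv7 D170663)))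
theorem Q80519 : ∀ i, i < 80519 → P i := stepQ 80518 Q80518 (allL N80518 (tt N68281 (iv1 F358462)) (tt N68280 F358466) (tt N68283 (iv2 F358460)) (tt N46661 (iv3 D170664)) (tt N63452 (iv4 F358461)) (tt N100820 (iv5 F430625)) (tt N76744 (iv6 F311978)) (tt N63449 F358459))
theorem Q80520 : ∀ i, i < 80520 → P i := stepQ 80519 Q80519 (allL N80519 (tt N64648 (iv1 F361927)) (tt N68396 F364586) (tt N68398 F334131) (tt N46665 (iv3 D170667)) (tt N48483 F302804) (tt N100886 (iv5 F430855)) (tt N48482 F302805) (tt N63447 (iv7 F311987)))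
theorem Q80521 : ∀ i, i < 80521 → P i := stepQ 80520 Q80520 (allL N80520 (tt N64299 (iv1 F302009)) (tt N63914 F268155) (tt N64332 (iv2 F304430)) (tt N111967 D215211) (tt N46667 (iv4 D170671)) (tt N82294 F366876) (tt N111968 D215212) (tt N64331 (iv7 F304428)))
theorem Q80522 : ∀ i, i < 80522 → P i := stepQ 80521 Q80521 (allL N80521 (tt N111969 D215213) (tt N111970 D215214) (tt N82304 F366925) (tt N82654 (iv3 F366817)) (tt N111968 (iv4 F478898)) (tt N65033 (iv5 F366924)) (tt N46667 (iv6 D170672)) (tt N107390 (iv7 F458190)))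
theorem Q80523 : ∀ i, i < 80523 → P i := stepQ 80522 Q80522 (allL N80522 (tt N100960 F431101) (tt N100840 F444463) (tt N72058 F356298) (tt N46668 (iv3 D170675)) (tt N80350 F268169) (tt N71961 (iv5 F356283)) (tt N71962 (iv6 F339040)) (tt N100639 (iv7 F429795)))
theorem Q80524 : ∀ i, i < 80524 → P i := stepQ 80523 Q80523 (allL N80523 (tt N65169 (iv1 F268177)) (tt N77280 (iv0 F268178)) (tt N77279 (iv2 F268176)) (tt N46669 (iv3 D170677)) (tt N79492 F268175) (tt N62524 (iv5 F322142)) (tt N65224 F268173) (tt N65213 F268174))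
theorem Q80525 : ∀ i, i < 80525 → P i := stepQ 80524 Q80524 (allL N80524 (tt N65186 F268182) (tt N65254 F268183) (tt N48718 F308821) (tt N111971 D215215) (tt N46669 (iv4 D170678)) (tt N110069 (iv5 F469829)) (tt N48554 F308822) (tt N65215 F268181))
theorem Q80526 : ∀ i, i < 80526 → P i := stepQ 80525 Q80525 (allL N80525 (tt N46869 (iv1 F268190)) (tt N46672 (iv0 D170681)) (tt N80369 (iv2 F303734)) (tt N86984 (iv3 F377941)) (tt N46847 F268189) (tt N80369 (iv5 F303735)) (tt N105337 (iv6 F449765)) (tt N80372 (iv7 F303746)))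
theorem Q80527 : ∀ i, i < 80527 → P i := stepQ 80526 Q80526 (allL N80526 (tt N111972 D215216) (tt N67277 (iv0 F345762)) (tt N111096 (iv2 F474642)) (tt N78742 F355916) (tt N46673 F268191) (tt N78741 (iv5 F339176)) (tt N46672 (iv6 D170683)) (tt N97534 (iv7 F417290)))
theorem Q80528 : ∀ i, i < 80528 → P i := stepQ 80527 Q80527 (allL N80527 (tt N80043 (iv1 F305505)) (tt N46677 (iv0 D170691)) (tt N70082 F340136) (tt N111928 (iv3 F478704)) (tt N87729 F380273) (tt N70066 F340137) (tt N50708 (iv6 F340140)) (tt N80042 (iv7 F340179)))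
theorem Q80529 : ∀ i, i < 80529 → P i := stepQ 80528 Q80528 (allL N80528 (tt N106234 (iv1 F453698)) (tt N90444 F389666) (tt N84049 (iv2 F367919)) (tt N46682 F268233) (tt N99000 (iv4 F422996)) (tt N46681 (iv5 D170714)) (tt N111973 D215217) (tt N47495 F268234))
theorem Q80530 : ∀ i, i < 80530 → P i := stepQ 80529 Q80529 (allL N80529 (tt N65363 F268237) (tt N65361 F268238) (tt N63977 (iv2 F302883)) (tt N106277 (iv3 F453854)) (tt N46682 (iv4 D170716)) (tt N64501 (iv5 F302066)) (tt N111974 D215218) (tt N63979 (iv7 F304336)))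
theorem Q80531 : ∀ i, i < 80531 → P i := stepQ 80530 Q80530 (allL N80530 (tt N110208 F470444) (tt N110211 F470452) (tt N63978 (iv2 F302884)) (tt N111973 (iv3 F478921)) (tt N111974 (iv4 F478926)) (tt N80510 F366927) (tt N46682 (iv6 D170717)) (tt N105485 (iv7 F450436)))
theorem Q80532 : ∀ i, i < 80532 → P i := stepQ 80531 Q80531 (allL N80531 (tt N84842 F377005) (tt N85312 F377006) (tt N85166 (iv2 F371783)) (tt N46683 (iv3 D170725)) (tt N84807 (iv4 F376937)) (tt N59640 F364225) (tt N88451 (iv6 F383099)) (tt N85164 (iv7 F371776)))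
theorem Q80533 : ∀ i, i < 80533 → P i := stepQ 80532 Q80532 (allL N80532 (tt N47053 F340239) (tt N80945 F340240) (tt N90231 (iv2 F389003)) (tt N80704 (iv3 F270608)) (tt N49457 F268250) (tt N70097 F340241) (tt N46685 (iv6 D170727)) (tt N90244 (iv7 F389081)))
theorem Q80534 : ∀ i, i < 80534 → P i := stepQ 80533 Q80533 (allL N80533 (tt N57371 (iv1 F346276)) (tt N77441 (iv0 F342210)) (tt N64047 F268251) (tt N46688 F268252) (tt N104219 (iv4 F444763)) (tt N71353 F346273) (tt N46686 (iv6 D170728)) (tt N71352 (iv7 F346275)))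
theorem Q80535 : ∀ i, i < 80535 → P i := stepQ 80534 Q80534 (allL N80534 (tt N46973 F317271) (tt N46687 (iv0 D170729)) (tt N46975 F317272) (tt N110512 (iv3 F471921)) (tt N52950 F268253) (tt N66501 (iv5 F332377)) (tt N46966 F317273) (tt N46763 F317274))
theorem Q80536 : ∀ i, i < 80536 → P i := stepQ 80535 Q80535 (allL N80535 (tt N46688 (iv1 D170733)) (tt N109008 F464893) (tt N82589 F355101) (tt N61472 (iv3 F353815)) (tt N48391 F354967) (tt N103015 (iv5 F439678)) (tt N82585 (iv6 F355100)) (tt N109007 (iv7 F464886)))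
theorem Q80537 : ∀ i, i < 80537 → P i := stepQ 80536 Q80536 (allL N80536 (tt N108682 F463531) (tt N111975 D215219) (tt N47232 F298390) (tt N71353 (iv3 F346274)) (tt N93520 (iv4 F401012)) (tt N46688 (iv5 D170734)) (tt N46689 F268301) (tt N71351 F346554))
theorem Q80538 : ∀ i, i < 80538 → P i := stepQ 80537 Q80537 (allL N80537 (tt N82589 F346562) (tt N109007 (iv0 F464887)) (tt N109008 F464892) (tt N71352 F346561) (tt N69207 F336059) (tt N71351 (iv5 F346556)) (tt N69207 F336060) (tt N46688 (iv7 D170735)))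
theorem Q80539 : ∀ i, i < 80539 → P i := stepQ 80538 Q80538 (allL N80538 (tt N111976 D215220) (tt N111977 D215221) (tt N91987 (iv2 F395261)) (tt N46690 (iv3 D170743)) (tt N46703 F268325) (tt N111978 D215222) (tt N46691 F268326) (tt N47238 F298770))
theorem Q80540 : ∀ i, i < 80540 → P i := stepQ 80539 Q80539 (allL N80539 (tt N83775 F298771) (tt N54847 F298772) (tt N47236 F298773) (tt N111978 (iv3 F478946)) (tt N101721 (iv4 F434030)) (tt N46690 (iv5 D170744)) (tt N111979 D215223) (tt N47239 F298774))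
theorem Q80541 : ∀ i, i < 80541 → P i := stepQ 80540 Q80540 (allL N80540 (tt N101674 (iv1 F433804)) (tt N46691 (iv0 D170745)) (tt N110598 (iv2 F472311)) (tt N111861 (iv3 F478363)) (tt N111980 D215224) (tt N111981 D215225) (tt N111049 F474422) (tt N110595 F472305))
theorem Q80542 : ∀ i, i < 80542 → P i := stepQ 80541 Q80541 (allL N80541 (tt N110598 (iv1 F472316)) (tt N110595 F472304) (tt N46691 (iv2 D170747)) (tt N91989 (iv3 F395272)) (tt N46715 F268327) (tt N111982 D215226) (tt N91987 F395265) (tt N101674 (iv7 F433802)))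
theorem Q80543 : ∀ i, i < 80543 → P i := stepQ 80542 Q80542 (allL N80542 (tt N111983 D215227) (tt N111984 D215228) (tt N111982 (iv2 F478957)) (tt N46692 F268328) (tt N111985 D215229) (tt N46691 (iv5 D170748)) (tt N111986 D215230) (tt N81156 (iv7 F353317)))
theorem Q80544 : ∀ i, i < 80544 → P i := stepQ 80543 Q80543 (allL N80543 (tt N111509 (iv1 F476650)) (tt N111511 (iv0 F476651)) (tt N111052 (iv2 F474430)) (tt N111986 (iv3 F478966)) (tt N81155 (iv4 F353319)) (tt N111979 (iv5 F478949)) (tt N46692 (iv6 D170749)) (tt N111987 D215231))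
theorem Q80545 : ∀ i, i < 80545 → P i := stepQ 80544 Q80544 (allL N80544 (tt N90267 (iv1 F389167)) (tt N76916 F351827) (tt N90167 (iv2 F388751)) (tt N72136 (iv3 F326319)) (tt N110947 (iv4 F473914)) (tt N46694 (iv5 D170755)) (tt N48966 F268344) (tt N90243 (iv7 F389072)))
theorem Q80546 : ∀ i, i < 80546 → P i := stepQ 80545 Q80545 (allL N80545 (tt N77452 (iv1 F268351)) (tt N77246 (iv0 F332404)) (tt N77165 F268348) (tt N46696 (iv3 D170757)) (tt N77172 F268349) (tt N85997 (iv5 F374822)) (tt N88845 (iv6 F384324)) (tt N77453 F268350))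
theorem Q80547 : ∀ i, i < 80547 → P i := stepQ 80546 Q80546 (allL N80546 (tt N101020 (iv1 F431306)) (tt N101016 (iv0 F431283)) (tt N90232 (iv2 F389009)) (tt N85997 F374824) (tt N67792 F332393) (tt N46696 (iv5 D170758)) (tt N70310 (iv6 F374826)) (tt N90234 (iv7 F389022)))
theorem Q80548 : ∀ i, i < 80548 → P i := stepQ 80547 Q80547 (allL N80547 (tt N90236 (iv1 F389034)) (tt N46697 (iv0 D170762)) (tt N71494 (iv2 F346162)) (tt N111988 D215232) (tt N67796 F346163) (tt N100898 (iv5 F430881)) (tt N71492 F346169) (tt N90235 (iv7 F389026)))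
theorem Q80549 : ∀ i, i < 80549 → P i := stepQ 80548 Q80548 (allL N80548 (tt N46697 (iv1 D170763)) (tt N90236 F389033) (tt N90235 (iv2 F389028)) (tt N71496 (iv3 F346159)) (tt N67797 F346166) (tt N83234 (iv5 F286423)) (tt N69898 F409987) (tt N71494 F346161))
theorem Q80550 : ∀ i, i < 80550 → P i := stepQ 80549 Q80549 (allL N80549 (tt N51899 F268361) (tt N52040 (iv0 F268362)) (tt N80683 (iv2 F270435)) (tt N46699 (iv3 D170770)) (tt N48759 F268360) (tt N95136 (iv5 F407189)) (tt N111989 D215233) (tt N82802 (iv7 F366969)))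
theorem Q80551 : ∀ i, i < 80551 → P i := stepQ 80550 Q80550 (allL N80550 (tt N84336 (iv1 F368956)) (tt N49110 F356393) (tt N82803 (iv2 F295451)) (tt N111989 (iv3 F478978)) (tt N84330 (iv4 F368924)) (tt N54637 (iv5 F290112)) (tt N46699 (iv6 D170772)) (tt N83362 F290110))
theorem Q80552 : ∀ i, i < 80552 → P i := stepQ 80551 Q80551 (allL N80551 (tt N72985 F359322) (tt N111990 D215234) (tt N82353 (iv2 F359331)) (tt N46700 (iv3 D170808)) (tt N80095 F301995) (tt N77491 (iv5 F359314)) (tt N100640 (iv6 F429798)) (tt N100824 (iv7 F430650)))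
theorem Q80553 : ∀ i, i < 80553 → P i := stepQ 80552 Q80552 (allL N80552 (tt N111991 D215235) (tt N95128 F407152) (tt N91834 (iv2 F394612)) (tt N46701 (iv3 D170811)) (tt N47612 F268401) (tt N111992 D215236) (tt N95732 (iv6 F409359)) (tt N91836 (iv7 F394620)))
theorem Q80554 : ∀ i, i < 80554 → P i := stepQ 80553 Q80553 (allL N80553 (tt N64609 F304201) (tt N64612 F304202) (tt N82010 F304203) (tt N111992 (iv3 F478995)) (tt N67320 F344448) (tt N46701 (iv5 D170812)) (tt N102322 (iv6 F436721)) (tt N82011 F304204))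
theorem Q80555 : ∀ i, i < 80555 → P i := stepQ 80554 Q80554 (allL N80554 (tt N111993 D215237) (tt N111994 D215238) (tt N111995 D215239) (tt N46702 (iv3 D170814)) (tt N79747 F268402) (tt N107098 (iv5 F456960)) (tt N100912 (iv6 F430934)) (tt N100825 (iv7 F430653)))
theorem Q80556 : ∀ i, i < 80556 → P i := stepQ 80555 Q80555 (allL N80555 (tt N101144 (iv1 F431921)) (tt N46703 (iv0 D170816)) (tt N101143 (iv2 F431909)) (tt N93432 F431913) (tt N91869 F431910) (tt N111996 D215240) (tt N93431 (iv6 F431912)) (tt N101142 F431911))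
theorem Q80557 : ∀ i, i < 80557 → P i := stepQ 80556 Q80556 (allL N80556 (tt N46703 (iv1 D170817)) (tt N101144 F431922) (tt N101142 (iv2 F431904)) (tt N110133 (iv3 F470113)) (tt N87801 (iv4 F380566)) (tt N111997 D215241) (tt N87800 F380567) (tt N101143 (iv7 F431906)))
theorem Q80558 : ∀ i, i < 80558 → P i := stepQ 80557 Q80557 (allL N80557 (tt N101143 F431908) (tt N101142 F431902) (tt N46703 (iv2 D170818)) (tt N95123 (iv3 F407128)) (tt N91987 F395264) (tt N72930 F363354) (tt N46715 F268403) (tt N101144 (iv7 F431920)))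
theorem Q80559 : ∀ i, i < 80559 → P i := stepQ 80558 Q80558 (allL N80558 (tt N78430 (iv1 F268408)) (tt N46704 (iv0 D170826)) (tt N78429 F399471) (tt N91188 F392199) (tt N60462 (iv4 F334363)) (tt N91682 F395379) (tt N79185 F431246) (tt N78428 F399477))
theorem Q80560 : ∀ i, i < 80560 → P i := stepQ 80559 Q80559 (allL N80559 (tt N46704 (iv1 D170827)) (tt N78430 F268412) (tt N78428 F399476) (tt N111998 D215242) (tt N60463 F365757) (tt N91683 (iv5 F394056)) (tt N82231 (iv6 F365758)) (tt N78429 (iv7 F399474)))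
theorem Q80561 : ∀ i, i < 80561 → P i := stepQ 80560 Q80560 (allL N80560 (tt N78429 (iv1 F268413)) (tt N78428 F268411) (tt N46704 (iv2 D170828)) (tt N48312 F268409) (tt N87827 (iv4 F380700)) (tt N108144 (iv5 F461296)) (tt N107898 (iv6 F460175)) (tt N78430 F268410))
theorem Q80562 : ∀ i, i < 80562 → P i := stepQ 80561 Q80561 (allL N80561 (tt N82508 (iv1 F281399)) (tt N46705 (iv0 D170835)) (tt N82507 F386122) (tt N81590 F276205) (tt N65745 (iv4 F364837)) (tt N72984 (iv5 F386113)) (tt N72985 F386115) (tt N82506 (iv7 F386123)))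
theorem Q80563 : ∀ i, i < 80563 → P i := stepQ 80562 Q80562 (allL N80562 (tt N46705 (iv1 D170836)) (tt N82508 F281401) (tt N82506 (iv2 F386125)) (tt N96627 (iv3 F413237)) (tt N65746 F365754) (tt N107745 (iv5 F459519)) (tt N64583 (iv6 F413315)) (tt N82507 F386124))
theorem Q80564 : ∀ i, i < 80564 → P i := stepQ 80563 Q80563 (allL N80563 (tt N82507 (iv1 F281400)) (tt N82506 F281395) (tt N46705 (iv2 D170837)) (tt N48332 F268435) (tt N87780 (iv4 F380474)) (tt N89823 (iv5 F387650)) (tt N58303 (iv6 F358865)) (tt N82508 (iv7 F281398)))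
theorem Q80565 : ∀ i, i < 80565 → P i := stepQ 80564 Q80564 (allL N80564 (tt N107082 (iv1 F456896)) (tt N111023 (iv0 F474306)) (tt N89823 (iv2 F387646)) (tt N46706 F268436) (tt N55321 F332736) (tt N46705 (iv5 D170838)) (tt N89821 (iv6 F387636)) (tt N55318 (iv7 F332730)))
theorem Q80566 : ∀ i, i < 80566 → P i := stepQ 80565 Q80565 (allL N80565 (tt N95042 F406783) (tt N46708 (iv0 D170849)) (tt N94723 (iv2 F405674)) (tt N48341 F268457) (tt N82471 (iv4 F281165)) (tt N95116 (iv5 F407113)) (tt N81007 (iv6 F365579)) (tt N82520 (iv7 F281450)))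
theorem Q80567 : ∀ i, i < 80567 → P i := stepQ 80566 Q80566 (allL N80566 (tt N94723 (iv1 F405677)) (tt N82520 F281452) (tt N46708 (iv2 D170851)) (tt N100828 (iv3 F430667)) (tt N47638 F268458) (tt N111999 D215243) (tt N95078 (iv6 F408576)) (tt N95042 (iv7 F406785)))
theorem Q80568 : ∀ i, i < 80568 → P i := stepQ 80567 Q80567 (allL N80567 (tt N111045 F474407) (tt N95132 (iv0 F407176)) (tt N111999 (iv2 F479017)) (tt N46709 F268459) (tt N112000 D215244) (tt N46708 (iv5 D170852)) (tt N112001 D215245) (tt N90161 F388727))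
theorem Q80569 : ∀ i, i < 80569 → P i := stepQ 80568 Q80568 (allL N80568 (tt N95079 (iv1 F406966)) (tt N94707 (iv0 F405615)) (tt N95078 (iv2 F408575)) (tt N46710 F268460) (tt N47640 F268461) (tt N71684 F354543) (tt N46708 (iv6 D170853)) (tt N79175 (iv7 F365848)))
theorem Q80570 : ∀ i, i < 80570 → P i := stepQ 80569 Q80569 (allL N80569 (tt N107732 (iv1 F459447)) (tt N58017 (iv0 F360790)) (tt N100830 (iv2 F430677)) (tt N112001 (iv3 F479018)) (tt N56789 (iv4 F343156)) (tt N103158 (iv5 F440340)) (tt N46709 (iv6 D170854)) (tt N105382 (iv7 F449984)))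
theorem Q80571 : ∀ i, i < 80571 → P i := stepQ 80570 Q80570 (allL N80570 (tt N65037 F268462) (tt N65044 F268463) (tt N79174 (iv2 F358858)) (tt N71684 (iv3 F354544)) (tt N112002 D215246) (tt N46710 (iv5 D170855)) (tt N103158 (iv6 F440341)) (tt N79176 (iv7 F365856)))
theorem Q80572 : ∀ i, i < 80572 → P i := stepQ 80571 Q80571 (allL N80571 (tt N100828 (iv1 F430670)) (tt N46711 (iv0 D170857)) (tt N100827 F430663) (tt N94717 F405651) (tt N112003 D215247) (tt N106936 F456350) (tt N111993 (iv6 F479002)) (tt N100826 F430659))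
theorem Q80573 : ∀ i, i < 80573 → P i := stepQ 80572 Q80572 (allL N80572 (tt N46711 (iv1 D170858)) (tt N100828 F430671) (tt N100826 (iv2 F430665)) (tt N112004 D215248) (tt N102119 (iv4 F435830)) (tt N95052 F430666) (tt N101568 F433417) (tt N100827 F430664))
theorem Q80574 : ∀ i, i < 80574 → P i := stepQ 80573 Q80573 (allL N80573 (tt N100827 F430662) (tt N100826 F430657) (tt N46711 (iv2 D170859)) (tt N95042 (iv3 F406781)) (tt N79669 F268468) (tt N112005 D215249) (tt N95039 F406764) (tt N100828 (iv7 F430669)))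
theorem Q80575 : ∀ i, i < 80575 → P i := stepQ 80574 Q80574 (allL N80574 (tt N112006 D215250) (tt N112007 D215251) (tt N112005 (iv2 F479040)) (tt N46712 F268469) (tt N91772 (iv4 F394367)) (tt N46711 (iv5 D170860)) (tt N61219 F372030) (tt N100829 (iv7 F430675)))
theorem Q80576 : ∀ i, i < 80576 → P i := stepQ 80575 Q80575 (allL N80575 (tt N112004 (iv1 F479039)) (tt N112008 D215252) (tt N111433 (iv2 F476343)) (tt N46713 (iv3 D170865)) (tt N111349 F475949) (tt N93566 F401163) (tt N93567 (iv6 F401165)) (tt N103050 (iv7 F439849)))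
theorem Q80577 : ∀ i, i < 80577 → P i := stepQ 80576 Q80576 (allL N80576 (tt N111493 (iv1 F476590)) (tt N91871 F394775) (tt N80259 F268476) (tt N111496 (iv3 F476600)) (tt N46713 (iv4 D170866)) (tt N112009 D215253) (tt N112010 D215254) (tt N111016 (iv7 F474269)))
theorem Q80578 : ∀ i, i < 80578 → P i := stepQ 80577 Q80577 (allL N80577 (tt N111034 F474356) (tt N82405 (iv0 F401162)) (tt N109887 (iv2 F469077)) (tt N93566 (iv3 F401158)) (tt N85279 (iv4 F372149)) (tt N46713 (iv5 D170867)) (tt N61298 (iv6 F372144)) (tt N85276 F372141))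
theorem Q80579 : ∀ i, i < 80579 → P i := stepQ 80578 Q80578 (allL N80578 (tt N112011 D215255) (tt N65047 (iv0 F401157)) (tt N111017 (iv2 F474272)) (tt N93567 (iv3 F401164)) (tt N112010 (iv4 F479056)) (tt N93565 (iv5 F401156)) (tt N46713 (iv6 D170868)) (tt N112012 D215256))
theorem Q80580 : ∀ i, i < 80580 → P i := stepQ 80579 Q80579 (allL N80579 (tt N48339 (iv1 F268479)) (tt N48341 (iv0 F268480)) (tt N65442 (iv2 F268478)) (tt N46714 (iv3 D170869)) (tt N65441 F268477) (tt N53803 (iv5 F354674)) (tt N70200 F358637) (tt N82517 (iv7 F281430)))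
theorem Q80581 : ∀ i, i < 80581 → P i := stepQ 80580 Q80580 (allL N80580 (tt N82405 F354683) (tt N111034 F474358) (tt N85276 (iv2 F372137)) (tt N53803 F354678) (tt N84838 (iv4 F370807)) (tt N46714 (iv5 D170870)) (tt N50365 (iv6 F354717)) (tt N109887 (iv7 F469080)))
theorem Q80582 : ∀ i, i < 80582 → P i := stepQ 80581 Q80581 (allL N80581 (tt N95109 (iv1 F407084)) (tt N94700 F405589) (tt N89782 (iv2 F387533)) (tt N70200 (iv3 F358639)) (tt N87793 (iv4 F380527)) (tt N88983 (iv5 F384655)) (tt N46714 (iv6 D170871)) (tt N95034 (iv7 F406741)))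
theorem Q80583 : ∀ i, i < 80583 → P i := stepQ 80582 Q80582 (allL N80582 (tt N111020 (iv1 F474291)) (tt N111019 F474287) (tt N46716 F268481) (tt N82863 (iv3 F363801)) (tt N86172 (iv4 F375260)) (tt N46715 (iv5 D170872)) (tt N72929 (iv6 F363352)) (tt N111018 (iv7 F474281)))
theorem Q80584 : ∀ i, i < 80584 → P i := stepQ 80583 Q80583 (allL N80583 (tt N111018 F474284) (tt N46716 (iv0 D170873)) (tt N111020 (iv2 F474294)) (tt N112013 D215257) (tt N109083 F465254) (tt N78448 F406487) (tt N112014 D215258) (tt N111019 (iv7 F474290)))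
theorem Q80585 : ∀ i, i < 80585 → P i := stepQ 80584 Q80584 (allL N80584 (tt N46716 (iv1 D170874)) (tt N111018 (iv0 F474283)) (tt N111019 F474288) (tt N112015 D215259) (tt N85319 (iv4 F431916)) (tt N78449 (iv5 F431914)) (tt N85317 F431915) (tt N111020 (iv7 F474292)))
theorem Q80586 : ∀ i, i < 80586 → P i := stepQ 80585 Q80585 (allL N80585 (tt N112016 D215260) (tt N52775 (iv0 F376961)) (tt N86172 F375262) (tt N98264 (iv3 F420237)) (tt N46716 (iv4 D170875)) (tt N85894 (iv5 F374344)) (tt N72933 (iv6 F363353)) (tt N86175 (iv7 F375269)))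
theorem Q80587 : ∀ i, i < 80587 → P i := stepQ 80586 Q80586 (allL N80586 (tt N95116 F407114) (tt N95127 (iv0 F407145)) (tt N112017 D215261) (tt N46717 (iv3 D170877)) (tt N112018 D215262) (tt N54841 F268483) (tt N57841 F363363) (tt N100833 (iv7 F430691)))
theorem Q80588 : ∀ i, i < 80588 → P i := stepQ 80587 Q80587 (allL N80587 (tt N110642 (iv1 F472556)) (tt N95068 (iv0 F407588)) (tt N100832 (iv2 F430687)) (tt N57841 (iv3 F363358)) (tt N100834 (iv4 F430694)) (tt N57839 F363356) (tt N46717 (iv6 D170878)) (tt N112019 D215263))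
theorem Q80589 : ∀ i, i < 80589 → P i := stepQ 80588 Q80588 (allL N80588 (tt N106936 (iv1 F456351)) (tt N95052 F430672) (tt N112020 D215264) (tt N46718 (iv3 D170879)) (tt N112021 D215265) (tt N78436 F268484) (tt N112022 D215266) (tt N100831 (iv7 F430685)))
theorem Q80590 : ∀ i, i < 80590 → P i := stepQ 80589 Q80589 (allL N80589 (tt N95126 F407142) (tt N107219 (iv0 F457501)) (tt N100834 (iv2 F430693)) (tt N112022 (iv3 F479114)) (tt N100832 (iv4 F430688)) (tt N105029 (iv5 F448463)) (tt N46718 (iv6 D170880)) (tt N112023 D215267))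
theorem Q80591 : ∀ i, i < 80591 → P i := stepQ 80590 Q80590 (allL N80590 (tt N64541 F351963) (tt N62287 F351965) (tt N64554 F366686) (tt N78621 F356146) (tt N110323 (iv4 F471048)) (tt N46720 (iv5 D170887)) (tt N53286 F268486) (tt N64553 F364469))
theorem Q80592 : ∀ i, i < 80592 → P i := stepQ 80591 Q80591 (allL N80591 (tt N57477 F335238) (tt N46734 F335239) (tt N57475 (iv2 F364467)) (tt N78619 F335240) (tt N63843 F335241) (tt N64553 (iv5 F364468)) (tt N100638 F429791) (tt N46720 (iv7 D170888)))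
theorem Q80593 : ∀ i, i < 80593 → P i := stepQ 80592 Q80592 (allL N80592 (tt N89102 (iv1 F385159)) (tt N76519 (iv0 F342603)) (tt N72373 (iv2 F342599)) (tt N68361 (iv3 F342600)) (tt N46722 F268487) (tt N47989 F342598) (tt N46721 (iv6 D170889)) (tt N68357 (iv7 F342601)))
theorem Q80594 : ∀ i, i < 80594 → P i := stepQ 80593 Q80593 (allL N80593 (tt N64513 F342606) (tt N64900 (iv0 F342604)) (tt N64901 F359388) (tt N89329 (iv3 F386136)) (tt N72368 (iv4 F342602)) (tt N46722 (iv5 D170892)) (tt N53300 F268488) (tt N64902 (iv7 F359391)))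
theorem Q80595 : ∀ i, i < 80595 → P i := stepQ 80594 Q80594 (allL N80594 (tt N82843 (iv1 F284574)) (tt N52858 (iv0 F349050)) (tt N82844 (iv2 F284578)) (tt N46725 F268491) (tt N82844 (iv4 F284580)) (tt N76300 (iv5 F349046)) (tt N52906 F268492) (tt N46723 (iv7 D170897)))
theorem Q80596 : ∀ i, i < 80596 → P i := stepQ 80595 Q80595 (allL N80595 (tt N46729 F335235) (tt N53898 F335236) (tt N53280 F268711) (tt N76986 F268712) (tt N82951 (iv4 F284948)) (tt N64654 (iv5 F366480)) (tt N46727 (iv6 D171014)) (tt N68275 (iv7 F335233)))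
theorem Q80597 : ∀ i, i < 80597 → P i := stepQ 80596 Q80596 (allL N80596 (tt N101171 F432040) (tt N101169 (iv0 F432028)) (tt N101182 F432087) (tt N46730 F268743) (tt N108689 (iv4 F463567)) (tt N46729 (iv5 D171027)) (tt N99502 (iv6 F424885)) (tt N100849 (iv7 F430764)))
theorem Q80598 : ∀ i, i < 80598 → P i := stepQ 80597 Q80597 (allL N80597 (tt N79507 F344901) (tt N79496 F356164) (tt N53899 F268748) (tt N46732 F268749) (tt N79257 (iv4 F356163)) (tt N46731 (iv5 D171032)) (tt N96204 (iv6 F411478)) (tt N53897 F268750))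
theorem Q80599 : ∀ i, i < 80599 → P i := stepQ 80598 Q80598 (allL N80598 (tt N112024 D215268) (tt N84161 (iv0 F384813)) (tt N53900 F268751) (tt N46733 F268752) (tt N79481 F353801) (tt N90603 (iv5 F390220)) (tt N46731 (iv6 D171033)) (tt N100565 (iv7 F429484)))
theorem Q80600 : ∀ i, i < 80600 → P i := stepQ 80599 Q80599 (allL N80599 (tt N101098 (iv1 F431665)) (tt N101097 (iv0 F431660)) (tt N57476 (iv2 F366722)) (tt N46735 F268773) (tt N71857 F360985) (tt N46734 (iv5 D171052)) (tt N62413 (iv6 F360986)) (tt N89377 (iv7 F386277)))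
theorem Q80601 : ∀ i, i < 80601 → P i := stepQ 80600 Q80600 (allL N80600 (tt N81225 (iv1 F345581)) (tt N81224 F345582) (tt N81228 F345579) (tt N46736 (iv3 D171055)) (tt N79540 F306131) (tt N94813 (iv5 F406043)) (tt N79169 F306132) (tt N81226 (iv7 F345578)))
theorem Q80602 : ∀ i, i < 80602 → P i := stepQ 80601 Q80601 (allL N80601 (tt N81007 F365844) (tt N59521 (iv0 F365845)) (tt N112025 D215269) (tt N46737 (iv3 D171064)) (tt N79482 F363325) (tt N59347 F363323) (tt N58717 F363326) (tt N79204 (iv7 F363324)))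
theorem Q80603 : ∀ i, i < 80603 → P i := stepQ 80602 Q80602 (allL N80602 (tt N46738 (iv1 D171068)) (tt N79582 F353976) (tt N59347 (iv2 F353989)) (tt N59504 (iv3 F353978)) (tt N81786 F353977) (tt N112025 (iv5 F479134)) (tt N59345 F353980) (tt N79207 (iv7 F353979)))
theorem Q80604 : ∀ i, i < 80604 → P i := stepQ 80603 Q80603 (allL N80603 (tt N79207 F353975) (tt N59347 F353991) (tt N46738 (iv2 D171069)) (tt N100852 (iv3 F430777)) (tt N64105 F353963) (tt N107736 (iv5 F459470)) (tt N78434 F268790) (tt N79582 (iv7 F353974)))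
theorem Q80605 : ∀ i, i < 80605 → P i := stepQ 80604 Q80604 (allL N80604 (tt N100590 F429591) (tt N90249 (iv0 F389100)) (tt N83230 (iv2 F286391)) (tt N53999 F268812) (tt N112026 D215270) (tt N46742 (iv5 D171090)) (tt N83336 (iv6 F364162)) (tt N100558 (iv7 F429457)))
theorem Q80606 : ∀ i, i < 80606 → P i := stepQ 80605 Q80605 (allL N80605 (tt N68274 (iv1 F342642)) (tt N53294 (iv0 F338835)) (tt N54001 F268813) (tt N46743 (iv3 D171091)) (tt N53702 (iv4 F268814)) (tt N101043 (iv5 F431425)) (tt N112027 D215271) (tt N83235 (iv7 F286425)))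
theorem Q80607 : ∀ i, i < 80607 → P i := stepQ 80606 Q80606 (allL N80606 (tt N104185 F444583) (tt N88517 (iv0 F383365)) (tt N75770 F268815) (tt N80914 F332322) (tt N46743 (iv4 D171092)) (tt N57400 F332323) (tt N94568 (iv6 F404999)) (tt N70550 (iv7 F332321)))
theorem Q80608 : ∀ i, i < 80608 → P i := stepQ 80607 Q80607 (allL N80607 (tt N100893 F430874) (tt N100654 F429863) (tt N83234 (iv2 F286421)) (tt N112027 (iv3 F479140)) (tt N94568 (iv4 F405000)) (tt N90235 F389027) (tt N46743 (iv6 D171094)) (tt N100898 F430884))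
theorem Q80609 : ∀ i, i < 80609 → P i := stepQ 80608 Q80608 (allL N80608 (tt N83238 (iv1 F286440)) (tt N46745 (iv0 D171098)) (tt N64484 (iv2 F357858)) (tt N112028 D215272) (tt N108804 (iv4 F464034)) (tt N64470 F357859) (tt N108805 (iv6 F464036)) (tt N64481 (iv7 F357860)))
theorem Q80610 : ∀ i, i < 80610 → P i := stepQ 80609 Q80609 (allL N80609 (tt N46745 (iv1 D171099)) (tt N83238 F286439) (tt N64481 F357861) (tt N54007 (iv3 F280328)) (tt N112029 D215273) (tt N64469 (iv5 F305153)) (tt N76673 (iv6 F364656)) (tt N64484 (iv7 F357857)))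
theorem Q80611 : ∀ i, i < 80611 → P i := stepQ 80610 Q80610 (allL N80610 (tt N112030 D215274) (tt N76670 (iv0 F387472)) (tt N83237 (iv2 F286433)) (tt N85936 (iv3 F374508)) (tt N46745 (iv4 D171100)) (tt N86452 (iv5 F376255)) (tt N76707 (iv6 F345122)) (tt N105889 (iv7 F452200)))
theorem Q80612 : ∀ i, i < 80612 → P i := stepQ 80611 Q80611 (allL N80611 (tt N50647 (iv1 F352767)) (tt N85609 F373197) (tt N53468 F268820) (tt N53261 F268821) (tt N94605 (iv4 F405161)) (tt N46746 (iv5 D171101)) (tt N95950 (iv6 F410389)) (tt N53469 F268822))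
theorem Q80613 : ∀ i, i < 80613 → P i := stepQ 80612 Q80612 (allL N80612 (tt N52713 F268830) (tt N55229 (iv0 F268831)) (tt N53262 F268827) (tt N46747 (iv3 D171103)) (tt N52189 F268828) (tt N61091 (iv5 F335348)) (tt N112031 D215275) (tt N53467 F268829))
theorem Q80614 : ∀ i, i < 80614 → P i := stepQ 80613 Q80613 (allL N80613 (tt N82773 F352766) (tt N50659 F352771) (tt N53470 F268834) (tt N112031 (iv3 F479162)) (tt N54640 (iv4 F352769)) (tt N96213 (iv5 F411522)) (tt N46747 (iv6 D171105)) (tt N82774 (iv7 F356513)))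
theorem Q80615 : ∀ i, i < 80615 → P i := stepQ 80614 Q80614 (allL N80614 (tt N50641 (iv1 F268840)) (tt N46748 (iv0 D171106)) (tt N53471 F345050) (tt N53266 (iv3 F345054)) (tt N62212 (iv4 F345049)) (tt N55314 (iv5 F345044)) (tt N112032 D215276) (tt N53472 F345058))
theorem Q80616 : ∀ i, i < 80616 → P i := stepQ 80615 Q80615 (allL N80615 (tt N46748 (iv1 D171107)) (tt N50641 F268835) (tt N53472 F345056) (tt N63472 (iv3 F349166)) (tt N62210 F343858) (tt N55313 (iv5 F343848)) (tt N69908 F343846) (tt N53471 F345053))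
theorem Q80617 : ∀ i, i < 80617 → P i := stepQ 80616 Q80616 (allL N80616 (tt N94150 (iv1 F403445)) (tt N75979 (iv0 F366229)) (tt N88993 (iv2 F384707)) (tt N76086 F366227) (tt N46750 (iv4 D171127)) (tt N98999 F422992) (tt N76084 (iv6 F366228)) (tt N88996 (iv7 F384729)))
theorem Q80618 : ∀ i, i < 80618 → P i := stepQ 80617 Q80617 (allL N80617 (tt N89435 F386508) (tt N95612 (iv0 F408885)) (tt N88994 (iv2 F384712)) (tt N48927 F268862) (tt N58622 (iv4 F348336)) (tt N46750 (iv5 D171128)) (tt N62408 (iv6 F334427)) (tt N73197 F348379))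
theorem Q80619 : ∀ i, i < 80619 → P i := stepQ 80618 Q80618 (allL N80618 (tt N78483 F310299) (tt N78619 F310300) (tt N48928 F268868) (tt N46751 (iv3 D171131)) (tt N47052 F310301) (tt N111886 (iv5 F478500)) (tt N109329 (iv6 F466411)) (tt N47051 F310302))
theorem Q80620 : ∀ i, i < 80620 → P i := stepQ 80619 Q80619 (allL N80619 (tt N75979 F374819) (tt N94150 F403444) (tt N88996 (iv2 F384727)) (tt N76915 (iv3 F268870)) (tt N46751 (iv4 D171132)) (tt N106060 (iv5 F452951)) (tt N112033 D215277) (tt N88993 (iv7 F384709)))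
theorem Q80621 : ∀ i, i < 80621 → P i := stepQ 80620 Q80620 (allL N80620 (tt N95612 (iv1 F408886)) (tt N89435 F386511) (tt N73197 F348382) (tt N111886 (iv3 F478499)) (tt N73193 (iv4 F334426)) (tt N46751 (iv5 D171133)) (tt N72254 F334428) (tt N88994 (iv7 F384714)))
theorem Q80622 : ∀ i, i < 80622 → P i := stepQ 80621 Q80621 (allL N80621 (tt N81914 F386512) (tt N89406 F386384) (tt N88997 (iv2 F384732)) (tt N109329 (iv3 F466409)) (tt N112033 (iv4 F479176)) (tt N91150 (iv5 F392094)) (tt N46751 (iv6 D171134)) (tt N89664 (iv7 F387154)))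
theorem Q80623 : ∀ i, i < 80623 → P i := stepQ 80622 Q80622 (allL N80622 (tt N89320 F386081) (tt N112034 D215278) (tt N107162 (iv2 F457265)) (tt N46753 (iv3 D171152)) (tt N65263 (iv4 F333014)) (tt N64741 F338866) (tt N89038 (iv6 F384916)) (tt N59439 (iv7 F350379)))
theorem Q80624 : ∀ i, i < 80624 → P i := stepQ 80623 Q80623 (allL N80623 (tt N49501 F356432) (tt N86232 F375494) (tt N49424 F364409) (tt N46758 F268917) (tt N85784 (iv4 F373926)) (tt N53685 (iv5 F362126)) (tt N46755 (iv6 D171168)) (tt N86231 (iv7 F375488)))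
theorem Q80625 : ∀ i, i < 80625 → P i := stepQ 80624 Q80624 (allL N80624 (tt N82681 (iv1 F356429)) (tt N82680 F356425) (tt N49761 (iv2 F356426)) (tt N82661 F356427) (tt N112035 D215279) (tt N46756 (iv5 D171173)) (tt N112036 D215280) (tt N82679 F356428))
theorem Q80626 : ∀ i, i < 80626 → P i := stepQ 80625 Q80625 (allL N80625 (tt N52764 (iv1 F290105)) (tt N72620 (iv0 F356430)) (tt N49762 (iv2 F356433)) (tt N82662 F356434) (tt N46758 F268920) (tt N54211 (iv5 F356436)) (tt N46756 (iv6 D171174)) (tt N91681 (iv7 F394020)))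
theorem Q80627 : ∀ i, i < 80627 → P i := stepQ 80626 Q80626 (allL N80626 (tt N46758 (iv1 D171182)) (tt N49779 (iv0 F335646)) (tt N49778 (iv2 F335642)) (tt N71867 (iv3 F346043)) (tt N54670 F290006) (tt N81881 F277451) (tt N50433 (iv6 F343865)) (tt N49777 (iv7 F335640)))
theorem Q80628 : ∀ i, i < 80628 → P i := stepQ 80627 Q80627 (allL N80627 (tt N47822 F268930) (tt N47849 (iv0 F268931)) (tt N47847 (iv2 F277421)) (tt N53685 F362125) (tt N112037 D215281) (tt N46758 (iv5 D171183)) (tt N90862 (iv6 F391072)) (tt N47846 (iv7 F277424)))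
theorem Q80629 : ∀ i, i < 80629 → P i := stepQ 80628 Q80628 (allL N80628 (tt N49778 (iv1 F335641)) (tt N49777 (iv0 F335635)) (tt N49779 (iv2 F335648)) (tt N86231 (iv3 F375486)) (tt N91681 (iv4 F394019)) (tt N47846 (iv5 F277423)) (tt N72599 F343241) (tt N46758 (iv7 D171184)))
theorem Q80630 : ∀ i, i < 80630 → P i := stepQ 80629 Q80629 (allL N80629 (tt N101196 F432142) (tt N102709 (iv0 F438305)) (tt N81676 (iv2 F276441)) (tt N46763 F270054) (tt N52179 F270055) (tt N97071 (iv5 F415323)) (tt N46761 (iv6 D172006)) (tt N110512 (iv7 F471925)))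
theorem Q80631 : ∀ i, i < 80631 → P i := stepQ 80630 Q80630 (allL N80630 (tt N52850 (iv1 F345812)) (tt N52949 F332402) (tt N46971 F270056) (tt N52963 (iv3 F345811)) (tt N46763 F270057) (tt N103799 (iv5 F442869)) (tt N46762 (iv6 D172007)) (tt N52950 F345810))
theorem Q80632 : ∀ i, i < 80632 → P i := stepQ 80631 Q80631 (allL N80631 (tt N79336 F334244) (tt N79340 F318965) (tt N79338 (iv2 F341909)) (tt N46766 F270065) (tt N77586 F270066) (tt N75385 (iv5 F334247)) (tt N46764 (iv6 D172012)) (tt N79337 F345798))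
theorem Q80633 : ∀ i, i < 80633 → P i := stepQ 80632 Q80632 (allL N80632 (tt N78749 (iv1 F342351)) (tt N80946 F314197) (tt N46963 F270067) (tt N52961 (iv3 F306533)) (tt N46766 F270069) (tt N53581 (iv5 F342230)) (tt N46765 (iv6 D172013)) (tt N52952 (iv7 F345807)))
theorem Q80634 : ∀ i, i < 80634 → P i := stepQ 80633 Q80633 (allL N80633 (tt N47294 F358674) (tt N59983 (iv0 F340646)) (tt N46965 F270071) (tt N75385 F357777) (tt N112038 D215282) (tt N46766 (iv5 D172016)) (tt N84138 (iv6 F368271)) (tt N111589 (iv7 F477042)))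
theorem Q80635 : ∀ i, i < 80635 → P i := stepQ 80634 Q80634 (allL N80634 (tt N46918 F333739) (tt N46964 F270076) (tt N46966 F270072) (tt N79337 (iv3 F345800)) (tt N52952 F333750) (tt N111589 (iv5 F477041)) (tt N46975 F270073) (tt N46766 (iv7 D172017)))
theorem Q80636 : ∀ i, i < 80636 → P i := stepQ 80635 Q80635 (allL N80635 (tt N100527 F429336) (tt N100392 (iv0 F428766)) (tt N81684 (iv2 F357111)) (tt N46767 (iv3 D172019)) (tt N81681 (iv4 F276452)) (tt N112039 D215283) (tt N63857 F335263) (tt N81687 (iv7 F357095)))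
theorem Q80637 : ∀ i, i < 80637 → P i := stepQ 80636 Q80636 (allL N80636 (tt N52927 (iv1 F340209)) (tt N52926 (iv0 F340204)) (tt N52929 (iv2 F340205)) (tt N82956 F340206) (tt N46767 (iv4 D172020)) (tt N112040 D215284) (tt N108440 F462575) (tt N52925 F340207))
theorem Q80638 : ∀ i, i < 80638 → P i := stepQ 80637 Q80637 (allL N80637 (tt N100408 F428842) (tt N111440 F476376) (tt N91331 F392768) (tt N112039 (iv3 F479204)) (tt N94243 (iv4 F403818)) (tt N46767 (iv5 D172021)) (tt N94249 (iv6 F403830)) (tt N100350 (iv7 F428539)))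
theorem Q80639 : ∀ i, i < 80639 → P i := stepQ 80638 Q80638 (allL N80638 (tt N80945 F335266) (tt N47053 F335269) (tt N90244 F389079) (tt N63857 (iv3 F335264)) (tt N108440 (iv4 F462570)) (tt N63856 F335265) (tt N46767 (iv6 D172022)) (tt N90231 (iv7 F389005)))
theorem Q80640 : ∀ i, i < 80640 → P i := stepQ 80639 Q80639 (allL N80639 (tt N66941 F343957) (tt N103890 (iv0 F443234)) (tt N80758 F362754) (tt N46768 (iv3 D172024)) (tt N52794 (iv4 F343960)) (tt N87486 (iv5 F379525)) (tt N52793 F362755) (tt N80757 F362756))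
theorem Q80641 : ∀ i, i < 80641 → P i := stepQ 80640 Q80640 (allL N80640 (tt N111440 F476375) (tt N100408 (iv0 F428843)) (tt N100350 (iv2 F428538)) (tt N87486 F379528) (tt N112041 D215285) (tt N46768 (iv5 D172026)) (tt N75162 F366671) (tt N91331 (iv7 F392766)))
theorem Q80642 : ∀ i, i < 80642 → P i := stepQ 80641 Q80641 (allL N80641 (tt N100354 (iv1 F428558)) (tt N46769 (iv0 D172028)) (tt N100351 F428543) (tt N112042 D215286) (tt N108040 (iv4 F460848)) (tt N111088 (iv5 F474601)) (tt N95748 F409441) (tt N100352 (iv7 F428548)))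
theorem Q80643 : ∀ i, i < 80643 → P i := stepQ 80642 Q80642 (allL N80642 (tt N46769 (iv1 D172029)) (tt N100354 F428557) (tt N100352 (iv2 F428550)) (tt N54978 F366651) (tt N108044 (iv4 F460863)) (tt N68578 (iv5 F366650)) (tt N112043 D215287) (tt N100351 F428545))
theorem Q80644 : ∀ i, i < 80644 → P i := stepQ 80643 Q80643 (allL N80643 (tt N108305 F461985) (tt N102659 (iv0 F438102)) (tt N100353 (iv2 F428551)) (tt N90636 (iv3 F390341)) (tt N46769 (iv4 D172030)) (tt N94380 (iv5 F404190)) (tt N54314 F270080) (tt N106967 (iv7 F456474)))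
theorem Q80645 : ∀ i, i < 80645 → P i := stepQ 80644 Q80644 (allL N80644 (tt N100352 (iv1 F428547)) (tt N100351 (iv0 F428546)) (tt N100354 (iv2 F428554)) (tt N46772 F270081) (tt N106967 (iv4 F456473)) (tt N46770 F270082) (tt N112044 D215288) (tt N46769 (iv7 D172031)))
theorem Q80646 : ∀ i, i < 80646 → P i := stepQ 80645 Q80645 (allL N80645 (tt N58785 F345509) (tt N71782 (iv0 F349928)) (tt N47550 F270115) (tt N63784 (iv3 F345510)) (tt N106861 (iv4 F456049)) (tt N59624 F345512) (tt N46771 (iv6 D172048)) (tt N66555 (iv7 F349925)))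
theorem Q80647 : ∀ i, i < 80647 → P i := stepQ 80646 Q80646 (allL N80646 (tt N67117 (iv1 F354526)) (tt N111762 (iv0 F477844)) (tt N47540 F270129) (tt N112044 (iv3 F479230)) (tt N71175 F354521) (tt N47019 F270130) (tt N46772 (iv6 D172053)) (tt N54332 F270131))
theorem Q80648 : ∀ i, i < 80648 → P i := stepQ 80647 Q80647 (allL N80647 (tt N47175 (iv1 F270138)) (tt N46773 (iv0 D172054)) (tt N47177 (iv2 F270134)) (tt N54244 F270132) (tt N46887 F270133) (tt N90638 (iv5 F390349)) (tt N47022 F270136) (tt N46884 F270137))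
theorem Q80649 : ∀ i, i < 80649 → P i := stepQ 80648 Q80648 (allL N80648 (tt N54992 (iv1 F337148)) (tt N54921 F337134) (tt N54989 F346770) (tt N46774 F270145) (tt N53414 (iv4 F337131)) (tt N46773 (iv5 D172056)) (tt N66918 (iv6 F354127)) (tt N47607 F270146))
theorem Q80650 : ∀ i, i < 80650 → P i := stepQ 80649 Q80649 (allL N80649 (tt N71337 F357877) (tt N81062 F357881) (tt N47603 F270156) (tt N66918 F354138) (tt N53413 (iv4 F357915)) (tt N79487 (iv5 F302454)) (tt N46774 (iv6 D172060)) (tt N67024 (iv7 F354140)))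
theorem Q80651 : ∀ i, i < 80651 → P i := stepQ 80650 Q80650 (allL N80650 (tt N91830 (iv1 F394584)) (tt N46778 (iv0 D172085)) (tt N89886 (iv2 F387873)) (tt N55529 (iv3 F387876)) (tt N112045 D215289) (tt N55528 F387874) (tt N112046 D215290) (tt N89884 F387875))
theorem Q80652 : ∀ i, i < 80652 → P i := stepQ 80651 Q80651 (allL N80651 (tt N46778 (iv1 D172086)) (tt N91830 F394583) (tt N89884 (iv2 F387862)) (tt N91286 (iv3 F392553)) (tt N112047 D215291) (tt N87053 (iv5 F378201)) (tt N111977 (iv6 F478945)) (tt N89886 (iv7 F387870)))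
theorem Q80653 : ∀ i, i < 80653 → P i := stepQ 80652 Q80652 (allL N80652 (tt N89886 (iv1 F387871)) (tt N89884 (iv0 F387864)) (tt N46778 (iv2 D172087)) (tt N47618 F270225) (tt N100913 (iv4 F430937)) (tt N87873 (iv5 F380924)) (tt N46783 F270226) (tt N91830 (iv7 F394582)))
theorem Q80654 : ∀ i, i < 80654 → P i := stepQ 80653 Q80653 (allL N80653 (tt N88299 F382497) (tt N112048 D215292) (tt N87873 (iv2 F380921)) (tt N46779 F270227) (tt N49677 F356199) (tt N46778 (iv5 D172088)) (tt N86279 (iv6 F375661)) (tt N112049 D215293))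
theorem Q80655 : ∀ i, i < 80655 → P i := stepQ 80654 Q80654 (allL N80654 (tt N89884 (iv1 F387865)) (tt N89886 (iv0 F387872)) (tt N91830 (iv2 F394580)) (tt N46780 F270228) (tt N47873 F302359) (tt N112049 (iv5 F479259)) (tt N80925 F302360) (tt N46778 (iv7 D172089)))
theorem Q80656 : ∀ i, i < 80656 → P i := stepQ 80655 Q80655 (allL N80655 (tt N47621 (iv1 F270245)) (tt N47620 F270246) (tt N47599 F270242) (tt N112049 (iv3 F479257)) (tt N47552 F270243) (tt N46780 F270244) (tt N86235 (iv6 F375501)) (tt N46779 (iv7 D172094)))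
theorem Q80657 : ∀ i, i < 80657 → P i := stepQ 80656 Q80656 (allL N80656 (tt N102140 (iv1 F435911)) (tt N55560 (iv0 F362563)) (tt N86958 (iv2 F377853)) (tt N46781 (iv3 D172096)) (tt N78398 F270248) (tt N86879 (iv5 F377574)) (tt N111475 (iv6 F476517)) (tt N86961 (iv7 F377867)))
theorem Q80658 : ∀ i, i < 80658 → P i := stepQ 80657 Q80657 (allL N80657 (tt N96361 (iv1 F412230)) (tt N96360 F412236) (tt N96363 (iv2 F412232)) (tt N96648 (iv3 F413322)) (tt N46781 (iv4 D172097)) (tt N112050 D215294) (tt N96615 (iv6 F413188)) (tt N96355 F412210))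
theorem Q80659 : ∀ i, i < 80659 → P i := stepQ 80658 Q80658 (allL N80658 (tt N54896 (iv1 F270253)) (tt N54895 F270254) (tt N46784 F270250) (tt N47658 F270251) (tt N112051 D215295) (tt N46783 (iv5 D172105)) (tt N87872 F380919) (tt N54897 F270252))
theorem Q80660 : ∀ i, i < 80660 → P i := stepQ 80659 Q80659 (allL N80659 (tt N54897 (iv1 F270255)) (tt N46784 (iv0 D172106)) (tt N54896 F413686) (tt N88296 F415867) (tt N112052 D215296) (tt N78495 F413687) (tt N112053 D215297) (tt N54895 F413688))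
theorem Q80661 : ∀ i, i < 80661 → P i := stepQ 80660 Q80660 (allL N80660 (tt N46784 (iv1 D172107)) (tt N54897 F270256) (tt N54895 F413678) (tt N96741 (iv3 F413712)) (tt N112054 D215298) (tt N78496 F365634) (tt N112055 D215299) (tt N54896 F413679))
theorem Q80662 : ∀ i, i < 80662 → P i := stepQ 80661 Q80661 (allL N80661 (tt N112056 D215300) (tt N112057 D215301) (tt N112051 (iv2 F479263)) (tt N49277 F294677) (tt N46784 (iv4 D172108)) (tt N86546 (iv5 F376467)) (tt N112058 D215302) (tt N54890 F270258))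
theorem Q80663 : ∀ i, i < 80663 → P i := stepQ 80662 Q80662 (allL N80662 (tt N86572 F376514) (tt N108635 (iv0 F463303)) (tt N87872 (iv2 F380915)) (tt N46785 F270259) (tt N112058 (iv4 F479292)) (tt N86279 (iv5 F375660)) (tt N46784 (iv6 D172109)) (tt N112059 D215303))
theorem Q80664 : ∀ i, i < 80664 → P i := stepQ 80663 Q80663 (allL N80663 (tt N46785 (iv1 D172111)) (tt N47671 F270260) (tt N47670 F365438) (tt N84687 (iv3 F370229)) (tt N83806 F364461) (tt N84686 F370225) (tt N112060 D215304) (tt N47669 F365439))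
theorem Q80665 : ∀ i, i < 80665 → P i := stepQ 80664 Q80664 (allL N80664 (tt N47670 (iv1 F270265)) (tt N47669 F270266) (tt N47671 F270261) (tt N112059 (iv3 F479296)) (tt N49860 F270262) (tt N49556 (iv5 F364442)) (tt N54900 F270263) (tt N46785 (iv7 D172112)))
theorem Q80666 : ∀ i, i < 80666 → P i := stepQ 80665 Q80665 (allL N80665 (tt N69207 (iv1 F336066)) (tt N46786 (iv0 D172113)) (tt N69209 F336062) (tt N47509 F336063) (tt N79435 (iv4 F354964)) (tt N54752 F336064) (tt N94180 (iv6 F403579)) (tt N47499 F336065))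
theorem Q80667 : ∀ i, i < 80667 → P i := stepQ 80666 Q80666 (allL N80666 (tt N47499 F330900) (tt N69209 F330964) (tt N69207 (iv2 F336057)) (tt N95475 (iv3 F408329)) (tt N109008 (iv4 F464889)) (tt N68242 (iv5 F330901)) (tt N109008 (iv6 F464891)) (tt N46786 (iv7 D172116)))
theorem Q80668 : ∀ i, i < 80668 → P i := stepQ 80667 Q80667 (allL N80667 (tt N65416 (iv1 F339282)) (tt N65412 (iv0 F353898)) (tt N82364 (iv2 F353887)) (tt N46791 (iv3 D172152)) (tt N53537 F354006) (tt N94954 (iv5 F406492)) (tt N104863 (iv6 F447683)) (tt N46825 F314492))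
theorem Q80669 : ∀ i, i < 80669 → P i := stepQ 80668 Q80668 (allL N80668 (tt N88492 F383272) (tt N100154 (iv0 F427737)) (tt N46824 F314497) (tt N104863 (iv3 F447682)) (tt N66430 F345595) (tt N80794 F303502) (tt N46791 (iv6 D172155)) (tt N102837 (iv7 F438877)))
theorem Q80670 : ∀ i, i < 80670 → P i := stepQ 80669 Q80669 (allL N80669 (tt N95840 (iv1 F409885)) (tt N95787 F409652) (tt N60100 F353941) (tt N55175 (iv3 F353935)) (tt N90422 (iv4 F389589)) (tt N46792 (iv5 D172163)) (tt N109289 (iv6 F466210)) (tt N55174 F353942))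
theorem Q80671 : ∀ i, i < 80671 → P i := stepQ 80670 Q80670 (allL N80670 (tt N82588 (iv1 F348517)) (tt N109234 (iv0 F465906)) (tt N109236 F465919) (tt N47582 F348514) (tt N78718 F348515) (tt N100622 F429748) (tt N46792 (iv6 D172164)) (tt N109237 (iv7 F465922)))
theorem Q80672 : ∀ i, i < 80672 → P i := stepQ 80671 Q80671 (allL N80671 (tt N105685 F451244) (tt N79442 (iv0 F363180)) (tt N109023 F464982) (tt N75759 (iv3 F353669)) (tt N75202 F353664) (tt N95839 (iv5 F409881)) (tt N46793 (iv6 D172169)) (tt N75756 F358632))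
theorem Q80673 : ∀ i, i < 80673 → P i := stepQ 80672 Q80672 (allL N80672 (tt N111092 F474627) (tt N46794 (iv0 D172170)) (tt N102279 (iv2 F436523)) (tt N52070 (iv3 F366901)) (tt N90428 (iv4 F389613)) (tt N80761 F366900) (tt N102278 F436522) (tt N91857 (iv7 F394728)))
theorem Q80674 : ∀ i, i < 80674 → P i := stepQ 80673 Q80673 (allL N80673 (tt N91857 (iv1 F394730)) (tt N102279 (iv0 F436528)) (tt N111092 (iv2 F474621)) (tt N65148 (iv3 F348640)) (tt N52980 F361720) (tt N46795 F270332) (tt N46846 F303453) (tt N46794 (iv7 D172173)))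
theorem Q80675 : ∀ i, i < 80675 → P i := stepQ 80674 Q80674 (allL N80674 (tt N51948 F335747) (tt N51915 F364382) (tt N49544 F270401) (tt N49538 F270402) (tt N46798 F270403) (tt N112061 D215305) (tt N46797 (iv6 D172207)) (tt N49667 F364384))
theorem Q80676 : ∀ i, i < 80676 → P i := stepQ 80675 Q80675 (allL N80675 (tt N52507 F353222) (tt N52511 F353223) (tt N52757 F270414) (tt N46800 F270415) (tt N52391 F270416) (tt N112062 D215306) (tt N46799 (iv6 D172212)) (tt N87222 (iv7 F378808)))
theorem Q80677 : ∀ i, i < 80677 → P i := stepQ 80676 Q80676 (allL N80676 (tt N46800 (iv1 D172214)) (tt N49541 F270417) (tt N49286 F289547) (tt N49572 (iv3 F337271)) (tt N49928 F289549) (tt N90734 (iv5 F390686)) (tt N83223 (iv6 F340540)) (tt N49539 (iv7 F335744)))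
theorem Q80678 : ∀ i, i < 80678 → P i := stepQ 80677 Q80677 (allL N80677 (tt N49750 F357539) (tt N89894 (iv0 F387897)) (tt N49540 F270418) (tt N112062 (iv3 F479312)) (tt N112063 D215307) (tt N46800 (iv5 D172215)) (tt N88477 (iv6 F383212)) (tt N90813 (iv7 F390946)))
theorem Q80679 : ∀ i, i < 80679 → P i := stepQ 80678 Q80678 (allL N80678 (tt N49286 F335746) (tt N49539 F270423) (tt N49541 F270419) (tt N87222 (iv3 F378806)) (tt N84581 (iv4 F369760)) (tt N90813 (iv5 F390947)) (tt N49411 F335734) (tt N46800 (iv7 D172216)))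
theorem Q80680 : ∀ i, i < 80680 → P i := stepQ 80679 Q80679 (allL N80679 (tt N86294 (iv1 F375725)) (tt N53910 (iv0 F270427)) (tt N46804 F270424) (tt N49577 F270425) (tt N91782 (iv4 F394391)) (tt N46801 (iv5 D172217)) (tt N54236 F270426) (tt N70510 (iv7 F357392)))
theorem Q80681 : ∀ i, i < 80681 → P i := stepQ 80680 Q80680 (allL N80680 (tt N82987 F285233) (tt N51898 (iv0 F270430)) (tt N51744 (iv2 F270481)) (tt N49556 F270429) (tt N46802 (iv4 D172219)) (tt N112059 (iv5 F479297)) (tt N90786 (iv6 F390863)) (tt N86279 (iv7 F375662)))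
theorem Q80682 : ∀ i, i < 80682 → P i := stepQ 80681 Q80681 (allL N80681 (tt N70968 F361762) (tt N52167 F361765) (tt N86292 (iv2 F375718)) (tt N58227 (iv3 F327600)) (tt N68201 F365734) (tt N46802 (iv5 D172220)) (tt N96593 (iv6 F413119)) (tt N69801 (iv7 F365637)))
theorem Q80683 : ∀ i, i < 80683 → P i := stepQ 80682 Q80682 (allL N80682 (tt N83223 (iv1 F363551)) (tt N53046 (iv0 F361763)) (tt N86293 (iv2 F375721)) (tt N72606 (iv3 F329816)) (tt N90786 (iv4 F390862)) (tt N85384 (iv5 F372436)) (tt N46802 (iv6 D172221)) (tt N87673 (iv7 F380104)))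
theorem Q80684 : ∀ i, i < 80684 → P i := stepQ 80683 Q80683 (allL N80683 (tt N52485 F270439) (tt N53032 (iv0 F270438)) (tt N80549 F270435) (tt N46803 (iv3 D172223)) (tt N52675 F270436) (tt N112064 D215308) (tt N96849 (iv6 F414243)) (tt N82943 (iv7 F284880)))
theorem Q80685 : ∀ i, i < 80685 → P i := stepQ 80684 Q80684 (allL N80684 (tt N52167 F357560) (tt N70968 (iv0 F345497)) (tt N69801 (iv2 F365636)) (tt N112064 (iv3 F479318)) (tt N109153 (iv4 F465594)) (tt N46803 (iv5 D172224)) (tt N112065 D215309) (tt N86292 (iv7 F375719)))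
theorem Q80686 : ∀ i, i < 80686 → P i := stepQ 80685 Q80685 (allL N80685 (tt N49680 F361764) (tt N49670 (iv0 F362410)) (tt N49677 (iv2 F356202)) (tt N96849 (iv3 F414242)) (tt N87873 (iv4 F380923)) (tt N85479 F372769) (tt N46803 (iv6 D172225)) (tt N49678 (iv7 F356206)))
theorem Q80687 : ∀ i, i < 80687 → P i := stepQ 80686 Q80686 (allL N80686 (tt N70510 (iv1 F361752)) (tt N46804 (iv0 D172226)) (tt N86294 (iv2 F375728)) (tt N59456 (iv3 F361755)) (tt N51437 F361756) (tt N53408 F361754) (tt N51440 F361757) (tt N53910 F361753))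
theorem Q80688 : ∀ i, i < 80688 → P i := stepQ 80687 Q80687 (allL N80687 (tt N46804 (iv1 D172227)) (tt N70510 (iv0 F357391)) (tt N53910 F270494) (tt N112066 D215310) (tt N104822 (iv4 F447461)) (tt N53409 (iv5 F357389)) (tt N106036 (iv6 F452830)) (tt N86294 (iv7 F375726)))
theorem Q80689 : ∀ i, i < 80689 → P i := stepQ 80688 Q80688 (allL N80688 (tt N51360 (iv1 F364705)) (tt N91783 F394400) (tt N91782 F394394) (tt N103430 (iv3 F441594)) (tt N46804 (iv4 D172228)) (tt N112067 D215311) (tt N54252 F270495) (tt N86295 (iv7 F375732)))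
theorem Q80690 : ∀ i, i < 80690 → P i := stepQ 80689 Q80689 (allL N80689 (tt N53559 (iv1 F358078)) (tt N81082 (iv0 F354482)) (tt N80938 (iv2 F272508)) (tt N49642 F298844) (tt N46888 F298845) (tt N67020 F366931) (tt N46809 (iv6 D172241)) (tt N81081 (iv7 F363233)))
theorem Q80691 : ∀ i, i < 80691 → P i := stepQ 80690 Q80690 (allL N80690 (tt N77029 (iv1 F354004)) (tt N78579 (iv0 F344411)) (tt N79758 (iv2 F341654)) (tt N53535 F270504) (tt N46811 F270505) (tt N79751 (iv5 F341666)) (tt N46810 (iv6 D172242)) (tt N78543 F354005))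
theorem Q80692 : ∀ i, i < 80692 → P i := stepQ 80691 Q80691 (allL N80691 (tt N70551 F344414) (tt N104416 (iv0 F445662)) (tt N67898 F354044) (tt N46815 F270506) (tt N92175 (iv4 F396093)) (tt N46811 (iv5 D172245)) (tt N46813 F270507) (tt N81058 F339478))
theorem Q80693 : ∀ i, i < 80693 → P i := stepQ 80692 Q80692 (allL N80692 (tt N80721 F270663) (tt N90522 (iv0 F389946)) (tt N80952 (iv2 F362736)) (tt N109913 (iv3 F469186)) (tt N50284 (iv4 F362737)) (tt N46814 (iv5 D172263)) (tt N50237 F362735) (tt N80955 (iv7 F366703)))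
theorem Q80694 : ∀ i, i < 80694 → P i := stepQ 80693 Q80693 (allL N80693 (tt N53575 (iv1 F274983)) (tt N81089 (iv0 F273377)) (tt N80953 F338111) (tt N104238 (iv3 F444868)) (tt N49661 (iv4 F271106)) (tt N80713 F270640) (tt N46814 (iv6 D172264)) (tt N81087 (iv7 F338113)))
theorem Q80695 : ∀ i, i < 80695 → P i := stepQ 80694 Q80694 (allL N80694 (tt N67812 (iv1 F339472)) (tt N46815 (iv0 D172270)) (tt N70552 (iv2 F344094)) (tt N104416 (iv3 F445663)) (tt N104758 (iv4 F447134)) (tt N54354 (iv5 F271103)) (tt N93772 (iv6 F401846)) (tt N54353 F271104))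
theorem Q80696 : ∀ i, i < 80696 → P i := stepQ 80695 Q80695 (allL N80695 (tt N54353 (iv1 F270520)) (tt N70552 (iv0 F344092)) (tt N67812 (iv2 F339473)) (tt N81058 (iv3 F339476)) (tt N56172 F339457) (tt N46816 F270519) (tt N67811 F339470) (tt N46815 (iv7 D172273)))
theorem Q80697 : ∀ i, i < 80697 → P i := stepQ 80696 Q80696 (allL N80696 (tt N81080 F275035) (tt N53561 F275041) (tt N49647 (iv2 F270626)) (tt N75843 F348439) (tt N49402 F270624) (tt N80716 (iv5 F270652)) (tt N46819 (iv6 D172299)) (tt N81079 (iv7 F273364)))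
theorem Q80698 : ∀ i, i < 80698 → P i := stepQ 80697 Q80697 (allL N80697 (tt N53749 F347431) (tt N70543 F366863) (tt N64386 F270556) (tt N76938 F270557) (tt N46822 F270558) (tt N112068 D215312) (tt N46821 (iv6 D172314)) (tt N70521 F363860))
theorem Q80699 : ∀ i, i < 80699 → P i := stepQ 80698 Q80698 (allL N80698 (tt N66433 F348184) (tt N66239 (iv0 F348189)) (tt N66430 F345594) (tt N74356 (iv3 F364970)) (tt N46824 F270586) (tt N68064 F331929) (tt N46823 (iv6 D172354)) (tt N66431 (iv7 F359065)))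
theorem Q80700 : ∀ i, i < 80700 → P i := stepQ 80699 Q80699 (allL N80699 (tt N53539 (iv1 F310670)) (tt N53534 (iv0 F312610)) (tt N53536 (iv2 F344417)) (tt N52825 (iv3 F304715)) (tt N46825 (iv4 D172368)) (tt N112069 D215313) (tt N109779 (iv6 F468576)) (tt N53537 (iv7 F354007)))
theorem Q80701 : ∀ i, i < 80701 → P i := stepQ 80700 Q80700 (allL N80700 (tt N81336 (iv1 F343035)) (tt N91304 (iv0 F392636)) (tt N60068 (iv2 F362441)) (tt N52826 F362442) (tt N91454 (iv4 F393199)) (tt N46826 (iv5 D172371)) (tt N60066 F362443) (tt N82350 F362444))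
theorem Q80702 : ∀ i, i < 80702 → P i := stepQ 80701 Q80701 (allL N80701 (tt N100534 F429375) (tt N100146 (iv0 F427691)) (tt N102803 F438710) (tt N52827 (iv3 F366896)) (tt N46828 F270600) (tt N81271 F364914) (tt N46826 (iv6 D172372)) (tt N102804 (iv7 F438713)))
theorem Q80703 : ∀ i, i < 80703 → P i := stepQ 80702 Q80702 (allL N80702 (tt N82339 (iv1 F347486)) (tt N46829 (iv0 D172389)) (tt N82369 F348557) (tt N59864 (iv3 F347484)) (tt N82376 F347483) (tt N112070 D215314) (tt N59862 F361712) (tt N82370 (iv7 F348558)))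
theorem Q80704 : ∀ i, i < 80704 → P i := stepQ 80703 Q80703 (allL N80703 (tt N46829 (iv1 D172390)) (tt N82339 (iv0 F348564)) (tt N82370 (iv2 F348579)) (tt N87008 (iv3 F378036)) (tt N82519 F348561) (tt N81555 (iv5 F348560)) (tt N78753 (iv6 F348562)) (tt N82369 F348559))
theorem Q80705 : ∀ i, i < 80705 → P i := stepQ 80704 Q80704 (allL N80704 (tt N66966 F340243) (tt N66963 F340244) (tt N68026 F340238) (tt N80532 F270608) (tt N46831 F270609) (tt N68017 (iv5 F340237)) (tt N46830 (iv6 D172395)) (tt N68025 F340242))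
theorem Q80706 : ∀ i, i < 80706 → P i := stepQ 80705 Q80705 (allL N80705 (tt N83191 F332032) (tt N76027 (iv0 F343498)) (tt N110510 (iv2 F471911)) (tt N46833 F270612) (tt N68025 F334230) (tt N75486 (iv5 F340221)) (tt N46885 F340220) (tt N46831 (iv7 D172399)))
theorem Q80707 : ∀ i, i < 80707 → P i := stepQ 80706 Q80706 (allL N80706 (tt N54345 (iv1 F270637)) (tt N46832 (iv0 D172400)) (tt N88465 F383161) (tt N103134 (iv3 F440228)) (tt N54327 (iv4 F273769)) (tt N54396 F270613) (tt N89203 (iv6 F385568)) (tt N84140 (iv7 F368283)))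
theorem Q80708 : ∀ i, i < 80708 → P i := stepQ 80707 Q80707 (allL N80707 (tt N81422 (iv1 F287000)) (tt N80301 (iv0 F304829)) (tt N88466 (iv2 F383165)) (tt N54766 F365502) (tt N46832 (iv4 D172402)) (tt N107491 (iv5 F458508)) (tt N47068 F270634) (tt N90488 (iv7 F389816)))
theorem Q80709 : ∀ i, i < 80709 → P i := stepQ 80708 Q80708 (allL N80708 (tt N84140 (iv1 F368285)) (tt N88465 F383162) (tt N54345 F270635) (tt N75486 (iv3 F340236)) (tt N90488 (iv4 F389814)) (tt N46833 F270636) (tt N75483 (iv6 F357768)) (tt N46832 (iv7 D172403)))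
theorem Q80710 : ∀ i, i < 80710 → P i := stepQ 80709 Q80709 (allL N80709 (tt N46882 F315042) (tt N88641 F383674) (tt N47191 F313109) (tt N46835 (iv3 D172410)) (tt N47180 F313110) (tt N76901 F348693) (tt N81534 F313111) (tt N47189 (iv7 F314174)))
theorem Q80711 : ∀ i, i < 80711 → P i := stepQ 80710 Q80710 (allL N80710 (tt N92653 (iv1 F397777)) (tt N81088 F274819) (tt N54432 F274818) (tt N76901 (iv3 F348696)) (tt N55820 F334807) (tt N46835 (iv5 D172412)) (tt N98502 (iv6 F421146)) (tt N54426 (iv7 F274828)))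
theorem Q80712 : ∀ i, i < 80712 → P i := stepQ 80711 Q80711 (allL N80711 (tt N68449 F337631) (tt N46839 F274806) (tt N54433 F274807) (tt N81534 F337629) (tt N47457 (iv4 F272770)) (tt N80960 (iv5 F272769)) (tt N46835 (iv6 D172413)) (tt N68484 F342034))
theorem Q80713 : ∀ i, i < 80713 → P i := stepQ 80712 Q80712 (allL N80712 (tt N75484 (iv1 F357766)) (tt N46836 (iv0 D172414)) (tt N88476 F383208) (tt N73958 F346288) (tt N47476 (iv4 F272776)) (tt N89459 (iv5 F386572)) (tt N61287 F359838) (tt N85796 (iv7 F373986)))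
theorem Q80714 : ∀ i, i < 80714 → P i := stepQ 80713 Q80713 (allL N80713 (tt N46836 (iv1 D172415)) (tt N75484 (iv0 F357761)) (tt N85796 (iv2 F373982)) (tt N112071 D215315) (tt N47477 (iv4 F273884)) (tt N80693 (iv5 F270640)) (tt N48622 F326544) (tt N88476 (iv7 F383210)))
theorem Q80715 : ∀ i, i < 80715 → P i := stepQ 80714 Q80714 (allL N80714 (tt N80883 (iv1 F274516)) (tt N50076 (iv0 F324792)) (tt N81404 F274971) (tt N90768 (iv3 F390779)) (tt N46836 (iv4 D172416)) (tt N92621 (iv5 F397663)) (tt N47072 F270641) (tt N81403 F274969))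
theorem Q80716 : ∀ i, i < 80716 → P i := stepQ 80715 Q80715 (allL N80715 (tt N85796 (iv1 F373988)) (tt N88476 F383209) (tt N75484 F357764) (tt N100310 (iv3 F428376)) (tt N81403 (iv4 F274967)) (tt N46837 F270642) (tt N75482 (iv6 F357765)) (tt N46836 (iv7 D172417)))
theorem Q80717 : ∀ i, i < 80717 → P i := stepQ 80716 Q80716 (allL N80716 (tt N46841 (iv1 F270656)) (tt N46838 (iv0 D172430)) (tt N84146 (iv2 F368323)) (tt N103278 (iv3 F440948)) (tt N67173 F345382) (tt N80696 F270652) (tt N109287 (iv6 F466196)) (tt N67276 F354764))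
theorem Q80718 : ∀ i, i < 80718 → P i := stepQ 80717 Q80717 (allL N80717 (tt N67451 F345748) (tt N79706 F345749) (tt N88903 (iv2 F384490)) (tt N67376 (iv3 F362189)) (tt N46838 (iv4 D172432)) (tt N67374 F345750) (tt N48293 F345751) (tt N88914 (iv7 F384521)))
theorem Q80719 : ∀ i, i < 80719 → P i := stepQ 80718 Q80718 (allL N80718 (tt N68484 F337623) (tt N54433 F272692) (tt N68449 F337626) (tt N68465 (iv3 F337624)) (tt N64893 (iv4 F310426)) (tt N47102 (iv5 F272690)) (tt N54352 F272688) (tt N46839 (iv7 D172438)))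
theorem Q80720 : ∀ i, i < 80720 → P i := stepQ 80719 Q80719 (allL N80719 (tt N79706 F333043) (tt N67451 F333037) (tt N88914 (iv2 F384520)) (tt N65606 F362308) (tt N46841 (iv4 D172444)) (tt N67438 F333038) (tt N65605 (iv6 F334372)) (tt N88903 (iv7 F384493)))
theorem Q80721 : ∀ i, i < 80721 → P i := stepQ 80720 Q80720 (allL N80720 (tt N54352 (iv1 F272685)) (tt N46842 (iv0 D172446)) (tt N54354 (iv2 F272679)) (tt N70553 F344090) (tt N53372 (iv4 F272680)) (tt N70552 (iv5 F344096)) (tt N54379 F272682) (tt N53367 (iv7 F272683)))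
theorem Q80722 : ∀ i, i < 80722 → P i := stepQ 80721 Q80721 (allL N80721 (tt N76761 (iv1 F311777)) (tt N80692 (iv0 F270663)) (tt N88916 (iv2 F384527)) (tt N80311 F350912) (tt N85008 (iv4 F371355)) (tt N46842 (iv5 D172448)) (tt N102281 (iv6 F436537)) (tt N111824 (iv7 F478158)))
theorem Q80723 : ∀ i, i < 80723 → P i := stepQ 80722 Q80722 (allL N80722 (tt N53367 (iv1 F272753)) (tt N54354 F272752) (tt N54352 F272686) (tt N68450 F337638) (tt N82290 F344107) (tt N111824 (iv5 F478157)) (tt N68449 (iv6 F337637)) (tt N46842 (iv7 D172449)))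
theorem Q80724 : ∀ i, i < 80724 → P i := stepQ 80723 Q80723 (allL N80723 (tt N60660 (iv1 F327540)) (tt N60659 (iv0 F326203)) (tt N60434 (iv2 F327547)) (tt N67387 (iv3 F362945)) (tt N46843 (iv4 D172452)) (tt N103290 (iv5 F441006)) (tt N60421 (iv6 F362947)) (tt N60623 (iv7 F327545)))
theorem Q80725 : ∀ i, i < 80725 → P i := stepQ 80724 Q80724 (allL N80724 (tt N67359 (iv1 F362253)) (tt N67358 F362265) (tt N67178 (iv2 F362251)) (tt N46845 (iv3 D172461)) (tt N86980 (iv4 F377933)) (tt N67177 (iv5 F362252)) (tt N46863 F270670) (tt N67357 F362249))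
theorem Q80726 : ∀ i, i < 80726 → P i := stepQ 80725 Q80725 (allL N80725 (tt N67333 (iv1 F345381)) (tt N67332 (iv0 F345380)) (tt N65616 F332679) (tt N67357 (iv3 F362247)) (tt N46846 F270671) (tt N53031 F345383) (tt N52980 F361721) (tt N46845 (iv7 D172463)))
theorem Q80727 : ∀ i, i < 80727 → P i := stepQ 80726 Q80726 (allL N80726 (tt N46854 (iv1 F270686)) (tt N46848 (iv0 D172487)) (tt N47519 (iv2 F270687)) (tt N48252 F323362) (tt N47012 F270685) (tt N47519 F270684) (tt N65574 (iv6 F343347)) (tt N80373 (iv7 F303719)))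
theorem Q80728 : ∀ i, i < 80728 → P i := stepQ 80727 Q80727 (allL N80727 (tt N65513 F345730) (tt N65651 F345729) (tt N65647 (iv2 F345731)) (tt N46848 (iv3 D172489)) (tt N95350 (iv4 F407958)) (tt N65714 (iv5 F345727)) (tt N66584 F345728) (tt N65649 F345725))
theorem Q80729 : ∀ i, i < 80729 → P i := stepQ 80728 Q80728 (allL N80728 (tt N67761 (iv1 F342317)) (tt N67754 F337059) (tt N46853 F270699) (tt N80362 (iv3 F342319)) (tt N107275 (iv4 F457751)) (tt N102266 (iv5 F436456)) (tt N46852 (iv6 D172497)) (tt N67759 (iv7 F342314)))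
theorem Q80730 : ∀ i, i < 80730 → P i := stepQ 80729 Q80729 (allL N80729 (tt N67759 (iv1 F342320)) (tt N46853 (iv0 D172502)) (tt N67761 (iv2 F342315)) (tt N97383 (iv3 F416627)) (tt N72707 F363407) (tt N88463 (iv5 F383152)) (tt N94123 (iv6 F403315)) (tt N67754 F342316))
theorem Q80731 : ∀ i, i < 80731 → P i := stepQ 80730 Q80730 (allL N80730 (tt N79516 F354771) (tt N111011 (iv0 F474240)) (tt N80374 F363869) (tt N56980 F354769) (tt N46855 F270702) (tt N102135 (iv5 F435893)) (tt N46854 (iv6 D172506)) (tt N56978 (iv7 F354770)))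
theorem Q80732 : ∀ i, i < 80732 → P i := stepQ 80731 Q80731 (allL N80731 (tt N80378 (iv1 F354775)) (tt N46855 (iv0 D172507)) (tt N80375 F354783) (tt N47783 F349882) (tt N111972 (iv4 F478915)) (tt N72131 (iv5 F349883)) (tt N109288 F466205) (tt N80376 F354778))
theorem Q80733 : ∀ i, i < 80733 → P i := stepQ 80732 Q80732 (allL N80732 (tt N46855 (iv1 D172508)) (tt N80378 F354786) (tt N80376 (iv2 F354782)) (tt N103449 (iv3 F441686)) (tt N67277 F354768) (tt N89203 (iv5 F385570)) (tt N67276 (iv6 F354767)) (tt N80375 (iv7 F354784)))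
theorem Q80734 : ∀ i, i < 80734 → P i := stepQ 80733 Q80733 (allL N80733 (tt N102276 F436508) (tt N78629 (iv0 F345765)) (tt N66030 F344715) (tt N46859 F270708) (tt N91863 (iv4 F394751)) (tt N79490 F345766) (tt N46857 (iv6 D172517)) (tt N80773 (iv7 F345767)))
theorem Q80735 : ∀ i, i < 80735 → P i := stepQ 80734 Q80734 (allL N80734 (tt N60627 (iv1 F345764)) (tt N60638 (iv0 F334680)) (tt N60544 F345733) (tt N102106 (iv3 F435752)) (tt N46859 F270710) (tt N111972 (iv5 F478914)) (tt N46858 (iv6 D172519)) (tt N60637 (iv7 F355860)))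
theorem Q80736 : ∀ i, i < 80736 → P i := stepQ 80735 Q80735 (allL N80735 (tt N111832 (iv1 F478204)) (tt N86932 (iv0 F377753)) (tt N111831 (iv2 F478199)) (tt N46861 (iv3 D172536)) (tt N109624 (iv4 F467798)) (tt N80191 (iv5 F355918)) (tt N80227 F355914) (tt N111015 (iv7 F474265)))
theorem Q80737 : ∀ i, i < 80737 → P i := stepQ 80736 Q80736 (allL N80736 (tt N81753 F342132) (tt N81756 (iv0 F355906)) (tt N81209 F355911) (tt N80227 (iv3 F355908)) (tt N52834 F270723) (tt N79516 F355907) (tt N46861 (iv6 D172537)) (tt N81206 (iv7 F355909)))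
theorem Q80738 : ∀ i, i < 80738 → P i := stepQ 80737 Q80737 (allL N80737 (tt N100801 F430539) (tt N100800 (iv0 F430533)) (tt N111840 (iv2 F478246)) (tt N46862 (iv3 D172538)) (tt N75493 F352250) (tt N80748 (iv5 F270744)) (tt N100682 (iv6 F429988)) (tt N102339 (iv7 F436797)))
theorem Q80739 : ∀ i, i < 80739 → P i := stepQ 80738 Q80738 (allL N80738 (tt N86977 (iv1 F377918)) (tt N46863 (iv0 D172540)) (tt N55473 (iv2 F361714)) (tt N80500 F361716) (tt N55472 F361713) (tt N80499 (iv5 F361715)) (tt N93967 (iv6 F402638)) (tt N91980 (iv7 F395216)))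
theorem Q80740 : ∀ i, i < 80740 → P i := stepQ 80739 Q80739 (allL N80739 (tt N55473 (iv1 F374555)) (tt N91980 (iv0 F395217)) (tt N46863 (iv2 D172542)) (tt N67180 (iv3 F362268)) (tt N85946 F374554) (tt N103240 (iv5 F440730)) (tt N67178 F362267) (tt N86977 (iv7 F377916)))
theorem Q80741 : ∀ i, i < 80741 → P i := stepQ 80740 Q80740 (allL N80740 (tt N88684 (iv1 F383881)) (tt N88683 F383879) (tt N67336 (iv2 F347465)) (tt N102080 (iv3 F435630)) (tt N78567 F270729) (tt N67331 F361717) (tt N46864 (iv6 D172545)) (tt N83986 (iv7 F367722)))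
theorem Q80742 : ∀ i, i < 80742 → P i := stepQ 80741 Q80741 (allL N80741 (tt N52828 F344410) (tt N60071 F351718) (tt N80476 F351704) (tt N46865 (iv3 D172550)) (tt N79364 (iv4 F340796)) (tt N106223 (iv5 F453635)) (tt N79363 (iv6 F351648)) (tt N80449 F351705))
theorem Q80743 : ∀ i, i < 80743 → P i := stepQ 80742 Q80742 (allL N80742 (tt N111012 F474248) (tt N52833 (iv0 F357801)) (tt N82068 (iv2 F363228)) (tt N106223 (iv3 F453632)) (tt N101494 (iv4 F433134)) (tt N46865 (iv5 D172552)) (tt N63550 F363229) (tt N101526 (iv7 F433257)))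
theorem Q80744 : ∀ i, i < 80744 → P i := stepQ 80743 Q80743 (allL N80743 (tt N94074 (iv1 F403087)) (tt N94040 (iv0 F402931)) (tt N46868 F270741) (tt N81277 (iv3 F274101)) (tt N100893 (iv4 F430873)) (tt N80854 (iv5 F344426)) (tt N46866 (iv6 D172560)) (tt N94073 (iv7 F403078)))
theorem Q80745 : ∀ i, i < 80745 → P i := stepQ 80744 Q80744 (allL N80744 (tt N46867 (iv1 D172562)) (tt N96491 F412741) (tt N95783 (iv2 F409616)) (tt N80398 (iv3 F348178)) (tt N81959 F348180) (tt N80877 (iv5 F340664)) (tt N100670 (iv6 F429937)) (tt N80876 F340663))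
theorem Q80746 : ∀ i, i < 80746 → P i := stepQ 80745 Q80745 (allL N80745 (tt N111813 (iv1 F478110)) (tt N111711 (iv0 F477609)) (tt N111857 (iv2 F478333)) (tt N72904 F352241) (tt N46867 (iv4 D172563)) (tt N99321 F424090) (tt N72901 (iv6 F352239)) (tt N111093 (iv7 F474629)))
theorem Q80747 : ∀ i, i < 80747 → P i := stepQ 80746 Q80746 (allL N80746 (tt N94073 (iv1 F403077)) (tt N46868 (iv0 D172565)) (tt N94074 (iv2 F403081)) (tt N100144 (iv3 F427678)) (tt N105740 (iv4 F451482)) (tt N71358 F348183) (tt N100304 F428344) (tt N94040 (iv7 F402930)))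
theorem Q80748 : ∀ i, i < 80748 → P i := stepQ 80747 Q80747 (allL N80747 (tt N94040 (iv1 F402932)) (tt N94074 F403086) (tt N94073 (iv2 F403080)) (tt N46871 F270743) (tt N100654 (iv4 F429861)) (tt N80834 (iv5 F271855)) (tt N104810 (iv6 F447404)) (tt N46868 (iv7 D172567)))
theorem Q80749 : ∀ i, i < 80749 → P i := stepQ 80748 Q80748 (allL N80748 (tt N97430 F416866) (tt N48449 F366175) (tt N97526 (iv2 F417254)) (tt N46869 (iv3 D172568)) (tt N72904 (iv4 F352242)) (tt N80737 F270744) (tt N72902 F359818) (tt N111095 (iv7 F474639)))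
theorem Q80750 : ∀ i, i < 80750 → P i := stepQ 80749 Q80749 (allL N80749 (tt N95789 F409662) (tt N95785 (iv0 F409633)) (tt N92047 (iv2 F395528)) (tt N72902 (iv3 F352238)) (tt N46870 F270745) (tt N112072 D215316) (tt N46869 (iv6 D172569)) (tt N97532 (iv7 F417279)))
theorem Q80751 : ∀ i, i < 80751 → P i := stepQ 80750 Q80750 (allL N80750 (tt N46870 (iv1 D172571)) (tt N65424 F360742) (tt N65167 F360727) (tt N60074 F360729) (tt N60440 (iv4 F360726)) (tt N112073 D215317) (tt N65152 (iv6 F360730)) (tt N65423 F360728))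
theorem Q80752 : ∀ i, i < 80752 → P i := stepQ 80751 Q80751 (allL N80751 (tt N65167 F339188) (tt N65423 (iv0 F339187)) (tt N65424 F360732) (tt N58063 F344748) (tt N97532 (iv4 F417278)) (tt N67112 (iv5 F346501)) (tt N81775 F339186) (tt N46870 (iv7 D172572)))
theorem Q80753 : ∀ i, i < 80753 → P i := stepQ 80752 Q80752 (allL N80752 (tt N80841 (iv1 F333745)) (tt N46872 (iv0 D172574)) (tt N80877 (iv2 F357799)) (tt N95784 (iv3 F409625)) (tt N88908 (iv4 F384505)) (tt N95783 (iv5 F409622)) (tt N80870 (iv6 F357800)) (tt N80858 F357798))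
theorem Q80754 : ∀ i, i < 80754 → P i := stepQ 80753 Q80753 (allL N80753 (tt N80877 (iv1 F351632)) (tt N80858 (iv0 F351634)) (tt N46872 (iv2 D172576)) (tt N81267 (iv3 F274058)) (tt N54146 F351630) (tt N88506 (iv5 F383313)) (tt N54144 (iv6 F351608)) (tt N80841 (iv7 F333748)))
theorem Q80755 : ∀ i, i < 80755 → P i := stepQ 80754 Q80754 (allL N80754 (tt N100485 F429119) (tt N112071 (iv0 F479354)) (tt N105173 (iv2 F449105)) (tt N46895 F315043) (tt N77296 F347343) (tt N46882 (iv5 D172783)) (tt N47174 F271054) (tt N88642 (iv7 F383676)))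
theorem Q80756 : ∀ i, i < 80756 → P i := stepQ 80755 Q80755 (allL N80755 (tt N103134 (iv1 F440231)) (tt N103093 (iv0 F440038)) (tt N103132 F440216) (tt N100309 (iv3 F428371)) (tt N91318 (iv4 F392707)) (tt N46883 (iv5 D172787)) (tt N47176 F271055) (tt N103133 (iv7 F440222)))
theorem Q80757 : ∀ i, i < 80757 → P i := stepQ 80756 Q80756 (allL N80756 (tt N90639 (iv1 F390360)) (tt N80134 (iv0 F365702)) (tt N47176 F271056) (tt N54243 F271057) (tt N88186 (iv4 F382083)) (tt N46884 (iv5 D172789)) (tt N103132 (iv6 F440215)) (tt N90638 (iv7 F390353)))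
theorem Q80758 : ∀ i, i < 80758 → P i := stepQ 80757 Q80757 (allL N80757 (tt N100487 F429132) (tt N80295 (iv0 F340217)) (tt N103101 F440080) (tt N63502 F271061) (tt N46885 (iv4 D172792)) (tt N54985 (iv5 F334507)) (tt N68025 F340219) (tt N80639 (iv7 F362756)))
theorem Q80759 : ∀ i, i < 80759 → P i := stepQ 80758 Q80758 (allL N80758 (tt N80295 F343379) (tt N100487 (iv0 F429131)) (tt N80639 (iv2 F362754)) (tt N112074 D215318) (tt N46886 (iv4 D172797)) (tt N54987 F334511) (tt N76905 F343378) (tt N103101 (iv7 F440081)))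
theorem Q80760 : ∀ i, i < 80760 → P i := stepQ 80759 Q80759 (allL N80759 (tt N75341 (iv1 F334517)) (tt N54969 F356289) (tt N75487 (iv2 F334514)) (tt N87470 (iv3 F379449)) (tt N75324 (iv4 F334509)) (tt N46886 (iv5 D172798)) (tt N75468 (iv6 F334516)) (tt N75323 F334513))
theorem Q80761 : ∀ i, i < 80761 → P i := stepQ 80760 Q80760 (allL N80760 (tt N81698 (iv1 F350147)) (tt N46892 (iv0 D172838)) (tt N55179 (iv2 F350142)) (tt N64747 (iv3 F350143)) (tt N64048 (iv4 F350144)) (tt N66817 F350141) (tt N65089 (iv6 F350145)) (tt N77375 (iv7 F350146)))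
theorem Q80762 : ∀ i, i < 80762 → P i := stepQ 80761 Q80761 (allL N80761 (tt N109274 (iv1 F466127)) (tt N79284 F347985) (tt N88644 (iv2 F383684)) (tt N49621 F339571) (tt N46893 (iv4 D172846)) (tt N80672 (iv5 F366900)) (tt N111921 F478663) (tt N88664 (iv7 F383786)))
theorem Q80763 : ∀ i, i < 80763 → P i := stepQ 80762 Q80762 (allL N80762 (tt N109856 F468943) (tt N75459 (iv0 F415440)) (tt N88645 (iv2 F383688)) (tt N97089 F415432) (tt N111921 (iv4 F478660)) (tt N110572 (iv5 F472190)) (tt N46893 (iv6 D172847)) (tt N80912 F363113))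
theorem Q80764 : ∀ i, i < 80764 → P i := stepQ 80763 Q80763 (allL N80763 (tt N46894 (iv1 D172849)) (tt N54240 (iv0 F308345)) (tt N54379 (iv2 F271112)) (tt N76027 (iv3 F343471)) (tt N53383 F271109) (tt N81077 F273356) (tt N54354 (iv6 F271110)) (tt N53378 F271111))
theorem Q80765 : ∀ i, i < 80765 → P i := stepQ 80764 Q80764 (allL N80764 (tt N46930 F271115) (tt N47207 F271116) (tt N47205 F271114) (tt N110574 (iv3 F472196)) (tt N81243 (iv4 F273900)) (tt N46894 (iv5 D172850)) (tt N110572 F472192) (tt N47204 F271681))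
theorem Q80766 : ∀ i, i < 80766 → P i := stepQ 80765 Q80765 (allL N80765 (tt N79284 F347984) (tt N109274 F466126) (tt N88664 (iv2 F383783)) (tt N60102 F334602) (tt N46895 (iv4 D172857)) (tt N79598 (iv5 F334603)) (tt N79277 (iv6 F352333)) (tt N88644 (iv7 F383685)))
theorem Q80767 : ∀ i, i < 80767 → P i := stepQ 80766 Q80766 (allL N80766 (tt N80964 (iv1 F272788)) (tt N80956 (iv0 F338120)) (tt N80965 (iv2 F272790)) (tt N82046 F348509) (tt N53744 (iv4 F272840)) (tt N46896 (iv5 D172866)) (tt N80969 (iv6 F272859)) (tt N53738 (iv7 F272829)))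
theorem Q80768 : ∀ i, i < 80768 → P i := stepQ 80767 Q80767 (allL N80767 (tt N79389 F307886) (tt N47158 F307887) (tt N47162 F271467) (tt N46983 F271468) (tt N66941 F307888) (tt N62774 (iv5 F345663)) (tt N46899 (iv6 D173197)) (tt N63706 F307889))
theorem Q80769 : ∀ i, i < 80769 → P i := stepQ 80768 Q80768 (allL N80768 (tt N79339 (iv1 F318082)) (tt N54311 (iv0 F334217)) (tt N46902 F271471) (tt N76561 F271472) (tt N46904 F271473) (tt N107943 (iv5 F460402)) (tt N46901 (iv6 D173199)) (tt N79423 F271476))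
theorem Q80770 : ∀ i, i < 80770 → P i := stepQ 80769 Q80769 (allL N80769 (tt N79423 (iv1 F271479)) (tt N46902 (iv0 D173200)) (tt N79339 (iv2 F318083)) (tt N54303 F344079) (tt N79336 (iv4 F334246)) (tt N91396 (iv5 F392977)) (tt N68028 (iv6 F346984)) (tt N54311 (iv7 F334221)))
theorem Q80771 : ∀ i, i < 80771 → P i := stepQ 80770 Q80770 (allL N80770 (tt N46902 (iv1 D173201)) (tt N79423 F271480) (tt N54311 (iv2 F334219)) (tt N76074 (iv3 F344044)) (tt N79340 (iv4 F314131)) (tt N90201 (iv5 F388872)) (tt N77613 (iv6 F334216)) (tt N79339 (iv7 F318084)))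
theorem Q80772 : ∀ i, i < 80772 → P i := stepQ 80771 Q80771 (allL N80771 (tt N46907 (iv1 F271504)) (tt N46906 F271505) (tt N46909 F271500) (tt N47079 F271501) (tt N79423 F271502) (tt N95842 (iv5 F409899)) (tt N47182 F271503) (tt N46904 (iv7 D173207)))
theorem Q80773 : ∀ i, i < 80773 → P i := stepQ 80772 Q80772 (allL N80772 (tt N88912 (iv1 F384514)) (tt N95805 (iv0 F409744)) (tt N76745 F271507) (tt N46910 F271508) (tt N81030 (iv4 F337362)) (tt N46905 (iv5 D173210)) (tt N46908 F271509) (tt N104788 (iv7 F447277)))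
theorem Q80774 : ∀ i, i < 80774 → P i := stepQ 80773 Q80773 (allL N80773 (tt N79226 F364967) (tt N97366 (iv0 F416532)) (tt N79760 (iv2 F344718)) (tt N54336 (iv3 F345768)) (tt N91906 (iv4 F394903)) (tt N46906 (iv5 D173213)) (tt N79230 (iv6 F345769)) (tt N80733 F345767))
theorem Q80775 : ∀ i, i < 80775 → P i := stepQ 80774 Q80774 (allL N80774 (tt N47581 F278521) (tt N47589 F278522) (tt N47587 F271519) (tt N54337 (iv3 F355377)) (tt N54348 F346980) (tt N82366 (iv5 F345773)) (tt N46906 (iv6 D173214)) (tt N47586 (iv7 F275788)))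
theorem Q80776 : ∀ i, i < 80776 → P i := stepQ 80775 Q80775 (allL N80775 (tt N56875 (iv1 F337618)) (tt N56874 F358666) (tt N47103 F271527) (tt N81034 (iv3 F346352)) (tt N46910 (iv4 D173222)) (tt N56862 (iv5 F337620)) (tt N46916 F271528) (tt N56873 F337619))
theorem Q80777 : ∀ i, i < 80777 → P i := stepQ 80776 Q80776 (allL N80776 (tt N64436 (iv1 F318099)) (tt N81006 (iv0 F272974)) (tt N47107 F271536) (tt N101902 F434885) (tt N46913 (iv4 D173225)) (tt N81229 (iv5 F273803)) (tt N48331 F330714) (tt N47113 F271537))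
theorem Q80778 : ∀ i, i < 80778 → P i := stepQ 80777 Q80777 (allL N80777 (tt N81006 (iv1 F272975)) (tt N64436 (iv0 F318098)) (tt N47113 F271551) (tt N96348 F412174) (tt N46914 (iv4 D173231)) (tt N81230 (iv5 F273808)) (tt N101871 F434763) (tt N47107 F271552))
theorem Q80779 : ∀ i, i < 80779 → P i := stepQ 80778 Q80778 (allL N80778 (tt N77026 F347504) (tt N101867 F434741) (tt N47114 F271554) (tt N78561 (iv3 F347502)) (tt N101871 (iv4 F434759)) (tt N64094 F347503) (tt N46914 (iv6 D173232)) (tt N90506 (iv7 F389876)))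
theorem Q80780 : ∀ i, i < 80780 → P i := stepQ 80779 Q80779 (allL N80779 (tt N47125 (iv1 F271566)) (tt N46916 (iv0 D173237)) (tt N47121 (iv2 F271564)) (tt N57992 F351062) (tt N46944 F271563) (tt N64580 (iv5 F351063)) (tt N82025 (iv6 F334709)) (tt N47122 (iv7 F271565)))
theorem Q80781 : ∀ i, i < 80781 → P i := stepQ 80780 Q80780 (allL N80780 (tt N46916 (iv1 D173238)) (tt N47125 F271567) (tt N47122 (iv2 F271570)) (tt N107736 (iv3 F459468)) (tt N46945 F271569) (tt N100852 (iv5 F430779)) (tt N57990 F365527) (tt N47121 F271568))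
theorem Q80782 : ∀ i, i < 80782 → P i := stepQ 80781 Q80781 (allL N80781 (tt N96556 (iv1 F412975)) (tt N101121 F431783) (tt N47124 F271571) (tt N80782 (iv3 F346351)) (tt N47156 F271572) (tt N46916 (iv5 D173240)) (tt N101656 (iv6 F433722)) (tt N47154 (iv7 F271573)))
theorem Q80783 : ∀ i, i < 80783 → P i := stepQ 80782 Q80782 (allL N80782 (tt N47122 (iv1 F271577)) (tt N47121 F271578) (tt N47125 F271574) (tt N80781 F346351) (tt N46917 F271575) (tt N47154 F271576) (tt N96429 F412483) (tt N46916 (iv7 D173241)))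
theorem Q80784 : ∀ i, i < 80784 → P i := stepQ 80783 Q80783 (allL N80783 (tt N111588 F477036) (tt N112075 D215319) (tt N47126 F271579) (tt N109290 (iv3 F466214)) (tt N96429 (iv4 F412485)) (tt N47228 F271580) (tt N46917 (iv6 D173242)) (tt N111906 (iv7 F478576)))
theorem Q80785 : ∀ i, i < 80785 → P i := stepQ 80784 Q80784 (allL N80784 (tt N95749 F409446) (tt N79332 (iv0 F389008)) (tt N96883 (iv2 F414430)) (tt N46919 F271583) (tt N96882 F414429) (tt N46918 (iv5 D173245)) (tt N82362 F361254) (tt N47127 F271584))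
theorem Q80786 : ∀ i, i < 80786 → P i := stepQ 80785 Q80785 (allL N80785 (tt N96526 F412857) (tt N96555 F412967) (tt N47136 F271587) (tt N96558 (iv3 F412980)) (tt N46919 (iv4 D173247)) (tt N101121 (iv5 F431779)) (tt N82363 (iv6 F365497)) (tt N47130 F271588))
theorem Q80787 : ∀ i, i < 80787 → P i := stepQ 80786 Q80786 (allL N80786 (tt N78664 F346335) (tt N81604 F346336) (tt N47139 F346337) (tt N46920 (iv3 D173249)) (tt N96556 (iv4 F412973)) (tt N46920 F346338) (tt N58540 F346339) (tt N47134 F271590))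
theorem Q80788 : ∀ i, i < 80788 → P i := stepQ 80787 Q80787 (allL N80787 (tt N111606 F477134) (tt N112076 D215320) (tt N112077 D215321) (tt N46922 (iv3 D173254)) (tt N47758 F271601) (tt N112078 D215322) (tt N83769 (iv6 F289063)) (tt N47145 F271602))
theorem Q80789 : ∀ i, i < 80789 → P i := stepQ 80788 Q80788 (allL N80788 (tt N79299 (iv1 F300946)) (tt N78638 F271605) (tt N47144 F271603) (tt N112078 (iv3 F479389)) (tt N59584 (iv4 F343711)) (tt N46922 (iv5 D173255)) (tt N111493 F476592) (tt N47146 F271604))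
theorem Q80790 : ∀ i, i < 80790 → P i := stepQ 80789 Q80789 (allL N80789 (tt N47156 (iv1 F271623)) (tt N46923 (iv0 D173264)) (tt N47152 (iv2 F271621)) (tt N91811 (iv3 F394517)) (tt N81230 (iv4 F273809)) (tt N49307 F271620) (tt N55513 F358399) (tt N47153 (iv7 F271622)))
theorem Q80791 : ∀ i, i < 80791 → P i := stepQ 80790 Q80790 (allL N80790 (tt N46923 (iv1 D173265)) (tt N47156 F271624) (tt N47153 (iv2 F271627)) (tt N55520 F358391) (tt N81229 (iv4 F273804)) (tt N49308 F271626) (tt N87067 (iv6 F378268)) (tt N47152 F271625))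
theorem Q80792 : ∀ i, i < 80792 → P i := stepQ 80791 Q80791 (allL N80791 (tt N101121 (iv1 F431782)) (tt N96556 (iv0 F412974)) (tt N47154 F271628) (tt N59209 F346349) (tt N46923 (iv4 D173266)) (tt N47125 F271629) (tt N65496 F346356) (tt N47124 (iv7 F271630)))
theorem Q80793 : ∀ i, i < 80793 → P i := stepQ 80792 Q80792 (allL N80792 (tt N112079 D215323) (tt N112080 D215324) (tt N47155 F271631) (tt N65492 F361576) (tt N65496 F346355) (tt N51550 (iv5 F293637)) (tt N46923 (iv6 D173267)) (tt N92883 (iv7 F398638)))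
theorem Q80794 : ∀ i, i < 80794 → P i := stepQ 80793 Q80793 (allL N80793 (tt N105349 (iv1 F449826)) (tt N79451 (iv0 F360151)) (tt N104862 (iv2 F447674)) (tt N73427 (iv3 F306086)) (tt N94248 F403829) (tt N46926 (iv5 D173280)) (tt N109842 (iv6 F468860)) (tt N73424 F366821))
theorem Q80795 : ∀ i, i < 80795 → P i := stepQ 80794 Q80794 (allL N80794 (tt N46928 (iv1 D173288)) (tt N77729 (iv0 F331741)) (tt N77731 (iv2 F331742)) (tt N71748 F331743) (tt N92496 (iv4 F397160)) (tt N80668 (iv5 F303502)) (tt N71747 F346331) (tt N77724 F331744))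
theorem Q80796 : ∀ i, i < 80796 → P i := stepQ 80795 Q80795 (allL N80795 (tt N92489 (iv1 F397139)) (tt N92488 F397136) (tt N92490 (iv2 F397143)) (tt N112081 D215325) (tt N46928 (iv4 D173289)) (tt N57043 F331740) (tt N76749 F271673) (tt N57042 F362458))
theorem Q80797 : ∀ i, i < 80797 → P i := stepQ 80796 Q80796 (allL N80796 (tt N77731 (iv1 F318951)) (tt N77724 F331745) (tt N77729 F331736) (tt N46937 F271674) (tt N57042 (iv4 F344890)) (tt N46929 F271675) (tt N79586 (iv6 F353970)) (tt N46928 (iv7 D173290)))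
theorem Q80798 : ∀ i, i < 80798 → P i := stepQ 80797 Q80797 (allL N80797 (tt N47207 (iv1 F271679)) (tt N46930 (iv0 D173291)) (tt N47204 F271680) (tt N103132 F440217) (tt N81242 (iv4 F273904)) (tt N54240 (iv5 F308348)) (tt N54243 (iv6 F343421)) (tt N47205 (iv7 F271678)))
theorem Q80799 : ∀ i, i < 80799 → P i := stepQ 80798 Q80798 (allL N80798 (tt N96100 F411057) (tt N112082 D215326) (tt N47206 F271683) (tt N73557 (iv3 F348945)) (tt N46930 (iv4 D173292)) (tt N73551 F348943) (tt N46936 F271684) (tt N93814 (iv7 F402026)))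
theorem Q80800 : ∀ i, i < 80800 → P i := stepQ 80799 Q80799 (allL N80799 (tt N47205 (iv1 F271688)) (tt N47204 F271689) (tt N47207 F271685) (tt N76750 F271686) (tt N93814 (iv4 F402025)) (tt N46931 F271687) (tt N93813 F402021) (tt N46930 (iv7 D173293)))
theorem Q80801 : ∀ i, i < 80801 → P i := stepQ 80800 Q80800 (allL N80800 (tt N97418 F416815) (tt N63640 (iv0 F341161)) (tt N103092 (iv2 F440026)) (tt N46933 F271702) (tt N112083 D215327) (tt N46932 (iv5 D173299)) (tt N67745 (iv6 F350869)) (tt N47209 F271703))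
theorem Q80802 : ∀ i, i < 80802 → P i := stepQ 80801 Q80801 (allL N80801 (tt N79455 (iv1 F303393)) (tt N79454 (iv0 F303389)) (tt N47214 F271704) (tt N56917 (iv3 F362961)) (tt N46933 (iv4 D173300)) (tt N79477 (iv5 F302245)) (tt N56915 F343460) (tt N47212 F271705))
theorem Q80803 : ∀ i, i < 80803 → P i := stepQ 80802 Q80802 (allL N80802 (tt N57125 F343452) (tt N57111 (iv0 F343461)) (tt N47215 F271706) (tt N67745 F350867) (tt N56915 (iv4 F343453)) (tt N67739 (iv5 F317510)) (tt N46933 (iv6 D173301)) (tt N97017 (iv7 F415045)))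
theorem Q80804 : ∀ i, i < 80804 → P i := stepQ 80803 Q80803 (allL N80803 (tt N86377 F376009) (tt N77721 F376010) (tt N47219 F271709) (tt N49964 F343451) (tt N67086 (iv4 F352781)) (tt N71341 (iv5 F343449)) (tt N46934 (iv6 D173303)) (tt N86391 (iv7 F376057)))
theorem Q80805 : ∀ i, i < 80805 → P i := stepQ 80804 Q80804 (allL N80804 (tt N47227 (iv1 F271718)) (tt N46936 (iv0 D173306)) (tt N47223 (iv2 F271716)) (tt N74214 (iv3 F332381)) (tt N46958 F271715) (tt N101728 (iv5 F434064)) (tt N74213 F346508) (tt N47224 (iv7 F271717)))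
theorem Q80806 : ∀ i, i < 80806 → P i := stepQ 80805 Q80805 (allL N80805 (tt N46936 (iv1 D173307)) (tt N47227 F271719) (tt N47224 (iv2 F271722)) (tt N112084 D215328) (tt N46959 F271721) (tt N112085 D215329) (tt N93807 (iv6 F401984)) (tt N47223 F271720))
theorem Q80807 : ∀ i, i < 80807 → P i := stepQ 80806 Q80806 (allL N80806 (tt N108178 F461408) (tt N112086 D215330) (tt N112087 D215331) (tt N46936 (iv3 D173308)) (tt N112081 (iv4 F479405)) (tt N73555 (iv5 F348947)) (tt N73557 F348946) (tt N95077 (iv7 F406965)))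
theorem Q80808 : ∀ i, i < 80808 → P i := stepQ 80807 Q80807 (allL N80807 (tt N101723 (iv1 F434043)) (tt N101721 (iv0 F434031)) (tt N47226 F271723) (tt N73555 F348942) (tt N47255 F271724) (tt N46936 (iv5 D173309)) (tt N73550 (iv6 F348940)) (tt N47253 (iv7 F271725)))
theorem Q80809 : ∀ i, i < 80809 → P i := stepQ 80808 Q80808 (allL N80808 (tt N47224 (iv1 F271729)) (tt N47223 F271730) (tt N47227 F271726) (tt N95077 (iv3 F406962)) (tt N46937 F271727) (tt N47253 F271728) (tt N93793 (iv6 F401906)) (tt N46936 (iv7 D173310)))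
theorem Q80810 : ∀ i, i < 80810 → P i := stepQ 80809 Q80809 (allL N80809 (tt N112088 D215332) (tt N112089 D215333) (tt N47228 F271731) (tt N79586 F353973) (tt N93793 (iv4 F401905)) (tt N47126 F271732) (tt N46937 (iv6 D173311)) (tt N93813 (iv7 F402018)))
theorem Q80811 : ∀ i, i < 80811 → P i := stepQ 80810 Q80810 (allL N80810 (tt N106807 F455765) (tt N96813 (iv0 F414078)) (tt N106809 (iv2 F455777)) (tt N46938 (iv3 D173319)) (tt N101007 (iv4 F431236)) (tt N112090 D215334) (tt N58481 (iv6 F365999)) (tt N47242 F271745))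
theorem Q80812 : ∀ i, i < 80812 → P i := stepQ 80811 Q80811 (allL N80811 (tt N79470 (iv1 F303304)) (tt N79466 (iv0 F303298)) (tt N47240 F271746) (tt N112090 (iv3 F479449)) (tt N112085 (iv4 F479425)) (tt N46938 (iv5 D173320)) (tt N112091 D215335) (tt N47243 F271747))
theorem Q80813 : ∀ i, i < 80813 → P i := stepQ 80812 Q80812 (allL N80812 (tt N87003 F378019) (tt N111927 (iv0 F478701)) (tt N103073 (iv2 F439953)) (tt N46939 (iv3 D173322)) (tt N48254 (iv4 F302236)) (tt N88009 F381464) (tt N58442 (iv6 F323178)) (tt N47246 F271751))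
theorem Q80814 : ∀ i, i < 80814 → P i := stepQ 80813 Q80813 (allL N80813 (tt N81150 (iv1 F273464)) (tt N81149 (iv0 F273460)) (tt N47245 F271752) (tt N88009 (iv3 F381465)) (tt N81252 (iv4 F273932)) (tt N46939 (iv5 D173323)) (tt N112092 D215336) (tt N47247 F271753))
theorem Q80815 : ∀ i, i < 80815 → P i := stepQ 80814 Q80814 (allL N80814 (tt N111753 F477802) (tt N102109 (iv0 F435773)) (tt N97847 (iv2 F418491)) (tt N46940 (iv3 D173325)) (tt N69137 (iv4 F358172)) (tt N108569 (iv5 F463087)) (tt N79485 F356158) (tt N47244 F271757))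
theorem Q80816 : ∀ i, i < 80816 → P i := stepQ 80815 Q80815 (allL N80815 (tt N81149 (iv1 F273461)) (tt N81150 (iv0 F273463)) (tt N47247 F271758) (tt N108569 F463089) (tt N81250 (iv4 F273927)) (tt N46940 (iv5 D173326)) (tt N112093 D215337) (tt N47245 F271759))
theorem Q80817 : ∀ i, i < 80817 → P i := stepQ 80816 Q80816 (allL N80816 (tt N46942 (iv1 D173333)) (tt N47255 F271769) (tt N47252 (iv2 F271772)) (tt N97220 F415953) (tt N79457 (iv4 F303400)) (tt N49346 F271771) (tt N112094 D215338) (tt N47251 F271770))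
theorem Q80818 : ∀ i, i < 80818 → P i := stepQ 80817 Q80817 (allL N80817 (tt N101721 (iv1 F434032)) (tt N101723 (iv0 F434042)) (tt N47253 F271773) (tt N87228 (iv3 F378816)) (tt N46942 (iv4 D173334)) (tt N47227 F271774) (tt N112095 D215339) (tt N47226 (iv7 F271775)))
theorem Q80819 : ∀ i, i < 80819 → P i := stepQ 80818 Q80818 (allL N80818 (tt N101552 F433371) (tt N104986 (iv0 F448277)) (tt N47254 F271776) (tt N87232 (iv3 F378824)) (tt N112095 (iv4 F479470)) (tt N47633 F271777) (tt N46942 (iv6 D173335)) (tt N112096 D215340))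
theorem Q80820 : ∀ i, i < 80820 → P i := stepQ 80819 Q80819 (allL N80819 (tt N47252 (iv1 F271781)) (tt N47251 F271782) (tt N47255 F271778) (tt N52479 F364878) (tt N47226 F271779) (tt N46943 F271780) (tt N88047 (iv6 F381573)) (tt N46942 (iv7 D173336)))
theorem Q80821 : ∀ i, i < 80821 → P i := stepQ 80820 Q80820 (allL N80820 (tt N46965 F358669) (tt N111589 (iv0 F477043)) (tt N59983 (iv2 F340650)) (tt N46945 (iv3 D173338)) (tt N96831 (iv4 F414171)) (tt N64303 (iv5 F298146)) (tt N59982 F340651) (tt N47294 F271786))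
theorem Q80822 : ∀ i, i < 80822 → P i := stepQ 80821 Q80821 (allL N80821 (tt N80975 (iv1 F272898)) (tt N80981 (iv0 F272921)) (tt N47297 F271789) (tt N57981 (iv3 F351065)) (tt N81604 (iv4 F276220)) (tt N46946 (iv5 D173341)) (tt N96409 (iv6 F412390)) (tt N81603 (iv7 F276218)))
theorem Q80823 : ∀ i, i < 80823 → P i := stepQ 80822 Q80822 (allL N80822 (tt N48715 F319027) (tt N81868 F319028) (tt N47263 F271796) (tt N83893 (iv3 F367418)) (tt N46948 F271797) (tt N106190 (iv5 F453537)) (tt N46947 (iv6 D173344)) (tt N47490 F319029))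
theorem Q80824 : ∀ i, i < 80824 → P i := stepQ 80823 Q80823 (allL N80823 (tt N47520 F342685) (tt N47016 F342686) (tt N47264 F271799) (tt N99848 F426512) (tt N79241 (iv4 F342671)) (tt N46948 (iv5 D173347)) (tt N47444 F306609) (tt N47491 F320211))
theorem Q80825 : ∀ i, i < 80825 → P i := stepQ 80824 Q80824 (allL N80824 (tt N47548 F347434) (tt N66565 (iv0 F331851)) (tt N47260 F271810) (tt N111807 (iv3 F478072)) (tt N93801 (iv4 F401947)) (tt N46950 (iv5 D173352)) (tt N47315 F309566) (tt N101197 (iv7 F432144)))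
theorem Q80826 : ∀ i, i < 80826 → P i := stepQ 80825 Q80825 (allL N80825 (tt N80125 F353790) (tt N81485 F353791) (tt N81484 (iv2 F337516)) (tt N98073 (iv3 F419354)) (tt N89241 (iv4 F385744)) (tt N46951 (iv5 D173356)) (tt N61473 (iv6 F337535)) (tt N81483 F337519))
theorem Q80827 : ∀ i, i < 80827 → P i := stepQ 80826 Q80826 (allL N80826 (tt N81676 F343387) (tt N110512 F471924) (tt N102709 (iv2 F438300)) (tt N46952 (iv3 D173359)) (tt N99773 (iv4 F426170)) (tt N102639 (iv5 F437996)) (tt N68340 (iv6 F362982)) (tt N101196 (iv7 F432141)))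
theorem Q80828 : ∀ i, i < 80828 → P i := stepQ 80827 Q80827 (allL N80827 (tt N77704 F366510) (tt N46953 (iv0 D173363)) (tt N78839 (iv2 F349898)) (tt N106449 (iv3 F454500)) (tt N90507 (iv4 F389881)) (tt N88499 (iv5 F383290)) (tt N67115 F349897) (tt N88498 (iv7 F383289)))
theorem Q80829 : ∀ i, i < 80829 → P i := stepQ 80828 Q80828 (allL N80828 (tt N46953 (iv1 D173364)) (tt N77704 F366509) (tt N88498 (iv2 F383284)) (tt N58786 F349901) (tt N71787 F349902) (tt N88494 (iv5 F383276)) (tt N58785 (iv6 F349900)) (tt N78839 F349899))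
theorem Q80830 : ∀ i, i < 80830 → P i := stepQ 80829 Q80829 (allL N80829 (tt N110543 F472065) (tt N112097 D215341) (tt N111908 (iv2 F478584)) (tt N112098 D215342) (tt N46953 (iv4 D173365)) (tt N112099 D215343) (tt N54326 (iv6 F366841)) (tt N111563 (iv7 F476937)))
theorem Q80831 : ∀ i, i < 80831 → P i := stepQ 80830 Q80830 (allL N80830 (tt N47318 (iv1 F271845)) (tt N46956 (iv0 D173372)) (tt N47315 F271840) (tt N66427 (iv3 F331926)) (tt N96100 (iv4 F411054)) (tt N47258 F309557) (tt N47260 F309558) (tt N47316 (iv7 F271839)))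
theorem Q80832 : ∀ i, i < 80832 → P i := stepQ 80831 Q80831 (allL N80831 (tt N46956 (iv1 D173373)) (tt N47318 F271841) (tt N47316 F271844) (tt N100387 F428740) (tt N112082 (iv4 F479413)) (tt N47442 (iv5 F271843)) (tt N103013 (iv6 F439670)) (tt N47315 F271842))
theorem Q80833 : ∀ i, i < 80833 → P i := stepQ 80832 Q80832 (allL N80832 (tt N81090 (iv1 F273906)) (tt N81093 (iv0 F273379)) (tt N47317 F271849) (tt N112100 D215344) (tt N46956 (iv4 D173374)) (tt N107713 (iv5 F459348)) (tt N46960 F271850) (tt N112101 D215345))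
theorem Q80834 : ∀ i, i < 80834 → P i := stepQ 80833 Q80833 (allL N80833 (tt N47316 (iv1 F271853)) (tt N47315 F271854) (tt N47318 F271851) (tt N47488 F308626) (tt N112101 (iv4 F479494)) (tt N46957 F271852) (tt N93809 F401995) (tt N46956 (iv7 D173375)))
theorem Q80835 : ∀ i, i < 80835 → P i := stepQ 80834 Q80834 (allL N80834 (tt N66501 F332378) (tt N46974 F332379) (tt N100389 (iv2 F428747)) (tt N46958 (iv3 D173376)) (tt N71753 F332380) (tt N80747 F271855) (tt N57382 (iv6 F332382)) (tt N47320 F271856))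
theorem Q80836 : ∀ i, i < 80836 → P i := stepQ 80835 Q80835 (allL N80835 (tt N60642 F355855) (tt N60631 F339190) (tt N47321 F271858) (tt N100390 (iv3 F428755)) (tt N93807 F401982) (tt N64343 F271859) (tt N46959 (iv6 D173378)) (tt N101885 (iv7 F434817)))
theorem Q80837 : ∀ i, i < 80837 → P i := stepQ 80836 Q80836 (allL N80836 (tt N112102 D215346) (tt N102853 (iv0 F438951)) (tt N112103 D215347) (tt N46960 (iv3 D173379)) (tt N112098 (iv4 F479481)) (tt N112104 D215348) (tt N112100 (iv6 F479492)) (tt N96166 F411317))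
theorem Q80838 : ∀ i, i < 80838 → P i := stepQ 80837 Q80837 (allL N80837 (tt N81112 (iv1 F273404)) (tt N81117 (iv0 F273417)) (tt N47325 F271860) (tt N112104 (iv3 F479499)) (tt N83775 (iv4 F289076)) (tt N46960 (iv5 D173380)) (tt N112105 D215349) (tt N83773 (iv7 F289072)))
theorem Q80839 : ∀ i, i < 80839 → P i := stepQ 80838 Q80838 (allL N80838 (tt N47278 F342340) (tt N62552 F342339) (tt N81712 F342334) (tt N46966 F271873) (tt N80977 (iv4 F324290)) (tt N104233 (iv5 F444841)) (tt N110512 (iv6 F471922)) (tt N46961 (iv7 D173388)))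
theorem Q80840 : ∀ i, i < 80840 → P i := stepQ 80839 Q80839 (allL N80839 (tt N52952 F345803) (tt N46963 (iv0 D173390)) (tt N78749 (iv2 F342348)) (tt N101101 (iv3 F431676)) (tt N78748 F342349) (tt N89427 (iv5 F386458)) (tt N101881 (iv6 F434792)) (tt N80946 F342350))
theorem Q80841 : ∀ i, i < 80841 → P i := stepQ 80840 Q80840 (allL N80840 (tt N80946 F322815) (tt N78749 (iv0 F342341)) (tt N52952 F345805) (tt N82959 F345809) (tt N46966 F271874) (tt N110804 (iv5 F473239)) (tt N52950 (iv6 F345808)) (tt N46963 (iv7 D173393)))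
theorem Q80842 : ∀ i, i < 80842 → P i := stepQ 80841 Q80841 (allL N80841 (tt N46993 F357797) (tt N80752 F333745) (tt N47128 F333746) (tt N47341 F333747) (tt N90250 (iv4 F389104)) (tt N111012 (iv5 F474245)) (tt N46964 (iv6 D173402)) (tt N80753 F333748))
theorem Q80843 : ∀ i, i < 80843 → P i := stepQ 80842 Q80842 (allL N80842 (tt N111589 F477044) (tt N46965 (iv0 D173408)) (tt N47294 F358670) (tt N47342 F358671) (tt N96835 (iv4 F414185)) (tt N90173 (iv5 F388779)) (tt N60105 F358672) (tt N59983 F358673))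
theorem Q80844 : ∀ i, i < 80844 → P i := stepQ 80843 Q80843 (allL N80843 (tt N112106 D215350) (tt N80923 (iv0 F354798)) (tt N112038 (iv2 F479196)) (tt N79526 (iv3 F354795)) (tt N46965 (iv4 D173410)) (tt N91606 (iv5 F393766)) (tt N79855 F354794) (tt N112107 D215351))
theorem Q80845 : ∀ i, i < 80845 → P i := stepQ 80844 Q80844 (allL N80844 (tt N59983 (iv1 F340648)) (tt N47294 F340653) (tt N111589 (iv2 F477038)) (tt N104233 (iv3 F444839)) (tt N112107 (iv4 F479511)) (tt N46966 F271878) (tt N66500 F353247) (tt N46965 (iv7 D173411)))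
theorem Q80846 : ∀ i, i < 80846 → P i := stepQ 80845 Q80845 (allL N80845 (tt N69236 F342050) (tt N46990 F309617) (tt N47164 F271879) (tt N47329 F271880) (tt N47160 F271881) (tt N77222 F349790) (tt N46967 (iv6 D173412)) (tt N69265 F342051))
theorem Q80847 : ∀ i, i < 80847 → P i := stepQ 80846 Q80846 (allL N80846 (tt N47305 F348694) (tt N67043 (iv0 F343388)) (tt N46969 F271882) (tt N81676 (iv3 F276442)) (tt N77585 F271883) (tt N77701 F358469) (tt N46968 (iv6 D173413)) (tt N103889 (iv7 F443224)))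
theorem Q80848 : ∀ i, i < 80848 → P i := stepQ 80847 Q80847 (allL N80847 (tt N77699 (iv1 F358768)) (tt N77703 (iv0 F358767)) (tt N77701 (iv2 F358470)) (tt N46974 F271884) (tt N51221 (iv4 F358764)) (tt N46969 (iv5 D173416)) (tt N77275 (iv6 F346972)) (tt N77700 F354058))
theorem Q80849 : ∀ i, i < 80849 → P i := stepQ 80848 Q80848 (allL N80848 (tt N67043 (iv1 F343391)) (tt N47305 F317290) (tt N103889 F443228) (tt N46975 F271886) (tt N52953 (iv4 F315044)) (tt N77700 (iv5 F354055)) (tt N79337 F345794) (tt N46969 (iv7 D173417)))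
theorem Q80850 : ∀ i, i < 80850 → P i := stepQ 80849 Q80849 (allL N80849 (tt N109718 F468271) (tt N94577 (iv0 F419401)) (tt N109693 (iv2 F468138)) (tt N69941 F377960) (tt N101831 F434562) (tt N104265 (iv5 F445020)) (tt N46970 (iv6 D173418)) (tt N110927 (iv7 F473827)))
theorem Q80851 : ∀ i, i < 80851 → P i := stepQ 80850 Q80850 (allL N80850 (tt N52950 (iv1 F345814)) (tt N46971 (iv0 D173419)) (tt N52850 F332345) (tt N47817 F332346) (tt N66974 F332347) (tt N102463 (iv5 F437316)) (tt N47816 F332348) (tt N52949 F332401))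
theorem Q80852 : ∀ i, i < 80852 → P i := stepQ 80851 Q80851 (allL N80851 (tt N112108 D215352) (tt N110264 (iv0 F470716)) (tt N103799 (iv2 F442867)) (tt N49509 (iv3 F366746)) (tt N102468 (iv4 F437337)) (tt N46971 (iv5 D173421)) (tt N104265 (iv6 F445021)) (tt N52951 F366745))
theorem Q80853 : ∀ i, i < 80853 → P i := stepQ 80852 Q80852 (allL N80852 (tt N66427 F331930) (tt N77610 (iv0 F347051)) (tt N66035 F343950) (tt N77275 (iv3 F346970)) (tt N66028 (iv4 F331935)) (tt N46972 (iv5 D173425)) (tt N46974 F271890) (tt N66038 F332373))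
theorem Q80854 : ∀ i, i < 80854 → P i := stepQ 80853 Q80853 (allL N80853 (tt N53122 F317281) (tt N46989 F319571) (tt N47237 F317282) (tt N47353 F317283) (tt N48166 F317284) (tt N66391 F340654) (tt N46973 (iv6 D173436)) (tt N49026 F317285))
theorem Q80855 : ∀ i, i < 80855 → P i := stepQ 80854 Q80854 (allL N80854 (tt N46974 (iv1 D173438)) (tt N66501 F344422) (tt N47320 F344423) (tt N47354 F344424) (tt N62365 F344425) (tt N80743 F344426) (tt N62363 (iv6 F344429)) (tt N100389 (iv7 F428751)))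
theorem Q80856 : ∀ i, i < 80856 → P i := stepQ 80855 Q80855 (allL N80855 (tt N98143 F419679) (tt N109411 (iv0 F466834)) (tt N46984 F271896) (tt N47359 F271897) (tt N79900 (iv4 F346135)) (tt N46976 (iv5 D173443)) (tt N46979 F271898) (tt N76548 (iv7 F339360)))
theorem Q80857 : ∀ i, i < 80857 → P i := stepQ 80856 Q80856 (allL N80856 (tt N101074 F431549) (tt N80941 (iv0 F315796)) (tt N46987 F279300) (tt N49464 (iv3 F310435)) (tt N46977 (iv4 D173447)) (tt N53761 F366728) (tt N49462 (iv6 F357793)) (tt N46991 F279301))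
theorem Q80858 : ∀ i, i < 80858 → P i := stepQ 80857 Q80857 (allL N80857 (tt N109797 F468661) (tt N47500 F338573) (tt N46992 F279312) (tt N59463 (iv3 F354608)) (tt N109799 (iv4 F468668)) (tt N46978 (iv5 D173453)) (tt N59461 F354606) (tt N46988 F279313))
theorem Q80859 : ∀ i, i < 80859 → P i := stepQ 80858 Q80858 (allL N80858 (tt N80753 F351634) (tt N47128 F351635) (tt N46993 F279314) (tt N59464 (iv3 F351638)) (tt N101882 (iv4 F434796)) (tt N59462 (iv5 F348176)) (tt N46978 (iv6 D173454)) (tt N80752 (iv7 F357798)))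
theorem Q80860 : ∀ i, i < 80860 → P i := stepQ 80859 Q80859 (allL N80859 (tt N68529 F339359) (tt N76722 F339368) (tt N54301 F271921) (tt N58756 F345385) (tt N59675 (iv4 F339367)) (tt N46982 (iv5 D173462)) (tt N101526 (iv6 F433256)) (tt N82134 F358656))
theorem Q80861 : ∀ i, i < 80861 → P i := stepQ 80860 Q80860 (allL N80860 (tt N76548 (iv1 F339363)) (tt N46984 (iv0 D173478)) (tt N98143 (iv2 F419676)) (tt N112109 D215353) (tt N77644 F339366) (tt N77650 (iv5 F339364)) (tt N98139 F419651) (tt N109411 (iv7 F466832)))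
theorem Q80862 : ∀ i, i < 80862 → P i := stepQ 80861 Q80861 (allL N80861 (tt N109411 (iv1 F466833)) (tt N98143 F419680) (tt N76548 F339361) (tt N47003 F271939) (tt N98149 (iv4 F419708)) (tt N46985 F271940) (tt N109849 F468900) (tt N46984 (iv7 D173481)))
theorem Q80863 : ∀ i, i < 80863 → P i := stepQ 80862 Q80862 (allL N80862 (tt N63211 (iv1 F354611)) (tt N63248 F354612) (tt N63246 (iv2 F354610)) (tt N46988 F271950) (tt N91549 (iv4 F393607)) (tt N46986 (iv5 D173491)) (tt N111761 (iv6 F477837)) (tt N59463 F354609))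
theorem Q80864 : ∀ i, i < 80864 → P i := stepQ 80863 Q80863 (allL N80863 (tt N68340 F341989) (tt N68410 (iv0 F354613)) (tt N69231 (iv2 F354615)) (tt N46989 F271951) (tt N82220 (iv4 F279326)) (tt N69175 (iv5 F341988)) (tt N46986 (iv6 D173492)) (tt N69271 F354616))
theorem Q80865 : ∀ i, i < 80865 → P i := stepQ 80864 Q80864 (allL N80864 (tt N46991 (iv1 F271956)) (tt N46987 (iv0 D173494)) (tt N101074 (iv2 F431544)) (tt N67952 (iv3 F337625)) (tt N70492 (iv4 F357812)) (tt N89740 (iv5 F387379)) (tt N52927 F363618) (tt N80941 (iv7 F315798)))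
theorem Q80866 : ∀ i, i < 80866 → P i := stepQ 80865 Q80865 (allL N80865 (tt N88518 F383370) (tt N101472 (iv0 F433069)) (tt N53761 (iv2 F366727)) (tt N63455 F366726) (tt N109071 (iv4 F465217)) (tt N46987 (iv5 D173495)) (tt N109070 F465212) (tt N110981 (iv7 F474068)))
theorem Q80867 : ∀ i, i < 80867 → P i := stepQ 80866 Q80866 (allL N80866 (tt N53120 F354614) (tt N52847 (iv0 F354648)) (tt N49462 F354646) (tt N53112 (iv3 F354644)) (tt N46989 F271953) (tt N70540 F354649) (tt N46987 (iv6 D173496)) (tt N53121 (iv7 F354622)))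
theorem Q80868 : ∀ i, i < 80868 → P i := stepQ 80867 Q80867 (allL N80867 (tt N46992 (iv1 F271960)) (tt N46988 (iv0 D173498)) (tt N47500 F338577) (tt N47399 F338578) (tt N105687 (iv4 F451253)) (tt N48978 F338579) (tt N94091 (iv6 F403160)) (tt N109797 (iv7 F468660)))
theorem Q80869 : ∀ i, i < 80869 → P i := stepQ 80868 Q80868 (allL N80868 (tt N46988 (iv1 D173499)) (tt N46992 F271957) (tt N109797 (iv2 F468656)) (tt N47005 F340656) (tt N56196 (iv4 F340665)) (tt N78622 F340657) (tt N56194 F340658) (tt N47500 F340659))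
theorem Q80870 : ∀ i, i < 80870 → P i := stepQ 80869 Q80869 (allL N80869 (tt N104920 (iv1 F447947)) (tt N98398 F420801) (tt N98401 (iv2 F420794)) (tt N64194 F360266) (tt N46988 (iv4 D173500)) (tt N74483 F360268) (tt N64193 (iv6 F360267)) (tt N109799 (iv7 F468667)))
theorem Q80871 : ∀ i, i < 80871 → P i := stepQ 80870 Q80870 (allL N80870 (tt N49026 F354617) (tt N47237 F354618) (tt N53122 F354619) (tt N69271 F354620) (tt N53121 F354621) (tt N69213 (iv5 F354623)) (tt N80752 F357800) (tt N46989 (iv7 D173506)))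
theorem Q80872 : ∀ i, i < 80872 → P i := stepQ 80871 Q80871 (allL N80871 (tt N87824 F380684) (tt N75753 (iv0 F349813)) (tt N97523 (iv2 F417243)) (tt N46992 F271966) (tt N69797 (iv4 F354991)) (tt N46990 (iv5 D173512)) (tt N97522 (iv6 F417240)) (tt N69266 F338575))
theorem Q80873 : ∀ i, i < 80873 → P i := stepQ 80872 Q80872 (allL N80872 (tt N101472 F433070) (tt N88518 (iv0 F383369)) (tt N110981 (iv2 F474066)) (tt N53211 F366730) (tt N89874 F387820) (tt N46991 (iv5 D173514)) (tt N108798 (iv6 F463996)) (tt N53761 (iv7 F366729)))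
theorem Q80874 : ∀ i, i < 80874 → P i := stepQ 80873 Q80873 (allL N80873 (tt N100005 F427156) (tt N101881 (iv0 F434794)) (tt N101882 F434798) (tt N53131 (iv3 F357795)) (tt N46993 F271968) (tt N112110 D215354) (tt N46991 (iv6 D173515)) (tt N53124 F357794))
theorem Q80875 : ∀ i, i < 80875 → P i := stepQ 80874 Q80874 (allL N80874 (tt N98398 F420785) (tt N104920 F447948) (tt N109799 (iv2 F468672)) (tt N98540 F421243) (tt N46992 (iv4 D173516)) (tt N110980 (iv5 F474061)) (tt N104943 (iv6 F448058)) (tt N98401 F420799))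
theorem Q80876 : ∀ i, i < 80876 → P i := stepQ 80875 Q80875 (allL N80875 (tt N94090 F403157) (tt N109068 (iv0 F465200)) (tt N59461 (iv2 F354607)) (tt N97522 (iv3 F417239)) (tt N104943 (iv4 F448054)) (tt N59460 (iv5 F354831)) (tt N46992 (iv6 D173517)) (tt N109853 (iv7 F468924)))
theorem Q80877 : ∀ i, i < 80877 → P i := stepQ 80876 Q80876 (allL N80876 (tt N78568 (iv1 F409623)) (tt N80184 F361597) (tt N59462 (iv2 F348175)) (tt N80040 F348173) (tt N59476 F361594) (tt N46993 (iv5 D173520)) (tt N59460 (iv6 F348177)) (tt N80744 (iv7 F340663)))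
theorem Q80878 : ∀ i, i < 80878 → P i := stepQ 80877 Q80877 (allL N80877 (tt N47128 F351631) (tt N80753 F351632) (tt N80752 F357799) (tt N69267 F348179) (tt N53124 F348182) (tt N80744 F340664) (tt N53122 (iv6 F348181)) (tt N46993 (iv7 D173521)))
theorem Q80879 : ∀ i, i < 80879 → P i := stepQ 80878 Q80878 (allL N80878 (tt N109851 (iv1 F468913)) (tt N109291 (iv0 F466223)) (tt N109264 (iv2 F466065)) (tt N47019 F271973) (tt N78930 (iv4 F363651)) (tt N112044 (iv5 F479231)) (tt N46995 (iv6 D173537)) (tt N109849 (iv7 F468897)))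
theorem Q80880 : ∀ i, i < 80880 → P i := stepQ 80879 Q80879 (allL N80879 (tt N46998 (iv1 F271996)) (tt N46996 (iv0 D173557)) (tt N47464 (iv2 F271991)) (tt N88525 (iv3 F383400)) (tt N55821 F334803) (tt N80320 (iv5 F308602)) (tt N76130 F361993) (tt N47465 (iv7 F271992)))
theorem Q80881 : ∀ i, i < 80881 → P i := stepQ 80880 Q80880 (allL N80880 (tt N89468 (iv1 F386602)) (tt N89010 (iv0 F384801)) (tt N47466 (iv2 F274582)) (tt N110251 (iv3 F470637)) (tt N112111 D215355) (tt N46997 (iv5 D173573)) (tt N112112 D215356) (tt N47463 (iv7 F274581)))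
theorem Q80882 : ∀ i, i < 80882 → P i := stepQ 80881 Q80881 (allL N80881 (tt N61605 (iv1 F334723)) (tt N47505 (iv0 F272007)) (tt N47468 (iv2 F274579)) (tt N79270 (iv3 F336005)) (tt N86222 F375433) (tt N80113 F336004) (tt N46998 (iv6 D173576)) (tt N61470 (iv7 F334693)))
theorem Q80883 : ∀ i, i < 80883 → P i := stepQ 80882 Q80882 (allL N80882 (tt N79395 (iv1 F311755)) (tt N58850 (iv0 F332200)) (tt N47469 F274556) (tt N47440 F310714) (tt N103427 (iv4 F441581)) (tt N46999 (iv5 D173578)) (tt N80113 (iv6 F336006)) (tt N47432 F310715))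
theorem Q80884 : ∀ i, i < 80884 → P i := stepQ 80883 Q80883 (allL N80883 (tt N84769 (iv1 F370549)) (tt N80714 F274516) (tt N47471 F273754) (tt N63016 (iv3 F339597)) (tt N47000 (iv4 D173582)) (tt N85987 (iv5 F374754)) (tt N63015 (iv6 F352157)) (tt N47474 F273749))
theorem Q80885 : ∀ i, i < 80885 → P i := stepQ 80884 Q80884 (allL N80884 (tt N47444 F309535) (tt N47441 F309536) (tt N78161 (iv2 F346426)) (tt N47001 (iv3 D173586)) (tt N111473 (iv4 F476504)) (tt N78548 F309538) (tt N84768 (iv6 F370548)) (tt N47470 (iv7 F273752)))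
theorem Q80886 : ∀ i, i < 80886 → P i := stepQ 80885 Q80885 (allL N80885 (tt N47480 (iv1 F272039)) (tt N47002 (iv0 D173589)) (tt N47476 F326553) (tt N84490 (iv3 F369522)) (tt N88476 (iv4 F383207)) (tt N85039 (iv5 F371439)) (tt N61274 F326539) (tt N47477 F326554))
theorem Q80887 : ∀ i, i < 80887 → P i := stepQ 80886 Q80886 (allL N80886 (tt N47477 (iv1 F272040)) (tt N47476 F272041) (tt N47480 F272037) (tt N55756 F339587) (tt N47003 F272038) (tt N55754 (iv5 F339589)) (tt N109423 (iv6 F466888)) (tt N47002 (iv7 D173593)))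
theorem Q80888 : ∀ i, i < 80888 → P i := stepQ 80887 Q80887 (allL N80887 (tt N47539 (iv1 F272045)) (tt N47538 F272046) (tt N47481 F272042) (tt N109849 F468899) (tt N109423 (iv4 F466886)) (tt N54332 F272043) (tt N47003 (iv6 D173594)) (tt N47019 F272044))
theorem Q80889 : ∀ i, i < 80889 → P i := stepQ 80888 Q80888 (allL N80888 (tt N47366 (iv1 F272074)) (tt N47362 (iv0 F272073)) (tt N47399 F272072) (tt N47004 (iv3 D173614)) (tt N109194 (iv4 F465738)) (tt N63253 F272070) (tt N79066 (iv6 F365765)) (tt N47400 F272071))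
theorem Q80890 : ∀ i, i < 80890 → P i := stepQ 80889 Q80889 (allL N80889 (tt N81868 (iv1 F279280)) (tt N48715 (iv0 F272106)) (tt N47490 F279264) (tt N64903 (iv3 F303846)) (tt N47007 (iv4 D173632)) (tt N94156 (iv5 F403465)) (tt N77203 F331922) (tt N47263 F319031))
theorem Q80891 : ∀ i, i < 80891 → P i := stepQ 80890 Q80890 (allL N80890 (tt N47016 F342680) (tt N47520 F342681) (tt N47491 F279266) (tt N100143 (iv3 F427669)) (tt N79242 (iv4 F342678)) (tt N47007 (iv5 D173633)) (tt N109301 (iv6 F466278)) (tt N47264 F319563))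
theorem Q80892 : ∀ i, i < 80892 → P i := stepQ 80891 Q80891 (allL N80891 (tt N47497 (iv1 F272110)) (tt N47496 F272111) (tt N47009 F272107) (tt N47511 F272108) (tt N105684 (iv4 F451235)) (tt N47008 (iv5 D173635)) (tt N94181 F403585) (tt N47493 F272109))
theorem Q80893 : ∀ i, i < 80893 → P i := stepQ 80892 Q80892 (allL N80892 (tt N47493 (iv1 F272114)) (tt N47009 (iv0 D173637)) (tt N47497 F344797) (tt N70086 F344802) (tt N82587 F344805) (tt N70085 F344798) (tt N65161 (iv6 F344800)) (tt N47496 F344799))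
theorem Q80894 : ∀ i, i < 80894 → P i := stepQ 80893 Q80893 (allL N80893 (tt N94179 F403575) (tt N58849 (iv0 F342096)) (tt N94181 (iv2 F403586)) (tt N47011 F272117) (tt N105685 (iv4 F451241)) (tt N58867 (iv5 F334726)) (tt N47009 (iv6 D173640)) (tt N94180 F403581))
theorem Q80895 : ∀ i, i < 80895 → P i := stepQ 80894 Q80894 (allL N80894 (tt N47518 (iv1 F272132)) (tt N47011 (iv0 D173647)) (tt N47515 F273889) (tt N94090 (iv3 F403153)) (tt N61586 (iv4 F334781)) (tt N81829 (iv5 F342092)) (tt N76131 F345563) (tt N47516 F273887))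
theorem Q80896 : ∀ i, i < 80896 → P i := stepQ 80895 Q80895 (allL N80895 (tt N47011 (iv1 D173648)) (tt N47518 F272126) (tt N47516 (iv2 F273886)) (tt N75193 F334774) (tt N61579 (iv4 F334784)) (tt N81828 F342095) (tt N47465 (iv6 F272127)) (tt N47515 (iv7 F273888)))
theorem Q80897 : ∀ i, i < 80897 → P i := stepQ 80896 Q80896 (allL N80896 (tt N101732 F434084) (tt N81212 (iv0 F334764)) (tt N47517 F272128) (tt N58867 (iv3 F334725)) (tt N65574 F343345) (tt N47011 (iv5 D173649)) (tt N47012 F272129) (tt N96968 (iv7 F414841)))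
theorem Q80898 : ∀ i, i < 80898 → P i := stepQ 80897 Q80897 (allL N80897 (tt N47516 (iv1 F272133)) (tt N47515 F272134) (tt N47518 F272130) (tt N94180 (iv3 F403578)) (tt N50077 (iv4 F342083)) (tt N96968 (iv5 F414839)) (tt N47509 F272131) (tt N47011 (iv7 D173650)))
theorem Q80899 : ∀ i, i < 80899 → P i := stepQ 80898 Q80898 (allL N80898 (tt N79905 (iv1 F349008)) (tt N79075 F335189) (tt N61678 (iv2 F335190)) (tt N47014 (iv3 D173656)) (tt N75967 (iv4 F335187)) (tt N61677 F336870) (tt N75627 F335188) (tt N47531 F272143))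
theorem Q80900 : ∀ i, i < 80900 → P i := stepQ 80899 Q80899 (allL N80899 (tt N54862 (iv1 F355328)) (tt N79897 F355329) (tt N47525 F272144) (tt N75627 F355327) (tt N47015 F272145) (tt N104214 (iv5 F444731)) (tt N47014 (iv6 D173657)) (tt N61024 (iv7 F355326)))
theorem Q80901 : ∀ i, i < 80901 → P i := stepQ 80900 Q80900 (allL N80900 (tt N47529 (iv1 F272151)) (tt N47015 (iv0 D173658)) (tt N47526 F355331) (tt N94575 (iv3 F405023)) (tt N51553 F355330) (tt N60353 F334746) (tt N82746 F336040) (tt N47527 F355332))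
theorem Q80902 : ∀ i, i < 80902 → P i := stepQ 80901 Q80901 (allL N80901 (tt N78939 F335032) (tt N80030 (iv0 F364185)) (tt N98769 (iv2 F422236)) (tt N47017 (iv3 D173672)) (tt N77209 F364186) (tt N104966 (iv5 F448181)) (tt N86601 F376576) (tt N47535 F272171))
theorem Q80903 : ∀ i, i < 80903 → P i := stepQ 80902 Q80902 (allL N80902 (tt N47481 (iv1 F272176)) (tt N47019 (iv0 D173679)) (tt N47538 F347637) (tt N47938 F347638) (tt N61055 (iv4 F347651)) (tt N98462 (iv5 F420977)) (tt N47935 F347639) (tt N47539 F347640))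
theorem Q80904 : ∀ i, i < 80904 → P i := stepQ 80903 Q80903 (allL N80903 (tt N47019 (iv1 D173680)) (tt N47481 F272177) (tt N47539 F347641) (tt N109298 (iv3 F466258)) (tt N61059 F347664) (tt N98463 F420983) (tt N98144 (iv6 F419683)) (tt N47538 F347642))
theorem Q80905 : ∀ i, i < 80905 → P i := stepQ 80904 Q80904 (allL N80904 (tt N75481 F347647) (tt N75360 (iv0 F360143)) (tt N47558 F272215) (tt N65842 (iv3 F342264)) (tt N81449 (iv4 F275311)) (tt N80128 F366898) (tt N47021 (iv6 D173692)) (tt N75482 F347649))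
theorem Q80906 : ∀ i, i < 80906 → P i := stepQ 80905 Q80905 (allL N80905 (tt N88475 F383204) (tt N88852 (iv0 F384350)) (tt N47992 F272216) (tt N47022 (iv3 D173693)) (tt N49554 F272217) (tt N80325 (iv5 F342647)) (tt N54244 F272218) (tt N47173 F272219))
theorem Q80907 : ∀ i, i < 80907 → P i := stepQ 80906 Q80906 (allL N80906 (tt N65200 (iv1 F336897)) (tt N66990 F336898) (tt N47579 F272220) (tt N80325 F342649) (tt N64693 (iv4 F349799)) (tt N47022 (iv5 D173694)) (tt N112113 D215357) (tt N47174 F272221))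
theorem Q80908 : ∀ i, i < 80908 → P i := stepQ 80907 Q80907 (allL N80907 (tt N47580 (iv1 F272230)) (tt N47024 (iv0 D173696)) (tt N47583 (iv2 F272231)) (tt N109237 F465925) (tt N84130 (iv4 F368230)) (tt N78637 (iv5 F348444)) (tt N103119 F440161) (tt N47582 (iv7 F272232)))
theorem Q80909 : ∀ i, i < 80909 → P i := stepQ 80908 Q80908 (allL N80908 (tt N78692 (iv1 F360619)) (tt N51684 F360620) (tt N87825 F380689) (tt N84727 (iv3 F370373)) (tt N47024 (iv4 D173698)) (tt N103244 (iv5 F440753)) (tt N84726 F370370) (tt N47584 F272237))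
theorem Q80910 : ∀ i, i < 80910 → P i := stepQ 80909 Q80909 (allL N80909 (tt N80340 F334105) (tt N100153 (iv0 F427731)) (tt N47560 F275603) (tt N79898 (iv3 F334106)) (tt N62882 (iv4 F334102)) (tt N47028 (iv5 D173728)) (tt N75602 F334095) (tt N47075 (iv7 F317735)))
theorem Q80911 : ∀ i, i < 80911 → P i := stepQ 80910 Q80910 (allL N80910 (tt N47043 F272358) (tt N47040 (iv0 D173768)) (tt N47041 F273671) (tt N73990 (iv3 F341203)) (tt N47274 F272355) (tt N80911 F330226) (tt N70081 (iv6 F340186)) (tt N47042 F273672))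
theorem Q80912 : ∀ i, i < 80912 → P i := stepQ 80911 Q80911 (allL N80911 (tt N70108 (iv1 F330184)) (tt N70106 (iv0 F340191)) (tt N72412 F341206) (tt N47042 (iv3 D173777)) (tt N83915 (iv4 F367479)) (tt N80910 (iv5 F330226)) (tt N47083 F323007) (tt N73990 (iv7 F341205)))
theorem Q80913 : ∀ i, i < 80913 → P i := stepQ 80912 Q80912 (allL N80912 (tt N109325 (iv1 F466395)) (tt N79283 (iv0 F433967)) (tt N109324 (iv2 F466391)) (tt N82074 F363112) (tt N101704 F433963) (tt N111545 (iv5 F476844)) (tt N47045 (iv6 D173794)) (tt N80762 (iv7 F363113)))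
theorem Q80914 : ∀ i, i < 80914 → P i := stepQ 80913 Q80913 (allL N80913 (tt N47046 (iv1 D173796)) (tt N100643 (iv0 F429813)) (tt N100622 (iv2 F429742)) (tt N63835 (iv3 F361340)) (tt N94465 (iv4 F404578)) (tt N109236 (iv5 F465914)) (tt N103606 (iv6 F442213)) (tt N77022 F361333))
theorem Q80915 : ∀ i, i < 80915 → P i := stepQ 80914 Q80914 (allL N80914 (tt N100622 (iv1 F429747)) (tt N77022 (iv0 F342645)) (tt N100643 (iv2 F429809)) (tt N80606 (iv3 F332322)) (tt N76333 (iv4 F342643)) (tt N47047 F272380) (tt N112114 D215358) (tt N47046 (iv7 D173798)))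
theorem Q80916 : ∀ i, i < 80916 → P i := stepQ 80915 Q80915 (allL N80915 (tt N63520 (iv1 F344893)) (tt N63642 (iv0 F344892)) (tt N63641 F332062) (tt N47049 F272383) (tt N92610 (iv4 F397642)) (tt N47048 (iv5 D173801)) (tt N82041 (iv6 F344887)) (tt N63561 (iv7 F344896)))
theorem Q80917 : ∀ i, i < 80917 → P i := stepQ 80916 Q80916 (allL N80916 (tt N70504 F357878) (tt N90505 F389871) (tt N64094 F272392) (tt N82041 (iv3 F344886)) (tt N90502 (iv4 F389854)) (tt N47114 F304132) (tt N47049 (iv6 D173804)) (tt N82040 (iv7 F355386)))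
theorem Q80918 : ∀ i, i < 80918 → P i := stepQ 80917 Q80917 (allL N80917 (tt N48928 F312376) (tt N47051 (iv0 D173810)) (tt N78619 (iv2 F357441)) (tt N89003 F384775) (tt N69188 (iv4 F314804)) (tt N78654 (iv5 F356128)) (tt N69187 (iv6 F357442)) (tt N78483 F356130))
theorem Q80919 : ∀ i, i < 80919 → P i := stepQ 80918 Q80918 (allL N80918 (tt N101742 (iv1 F434131)) (tt N101102 (iv0 F431683)) (tt N91708 (iv2 F394123)) (tt N88994 (iv3 F384713)) (tt N59853 (iv4 F326156)) (tt N47051 (iv5 D173813)) (tt N91065 F391809) (tt N111886 (iv7 F478502)))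
theorem Q80920 : ∀ i, i < 80920 → P i := stepQ 80919 Q80919 (allL N80919 (tt N112115 D215359) (tt N112116 D215360) (tt N79487 F272403) (tt N99617 (iv3 F425436)) (tt N109329 (iv4 F466410)) (tt N47603 F303577) (tt N47052 (iv6 D173815)) (tt N112114 (iv7 F479552)))
theorem Q80921 : ∀ i, i < 80921 → P i := stepQ 80920 Q80920 (allL N80920 (tt N106751 F455538) (tt N96820 (iv0 F414116)) (tt N112117 D215361) (tt N47055 (iv3 D173824)) (tt N101148 (iv4 F431932)) (tt N90663 (iv5 F431687)) (tt N47242 F302235) (tt N96853 (iv7 F414266)))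
theorem Q80922 : ∀ i, i < 80922 → P i := stepQ 80921 Q80921 (allL N80921 (tt N78648 F300475) (tt N78647 F300476) (tt N101730 (iv2 F434066)) (tt N90663 (iv3 F431685)) (tt N101102 (iv4 F431682)) (tt N47055 (iv5 D173825)) (tt N112118 D215362) (tt N90592 F390188))
theorem Q80923 : ∀ i, i < 80923 → P i := stepQ 80922 Q80922 (allL N80922 (tt N64833 (iv1 F344936)) (tt N65402 F344935) (tt N67955 (iv2 F344929)) (tt N96492 F412749) (tt N101103 (iv4 F431689)) (tt N47137 F303617) (tt N47056 (iv6 D173831)) (tt N67954 (iv7 F344934)))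
theorem Q80924 : ∀ i, i < 80924 → P i := stepQ 80923 Q80923 (allL N80923 (tt N80843 F354798) (tt N99235 (iv0 F423797)) (tt N109396 (iv2 F466749)) (tt N47057 (iv3 D173833)) (tt N47785 F304028) (tt N112119 D215363) (tt N58479 (iv6 F365998)) (tt N100805 (iv7 F430557)))
theorem Q80925 : ∀ i, i < 80925 → P i := stepQ 80924 Q80924 (allL N80924 (tt N78647 F300477) (tt N78648 F300478) (tt N90592 (iv2 F390186)) (tt N112119 (iv3 F479577)) (tt N101742 (iv4 F434129)) (tt N47057 (iv5 D173834)) (tt N89228 (iv6 F385682)) (tt N101730 (iv7 F434067)))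
theorem Q80926 : ∀ i, i < 80926 → P i := stepQ 80925 Q80925 (allL N80925 (tt N90664 F394801) (tt N95154 F407253) (tt N95153 (iv2 F407248)) (tt N47058 (iv3 D173837)) (tt N81954 (iv4 F277622)) (tt N112120 D215364) (tt N80654 (iv6 F302360)) (tt N78484 F366913))
theorem Q80927 : ∀ i, i < 80927 → P i := stepQ 80926 Q80926 (allL N80926 (tt N60549 (iv1 F356137)) (tt N78653 (iv0 F302426)) (tt N78640 (iv2 F356127)) (tt N112120 (iv3 F479582)) (tt N78621 F356129) (tt N47058 (iv5 D173838)) (tt N74188 (iv6 F365278)) (tt N74140 F356126))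
theorem Q80928 : ∀ i, i < 80928 → P i := stepQ 80927 Q80927 (allL N80927 (tt N111874 F478442) (tt N106725 (iv0 F455424)) (tt N109308 (iv2 F466314)) (tt N47059 (iv3 D173848)) (tt N74651 (iv4 F332890)) (tt N74056 (iv5 F332887)) (tt N49303 F299351) (tt N79563 F272481))
theorem Q80929 : ∀ i, i < 80929 → P i := stepQ 80928 Q80928 (allL N80928 (tt N78642 (iv1 F302218)) (tt N78644 (iv0 F302221)) (tt N52818 (iv2 F300486)) (tt N74056 F332888) (tt N53904 (iv4 F356174)) (tt N47059 (iv5 D173849)) (tt N74055 (iv6 F357461)) (tt N53903 (iv7 F356144)))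
theorem Q80930 : ∀ i, i < 80930 → P i := stepQ 80929 Q80929 (allL N80929 (tt N59834 (iv1 F337346)) (tt N47060 (iv0 D173851)) (tt N83521 F337348) (tt N97623 (iv3 F417645)) (tt N55489 (iv4 F340359)) (tt N84655 (iv5 F370066)) (tt N49921 (iv6 F337347)) (tt N78506 (iv7 F358121)))
theorem Q80931 : ∀ i, i < 80931 → P i := stepQ 80930 Q80930 (allL N80930 (tt N47060 (iv1 D173852)) (tt N59834 F337352) (tt N78506 F358119) (tt N106702 (iv3 F455334)) (tt N91893 (iv4 F394845)) (tt N90516 (iv5 F389922)) (tt N78502 (iv6 F358100)) (tt N83521 F337350))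
theorem Q80932 : ∀ i, i < 80932 → P i := stepQ 80931 Q80931 (allL N80931 (tt N83521 (iv1 F337345)) (tt N78506 F358120) (tt N47060 (iv2 D173853)) (tt N59838 (iv3 F337351)) (tt N47149 F272489) (tt N111528 (iv5 F476755)) (tt N78492 F272490) (tt N59834 F337344))
theorem Q80933 : ∀ i, i < 80933 → P i := stepQ 80932 Q80932 (allL N80932 (tt N91965 (iv1 F395162)) (tt N112121 D215365) (tt N111528 (iv2 F476751)) (tt N47061 F272491) (tt N103152 F440320) (tt N47060 (iv5 D173854)) (tt N55094 (iv6 F370069)) (tt N112122 D215366))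
theorem Q80934 : ∀ i, i < 80934 → P i := stepQ 80933 Q80933 (allL N80933 (tt N78506 F358117) (tt N83521 (iv0 F337337)) (tt N59834 (iv2 F337336)) (tt N47062 F272492) (tt N47151 F272493) (tt N112122 (iv5 F479598)) (tt N52223 F337335) (tt N47060 (iv7 D173855)))
theorem Q80935 : ∀ i, i < 80935 → P i := stepQ 80934 Q80934 (allL N80934 (tt N47061 (iv1 D173856)) (tt N59853 (iv0 F326153)) (tt N64098 (iv2 F272497)) (tt N93611 (iv3 F401263)) (tt N79496 (iv4 F272498)) (tt N58441 (iv5 F326131)) (tt N54401 (iv6 F357407)) (tt N79486 F272495))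
theorem Q80936 : ∀ i, i < 80936 → P i := stepQ 80935 Q80935 (allL N80935 (tt N101102 (iv1 F431684)) (tt N101742 (iv0 F434130)) (tt N111886 (iv2 F478498)) (tt N48929 F312377) (tt N47061 (iv4 D173857)) (tt N48928 F312378) (tt N112123 D215367) (tt N91708 (iv7 F394125)))
theorem Q80937 : ∀ i, i < 80937 → P i := stepQ 80936 Q80936 (allL N80936 (tt N91656 (iv1 F415655)) (tt N89923 (iv0 F388009)) (tt N91653 F393910) (tt N55094 F370070) (tt N112123 (iv4 F479604)) (tt N78494 F272500) (tt N47061 (iv6 D173858)) (tt N91654 (iv7 F393914)))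
theorem Q80938 : ∀ i, i < 80938 → P i := stepQ 80937 Q80937 (allL N80937 (tt N64098 (iv1 F272503)) (tt N79486 F272504) (tt N59853 (iv2 F326155)) (tt N112122 (iv3 F479596)) (tt N91708 (iv4 F394126)) (tt N47062 F272502) (tt N112124 D215368) (tt N47061 (iv7 D173859)))
theorem Q80939 : ∀ i, i < 80939 → P i := stepQ 80938 Q80938 (allL N80938 (tt N68589 (iv1 F358081)) (tt N47201 F305465) (tt N80689 F272508) (tt N63219 (iv3 F303186)) (tt N78628 (iv4 F307476)) (tt N103093 (iv5 F440036)) (tt N47064 (iv6 D173861)) (tt N89430 (iv7 F386464)))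
theorem Q80940 : ∀ i, i < 80940 → P i := stepQ 80939 Q80939 (allL N80939 (tt N47115 F341683) (tt N66833 F341697) (tt N76119 (iv2 F341698)) (tt N109287 (iv3 F466195)) (tt N52373 (iv4 F341699)) (tt N47067 (iv5 D173870)) (tt N103278 (iv6 F440950)) (tt N76120 F363255))
theorem Q80941 : ∀ i, i < 80941 → P i := stepQ 80940 Q80940 (allL N80940 (tt N81481 (iv1 F275379)) (tt N81486 (iv0 F275399)) (tt N80140 F331227) (tt N54765 (iv3 F331225)) (tt N80130 (iv4 F331229)) (tt N47068 (iv5 D173892)) (tt N84398 (iv6 F369147)) (tt N80135 F331224))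
theorem Q80942 : ∀ i, i < 80942 → P i := stepQ 80941 Q80941 (allL N80941 (tt N80856 F315796) (tt N78298 (iv0 F354635)) (tt N64537 F272552) (tt N65176 F272553) (tt N47074 F272554) (tt N112125 D215369) (tt N47073 (iv6 D173906)) (tt N80864 F315798))
theorem Q80943 : ∀ i, i < 80943 → P i := stepQ 80942 Q80942 (allL N80942 (tt N100357 F428576) (tt N63586 (iv0 F272565)) (tt N47082 F315004) (tt N65039 (iv3 F318026)) (tt N47076 (iv4 D173927)) (tt N65038 F335273) (tt N82375 (iv6 F344926)) (tt N47084 F315005))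
theorem Q80944 : ∀ i, i < 80944 → P i := stepQ 80943 Q80943 (allL N80943 (tt N63586 F272567) (tt N100357 F428577) (tt N47084 F310282) (tt N100308 (iv3 F428364)) (tt N47077 (iv4 D173930)) (tt N54144 (iv5 F351607)) (tt N80002 (iv6 F364609)) (tt N47082 F310283))
theorem Q80945 : ∀ i, i < 80945 → P i := stepQ 80944 Q80944 (allL N80944 (tt N81763 F353090) (tt N112126 D215370) (tt N47087 F272572) (tt N96107 (iv3 F411085)) (tt N47078 (iv4 D173935)) (tt N59191 (iv5 F351814)) (tt N59088 (iv6 F333004)) (tt N111856 (iv7 F478330)))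
theorem Q80946 : ∀ i, i < 80946 → P i := stepQ 80945 Q80945 (allL N80945 (tt N80532 (iv1 F340240)) (tt N80638 (iv0 F335266)) (tt N65038 (iv2 F335270)) (tt N63567 F335267) (tt N54100 (iv4 F351604)) (tt N47082 (iv5 D173948)) (tt N63565 F335274) (tt N54144 (iv7 F351609)))
theorem Q80947 : ∀ i, i < 80947 → P i := stepQ 80946 Q80946 (allL N80946 (tt N80632 (iv1 F314197)) (tt N80840 (iv0 F322815)) (tt N64550 F272612) (tt N65178 F272613) (tt N47083 (iv4 D173962)) (tt N112127 D215371) (tt N83915 (iv6 F367481)) (tt N80839 (iv7 F342350)))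
theorem Q80948 : ∀ i, i < 80948 → P i := stepQ 80947 Q80947 (allL N80947 (tt N79178 (iv1 F351616)) (tt N79177 F351615) (tt N65045 (iv2 F351613)) (tt N112011 (iv3 F479062)) (tt N47085 (iv4 D173967)) (tt N106828 (iv5 F455865)) (tt N101496 (iv6 F433149)) (tt N79179 F351614))
theorem Q80949 : ∀ i, i < 80949 → P i := stepQ 80948 Q80948 (allL N80948 (tt N101650 (iv1 F433695)) (tt N73076 (iv0 F364761)) (tt N59474 F353078) (tt N101657 (iv3 F433727)) (tt N47086 (iv4 D173980)) (tt N90268 (iv5 F389169)) (tt N59321 F336513) (tt N94970 (iv7 F406543)))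
theorem Q80950 : ∀ i, i < 80950 → P i := stepQ 80949 Q80949 (allL N80949 (tt N111856 (iv1 F478332)) (tt N47087 (iv0 D173983)) (tt N81763 (iv2 F348199)) (tt N101158 (iv3 F431987)) (tt N70104 F330220) (tt N112128 D215372) (tt N101157 F431986) (tt N112126 (iv7 F479621)))
theorem Q80951 : ∀ i, i < 80951 → P i := stepQ 80950 Q80950 (allL N80950 (tt N47087 (iv1 D173984)) (tt N111856 (iv0 F478331)) (tt N112126 (iv2 F479625)) (tt N81666 (iv3 F348196)) (tt N76648 (iv4 F348195)) (tt N81665 F348197) (tt N76652 F361593) (tt N81763 F348198))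
theorem Q80952 : ∀ i, i < 80952 → P i := stepQ 80951 Q80951 (allL N80951 (tt N112126 (iv1 F479620)) (tt N81763 (iv0 F346371)) (tt N111856 (iv2 F478326)) (tt N59094 (iv3 F346369)) (tt N47088 F272621) (tt N59199 F346370) (tt N101673 (iv6 F433795)) (tt N47087 (iv7 D173987)))
theorem Q80953 : ∀ i, i < 80953 → P i := stepQ 80952 Q80952 (allL N80952 (tt N88916 (iv1 F384530)) (tt N111824 (iv0 F478159)) (tt N80692 F362736) (tt N76585 F352109) (tt N50950 (iv4 F339468)) (tt N47093 (iv5 D174016)) (tt N50896 F339469) (tt N76761 (iv7 F352110)))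
theorem Q80954 : ∀ i, i < 80954 → P i := stepQ 80953 Q80953 (allL N80953 (tt N47203 F338069) (tt N89461 F386586) (tt N80693 (iv2 F338111)) (tt N76586 F338070) (tt N53935 F272670) (tt N85796 (iv5 F373985)) (tt N47093 (iv6 D174017)) (tt N89459 (iv7 F386576)))
theorem Q80955 : ∀ i, i < 80955 → P i := stepQ 80954 Q80954 (allL N80954 (tt N47183 F344386) (tt N76751 F344387) (tt N76587 (iv2 F344390)) (tt N47094 (iv3 D174019)) (tt N78554 F344389) (tt N101706 (iv5 F433973)) (tt N75221 F344388) (tt N76752 (iv7 F344391)))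
theorem Q80956 : ∀ i, i < 80956 → P i := stepQ 80955 Q80955 (allL N80955 (tt N111824 F478160) (tt N88916 (iv0 F384528)) (tt N76761 (iv2 F366704)) (tt N101706 (iv3 F433972)) (tt N85069 (iv4 F371523)) (tt N47094 (iv5 D174020)) (tt N82503 (iv6 F366570)) (tt N80692 F366703))
theorem Q80957 : ∀ i, i < 80957 → P i := stepQ 80956 Q80956 (allL N80956 (tt N80766 F338120) (tt N47099 F338121) (tt N76762 F338122) (tt N75221 (iv3 F362637)) (tt N53937 F272673) (tt N88643 (iv5 F383677)) (tt N47094 (iv6 D174021)) (tt N89725 (iv7 F387324)))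
theorem Q80958 : ∀ i, i < 80958 → P i := stepQ 80957 Q80957 (allL N80957 (tt N100145 (iv1 F427682)) (tt N81261 (iv0 F273971)) (tt N68501 (iv2 F355024)) (tt N83231 F286404) (tt N47097 (iv4 D174033)) (tt N94069 F403060) (tt N94071 (iv6 F403067)) (tt N89737 (iv7 F387367)))
theorem Q80959 : ∀ i, i < 80959 → P i := stepQ 80958 Q80958 (allL N80958 (tt N81512 F348447) (tt N67415 F358868) (tt N68509 (iv2 F358870)) (tt N47098 F272765) (tt N65946 (iv4 F358866)) (tt N47097 (iv5 D174034)) (tt N65944 F358829) (tt N89745 (iv7 F387395)))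
theorem Q80960 : ∀ i, i < 80960 → P i := stepQ 80959 Q80959 (allL N80959 (tt N76754 F356987) (tt N112129 D215373) (tt N68510 F343516) (tt N47099 F272766) (tt N94071 (iv4 F403068)) (tt N66992 (iv5 F356984)) (tt N47097 (iv6 D174035)) (tt N104805 (iv7 F447372)))
theorem Q80961 : ∀ i, i < 80961 → P i := stepQ 80960 Q80960 (allL N80960 (tt N47100 (iv1 F272787)) (tt N47098 (iv0 D174037)) (tt N89721 (iv2 F387303)) (tt N75217 (iv3 F348709)) (tt N96527 (iv4 F412861)) (tt N80711 F272769) (tt N87018 (iv6 F378058)) (tt N89722 (iv7 F387307)))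
theorem Q80962 : ∀ i, i < 80962 → P i := stepQ 80961 Q80961 (allL N80961 (tt N47098 (iv1 D174038)) (tt N47100 F272783) (tt N89722 F387309) (tt N78702 F358645) (tt N74236 F342032) (tt N79377 (iv5 F311737)) (tt N101867 (iv6 F434739)) (tt N89721 F387305))
theorem Q80963 : ∀ i, i < 80963 → P i := stepQ 80962 Q80962 (allL N80962 (tt N103427 (iv1 F441585)) (tt N79396 F366764) (tt N89723 (iv2 F387311)) (tt N58270 F358876) (tt N47098 (iv4 D174039)) (tt N91645 F393875) (tt N58267 (iv6 F358875)) (tt N89746 (iv7 F387400)))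
theorem Q80964 : ∀ i, i < 80964 → P i := stepQ 80963 Q80963 (allL N80963 (tt N75213 F358633) (tt N101904 F434894) (tt N89724 (iv2 F387317)) (tt N65944 (iv3 F358634)) (tt N58267 F358828) (tt N75202 (iv5 F353662)) (tt N47098 (iv6 D174040)) (tt N97630 (iv7 F417685)))
theorem Q80965 : ∀ i, i < 80965 → P i := stepQ 80964 Q80964 (allL N80964 (tt N47099 (iv1 D174043)) (tt N80766 F272788) (tt N89725 (iv2 F387328)) (tt N75660 F338123) (tt N54037 F272789) (tt N80332 (iv5 F352179)) (tt N89459 (iv6 F386574)) (tt N76762 (iv7 F338114)))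
theorem Q80966 : ∀ i, i < 80966 → P i := stepQ 80965 Q80965 (allL N80965 (tt N89725 (iv1 F387323)) (tt N76762 (iv0 F311778)) (tt N80766 F272790) (tt N104805 (iv3 F447370)) (tt N52973 F272839) (tt N78552 (iv5 F298226)) (tt N84139 F368277) (tt N47099 (iv7 D174044)))
theorem Q80967 : ∀ i, i < 80967 → P i := stepQ 80966 Q80966 (allL N80966 (tt N79396 (iv1 F337636)) (tt N103427 (iv0 F441584)) (tt N89746 (iv2 F387398)) (tt N59081 F333022) (tt N47100 (iv4 D174050)) (tt N59079 (iv5 F333021)) (tt N95714 F409263) (tt N89723 (iv7 F387312)))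
theorem Q80968 : ∀ i, i < 80968 → P i := stepQ 80967 Q80967 (allL N80967 (tt N71745 F352289) (tt N90641 (iv0 F390374)) (tt N89747 (iv2 F387407)) (tt N65865 F352288) (tt N95714 (iv4 F409261)) (tt N90520 (iv5 F389938)) (tt N47100 (iv6 D174051)) (tt N96666 (iv7 F413365)))
theorem Q80969 : ∀ i, i < 80969 → P i := stepQ 80968 Q80968 (allL N80968 (tt N84139 (iv1 F368273)) (tt N47101 (iv0 D174052)) (tt N54396 (iv2 F272799)) (tt N74738 F333426) (tt N53385 F272800) (tt N88465 (iv5 F383158)) (tt N84147 (iv6 F368332)) (tt N54403 F272801))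
theorem Q80970 : ∀ i, i < 80970 → P i := stepQ 80969 Q80969 (allL N80969 (tt N54403 F272860) (tt N54396 F272861) (tt N84139 (iv2 F368278)) (tt N47963 F333409) (tt N80296 F333410) (tt N71611 F337650) (tt N80766 F272859) (tt N47101 (iv7 D174053)))
theorem Q80971 : ∀ i, i < 80971 → P i := stepQ 80970 Q80970 (allL N80970 (tt N101809 F434446) (tt N103278 (iv0 F440952)) (tt N68466 (iv2 F364110)) (tt N47102 (iv3 D174054)) (tt N105168 (iv4 F449082)) (tt N68465 F337627) (tt N111686 (iv6 F477481)) (tt N103448 (iv7 F441683)))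
theorem Q80972 : ∀ i, i < 80972 → P i := stepQ 80971 Q80971 (allL N80971 (tt N81221 (iv1 F273781)) (tt N79728 (iv0 F320316)) (tt N81220 F273774) (tt N112130 D215374) (tt N47102 (iv4 D174055)) (tt N107504 (iv5 F458558)) (tt N63884 F365183) (tt N78457 (iv7 F330859)))
theorem Q80973 : ∀ i, i < 80973 → P i := stepQ 80972 Q80972 (allL N80972 (tt N56873 F358706) (tt N47103 (iv0 D174060)) (tt N56875 F342038) (tt N112131 D215375) (tt N47291 F342039) (tt N94417 (iv5 F404396)) (tt N104127 (iv6 F444316)) (tt N56874 (iv7 F358675)))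
theorem Q80974 : ∀ i, i < 80974 → P i := stepQ 80973 Q80973 (allL N80973 (tt N112075 (iv1 F479375)) (tt N111588 (iv0 F477034)) (tt N111906 (iv2 F478572)) (tt N47780 F339269) (tt N56876 (iv4 F362029)) (tt N93813 (iv5 F402019)) (tt N47104 (iv6 D174065)) (tt N47126 F272871))
theorem Q80975 : ∀ i, i < 80975 → P i := stepQ 80974 Q80974 (allL N80974 (tt N64585 F362035) (tt N96345 (iv0 F431596)) (tt N96347 (iv2 F412172)) (tt N47107 (iv3 D174092)) (tt N101083 F431595) (tt N112132 D215376) (tt N58278 F346876) (tt N96348 (iv7 F412173)))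
theorem Q80976 : ∀ i, i < 80976 → P i := stepQ 80975 Q80975 (allL N80975 (tt N81232 (iv1 F273814)) (tt N80821 F272898) (tt N81229 F273805) (tt N112132 (iv3 F479658)) (tt N47153 F272897) (tt N47107 (iv5 D174093)) (tt N93252 F400139) (tt N81230 (iv7 F273807)))
theorem Q80977 : ∀ i, i < 80977 → P i := stepQ 80976 Q80976 (allL N80976 (tt N47691 F333733) (tt N47720 (iv0 F272905)) (tt N47111 F272903) (tt N47729 (iv3 F272907)) (tt N47110 (iv4 D174099)) (tt N78176 F351468) (tt N75818 (iv6 F344127)) (tt N47721 F272904))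
theorem Q80978 : ∀ i, i < 80978 → P i := stepQ 80977 Q80977 (allL N80977 (tt N47111 (iv1 D174103)) (tt N47721 F272911) (tt N47720 F333735) (tt N112133 D215377) (tt N80838 F324290) (tt N107660 (iv5 F459124)) (tt N87700 (iv6 F380178)) (tt N47691 F324291))
theorem Q80979 : ∀ i, i < 80979 → P i := stepQ 80978 Q80978 (allL N80978 (tt N94469 F404601) (tt N99240 (iv0 F423821)) (tt N78176 (iv2 F351467)) (tt N47678 F272912) (tt N48023 F351465) (tt N47111 (iv5 D174104)) (tt N48021 F351466) (tt N47722 F272913))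
theorem Q80980 : ∀ i, i < 80980 → P i := stepQ 80979 Q80979 (allL N80979 (tt N109262 F466057) (tt N79346 (iv0 F359604)) (tt N47795 F359278) (tt N112134 D215378) (tt N47112 (iv4 D174108)) (tt N110773 (iv5 F473131)) (tt N101873 (iv6 F434773)) (tt N64143 F359279))
theorem Q80981 : ∀ i, i < 80981 → P i := stepQ 80980 Q80980 (allL N80980 (tt N79580 F431802) (tt N79239 F431803) (tt N101901 (iv2 F434882)) (tt N47113 (iv3 D174114)) (tt N112134 (iv4 F479672)) (tt N112135 D215379) (tt N112136 D215380) (tt N101902 (iv7 F434884)))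
theorem Q80982 : ∀ i, i < 80982 → P i := stepQ 80981 Q80981 (allL N80981 (tt N80821 F272921) (tt N81232 F273813) (tt N81230 F273810) (tt N112135 (iv3 F479677)) (tt N47152 F272920) (tt N47113 (iv5 D174115)) (tt N55515 F358400) (tt N81229 F273806))
theorem Q80983 : ∀ i, i < 80983 → P i := stepQ 80982 Q80982 (allL N80982 (tt N48264 F358727) (tt N52832 F358728) (tt N101871 F434760) (tt N112136 (iv3 F479681)) (tt N47114 F272922) (tt N101160 (iv5 F431998)) (tt N47113 (iv6 D174116)) (tt N82511 F355394))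
theorem Q80984 : ∀ i, i < 80984 → P i := stepQ 80983 Q80983 (allL N80983 (tt N47114 (iv1 D174118)) (tt N90506 (iv0 F389878)) (tt N101867 (iv2 F434737)) (tt N76167 (iv3 F353951)) (tt N112137 D215381) (tt N53895 (iv5 F353952)) (tt N89722 F387310) (tt N77026 F353950))
theorem Q80985 : ∀ i, i < 80985 → P i := stepQ 80984 Q80984 (allL N80984 (tt N96784 F413926) (tt N112138 D215382) (tt N101128 (iv2 F431823)) (tt N47116 (iv3 D174129)) (tt N111592 (iv4 F477058)) (tt N97595 F417528) (tt N107820 (iv6 F459846)) (tt N72908 (iv7 F353653)))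
theorem Q80986 : ∀ i, i < 80986 → P i := stepQ 80985 Q80985 (allL N80985 (tt N59575 F358920) (tt N59587 (iv0 F353320)) (tt N59585 (iv2 F343706)) (tt N97595 (iv3 F417524)) (tt N47146 F272932) (tt N47116 (iv5 D174130)) (tt N112139 D215383) (tt N59584 (iv7 F343713)))
theorem Q80987 : ∀ i, i < 80987 → P i := stepQ 80986 Q80986 (allL N80986 (tt N47893 F358915) (tt N47895 F358916) (tt N47892 F358886) (tt N107820 (iv3 F459843)) (tt N47117 F272933) (tt N107815 (iv5 F459822)) (tt N47116 (iv6 D174131)) (tt N47891 F358887))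
theorem Q80988 : ∀ i, i < 80988 → P i := stepQ 80987 Q80987 (allL N80987 (tt N68546 F357679) (tt N100698 F430076) (tt N104254 F444962) (tt N102788 (iv3 F438656)) (tt N47118 (iv4 D174136)) (tt N99038 (iv5 F423105)) (tt N95826 (iv6 F409824)) (tt N100341 (iv7 F428493)))
theorem Q80989 : ∀ i, i < 80989 → P i := stepQ 80988 Q80988 (allL N80988 (tt N101672 F433792) (tt N101673 F433798) (tt N112140 D215384) (tt N47119 (iv3 D174138)) (tt N102788 (iv4 F438657)) (tt N112141 D215385) (tt N102787 F438654) (tt N81223 (iv7 F273789)))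
theorem Q80990 : ∀ i, i < 80990 → P i := stepQ 80989 Q80989 (allL N80989 (tt N59587 F353288) (tt N59575 F358921) (tt N59584 (iv2 F343710)) (tt N112141 (iv3 F479709)) (tt N47144 F272938) (tt N47119 (iv5 D174139)) (tt N94744 F405787) (tt N59585 (iv7 F343709)))
theorem Q80991 : ∀ i, i < 80991 → P i := stepQ 80990 Q80990 (allL N80990 (tt N96783 F413918) (tt N96969 (iv0 F414847)) (tt N72905 (iv2 F353647)) (tt N102787 (iv3 F438651)) (tt N47120 F272939) (tt N95211 F407438) (tt N47119 (iv6 D174140)) (tt N101554 (iv7 F433377)))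
theorem Q80992 : ∀ i, i < 80992 → P i := stepQ 80991 Q80991 (allL N80991 (tt N79286 (iv1 F355097)) (tt N47120 (iv0 D174141)) (tt N75204 (iv2 F355093)) (tt N95844 F409913) (tt N57988 F355094) (tt N75203 F355095) (tt N111812 (iv6 F478103)) (tt N79285 F355096))
theorem Q80993 : ∀ i, i < 80993 → P i := stepQ 80992 Q80992 (allL N80992 (tt N107737 (iv1 F459473)) (tt N81770 (iv0 F351058)) (tt N79584 (iv2 F351057)) (tt N47121 (iv3 D174144)) (tt N95582 (iv4 F408753)) (tt N79582 F351056) (tt N82028 (iv6 F334710)) (tt N107736 (iv7 F459471)))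
theorem Q80994 : ∀ i, i < 80994 → P i := stepQ 80993 Q80993 (allL N80993 (tt N100851 F430776) (tt N100850 F430771) (tt N64580 F351054) (tt N79582 (iv3 F351053)) (tt N47142 F272941) (tt N47121 (iv5 D174145)) (tt N101144 (iv6 F431919)) (tt N100852 (iv7 F430781)))
theorem Q80995 : ∀ i, i < 80995 → P i := stepQ 80994 Q80994 (allL N80994 (tt N80996 (iv1 F362032)) (tt N47123 (iv0 D174150)) (tt N93482 (iv2 F400871)) (tt N112142 D215386) (tt N57158 F362033) (tt N93837 (iv5 F402091)) (tt N112143 D215387) (tt N93485 (iv7 F400881)))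
theorem Q80996 : ∀ i, i < 80996 → P i := stepQ 80995 Q80995 (allL N80995 (tt N47123 (iv1 D174151)) (tt N80996 F346366) (tt N93485 (iv2 F400880)) (tt N97768 (iv3 F418231)) (tt N57159 F364763) (tt N93833 (iv5 F402081)) (tt N97767 F418229) (tt N93482 (iv7 F400872)))
theorem Q80997 : ∀ i, i < 80997 → P i := stepQ 80996 Q80996 (allL N80996 (tt N80995 (iv1 F346366)) (tt N80994 F362032) (tt N80997 (iv2 F346363)) (tt N47124 F272945) (tt N59095 (iv4 F346364)) (tt N47123 (iv5 D174153)) (tt N56885 (iv6 F346361)) (tt N59209 F346362))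
theorem Q80998 : ∀ i, i < 80998 → P i := stepQ 80997 Q80997 (allL N80997 (tt N93485 (iv1 F400883)) (tt N93482 (iv0 F400873)) (tt N80996 F346363) (tt N47125 F272946) (tt N59094 F346368) (tt N59209 (iv5 F346365)) (tt N56884 F346367) (tt N47123 (iv7 D174154)))
theorem Q80999 : ∀ i, i < 80999 → P i := stepQ 80998 Q80998 (allL N80998 (tt N47154 (iv1 F272949)) (tt N47124 (iv0 D174155)) (tt N96556 (iv2 F412969)) (tt N94671 (iv3 F405462)) (tt N47139 F272948) (tt N47130 F272947) (tt N94670 F405460) (tt N101121 (iv7 F431781)))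
theorem Q81000 : ∀ i, i < 81000 → P i := stepQ 80999 Q80999 (allL N80999 (tt N101657 (iv1 F433730)) (tt N101148 (iv0 F431934)) (tt N101656 (iv2 F433721)) (tt N56885 F346359) (tt N95565 (iv4 F408680)) (tt N56877 F346360) (tt N47124 (iv6 D174157)) (tt N57146 (iv7 F346358)))
theorem Q81001 : ∀ i, i < 81001 → P i := stepQ 81000 Q81000 (allL N81000 (tt N96425 F412471) (tt N96430 F412491) (tt N96429 (iv2 F412484)) (tt N56884 (iv3 F362027)) (tt N47126 F272953) (tt N57143 (iv5 F346357)) (tt N47125 (iv6 D174158)) (tt N56876 F362028))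
theorem Q81002 : ∀ i, i < 81002 → P i := stepQ 81001 Q81001 (allL N81001 (tt N111906 F478578) (tt N47126 (iv0 D174159)) (tt N111588 F477037) (tt N91410 (iv3 F393026)) (tt N81728 F393025) (tt N91409 F393024) (tt N106825 (iv6 F455851)) (tt N112075 (iv7 F479376)))
theorem Q81003 : ∀ i, i < 81003 → P i := stepQ 81002 Q81002 (allL N81002 (tt N47126 (iv1 D174160)) (tt N111906 (iv0 F478577)) (tt N112075 F479378) (tt N95804 (iv3 F409738)) (tt N101158 (iv4 F431988)) (tt N95802 F409739) (tt N100336 (iv6 F428470)) (tt N111588 (iv7 F477033)))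
theorem Q81004 : ∀ i, i < 81004 → P i := stepQ 81003 Q81003 (allL N81003 (tt N96883 (iv1 F414434)) (tt N47127 (iv0 D174173)) (tt N79332 (iv2 F359283)) (tt N111517 (iv3 F476683)) (tt N78649 (iv4 F386453)) (tt N89424 F386452) (tt N111516 (iv6 F476681)) (tt N95749 F409447))
theorem Q81005 : ∀ i, i < 81005 → P i := stepQ 81004 Q81004 (allL N81004 (tt N47127 (iv1 D174174)) (tt N96883 (iv0 F414435)) (tt N95749 (iv2 F409442)) (tt N79334 F353246) (tt N78650 F359281) (tt N89005 F384787) (tt N57293 (iv6 F353245)) (tt N79332 (iv7 F359280)))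
theorem Q81006 : ∀ i, i < 81006 → P i := stepQ 81005 Q81005 (allL N81005 (tt N96881 (iv1 F414424)) (tt N96863 (iv0 F414325)) (tt N96855 (iv2 F414274)) (tt N95580 (iv3 F408740)) (tt N47127 (iv4 D174175)) (tt N95578 (iv5 F408735)) (tt N48365 F328758) (tt N96882 (iv7 F414426)))
theorem Q81007 : ∀ i, i < 81007 → P i := stepQ 81006 Q81006 (allL N81006 (tt N80776 F272974) (tt N80777 F272975) (tt N59586 (iv2 F343721)) (tt N101126 F431817) (tt N47129 (iv4 D174180)) (tt N59575 (iv5 F358919)) (tt N59623 (iv6 F362848)) (tt N79291 (iv7 F300921)))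
theorem Q81008 : ∀ i, i < 81008 → P i := stepQ 81007 Q81007 (allL N81007 (tt N96557 F412978) (tt N80601 (iv0 F365844)) (tt N94959 (iv2 F406505)) (tt N47130 (iv3 D174182)) (tt N95580 (iv4 F408741)) (tt N94671 F405466) (tt N80565 F365579) (tt N96558 (iv7 F412982)))
theorem Q81009 : ∀ i, i < 81009 → P i := stepQ 81008 Q81008 (allL N81008 (tt N65069 F272981) (tt N47140 F353289) (tt N59579 (iv2 F343716)) (tt N106093 (iv3 F453076)) (tt N59575 (iv4 F358918)) (tt N47132 (iv5 D174190)) (tt N59573 F358922) (tt N79293 (iv7 F300936)))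
theorem Q81010 : ∀ i, i < 81010 → P i := stepQ 81009 Q81009 (allL N81009 (tt N47140 F353290) (tt N65069 F272984) (tt N79293 (iv2 F300935)) (tt N71051 F353285) (tt N59587 (iv4 F353286)) (tt N47133 (iv5 D174192)) (tt N78486 (iv6 F365628)) (tt N59579 (iv7 F343718)))
theorem Q81011 : ∀ i, i < 81011 → P i := stepQ 81010 Q81010 (allL N81010 (tt N91952 F395106) (tt N96747 (iv0 F413754)) (tt N91938 (iv2 F395027)) (tt N47135 F272986) (tt N47882 F300491) (tt N53858 F359242) (tt N47134 (iv6 D174197)) (tt N53857 (iv7 F359240)))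
theorem Q81012 : ∀ i, i < 81012 → P i := stepQ 81011 Q81011 (allL N81011 (tt N101878 (iv1 F434787)) (tt N112137 (iv0 F479691)) (tt N82363 F365498) (tt N96326 (iv3 F412047)) (tt N47137 F272994) (tt N112144 D215388) (tt N47136 (iv6 D174202)) (tt N82361 F365500))
theorem Q81013 : ∀ i, i < 81013 → P i := stepQ 81012 Q81012 (allL N81012 (tt N91940 F395045) (tt N47138 (iv0 D174209)) (tt N81621 (iv2 F353244)) (tt N91528 F393500) (tt N94111 (iv4 F403260)) (tt N78670 F353243) (tt N101812 F434458) (tt N101668 (iv7 F433774)))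
theorem Q81014 : ∀ i, i < 81014 → P i := stepQ 81013 Q81013 (allL N81013 (tt N47138 (iv1 D174210)) (tt N91940 (iv0 F395044)) (tt N101668 F433772) (tt N55449 F358140) (tt N79522 (iv4 F272998)) (tt N81622 F338789) (tt N99235 (iv6 F423796)) (tt N81621 (iv7 F338790)))
theorem Q81015 : ∀ i, i < 81015 → P i := stepQ 81014 Q81014 (allL N81014 (tt N81621 (iv1 F349872)) (tt N101668 F433773) (tt N47138 (iv2 D174211)) (tt N47139 F338787) (tt N47784 F272999) (tt N47138 F338788) (tt N66692 F346325) (tt N91940 (iv7 F395043)))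
theorem Q81016 : ∀ i, i < 81016 → P i := stepQ 81015 Q81015 (allL N81015 (tt N111977 (iv1 F478941)) (tt N111976 F478938) (tt N47238 F353295) (tt N55483 (iv3 F353296)) (tt N101144 (iv4 F431918)) (tt N111456 (iv5 F476439)) (tt N47142 (iv6 D174227)) (tt N91987 (iv7 F395262)))
theorem Q81017 : ∀ i, i < 81017 → P i := stepQ 81016 Q81016 (allL N81016 (tt N79298 (iv1 F362540)) (tt N47143 (iv0 D174231)) (tt N79297 (iv2 F362535)) (tt N81020 (iv3 F362539)) (tt N97366 (iv4 F416530)) (tt N55518 F362536) (tt N95559 (iv6 F408649)) (tt N79296 F362537))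
theorem Q81018 : ∀ i, i < 81018 → P i := stepQ 81017 Q81017 (allL N81017 (tt N47143 (iv1 D174232)) (tt N79298 F362527) (tt N79296 F362526) (tt N95585 (iv3 F408767)) (tt N79226 (iv4 F364965)) (tt N55519 (iv5 F362525)) (tt N78499 (iv6 F364275)) (tt N79297 (iv7 F362534)))
theorem Q81019 : ∀ i, i < 81019 → P i := stepQ 81018 Q81018 (allL N81018 (tt N79297 (iv1 F362531)) (tt N79296 F362538) (tt N47143 (iv2 D174233)) (tt N112077 (iv3 F479383)) (tt N79331 F362529) (tt N81028 F362530) (tt N87014 F378044) (tt N79298 (iv7 F362528)))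
theorem Q81020 : ∀ i, i < 81020 → P i := stepQ 81019 Q81019 (allL N81019 (tt N47146 (iv1 F273028)) (tt N47144 (iv0 D174235)) (tt N79299 (iv2 F300947)) (tt N71702 (iv3 F365883)) (tt N100850 (iv4 F430770)) (tt N65059 F273027) (tt N100919 (iv6 F430962)) (tt N78638 (iv7 F273030)))
theorem Q81021 : ∀ i, i < 81021 → P i := stepQ 81020 Q81020 (allL N81020 (tt N47144 (iv1 D174236)) (tt N47146 F273031) (tt N78638 (iv2 F273034)) (tt N81016 F362539) (tt N100851 (iv4 F430773)) (tt N65058 F273033) (tt N112145 D215389) (tt N79299 (iv7 F300949)))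
theorem Q81022 : ∀ i, i < 81022 → P i := stepQ 81021 Q81021 (allL N81021 (tt N111016 F474271) (tt N80259 (iv0 F362541)) (tt N111493 (iv2 F476593)) (tt N80256 (iv3 F362521)) (tt N94744 F405786) (tt N81184 (iv5 F273556)) (tt N47144 (iv6 D174237)) (tt N91871 (iv7 F394773)))
theorem Q81023 : ∀ i, i < 81023 → P i := stepQ 81022 Q81022 (allL N81022 (tt N112077 (iv1 F479387)) (tt N47145 (iv0 D174238)) (tt N112076 F479380) (tt N78761 F364248) (tt N112146 D215390) (tt N91820 F394547) (tt N52784 (iv6 F364249)) (tt N111606 (iv7 F477132)))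
theorem Q81024 : ∀ i, i < 81024 → P i := stepQ 81023 Q81023 (allL N81023 (tt N47145 (iv1 D174239)) (tt N112077 F479388) (tt N111606 F477135) (tt N92091 (iv3 F395703)) (tt N97667 (iv4 F417851)) (tt N91819 (iv5 F395248)) (tt N92090 F395702) (tt N112076 (iv7 F479379)))
theorem Q81025 : ∀ i, i < 81025 → P i := stepQ 81024 Q81024 (allL N81024 (tt N112076 F479382) (tt N111606 (iv0 F477133)) (tt N47145 (iv2 D174240)) (tt N79298 F358245) (tt N82537 (iv4 F358240)) (tt N81027 (iv5 F358246)) (tt N79267 (iv6 F358243)) (tt N112077 (iv7 F479386)))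
theorem Q81026 : ∀ i, i < 81026 → P i := stepQ 81025 Q81025 (allL N81025 (tt N112147 D215391) (tt N112148 D215392) (tt N81027 (iv2 F337358)) (tt N47146 F273037) (tt N82534 (iv4 F411041)) (tt N47145 (iv5 D174242)) (tt N91881 (iv6 F394811)) (tt N112078 (iv7 F479390)))
theorem Q81027 : ∀ i, i < 81027 → P i := stepQ 81026 Q81026 (allL N81026 (tt N87801 F380564) (tt N91869 F394766) (tt N55553 F348746) (tt N91881 (iv3 F394809)) (tt N112139 (iv4 F479702)) (tt N79269 (iv5 F348747)) (tt N47146 (iv6 D174245)) (tt N91870 (iv7 F394770)))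
theorem Q81028 : ∀ i, i < 81028 → P i := stepQ 81027 Q81027 (allL N81027 (tt N92091 F436897) (tt N82477 (iv0 F358247)) (tt N81025 F337358) (tt N47147 (iv3 D174250)) (tt N102359 F436892) (tt N81024 F358246) (tt N55475 F362849) (tt N112149 D215393))
theorem Q81029 : ∀ i, i < 81029 → P i := stepQ 81028 Q81028 (allL N81028 (tt N47149 F343704) (tt N47151 F343705) (tt N47148 F273054) (tt N112149 (iv3 F479749)) (tt N55478 (iv4 F361143)) (tt N81018 (iv5 F362530)) (tt N78491 F361141) (tt N47147 (iv7 D174254)))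
theorem Q81030 : ∀ i, i < 81030 → P i := stepQ 81029 Q81029 (allL N81029 (tt N52287 F354477) (tt N87004 (iv0 F378026)) (tt N47150 F273057) (tt N95538 (iv3 F408547)) (tt N75364 (iv4 F354480)) (tt N47149 (iv5 D174261)) (tt N109912 (iv6 F469180)) (tt N87026 (iv7 F378082)))
theorem Q81031 : ∀ i, i < 81031 → P i := stepQ 81030 Q81030 (allL N81030 (tt N104398 (iv1 F445597)) (tt N64126 (iv0 F337361)) (tt N109912 (iv2 F469178)) (tt N47155 F273058) (tt N80772 F337362) (tt N78513 F273059) (tt N47150 (iv6 D174265)) (tt N112150 D215394))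
theorem Q81032 : ∀ i, i < 81032 → P i := stepQ 81031 Q81031 (allL N81031 (tt N87004 (iv1 F378027)) (tt N52287 (iv0 F357673)) (tt N87026 F378080) (tt N47156 F273060) (tt N75365 F357678) (tt N47151 F273061) (tt N79503 (iv6 F378045)) (tt N47150 (iv7 D174266)))
theorem Q81033 : ∀ i, i < 81033 → P i := stepQ 81032 Q81032 (allL N81032 (tt N91820 (iv1 F394545)) (tt N91819 F394551) (tt N91821 (iv2 F394548)) (tt N47153 (iv3 D174270)) (tt N112151 D215395) (tt N96755 F413789) (tt N112152 D215396) (tt N91811 F394519))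
theorem Q81034 : ∀ i, i < 81034 → P i := stepQ 81033 Q81033 (allL N81033 (tt N87002 (iv1 F378233)) (tt N87065 F378269) (tt N87067 (iv2 F378264)) (tt N112152 (iv3 F479770)) (tt N93252 (iv4 F400140)) (tt N86999 (iv5 F378007)) (tt N47153 (iv6 D174271)) (tt N87059 (iv7 F378231)))
theorem Q81035 : ∀ i, i < 81035 → P i := stepQ 81034 Q81034 (allL N81034 (tt N92882 (iv1 F398631)) (tt N92881 F398624) (tt N65496 (iv2 F346354)) (tt N80775 F346352) (tt N47155 F273064) (tt N92869 (iv5 F398590)) (tt N47154 (iv6 D174273)) (tt N92880 (iv7 F398622)))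
theorem Q81036 : ∀ i, i < 81036 → P i := stepQ 81035 Q81035 (allL N81035 (tt N92883 (iv1 F398640)) (tt N47155 (iv0 D174274)) (tt N112079 F479397) (tt N93149 (iv3 F399676)) (tt N112153 D215397) (tt N93148 (iv5 F399673)) (tt N111113 (iv6 F474727)) (tt N112080 (iv7 F479400)))
theorem Q81037 : ∀ i, i < 81037 → P i := stepQ 81036 Q81036 (allL N81036 (tt N47155 (iv1 D174275)) (tt N92883 F398639) (tt N112080 F479403) (tt N103446 (iv3 F443349)) (tt N112154 D215398) (tt N111084 (iv5 F474586)) (tt N112155 D215399) (tt N112079 F479398))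
theorem Q81038 : ∀ i, i < 81038 → P i := stepQ 81037 Q81037 (allL N81037 (tt N112080 (iv1 F479399)) (tt N112079 F479396) (tt N92883 (iv2 F398636)) (tt N112150 (iv3 F479756)) (tt N92880 (iv4 F398621)) (tt N78520 F273065) (tt N112156 D215400) (tt N47155 (iv7 D174276)))
theorem Q81039 : ∀ i, i < 81039 → P i := stepQ 81038 Q81038 (allL N81038 (tt N112157 D215401) (tt N112158 D215402) (tt N95565 (iv2 F408675)) (tt N79503 F378046) (tt N101656 F433720) (tt N71591 F352925) (tt N47156 (iv6 D174277)) (tt N112156 (iv7 F479794)))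
theorem Q81040 : ∀ i, i < 81040 → P i := stepQ 81039 Q81039 (allL N81039 (tt N47162 F315772) (tt N63706 (iv0 F273070)) (tt N47158 F273067) (tt N47163 F273068) (tt N47175 F303092) (tt N101693 (iv5 F433896)) (tt N47157 (iv6 D174279)) (tt N79389 F303093))
theorem Q81041 : ∀ i, i < 81041 → P i := stepQ 81040 Q81040 (allL N81040 (tt N47158 (iv1 D174281)) (tt N79389 F303090) (tt N63706 F345655) (tt N47358 F345656) (tt N103890 (iv4 F443231)) (tt N74997 F345657) (tt N47574 F345658) (tt N47162 F345659))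
theorem Q81042 : ∀ i, i < 81042 → P i := stepQ 81041 Q81041 (allL N81041 (tt N109282 F466173) (tt N109926 (iv0 F469261)) (tt N47167 F273096) (tt N101693 (iv3 F433901)) (tt N77224 F349796) (tt N47163 (iv5 D174298)) (tt N77222 (iv6 F349794)) (tt N109268 (iv7 F466089)))
theorem Q81043 : ∀ i, i < 81043 → P i := stepQ 81042 Q81042 (allL N81042 (tt N47166 (iv1 F273100)) (tt N47165 F273101) (tt N47168 F273097) (tt N79389 F362192) (tt N47182 F273098) (tt N109268 (iv5 F466088)) (tt N79423 F273099) (tt N47163 (iv7 D174299)))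
theorem Q81044 : ∀ i, i < 81044 → P i := stepQ 81043 Q81043 (allL N81043 (tt N66846 (iv1 F342726)) (tt N66845 (iv0 F342713)) (tt N66847 (iv2 F342714)) (tt N96961 F414802) (tt N49638 F342715) (tt N47166 (iv5 D174311)) (tt N49637 F340283) (tt N64704 F342717))
theorem Q81045 : ∀ i, i < 81045 → P i := stepQ 81044 Q81044 (allL N81044 (tt N109268 F466091) (tt N47167 (iv0 D174313)) (tt N109282 (iv2 F466169)) (tt N98143 F429179) (tt N78339 (iv4 F429184)) (tt N109412 (iv5 F466836)) (tt N75019 (iv6 F429183)) (tt N109926 (iv7 F469260)))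
theorem Q81046 : ∀ i, i < 81046 → P i := stepQ 81045 Q81045 (allL N81045 (tt N47167 (iv1 D174314)) (tt N109268 (iv0 F466090)) (tt N109926 (iv2 F469257)) (tt N112159 D215403) (tt N110309 (iv4 F470969)) (tt N103933 (iv5 F443430)) (tt N103820 (iv6 F446296)) (tt N109282 (iv7 F466171)))
theorem Q81047 : ∀ i, i < 81047 → P i := stepQ 81046 Q81046 (allL N81046 (tt N110055 F469760) (tt N109556 (iv0 F467504)) (tt N77224 (iv2 F360778)) (tt N62983 F352602) (tt N47167 (iv4 D174315)) (tt N110066 (iv5 F469814)) (tt N65201 (iv6 F336900)) (tt N110153 (iv7 F470200)))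
theorem Q81048 : ∀ i, i < 81048 → P i := stepQ 81047 Q81047 (allL N81047 (tt N109926 (iv1 F469262)) (tt N109282 (iv0 F466172)) (tt N109268 (iv2 F466086)) (tt N47171 F273110) (tt N110153 (iv4 F470199)) (tt N47168 F273111) (tt N109267 (iv6 F466085)) (tt N47167 (iv7 D174316)))
theorem Q81049 : ∀ i, i < 81049 → P i := stepQ 81048 Q81048 (allL N81048 (tt N47992 (iv1 F273221)) (tt N47173 (iv0 D174376)) (tt N88852 (iv2 F384344)) (tt N47554 F275509) (tt N48715 F273220) (tt N82588 (iv5 F344827)) (tt N65222 F357875) (tt N88475 (iv7 F383202)))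
theorem Q81050 : ∀ i, i < 81050 → P i := stepQ 81049 Q81049 (allL N81049 (tt N47173 (iv1 D174377)) (tt N47992 F273222) (tt N88475 (iv2 F383205)) (tt N100669 F429932) (tt N81868 (iv4 F277347)) (tt N109234 (iv5 F465907)) (tt N100691 (iv6 F430040)) (tt N88852 (iv7 F384347)))
theorem Q81051 : ∀ i, i < 81051 → P i := stepQ 81050 Q81050 (allL N81050 (tt N47579 (iv1 F273224)) (tt N47174 (iv0 D174379)) (tt N66990 (iv2 F348431)) (tt N100153 (iv3 F427729)) (tt N65203 F347344) (tt N80336 F348429) (tt N66984 (iv6 F361358)) (tt N65200 F348434))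
theorem Q81052 : ∀ i, i < 81052 → P i := stepQ 81051 Q81051 (allL N81051 (tt N80134 F365701) (tt N90639 F390361) (tt N90638 F390351) (tt N97382 F416623) (tt N90988 (iv4 F391485)) (tt N47177 F273233) (tt N91384 (iv6 F392944)) (tt N47176 (iv7 D174387)))
theorem Q81053 : ∀ i, i < 81053 → P i := stepQ 81052 Q81052 (allL N81052 (tt N83275 (iv1 F332010)) (tt N75486 (iv0 F340224)) (tt N47186 F273235) (tt N63214 F273236) (tt N65185 (iv4 F332003)) (tt N47178 (iv5 D174390)) (tt N47181 F273237) (tt N77270 F332008))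
theorem Q81054 : ∀ i, i < 81054 → P i := stepQ 81053 Q81053 (allL N81053 (tt N47185 (iv1 F273243)) (tt N47184 F273244) (tt N47187 F273238) (tt N63215 F273239) (tt N77284 (iv4 F312575)) (tt N77270 (iv5 F332009)) (tt N68579 (iv6 F317035)) (tt N47178 (iv7 D174391)))
theorem Q81055 : ∀ i, i < 81055 → P i := stepQ 81054 Q81054 (allL N81054 (tt N110422 (iv1 F471502)) (tt N79448 F343433) (tt N47192 F273254) (tt N71607 F354155) (tt N95930 (iv4 F410314)) (tt N47180 (iv5 D174395)) (tt N71605 (iv6 F354163)) (tt N47190 F273255))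
theorem Q81056 : ∀ i, i < 81056 → P i := stepQ 81055 Q81055 (allL N81055 (tt N47181 (iv1 D174398)) (tt N47197 F273264) (tt N47195 F273328) (tt N103131 F440212) (tt N83215 F358748) (tt N78558 (iv5 F273265)) (tt N112160 D215404) (tt N47194 F273329))
theorem Q81057 : ∀ i, i < 81057 → P i := stepQ 81056 Q81056 (allL N81056 (tt N55345 (iv1 F358773)) (tt N83204 F358774) (tt N47196 F273266) (tt N112161 D215405) (tt N47181 (iv4 D174399)) (tt N77074 (iv5 F358776)) (tt N65185 (iv6 F358775)) (tt N83203 (iv7 F358771)))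
theorem Q81058 : ∀ i, i < 81058 → P i := stepQ 81057 Q81057 (allL N81057 (tt N47195 (iv1 F273270)) (tt N47194 F273271) (tt N47197 F273267) (tt N77729 F331737) (tt N83203 F358769) (tt N47182 F273268) (tt N112162 D215406) (tt N47181 (iv7 D174400)))
theorem Q81059 : ∀ i, i < 81059 → P i := stepQ 81058 Q81058 (allL N81058 (tt N70109 F339479) (tt N90518 (iv0 F389930)) (tt N69165 (iv2 F320707)) (tt N80695 F339476) (tt N60944 (iv4 F339477)) (tt N47183 (iv5 D174404)) (tt N68778 (iv6 F320706)) (tt N80691 (iv7 F339478)))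
theorem Q81060 : ∀ i, i < 81060 → P i := stepQ 81059 Q81059 (allL N81059 (tt N112129 (iv1 F479639)) (tt N76754 F362958) (tt N104805 (iv2 F447369)) (tt N68515 (iv3 F362956)) (tt N103110 (iv4 F440119)) (tt N66991 (iv5 F362957)) (tt N47185 (iv6 D174419)) (tt N68510 F362955))
theorem Q81061 : ∀ i, i < 81061 → P i := stepQ 81060 Q81060 (allL N81060 (tt N47186 (iv1 D174421)) (tt N77270 F332011) (tt N75486 (iv2 F340226)) (tt N80306 F332015) (tt N53946 (iv4 F332012)) (tt N110510 (iv5 F471914)) (tt N75322 F353857) (tt N83275 F332014))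
theorem Q81062 : ∀ i, i < 81062 → P i := stepQ 81061 Q81061 (allL N81061 (tt N75486 (iv1 F340225)) (tt N83275 F331995) (tt N77270 F332002) (tt N47207 F273298) (tt N65187 (iv4 F332001)) (tt N47187 F273299) (tt N112163 D215407) (tt N47186 (iv7 D174423)))
theorem Q81063 : ∀ i, i < 81063 → P i := stepQ 81062 Q81062 (allL N81062 (tt N80649 (iv1 F357881)) (tt N81541 F357883) (tt N81540 (iv2 F354157)) (tt N47190 F273307) (tt N112164 D215408) (tt N47188 (iv5 D174427)) (tt N106434 (iv6 F454416)) (tt N71607 F354156))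
theorem Q81064 : ∀ i, i < 81064 → P i := stepQ 81063 Q81063 (allL N81063 (tt N47192 (iv1 F273314)) (tt N47190 (iv0 D174434)) (tt N79448 (iv2 F354168)) (tt N105349 (iv3 F449821)) (tt N112165 D215409) (tt N105348 (iv5 F449817)) (tt N66988 F354167) (tt N110422 (iv7 F471503)))
theorem Q81065 : ∀ i, i < 81065 → P i := stepQ 81064 Q81064 (allL N81064 (tt N47190 (iv1 D174435)) (tt N47192 F273315) (tt N110422 (iv2 F471507)) (tt N47211 F354170) (tt N112166 D215410) (tt N80337 F342727) (tt N110255 (iv6 F470661)) (tt N79448 F354169))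
theorem Q81066 : ∀ i, i < 81066 → P i := stepQ 81065 Q81065 (allL N81065 (tt N72517 F376033) (tt N110325 (iv0 F471063)) (tt N109319 (iv2 F466365)) (tt N112167 D215411) (tt N47190 (iv4 D174436)) (tt N110157 (iv5 F470212)) (tt N83403 F354166) (tt N95930 (iv7 F410316)))
theorem Q81067 : ∀ i, i < 81067 → P i := stepQ 81066 Q81066 (allL N81066 (tt N110325 F471064) (tt N72517 (iv0 F400166)) (tt N95930 (iv2 F410313)) (tt N90022 (iv3 F388316)) (tt N47192 (iv4 D174442)) (tt N110067 (iv5 F469819)) (tt N66344 F354175) (tt N109319 (iv7 F466367)))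
theorem Q81068 : ∀ i, i < 81068 → P i := stepQ 81067 Q81067 (allL N81067 (tt N86354 F375915) (tt N106430 F454400) (tt N71605 F354164) (tt N67633 (iv3 F348507)) (tt N66344 (iv4 F354174)) (tt N67628 F348508) (tt N47192 (iv6 D174443)) (tt N95927 (iv7 F410301)))
theorem Q81069 : ∀ i, i < 81069 → P i := stepQ 81068 Q81068 (allL N81068 (tt N77413 F365298) (tt N103130 (iv0 F440209)) (tt N77735 (iv2 F358747)) (tt N47194 (iv3 D174447)) (tt N111199 (iv4 F475195)) (tt N112115 (iv5 F479555)) (tt N55049 F358744) (tt N103131 (iv7 F440211)))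
theorem Q81070 : ∀ i, i < 81070 → P i := stepQ 81069 Q81069 (allL N81069 (tt N111922 F478671) (tt N78643 (iv0 F358746)) (tt N86378 (iv2 F376012)) (tt N112115 F479560) (tt N112129 (iv4 F479642)) (tt N47194 (iv5 D174449)) (tt N54991 F358745) (tt N78558 F273330))
theorem Q81071 : ∀ i, i < 81071 → P i := stepQ 81070 Q81070 (allL N81070 (tt N78643 F273326) (tt N111922 (iv0 F478670)) (tt N78558 (iv2 F273323)) (tt N63481 (iv3 F273324)) (tt N76754 (iv4 F273325)) (tt N47195 (iv5 D174454)) (tt N63478 F273322) (tt N86378 (iv7 F376014)))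
theorem Q81072 : ∀ i, i < 81072 → P i := stepQ 81071 Q81071 (allL N81071 (tt N97398 (iv1 F416722)) (tt N109549 (iv0 F467463)) (tt N112160 (iv2 F479816)) (tt N77748 F358756) (tt N51213 F358753) (tt N79789 (iv5 F358757)) (tt N47195 (iv6 D174455)) (tt N51210 (iv7 F358755)))
theorem Q81073 : ∀ i, i < 81073 → P i := stepQ 81072 Q81072 (allL N81072 (tt N47196 (iv1 D174457)) (tt N83203 F358772) (tt N83204 (iv2 F358785)) (tt N77692 (iv3 F358786)) (tt N77703 (iv4 F358787)) (tt N112168 D215412) (tt N83195 (iv6 F358788)) (tt N55345 F358784))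
theorem Q81074 : ∀ i, i < 81074 → P i := stepQ 81073 Q81073 (allL N81073 (tt N108020 (iv1 F460769)) (tt N108016 (iv0 F460745)) (tt N108017 F460749) (tt N47196 (iv3 D174458)) (tt N47225 F273333) (tt N112169 D215413) (tt N77265 (iv6 F364901)) (tt N108018 (iv7 F460754)))
theorem Q81075 : ∀ i, i < 81075 → P i := stepQ 81074 Q81074 (allL N81074 (tt N82706 F358782) (tt N77335 F358791) (tt N77074 F358777) (tt N112169 (iv3 F479865)) (tt N110065 (iv4 F469807)) (tt N47196 (iv5 D174459)) (tt N76968 (iv6 F358781)) (tt N83449 (iv7 F432312)))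
theorem Q81076 : ∀ i, i < 81076 → P i := stepQ 81075 Q81075 (allL N81075 (tt N83204 (iv1 F358789)) (tt N55345 (iv0 F358471)) (tt N83203 (iv2 F358770)) (tt N108018 F460755) (tt N47197 F273334) (tt N83449 F432314) (tt N107963 (iv6 F460498)) (tt N47196 (iv7 D174460)))
theorem Q81077 : ∀ i, i < 81077 → P i := stepQ 81076 Q81076 (allL N81076 (tt N112170 D215414) (tt N79605 (iv0 F418065)) (tt N112162 (iv2 F479829)) (tt N47228 F273335) (tt N107963 (iv4 F460496)) (tt N109290 (iv5 F466216)) (tt N47197 (iv6 D174461)) (tt N112163 (iv7 F479840)))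
theorem Q81078 : ∀ i, i < 81078 → P i := stepQ 81077 Q81077 (allL N81077 (tt N47199 (iv1 D174473)) (tt N47202 F273355) (tt N89432 F386478) (tt N77273 F343470) (tt N57112 (iv4 F343467)) (tt N80763 (iv5 F273356)) (tt N57111 F343462) (tt N89207 (iv7 F385595)))
theorem Q81079 : ∀ i, i < 81079 → P i := stepQ 81078 Q81078 (allL N81078 (tt N79427 F343472) (tt N96113 F411118) (tt N89433 (iv2 F386496)) (tt N97023 F415078) (tt N47199 (iv4 D174474)) (tt N112171 D215415) (tt N95796 (iv6 F409697)) (tt N89457 (iv7 F386565)))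
theorem Q81080 : ∀ i, i < 81080 → P i := stepQ 81079 Q81079 (allL N81079 (tt N47200 (iv1 D174478)) (tt N68580 (iv0 F324751)) (tt N84147 (iv2 F368328)) (tt N68507 F348449) (tt N53945 F273362) (tt N67276 (iv5 F354758)) (tt N54396 (iv6 F273363)) (tt N80696 F273364))
theorem Q81081 : ∀ i, i < 81081 → P i := stepQ 81080 Q81080 (allL N81080 (tt N84147 (iv1 F368334)) (tt N80696 (iv0 F275035)) (tt N68580 (iv2 F324753)) (tt N47948 F306526) (tt N53133 F275031) (tt N65839 (iv5 F327358)) (tt N89461 (iv6 F386585)) (tt N47200 (iv7 D174479)))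
theorem Q81082 : ∀ i, i < 81082 → P i := stepQ 81081 Q81081 (allL N81081 (tt N47201 (iv1 D174482)) (tt N68589 F358079) (tt N89430 F386462) (tt N54396 (iv3 F363231)) (tt N78627 (iv4 F363234)) (tt N103134 (iv5 F440229)) (tt N68507 F363232) (tt N80689 F363233))
theorem Q81083 : ∀ i, i < 81083 → P i := stepQ 81082 Q81082 (allL N81082 (tt N80689 F354482) (tt N89430 F386463) (tt N47201 (iv2 D174483)) (tt N64273 F273371) (tt N68591 (iv4 F358071)) (tt N90515 (iv5 F389914)) (tt N75223 (iv6 F358072)) (tt N68589 F358074))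
theorem Q81084 : ∀ i, i < 81084 → P i := stepQ 81083 Q81083 (allL N81083 (tt N70928 F363236) (tt N89204 F385578) (tt N90515 (iv2 F389913)) (tt N47202 F273373) (tt N91277 (iv4 F392505)) (tt N47201 (iv5 D174485)) (tt N68058 (iv6 F355456)) (tt N89431 (iv7 F386470)))
theorem Q81085 : ∀ i, i < 81085 → P i := stepQ 81084 Q81084 (allL N81084 (tt N75222 F356294) (tt N75221 (iv0 F343372)) (tt N75223 (iv2 F343370)) (tt N47203 F273374) (tt N68584 F358083) (tt N74996 F343369) (tt N47201 (iv6 D174486)) (tt N68582 (iv7 F343371)))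
theorem Q81086 : ∀ i, i < 81086 → P i := stepQ 81085 Q81085 (allL N81085 (tt N96113 (iv1 F411119)) (tt N79427 (iv0 F363237)) (tt N89457 (iv2 F386564)) (tt N112172 D215416) (tt N47202 (iv4 D174487)) (tt N112173 D215417) (tt N112174 D215418) (tt N89433 (iv7 F386497)))
theorem Q81087 : ∀ i, i < 81087 → P i := stepQ 81086 Q81086 (allL N81086 (tt N97412 (iv1 F416773)) (tt N79453 (iv0 F343365)) (tt N89458 (iv2 F386568)) (tt N68058 (iv3 F355454)) (tt N112174 (iv4 F479894)) (tt N75253 (iv5 F343364)) (tt N47202 (iv6 D174488)) (tt N75252 F343367))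
theorem Q81088 : ∀ i, i < 81088 → P i := stepQ 81087 Q81087 (allL N81087 (tt N89461 (iv1 F386587)) (tt N47203 (iv0 D174489)) (tt N89459 F386575) (tt N112129 F479643) (tt N53949 (iv4 F338091)) (tt N88476 (iv5 F383206)) (tt N89725 F387327) (tt N80693 F338113))
theorem Q81089 : ∀ i, i < 81089 → P i := stepQ 81088 Q81088 (allL N81088 (tt N80710 (iv1 F274819)) (tt N78886 (iv0 F346728)) (tt N89460 (iv2 F386578)) (tt N74996 F343362) (tt N98119 (iv4 F419534)) (tt N47203 (iv5 D174491)) (tt N75253 F343363) (tt N75185 (iv7 F343361)))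
theorem Q81090 : ∀ i, i < 81090 → P i := stepQ 81089 Q81089 (allL N81089 (tt N80693 F273377) (tt N89459 F386577) (tt N89461 (iv2 F386582)) (tt N68582 F362983) (tt N89011 (iv4 F384806)) (tt N75185 (iv5 F343360)) (tt N68580 (iv6 F324756)) (tt N47203 (iv7 D174492)))
theorem Q81091 : ∀ i, i < 81091 → P i := stepQ 81090 Q81090 (allL N81090 (tt N81245 (iv1 F273911)) (tt N80832 F273906) (tt N81242 F273903) (tt N112175 D215419) (tt N47204 (iv4 D174494)) (tt N112176 D215420) (tt N112177 D215421) (tt N81243 F273902))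
theorem Q81092 : ∀ i, i < 81092 → P i := stepQ 81091 Q81091 (allL N81091 (tt N97392 F416683) (tt N93800 (iv0 F401945)) (tt N54243 F343417) (tt N47944 F343418) (tt N112177 (iv4 F479912)) (tt N47943 F343419) (tt N47204 (iv6 D174495)) (tt N100419 (iv7 F428885)))
theorem Q81093 : ∀ i, i < 81093 → P i := stepQ 81092 Q81092 (allL N81092 (tt N103093 F440039) (tt N103134 F440230) (tt N103133 F440225) (tt N47205 (iv3 D174496)) (tt N91383 F392937) (tt N54346 F350942) (tt N91381 (iv6 F392938)) (tt N103132 (iv7 F440220)))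
theorem Q81094 : ∀ i, i < 81094 → P i := stepQ 81093 Q81093 (allL N81093 (tt N80832 F273379) (tt N81245 F273910) (tt N81243 F273901) (tt N112178 D215422) (tt N47205 (iv4 D174497)) (tt N110137 F470135) (tt N112179 D215423) (tt N81242 (iv7 F273905)))
theorem Q81095 : ∀ i, i < 81095 → P i := stepQ 81094 Q81094 (allL N81094 (tt N79441 F392943) (tt N79443 (iv0 F383691)) (tt N110572 F472191) (tt N91381 F392939) (tt N112179 (iv4 F479919)) (tt N88645 (iv5 F383689)) (tt N47205 (iv6 D174498)) (tt N112180 D215424))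
theorem Q81096 : ∀ i, i < 81096 → P i := stepQ 81095 Q81095 (allL N81095 (tt N93814 (iv1 F402029)) (tt N47206 (iv0 D174499)) (tt N96100 (iv2 F411052)) (tt N112181 D215425) (tt N47315 F273893) (tt N72928 F386481) (tt N93801 (iv6 F401948)) (tt N112082 (iv7 F479411)))
theorem Q81097 : ∀ i, i < 81097 → P i := stepQ 81096 Q81096 (allL N81096 (tt N47206 (iv1 D174500)) (tt N93814 (iv0 F402028)) (tt N112082 (iv2 F479415)) (tt N74625 F343943) (tt N47316 F273380) (tt N73059 (iv5 F362759)) (tt N96027 (iv6 F410705)) (tt N96100 (iv7 F411056)))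
theorem Q81098 : ∀ i, i < 81098 → P i := stepQ 81097 Q81097 (allL N81097 (tt N107930 F460339) (tt N109588 (iv0 F467610)) (tt N112182 D215426) (tt N47206 (iv3 D174501)) (tt N77265 F364902) (tt N111536 (iv5 F476800)) (tt N47225 F273381) (tt N112183 D215427))
theorem Q81099 : ∀ i, i < 81099 → P i := stepQ 81098 Q81098 (allL N81098 (tt N90553 (iv1 F390074)) (tt N93616 (iv0 F401290)) (tt N73551 (iv2 F348944)) (tt N111536 F476803) (tt N112181 (iv4 F479928)) (tt N47206 (iv5 D174502)) (tt N73549 F348948) (tt N108925 (iv7 F464515)))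
theorem Q81100 : ∀ i, i < 81100 → P i := stepQ 81099 Q81099 (allL N81099 (tt N112082 (iv1 F479410)) (tt N96100 F411058) (tt N93814 (iv2 F402024)) (tt N112183 (iv3 F479940)) (tt N47207 F273382) (tt N108925 (iv5 F464511)) (tt N93794 F401914) (tt N47206 (iv7 D174503)))
theorem Q81101 : ∀ i, i < 81101 → P i := stepQ 81100 Q81100 (allL N81100 (tt N112089 (iv1 F479442)) (tt N112088 F479439) (tt N93813 (iv2 F402017)) (tt N112163 (iv3 F479837)) (tt N93794 F401913) (tt N111906 (iv5 F478575)) (tt N47207 (iv6 D174504)) (tt N47228 F273383))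
theorem Q81102 : ∀ i, i < 81102 → P i := stepQ 81101 Q81101 (allL N81101 (tt N58803 (iv1 F350646)) (tt N47216 F337056) (tt N77707 F350666) (tt N47974 F273384) (tt N99081 (iv4 F423265)) (tt N47208 (iv5 D174505)) (tt N82214 F350637) (tt N47962 F273385))
theorem Q81103 : ∀ i, i < 81103 → P i := stepQ 81102 Q81102 (allL N81102 (tt N103092 (iv1 F440032)) (tt N47209 (iv0 D174508)) (tt N63640 (iv2 F344769)) (tt N100370 (iv3 F428643)) (tt N112184 D215428) (tt N88511 F383339) (tt N63519 F344770) (tt N97418 (iv7 F416813)))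
theorem Q81104 : ∀ i, i < 81104 → P i := stepQ 81103 Q81103 (allL N81103 (tt N47209 (iv1 D174509)) (tt N103092 F440031) (tt N97418 (iv2 F416809)) (tt N65298 (iv3 F344766)) (tt N112185 D215429) (tt N88512 F383345) (tt N65297 F344767) (tt N63640 F344768))
theorem Q81105 : ∀ i, i < 81105 → P i := stepQ 81104 Q81104 (allL N81104 (tt N100413 F428861) (tt N94256 (iv0 F403864)) (tt N99246 (iv2 F423834)) (tt N112186 D215430) (tt N47209 (iv4 D174510)) (tt N112187 D215431) (tt N98835 (iv6 F422511)) (tt N112083 (iv7 F479419)))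
theorem Q81106 : ∀ i, i < 81106 → P i := stepQ 81105 Q81105 (allL N81105 (tt N60061 (iv1 F350640)) (tt N60099 (iv0 F350639)) (tt N60097 (iv2 F360257)) (tt N47213 F273388) (tt N98835 F422509) (tt N77135 (iv5 F360260)) (tt N47209 (iv6 D174511)) (tt N60096 (iv7 F359755)))
theorem Q81107 : ∀ i, i < 81107 → P i := stepQ 81106 Q81106 (allL N81106 (tt N73424 F365172) (tt N104862 (iv0 F447679)) (tt N105349 (iv2 F449820)) (tt N47210 (iv3 D174514)) (tt N77865 (iv4 F366038)) (tt N88492 (iv5 F383271)) (tt N111617 F477176) (tt N79451 F366933))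
theorem Q81108 : ∀ i, i < 81108 → P i := stepQ 81107 Q81107 (allL N81107 (tt N91338 (iv1 F392794)) (tt N91336 (iv0 F392789)) (tt N79450 (iv2 F343423)) (tt N111617 F477173) (tt N108891 (iv4 F464382)) (tt N79495 (iv5 F343420)) (tt N47210 (iv6 D174516)) (tt N90397 (iv7 F389510)))
theorem Q81109 : ∀ i, i < 81109 → P i := stepQ 81108 Q81108 (allL N81108 (tt N89458 F386571) (tt N75252 (iv0 F359163)) (tt N79453 (iv2 F359161)) (tt N110255 (iv3 F470658)) (tt N78223 (iv4 F359162)) (tt N80338 F359160) (tt N47211 (iv6 D174519)) (tt N97412 (iv7 F416774)))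
theorem Q81110 : ∀ i, i < 81110 → P i := stepQ 81109 Q81109 (allL N81109 (tt N47214 (iv1 F273400)) (tt N47212 (iv0 D174520)) (tt N79454 (iv2 F303390)) (tt N99627 F425480) (tt N65141 F273399) (tt N112188 D215432) (tt N110076 (iv6 F469862)) (tt N79455 (iv7 F303396)))
theorem Q81111 : ∀ i, i < 81111 → P i := stepQ 81110 Q81110 (allL N81110 (tt N47212 (iv1 D174521)) (tt N47214 F273401) (tt N79455 (iv2 F303394)) (tt N93874 (iv3 F402240)) (tt N65140 F273402) (tt N112189 D215433) (tt N81456 (iv6 F275319)) (tt N79454 (iv7 F303392)))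
theorem Q81112 : ∀ i, i < 81112 → P i := stepQ 81111 Q81111 (allL N81111 (tt N93878 F402250) (tt N97014 F415035) (tt N97016 (iv2 F415039)) (tt N47212 (iv3 D174522)) (tt N112186 (iv4 F479956)) (tt N112190 D215434) (tt N97022 (iv6 F415074)) (tt N56917 F362962))
theorem Q81113 : ∀ i, i < 81113 → P i := stepQ 81112 Q81112 (allL N81112 (tt N81259 (iv1 F273949)) (tt N80837 F273404) (tt N79457 (iv2 F303399)) (tt N112190 (iv3 F479974)) (tt N47252 F273403) (tt N47212 (iv5 D174523)) (tt N112191 D215435) (tt N79477 (iv7 F302246)))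
theorem Q81114 : ∀ i, i < 81114 → P i := stepQ 81113 Q81113 (allL N81113 (tt N108977 F464740) (tt N108868 F476871) (tt N79446 F366932) (tt N97022 (iv3 F415072)) (tt N47213 F273405) (tt N112192 D215436) (tt N47212 (iv6 D174524)) (tt N97018 (iv7 F415055)))
theorem Q81115 : ∀ i, i < 81115 → P i := stepQ 81114 Q81114 (allL N81114 (tt N79447 (iv1 F366953)) (tt N47213 (iv0 D174525)) (tt N79444 (iv2 F409642)) (tt N112193 D215437) (tt N93518 (iv4 F401005)) (tt N109325 (iv5 F466394)) (tt N95786 F409641) (tt N79445 (iv7 F409644)))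
theorem Q81116 : ∀ i, i < 81116 → P i := stepQ 81115 Q81115 (allL N81115 (tt N47213 (iv1 D174526)) (tt N79447 F366950) (tt N79445 F409645) (tt N109256 (iv3 F466026)) (tt N93517 (iv4 F401015)) (tt N79283 (iv5 F366958)) (tt N112194 D215438) (tt N79444 F409643))
theorem Q81117 : ∀ i, i < 81117 → P i := stepQ 81116 Q81116 (allL N81116 (tt N79445 (iv1 F366951)) (tt N79444 F366954) (tt N79447 F366949) (tt N60096 F359756) (tt N97018 (iv4 F415054)) (tt N79436 (iv5 F366952)) (tt N97017 (iv6 F415049)) (tt N47213 (iv7 D174527)))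
theorem Q81118 : ∀ i, i < 81118 → P i := stepQ 81117 Q81117 (allL N81117 (tt N80837 F273417) (tt N81259 F273948) (tt N79477 (iv2 F302244)) (tt N108968 (iv3 F464711)) (tt N47251 F273416) (tt N47214 (iv5 D174548)) (tt N108965 (iv6 F464704)) (tt N79457 (iv7 F303401)))
theorem Q81119 : ∀ i, i < 81119 → P i := stepQ 81118 Q81118 (allL N81118 (tt N57111 (iv1 F343463)) (tt N57125 F343466) (tt N97017 (iv2 F415043)) (tt N70926 F362965) (tt N96112 (iv4 F411110)) (tt N102825 (iv5 F438815)) (tt N79447 (iv6 F362966)) (tt N47215 (iv7 D174552)))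
theorem Q81120 : ∀ i, i < 81120 → P i := stepQ 81119 Q81119 (allL N81119 (tt N72655 (iv1 F350654)) (tt N72654 F350656) (tt N72657 (iv2 F350652)) (tt N112195 D215439) (tt N47216 (iv4 D174556)) (tt N112196 D215440) (tt N63796 (iv6 F347862)) (tt N61832 F350651))
theorem Q81121 : ∀ i, i < 81121 → P i := stepQ 81120 Q81120 (allL N81120 (tt N63232 F337053) (tt N70111 (iv0 F337054)) (tt N103757 (iv2 F442691)) (tt N47218 F273420) (tt N68505 (iv4 F337050)) (tt N47216 (iv5 D174557)) (tt N78625 (iv6 F273423)) (tt N52844 F273421))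
theorem Q81122 : ∀ i, i < 81122 → P i := stepQ 81121 Q81121 (allL N81121 (tt N93845 F402120) (tt N112197 D215441) (tt N112198 D215442) (tt N47217 (iv3 D174559)) (tt N112195 (iv4 F480000)) (tt N112199 D215443) (tt N95268 F407648) (tt N81251 (iv7 F273930)))
theorem Q81123 : ∀ i, i < 81123 → P i := stepQ 81122 Q81122 (allL N81122 (tt N111558 (iv1 F476917)) (tt N111557 (iv0 F476911)) (tt N81250 (iv2 F273925)) (tt N112199 (iv3 F480020)) (tt N47247 F273425) (tt N47217 (iv5 D174560)) (tt N112200 D215444) (tt N81252 (iv7 F273933)))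
theorem Q81124 : ∀ i, i < 81124 → P i := stepQ 81123 Q81123 (allL N81123 (tt N66736 F347868) (tt N67088 (iv0 F347867)) (tt N67086 (iv2 F352779)) (tt N95268 (iv3 F407646)) (tt N47219 F273426) (tt N112201 D215445) (tt N47217 (iv6 D174561)) (tt N67087 F347892))
theorem Q81125 : ∀ i, i < 81125 → P i := stepQ 81124 Q81124 (allL N81124 (tt N86391 (iv1 F376059)) (tt N47219 (iv0 D174562)) (tt N86377 (iv2 F376005)) (tt N57398 (iv3 F353016)) (tt N103185 (iv4 F440469)) (tt N57396 F353015) (tt N79443 (iv6 F353017)) (tt N77721 F353020))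
theorem Q81126 : ∀ i, i < 81126 → P i := stepQ 81125 Q81125 (allL N81125 (tt N47219 (iv1 D174563)) (tt N86391 (iv0 F376058)) (tt N77721 F347870) (tt N51207 (iv3 F347869)) (tt N103186 (iv4 F440473)) (tt N55092 F347871) (tt N82199 F365297) (tt N86377 (iv7 F376007)))
theorem Q81127 : ∀ i, i < 81127 → P i := stepQ 81126 Q81126 (allL N81126 (tt N54377 F273428) (tt N55045 (iv0 F353019)) (tt N71341 (iv2 F343447)) (tt N63797 F347864) (tt N91736 (iv4 F394250)) (tt N47219 (iv5 D174564)) (tt N47601 F273427) (tt N71342 (iv7 F362969)))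
theorem Q81128 : ∀ i, i < 81128 → P i := stepQ 81127 Q81127 (allL N81127 (tt N87220 (iv1 F378799)) (tt N91353 F392842) (tt N91354 (iv2 F392843)) (tt N85629 (iv3 F373270)) (tt N47220 (iv4 D174569)) (tt N49961 F358006) (tt N86394 (iv6 F376077)) (tt N49960 (iv7 F340389)))
theorem Q81129 : ∀ i, i < 81129 → P i := stepQ 81128 Q81128 (allL N81128 (tt N112202 D215446) (tt N112203 D215447) (tt N112204 D215448) (tt N47221 (iv3 D174571)) (tt N85629 (iv4 F373271)) (tt N112205 D215449) (tt N110472 F471744) (tt N81249 (iv7 F273924)))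
theorem Q81130 : ∀ i, i < 81130 → P i := stepQ 81129 Q81129 (allL N81129 (tt N111557 (iv1 F476912)) (tt N111558 (iv0 F476916)) (tt N81252 (iv2 F273931)) (tt N112205 (iv3 F480046)) (tt N47245 F273432) (tt N47221 (iv5 D174572)) (tt N112206 D215450) (tt N81250 (iv7 F273926)))
theorem Q81131 : ∀ i, i < 81131 → P i := stepQ 81130 Q81130 (allL N81130 (tt N95862 F410002) (tt N97699 (iv0 F417956)) (tt N81253 (iv2 F273934)) (tt N110472 (iv3 F471739)) (tt N47222 F273433) (tt N89505 (iv5 F386663)) (tt N47221 (iv6 D174573)) (tt N112207 D215451))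
theorem Q81132 : ∀ i, i < 81132 → P i := stepQ 81131 Q81131 (allL N81131 (tt N97083 (iv1 F415387)) (tt N93806 F401977) (tt N58794 F362991) (tt N86392 (iv3 F376062)) (tt N112207 (iv4 F480057)) (tt N58793 (iv5 F328796)) (tt N86391 (iv6 F376060)) (tt N47222 (iv7 D174576)))
theorem Q81133 : ∀ i, i < 81133 → P i := stepQ 81132 Q81132 (allL N81132 (tt N112208 D215452) (tt N112209 D215453) (tt N112210 D215454) (tt N47223 (iv3 D174577)) (tt N112211 D215455) (tt N112212 D215456) (tt N98164 F419794) (tt N112084 (iv7 F479423)))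
theorem Q81134 : ∀ i, i < 81134 → P i := stepQ 81133 Q81133 (allL N81133 (tt N111555 (iv1 F476904)) (tt N111553 (iv0 F476890)) (tt N101728 (iv2 F434062)) (tt N112212 (iv3 F480079)) (tt N47243 F273435) (tt N47223 (iv5 D174578)) (tt N112213 D215457) (tt N112085 (iv7 F479426)))
theorem Q81135 : ∀ i, i < 81135 → P i := stepQ 81134 Q81134 (allL N81134 (tt N111553 (iv1 F476891)) (tt N111555 (iv0 F476903)) (tt N112085 (iv2 F479424)) (tt N94427 F404440) (tt N47240 F273437) (tt N47224 (iv5 D174581)) (tt N112214 D215458) (tt N101728 (iv7 F434063)))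
theorem Q81136 : ∀ i, i < 81136 → P i := stepQ 81135 Q81135 (allL N81135 (tt N112215 D215459) (tt N47225 (iv0 D174583)) (tt N88122 (iv2 F392152)) (tt N100131 F427608) (tt N109620 (iv4 F467779)) (tt N88090 F392151) (tt N100130 (iv6 F427609)) (tt N112216 D215460))
theorem Q81137 : ∀ i, i < 81137 → P i := stepQ 81136 Q81136 (allL N81136 (tt N47225 (iv1 D174584)) (tt N112215 F480087) (tt N112216 (iv2 F480088)) (tt N112217 D215461) (tt N106758 (iv4 F455570)) (tt N88123 (iv5 F392154)) (tt N106757 (iv6 F455568)) (tt N88122 F392153))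
theorem Q81138 : ∀ i, i < 81138 → P i := stepQ 81137 Q81137 (allL N81137 (tt N88122 F479436) (tt N112216 F480093) (tt N47225 (iv2 D174585)) (tt N112087 (iv3 F479432)) (tt N108017 (iv4 F460752)) (tt N112218 D215462) (tt N112182 (iv6 F479937)) (tt N112215 (iv7 F480086)))
theorem Q81139 : ∀ i, i < 81139 → P i := stepQ 81138 Q81138 (allL N81138 (tt N112219 D215463) (tt N112220 D215464) (tt N112218 (iv2 F480101)) (tt N47226 F273439) (tt N52477 (iv4 F364880)) (tt N47225 (iv5 D174586)) (tt N112221 D215465) (tt N87228 (iv7 F378817)))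
theorem Q81140 : ∀ i, i < 81140 → P i := stepQ 81139 Q81139 (allL N81139 (tt N112216 (iv1 F480094)) (tt N88122 (iv0 F381842)) (tt N112215 F480083) (tt N47227 F273440) (tt N108018 F460756) (tt N87228 F378818) (tt N93811 (iv6 F402013)) (tt N47225 (iv7 D174587)))
theorem Q81141 : ∀ i, i < 81141 → P i := stepQ 81140 Q81140 (allL N81140 (tt N47253 (iv1 F273443)) (tt N47226 (iv0 D174588)) (tt N101723 (iv2 F434039)) (tt N112222 D215466) (tt N47239 F273442) (tt N47231 F273441) (tt N112223 D215467) (tt N101721 (iv7 F434029)))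
theorem Q81142 : ∀ i, i < 81142 → P i := stepQ 81141 Q81141 (allL N81141 (tt N112224 D215468) (tt N112225 D215469) (tt N73550 F348941) (tt N112221 (iv3 F480114)) (tt N88047 F381575) (tt N73549 (iv5 F348949)) (tt N47226 (iv6 D174590)) (tt N112226 D215470))
theorem Q81143 : ∀ i, i < 81143 → P i := stepQ 81142 Q81142 (allL N81142 (tt N93813 (iv1 F402023)) (tt N47228 (iv0 D174592)) (tt N112088 F479440) (tt N64111 (iv3 F423638)) (tt N111133 (iv4 F474854)) (tt N64109 F423639) (tt N82204 F423640) (tt N112089 (iv7 F479443)))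
theorem Q81144 : ∀ i, i < 81144 → P i := stepQ 81143 Q81143 (allL N81143 (tt N47228 (iv1 D174593)) (tt N93813 F402022) (tt N112089 (iv2 F479448)) (tt N102649 F451383) (tt N108299 (iv4 F461960)) (tt N112227 D215471) (tt N93797 (iv6 F451382)) (tt N112088 F479441))
theorem Q81145 : ∀ i, i < 81145 → P i := stepQ 81144 Q81144 (allL N81144 (tt N93534 (iv1 F401066)) (tt N93533 F401065) (tt N93405 (iv2 F400646)) (tt N47231 (iv3 D174599)) (tt N107166 (iv4 F457285)) (tt N112222 (iv5 F480121)) (tt N108901 (iv6 F464424)) (tt N93532 F401064))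
theorem Q81146 : ∀ i, i < 81146 → P i := stepQ 81145 Q81145 (allL N81145 (tt N93518 (iv1 F401004)) (tt N93517 F401014) (tt N93520 (iv2 F401010)) (tt N108901 (iv3 F464422)) (tt N47232 F273456) (tt N112228 D215472) (tt N47231 (iv6 D174600)) (tt N93516 (iv7 F401003)))
theorem Q81147 : ∀ i, i < 81147 → P i := stepQ 81146 Q81146 (allL N81146 (tt N71351 (iv1 F346555)) (tt N47232 (iv0 D174601)) (tt N108682 (iv2 F463526)) (tt N81468 (iv3 F434078)) (tt N111549 (iv4 F476865)) (tt N81466 F434077) (tt N112073 (iv6 F479364)) (tt N111975 (iv7 F478931)))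
theorem Q81148 : ∀ i, i < 81148 → P i := stepQ 81147 Q81147 (allL N81147 (tt N47232 (iv1 D174602)) (tt N71351 F346557) (tt N111975 (iv2 F478935)) (tt N65085 F346558) (tt N81710 (iv4 F346559)) (tt N111920 (iv5 F478654)) (tt N65084 (iv6 F346560)) (tt N108682 (iv7 F463529)))
theorem Q81149 : ∀ i, i < 81149 → P i := stepQ 81148 Q81148 (allL N81148 (tt N111975 (iv1 F478930)) (tt N108682 (iv0 F463530)) (tt N71351 (iv2 F346553)) (tt N102689 (iv3 F438211)) (tt N93516 (iv4 F401002)) (tt N109008 (iv5 F464890)) (tt N68346 F346549) (tt N47232 (iv7 D174603)))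
theorem Q81150 : ∀ i, i < 81150 → P i := stepQ 81149 Q81149 (allL N81149 (tt N80813 F273460) (tt N80815 F273461) (tt N79471 (iv2 F301425)) (tt N51837 F348939) (tt N108888 (iv4 F464376)) (tt N47233 (iv5 D174606)) (tt N112229 D215473) (tt N79472 (iv7 F301429)))
theorem Q81151 : ∀ i, i < 81151 → P i := stepQ 81150 Q81150 (allL N81150 (tt N80815 F273463) (tt N80813 F273464) (tt N79472 (iv2 F301428)) (tt N95390 (iv3 F408085)) (tt N108890 (iv4 F464378)) (tt N47234 (iv5 D174608)) (tt N87245 (iv6 F378865)) (tt N79471 (iv7 F301426)))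
theorem Q81152 : ∀ i, i < 81152 → P i := stepQ 81151 Q81151 (allL N81151 (tt N111852 (iv1 F478314)) (tt N84506 (iv0 F369560)) (tt N91988 (iv2 F395267)) (tt N47236 F273474) (tt N70828 (iv4 F335982)) (tt N47235 (iv5 D174617)) (tt N103767 (iv6 F442739)) (tt N91986 (iv7 F395259)))
theorem Q81153 : ∀ i, i < 81153 → P i := stepQ 81152 Q81152 (allL N81152 (tt N112230 D215474) (tt N112231 D215475) (tt N111979 (iv2 F478948)) (tt N103767 (iv3 F442738)) (tt N93535 F401069) (tt N111052 (iv5 F474432)) (tt N47236 (iv6 D174620)) (tt N112232 D215476))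
theorem Q81154 : ∀ i, i < 81154 → P i := stepQ 81153 Q81153 (allL N81153 (tt N91987 (iv1 F395266)) (tt N47238 (iv0 D174646)) (tt N111977 (iv2 F478944)) (tt N91298 F392610) (tt N112233 D215477) (tt N112234 D215478) (tt N89884 (iv6 F392611)) (tt N111976 F478940))
theorem Q81155 : ∀ i, i < 81155 → P i := stepQ 81154 Q81154 (allL N81154 (tt N47238 (iv1 D174647)) (tt N91987 F395263) (tt N111976 F478939) (tt N96733 (iv3 F413655)) (tt N96722 F413609) (tt N112235 D215479) (tt N96721 (iv6 F413610)) (tt N111977 (iv7 F478942)))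
theorem Q81156 : ∀ i, i < 81156 → P i := stepQ 81155 Q81155 (allL N81155 (tt N111899 F478555) (tt N106810 (iv0 F455779)) (tt N111456 (iv2 F476436)) (tt N47239 F273500) (tt N80543 F353319) (tt N47238 (iv5 D174649)) (tt N78423 (iv6 F353318)) (tt N111978 (iv7 F478947)))
theorem Q81157 : ∀ i, i < 81157 → P i := stepQ 81156 Q81156 (allL N81156 (tt N112236 D215480) (tt N112237 D215481) (tt N101724 (iv2 F434045)) (tt N78423 F353316) (tt N112223 (iv4 F480125)) (tt N78422 (iv5 F353298)) (tt N47239 (iv6 D174650)) (tt N80542 F353317))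
theorem Q81158 : ∀ i, i < 81158 → P i := stepQ 81157 Q81157 (allL N81157 (tt N47243 (iv1 F273504)) (tt N47240 (iv0 D174652)) (tt N79470 (iv2 F303305)) (tt N87249 (iv3 F387934)) (tt N112188 (iv4 F479965)) (tt N65144 F273503) (tt N87375 F387933) (tt N79466 (iv7 F303301)))
theorem Q81159 : ∀ i, i < 81159 → P i := stepQ 81158 Q81158 (allL N81158 (tt N47240 (iv1 D174653)) (tt N47243 F273507) (tt N79466 (iv2 F303300)) (tt N112238 D215482) (tt N112189 (iv4 F479969)) (tt N65145 F273509) (tt N112239 D215483) (tt N79470 (iv7 F303306)))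
theorem Q81160 : ∀ i, i < 81160 → P i := stepQ 81159 Q81159 (allL N81159 (tt N112240 D215484) (tt N112241 D215485) (tt N112091 (iv2 F479452)) (tt N111854 (iv3 F478318)) (tt N112214 (iv4 F480082)) (tt N90590 F390181) (tt N47240 (iv6 D174654)) (tt N90589 (iv7 F390182)))
theorem Q81161 : ∀ i, i < 81161 → P i := stepQ 81160 Q81160 (allL N81160 (tt N106809 (iv1 F455772)) (tt N47242 (iv0 D174660)) (tt N96813 (iv2 F414079)) (tt N91822 F414080) (tt N112242 D215486) (tt N111899 (iv5 F478558)) (tt N78495 F414081) (tt N106807 (iv7 F455764)))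
theorem Q81162 : ∀ i, i < 81162 → P i := stepQ 81161 Q81161 (allL N81161 (tt N96813 F414082) (tt N106807 F455766) (tt N47242 (iv2 D174662)) (tt N100803 (iv3 F430544)) (tt N94968 F406535) (tt N112243 D215487) (tt N112117 (iv6 F479571)) (tt N106809 (iv7 F455773)))
theorem Q81163 : ∀ i, i < 81163 → P i := stepQ 81162 Q81162 (allL N81162 (tt N112244 D215488) (tt N112245 D215489) (tt N112243 (iv2 F480197)) (tt N47243 F273519) (tt N112246 D215490) (tt N47242 (iv5 D174663)) (tt N112247 D215491) (tt N112090 (iv7 F479451)))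
theorem Q81164 : ∀ i, i < 81164 → P i := stepQ 81163 Q81163 (allL N81163 (tt N104905 (iv1 F496973)) (tt N108603 (iv0 F479575)) (tt N101729 (iv2 F434065)) (tt N112247 (iv3 F480211)) (tt N112213 (iv4 F480080)) (tt N112118 (iv5 F479574)) (tt N47243 (iv6 D174665)) (tt N108614 (iv7 F481193)))
theorem Q81165 : ∀ i, i < 81165 → P i := stepQ 81164 Q81164 (allL N81164 (tt N97847 F418496) (tt N47244 (iv0 D174667)) (tt N102109 (iv2 F435770)) (tt N96754 (iv3 F413781)) (tt N103371 (iv4 F441326)) (tt N104901 (iv5 F447853)) (tt N86975 F395701) (tt N111753 (iv7 F477800)))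
theorem Q81166 : ∀ i, i < 81166 → P i := stepQ 81165 Q81165 (allL N81165 (tt N47244 (iv1 D174668)) (tt N97847 F418494) (tt N111753 (iv2 F477797)) (tt N91961 F418495) (tt N103370 (iv4 F441321)) (tt N104898 (iv5 F447844)) (tt N78522 F435775) (tt N102109 (iv7 F435772)))
theorem Q81167 : ∀ i, i < 81167 → P i := stepQ 81166 Q81166 (allL N81166 (tt N102109 (iv1 F435774)) (tt N111753 (iv0 F477801)) (tt N47244 (iv2 D174669)) (tt N103073 (iv3 F439954)) (tt N65632 (iv4 F358204)) (tt N108525 (iv5 F462944)) (tt N65630 F358205) (tt N97847 (iv7 F418493)))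
theorem Q81168 : ∀ i, i < 81168 → P i := stepQ 81167 Q81167 (allL N81167 (tt N87954 F381278) (tt N99650 F425724) (tt N108525 (iv2 F462941)) (tt N47245 F273523) (tt N99682 (iv4 F425722)) (tt N47244 (iv5 D174670)) (tt N99668 (iv6 F425664)) (tt N108569 (iv7 F463086)))
theorem Q81169 : ∀ i, i < 81169 → P i := stepQ 81168 Q81168 (allL N81168 (tt N112248 D215494) (tt N90669 (iv0 F408659)) (tt N112092 (iv2 F479456)) (tt N99668 (iv3 F425663)) (tt N112206 (iv4 F480050)) (tt N95561 (iv5 F408657)) (tt N47245 (iv6 D174674)) (tt N108518 (iv7 F462913)))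
theorem Q81170 : ∀ i, i < 81170 → P i := stepQ 81169 Q81169 (allL N81169 (tt N103073 (iv1 F439959)) (tt N47246 (iv0 D174678)) (tt N111927 (iv2 F478697)) (tt N91515 F393441) (tt N76168 F364236) (tt N112249 D215495) (tt N78526 (iv6 F378021)) (tt N87003 F378018))
theorem Q81171 : ∀ i, i < 81171 → P i := stepQ 81170 Q81170 (allL N81170 (tt N47246 (iv1 D174679)) (tt N103073 (iv0 F439958)) (tt N87003 (iv2 F378016)) (tt N96749 (iv3 F413759)) (tt N75337 F362491) (tt N87966 (iv5 F381313)) (tt N52271 (iv6 F362492)) (tt N111927 (iv7 F478700)))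
theorem Q81172 : ∀ i, i < 81172 → P i := stepQ 81171 Q81171 (allL N81171 (tt N111927 (iv1 F478702)) (tt N87003 F378020) (tt N47246 (iv2 D174680)) (tt N97847 (iv3 F418492)) (tt N77030 (iv4 F323497)) (tt N88008 (iv5 F381458)) (tt N79505 (iv6 F366170)) (tt N103073 (iv7 F439957)))
theorem Q81173 : ∀ i, i < 81173 → P i := stepQ 81172 Q81172 (allL N81172 (tt N88010 (iv1 F381472)) (tt N51888 (iv0 F378043)) (tt N88008 F381459) (tt N47247 F273536) (tt N90381 (iv4 F389453)) (tt N47246 (iv5 D174681)) (tt N112250 D215496) (tt N88009 (iv7 F381463)))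
theorem Q81174 : ∀ i, i < 81174 → P i := stepQ 81173 Q81173 (allL N81173 (tt N112251 D215497) (tt N112252 D215498) (tt N112093 (iv2 F479461)) (tt N112250 (iv3 F480225)) (tt N112200 (iv4 F480026)) (tt N79508 F366917) (tt N47247 (iv6 D174683)) (tt N112253 D215499))
theorem Q81175 : ∀ i, i < 81175 → P i := stepQ 81174 Q81174 (allL N81174 (tt N85727 F395546) (tt N96754 F413785) (tt N82027 (iv2 F353504)) (tt N47248 (iv3 D174692)) (tt N60105 F340639) (tt N112254 D215500) (tt N96835 (iv6 F414186)) (tt N58437 (iv7 F340640)))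
theorem Q81176 : ∀ i, i < 81176 → P i := stepQ 81175 Q81175 (allL N81175 (tt N95739 (iv1 F409387)) (tt N87247 F378872) (tt N58518 F365862) (tt N112254 (iv3 F480234)) (tt N106310 (iv4 F453975)) (tt N47248 (iv5 D174694)) (tt N108753 F463819) (tt N58439 (iv7 F365863)))
theorem Q81177 : ∀ i, i < 81177 → P i := stepQ 81176 Q81176 (allL N81176 (tt N58520 (iv1 F365449)) (tt N58519 F365988) (tt N47250 F273548) (tt N52473 F365447) (tt N112255 D215501) (tt N47249 (iv5 D174698)) (tt N112256 D215502) (tt N58492 (iv7 F365446)))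
theorem Q81178 : ∀ i, i < 81178 → P i := stepQ 81177 Q81177 (allL N81177 (tt N58492 (iv1 F365861)) (tt N47250 (iv0 D174699)) (tt N58520 F408357) (tt N112257 D215503) (tt N112258 D215504) (tt N58654 F365860) (tt N112259 D215505) (tt N58519 (iv7 F408356)))
theorem Q81179 : ∀ i, i < 81179 → P i := stepQ 81178 Q81178 (allL N81178 (tt N47250 (iv1 D174700)) (tt N58492 (iv0 F365445)) (tt N58519 F408358) (tt N112260 D215506) (tt N112261 D215507) (tt N58597 F365444) (tt N112262 D215508) (tt N58520 F408359))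
theorem Q81180 : ∀ i, i < 81180 → P i := stepQ 81179 Q81179 (allL N81179 (tt N110849 (iv1 F473439)) (tt N112263 D215509) (tt N112255 (iv2 F480236)) (tt N112264 D215510) (tt N47250 (iv4 D174701)) (tt N71395 F365448) (tt N112265 D215511) (tt N58521 (iv7 F365987)))
theorem Q81181 : ∀ i, i < 81181 → P i := stepQ 81180 Q81180 (allL N81180 (tt N112266 D215512) (tt N83797 (iv0 F376739)) (tt N112256 (iv2 F480242)) (tt N47254 F273549) (tt N112265 (iv4 F480279)) (tt N78535 F273550) (tt N47250 (iv6 D174702)) (tt N112267 D215513))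
theorem Q81182 : ∀ i, i < 81182 → P i := stepQ 81181 Q81181 (allL N81181 (tt N104901 (iv1 F447856)) (tt N104898 (iv0 F447845)) (tt N110972 (iv2 F474024)) (tt N47251 (iv3 D174705)) (tt N74110 F366957) (tt N79437 (iv5 F366956)) (tt N112268 D215514) (tt N97220 (iv7 F415951)))
theorem Q81183 : ∀ i, i < 81183 → P i := stepQ 81182 Q81182 (allL N81182 (tt N112269 D215515) (tt N112270 D215516) (tt N79478 F366947) (tt N112268 (iv3 F480287)) (tt N108965 F464705) (tt N79326 (iv5 F366948)) (tt N47251 (iv6 D174706)) (tt N112271 D215517))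
theorem Q81184 : ∀ i, i < 81184 → P i := stepQ 81183 Q81183 (allL N81183 (tt N112249 (iv1 F480224)) (tt N87966 (iv0 F381314)) (tt N110970 (iv2 F474012)) (tt N47252 (iv3 D174707)) (tt N108235 (iv4 F461617)) (tt N79476 (iv5 F303296)) (tt N87989 (iv6 F381397)) (tt N79475 F366903))
theorem Q81185 : ∀ i, i < 81185 → P i := stepQ 81184 Q81184 (allL N81184 (tt N112272 D215518) (tt N84184 (iv0 F368453)) (tt N112094 (iv2 F479463)) (tt N87989 F381398) (tt N112191 (iv4 F479982)) (tt N81021 F273556) (tt N47252 (iv6 D174708)) (tt N112273 D215519))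
theorem Q81186 : ∀ i, i < 81186 → P i := stepQ 81185 Q81185 (allL N81185 (tt N112274 D215520) (tt N95254 F480107) (tt N94898 (iv2 F406266)) (tt N47253 (iv3 D174709)) (tt N112264 (iv4 F480272)) (tt N95077 (iv5 F406964)) (tt N59554 F348951) (tt N73555 (iv7 F348950)))
theorem Q81187 : ∀ i, i < 81187 → P i := stepQ 81186 Q81186 (allL N81186 (tt N112275 D215521) (tt N112276 D215522) (tt N112095 (iv2 F479468)) (tt N59554 (iv3 F348952)) (tt N47254 F273557) (tt N59553 F345541) (tt N47253 (iv6 D174710)) (tt N94894 (iv7 F406260)))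
theorem Q81188 : ∀ i, i < 81188 → P i := stepQ 81187 Q81187 (allL N81187 (tt N112096 (iv1 F479477)) (tt N47254 (iv0 D174711)) (tt N101552 (iv2 F433368)) (tt N104994 (iv3 F448292)) (tt N101549 F433369) (tt N103903 (iv5 F443287)) (tt N84182 F368450) (tt N104986 (iv7 F448275)))
theorem Q81189 : ∀ i, i < 81189 → P i := stepQ 81188 Q81188 (allL N81188 (tt N47254 (iv1 D174712)) (tt N112096 F479476) (tt N104986 (iv2 F448272)) (tt N111415 (iv3 F476243)) (tt N63887 (iv4 F413102)) (tt N104983 (iv5 F448265)) (tt N112277 D215523) (tt N101552 (iv7 F433366)))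
theorem Q81190 : ∀ i, i < 81190 → P i := stepQ 81189 Q81189 (allL N81189 (tt N104986 (iv1 F448278)) (tt N101552 (iv0 F433367)) (tt N112096 (iv2 F479472)) (tt N112267 (iv3 F480283)) (tt N94894 F406261) (tt N78540 F273558) (tt N112278 D215524) (tt N47254 (iv7 D174713)))
theorem Q81191 : ∀ i, i < 81191 → P i := stepQ 81190 Q81190 (allL N81190 (tt N112279 D215525) (tt N112280 D215526) (tt N88047 (iv2 F381571)) (tt N58515 (iv3 F348935)) (tt N73550 F348936) (tt N51853 F348934) (tt N47255 (iv6 D174714)) (tt N112278 (iv7 F480324)))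
theorem Q81192 : ∀ i, i < 81192 → P i := stepQ 81191 Q81191 (allL N81191 (tt N92161 F396028) (tt N112281 D215527) (tt N77210 F364934) (tt N67798 (iv3 F345000)) (tt N104165 (iv4 F444504)) (tt N47257 (iv5 D174722)) (tt N87252 (iv6 F378881)) (tt N77212 (iv7 F364935)))
theorem Q81193 : ∀ i, i < 81193 → P i := stepQ 81192 Q81192 (allL N81192 (tt N66565 (iv1 F331853)) (tt N47548 F347447) (tt N101197 (iv2 F432143)) (tt N57067 (iv3 F331854)) (tt N57068 F364906) (tt N47261 F273570) (tt N103014 F439675) (tt N47260 (iv7 D174738)))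
theorem Q81194 : ∀ i, i < 81194 → P i := stepQ 81193 Q81193 (allL N81193 (tt N47263 (iv1 D174745)) (tt N47490 F319023) (tt N81868 F319024) (tt N48554 F319025) (tt N88475 (iv4 F383200)) (tt N110057 (iv5 F469773)) (tt N111971 (iv6 F478910)) (tt N48715 F319026))
theorem Q81195 : ∀ i, i < 81195 → P i := stepQ 81194 Q81194 (allL N81194 (tt N88862 F384380) (tt N109704 (iv0 F468204)) (tt N106190 (iv2 F453536)) (tt N76459 F319030) (tt N90701 F390563) (tt N47263 (iv5 D174746)) (tt N87251 (iv6 F378875)) (tt N94156 (iv7 F403466)))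
theorem Q81196 : ∀ i, i < 81196 → P i := stepQ 81195 Q81195 (allL N81195 (tt N47522 F336415) (tt N48389 F336416) (tt N79241 F342672) (tt N94060 (iv3 F403022)) (tt N47264 (iv4 D174761)) (tt N81807 F336421) (tt N81809 F336420) (tt N79242 (iv7 F342679)))
theorem Q81197 : ∀ i, i < 81197 → P i := stepQ 81196 Q81196 (allL N81196 (tt N77423 (iv1 F342332)) (tt N48713 F342330) (tt N47275 F273661) (tt N65002 F273584) (tt N47265 (iv4 D174764)) (tt N106390 (iv5 F454257)) (tt N103906 (iv6 F443302)) (tt N47279 F273662))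
theorem Q81198 : ∀ i, i < 81198 → P i := stepQ 81197 Q81197 (allL N81197 (tt N48713 F342331) (tt N77423 (iv0 F351793)) (tt N47279 F273687) (tt N83915 F367480) (tt N47266 (iv4 D174768)) (tt N106929 (iv5 F456316)) (tt N65178 (iv6 F356179)) (tt N47275 (iv7 F273684)))
theorem Q81199 : ∀ i, i < 81199 → P i := stepQ 81198 Q81198 (allL N81198 (tt N62742 F366414) (tt N54728 (iv0 F366935)) (tt N64374 F273606) (tt N53701 F273607) (tt N87087 (iv4 F378328)) (tt N105650 (iv5 F451111)) (tt N47269 (iv6 D174785)) (tt N75042 (iv7 F346318)))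
theorem Q81200 : ∀ i, i < 81200 → P i := stepQ 81199 Q81199 (allL N81199 (tt N49466 F304507) (tt N49463 F304508) (tt N48188 F304509) (tt N53704 F273611) (tt N112282 D215528) (tt N47270 (iv5 D174788)) (tt N105650 (iv6 F451112)) (tt N53115 F304510))
theorem Q81201 : ∀ i, i < 81201 → P i := stepQ 81200 Q81200 (allL N81200 (tt N53185 (iv1 F301806)) (tt N53567 (iv0 F301803)) (tt N53566 (iv2 F301808)) (tt N53705 F273613) (tt N47273 F273614) (tt N53115 (iv5 F338820)) (tt N53755 F338819) (tt N47270 (iv7 D174789)))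
theorem Q81202 : ∀ i, i < 81202 → P i := stepQ 81201 Q81201 (allL N81201 (tt N102397 F437062) (tt N105347 (iv0 F449811)) (tt N100393 (iv2 F428767)) (tt N47276 F273651) (tt N101892 (iv4 F434850)) (tt N47274 (iv5 D174807)) (tt N65429 F342071) (tt N88508 (iv7 F383319)))
theorem Q81203 : ∀ i, i < 81203 → P i := stepQ 81202 Q81202 (allL N81202 (tt N47407 F344923) (tt N81334 (iv0 F348555)) (tt N75612 F333758) (tt N47277 F273652) (tt N70081 F334683) (tt N82519 (iv5 F348551)) (tt N47274 (iv6 D174808)) (tt N82375 F344924))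
theorem Q81204 : ∀ i, i < 81204 → P i := stepQ 81203 Q81203 (allL N81203 (tt N83917 F367487) (tt N83914 (iv0 F383604)) (tt N73955 F363367) (tt N47275 (iv3 D174812)) (tt N73990 (iv4 F341204)) (tt N96164 (iv5 F411311)) (tt N88910 (iv6 F384509)) (tt N83915 (iv7 F367478)))
theorem Q81205 : ∀ i, i < 81205 → P i := stepQ 81204 Q81204 (allL N81204 (tt N78355 F354780) (tt N106822 (iv0 F455835)) (tt N106390 (iv2 F454255)) (tt N96164 (iv3 F411312)) (tt N111564 (iv4 F476942)) (tt N47275 (iv5 D174813)) (tt N111563 (iv6 F476939)) (tt N106929 (iv7 F456315)))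
theorem Q81206 : ∀ i, i < 81206 → P i := stepQ 81205 Q81205 (allL N81205 (tt N111971 F478913) (tt N105711 (iv0 F451369)) (tt N103906 (iv2 F443300)) (tt N88910 F384508) (tt N47277 F273694) (tt N112283 D215529) (tt N47275 (iv6 D174814)) (tt N103907 (iv7 F443311)))
theorem Q81207 : ∀ i, i < 81207 → P i := stepQ 81206 Q81206 (allL N81206 (tt N112284 D215530) (tt N97390 F416674) (tt N78413 F355912) (tt N81735 (iv3 F334681)) (tt N47276 (iv4 D174817)) (tt N81734 F346595) (tt N65430 (iv6 F355910)) (tt N80736 F355909))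
theorem Q81208 : ∀ i, i < 81208 → P i := stepQ 81207 Q81207 (allL N81207 (tt N79335 (iv1 F425414)) (tt N111517 (iv0 F476687)) (tt N64110 F359992) (tt N47280 F273700) (tt N64108 (iv4 F346934)) (tt N47278 (iv5 D174825)) (tt N78586 F333789) (tt N64114 (iv7 F354800)))
theorem Q81209 : ∀ i, i < 81209 → P i := stepQ 81208 Q81208 (allL N81208 (tt N65177 F341199) (tt N65180 (iv0 F356169)) (tt N65178 F356178) (tt N64540 F356165) (tt N47281 F273705) (tt N112285 D215531) (tt N47279 (iv6 D174829)) (tt N64546 (iv7 F356177)))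
theorem Q81210 : ∀ i, i < 81210 → P i := stepQ 81209 Q81209 (allL N81209 (tt N97390 F416673) (tt N112284 F480353) (tt N80736 (iv2 F355911)) (tt N65957 F345739) (tt N47280 (iv4 D174830)) (tt N93620 F401305) (tt N78566 F333790) (tt N78413 (iv7 F355913)))
theorem Q81211 : ∀ i, i < 81211 → P i := stepQ 81210 Q81210 (allL N81210 (tt N95836 F409870) (tt N80003 F346373) (tt N70104 (iv2 F361531)) (tt N47282 (iv3 D174837)) (tt N81763 F346372) (tt N70087 F342133) (tt N65159 (iv6 F363188)) (tt N76648 (iv7 F348194)))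
theorem Q81212 : ∀ i, i < 81212 → P i := stepQ 81211 Q81211 (allL N81211 (tt N81759 (iv1 F342131)) (tt N81758 F342130) (tt N81760 F342127) (tt N97423 (iv3 F416834)) (tt N47283 (iv4 D174843)) (tt N81751 (iv5 F342128)) (tt N97422 F416832) (tt N81757 (iv7 F342129)))
theorem Q81213 : ∀ i, i < 81213 → P i := stepQ 81212 Q81212 (allL N81212 (tt N80896 F334764) (tt N79836 F334766) (tt N76646 F343341) (tt N75291 F343342) (tt N97422 (iv4 F416830)) (tt N75289 (iv5 F343321)) (tt N47283 (iv6 D174845)) (tt N65157 F347455))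
theorem Q81214 : ∀ i, i < 81214 → P i := stepQ 81213 Q81213 (allL N81213 (tt N78741 F358038) (tt N47284 (iv0 D174846)) (tt N111421 F476279) (tt N60512 (iv3 F358035)) (tt N82043 F358036) (tt N81804 F342135) (tt N60510 F358034) (tt N96979 (iv7 F414899)))
theorem Q81215 : ∀ i, i < 81215 → P i := stepQ 81214 Q81214 (allL N81214 (tt N47284 (iv1 D174847)) (tt N78741 (iv0 F355871)) (tt N96979 (iv2 F414896)) (tt N102033 (iv3 F435456)) (tt N75363 (iv4 F355870)) (tt N81803 (iv5 F339193)) (tt N75362 F355848) (tt N111421 (iv7 F476281)))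
theorem Q81216 : ∀ i, i < 81216 → P i := stepQ 81215 Q81215 (allL N81215 (tt N67277 (iv1 F345742)) (tt N111972 F478918) (tt N97534 (iv2 F417287)) (tt N103436 (iv3 F441626)) (tt N81775 (iv4 F339183)) (tt N47284 (iv5 D174849)) (tt N97532 (iv6 F417282)) (tt N111096 (iv7 F474645)))
theorem Q81217 : ∀ i, i < 81217 → P i := stepQ 81216 Q81216 (allL N81216 (tt N96979 F414900) (tt N111421 F476280) (tt N78741 F339195) (tt N103437 (iv3 F441630)) (tt N47285 F273710) (tt N111096 (iv5 F474644)) (tt N93620 F401303) (tt N47284 (iv7 D174850)))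
theorem Q81218 : ∀ i, i < 81218 → P i := stepQ 81217 Q81217 (allL N81217 (tt N96527 (iv1 F412859)) (tt N74236 F358641) (tt N56871 (iv2 F358676)) (tt N107729 (iv3 F459426)) (tt N47287 (iv4 D174859)) (tt N56868 (iv5 F358711)) (tt N58144 (iv6 F334613)) (tt N56866 (iv7 F358708)))
theorem Q81219 : ∀ i, i < 81219 → P i := stepQ 81218 Q81218 (allL N81218 (tt N47288 (iv1 D174862)) (tt N78606 F273720) (tt N78607 (iv2 F273723)) (tt N47472 F309539) (tt N53743 F273721) (tt N47470 F309540) (tt N47472 (iv6 F273722)) (tt N78548 F273746))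
theorem Q81220 : ∀ i, i < 81220 → P i := stepQ 81219 Q81219 (allL N81219 (tt N68545 F363197) (tt N84138 (iv0 F368272)) (tt N76564 F363199) (tt N47291 (iv3 D174871)) (tt N111756 (iv4 F477808)) (tt N63204 (iv5 F363198)) (tt N104124 (iv6 F444304)) (tt N76562 F363200))
theorem Q81221 : ∀ i, i < 81221 → P i := stepQ 81220 Q81220 (allL N81220 (tt N79889 F337363) (tt N47292 (iv0 D174876)) (tt N80971 (iv2 F273774)) (tt N93474 (iv3 F400829)) (tt N80079 (iv4 F330853)) (tt N107151 (iv5 F457208)) (tt N64962 (iv6 F365184)) (tt N80276 (iv7 F330848)))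
theorem Q81222 : ∀ i, i < 81222 → P i := stepQ 81221 Q81221 (allL N81221 (tt N80276 (iv1 F330847)) (tt N80971 F273781) (tt N79889 F337364) (tt N72335 (iv3 F333019)) (tt N47293 F273779) (tt N72334 F333018) (tt N111373 (iv6 F476061)) (tt N47292 (iv7 D174880)))
theorem Q81223 : ∀ i, i < 81223 → P i := stepQ 81222 Q81222 (allL N81222 (tt N96833 (iv1 F414179)) (tt N96832 F414177) (tt N96835 (iv2 F414183)) (tt N95582 F408755) (tt N47294 (iv4 D174885)) (tt N112286 D215532) (tt N82027 (iv6 F334712)) (tt N96831 (iv7 F414172)))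
theorem Q81224 : ∀ i, i < 81224 → P i := stepQ 81223 Q81223 (allL N81223 (tt N81778 F405468) (tt N81780 (iv0 F400884)) (tt N112287 D215533) (tt N47295 (iv3 D174895)) (tt N112288 D215534) (tt N91977 F395206) (tt N81978 (iv6 F358891)) (tt N80988 F273789))
theorem Q81225 : ∀ i, i < 81225 → P i := stepQ 81224 Q81224 (allL N81224 (tt N80600 (iv1 F345582)) (tt N47296 (iv0 D174901)) (tt N112289 D215535) (tt N81230 F362034) (tt N112290 D215536) (tt N96348 (iv5 F412175)) (tt N81859 (iv6 F394985)) (tt N112132 (iv7 F479659)))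
theorem Q81226 : ∀ i, i < 81226 → P i := stepQ 81225 Q81225 (allL N81225 (tt N47296 (iv1 D174902)) (tt N80600 F345581) (tt N112132 (iv2 F479657)) (tt N112291 D215537) (tt N65671 F407490) (tt N96347 (iv5 F412170)) (tt N94784 (iv6 F407489)) (tt N112289 (iv7 F480380)))
theorem Q81227 : ∀ i, i < 81227 → P i := stepQ 81226 Q81226 (allL N81226 (tt N112289 (iv1 F480381)) (tt N112132 (iv0 F479661)) (tt N47296 (iv2 D174903)) (tt N64310 (iv3 F345577)) (tt N80443 F345576) (tt N96784 (iv5 F413923)) (tt N72337 F333025) (tt N80600 F345578))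
theorem Q81228 : ∀ i, i < 81228 → P i := stepQ 81227 Q81227 (allL N81227 (tt N72908 (iv1 F353651)) (tt N101128 (iv0 F431825)) (tt N96784 (iv2 F413921)) (tt N47297 F273801) (tt N81737 (iv4 F333030)) (tt N47296 (iv5 D174904)) (tt N81729 F333028) (tt N112138 (iv7 F479694)))
theorem Q81229 : ∀ i, i < 81229 → P i := stepQ 81228 Q81228 (allL N81228 (tt N112132 (iv1 F479662)) (tt N112289 F480383) (tt N80600 (iv2 F345579)) (tt N47298 F273802) (tt N103437 (iv4 F441631)) (tt N112138 (iv5 F479696)) (tt N111370 (iv6 F476044)) (tt N47296 (iv7 D174905)))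
theorem Q81230 : ∀ i, i < 81230 → P i := stepQ 81229 Q81229 (allL N81229 (tt N81603 (iv1 F276217)) (tt N47297 (iv0 D174906)) (tt N80975 (iv2 F273805)) (tt N112292 D215538) (tt N80790 F273804) (tt N80776 F273803) (tt N72855 F378259) (tt N80981 (iv7 F273806)))
theorem Q81231 : ∀ i, i < 81231 → P i := stepQ 81230 Q81230 (allL N81230 (tt N47297 (iv1 D174907)) (tt N81603 (iv0 F276216)) (tt N80981 (iv2 F273810)) (tt N81224 (iv3 F362034)) (tt N80789 F273809) (tt N80777 F273808) (tt N91927 (iv6 F394981)) (tt N80975 F273807))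
theorem Q81232 : ∀ i, i < 81232 → P i := stepQ 81231 Q81231 (allL N81231 (tt N107889 F460138) (tt N107888 F460132) (tt N96409 (iv2 F412388)) (tt N81729 (iv3 F333029)) (tt N106751 (iv4 F455537)) (tt N81739 F333031) (tt N47297 (iv6 D174908)) (tt N107890 (iv7 F460142)))
theorem Q81233 : ∀ i, i < 81233 → P i := stepQ 81232 Q81232 (allL N81232 (tt N80981 (iv1 F273813)) (tt N80975 F273814) (tt N81603 (iv2 F276214)) (tt N112138 F479697) (tt N78664 F273811) (tt N47298 F273812) (tt N112293 D215539) (tt N47297 (iv7 D174909)))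
theorem Q81234 : ∀ i, i < 81234 → P i := stepQ 81233 Q81233 (allL N81233 (tt N111372 F476058) (tt N101686 F433867) (tt N78735 (iv2 F366382)) (tt N111370 (iv3 F476042)) (tt N47299 F273815) (tt N112294 D215540) (tt N47298 (iv6 D174910)) (tt N111373 (iv7 F476062)))
theorem Q81235 : ∀ i, i < 81235 → P i := stepQ 81234 Q81234 (allL N81234 (tt N66424 (iv1 F353101)) (tt N66420 F358553) (tt N66422 F333394) (tt N47303 F273818) (tt N83185 F364533) (tt N47301 (iv5 D174916)) (tt N79369 (iv6 F302721)) (tt N66423 (iv7 F333395)))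
theorem Q81236 : ∀ i, i < 81236 → P i := stepQ 81235 Q81235 (allL N81235 (tt N94072 (iv1 F403076)) (tt N82171 (iv0 F354060)) (tt N75445 F354062) (tt N47306 F273832) (tt N83318 (iv4 F341134)) (tt N47305 (iv5 D174939)) (tt N75311 (iv6 F354061)) (tt N94070 (iv7 F403061)))
theorem Q81237 : ∀ i, i < 81237 → P i := stepQ 81236 Q81236 (allL N81236 (tt N82150 F355435) (tt N110044 F469702) (tt N67044 (iv2 F354137)) (tt N47308 F273842) (tt N74345 (iv4 F354134)) (tt N47307 (iv5 D174954)) (tt N67602 F354136) (tt N66934 (iv7 F354112)))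
theorem Q81238 : ∀ i, i < 81238 → P i := stepQ 81237 Q81237 (allL N81237 (tt N66923 F366391) (tt N66922 F366392) (tt N67047 F366388) (tt N47309 (iv3 D174968)) (tt N91416 (iv4 F393042)) (tt N77031 (iv5 F366389)) (tt N77717 (iv6 F366387)) (tt N63777 F366386))
theorem Q81239 : ∀ i, i < 81239 → P i := stepQ 81238 Q81238 (allL N81238 (tt N112073 (iv1 F479367)) (tt N65083 (iv0 F342145)) (tt N102765 (iv2 F438540)) (tt N104248 (iv3 F444920)) (tt N108924 (iv4 F464508)) (tt N60629 (iv5 F342141)) (tt N47311 (iv6 D174982)) (tt N112295 D215541))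
theorem Q81240 : ∀ i, i < 81240 → P i := stepQ 81239 Q81239 (allL N81239 (tt N100388 (iv1 F428746)) (tt N47350 F337073) (tt N100386 F428732) (tt N47315 (iv3 D174995)) (tt N111536 (iv4 F476801)) (tt N79394 F337074) (tt N111807 (iv6 F478073)) (tt N100387 (iv7 F428737)))
theorem Q81241 : ∀ i, i < 81241 → P i := stepQ 81240 Q81240 (allL N81240 (tt N66035 F343947) (tt N66038 F343948) (tt N77610 (iv2 F347069)) (tt N47316 (iv3 D174999)) (tt N71158 (iv4 F343942)) (tt N66372 F343946) (tt N57370 F343944) (tt N66427 F343945))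
theorem Q81242 : ∀ i, i < 81242 → P i := stepQ 81241 Q81241 (allL N81241 (tt N82180 F361995) (tt N103015 (iv0 F439680)) (tt N103013 F439671) (tt N57370 (iv3 F361996)) (tt N96027 (iv4 F410704)) (tt N109299 (iv5 F466263)) (tt N47316 (iv6 D175000)) (tt N103014 (iv7 F439672)))
theorem Q81243 : ∀ i, i < 81243 → P i := stepQ 81242 Q81242 (allL N81242 (tt N112101 (iv1 F479497)) (tt N47317 (iv0 D175001)) (tt N81090 (iv2 F273903)) (tt N109307 (iv3 F466312)) (tt N80797 F273904) (tt N107810 F459798) (tt N90400 (iv6 F389517)) (tt N81093 F273905))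
theorem Q81244 : ∀ i, i < 81244 → P i := stepQ 81243 Q81243 (allL N81243 (tt N47317 (iv1 D175002)) (tt N112101 F479496) (tt N81093 (iv2 F273901)) (tt N107852 (iv3 F459990)) (tt N80764 F273900) (tt N107837 (iv5 F459940)) (tt N112296 D215542) (tt N81090 (iv7 F273902)))
theorem Q81245 : ∀ i, i < 81245 → P i := stepQ 81244 Q81244 (allL N81244 (tt N112297 D215543) (tt N112298 D215544) (tt N107713 (iv2 F459346)) (tt N107841 (iv3 F459949)) (tt N107699 (iv4 F459283)) (tt N47317 (iv5 D175004)) (tt N90303 F459286) (tt N108986 (iv7 F464777)))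
theorem Q81246 : ∀ i, i < 81246 → P i := stepQ 81245 Q81245 (allL N81245 (tt N81093 (iv1 F273910)) (tt N81090 F273911) (tt N112101 (iv2 F479493)) (tt N107824 F459867) (tt N47318 F273909) (tt N108986 (iv5 F464776)) (tt N101665 F433761) (tt N47317 (iv7 D175005)))
theorem Q81247 : ∀ i, i < 81247 → P i := stepQ 81246 Q81246 (allL N81246 (tt N100374 (iv1 F428661)) (tt N47973 (iv0 F273915)) (tt N77524 F359305) (tt N112211 (iv3 F480074)) (tt N47319 (iv4 D175007)) (tt N59471 F352220) (tt N75523 F359346) (tt N94969 (iv7 F406538)))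
theorem Q81248 : ∀ i, i < 81248 → P i := stepQ 81247 Q81247 (allL N81247 (tt N101885 (iv1 F434820)) (tt N47321 (iv0 D175018)) (tt N60642 (iv2 F360721)) (tt N63785 F360723) (tt N108296 (iv4 F461945)) (tt N60632 F360724) (tt N56352 F360725) (tt N60631 (iv7 F360722)))
theorem Q81249 : ∀ i, i < 81249 → P i := stepQ 81248 Q81248 (allL N81248 (tt N47321 (iv1 D175019)) (tt N101885 (iv0 F434819)) (tt N60631 F360716) (tt N47550 F360717) (tt N112299 D215545) (tt N60625 F360718) (tt N47548 F360719) (tt N60642 F360720))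
theorem Q81250 : ∀ i, i < 81250 → P i := stepQ 81249 Q81249 (allL N81249 (tt N112300 D215546) (tt N112301 D215547) (tt N85657 (iv2 F373422)) (tt N47322 (iv3 D175021)) (tt N50629 F352783) (tt N112302 D215548) (tt N50628 (iv6 F352778)) (tt N81128 F273924))
theorem Q81251 : ∀ i, i < 81251 → P i := stepQ 81250 Q81250 (allL N81250 (tt N112189 (iv1 F479972)) (tt N112188 (iv0 F479966)) (tt N81122 F273925) (tt N112302 (iv3 F480447)) (tt N80815 F273927) (tt N47322 (iv5 D175022)) (tt N112303 D215549) (tt N81129 F273926))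
theorem Q81252 : ∀ i, i < 81252 → P i := stepQ 81251 Q81251 (allL N81251 (tt N112304 D215550) (tt N101664 (iv0 F433756)) (tt N99485 (iv2 F424803)) (tt N47323 (iv3 D175024)) (tt N98859 (iv4 F422603)) (tt N108115 (iv5 F461173)) (tt N57005 (iv6 F364949)) (tt N81121 F273930))
theorem Q81253 : ∀ i, i < 81253 → P i := stepQ 81252 Q81252 (allL N81252 (tt N112188 (iv1 F479967)) (tt N112189 (iv0 F479971)) (tt N81129 F273931) (tt N108115 (iv3 F461172)) (tt N80813 F273932) (tt N47323 (iv5 D175025)) (tt N108102 F461112) (tt N81122 F273933))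
theorem Q81254 : ∀ i, i < 81254 → P i := stepQ 81253 Q81253 (allL N81253 (tt N108296 F461948) (tt N112299 (iv0 F480434)) (tt N81130 F273934) (tt N57005 F364944) (tt N60087 (iv4 F328394)) (tt N91444 (iv5 F393141)) (tt N47323 (iv6 D175026)) (tt N93270 (iv7 F400224)))
theorem Q81255 : ∀ i, i < 81255 → P i := stepQ 81254 Q81254 (allL N81254 (tt N47324 (iv1 D175028)) (tt N103169 (iv0 F440388)) (tt N88134 (iv2 F381877)) (tt N112305 D215551) (tt N52354 (iv4 F366093)) (tt N51962 F366096) (tt N75358 F366094) (tt N76214 F366095))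
theorem Q81256 : ∀ i, i < 81256 → P i := stepQ 81255 Q81255 (allL N81255 (tt N76214 (iv1 F381883)) (tt N88134 (iv0 F381880)) (tt N47324 (iv2 D175029)) (tt N112103 (iv3 F479498)) (tt N102999 (iv4 F439615)) (tt N87280 F378964) (tt N107825 F459874) (tt N103169 (iv7 F440387)))
theorem Q81257 : ∀ i, i < 81257 → P i := stepQ 81256 Q81256 (allL N81256 (tt N112306 D215552) (tt N74675 (iv0 F362765)) (tt N87280 (iv2 F378963)) (tt N47325 F273936) (tt N52417 F338161) (tt N47324 (iv5 D175030)) (tt N108136 (iv6 F461258)) (tt N87285 (iv7 F378977)))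
theorem Q81258 : ∀ i, i < 81258 → P i := stepQ 81257 Q81257 (allL N81257 (tt N88134 (iv1 F381882)) (tt N76214 (iv0 F360019)) (tt N103169 (iv2 F440384)) (tt N47326 F273937) (tt N77784 F360018) (tt N87285 (iv5 F378978)) (tt N80348 (iv6 F360017)) (tt N47324 (iv7 D175031)))
theorem Q81259 : ∀ i, i < 81259 → P i := stepQ 81258 Q81258 (allL N81258 (tt N112307 D215553) (tt N112308 D215554) (tt N112105 (iv2 F479502)) (tt N108136 (iv3 F461257)) (tt N111566 (iv4 F476951)) (tt N90303 (iv5 F459287)) (tt N47325 (iv6 D175034)) (tt N108159 (iv7 F461341)))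
theorem Q81260 : ∀ i, i < 81260 → P i := stepQ 81259 Q81259 (allL N81259 (tt N81117 (iv1 F273948)) (tt N81112 F273949) (tt N83773 (iv2 F289068)) (tt N87285 (iv3 F378979)) (tt N54847 F273946) (tt N47326 F273947) (tt N100553 F429440) (tt N47325 (iv7 D175035)))
theorem Q81261 : ∀ i, i < 81261 → P i := stepQ 81260 Q81260 (allL N81260 (tt N112294 (iv1 F480407)) (tt N111374 (iv0 F476070)) (tt N96163 (iv2 F411302)) (tt N80348 F360016) (tt N47327 F273950) (tt N95213 (iv5 F407443)) (tt N47326 (iv6 D175036)) (tt N101665 (iv7 F433759)))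
theorem Q81262 : ∀ i, i < 81262 → P i := stepQ 81261 Q81261 (allL N81261 (tt N80957 F273971) (tt N63240 F355023) (tt N76910 F273968) (tt N69345 (iv3 F304572)) (tt N47332 F273970) (tt N75753 (iv5 F355022)) (tt N47331 (iv6 D175048)) (tt N103934 (iv7 F443435)))
theorem Q81263 : ∀ i, i < 81263 → P i := stepQ 81262 Q81262 (allL N81262 (tt N79338 F341914) (tt N79337 F345801) (tt N79340 (iv2 F314130)) (tt N47333 (iv3 D175055)) (tt N54311 (iv4 F334220)) (tt N79331 (iv5 F341916)) (tt N66965 (iv6 F334223)) (tt N79336 F341915))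
theorem Q81264 : ∀ i, i < 81264 → P i := stepQ 81263 Q81263 (allL N81263 (tt N76104 F274024) (tt N76103 F274026) (tt N76105 F274021) (tt N77601 F274022) (tt N77606 F274025) (tt N47335 (iv5 D175063)) (tt N94169 (iv6 F403514)) (tt N76102 F274023))
theorem Q81265 : ∀ i, i < 81265 → P i := stepQ 81264 Q81264 (allL N81264 (tt N47409 F274031) (tt N103921 (iv0 F443384)) (tt N48229 F274028) (tt N77602 F274029) (tt N63559 F274030) (tt N89193 (iv5 F385517)) (tt N47335 (iv6 D175064)) (tt N82098 (iv7 F278515)))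
theorem Q81266 : ∀ i, i < 81266 → P i := stepQ 81265 Q81265 (allL N81265 (tt N74316 F363124) (tt N104241 (iv0 F444884)) (tt N95824 (iv2 F409817)) (tt N100490 (iv3 F429144)) (tt N80441 F274050) (tt N59968 (iv5 F361281)) (tt N47338 (iv6 D175073)) (tt N104255 (iv7 F444967)))
theorem Q81267 : ∀ i, i < 81267 → P i := stepQ 81266 Q81266 (allL N81266 (tt N95288 (iv1 F407741)) (tt N47339 (iv0 D175074)) (tt N60017 (iv2 F337596)) (tt N76564 (iv3 F363201)) (tt N59976 F337597) (tt N76563 F337598) (tt N59975 F337599) (tt N95763 (iv7 F409523)))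
theorem Q81268 : ∀ i, i < 81268 → P i := stepQ 81267 Q81267 (allL N81267 (tt N47414 (iv1 F274060)) (tt N47367 F274061) (tt N47412 F274057) (tt N80753 F274058) (tt N47959 F274059) (tt N100532 (iv5 F429358)) (tt N66959 F351740) (tt N47341 (iv7 D175081)))
theorem Q81269 : ∀ i, i < 81269 → P i := stepQ 81268 Q81268 (allL N81268 (tt N99851 (iv1 F426535)) (tt N47419 F332289) (tt N99848 F426511) (tt N68402 (iv3 F366748)) (tt N109490 (iv4 F467239)) (tt N47345 (iv5 D175092)) (tt N76546 F274069) (tt N99849 (iv7 F426516)))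
theorem Q81270 : ∀ i, i < 81270 → P i := stepQ 81269 Q81269 (allL N81269 (tt N102805 (iv1 F438722)) (tt N102815 (iv0 F438772)) (tt N102707 (iv2 F438290)) (tt N81483 F337521) (tt N92452 (iv4 F397048)) (tt N47346 (iv5 D175101)) (tt N102704 F438276) (tt N98073 (iv7 F419356)))
theorem Q81271 : ∀ i, i < 81271 → P i := stepQ 81270 Q81270 (allL N81270 (tt N67045 (iv1 F364911)) (tt N47347 (iv0 D175103)) (tt N106449 (iv2 F454499)) (tt N97073 (iv3 F415335)) (tt N92489 (iv4 F397141)) (tt N102802 (iv5 F438704)) (tt N66325 F358429) (tt N97070 (iv7 F415318)))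
theorem Q81272 : ∀ i, i < 81272 → P i := stepQ 81271 Q81271 (allL N81271 (tt N47347 (iv1 D175104)) (tt N67045 F364913) (tt N97070 (iv2 F415315)) (tt N88498 (iv3 F383285)) (tt N92488 (iv4 F397135)) (tt N80701 (iv5 F364914)) (tt N97069 (iv6 F415311)) (tt N106449 (iv7 F454503)))
theorem Q81273 : ∀ i, i < 81273 → P i := stepQ 81272 Q81272 (allL N81272 (tt N92450 (iv1 F397036)) (tt N92449 F397034) (tt N92451 (iv2 F397041)) (tt N106973 (iv3 F456488)) (tt N47347 (iv4 D175105)) (tt N92307 (iv5 F396660)) (tt N80000 F274072) (tt N92306 F396656))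
theorem Q81274 : ∀ i, i < 81274 → P i := stepQ 81273 Q81273 (allL N81273 (tt N97070 (iv1 F415320)) (tt N106449 (iv0 F454504)) (tt N67045 F364908) (tt N47356 F274073) (tt N92306 (iv4 F396654)) (tt N47348 F274074) (tt N112309 D215555) (tt N47347 (iv7 D175106)))
theorem Q81275 : ∀ i, i < 81275 → P i := stepQ 81274 Q81274 (allL N81274 (tt N47350 (iv1 D175111)) (tt N100388 F428745) (tt N100387 F428739) (tt N77610 (iv3 F359254)) (tt N110895 (iv4 F473653)) (tt N77609 F359255) (tt N109305 (iv6 F466300)) (tt N100386 F428734))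
theorem Q81276 : ∀ i, i < 81276 → P i := stepQ 81275 Q81275 (allL N81275 (tt N108939 (iv1 F464580)) (tt N89972 F388154) (tt N93959 (iv2 F402601)) (tt N108945 (iv3 F464612)) (tt N47350 (iv4 D175112)) (tt N93958 F402600) (tt N47355 F274080) (tt N108938 (iv7 F464579)))
theorem Q81277 : ∀ i, i < 81277 → P i := stepQ 81276 Q81276 (allL N81276 (tt N100387 (iv1 F428736)) (tt N100386 F428735) (tt N100388 (iv2 F428741)) (tt N54313 (iv3 F321173)) (tt N108938 (iv4 F464578)) (tt N47351 F274082) (tt N95769 (iv6 F409552)) (tt N47350 (iv7 D175113)))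
theorem Q81278 : ∀ i, i < 81278 → P i := stepQ 81277 Q81277 (allL N81277 (tt N63858 F334086) (tt N81348 (iv0 F274423)) (tt N63376 F274100) (tt N80743 F274101) (tt N47978 F274102) (tt N47354 (iv5 D175119)) (tt N63374 F274103) (tt N78219 (iv7 F359311)))
theorem Q81279 : ∀ i, i < 81279 → P i := stepQ 81278 Q81278 (allL N81278 (tt N105354 F449854) (tt N112310 D215556) (tt N100390 (iv2 F428754)) (tt N62363 F344430) (tt N62366 (iv4 F344431)) (tt N80185 F362472) (tt N47354 (iv6 D175120)) (tt N66397 (iv7 F344432)))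
theorem Q81280 : ∀ i, i < 81280 → P i := stepQ 81279 Q81279 (allL N81279 (tt N47355 (iv1 D175122)) (tt N100391 F428760) (tt N82055 F278204) (tt N89603 (iv3 F386931)) (tt N63540 F274104) (tt N101157 (iv5 F431983)) (tt N110561 (iv6 F472149)) (tt N82052 (iv7 F278200)))
theorem Q81281 : ∀ i, i < 81281 → P i := stepQ 81280 Q81280 (allL N81280 (tt N109353 F466533) (tt N91842 (iv0 F394647)) (tt N108949 (iv2 F464622)) (tt N47355 (iv3 D175123)) (tt N106973 (iv4 F456489)) (tt N87807 F380596) (tt N108945 (iv6 F464613)) (tt N106972 F456487))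
theorem Q81282 : ∀ i, i < 81282 → P i := stepQ 81281 Q81281 (allL N81281 (tt N112311 D215557) (tt N112312 D215558) (tt N82006 F353915) (tt N87807 (iv3 F380593)) (tt N65137 (iv4 F353914)) (tt N47355 (iv5 D175124)) (tt N96036 (iv6 F410748)) (tt N82003 F353916))
theorem Q81283 : ∀ i, i < 81283 → P i := stepQ 81282 Q81282 (allL N81282 (tt N82055 (iv1 F278192)) (tt N82052 (iv0 F278187)) (tt N100391 (iv2 F428758)) (tt N106972 (iv3 F456482)) (tt N47356 F274105) (tt N82003 (iv5 F337712)) (tt N111607 F477139) (tt N47355 (iv7 D175125)))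
theorem Q81284 : ∀ i, i < 81284 → P i := stepQ 81283 Q81283 (allL N81283 (tt N65859 (iv1 F366440)) (tt N65855 (iv0 F366441)) (tt N95770 (iv2 F409555)) (tt N112309 (iv3 F480475)) (tt N111607 (iv4 F477137)) (tt N60080 F366439) (tt N47356 (iv6 D175126)) (tt N95769 (iv7 F409553)))
theorem Q81285 : ∀ i, i < 81285 → P i := stepQ 81284 Q81284 (allL N81284 (tt N88525 (iv1 F383403)) (tt N68533 F339757) (tt N47386 F334557) (tt N54298 (iv3 F334555)) (tt N64763 (iv4 F334556)) (tt N47357 (iv5 D175130)) (tt N64037 F334552) (tt N47389 F334558))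
theorem Q81286 : ∀ i, i < 81286 → P i := stepQ 81285 Q81285 (allL N81285 (tt N68533 F339755) (tt N88525 (iv0 F383402)) (tt N47389 F334568) (tt N74997 F339384) (tt N84117 (iv4 F368168)) (tt N47358 (iv5 D175135)) (tt N95833 F409862) (tt N47386 F334569))
theorem Q81287 : ∀ i, i < 81287 → P i := stepQ 81286 Q81286 (allL N81286 (tt N47394 (iv1 F274114)) (tt N47359 (iv0 D175137)) (tt N47391 F357773) (tt N99567 (iv3 F425202)) (tt N84121 (iv4 F368192)) (tt N94476 (iv5 F404641)) (tt N99566 (iv6 F425200)) (tt N47392 F357774))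
theorem Q81288 : ∀ i, i < 81288 → P i := stepQ 81287 Q81287 (allL N81287 (tt N47359 (iv1 D175138)) (tt N47394 F274108) (tt N47392 F354873) (tt N109232 (iv3 F465891)) (tt N84120 (iv4 F368183)) (tt N69666 (iv5 F344380)) (tt N112313 D215559) (tt N47391 F354874))
theorem Q81289 : ∀ i, i < 81289 → P i := stepQ 81288 Q81288 (allL N81288 (tt N47392 (iv1 F274115)) (tt N47391 F274116) (tt N47394 F274112) (tt N76548 F339362) (tt N84337 (iv4 F368960)) (tt N47360 F274113) (tt N109263 F466063) (tt N47359 (iv7 D175140)))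
theorem Q81290 : ∀ i, i < 81290 → P i := stepQ 81289 Q81289 (allL N81289 (tt N63245 (iv1 F346382)) (tt N70086 (iv0 F346377)) (tt N70100 (iv2 F334165)) (tt N47362 F274126) (tt N73657 F330295) (tt N47361 (iv5 D175144)) (tt N103910 (iv6 F443325)) (tt N47406 F274127))
theorem Q81291 : ∀ i, i < 81291 → P i := stepQ 81290 Q81290 (allL N81290 (tt N47362 (iv1 D175146)) (tt N47366 F274130) (tt N47400 (iv2 F274132)) (tt N109797 (iv3 F468657)) (tt N109223 (iv4 F465843)) (tt N63846 (iv5 F311310)) (tt N60106 F353496) (tt N47399 F274131))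
theorem Q81292 : ∀ i, i < 81292 → P i := stepQ 81291 Q81291 (allL N81291 (tt N82076 (iv1 F278430)) (tt N59270 (iv0 F315804)) (tt N47401 F274133) (tt N72275 F361422) (tt N47362 (iv4 D175147)) (tt N59245 F332230) (tt N101022 F431320) (tt N47410 F274134))
theorem Q81293 : ∀ i, i < 81293 → P i := stepQ 81292 Q81292 (allL N81292 (tt N51289 F334553) (tt N111760 F477832) (tt N47402 F274135) (tt N103910 (iv3 F443323)) (tt N101022 (iv4 F431322)) (tt N78602 F274136) (tt N47362 (iv6 D175148)) (tt N101029 (iv7 F431360)))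
theorem Q81294 : ∀ i, i < 81294 → P i := stepQ 81293 Q81293 (allL N81293 (tt N82098 (iv1 F278517)) (tt N48229 F274162) (tt N47409 F274160) (tt N72190 F356225) (tt N47367 F274161) (tt N73599 (iv5 F356226)) (tt N47365 (iv6 D175154)) (tt N103921 (iv7 F443383)))
theorem Q81295 : ∀ i, i < 81295 → P i := stepQ 81294 Q81294 (allL N81294 (tt N63487 F274167) (tt N63375 (iv0 F274168)) (tt N47413 F274166) (tt N75195 F354852) (tt N111814 (iv4 F478113)) (tt N47367 (iv5 D175157)) (tt N75194 (iv6 F354850)) (tt N76879 (iv7 F274403)))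
theorem Q81296 : ∀ i, i < 81296 → P i := stepQ 81295 Q81295 (allL N81295 (tt N77321 (iv1 F336353)) (tt N59248 (iv0 F332231)) (tt N47416 F274170) (tt N78128 (iv3 F332244)) (tt N47368 (iv4 D175159)) (tt N78127 F332241) (tt N69822 (iv6 F341466)) (tt N47420 F274171))
theorem Q81297 : ∀ i, i < 81297 → P i := stepQ 81296 Q81296 (allL N81296 (tt N94575 (iv1 F405025)) (tt N94062 (iv0 F403028)) (tt N47418 F274176) (tt N105346 (iv3 F449802)) (tt N69822 F341468) (tt N94052 (iv5 F402998)) (tt N47368 (iv6 D175161)) (tt N94576 (iv7 F405030)))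
theorem Q81298 : ∀ i, i < 81298 → P i := stepQ 81297 Q81297 (allL N81297 (tt N59248 (iv1 F332232)) (tt N77321 (iv0 F336352)) (tt N47420 F274178) (tt N78705 F334538) (tt N47369 (iv4 D175163)) (tt N105062 (iv5 F448616)) (tt N63948 F334549) (tt N47416 F274179))
theorem Q81299 : ∀ i, i < 81299 → P i := stepQ 81298 Q81298 (allL N81298 (tt N98181 (iv1 F419882)) (tt N92194 (iv0 F396189)) (tt N78923 F360779) (tt N47370 (iv3 D175167)) (tt N61027 (iv4 F349787)) (tt N97299 (iv5 F416281)) (tt N87255 F378908) (tt N97297 (iv7 F416273)))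
theorem Q81300 : ∀ i, i < 81300 → P i := stepQ 81299 Q81299 (allL N81299 (tt N47424 (iv1 F274189)) (tt N47423 F274190) (tt N47427 F274185) (tt N97297 (iv3 F416269)) (tt N47371 F274186) (tt N48030 F274187) (tt N109265 (iv6 F466072)) (tt N47370 (iv7 D175169)))
theorem Q81301 : ∀ i, i < 81301 → P i := stepQ 81300 Q81300 (allL N81300 (tt N64051 F274196) (tt N64050 F274197) (tt N64048 F274192) (tt N53064 (iv3 F296796)) (tt N55179 F274195) (tt N47372 (iv5 D175171)) (tt N65105 F354070) (tt N64049 F274194))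
theorem Q81302 : ∀ i, i < 81302 → P i := stepQ 81301 Q81301 (allL N81301 (tt N47373 (iv1 D175174)) (tt N65305 F274201) (tt N47573 F274203) (tt N47575 (iv3 F274202)) (tt N68794 F334271) (tt N69313 (iv5 F334267)) (tt N104807 (iv6 F447386)) (tt N70047 (iv7 F313256)))
theorem Q81303 : ∀ i, i < 81303 → P i := stepQ 81302 Q81302 (allL N81302 (tt N68537 F340278) (tt N68540 F340279) (tt N75412 (iv2 F340273)) (tt N47376 F274208) (tt N87820 (iv4 F380659)) (tt N47373 (iv5 D175175)) (tt N66884 (iv6 F340267)) (tt N75411 (iv7 F340288)))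
theorem Q81304 : ∀ i, i < 81304 → P i := stepQ 81303 Q81303 (allL N81303 (tt N47385 F333693) (tt N47388 F333694) (tt N76015 F274217) (tt N52964 (iv3 F359370)) (tt N52966 (iv4 F319555)) (tt N74502 F333695) (tt N47375 (iv6 D175178)) (tt N74501 (iv7 F343400)))
theorem Q81305 : ∀ i, i < 81305 → P i := stepQ 81304 Q81304 (allL N81304 (tt N112159 F479814) (tt N112109 (iv0 F479524)) (tt N100394 (iv2 F428775)) (tt N47441 F274242) (tt N96874 (iv4 F414378)) (tt N47377 (iv5 D175197)) (tt N109304 (iv6 F466296)) (tt N100395 (iv7 F428783)))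
theorem Q81306 : ∀ i, i < 81306 → P i := stepQ 81305 Q81305 (allL N81305 (tt N76074 F343506) (tt N54307 (iv0 F359262)) (tt N77609 (iv2 F359258)) (tt N47442 F274243) (tt N78357 F359259) (tt N100387 (iv5 F428738)) (tt N47377 (iv6 D175198)) (tt N79394 (iv7 F359260)))
theorem Q81307 : ∀ i, i < 81307 → P i := stepQ 81306 Q81306 (allL N81306 (tt N112109 F479525) (tt N112159 F479815) (tt N100395 (iv2 F428780)) (tt N76546 (iv3 F366749)) (tt N109491 (iv4 F467243)) (tt N47378 (iv5 D175200)) (tt N68402 (iv6 F336409)) (tt N100394 (iv7 F428777)))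
theorem Q81308 : ∀ i, i < 81308 → P i := stepQ 81307 Q81307 (allL N81307 (tt N96961 (iv1 F414798)) (tt N47379 (iv0 D175202)) (tt N96962 (iv2 F414805)) (tt N47445 F363840) (tt N88530 (iv4 F383423)) (tt N108728 (iv5 F463724)) (tt N94083 F403131) (tt N58851 F363841))
theorem Q81309 : ∀ i, i < 81309 → P i := stepQ 81308 Q81308 (allL N81308 (tt N74870 (iv1 F357750)) (tt N69416 F357751) (tt N75569 (iv2 F337183)) (tt N47383 F274253) (tt N98270 (iv4 F420266)) (tt N47381 (iv5 D175210)) (tt N63062 (iv6 F338650)) (tt N75534 F354910))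
theorem Q81310 : ∀ i, i < 81310 → P i := stepQ 81309 Q81309 (allL N81309 (tt N98405 (iv1 F420827)) (tt N47383 (iv0 D175222)) (tt N98404 F420817) (tt N69414 F339574) (tt N51084 (iv4 F339573)) (tt N69413 F355318) (tt N74852 (iv6 F355316)) (tt N80494 F344376))
theorem Q81311 : ∀ i, i < 81311 → P i := stepQ 81310 Q81310 (allL N81310 (tt N47383 (iv1 D175223)) (tt N98405 F420826) (tt N80494 F359667) (tt N52607 (iv3 F359666)) (tt N85805 (iv4 F374028)) (tt N80490 (iv5 F335002)) (tt N52605 F359665) (tt N98404 (iv7 F420819)))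
theorem Q81312 : ∀ i, i < 81312 → P i := stepQ 81311 Q81311 (allL N81311 (tt N104242 (iv1 F444891)) (tt N63812 (iv0 F339765)) (tt N88521 (iv2 F383379)) (tt N51501 (iv3 F339576)) (tt N47383 (iv4 D175224)) (tt N51500 F339577) (tt N70834 (iv6 F338653)) (tt N61302 (iv7 F335209)))
theorem Q81313 : ∀ i, i < 81313 → P i := stepQ 81312 Q81312 (allL N81312 (tt N80494 F344379) (tt N98404 F420820) (tt N98405 (iv2 F420821)) (tt N75534 F354927) (tt N61302 F335207) (tt N47384 F274259) (tt N61300 (iv6 F335208)) (tt N47383 (iv7 D175225)))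
theorem Q81314 : ∀ i, i < 81314 → P i := stepQ 81313 Q81313 (allL N81313 (tt N47388 (iv1 F274275)) (tt N47385 (iv0 D175239)) (tt N74501 F333655) (tt N65101 (iv3 F364613)) (tt N64226 (iv4 F364612)) (tt N74454 (iv5 F333654)) (tt N73338 (iv6 F333664)) (tt N76015 F333730))
theorem Q81315 : ∀ i, i < 81315 → P i := stepQ 81314 Q81314 (allL N81314 (tt N47389 (iv1 F274280)) (tt N47386 (iv0 D175245)) (tt N88525 (iv2 F383399)) (tt N76549 F339751) (tt N84340 (iv4 F368981)) (tt N68534 (iv5 F337069)) (tt N94089 (iv6 F403148)) (tt N68533 F337075))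
theorem Q81316 : ∀ i, i < 81316 → P i := stepQ 81315 Q81315 (allL N81315 (tt N47386 (iv1 D175246)) (tt N47389 F274277) (tt N68533 (iv2 F337076)) (tt N47465 F339753) (tt N84339 (iv4 F368972)) (tt N68491 F337077) (tt N75193 (iv6 F354871)) (tt N88525 (iv7 F383401)))
theorem Q81317 : ∀ i, i < 81317 → P i := stepQ 81316 Q81316 (allL N81316 (tt N63712 (iv1 F348543)) (tt N63711 (iv0 F339379)) (tt N63707 (iv2 F339386)) (tt N47389 F274283) (tt N62531 F339381) (tt N47387 (iv5 D175259)) (tt N63551 (iv6 F353502)) (tt N54298 (iv7 F339391)))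
theorem Q81318 : ∀ i, i < 81318 → P i := stepQ 81317 Q81317 (allL N81317 (tt N54178 F363839) (tt N84128 F368221) (tt N84117 (iv2 F368166)) (tt N73889 (iv3 F363837)) (tt N47389 (iv4 D175264)) (tt N84101 (iv5 F368110)) (tt N101028 (iv6 F431354)) (tt N64763 F363838))
theorem Q81319 : ∀ i, i < 81319 → P i := stepQ 81318 Q81318 (allL N81318 (tt N59991 (iv1 F353501)) (tt N60106 (iv0 F353499)) (tt N95833 (iv2 F409863)) (tt N63551 F353500) (tt N101028 (iv4 F431353)) (tt N95286 (iv5 F407726)) (tt N47389 (iv6 D175265)) (tt N63549 (iv7 F334571)))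
theorem Q81320 : ∀ i, i < 81320 → P i := stepQ 81319 Q81319 (allL N81319 (tt N69646 F337601) (tt N47390 (iv0 D175266)) (tt N76563 F337602) (tt N47431 F337603) (tt N68483 F337604) (tt N60017 F337605) (tt N100397 F428794) (tt N68482 F337606))
theorem Q81321 : ∀ i, i < 81321 → P i := stepQ 81320 Q81320 (allL N81320 (tt N84118 (iv1 F368173)) (tt N84115 F368175) (tt N84121 (iv2 F368194)) (tt N83850 F357758) (tt N47391 (iv4 D175272)) (tt N85496 (iv5 F372840)) (tt N99888 (iv6 F426692)) (tt N84120 (iv7 F368187)))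
theorem Q81322 : ∀ i, i < 81322 → P i := stepQ 81321 Q81321 (allL N81321 (tt N84115 (iv1 F368161)) (tt N84118 (iv0 F368174)) (tt N84120 F368185) (tt N77552 F340088) (tt N47392 (iv4 D175277)) (tt N48989 F360954) (tt N105216 (iv6 F449243)) (tt N84121 (iv7 F368191)))
theorem Q81323 : ∀ i, i < 81323 → P i := stepQ 81322 Q81322 (allL N81322 (tt N103888 F443222) (tt N94578 (iv0 F427167)) (tt N112313 (iv2 F480497)) (tt N100007 F427166) (tt N105216 (iv4 F449241)) (tt N85071 (iv5 F371527)) (tt N47392 (iv6 D175279)) (tt N108254 (iv7 F461715)))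
theorem Q81324 : ∀ i, i < 81324 → P i := stepQ 81323 Q81323 (allL N81323 (tt N84337 (iv1 F368962)) (tt N47393 (iv0 D175280)) (tt N54727 (iv2 F357755)) (tt N62740 (iv3 F346294)) (tt N74761 F346293) (tt N54726 F354875) (tt N62738 (iv6 F346295)) (tt N84352 (iv7 F369030)))
theorem Q81325 : ∀ i, i < 81325 → P i := stepQ 81324 Q81324 (allL N81324 (tt N84349 (iv1 F383375)) (tt N112314 D215560) (tt N101099 (iv2 F431666)) (tt N47393 (iv3 D175282)) (tt N47478 F274290) (tt N49396 F336793) (tt N47425 F274291) (tt N88519 (iv7 F383373)))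
theorem Q81326 : ∀ i, i < 81326 → P i := stepQ 81325 Q81325 (allL N81325 (tt N48012 F274357) (tt N47996 (iv0 F274446)) (tt N109194 (iv2 F465736)) (tt N112315 D215561) (tt N47399 (iv4 D175311)) (tt N78008 F332264) (tt N75745 (iv6 F403166)) (tt N109223 (iv7 F465846)))
theorem Q81327 : ∀ i, i < 81327 → P i := stepQ 81326 Q81326 (allL N81326 (tt N73694 F403145) (tt N108746 F463791) (tt N79066 F365766) (tt N94091 (iv3 F403163)) (tt N75745 F403164) (tt N95832 (iv5 F409856)) (tt N47399 (iv6 D175313)) (tt N95831 (iv7 F409851)))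
theorem Q81328 : ∀ i, i < 81328 → P i := stepQ 81327 Q81327 (allL N81327 (tt N47996 F274364) (tt N48012 (iv0 F274455)) (tt N109223 F465844) (tt N109671 (iv3 F468035)) (tt N47400 (iv4 D175314)) (tt N78009 (iv5 F332250)) (tt N109669 F468027) (tt N109194 F465742))
theorem Q81329 : ∀ i, i < 81329 → P i := stepQ 81328 Q81328 (allL N81328 (tt N95833 (iv1 F409860)) (tt N63549 (iv0 F334554)) (tt N60106 (iv2 F353494)) (tt N47505 F274365) (tt N109669 (iv4 F468025)) (tt N58068 F353495) (tt N47400 (iv6 D175315)) (tt N59991 F353497))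
theorem Q81330 : ∀ i, i < 81330 → P i := stepQ 81329 Q81329 (allL N81329 (tt N47401 (iv1 D175317)) (tt N47410 F274367) (tt N59270 (iv2 F315806)) (tt N96302 (iv3 F411922)) (tt N82069 F278251) (tt N69814 (iv5 F332247)) (tt N97093 (iv6 F415457)) (tt N82076 (iv7 F278428)))
theorem Q81331 : ∀ i, i < 81331 → P i := stepQ 81330 Q81330 (allL N81330 (tt N47402 (iv1 D175322)) (tt N101029 F431362) (tt N111760 (iv2 F477828)) (tt N47508 F341976) (tt N103816 F442942) (tt N50287 (iv5 F362053)) (tt N102703 (iv6 F438269)) (tt N51289 F362052))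
theorem Q81332 : ∀ i, i < 81332 → P i := stepQ 81331 Q81331 (allL N81331 (tt N111760 (iv1 F477833)) (tt N51289 (iv0 F363209)) (tt N101029 (iv2 F431357)) (tt N74988 (iv3 F363207)) (tt N101021 (iv4 F431311)) (tt N103821 (iv5 F442954)) (tt N74987 F363208) (tt N47402 (iv7 D175324)))
theorem Q81333 : ∀ i, i < 81333 → P i := stepQ 81332 Q81332 (allL N81332 (tt N63696 (iv1 F315324)) (tt N67951 (iv0 F315283)) (tt N47405 F274379) (tt N67998 (iv3 F315292)) (tt N47404 (iv4 D175332)) (tt N67933 F330294) (tt N81337 (iv6 F348583)) (tt N67966 (iv7 F315328)))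
theorem Q81334 : ∀ i, i < 81334 → P i := stepQ 81333 Q81333 (allL N81333 (tt N82375 (iv1 F348587)) (tt N75612 (iv0 F348584)) (tt N47407 F274384) (tt N79480 F330137) (tt N81337 F348582) (tt N91512 (iv5 F393432)) (tt N47404 (iv6 D175334)) (tt N81334 (iv7 F348581)))
theorem Q81335 : ∀ i, i < 81335 → P i := stepQ 81334 Q81334 (allL N81334 (tt N81202 F348555) (tt N48284 F335281) (tt N81337 (iv2 F335283)) (tt N67996 (iv3 F310692)) (tt N47407 F274386) (tt N91304 (iv5 F392635)) (tt N47405 (iv6 D175336)) (tt N81333 F348581))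
theorem Q81336 : ∀ i, i < 81336 → P i := stepQ 81335 Q81335 (allL N81335 (tt N47406 (iv1 D175338)) (tt N70100 (iv0 F334164)) (tt N63245 F334150) (tt N47496 F334151) (tt N69974 F334152) (tt N61097 F334153) (tt N61100 F334154) (tt N70086 F334155))
theorem Q81337 : ∀ i, i < 81337 → P i := stepQ 81336 Q81336 (allL N81336 (tt N58892 (iv1 F344918)) (tt N80700 F343035) (tt N91512 (iv2 F393428)) (tt N47413 F274388) (tt N54948 (iv4 F343027)) (tt N47407 (iv5 D175343)) (tt N58860 (iv6 F348549)) (tt N91524 (iv7 F393477)))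
theorem Q81338 : ∀ i, i < 81338 → P i := stepQ 81337 Q81337 (allL N81337 (tt N75612 F348585) (tt N82375 F348586) (tt N81334 F335283) (tt N47414 F274389) (tt N81333 (iv4 F348582)) (tt N91524 (iv5 F393478)) (tt N81332 F348583) (tt N47407 (iv7 D175344)))
theorem Q81339 : ∀ i, i < 81339 → P i := stepQ 81338 Q81338 (allL N81338 (tt N47999 F274390) (tt N47997 F274391) (tt N72188 F332226) (tt N77810 (iv3 F332225)) (tt N47408 (iv4 D175345)) (tt N48029 (iv5 F274392)) (tt N61937 F351417) (tt N77891 F332227))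
theorem Q81340 : ∀ i, i < 81340 → P i := stepQ 81339 Q81339 (allL N81339 (tt N72708 F351420) (tt N76842 (iv0 F274394)) (tt N62325 F351421) (tt N73150 (iv3 F351419)) (tt N61937 (iv4 F351414)) (tt N73601 F351418) (tt N47408 (iv6 D175346)) (tt N73178 F351422))
theorem Q81341 : ∀ i, i < 81341 → P i := stepQ 81340 Q81340 (allL N81340 (tt N103921 F443386) (tt N47409 (iv0 D175347)) (tt N82098 (iv2 F278513)) (tt N48213 (iv3 F278297)) (tt N82041 (iv4 F278301)) (tt N89194 (iv5 F385523)) (tt N92610 (iv6 F397644)) (tt N48229 F278298))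
theorem Q81342 : ∀ i, i < 81342 → P i := stepQ 81341 Q81341 (allL N81341 (tt N74987 F354813) (tt N47411 (iv0 D175351)) (tt N75192 F354844) (tt N47515 F354814) (tt N71975 F354815) (tt N75295 F354816) (tt N111127 (iv6 F474814)) (tt N75193 (iv7 F354843)))
theorem Q81343 : ∀ i, i < 81343 → P i := stepQ 81342 Q81342 (allL N81342 (tt N47411 (iv1 D175352)) (tt N74987 F354847) (tt N75193 (iv2 F354846)) (tt N109068 (iv3 F465196)) (tt N88527 (iv4 F383404)) (tt N68532 F354848) (tt N68533 (iv6 F354862)) (tt N75192 F354845))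
theorem Q81344 : ∀ i, i < 81344 → P i := stepQ 81343 Q81343 (allL N81343 (tt N79790 (iv1 F354864)) (tt N79788 (iv0 F354817)) (tt N75194 F354851) (tt N58860 F348550) (tt N111649 (iv4 F477301)) (tt N47411 (iv5 D175353)) (tt N47413 F274397) (tt N80280 F354804))
theorem Q81345 : ∀ i, i < 81345 → P i := stepQ 81344 Q81344 (allL N81344 (tt N75193 F354810) (tt N75192 F354812) (tt N74987 (iv2 F354808)) (tt N62507 F354807) (tt N73854 (iv4 F354809)) (tt N80280 (iv5 F354806)) (tt N101029 (iv6 F431359)) (tt N47411 (iv7 D175354)))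
theorem Q81346 : ∀ i, i < 81346 → P i := stepQ 81345 Q81345 (allL N81345 (tt N63375 (iv1 F274407)) (tt N63487 F274408) (tt N76879 F274405) (tt N91524 (iv3 F393475)) (tt N82015 (iv4 F360226)) (tt N47414 F274406) (tt N79778 (iv6 F354802)) (tt N47413 (iv7 D175357)))
theorem Q81347 : ∀ i, i < 81347 → P i := stepQ 81346 Q81346 (allL N81346 (tt N47416 (iv1 D175365)) (tt N47420 F274412) (tt N59248 (iv2 F332233)) (tt N64685 (iv3 F336364)) (tt N63534 (iv4 F274413)) (tt N59247 F332240) (tt N84115 (iv6 F368159)) (tt N77321 (iv7 F336357)))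
theorem Q81348 : ∀ i, i < 81348 → P i := stepQ 81347 Q81347 (allL N81347 (tt N84234 (iv1 F368629)) (tt N84224 (iv0 F368583)) (tt N78703 F359669) (tt N47416 (iv3 D175366)) (tt N63709 (iv4 F345985)) (tt N105132 (iv5 F448933)) (tt N71801 (iv6 F359668)) (tt N78705 F359670))
theorem Q81349 : ∀ i, i < 81349 → P i := stepQ 81348 Q81348 (allL N81348 (tt N81277 F274423) (tt N77578 (iv0 F274424)) (tt N100282 (iv2 F428248)) (tt N66726 F364597) (tt N107142 (iv4 F457176)) (tt N100376 (iv5 F428669)) (tt N47417 (iv6 D175370)) (tt N100281 (iv7 F428242)))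
theorem Q81350 : ∀ i, i < 81350 → P i := stepQ 81349 Q81349 (allL N81349 (tt N47418 (iv1 D175372)) (tt N94576 F405029) (tt N94062 (iv2 F403025)) (tt N47527 F365407) (tt N109718 (iv4 F468267)) (tt N94078 (iv5 F403103)) (tt N94933 F406399) (tt N94575 (iv7 F405024)))
theorem Q81351 : ∀ i, i < 81351 → P i := stepQ 81350 Q81350 (allL N81350 (tt N68056 F403151) (tt N94053 F403001) (tt N94052 F402997) (tt N65323 (iv3 F355520)) (tt N107158 (iv4 F457241)) (tt N47418 (iv5 D175373)) (tt N100376 F428670) (tt N82151 F355519))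
theorem Q81352 : ∀ i, i < 81352 → P i := stepQ 81351 Q81351 (allL N81351 (tt N94062 (iv1 F403029)) (tt N94575 (iv0 F405026)) (tt N94576 F405028) (tt N82152 F355161) (tt N64466 F334547) (tt N82151 (iv5 F355517)) (tt N64465 (iv6 F334546)) (tt N47418 (iv7 D175374)))
theorem Q81353 : ∀ i, i < 81353 → P i := stepQ 81352 Q81352 (allL N81352 (tt N64662 F332278) (tt N63695 F332279) (tt N48418 F332280) (tt N54119 F332281) (tt N48408 F332282) (tt N47422 (iv5 D175386)) (tt N100306 (iv6 F428354)) (tt N48421 F332283))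
theorem Q81354 : ∀ i, i < 81354 → P i := stepQ 81353 Q81353 (allL N81353 (tt N99950 F426925) (tt N84481 (iv0 F369471)) (tt N84402 (iv2 F369171)) (tt N47423 (iv3 D175389)) (tt N75156 (iv4 F336909)) (tt N94207 (iv5 F403706)) (tt N82242 (iv6 F363162)) (tt N75588 F342232))
theorem Q81355 : ∀ i, i < 81355 → P i := stepQ 81354 Q81354 (allL N81354 (tt N94577 (iv1 F405034)) (tt N109718 (iv0 F468270)) (tt N110927 (iv2 F473824)) (tt N82242 F363163) (tt N82140 (iv4 F363164)) (tt N105120 (iv5 F448889)) (tt N47423 (iv6 D175392)) (tt N109693 (iv7 F468141)))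
theorem Q81356 : ∀ i, i < 81356 → P i := stepQ 81355 Q81355 (allL N81355 (tt N48030 (iv1 F274445)) (tt N47426 (iv0 D175403)) (tt N77962 F349785) (tt N109139 (iv3 F465521)) (tt N48017 (iv4 F274444)) (tt N47996 F274443) (tt N98798 (iv6 F422366)) (tt N77959 (iv7 F349784)))
theorem Q81357 : ∀ i, i < 81357 → P i := stepQ 81356 Q81356 (allL N81356 (tt N47426 (iv1 D175404)) (tt N48030 F274447) (tt N77959 (iv2 F349782)) (tt N59224 (iv3 F361302)) (tt N48003 (iv4 F274449)) (tt N48012 F274448) (tt N112316 D215562) (tt N77962 (iv7 F349786)))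
theorem Q81358 : ∀ i, i < 81358 → P i := stepQ 81357 Q81357 (allL N81357 (tt N97091 F415448) (tt N84365 (iv0 F408974)) (tt N109265 (iv2 F466070)) (tt N101100 (iv3 F431672)) (tt N47428 F274460) (tt N112317 D215563) (tt N47427 (iv6 D175408)) (tt N88523 (iv7 F383393)))
theorem Q81359 : ∀ i, i < 81359 → P i := stepQ 81358 Q81358 (allL N81358 (tt N54288 (iv1 F310375)) (tt N47457 (iv0 F310374)) (tt N54045 F308581) (tt N64728 (iv3 F274481)) (tt N47431 (iv4 D175415)) (tt N53273 F308582) (tt N53371 F308583) (tt N49565 (iv7 F310377)))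
theorem Q81360 : ∀ i, i < 81360 → P i := stepQ 81359 Q81359 (allL N81359 (tt N89723 (iv1 F387315)) (tt N89746 (iv0 F387401)) (tt N79396 F274488) (tt N94432 (iv3 F404457)) (tt N47432 (iv4 D175420)) (tt N94431 F404455) (tt N52832 F274489) (tt N103427 (iv7 F441583)))
theorem Q81361 : ∀ i, i < 81361 → P i := stepQ 81360 Q81360 (allL N81360 (tt N48236 F307156) (tt N54132 (iv0 F348715)) (tt N75860 F307157) (tt N52389 (iv3 F299902)) (tt N47433 (iv4 D175424)) (tt N74439 F307158) (tt N64726 F307159) (tt N82557 (iv7 F282517)))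
theorem Q81362 : ∀ i, i < 81362 → P i := stepQ 81361 Q81361 (allL N81361 (tt N67173 F352478) (tt N67272 (iv0 F354792)) (tt N67274 F355050) (tt N112318 D215564) (tt N47434 (iv4 D175429)) (tt N65615 F332711) (tt N65422 (iv6 F355052)) (tt N67275 (iv7 F355049)))
theorem Q81363 : ∀ i, i < 81363 → P i := stepQ 81362 Q81362 (allL N81362 (tt N67272 F352567) (tt N67173 F352566) (tt N67275 (iv2 F355051)) (tt N105171 (iv3 F449097)) (tt N47435 (iv4 D175432)) (tt N65614 (iv5 F352565)) (tt N104780 (iv6 F447232)) (tt N67274 (iv7 F355046)))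
theorem Q81364 : ∀ i, i < 81364 → P i := stepQ 81363 Q81363 (allL N81363 (tt N80116 F323502) (tt N80115 F323503) (tt N47901 F323504) (tt N80113 F323505) (tt N54269 (iv4 F361239)) (tt N79270 (iv5 F334608)) (tt N47440 (iv6 D175446)) (tt N52841 F274633))
theorem Q81365 : ∀ i, i < 81365 → P i := stepQ 81364 Q81364 (allL N81364 (tt N109298 F466262) (tt N100024 (iv0 F427254)) (tt N109299 F466267) (tt N109304 (iv3 F466294)) (tt N69201 (iv4 F364316)) (tt N103013 (iv5 F439669)) (tt N47441 (iv6 D175450)) (tt N109301 (iv7 F466279)))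
theorem Q81366 : ∀ i, i < 81366 → P i := stepQ 81365 Q81365 (allL N81365 (tt N99567 F425207) (tt N77575 (iv0 F355212)) (tt N76546 (iv2 F355213)) (tt N47444 F274706) (tt N103096 (iv4 F440048)) (tt N47443 (iv5 D175455)) (tt N99848 (iv6 F426510)) (tt N108260 (iv7 F461748)))
theorem Q81367 : ∀ i, i < 81367 → P i := stepQ 81366 Q81366 (allL N81366 (tt N54298 F348529) (tt N63707 F348537) (tt N63712 (iv2 F348539)) (tt N47446 (iv3 D175462)) (tt N103100 (iv4 F440071)) (tt N76772 (iv5 F348541)) (tt N73712 (iv6 F348536)) (tt N63711 F348538))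
theorem Q81368 : ∀ i, i < 81368 → P i := stepQ 81367 Q81367 (allL N81367 (tt N54263 F349703) (tt N83298 F349704) (tt N53326 F274737) (tt N85974 F374690) (tt N85976 (iv4 F374696)) (tt N47449 (iv5 D175477)) (tt N49382 F274738) (tt N94147 (iv7 F403425)))
theorem Q81369 : ∀ i, i < 81369 → P i := stepQ 81368 Q81368 (allL N81368 (tt N77158 F348247) (tt N76489 F361526) (tt N77308 F361525) (tt N64628 F361528) (tt N100756 (iv4 F430312)) (tt N47450 (iv5 D175482)) (tt N109667 (iv6 F468017)) (tt N77384 F361524))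
theorem Q81370 : ∀ i, i < 81370 → P i := stepQ 81369 Q81369 (allL N81369 (tt N77141 (iv1 F348240)) (tt N75891 (iv0 F348237)) (tt N101749 (iv2 F434166)) (tt N47451 (iv3 D175485)) (tt N77452 F348239) (tt N54822 F348236) (tt N105004 (iv6 F448324)) (tt N77307 (iv7 F361521)))
theorem Q81371 : ∀ i, i < 81371 → P i := stepQ 81370 Q81370 (allL N81370 (tt N63079 F348238) (tt N64925 (iv0 F348241)) (tt N65086 (iv2 F348243)) (tt N101012 (iv3 F431263)) (tt N47451 (iv4 D175486)) (tt N55805 F348242) (tt N64892 F348226) (tt N64517 F348250))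
theorem Q81372 : ∀ i, i < 81372 → P i := stepQ 81371 Q81371 (allL N81371 (tt N76489 F348227) (tt N77158 F348230) (tt N77384 (iv2 F361523)) (tt N54822 (iv3 F348228)) (tt N54824 F348235) (tt N47451 (iv5 D175487)) (tt N112319 D215565) (tt N77308 (iv7 F348249)))
theorem Q81373 : ∀ i, i < 81373 → P i := stepQ 81372 Q81372 (allL N81372 (tt N77155 (iv1 F310355)) (tt N47452 (iv0 D175489)) (tt N77385 (iv2 F382953)) (tt N112320 D215566) (tt N112321 D215567) (tt N104258 F444985) (tt N88399 F444986) (tt N77386 (iv7 F382955)))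
theorem Q81374 : ∀ i, i < 81374 → P i := stepQ 81373 Q81373 (allL N81373 (tt N47452 (iv1 D175490)) (tt N77155 (iv0 F310354)) (tt N77386 F382954) (tt N112322 D215568) (tt N54625 (iv4 F382951)) (tt N109067 (iv5 F465189)) (tt N112323 D215569) (tt N77385 F382952))
theorem Q81375 : ∀ i, i < 81375 → P i := stepQ 81374 Q81374 (allL N81374 (tt N77386 (iv1 F310351)) (tt N77385 (iv0 F310350)) (tt N77155 (iv2 F310356)) (tt N47461 F274747) (tt N100765 (iv4 F430361)) (tt N47453 F274748) (tt N107273 F457743) (tt N47452 (iv7 D175492)))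
theorem Q81376 : ∀ i, i < 81376 → P i := stepQ 81375 Q81375 (allL N81375 (tt N47454 (iv1 D175505)) (tt N47456 F274761) (tt N54428 (iv2 F274763)) (tt N76489 F338133) (tt N110351 (iv4 F471174)) (tt N76484 (iv5 F338065)) (tt N54609 F338092) (tt N54427 F274762))
theorem Q81377 : ∀ i, i < 81377 → P i := stepQ 81376 Q81376 (allL N81376 (tt N112324 D215570) (tt N112325 D215571) (tt N54429 (iv2 F274830)) (tt N71507 (iv3 F354888)) (tt N47454 (iv4 D175506)) (tt N71482 (iv5 F354880)) (tt N112326 D215572) (tt N54434 F274815))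
theorem Q81378 : ∀ i, i < 81378 → P i := stepQ 81377 Q81377 (allL N81377 (tt N77361 F368300) (tt N84214 (iv0 F368537)) (tt N54430 (iv2 F274831)) (tt N75895 F346075) (tt N112326 (iv4 F480570)) (tt N49654 F274765) (tt N47454 (iv6 D175507)) (tt N99927 (iv7 F426855)))
theorem Q81379 : ∀ i, i < 81379 → P i := stepQ 81378 Q81378 (allL N81378 (tt N47455 (iv1 D175514)) (tt N53859 (iv0 F312000)) (tt N53861 F348278) (tt N64627 (iv3 F348277)) (tt N79459 F348279) (tt N112327 D215573) (tt N53373 (iv6 F351874)) (tt N49551 F348280))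
theorem Q81380 : ∀ i, i < 81380 → P i := stepQ 81379 Q81379 (allL N81379 (tt N64885 (iv1 F390226)) (tt N89931 (iv0 F388033)) (tt N75906 (iv2 F366711)) (tt N47456 F274846) (tt N54601 (iv4 F366712)) (tt N47455 (iv5 D175517)) (tt N112328 D215574) (tt N54425 F274847))
theorem Q81381 : ∀ i, i < 81381 → P i := stepQ 81380 Q81380 (allL N81380 (tt N112325 (iv1 F480561)) (tt N112324 F480557) (tt N54434 F274849) (tt N87690 F385827) (tt N47456 (iv4 D175519)) (tt N71475 F354881) (tt N71477 (iv6 F354885)) (tt N54429 F274850))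
theorem Q81382 : ∀ i, i < 81382 → P i := stepQ 81381 Q81381 (allL N81381 (tt N112329 D215575) (tt N54056 (iv0 F274852)) (tt N54435 F274851) (tt N112328 (iv3 F480581)) (tt N71477 F354886) (tt N90117 (iv5 F388590)) (tt N47456 (iv6 D175520)) (tt N112330 D215576))
theorem Q81383 : ∀ i, i < 81383 → P i := stepQ 81382 Q81382 (allL N81382 (tt N71519 (iv1 F365482)) (tt N53981 (iv0 F338057)) (tt N101751 F434175) (tt N47458 (iv3 D175524)) (tt N75882 (iv4 F338054)) (tt N75923 F338055) (tt N99214 (iv6 F423713)) (tt N54440 (iv7 F338130)))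
theorem Q81384 : ∀ i, i < 81384 → P i := stepQ 81383 Q81383 (allL N81383 (tt N88615 (iv1 F383595)) (tt N83921 F367504) (tt N54438 F338126) (tt N112331 D215577) (tt N47458 (iv4 D175525)) (tt N84963 F371190) (tt N112332 D215578) (tt N54441 (iv7 F338128)))
theorem Q81385 : ∀ i, i < 81385 → P i := stepQ 81384 Q81384 (allL N81384 (tt N53950 F274900) (tt N53244 F274866) (tt N53949 F338109) (tt N75923 (iv3 F338056)) (tt N89459 (iv4 F386573)) (tt N47458 (iv5 D175526)) (tt N54037 F274867) (tt N53935 (iv7 F338073)))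
theorem Q81386 : ∀ i, i < 81386 → P i := stepQ 81385 Q81385 (allL N81385 (tt N112333 D215579) (tt N112334 D215580) (tt N54439 F338127) (tt N99214 F423715) (tt N112332 (iv4 F480607)) (tt N52172 F274868) (tt N47458 (iv6 D175527)) (tt N112335 D215581))
theorem Q81387 : ∀ i, i < 81387 → P i := stepQ 81386 Q81386 (allL N81386 (tt N53860 F368399) (tt N112327 (iv0 F480578)) (tt N112336 D215582) (tt N47459 (iv3 D175529)) (tt N112337 D215583) (tt N84161 F368398) (tt N112338 D215584) (tt N54437 F338124))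
theorem Q81388 : ∀ i, i < 81388 → P i := stepQ 81387 Q81387 (allL N81387 (tt N83921 (iv1 F367503)) (tt N88615 F383594) (tt N54441 (iv2 F338129)) (tt N54439 F368368) (tt N47459 (iv4 D175530)) (tt N98576 (iv5 F421414)) (tt N54437 (iv6 F368369)) (tt N54438 F338125))
theorem Q81389 : ∀ i, i < 81389 → P i := stepQ 81388 Q81388 (allL N81388 (tt N77426 F368371) (tt N83075 (iv0 F387062)) (tt N54442 (iv2 F338131)) (tt N112338 (iv3 F480640)) (tt N54437 F368370) (tt N84163 (iv5 F368400)) (tt N47459 (iv6 D175531)) (tt N112337 (iv7 F480636)))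
theorem Q81390 : ∀ i, i < 81390 → P i := stepQ 81389 Q81389 (allL N81389 (tt N54424 (iv1 F274875)) (tt N47460 (iv0 D175532)) (tt N54443 (iv2 F338096)) (tt N83031 (iv3 F364216)) (tt N52930 F274877) (tt N85042 (iv5 F371449)) (tt N112339 D215585) (tt N54444 F338095))
theorem Q81391 : ∀ i, i < 81391 → P i := stepQ 81390 Q81390 (allL N81390 (tt N47460 (iv1 D175533)) (tt N54424 F274870) (tt N54444 F338089) (tt N112340 D215586) (tt N47861 F312936) (tt N98577 (iv5 F421423)) (tt N77425 (iv6 F421425)) (tt N54443 (iv7 F338094)))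
theorem Q81392 : ∀ i, i < 81392 → P i := stepQ 81391 Q81391 (allL N81391 (tt N112341 D215587) (tt N109142 (iv0 F465540)) (tt N54446 F274872) (tt N72070 (iv3 F354898)) (tt N55754 (iv4 F354894)) (tt N47460 (iv5 D175535)) (tt N112342 D215588) (tt N60963 F354897))
theorem Q81393 : ∀ i, i < 81393 → P i := stepQ 81392 Q81392 (allL N81392 (tt N54444 (iv1 F274876)) (tt N54443 F274878) (tt N54424 F274873) (tt N110239 (iv3 F470577)) (tt N47461 F274874) (tt N60963 (iv5 F357753)) (tt N112343 D215589) (tt N47460 (iv7 D175536)))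
theorem Q81394 : ∀ i, i < 81394 → P i := stepQ 81393 Q81393 (allL N81393 (tt N54585 (iv1 F274882)) (tt N54584 F274883) (tt N54423 F274879) (tt N107273 (iv3 F457744)) (tt N112343 (iv4 F480666)) (tt N53395 F274880) (tt N47461 (iv6 D175537)) (tt N52740 F274881))
theorem Q81395 : ∀ i, i < 81395 → P i := stepQ 81394 Q81394 (allL N81394 (tt N47861 F312935) (tt N52930 F274901) (tt N52932 F274896) (tt N109498 (iv3 F467278)) (tt N90618 (iv4 F390292)) (tt N47462 (iv5 D175565)) (tt N112344 D215590) (tt N49461 F274897))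
theorem Q81396 : ∀ i, i < 81396 → P i := stepQ 81395 Q81395 (allL N81395 (tt N47463 (iv1 D175571)) (tt N47466 F274904) (tt N89468 (iv2 F386599)) (tt N105736 (iv3 F451473)) (tt N90607 (iv4 F390245)) (tt N89011 (iv5 F384807)) (tt N54827 F384814) (tt N89010 F384803))
theorem Q81397 : ∀ i, i < 81397 → P i := stepQ 81396 Q81396 (allL N81396 (tt N77389 F384811) (tt N110351 (iv0 F471177)) (tt N101085 (iv2 F431603)) (tt N83023 F332669) (tt N47463 (iv4 D175572)) (tt N112341 (iv5 F480651)) (tt N110374 F471296) (tt N112111 (iv7 F479533)))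
theorem Q81398 : ∀ i, i < 81398 → P i := stepQ 81397 Q81397 (allL N81397 (tt N84369 F369060) (tt N84366 (iv0 F386447)) (tt N100970 (iv2 F431108)) (tt N109763 (iv3 F468501)) (tt N110374 (iv4 F471294)) (tt N89422 (iv5 F386445)) (tt N47463 (iv6 D175573)) (tt N112345 D215591))
theorem Q81399 : ∀ i, i < 81399 → P i := stepQ 81398 Q81398 (allL N81398 (tt N67099 F339214) (tt N76132 (iv0 F336051)) (tt N76130 F361992) (tt N57337 (iv3 F339215)) (tt N55823 F334804) (tt N57336 (iv5 F331957)) (tt N47464 (iv6 D175579)) (tt N76131 (iv7 F345566)))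
theorem Q81400 : ∀ i, i < 81400 → P i := stepQ 81399 Q81399 (allL N81399 (tt N110351 (iv1 F471178)) (tt N77389 (iv0 F366670)) (tt N112111 (iv2 F479530)) (tt N112346 D215592) (tt N47466 (iv4 D175625)) (tt N109142 F465542) (tt N112347 D215593) (tt N101085 (iv7 F431604)))
theorem Q81401 : ∀ i, i < 81401 → P i := stepQ 81400 Q81400 (allL N81400 (tt N106585 F454954) (tt N53799 (iv0 F274941)) (tt N112112 (iv2 F479537)) (tt N47856 F315066) (tt N112347 (iv4 F480683)) (tt N89727 (iv5 F387334)) (tt N47466 (iv6 D175626)) (tt N112348 D215594))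
theorem Q81402 : ∀ i, i < 81402 → P i := stepQ 81401 Q81401 (allL N81401 (tt N70440 F353311) (tt N105318 (iv0 F449688)) (tt N105319 F449693) (tt N109044 (iv3 F465075)) (tt N112341 (iv4 F480652)) (tt N47467 (iv5 D175630)) (tt N112349 D215595) (tt N84930 F371118))
theorem Q81403 : ∀ i, i < 81403 → P i := stepQ 81402 Q81402 (allL N81402 (tt N89746 (iv1 F387402)) (tt N89723 (iv0 F387314)) (tt N103427 (iv2 F441580)) (tt N58321 F358643) (tt N47469 (iv4 D175636)) (tt N93394 (iv5 F400633)) (tt N80114 F358802) (tt N79396 (iv7 F358800)))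
theorem Q81404 : ∀ i, i < 81404 → P i := stepQ 81403 Q81403 (allL N81403 (tt N47474 (iv1 F274968)) (tt N47471 (iv0 D175644)) (tt N84769 F370555) (tt N79931 F347646) (tt N80715 F274967) (tt N105318 (iv5 F449686)) (tt N79929 (iv6 F347629)) (tt N80714 (iv7 F274969)))
theorem Q81405 : ∀ i, i < 81405 → P i := stepQ 81404 Q81404 (allL N81404 (tt N47471 (iv1 D175645)) (tt N47474 F274970) (tt N80714 (iv2 F274971)) (tt N70441 (iv3 F339584)) (tt N52798 (iv4 F274972)) (tt N70440 F339586) (tt N47524 F274973) (tt N84769 (iv7 F370550)))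
theorem Q81406 : ∀ i, i < 81406 → P i := stepQ 81405 Q81405 (allL N81405 (tt N85986 (iv1 F374749)) (tt N85985 F374756) (tt N85987 (iv2 F374753)) (tt N92659 F397796) (tt N98577 (iv4 F421424)) (tt N47471 (iv5 D175647)) (tt N85982 (iv6 F374740)) (tt N50198 F366115))
theorem Q81407 : ∀ i, i < 81407 → P i := stepQ 81406 Q81406 (allL N81406 (tt N53580 (iv1 F274978)) (tt N53188 (iv0 F275005)) (tt N53578 F274979) (tt N110428 (iv3 F471534)) (tt N47472 (iv4 D175649)) (tt N52930 F274977) (tt N53743 F274975) (tt N53542 F274976))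
theorem Q81408 : ∀ i, i < 81408 → P i := stepQ 81407 Q81407 (allL N81407 (tt N47478 (iv1 D175675)) (tt N60953 (iv0 F349058)) (tt N84196 (iv2 F368483)) (tt N61717 F357772) (tt N83838 F336807) (tt N85023 (iv5 F371393)) (tt N78996 (iv6 F336808)) (tt N98545 (iv7 F421272)))
theorem Q81409 : ∀ i, i < 81409 → P i := stepQ 81408 Q81408 (allL N81408 (tt N84196 (iv1 F368487)) (tt N98545 (iv0 F421275)) (tt N60953 (iv2 F339588)) (tt N47480 F275056) (tt N88519 (iv4 F383374)) (tt N60951 F357754) (tt N98477 F421058) (tt N47478 (iv7 D175678)))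
theorem Q81410 : ∀ i, i < 81410 → P i := stepQ 81409 Q81409 (allL N81409 (tt N47479 (iv1 D175680)) (tt N55754 (iv0 F354878)) (tt N60962 (iv2 F354889)) (tt N78611 (iv3 F354876)) (tt N71482 F354877) (tt N55820 F334806) (tt N86127 F375180) (tt N60845 (iv7 F354879)))
theorem Q81411 : ∀ i, i < 81411 → P i := stepQ 81410 Q81410 (allL N81410 (tt N109142 F465541) (tt N112341 F480654) (tt N60963 (iv2 F357752)) (tt N92151 F396003) (tt N47479 (iv4 D175681)) (tt N54424 F275057) (tt N104759 (iv6 F447141)) (tt N54446 (iv7 F275058)))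
theorem Q81412 : ∀ i, i < 81412 → P i := stepQ 81411 Q81411 (allL N81411 (tt N60962 (iv1 F354896)) (tt N60845 F354895) (tt N55754 F354892) (tt N60951 (iv3 F354893)) (tt N54446 F275060) (tt N47480 F275061) (tt N55406 F355336) (tt N47479 (iv7 D175683)))
theorem Q81413 : ∀ i, i < 81413 → P i := stepQ 81412 Q81412 (allL N81412 (tt N98471 (iv1 F421024)) (tt N98464 (iv0 F420990)) (tt N109423 (iv2 F466884)) (tt N98477 F421057) (tt N47481 F275062) (tt N111256 (iv5 F475472)) (tt N47480 (iv6 D175684)) (tt N47537 F275063))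
theorem Q81414 : ∀ i, i < 81414 → P i := stepQ 81413 Q81413 (allL N81413 (tt N111762 (iv1 F477845)) (tt N67117 (iv0 F354525)) (tt N54332 F275064) (tt N100405 (iv3 F428823)) (tt N71176 F354523) (tt N47481 (iv5 D175685)) (tt N47482 F275065) (tt N47540 F275066))
theorem Q81415 : ∀ i, i < 81415 → P i := stepQ 81414 Q81414 (allL N81414 (tt N54328 (iv1 F275071)) (tt N54327 F275070) (tt N54331 F275067) (tt N101655 F433718) (tt N47482 (iv4 D175686)) (tt N54419 F275069) (tt N71176 F354524) (tt N47489 F275068))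
theorem Q81416 : ∀ i, i < 81416 → P i := stepQ 81415 Q81415 (allL N81415 (tt N89047 (iv1 F384955)) (tt N54791 F275130) (tt N52941 F275086) (tt N101618 (iv3 F433578)) (tt N106886 (iv4 F456132)) (tt N47484 (iv5 D175696)) (tt N112350 D215596) (tt N52943 F275087))
theorem Q81417 : ∀ i, i < 81417 → P i := stepQ 81416 Q81416 (allL N81416 (tt N49467 (iv1 F275099)) (tt N53131 F275094) (tt N48199 F311720) (tt N101492 (iv3 F433125)) (tt N47486 F275089) (tt N52893 (iv5 F275091)) (tt N47484 (iv6 D175697)) (tt N53129 (iv7 F275090)))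
theorem Q81418 : ∀ i, i < 81418 → P i := stepQ 81417 Q81417 (allL N81417 (tt N47487 (iv1 F275103)) (tt N47485 (iv0 D175698)) (tt N54316 (iv2 F275104)) (tt N76735 (iv3 F362015)) (tt N70935 (iv4 F337652)) (tt N76734 (iv5 F304813)) (tt N97057 (iv6 F415252)) (tt N54317 (iv7 F275105)))
theorem Q81419 : ∀ i, i < 81419 → P i := stepQ 81418 Q81418 (allL N81418 (tt N47485 (iv1 D175699)) (tt N47487 F275106) (tt N54317 (iv2 F275109)) (tt N97060 (iv3 F415268)) (tt N70936 (iv4 F357401)) (tt N80297 (iv5 F304816)) (tt N71126 F346445) (tt N54316 F275107))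
theorem Q81420 : ∀ i, i < 81420 → P i := stepQ 81419 Q81419 (allL N81419 (tt N90519 (iv1 F389936)) (tt N90521 (iv0 F389942)) (tt N54318 F275110) (tt N96129 (iv3 F411182)) (tt N47485 (iv4 D175700)) (tt N112351 D215597) (tt N96127 F411176) (tt N54322 F275111))
theorem Q81421 : ∀ i, i < 81421 → P i := stepQ 81420 Q81420 (allL N81420 (tt N69398 F337536) (tt N66300 F337550) (tt N54319 F275112) (tt N66299 (iv3 F337538)) (tt N96127 (iv4 F411172)) (tt N60778 (iv5 F337537)) (tt N47485 (iv6 D175701)) (tt N71463 F337551))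
theorem Q81422 : ∀ i, i < 81422 → P i := stepQ 81421 Q81421 (allL N81421 (tt N90521 (iv1 F389943)) (tt N90519 (iv0 F389935)) (tt N54322 F275138) (tt N76151 F337656) (tt N47487 (iv4 D175711)) (tt N112352 D215598) (tt N76149 (iv6 F337657)) (tt N54318 F275139))
theorem Q81423 : ∀ i, i < 81423 → P i := stepQ 81422 Q81422 (allL N81422 (tt N90513 (iv1 F389904)) (tt N80707 F287000) (tt N54324 (iv2 F286995)) (tt N112353 D215599) (tt N47488 (iv4 D175716)) (tt N112354 D215600) (tt N106929 F456319) (tt N54326 (iv7 F286955)))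
theorem Q81424 : ∀ i, i < 81424 → P i := stepQ 81423 Q81423 (allL N81423 (tt N47802 F333807) (tt N47797 F333808) (tt N54325 (iv2 F286996)) (tt N93809 (iv3 F401997)) (tt N106929 (iv4 F456317)) (tt N81776 F333801) (tt N47488 (iv6 D175717)) (tt N111564 (iv7 F476944)))
theorem Q81425 : ∀ i, i < 81425 → P i := stepQ 81424 Q81424 (allL N81424 (tt N54331 (iv1 F275148)) (tt N47489 (iv0 D175722)) (tt N54327 F357418) (tt N71026 F357420) (tt N88465 (iv4 F383159)) (tt N96235 (iv5 F411638)) (tt N71025 F354529) (tt N54328 (iv7 F357421)))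
theorem Q81426 : ∀ i, i < 81426 → P i := stepQ 81425 Q81425 (allL N81425 (tt N47489 (iv1 D175723)) (tt N54331 F275149) (tt N54328 (iv2 F357422)) (tt N89213 (iv3 F385623)) (tt N84140 (iv4 F368286)) (tt N96236 (iv5 F411647)) (tt N90509 (iv6 F389888)) (tt N54327 F357423))
theorem Q81427 : ∀ i, i < 81427 → P i := stepQ 81426 Q81426 (allL N81426 (tt N90261 F389143) (tt N96244 (iv0 F411716)) (tt N72622 (iv2 F357155)) (tt N47489 (iv3 D175724)) (tt N90932 (iv4 F391296)) (tt N72459 F357156) (tt N47551 F275150) (tt N101655 (iv7 F433717)))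
theorem Q81428 : ∀ i, i < 81428 → P i := stepQ 81427 Q81427 (allL N81427 (tt N109704 (iv1 F468205)) (tt N88862 F384381) (tt N94156 F403469) (tt N88907 (iv3 F384501)) (tt N64854 F344853) (tt N47490 (iv5 D175734)) (tt N64853 (iv6 F344854)) (tt N106190 (iv7 F453539)))
theorem Q81429 : ∀ i, i < 81429 → P i := stepQ 81428 Q81428 (allL N81428 (tt N48389 F342675) (tt N47522 F342676) (tt N79242 F342677) (tt N109140 F465528) (tt N47491 (iv4 D175739)) (tt N82223 (iv5 F344781)) (tt N69205 (iv6 F344783)) (tt N79241 F342674))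
theorem Q81430 : ∀ i, i < 81430 → P i := stepQ 81429 Q81429 (allL N81429 (tt N84052 (iv1 F367940)) (tt N84051 F367939) (tt N84054 (iv2 F367949)) (tt N48212 F275194) (tt N106296 (iv4 F453924)) (tt N47494 (iv5 D175768)) (tt N94585 (iv6 F405066)) (tt N84042 (iv7 F367897)))
theorem Q81431 : ∀ i, i < 81431 → P i := stepQ 81430 Q81430 (allL N81430 (tt N84049 (iv1 F367923)) (tt N47495 (iv0 D175769)) (tt N90444 (iv2 F389662)) (tt N76108 (iv3 F275196)) (tt N106301 (iv4 F453945)) (tt N63925 (iv5 F303369)) (tt N101200 (iv6 F432161)) (tt N106234 (iv7 F453699)))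
theorem Q81432 : ∀ i, i < 81432 → P i := stepQ 81431 Q81431 (allL N81431 (tt N47495 (iv1 D175770)) (tt N84049 F367924) (tt N106234 (iv2 F453702)) (tt N84069 (iv3 F367987)) (tt N106363 (iv4 F454152)) (tt N63971 F366169) (tt N86328 (iv6 F375845)) (tt N90444 (iv7 F389664)))
theorem Q81433 : ∀ i, i < 81433 → P i := stepQ 81432 Q81432 (allL N81432 (tt N112355 D215601) (tt N112356 D215602) (tt N106235 (iv2 F453703)) (tt N63980 (iv3 F366893)) (tt N85580 (iv4 F373109)) (tt N101059 (iv5 F431491)) (tt N47495 (iv6 D175772)) (tt N105484 (iv7 F450433)))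
theorem Q81434 : ∀ i, i < 81434 → P i := stepQ 81433 Q81433 (allL N81433 (tt N63246 F344952) (tt N59463 (iv0 F344954)) (tt N63248 (iv2 F344803)) (tt N47497 (iv3 D175782)) (tt N59724 F344951) (tt N63212 (iv5 F344949)) (tt N109796 (iv6 F468652)) (tt N63211 F344950))
theorem Q81435 : ∀ i, i < 81435 → P i := stepQ 81434 Q81434 (allL N81434 (tt N63973 (iv1 F344942)) (tt N80342 F344944) (tt N70085 (iv2 F344792)) (tt N63212 F344947) (tt N57465 (iv4 F344948)) (tt N47497 (iv5 D175784)) (tt N69330 (iv6 F347445)) (tt N63210 F334742))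
theorem Q81436 : ∀ i, i < 81436 → P i := stepQ 81435 Q81435 (allL N81435 (tt N105684 (iv1 F451238)) (tt N47498 (iv0 D175786)) (tt N101837 (iv2 F434587)) (tt N103123 (iv3 F440179)) (tt N82075 F278426) (tt N71097 (iv5 F354222)) (tt N109005 F464872) (tt N105683 (iv7 F451232)))
theorem Q81437 : ∀ i, i < 81437 → P i := stepQ 81436 Q81436 (allL N81436 (tt N74339 (iv1 F332300)) (tt N74353 (iv0 F332296)) (tt N94091 F403161) (tt N47502 F275217) (tt N92854 (iv4 F398523)) (tt N73636 (iv5 F323290)) (tt N47500 (iv6 D175811)) (tt N75390 F346413))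
theorem Q81438 : ∀ i, i < 81438 → P i := stepQ 81437 Q81437 (allL N81437 (tt N61478 F353804) (tt N73586 F353805) (tt N79067 (iv2 F352415)) (tt N61488 F335161) (tt N47502 F275224) (tt N89854 (iv5 F387733)) (tt N47501 (iv6 D175814)) (tt N61607 F353831))
theorem Q81439 : ∀ i, i < 81439 → P i := stepQ 81438 Q81438 (allL N81438 (tt N98082 (iv1 F419384)) (tt N85778 (iv0 F373896)) (tt N97789 (iv2 F418311)) (tt N47506 (iv3 D175822)) (tt N102868 (iv4 F439017)) (tt N60804 (iv5 F355241)) (tt N98120 F419543) (tt N81506 (iv7 F275657)))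
theorem Q81440 : ∀ i, i < 81440 → P i := stepQ 81439 Q81439 (allL N81439 (tt N86222 F375437) (tt N85782 (iv0 F373915)) (tt N81507 (iv2 F275658)) (tt N98095 (iv3 F419442)) (tt N80341 (iv4 F301481)) (tt N112357 D215603) (tt N47507 (iv6 D175825)) (tt N98070 (iv7 F419342)))
theorem Q81441 : ∀ i, i < 81441 → P i := stepQ 81440 Q81440 (allL N81440 (tt N61472 (iv1 F353788)) (tt N61471 (iv0 F353783)) (tt N61474 (iv2 F353786)) (tt N102703 (iv3 F438268)) (tt N51290 F353784) (tt N102700 (iv5 F438255)) (tt N47508 (iv6 D175842)) (tt N61467 F353787))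
theorem Q81442 : ∀ i, i < 81442 → P i := stepQ 81441 Q81441 (allL N81441 (tt N99561 (iv1 F425170)) (tt N108295 (iv0 F461941)) (tt N98755 (iv2 F422168)) (tt N47514 F275292) (tt N66550 F359061) (tt N75558 (iv5 F359059)) (tt N47513 (iv6 D175930)) (tt N85788 (iv7 F373941)))
theorem Q81443 : ∀ i, i < 81443 → P i := stepQ 81442 Q81442 (allL N81442 (tt N47514 (iv1 D175932)) (tt N50077 F342084) (tt N74428 (iv2 F342085)) (tt N56193 (iv3 F364255)) (tt N59998 F342087) (tt N112358 D215604) (tt N56191 F364252) (tt N75233 F342079))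
theorem Q81444 : ∀ i, i < 81444 → P i := stepQ 81443 Q81443 (allL N81443 (tt N86692 (iv1 F376813)) (tt N56650 (iv0 F366230)) (tt N86693 (iv2 F376818)) (tt N75558 F359060) (tt N112359 D215605) (tt N47514 (iv5 D175933)) (tt N86689 (iv6 F376802)) (tt N85789 (iv7 F373946)))
theorem Q81445 : ∀ i, i < 81445 → P i := stepQ 81444 Q81444 (allL N81444 (tt N51288 (iv1 F353837)) (tt N47591 F353839) (tt N61586 (iv2 F334780)) (tt N71996 F353844) (tt N47515 (iv4 D175936)) (tt N86651 (iv5 F376664)) (tt N112360 D215606) (tt N61579 (iv7 F334785)))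
theorem Q81446 : ∀ i, i < 81446 → P i := stepQ 81445 Q81445 (allL N81445 (tt N76132 F353634) (tt N67099 F353635) (tt N76131 (iv2 F345565)) (tt N111127 (iv3 F474818)) (tt N112360 (iv4 F480736)) (tt N81455 F275318) (tt N47515 (iv6 D175938)) (tt N76130 F361994))
theorem Q81447 : ∀ i, i < 81447 → P i := stepQ 81446 Q81446 (allL N81446 (tt N59461 F353833) (tt N109853 (iv0 F468926)) (tt N109068 (iv2 F465195)) (tt N47516 (iv3 D175939)) (tt N61588 F342076) (tt N59528 F342074) (tt N61580 (iv6 F342075)) (tt N94090 (iv7 F403155)))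
theorem Q81448 : ∀ i, i < 81448 → P i := stepQ 81447 Q81447 (allL N81447 (tt N65575 (iv1 F342089)) (tt N59994 (iv0 F342088)) (tt N65574 (iv2 F343346)) (tt N48253 F323363) (tt N47517 (iv4 D175943)) (tt N97451 (iv5 F416952)) (tt N47519 F275294) (tt N65573 (iv7 F356085)))
theorem Q81449 : ∀ i, i < 81449 → P i := stepQ 81448 Q81448 (allL N81448 (tt N81489 F327862) (tt N81488 F327863) (tt N48145 F327864) (tt N47528 F275307) (tt N112361 D215607) (tt N47522 (iv5 D175969)) (tt N81485 (iv6 F353796)) (tt N79243 F327865))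
theorem Q81450 : ∀ i, i < 81450 → P i := stepQ 81449 Q81449 (allL N81449 (tt N61055 F347650) (tt N61059 F347665) (tt N81496 (iv2 F275560)) (tt N61068 (iv3 F347626)) (tt N80904 F275311) (tt N111234 (iv5 F475351)) (tt N47523 (iv6 D175972)) (tt N79929 F347628))
theorem Q81451 : ∀ i, i < 81451 → P i := stepQ 81450 Q81450 (allL N81450 (tt N61024 F326296) (tt N47525 (iv0 D175978)) (tt N54862 F326297) (tt N60991 F326298) (tt N82202 F350628) (tt N49340 F326299) (tt N49244 F326300) (tt N79897 F326301))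
theorem Q81452 : ∀ i, i < 81452 → P i := stepQ 81451 Q81451 (allL N81451 (tt N47525 (iv1 D175979)) (tt N61024 F355325) (tt N79897 F355321) (tt N79924 (iv3 F355309)) (tt N98302 (iv4 F420413)) (tt N54863 (iv5 F355323)) (tt N86228 (iv6 F375467)) (tt N54862 F355322))
theorem Q81453 : ∀ i, i < 81453 → P i := stepQ 81452 Q81452 (allL N81452 (tt N92993 (iv1 F416126)) (tt N109245 (iv0 F465967)) (tt N104214 (iv2 F444730)) (tt N68200 (iv3 F365940)) (tt N111084 (iv4 F474584)) (tt N47525 (iv5 D175980)) (tt N51592 (iv6 F365937)) (tt N60265 F365941))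
theorem Q81454 : ∀ i, i < 81454 → P i := stepQ 81453 Q81453 (allL N81453 (tt N60352 F345560) (tt N48091 F345561) (tt N60354 (iv2 F345562)) (tt N94078 (iv3 F403101)) (tt N92869 (iv4 F398589)) (tt N47527 (iv5 D175990)) (tt N65073 (iv6 F345559)) (tt N60353 (iv7 F355333)))
theorem Q81455 : ∀ i, i < 81455 → P i := stepQ 81454 Q81454 (allL N81454 (tt N47930 F345552) (tt N47935 F345553) (tt N47932 F335999) (tt N94933 F406398) (tt N109717 (iv4 F468262)) (tt N65074 F345554) (tt N47527 (iv6 D175991)) (tt N47931 F336000))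
theorem Q81456 : ∀ i, i < 81456 → P i := stepQ 81455 Q81455 (allL N81455 (tt N47528 (iv1 D175992)) (tt N48150 F327861) (tt N68052 (iv2 F345571)) (tt N94053 (iv3 F402999)) (tt N78225 F345583) (tt N81445 (iv5 F275318)) (tt N112295 (iv6 F480411)) (tt N82145 (iv7 F345584)))
theorem Q81457 : ∀ i, i < 81457 → P i := stepQ 81456 Q81456 (allL N81456 (tt N93379 F400590) (tt N109252 (iv0 F466005)) (tt N82146 (iv2 F341151)) (tt N67312 (iv3 F364904)) (tt N47528 (iv4 D175993)) (tt N112153 (iv5 F479778)) (tt N81110 F275319) (tt N108667 (iv7 F463458)))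
theorem Q81458 : ∀ i, i < 81458 → P i := stepQ 81457 Q81457 (allL N81457 (tt N68052 (iv1 F345570)) (tt N82145 F327867) (tt N48150 F327868) (tt N79243 F327869) (tt N108667 (iv4 F463459)) (tt N47529 F275320) (tt N64665 F345587) (tt N47528 (iv7 D175994)))
theorem Q81459 : ∀ i, i < 81459 → P i := stepQ 81458 Q81458 (allL N81458 (tt N61678 F349083) (tt N47531 (iv0 D176019)) (tt N79075 (iv2 F349078)) (tt N60979 (iv3 F349082)) (tt N63073 F349079) (tt N61685 F349080) (tt N63071 (iv6 F349088)) (tt N79905 F349081))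
theorem Q81460 : ∀ i, i < 81460 → P i := stepQ 81459 Q81459 (allL N81459 (tt N47531 (iv1 D176020)) (tt N61678 F349085) (tt N79905 F349014) (tt N64209 (iv3 F349074)) (tt N108294 (iv4 F461932)) (tt N61684 F335034) (tt N80486 (iv6 F361071)) (tt N79075 (iv7 F349077)))
theorem Q81461 : ∀ i, i < 81461 → P i := stepQ 81460 Q81460 (allL N81460 (tt N75263 F363614) (tt N63806 F363615) (tt N98770 (iv2 F422242)) (tt N47534 F275337) (tt N79131 (iv4 F363613)) (tt N87568 (iv5 F379771)) (tt N47533 (iv6 D176045)) (tt N61280 F335821))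
theorem Q81462 : ∀ i, i < 81462 → P i := stepQ 81461 Q81461 (allL N81461 (tt N58935 (iv1 F360150)) (tt N94014 F402825) (tt N86837 (iv2 F377382)) (tt N87568 F379772) (tt N112362 D215608) (tt N47534 (iv5 D176048)) (tt N84455 (iv6 F369361)) (tt N61282 F365894))
theorem Q81463 : ∀ i, i < 81463 → P i := stepQ 81462 Q81462 (allL N81462 (tt N98769 F422241) (tt N47535 (iv0 D176050)) (tt N80030 (iv2 F364184)) (tt N78934 F336872) (tt N64668 (iv4 F364196)) (tt N84971 F371216) (tt N84489 F369521) (tt N78939 (iv7 F364189)))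
theorem Q81464 : ∀ i, i < 81464 → P i := stepQ 81463 Q81463 (allL N81463 (tt N105088 F448737) (tt N94488 (iv0 F441423)) (tt N70347 F364848) (tt N67915 (iv3 F364847)) (tt N47536 (iv4 D176075)) (tt N107655 (iv5 F459104)) (tt N70661 F364849) (tt N70483 F364850))
theorem Q81465 : ∀ i, i < 81465 → P i := stepQ 81464 Q81464 (allL N81464 (tt N47537 (iv1 D176082)) (tt N109423 F466889) (tt N98471 (iv2 F421021)) (tt N98461 (iv3 F420974)) (tt N75360 F376352) (tt N86482 (iv5 F376347)) (tt N55783 (iv6 F376351)) (tt N98464 (iv7 F420988)))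
theorem Q81466 : ∀ i, i < 81466 → P i := stepQ 81465 Q81465 (allL N81465 (tt N61480 F371492) (tt N61477 F353803) (tt N100768 (iv2 F430374)) (tt N98269 (iv3 F420263)) (tt N112363 D215609) (tt N47537 (iv5 D176083)) (tt N84736 (iv6 F370422)) (tt N111256 (iv7 F475473)))
theorem Q81467 : ∀ i, i < 81467 → P i := stepQ 81466 Q81466 (allL N81466 (tt N109299 F466268) (tt N109301 F466280) (tt N100024 (iv2 F427250)) (tt N47538 (iv3 D176085)) (tt N101705 (iv4 F433969)) (tt N81146 (iv5 F434077)) (tt N101731 F434076) (tt N109298 (iv7 F466260)))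
theorem Q81468 : ∀ i, i < 81468 → P i := stepQ 81467 Q81467 (allL N81467 (tt N79929 (iv1 F347658)) (tt N81496 F347657) (tt N61055 F347653) (tt N79921 (iv3 F347681)) (tt N47538 (iv4 D176086)) (tt N61038 F347659) (tt N86226 (iv6 F375454)) (tt N61059 (iv7 F347662)))
theorem Q81469 : ∀ i, i < 81469 → P i := stepQ 81468 Q81468 (allL N81468 (tt N71465 (iv1 F364025)) (tt N98459 (iv0 F420967)) (tt N98462 F420979) (tt N81146 F434078) (tt N112364 D215610) (tt N47538 (iv5 D176087)) (tt N97058 (iv6 F415257)) (tt N98463 (iv7 F420982)))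
theorem Q81470 : ∀ i, i < 81470 → P i := stepQ 81469 Q81469 (allL N81469 (tt N47932 F334702) (tt N47931 F334703) (tt N47935 F334704) (tt N101731 (iv3 F434071)) (tt N86226 (iv4 F375452)) (tt N47922 F334705) (tt N47538 (iv6 D176088)) (tt N47930 F334706))
theorem Q81471 : ∀ i, i < 81471 → P i := stepQ 81470 Q81470 (allL N81470 (tt N81496 (iv1 F347630)) (tt N79929 (iv0 F335478)) (tt N61059 F347663) (tt N75556 (iv3 F361665)) (tt N47539 (iv4 D176091)) (tt N61039 (iv5 F352378)) (tt N75553 F347775) (tt N61055 F347655))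
theorem Q81472 : ∀ i, i < 81472 → P i := stepQ 81471 Q81471 (allL N81471 (tt N98459 F420969) (tt N71465 (iv0 F347644)) (tt N98463 (iv2 F420985)) (tt N47815 F347632) (tt N112365 D215611) (tt N47539 (iv5 D176092)) (tt N47809 F347633) (tt N98462 F420981))
theorem Q81473 : ∀ i, i < 81473 → P i := stepQ 81472 Q81472 (allL N81472 (tt N54332 (iv1 F275352)) (tt N47540 (iv0 D176094)) (tt N67117 F347645) (tt N103015 (iv3 F439677)) (tt N111846 (iv4 F478281)) (tt N61472 (iv5 F353789)) (tt N67113 (iv6 F347643)) (tt N111762 (iv7 F477843)))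
theorem Q81474 : ∀ i, i < 81474 → P i := stepQ 81473 Q81473 (allL N81473 (tt N47540 (iv1 D176095)) (tt N54332 F275353) (tt N111762 (iv2 F477841)) (tt N48141 F334750) (tt N106352 (iv4 F454104)) (tt N61471 (iv5 F353781)) (tt N48140 F334752) (tt N67117 F334753))
theorem Q81475 : ∀ i, i < 81475 → P i := stepQ 81474 Q81474 (allL N81474 (tt N76147 (iv1 F345590)) (tt N47541 (iv0 D176110)) (tt N88503 (iv2 F383303)) (tt N57343 (iv3 F345591)) (tt N96016 (iv4 F410646)) (tt N78615 F344756) (tt N101681 F433845) (tt N101198 (iv7 F432153)))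
theorem Q81476 : ∀ i, i < 81476 → P i := stepQ 81475 Q81475 (allL N81475 (tt N47541 (iv1 D176111)) (tt N76147 (iv0 F346542)) (tt N101198 F432151) (tt N112366 D215612) (tt N110938 (iv4 F473877)) (tt N78616 F346540) (tt N76153 (iv6 F346538)) (tt N88503 (iv7 F383305)))
theorem Q81477 : ∀ i, i < 81477 → P i := stepQ 81476 Q81476 (allL N81476 (tt N110186 (iv1 F470319)) (tt N55225 (iv0 F346768)) (tt N110076 F469865) (tt N110185 (iv3 F470314)) (tt N47541 (iv4 D176112)) (tt N112367 D215613) (tt N79454 F364933) (tt N101199 (iv7 F432157)))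
theorem Q81478 : ∀ i, i < 81478 → P i := stepQ 81477 Q81477 (allL N81477 (tt N100350 F428540) (tt N91331 (iv0 F392767)) (tt N100408 (iv2 F428840)) (tt N47542 (iv3 D176117)) (tt N112368 D215614) (tt N78569 F275367) (tt N112369 D215615) (tt N111440 (iv7 F476374)))
theorem Q81479 : ∀ i, i < 81479 → P i := stepQ 81478 Q81478 (allL N81478 (tt N47809 F345506) (tt N47804 F345507) (tt N47805 F339169) (tt N112369 (iv3 F480771)) (tt N53872 F339170) (tt N78571 F275372) (tt N47542 (iv6 D176119)) (tt N47806 F339171))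
theorem Q81480 : ∀ i, i < 81480 → P i := stepQ 81479 Q81479 (allL N81479 (tt N47544 (iv1 D176121)) (tt N47546 F275376) (tt N55364 (iv2 F328698)) (tt N53434 (iv3 F356748)) (tt N80380 (iv4 F300831)) (tt N53433 (iv5 F331217)) (tt N100267 (iv6 F428175)) (tt N53681 (iv7 F328703)))
theorem Q81481 : ∀ i, i < 81481 → P i := stepQ 81480 Q81480 (allL N81480 (tt N50220 F365660) (tt N54652 (iv0 F368974)) (tt N54653 F363852) (tt N47544 (iv3 D176122)) (tt N110185 (iv4 F470315)) (tt N53155 (iv5 F365762)) (tt N112370 D215616) (tt N54654 (iv7 F363856)))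
theorem Q81482 : ∀ i, i < 81482 → P i := stepQ 81481 Q81481 (allL N81481 (tt N52136 (iv1 F331226)) (tt N80940 F275379) (tt N82829 (iv2 F353213)) (tt N53155 F365761) (tt N47621 F275378) (tt N47544 (iv5 D176123)) (tt N53069 F353208) (tt N111441 (iv7 F476381)))
theorem Q81483 : ∀ i, i < 81483 → P i := stepQ 81482 Q81482 (allL N81482 (tt N97935 F418860) (tt N112164 (iv0 F479844)) (tt N106492 F454660) (tt N112370 (iv3 F480776)) (tt N47545 F275380) (tt N112371 D215617) (tt N47544 (iv6 D176124)) (tt N112372 D215618))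
theorem Q81484 : ∀ i, i < 81484 → P i := stepQ 81483 Q81483 (allL N81483 (tt N82229 (iv1 F344774)) (tt N47545 (iv0 D176125)) (tt N71472 (iv2 F337531)) (tt N81269 (iv3 F337521)) (tt N70930 (iv4 F337534)) (tt N67953 (iv5 F337526)) (tt N69398 F337530) (tt N80825 (iv7 F337519)))
theorem Q81485 : ∀ i, i < 81485 → P i := stepQ 81484 Q81484 (allL N81484 (tt N47545 (iv1 D176126)) (tt N82229 F344773) (tt N80825 F337516) (tt N100414 (iv3 F428863)) (tt N71474 F354162) (tt N64663 (iv5 F337515)) (tt N98459 (iv6 F420966)) (tt N71472 (iv7 F337533)))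
theorem Q81486 : ∀ i, i < 81486 → P i := stepQ 81485 Q81485 (allL N81485 (tt N80825 (iv1 F353791)) (tt N71472 F353793) (tt N82229 (iv2 F344772)) (tt N65140 (iv3 F353797)) (tt N112372 (iv4 F480779)) (tt N80343 F353795) (tt N81448 F353796) (tt N47545 (iv7 D176128)))
theorem Q81487 : ∀ i, i < 81487 → P i := stepQ 81486 Q81486 (allL N81486 (tt N80940 F275399) (tt N52136 F331232) (tt N111441 (iv2 F476378)) (tt N88987 (iv3 F384672)) (tt N47620 F275398) (tt N47546 (iv5 D176153)) (tt N91668 (iv6 F393959)) (tt N82829 F353216))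
theorem Q81488 : ∀ i, i < 81488 → P i := stepQ 81487 Q81487 (allL N81487 (tt N106161 (iv1 F453399)) (tt N106163 (iv0 F453402)) (tt N111439 (iv2 F476368)) (tt N65387 F313971) (tt N47547 F275400) (tt N106365 (iv5 F454160)) (tt N47546 (iv6 D176154)) (tt N82225 F313972))
theorem Q81489 : ∀ i, i < 81489 → P i := stepQ 81488 Q81488 (allL N81488 (tt N81448 (iv1 F327863)) (tt N47547 (iv0 D176155)) (tt N71122 (iv2 F346476)) (tt N57304 F346481) (tt N54506 F336419) (tt N82586 (iv5 F346479)) (tt N57303 (iv6 F346480)) (tt N71126 F346475))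
theorem Q81490 : ∀ i, i < 81490 → P i := stepQ 81489 Q81489 (allL N81489 (tt N47547 (iv1 D176156)) (tt N81448 (iv0 F327862)) (tt N71126 F346461) (tt N111805 (iv3 F478062)) (tt N54507 (iv4 F354509)) (tt N82587 (iv5 F344809)) (tt N54317 (iv6 F346474)) (tt N71122 F346457))
theorem Q81491 : ∀ i, i < 81491 → P i := stepQ 81490 Q81490 (allL N81490 (tt N112373 D215619) (tt N90400 (iv0 F389518)) (tt N108324 (iv2 F462062)) (tt N90896 (iv3 F391201)) (tt N47548 (iv4 D176162)) (tt N112374 D215620) (tt N112299 (iv6 F480432)) (tt N96157 F411277))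
theorem Q81492 : ∀ i, i < 81492 → P i := stepQ 81491 Q81491 (allL N81491 (tt N91749 F394298) (tt N98182 (iv0 F419886)) (tt N106861 (iv2 F456048)) (tt N90897 (iv3 F391204)) (tt N47550 F275409) (tt N108358 (iv5 F462235)) (tt N47549 (iv6 D176167)) (tt N106928 (iv7 F456313)))
theorem Q81493 : ∀ i, i < 81493 → P i := stepQ 81492 Q81492 (allL N81492 (tt N66555 (iv1 F349933)) (tt N47550 (iv0 D176168)) (tt N58785 (iv2 F349926)) (tt N97069 (iv3 F415309)) (tt N71776 (iv4 F349936)) (tt N48325 F344937) (tt N88498 (iv6 F383286)) (tt N71782 (iv7 F349932)))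
theorem Q81494 : ∀ i, i < 81494 → P i := stepQ 81493 Q81493 (allL N81493 (tt N71782 (iv1 F360710)) (tt N58785 F360709) (tt N66555 F349934) (tt N60642 F360711) (tt N106928 (iv4 F456312)) (tt N60056 (iv5 F360707)) (tt N66554 (iv6 F360708)) (tt N47550 (iv7 D176170)))
theorem Q81495 : ∀ i, i < 81495 → P i := stepQ 81494 Q81494 (allL N81494 (tt N49762 F331234) (tt N91681 (iv0 F394021)) (tt N72620 F356414) (tt N47552 F275415) (tt N83412 F356388) (tt N47551 (iv5 D176191)) (tt N72458 F345040) (tt N52764 (iv7 F356195)))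
theorem Q81496 : ∀ i, i < 81496 → P i := stepQ 81495 Q81495 (allL N81495 (tt N47622 (iv1 F275418)) (tt N47552 (iv0 D176192)) (tt N49742 (iv2 F335749)) (tt N54526 (iv3 F335750)) (tt N47609 F275417) (tt N47602 F275416) (tt N49539 F335748) (tt N54505 F335756))
theorem Q81497 : ∀ i, i < 81497 → P i := stepQ 81496 Q81496 (allL N81496 (tt N81467 (iv1 F347657)) (tt N81470 F347630) (tt N81449 F275560) (tt N75315 F347616) (tt N47558 F275561) (tt N112375 D215621) (tt N47557 (iv6 D176270)) (tt N75476 (iv7 F347627)))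
theorem Q81498 : ∀ i, i < 81498 → P i := stepQ 81497 Q81497 (allL N81497 (tt N75482 (iv1 F361690)) (tt N47558 (iv0 D176271)) (tt N75481 (iv2 F361688)) (tt N112376 D215622) (tt N98464 (iv4 F420989)) (tt N106730 (iv5 F455446)) (tt N112377 D215623) (tt N75360 (iv7 F361689)))
theorem Q81499 : ∀ i, i < 81499 → P i := stepQ 81498 Q81498 (allL N81498 (tt N47558 (iv1 D176272)) (tt N75482 F361683) (tt N75360 (iv2 F361685)) (tt N75595 (iv3 F361686)) (tt N98471 (iv4 F421025)) (tt N102685 (iv5 F438196)) (tt N75273 F361684) (tt N75481 F361687))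
theorem Q81500 : ∀ i, i < 81500 → P i := stepQ 81499 Q81499 (allL N81499 (tt N69974 F334143) (tt N70101 F346394) (tt N47563 F275626) (tt N73376 F334140) (tt N47561 (iv4 D176312)) (tt N70076 (iv5 F349369)) (tt N70069 (iv6 F334141)) (tt N73370 (iv7 F334142)))
theorem Q81501 : ∀ i, i < 81501 → P i := stepQ 81500 Q81500 (allL N81500 (tt N101036 (iv1 F431398)) (tt N101039 (iv0 F431412)) (tt N100806 (iv2 F430558)) (tt N47562 (iv3 D176321)) (tt N76545 (iv4 F337701)) (tt N89733 F387353) (tt N76543 F337700) (tt N105707 (iv7 F451351)))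
theorem Q81502 : ∀ i, i < 81502 → P i := stepQ 81501 Q81501 (allL N81501 (tt N73370 (iv1 F359673)) (tt N47563 (iv0 D176325)) (tt N69974 F346391) (tt N73321 (iv3 F346386)) (tt N63245 F346385) (tt N69969 F346387) (tt N73317 F346388) (tt N70101 F346389))
theorem Q81503 : ∀ i, i < 81503 → P i := stepQ 81502 Q81502 (allL N81502 (tt N47563 (iv1 D176326)) (tt N73370 (iv0 F346397)) (tt N70101 (iv2 F346390)) (tt N96296 (iv3 F411911)) (tt N70086 (iv4 F344804)) (tt N69976 (iv5 F346395)) (tt N82062 (iv6 F346398)) (tt N69974 (iv7 F346393)))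
theorem Q81504 : ∀ i, i < 81504 → P i := stepQ 81503 Q81503 (allL N81503 (tt N47564 (iv1 D176331)) (tt N70070 F346118) (tt N69134 F340123) (tt N103181 (iv3 F440442)) (tt N80495 F340118) (tt N66284 F352079) (tt N66287 (iv6 F337681)) (tt N70068 (iv7 F340122)))
theorem Q81505 : ∀ i, i < 81505 → P i := stepQ 81504 Q81504 (allL N81504 (tt N69134 (iv1 F340125)) (tt N70068 (iv0 F338598)) (tt N70070 F346116) (tt N47570 F275639) (tt N77633 (iv4 F340128)) (tt N49269 F328616) (tt N99579 (iv6 F425263)) (tt N47564 (iv7 D176333)))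
theorem Q81506 : ∀ i, i < 81506 → P i := stepQ 81505 Q81505 (allL N81505 (tt N88098 (iv1 F381797)) (tt N71728 (iv0 F346720)) (tt N55199 F346722) (tt N66529 (iv3 F355230)) (tt N47565 (iv4 D176359)) (tt N58915 F346718) (tt N55197 (iv6 F346721)) (tt N110602 (iv7 F472336)))
theorem Q81507 : ∀ i, i < 81507 → P i := stepQ 81506 Q81506 (allL N81506 (tt N61017 F335164) (tt N97864 (iv0 F418578)) (tt N78843 F355242) (tt N47566 (iv3 D176362)) (tt N66529 (iv4 F346743)) (tt N60722 F355236) (tt N61084 F346738) (tt N81438 F275657))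
theorem Q81508 : ∀ i, i < 81508 → P i := stepQ 81507 Q81507 (allL N81507 (tt N74957 F353309) (tt N60998 (iv0 F346736)) (tt N81439 F275658) (tt N61084 (iv3 F346737)) (tt N47567 F275659) (tt N112378 D215624) (tt N47566 (iv6 D176363)) (tt N78844 F358940))
theorem Q81509 : ∀ i, i < 81509 → P i := stepQ 81508 Q81508 (allL N81508 (tt N103117 (iv1 F440149)) (tt N47567 (iv0 D176364)) (tt N98502 (iv2 F421144)) (tt N82007 F346725) (tt N61270 F346726) (tt N82005 (iv5 F361916)) (tt N54432 F275660) (tt N61268 (iv7 F346735)))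
theorem Q81510 : ∀ i, i < 81510 → P i := stepQ 81509 Q81509 (allL N81509 (tt N47568 (iv1 D176368)) (tt N88193 (iv0 F382113)) (tt N69515 (iv2 F335840)) (tt N61447 (iv3 F335146)) (tt N72686 (iv4 F335140)) (tt N69514 (iv5 F363737)) (tt N61444 F335142) (tt N98765 (iv7 F422218)))
theorem Q81511 : ∀ i, i < 81511 → P i := stepQ 81510 Q81510 (allL N81510 (tt N79398 F275744) (tt N75410 (iv0 F348430)) (tt N80120 (iv2 F342760)) (tt N58757 F359781) (tt N66015 F349817) (tt N47574 (iv5 D176441)) (tt N64240 F345642) (tt N96963 (iv7 F414814)))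
theorem Q81512 : ∀ i, i < 81512 → P i := stepQ 81511 Q81511 (allL N81511 (tt N68032 F346964) (tt N68028 F345781) (tt N47576 F275746) (tt N104807 (iv3 F447385)) (tt N47581 F275747) (tt N103624 (iv5 F442281)) (tt N47575 (iv6 D176444)) (tt N104807 (iv7 F447389)))
theorem Q81513 : ∀ i, i < 81513 → P i := stepQ 81512 Q81512 (allL N81512 (tt N75845 F345389) (tt N80958 (iv0 F348447)) (tt N103250 (iv2 F440788)) (tt N48038 F275776) (tt N103247 (iv4 F440771)) (tt N47578 (iv5 D176472)) (tt N81995 F340149) (tt N82368 F355016))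
theorem Q81514 : ∀ i, i < 81514 → P i := stepQ 81513 Q81513 (allL N81513 (tt N112376 F480801) (tt N108678 (iv0 F463505)) (tt N112113 (iv2 F479543)) (tt N97090 (iv3 F415445)) (tt N77297 (iv4 F339649)) (tt N91384 (iv5 F392948)) (tt N47579 (iv6 D176474)) (tt N112379 D215625))
theorem Q81515 : ∀ i, i < 81515 → P i := stepQ 81514 Q81514 (allL N81514 (tt N51684 (iv1 F348455)) (tt N78692 F360618) (tt N47584 F275777) (tt N73373 (iv3 F359685)) (tt N47580 (iv4 D176475)) (tt N103246 (iv5 F440764)) (tt N73371 F359702) (tt N87825 (iv7 F380691)))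
theorem Q81516 : ∀ i, i < 81516 → P i := stepQ 81515 Q81515 (allL N81515 (tt N102330 F436765) (tt N102328 F436754) (tt N47585 F275778) (tt N73369 F359705) (tt N73371 (iv4 F359704)) (tt N109598 (iv5 F467653)) (tt N47580 (iv6 D176476)) (tt N99584 (iv7 F425285)))
theorem Q81517 : ∀ i, i < 81517 → P i := stepQ 81516 Q81516 (allL N81516 (tt N47589 (iv1 F275785)) (tt N47581 (iv0 D176477)) (tt N47586 F278518) (tt N48014 F278519) (tt N101815 (iv4 F434474)) (tt N82365 F346961) (tt N66971 (iv6 F346962)) (tt N47587 F278520))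
theorem Q81518 : ∀ i, i < 81518 → P i := stepQ 81517 Q81517 (allL N81517 (tt N78559 (iv1 F275819)) (tt N78557 (iv0 F275781)) (tt N47588 F275780) (tt N80042 F363627) (tt N101713 (iv4 F434004)) (tt N47581 (iv5 D176479)) (tt N109598 (iv6 F467656)) (tt N111928 (iv7 F478708)))
theorem Q81519 : ∀ i, i < 81519 → P i := stepQ 81518 Q81518 (allL N81518 (tt N47587 (iv1 F275786)) (tt N47586 F275787) (tt N47589 F275782) (tt N70066 (iv3 F321665)) (tt N104807 (iv4 F447384)) (tt N111928 (iv5 F478706)) (tt N68794 (iv6 F317958)) (tt N47581 (iv7 D176480)))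
theorem Q81520 : ∀ i, i < 81520 → P i := stepQ 81519 Q81519 (allL N81519 (tt N47986 (iv1 F275800)) (tt N47984 F275799) (tt N47994 (iv2 F275802)) (tt N47583 (iv3 D176485)) (tt N59312 (iv4 F318037)) (tt N63442 F275797) (tt N75755 F347935) (tt N47995 (iv7 F275803)))
theorem Q81521 : ∀ i, i < 81521 → P i := stepQ 81520 Q81520 (allL N81520 (tt N90870 (iv1 F391105)) (tt N90869 F391104) (tt N90871 (iv2 F391109)) (tt N47584 (iv3 D176490)) (tt N47590 F275806) (tt N91793 (iv5 F394453)) (tt N91177 (iv6 F392180)) (tt N84727 F370375))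
theorem Q81522 : ∀ i, i < 81522 → P i := stepQ 81521 Q81521 (allL N81521 (tt N75104 F362988) (tt N105282 (iv0 F449543)) (tt N73371 (iv2 F359703)) (tt N91177 (iv3 F392178)) (tt N47585 F275807) (tt N109295 (iv5 F466240)) (tt N47584 (iv6 D176492)) (tt N91173 (iv7 F392168)))
theorem Q81523 : ∀ i, i < 81523 → P i := stepQ 81522 Q81522 (allL N81522 (tt N99584 F425287) (tt N47585 (iv0 D176493)) (tt N102330 (iv2 F436759)) (tt N109005 (iv3 F464874)) (tt N109461 (iv4 F467083)) (tt N60554 F353638) (tt N103123 (iv6 F440180)) (tt N102328 (iv7 F436751)))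
theorem Q81524 : ∀ i, i < 81524 → P i := stepQ 81523 Q81523 (allL N81523 (tt N47585 (iv1 D176494)) (tt N99584 F425286) (tt N102328 (iv2 F436748)) (tt N82459 F359774) (tt N101226 (iv4 F432286)) (tt N60556 (iv5 F359773)) (tt N76900 F359775) (tt N102330 (iv7 F436761)))
theorem Q81525 : ∀ i, i < 81525 → P i := stepQ 81524 Q81524 (allL N81524 (tt N60482 F353620) (tt N60486 (iv0 F353637)) (tt N109598 F467657) (tt N47592 F275808) (tt N97837 (iv4 F418456)) (tt N47585 (iv5 D176495)) (tt N47588 F275809) (tt N96975 (iv7 F414879)))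
theorem Q81526 : ∀ i, i < 81526 → P i := stepQ 81525 Q81525 (allL N81525 (tt N88913 (iv1 F384519)) (tt N68467 (iv0 F347512)) (tt N101815 (iv2 F434473)) (tt N54354 F344112) (tt N47586 (iv4 D176499)) (tt N104416 (iv5 F445658)) (tt N76027 F347493) (tt N54348 (iv7 F360167)))
theorem Q81527 : ∀ i, i < 81527 → P i := stepQ 81526 Q81526 (allL N81526 (tt N111928 (iv1 F478709)) (tt N47588 (iv0 D176502)) (tt N78559 (iv2 F275816)) (tt N112380 D215626) (tt N60495 F354043) (tt N78554 F275818) (tt N112381 D215627) (tt N78557 (iv7 F275817)))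
theorem Q81528 : ∀ i, i < 81528 → P i := stepQ 81527 Q81527 (allL N81527 (tt N47588 (iv1 D176503)) (tt N111928 F478710) (tt N78557 F275813) (tt N63480 F275814) (tt N60496 (iv4 F363256)) (tt N63478 (iv5 F275812)) (tt N79789 (iv6 F330809)) (tt N78559 F275815))
theorem Q81529 : ∀ i, i < 81529 → P i := stepQ 81528 Q81528 (allL N81528 (tt N97846 F418490) (tt N80038 (iv0 F348161)) (tt N101713 (iv2 F434006)) (tt N97911 (iv3 F418763)) (tt N47588 (iv4 D176504)) (tt N97910 F418761) (tt N97837 F418457) (tt N101712 (iv7 F434003)))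
theorem Q81530 : ∀ i, i < 81530 → P i := stepQ 81529 Q81529 (allL N81529 (tt N51299 (iv1 F365716)) (tt N47590 (iv0 D176506)) (tt N84251 (iv2 F368689)) (tt N98483 (iv3 F421079)) (tt N84247 F368674) (tt N97932 (iv5 F418847)) (tt N84246 (iv6 F368675)) (tt N86784 (iv7 F377184)))
theorem Q81531 : ∀ i, i < 81531 → P i := stepQ 81530 Q81530 (allL N81530 (tt N47590 (iv1 D176507)) (tt N51299 F365717) (tt N86784 F377182) (tt N97913 (iv3 F418771)) (tt N84254 (iv4 F368708)) (tt N97912 F418768) (tt N106838 (iv6 F455917)) (tt N84251 F368691))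
theorem Q81532 : ∀ i, i < 81532 → P i := stepQ 81531 Q81531 (allL N81531 (tt N84251 (iv1 F368699)) (tt N86784 F377183) (tt N47590 (iv2 D176508)) (tt N88193 F382115) (tt N90871 (iv4 F391111)) (tt N84972 (iv5 F371222)) (tt N86783 (iv6 F377177)) (tt N51299 F365715))
theorem Q81533 : ∀ i, i < 81533 → P i := stepQ 81532 Q81532 (allL N81532 (tt N101735 F434097) (tt N109848 (iv0 F468895)) (tt N96974 (iv2 F414875)) (tt N65555 (iv3 F356083)) (tt N47592 (iv4 D176525)) (tt N102224 (iv5 F436259)) (tt N47594 F275834) (tt N96976 (iv7 F414883)))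
theorem Q81534 : ∀ i, i < 81534 → P i := stepQ 81533 Q81533 (allL N81533 (tt N80499 F361382) (tt N60447 (iv0 F365576)) (tt N112382 D215628) (tt N47594 (iv3 D176530)) (tt N97911 (iv4 F418764)) (tt N91301 (iv5 F392617)) (tt N65555 F356084) (tt N105878 (iv7 F452144)))
theorem Q81535 : ∀ i, i < 81535 → P i := stepQ 81534 Q81534 (allL N81534 (tt N53125 F337630) (tt N69235 (iv0 F337632)) (tt N69261 (iv2 F320100)) (tt N80711 (iv3 F337629)) (tt N47595 (iv4 D176535)) (tt N75217 F348708) (tt N80709 (iv6 F313111)) (tt N69262 (iv7 F342036)))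
theorem Q81536 : ∀ i, i < 81536 → P i := stepQ 81535 Q81535 (allL N81535 (tt N69235 (iv1 F348714)) (tt N53125 F348713) (tt N69262 (iv2 F348712)) (tt N64217 (iv3 F303098)) (tt N47596 (iv4 D176540)) (tt N75218 F343962) (tt N52792 (iv6 F303096)) (tt N69261 (iv7 F320104)))
theorem Q81537 : ∀ i, i < 81537 → P i := stepQ 81536 Q81536 (allL N81536 (tt N49889 (iv1 F350176)) (tt N49893 F350171) (tt N84593 (iv2 F369809)) (tt N47599 F275887) (tt N112383 D215629) (tt N47598 (iv5 D176551)) (tt N84588 (iv6 F369782)) (tt N47619 F275888))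
theorem Q81538 : ∀ i, i < 81538 → P i := stepQ 81537 Q81537 (allL N81537 (tt N88274 (iv1 F384402)) (tt N108492 (iv0 F462820)) (tt N86235 (iv2 F375500)) (tt N84588 F369787) (tt N85908 F374413) (tt N91262 (iv5 F392438)) (tt N47599 (iv6 D176552)) (tt N86237 (iv7 F375512)))
theorem Q81539 : ∀ i, i < 81539 → P i := stepQ 81538 Q81538 (allL N81538 (tt N88461 F383146) (tt N88462 (iv0 F383151)) (tt N100432 F428952) (tt N47601 (iv3 D176587)) (tt N91737 (iv4 F394254)) (tt N78625 F275947) (tt N63797 (iv6 F347863)) (tt N79610 (iv7 F342306)))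
theorem Q81540 : ∀ i, i < 81540 → P i := stepQ 81539 Q81539 (allL N81539 (tt N70930 F354160) (tt N71474 F354161) (tt N53413 (iv2 F357914)) (tt N54527 F357916) (tt N47603 F275953) (tt N112384 D215630) (tt N47602 (iv6 D176590)) (tt N70838 (iv7 F357917)))
theorem Q81541 : ∀ i, i < 81541 → P i := stepQ 81540 Q81540 (allL N81540 (tt N47603 (iv1 D176592)) (tt N67024 F354143) (tt N81062 F354157) (tt N63537 (iv3 F354158)) (tt N112385 D215631) (tt N63536 (iv5 F354159)) (tt N98118 (iv6 F419529)) (tt N71337 F354151))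
theorem Q81542 : ∀ i, i < 81542 → P i := stepQ 81541 Q81541 (allL N81541 (tt N81062 (iv1 F357883)) (tt N71337 F357882) (tt N67024 F354141) (tt N57785 (iv3 F357919)) (tt N70838 F357918) (tt N112114 (iv5 F479551)) (tt N57784 (iv6 F354218)) (tt N47603 (iv7 D176594)))
theorem Q81543 : ∀ i, i < 81543 → P i := stepQ 81542 Q81542 (allL N81542 (tt N47607 (iv1 D176622)) (tt N54989 F346780) (tt N54992 (iv2 F346781)) (tt N100363 F428609) (tt N54922 (iv4 F346782)) (tt N78560 F346784) (tt N112386 D215632) (tt N54921 F346769))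
theorem Q81544 : ∀ i, i < 81544 → P i := stepQ 81543 Q81543 (allL N81543 (tt N57784 (iv1 F354219)) (tt N47608 (iv0 D176630)) (tt N71097 (iv2 F354223)) (tt N101806 F434427) (tt N112387 D215633) (tt N101837 (iv5 F434584)) (tt N112388 D215634) (tt N71098 F354224))
theorem Q81545 : ∀ i, i < 81545 → P i := stepQ 81544 Q81544 (allL N81544 (tt N47608 (iv1 D176631)) (tt N57784 F354225) (tt N71098 (iv2 F337655)) (tt N77324 (iv3 F336350)) (tt N112389 D215635) (tt N105683 (iv5 F451229)) (tt N54350 (iv6 F337645)) (tt N71097 (iv7 F354221)))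
theorem Q81546 : ∀ i, i < 81546 → P i := stepQ 81545 Q81545 (allL N81545 (tt N71098 F354148) (tt N71097 F354220) (tt N57784 F354145) (tt N67027 (iv3 F354144)) (tt N54509 F354146) (tt N79279 (iv5 F354147)) (tt N67024 F354142) (tt N47608 (iv7 D176633)))
theorem Q81547 : ∀ i, i < 81547 → P i := stepQ 81546 Q81546 (allL N81546 (tt N81566 F276088) (tt N100717 (iv0 F430166)) (tt N96957 (iv2 F414771)) (tt N87158 (iv3 F378570)) (tt N112390 D215636) (tt N47610 (iv5 D176660)) (tt N52704 (iv6 F365996)) (tt N100728 (iv7 F430187)))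
theorem Q81548 : ∀ i, i < 81548 → P i := stepQ 81547 Q81547 (allL N81547 (tt N55572 F380403) (tt N108281 F461859) (tt N91835 (iv2 F394614)) (tt N47614 F276046) (tt N95732 (iv4 F409358)) (tt N108636 (iv5 F463308)) (tt N47612 (iv6 D176672)) (tt N108280 F461849))
theorem Q81549 : ∀ i, i < 81549 → P i := stepQ 81548 Q81548 (allL N81548 (tt N85454 F372680) (tt N84664 F370103) (tt N83712 (iv2 F350444)) (tt N55154 F360351) (tt N51685 F360352) (tt N108635 (iv5 F463301)) (tt N47613 (iv6 D176674)) (tt N87836 (iv7 F380766)))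
theorem Q81550 : ∀ i, i < 81550 → P i := stepQ 81549 Q81549 (allL N81549 (tt N79841 F276053) (tt N79868 F276054) (tt N79866 F276051) (tt N108636 (iv3 F463307)) (tt N112391 D215637) (tt N47614 (iv5 D176676)) (tt N108635 F463304) (tt N79865 F276052))
theorem Q81551 : ∀ i, i < 81551 → P i := stepQ 81550 Q81550 (allL N81550 (tt N55166 F360312) (tt N47615 (iv0 D176677)) (tt N52063 F360313) (tt N72673 F360314) (tt N112392 D215638) (tt N52058 F360315) (tt N47644 F360316) (tt N91854 (iv7 F394707)))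
theorem Q81552 : ∀ i, i < 81552 → P i := stepQ 81551 Q81551 (allL N81551 (tt N52063 (iv1 F360321)) (tt N91854 F394709) (tt N47615 (iv2 D176679)) (tt N55152 F360319) (tt N112393 D215639) (tt N55151 F360320) (tt N111569 (iv6 F476964)) (tt N55166 (iv7 F360318)))
theorem Q81553 : ∀ i, i < 81553 → P i := stepQ 81552 Q81552 (allL N81552 (tt N111862 F478371) (tt N103375 (iv0 F441343)) (tt N112393 (iv2 F480897)) (tt N79365 F276055) (tt N47615 (iv4 D176680)) (tt N93228 (iv5 F400038)) (tt N86934 (iv6 F377759)) (tt N79745 F276056))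
theorem Q81554 : ∀ i, i < 81554 → P i := stepQ 81553 Q81553 (allL N81553 (tt N91995 (iv1 F395297)) (tt N91994 F395293) (tt N55525 (iv2 F352048)) (tt N52288 F340302) (tt N63205 F335296) (tt N84667 (iv5 F370123)) (tt N47617 (iv6 D176687)) (tt N82113 F352049))
theorem Q81555 : ∀ i, i < 81555 → P i := stepQ 81554 Q81554 (allL N81554 (tt N84593 (iv1 F369804)) (tt N47619 (iv0 D176694)) (tt N49893 (iv2 F343020)) (tt N48954 F343021) (tt N81554 F343022) (tt N54948 F343024) (tt N48952 F343023) (tt N49889 F343026))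
theorem Q81556 : ∀ i, i < 81556 → P i := stepQ 81555 Q81555 (allL N81555 (tt N112394 D215640) (tt N112395 D215641) (tt N87875 (iv2 F380929)) (tt N87230 (iv3 F378821)) (tt N47619 (iv4 D176696)) (tt N80703 F348560) (tt N51748 F348572) (tt N112383 (iv7 F480843)))
theorem Q81557 : ∀ i, i < 81557 → P i := stepQ 81556 Q81556 (allL N81556 (tt N49922 F331233) (tt N84648 F370025) (tt N84646 (iv2 F370009)) (tt N47620 (iv3 D176698)) (tt N88986 (iv4 F384670)) (tt N55444 (iv5 F331238)) (tt N52046 (iv6 F331235)) (tt N84647 (iv7 F370013)))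
theorem Q81558 : ∀ i, i < 81558 → P i := stepQ 81557 Q81557 (allL N81557 (tt N90786 F390864) (tt N90783 (iv0 F390849)) (tt N111842 (iv2 F478255)) (tt N52046 F331236) (tt N91668 (iv4 F393957)) (tt N76247 F362617) (tt N47620 (iv6 D176699)) (tt N88109 (iv7 F381815)))
theorem Q81559 : ∀ i, i < 81559 → P i := stepQ 81558 Q81558 (allL N81558 (tt N112396 D215642) (tt N112397 D215643) (tt N112398 D215644) (tt N47622 (iv3 D176702)) (tt N87230 (iv4 F378820)) (tt N89173 (iv5 F385442)) (tt N49559 (iv6 F335331)) (tt N90637 (iv7 F390347)))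
theorem Q81560 : ∀ i, i < 81560 → P i := stepQ 81559 Q81559 (allL N81559 (tt N47623 (iv1 D176705)) (tt N49556 F364443) (tt N82886 (iv2 F364444)) (tt N51394 F364446) (tt N52134 F364445) (tt N86809 (iv5 F377273)) (tt N82987 (iv6 F364447)) (tt N51935 (iv7 F364448)))
theorem Q81561 : ∀ i, i < 81561 → P i := stepQ 81560 Q81560 (allL N81560 (tt N58380 (iv1 F328210)) (tt N47624 (iv0 D176707)) (tt N79638 F358414) (tt N112399 D215645) (tt N111722 (iv4 F477663)) (tt N111887 (iv5 F478503)) (tt N93141 (iv6 F399650)) (tt N79637 F358412))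
theorem Q81562 : ∀ i, i < 81562 → P i := stepQ 81561 Q81561 (allL N81561 (tt N47624 (iv1 D176708)) (tt N58380 (iv0 F328209)) (tt N79637 (iv2 F358411)) (tt N112400 D215646) (tt N111718 (iv4 F477643)) (tt N111888 (iv5 F478510)) (tt N47630 F354479) (tt N79638 (iv7 F358413)))
theorem Q81563 : ∀ i, i < 81563 → P i := stepQ 81562 Q81562 (allL N81562 (tt N78527 (iv1 F276073)) (tt N47625 (iv0 D176710)) (tt N78363 (iv2 F348601)) (tt N111690 (iv3 F477502)) (tt N75335 F348602) (tt N87166 (iv5 F378599)) (tt N52270 F348603) (tt N78526 (iv7 F363847)))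
theorem Q81564 : ∀ i, i < 81564 → P i := stepQ 81563 Q81563 (allL N81563 (tt N47625 (iv1 D176711)) (tt N78527 (iv0 F276075)) (tt N78526 F363848) (tt N96762 (iv3 F413828)) (tt N79829 (iv4 F304018)) (tt N87165 (iv5 F378607)) (tt N111927 (iv6 F478699)) (tt N78363 (iv7 F348600)))
theorem Q81565 : ∀ i, i < 81565 → P i := stepQ 81564 Q81564 (allL N81564 (tt N78363 (iv1 F363844)) (tt N78526 F276079) (tt N47625 (iv2 D176712)) (tt N78523 F276076) (tt N64071 F276077) (tt N88821 (iv5 F384252)) (tt N104398 (iv6 F445595)) (tt N78527 F276078))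
theorem Q81566 : ∀ i, i < 81566 → P i := stepQ 81565 Q81565 (allL N81565 (tt N112150 (iv1 F479761)) (tt N109912 (iv0 F469183)) (tt N104398 (iv2 F445592)) (tt N47626 F276083) (tt N64072 F276084) (tt N88345 (iv5 F382668)) (tt N47625 (iv6 D176714)) (tt N64126 (iv7 F366918)))
theorem Q81567 : ∀ i, i < 81567 → P i := stepQ 81566 Q81566 (allL N81566 (tt N95734 (iv1 F409367)) (tt N81546 (iv0 F276088)) (tt N78525 F276087) (tt N88345 F382672) (tt N112401 D215647) (tt N47626 (iv5 D176716)) (tt N88818 (iv6 F384244)) (tt N64128 (iv7 F366959)))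
theorem Q81568 : ∀ i, i < 81568 → P i := stepQ 81567 Q81567 (allL N81567 (tt N47627 (iv1 D176717)) (tt N78523 F276092) (tt N78521 (iv2 F276093)) (tt N103460 (iv3 F441729)) (tt N103461 (iv4 F441730)) (tt N88472 (iv5 F383184)) (tt N86974 (iv6 F383186)) (tt N78522 (iv7 F276094)))
theorem Q81569 : ∀ i, i < 81569 → P i := stepQ 81568 Q81568 (allL N81568 (tt N78522 (iv1 F276096)) (tt N78521 F276091) (tt N47627 (iv2 D176718)) (tt N78527 F276089) (tt N82758 (iv4 F283865)) (tt N103971 F443584) (tt N79628 (iv6 F366961)) (tt N78523 F276090))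
theorem Q81570 : ∀ i, i < 81570 → P i := stepQ 81569 Q81569 (allL N81569 (tt N68385 (iv1 F332876)) (tt N103972 F443590) (tt N103971 (iv2 F443585)) (tt N47628 F276097) (tt N68378 (iv4 F364720)) (tt N47627 (iv5 D176719)) (tt N105923 (iv6 F452365)) (tt N78516 F276098))
theorem Q81571 : ∀ i, i < 81571 → P i := stepQ 81570 Q81570 (allL N81570 (tt N112402 D215648) (tt N112403 D215649) (tt N78515 F276100) (tt N105923 (iv3 F452364)) (tt N49336 F276101) (tt N79630 (iv5 F366960)) (tt N47628 (iv6 D176721)) (tt N97261 (iv7 F416118)))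
theorem Q81572 : ∀ i, i < 81572 → P i := stepQ 81571 Q81571 (allL N81571 (tt N103460 (iv1 F441728)) (tt N85725 (iv0 F373672)) (tt N111749 F477779) (tt N47629 (iv3 D176724)) (tt N79677 F276104) (tt N82598 F283197) (tt N103447 F441677) (tt N111112 (iv7 F474722)))
theorem Q81573 : ∀ i, i < 81573 → P i := stepQ 81572 Q81572 (allL N81572 (tt N84653 (iv1 F370054)) (tt N54960 F370056) (tt N84651 F370040) (tt N112404 D215650) (tt N47629 (iv4 D176725)) (tt N112405 D215651) (tt N92009 (iv6 F395343)) (tt N84652 (iv7 F370047)))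
theorem Q81574 : ∀ i, i < 81574 → P i := stepQ 81573 Q81573 (allL N81573 (tt N78509 (iv1 F343694)) (tt N51558 (iv0 F343693)) (tt N78511 F348773) (tt N82598 (iv3 F283196)) (tt N79700 F276105) (tt N47629 (iv5 D176726)) (tt N88334 F382632) (tt N78510 (iv7 F348784)))
theorem Q81575 : ∀ i, i < 81575 → P i := stepQ 81574 Q81574 (allL N81574 (tt N111746 (iv1 F477769)) (tt N91828 (iv0 F394574)) (tt N93149 (iv2 F399675)) (tt N103447 F441675) (tt N92009 F395344) (tt N93143 (iv5 F399657)) (tt N47629 (iv6 D176727)) (tt N93141 F399653))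
theorem Q81576 : ∀ i, i < 81576 → P i := stepQ 81575 Q81575 (allL N81575 (tt N111689 F477501) (tt N111690 F477506) (tt N112406 D215652) (tt N47630 (iv3 D176729)) (tt N112407 D215653) (tt N112408 D215654) (tt N112400 (iv6 F480940)) (tt N111113 (iv7 F474728)))
theorem Q81577 : ∀ i, i < 81577 → P i := stepQ 81576 Q81576 (allL N81576 (tt N54960 (iv1 F370055)) (tt N84653 (iv0 F370053)) (tt N84652 (iv2 F370049)) (tt N79300 (iv3 F276107)) (tt N47630 (iv4 D176730)) (tt N91776 (iv5 F394376)) (tt N111718 (iv6 F477641)) (tt N84651 F370041))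
theorem Q81578 : ∀ i, i < 81578 → P i := stepQ 81577 Q81577 (allL N81577 (tt N51558 (iv1 F348781)) (tt N78509 F348785) (tt N78510 F348782) (tt N112408 (iv3 F480978)) (tt N88323 (iv4 F382591)) (tt N47630 (iv5 D176731)) (tt N112409 D215655) (tt N78511 F348775))
theorem Q81579 : ∀ i, i < 81579 → P i := stepQ 81578 Q81578 (allL N81578 (tt N52712 (iv1 F358109)) (tt N49986 (iv0 F354478)) (tt N47632 F276108) (tt N78531 F276109) (tt N88303 (iv4 F382518)) (tt N47631 (iv5 D176733)) (tt N111867 (iv6 F478398)) (tt N52711 (iv7 F358108)))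
theorem Q81580 : ∀ i, i < 81580 → P i := stepQ 81579 Q81579 (allL N81579 (tt N88306 F382530) (tt N79362 (iv0 F341812)) (tt N88303 F382517) (tt N51538 (iv3 F293807)) (tt N47632 (iv4 D176736)) (tt N65974 (iv5 F365639)) (tt N79694 (iv6 F341810)) (tt N88304 (iv7 F382519)))
theorem Q81581 : ∀ i, i < 81581 → P i := stepQ 81580 Q81580 (allL N81580 (tt N112410 D215656) (tt N112411 D215657) (tt N111867 (iv2 F478395)) (tt N47633 F276111) (tt N79694 F341802) (tt N87232 (iv5 F378826)) (tt N47632 (iv6 D176737)) (tt N104426 (iv7 F445701)))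
theorem Q81582 : ∀ i, i < 81582 → P i := stepQ 81581 Q81581 (allL N81581 (tt N78540 (iv1 F276115)) (tt N47633 (iv0 D176738)) (tt N78538 (iv2 F369279)) (tt N112412 D215658) (tt N84441 F369283) (tt N101557 (iv5 F433391)) (tt N112413 D215659) (tt N78539 (iv7 F369282)))
theorem Q81583 : ∀ i, i < 81583 → P i := stepQ 81582 Q81582 (allL N81582 (tt N47633 (iv1 D176739)) (tt N78540 F276112) (tt N78539 F369280) (tt N97250 (iv3 F416076)) (tt N84442 (iv4 F369277)) (tt N112414 D215660) (tt N93112 F399538) (tt N78538 F369278))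
theorem Q81584 : ∀ i, i < 81584 → P i := stepQ 81583 Q81583 (allL N81583 (tt N78539 (iv1 F276116)) (tt N78538 F276117) (tt N78540 F276113) (tt N104426 (iv3 F445699)) (tt N51545 (iv4 F293809)) (tt N112096 (iv5 F479474)) (tt N104929 F447996) (tt N47633 (iv7 D176740)))
theorem Q81585 : ∀ i, i < 81585 → P i := stepQ 81584 Q81584 (allL N81584 (tt N47634 (iv1 D176762)) (tt N104929 F447993) (tt N86895 (iv2 F377616)) (tt N86991 (iv3 F377978)) (tt N49374 F374375) (tt N84240 (iv5 F368652)) (tt N112415 D215661) (tt N84239 F368648))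
theorem Q81586 : ∀ i, i < 81586 → P i := stepQ 81585 Q81585 (allL N81585 (tt N86895 (iv1 F377621)) (tt N84239 (iv0 F369401)) (tt N104929 F447992) (tt N76405 (iv3 F360274)) (tt N51532 (iv4 F293806)) (tt N96759 (iv5 F413816)) (tt N78540 F276151) (tt N47634 (iv7 D176764)))
theorem Q81587 : ∀ i, i < 81587 → P i := stepQ 81586 Q81586 (allL N81586 (tt N112416 D215662) (tt N112417 D215663) (tt N111114 (iv2 F474731)) (tt N94744 F405785) (tt N47636 (iv4 D176821)) (tt N112418 D215664) (tt N112141 F479714) (tt N91868 F394765))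
theorem Q81588 : ∀ i, i < 81588 → P i := stepQ 81587 Q81587 (allL N81587 (tt N83813 F382065) (tt N47663 F382066) (tt N83812 F362552) (tt N84692 (iv3 F370252)) (tt N88314 F382555) (tt N47636 (iv5 D176822)) (tt N88273 (iv6 F382424)) (tt N83811 F362548))
theorem Q81589 : ∀ i, i < 81589 → P i := stepQ 81588 Q81588 (allL N81588 (tt N99710 F425856) (tt N79482 (iv0 F362560)) (tt N108574 (iv2 F463110)) (tt N55557 F362545) (tt N112141 (iv4 F479712)) (tt N91394 (iv5 F392966)) (tt N47636 (iv6 D176823)) (tt N55552 F362549))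
theorem Q81590 : ∀ i, i < 81590 → P i := stepQ 81589 Q81589 (allL N81589 (tt N86958 (iv1 F377871)) (tt N86961 (iv0 F377870)) (tt N55560 F362557) (tt N47637 (iv3 D176825)) (tt N102177 (iv4 F436048)) (tt N88294 (iv5 F382487)) (tt N55558 F362559) (tt N102140 (iv7 F435912)))
theorem Q81591 : ∀ i, i < 81591 → P i := stepQ 81590 Q81590 (allL N81590 (tt N112417 (iv1 F481014)) (tt N112416 F481012) (tt N91868 (iv2 F394763)) (tt N80561 (iv3 F276205)) (tt N47637 (iv4 D176826)) (tt N107806 (iv5 F459786)) (tt N91864 (iv6 F394754)) (tt N111114 (iv7 F474733)))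
theorem Q81592 : ∀ i, i < 81592 → P i := stepQ 81591 Q81591 (allL N81591 (tt N47663 F382067) (tt N83813 F382068) (tt N83811 (iv2 F362556)) (tt N88294 (iv3 F382486)) (tt N112419 D215665) (tt N47637 (iv5 D176827)) (tt N84688 (iv6 F370235)) (tt N83812 F362554))
theorem Q81593 : ∀ i, i < 81593 → P i := stepQ 81592 Q81592 (allL N81592 (tt N86875 (iv1 F377550)) (tt N86874 F377544) (tt N47639 F276206) (tt N86870 (iv3 F377514)) (tt N112420 D215666) (tt N47638 (iv5 D176829)) (tt N95297 (iv6 F407768)) (tt N86876 (iv7 F377548)))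
theorem Q81594 : ∀ i, i < 81594 → P i := stepQ 81593 Q81593 (allL N81593 (tt N95540 (iv1 F408557)) (tt N95542 (iv0 F408571)) (tt N47640 F276207) (tt N106107 (iv3 F453143)) (tt N95078 F408573) (tt N59694 F354541) (tt N47638 (iv6 D176830)) (tt N71707 (iv7 F354540)))
theorem Q81595 : ∀ i, i < 81595 → P i := stepQ 81594 Q81594 (allL N81594 (tt N86876 (iv1 F377549)) (tt N47639 (iv0 D176831)) (tt N86875 (iv2 F443764)) (tt N104415 (iv3 F463157)) (tt N111120 (iv4 F474770)) (tt N79843 F414784) (tt N108584 F463153) (tt N86874 F443765))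
theorem Q81596 : ∀ i, i < 81596 → P i := stepQ 81595 Q81595 (allL N81595 (tt N47639 (iv1 D176832)) (tt N86876 F377551) (tt N86874 F443763) (tt N103957 (iv3 F443592)) (tt N112421 D215667) (tt N79844 F382167) (tt N112422 D215668) (tt N86875 (iv7 F443762)))
theorem Q81597 : ∀ i, i < 81597 → P i := stepQ 81596 Q81596 (allL N81596 (tt N112423 D215669) (tt N112424 D215670) (tt N112420 (iv2 F481020)) (tt N54857 F276208) (tt N47639 (iv4 D176833)) (tt N112425 D215671) (tt N112426 D215672) (tt N86877 (iv7 F377553)))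
theorem Q81598 : ∀ i, i < 81598 → P i := stepQ 81597 Q81597 (allL N81597 (tt N59684 F354549) (tt N59771 (iv0 F354550)) (tt N95297 F407770) (tt N47641 F276209) (tt N112426 (iv4 F481039)) (tt N71705 (iv5 F354547)) (tt N47639 (iv6 D176834)) (tt N95298 (iv7 F407773)))
theorem Q81599 : ∀ i, i < 81599 → P i := stepQ 81598 Q81598 (allL N81598 (tt N95542 (iv1 F408572)) (tt N95540 (iv0 F408558)) (tt N71707 F354537) (tt N47643 F276211) (tt N79175 F365849) (tt N59695 (iv5 F354539)) (tt N95037 (iv6 F406752)) (tt N47640 (iv7 D176838)))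
theorem Q81600 : ∀ i, i < 81600 → P i := stepQ 81599 Q81599 (allL N81599 (tt N86873 (iv1 F377530)) (tt N47641 (iv0 D176839)) (tt N86852 F377537) (tt N95665 (iv3 F409045)) (tt N54882 (iv4 F377531)) (tt N95152 F407244) (tt N112427 D215673) (tt N86854 F377538))
theorem Q81601 : ∀ i, i < 81601 → P i := stepQ 81600 Q81600 (allL N81600 (tt N47641 (iv1 D176840)) (tt N86873 F377529) (tt N86854 (iv2 F377539)) (tt N101822 (iv3 F434513)) (tt N54883 F377543) (tt N106097 (iv5 F453097)) (tt N97287 (iv6 F416225)) (tt N86852 (iv7 F377540)))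
theorem Q81602 : ∀ i, i < 81602 → P i := stepQ 81601 Q81601 (allL N81601 (tt N79840 F377575) (tt N112428 D215674) (tt N86872 (iv2 F377523)) (tt N71705 F354548) (tt N112429 D215675) (tt N47641 (iv5 D176841)) (tt N47642 F276212) (tt N112430 D215676))
theorem Q81603 : ∀ i, i < 81603 → P i := stepQ 81602 Q81602 (allL N81602 (tt N86854 F377450) (tt N86852 (iv0 F377541)) (tt N86873 (iv2 F377525)) (tt N95298 F407774) (tt N54863 F276213) (tt N112430 (iv5 F481063)) (tt N86878 (iv6 F377558)) (tt N47641 (iv7 D176842)))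
theorem Q81604 : ∀ i, i < 81604 → P i := stepQ 81603 Q81603 (allL N81603 (tt N81230 F276216) (tt N81229 F276217) (tt N81232 F276214) (tt N59748 F354530) (tt N47642 (iv4 D176843)) (tt N79219 (iv5 F318836)) (tt N112429 (iv6 F481056)) (tt N80821 F276218))
theorem Q81605 : ∀ i, i < 81605 → P i := stepQ 81604 Q81604 (allL N81604 (tt N80786 (iv1 F346336)) (tt N65061 F276223) (tt N79295 (iv2 F300941)) (tt N59695 F354546) (tt N80821 F276220) (tt N47643 F276221) (tt N95343 (iv6 F407930)) (tt N47642 (iv7 D176844)))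
theorem Q81606 : ∀ i, i < 81606 → P i := stepQ 81605 Q81605 (allL N81605 (tt N104424 (iv1 F445692)) (tt N55670 (iv0 F343684)) (tt N86676 (iv2 F376772)) (tt N55644 (iv3 F346870)) (tt N47644 (iv4 D176847)) (tt N86669 (iv5 F376749)) (tt N112392 (iv6 F480893)) (tt N60577 F346869))
theorem Q81607 : ∀ i, i < 81607 → P i := stepQ 81606 Q81606 (allL N81606 (tt N71042 (iv1 F359856)) (tt N47651 F346846) (tt N91853 (iv2 F394697)) (tt N47645 (iv3 D176851)) (tt N102280 (iv4 F436531)) (tt N52069 (iv5 F346848)) (tt N91859 (iv6 F394743)) (tt N52068 F346847))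
theorem Q81608 : ∀ i, i < 81608 → P i := stepQ 81607 Q81607 (allL N81607 (tt N55670 F361884) (tt N104424 (iv0 F445691)) (tt N60577 F361878) (tt N60645 (iv3 F327273)) (tt N47645 (iv4 D176852)) (tt N86460 (iv5 F376288)) (tt N93913 (iv6 F402411)) (tt N86676 (iv7 F376774)))
theorem Q81609 : ∀ i, i < 81609 → P i := stepQ 81608 Q81608 (allL N81608 (tt N86869 F377513) (tt N86868 F377504) (tt N47647 F276229) (tt N86876 (iv3 F377545)) (tt N82597 (iv4 F365110)) (tt N47646 (iv5 D176855)) (tt N107234 (iv6 F457576)) (tt N86870 (iv7 F377517)))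
theorem Q81610 : ∀ i, i < 81610 → P i := stepQ 81609 Q81609 (allL N81609 (tt N47647 (iv1 D176858)) (tt N86870 F377519) (tt N86868 F377506) (tt N112431 D215677) (tt N87137 (iv4 F378502)) (tt N49351 F364555) (tt N99692 F425765) (tt N86869 (iv7 F377509)))
theorem Q81611 : ∀ i, i < 81611 → P i := stepQ 81610 Q81610 (allL N81610 (tt N97334 (iv1 F416399)) (tt N52084 (iv0 F350516)) (tt N107234 (iv2 F457574)) (tt N47648 F276233) (tt N88336 (iv4 F382639)) (tt N106108 (iv5 F453152)) (tt N47647 (iv6 D176860)) (tt N112432 D215678))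
theorem Q81612 : ∀ i, i < 81612 → P i := stepQ 81611 Q81611 (allL N81611 (tt N86878 (iv1 F377561)) (tt N47648 (iv0 D176865)) (tt N86864 (iv2 F379481)) (tt N112433 D215679) (tt N54872 (iv4 F385130)) (tt N106276 (iv5 F453846)) (tt N108608 (iv6 F463232)) (tt N86867 (iv7 F379482)))
theorem Q81613 : ∀ i, i < 81613 → P i := stepQ 81612 Q81612 (allL N81612 (tt N47648 (iv1 D176866)) (tt N86878 F377560) (tt N86867 (iv2 F379483)) (tt N60304 F385120) (tt N54873 (iv4 F385126)) (tt N60302 (iv5 F385119)) (tt N112434 D215680) (tt N86864 F379485))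
theorem Q81614 : ∀ i, i < 81614 → P i := stepQ 81613 Q81613 (allL N81613 (tt N54550 (iv1 F362573)) (tt N53420 (iv0 F362570)) (tt N54518 (iv2 F353348)) (tt N106108 (iv3 F453150)) (tt N53411 (iv4 F352817)) (tt N47648 (iv5 D176867)) (tt N47649 F276237) (tt N54520 (iv7 F353358)))
theorem Q81615 : ∀ i, i < 81615 → P i := stepQ 81614 Q81614 (allL N81614 (tt N86867 (iv1 F377499)) (tt N86864 (iv0 F377494)) (tt N86878 (iv2 F377554)) (tt N112432 (iv3 F481075)) (tt N49339 F276238) (tt N54520 F353357) (tt N86873 (iv6 F377527)) (tt N47648 (iv7 D176868)))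
theorem Q81616 : ∀ i, i < 81616 → P i := stepQ 81615 Q81615 (allL N81615 (tt N53389 (iv1 F352821)) (tt N54406 F352822) (tt N54405 (iv2 F352816)) (tt N101242 (iv3 F432367)) (tt N47649 (iv4 D176871)) (tt N54490 F352818) (tt N53411 F352815) (tt N54404 F349522))
theorem Q81617 : ∀ i, i < 81617 → P i := stepQ 81616 Q81616 (allL N81616 (tt N59828 (iv1 F324865)) (tt N54412 (iv0 F349500)) (tt N95445 F408208) (tt N57080 (iv3 F342890)) (tt N54404 (iv4 F349520)) (tt N47650 F276243) (tt N71647 F349521) (tt N47649 (iv7 D176872)))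
theorem Q81618 : ∀ i, i < 81618 → P i := stepQ 81617 Q81617 (allL N81617 (tt N112431 F481073) (tt N112435 D215681) (tt N93166 (iv2 F399758)) (tt N47653 F276247) (tt N60188 F356894) (tt N47651 (iv5 D176875)) (tt N60187 (iv6 F356891)) (tt N111116 (iv7 F474742)))
theorem Q81619 : ∀ i, i < 81619 → P i := stepQ 81618 Q81618 (allL N81618 (tt N91863 F394752) (tt N58604 (iv0 F353281)) (tt N79333 F364240) (tt N47654 F276248) (tt N68590 (iv4 F336541)) (tt N55540 (iv5 F358124)) (tt N47651 (iv6 D176876)) (tt N71038 (iv7 F349863)))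
theorem Q81620 : ∀ i, i < 81620 → P i := stepQ 81619 Q81619 (allL N81619 (tt N75399 F353273) (tt N65076 F353250) (tt N75400 (iv2 F334020)) (tt N81800 F353274) (tt N47654 F276251) (tt N66503 F349871) (tt N47652 (iv6 D176877)) (tt N75391 F340644))
theorem Q81621 : ∀ i, i < 81621 → P i := stepQ 81620 Q81620 (allL N81620 (tt N47656 (iv1 F276254)) (tt N47653 (iv0 D176878)) (tt N50697 (iv2 F276253)) (tt N85747 (iv3 F373774)) (tt N112436 D215682) (tt N50696 F276252) (tt N88268 F382745) (tt N79851 F276255))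
theorem Q81622 : ∀ i, i < 81622 → P i := stepQ 81621 Q81621 (allL N81621 (tt N65060 F349873) (tt N81014 F349872) (tt N81012 F353244) (tt N55540 F358125) (tt N66506 (iv4 F349870)) (tt N47654 (iv5 D176883)) (tt N79856 F353276) (tt N81013 F338790))
theorem Q81623 : ∀ i, i < 81623 → P i := stepQ 81622 Q81622 (allL N81622 (tt N79593 (iv1 F336524)) (tt N64103 F336525) (tt N75398 (iv2 F349860)) (tt N71038 (iv3 F349861)) (tt N75391 (iv4 F349864)) (tt N81013 (iv5 F338789)) (tt N62113 F349850) (tt N47654 (iv7 D176884)))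
theorem Q81624 : ∀ i, i < 81624 → P i := stepQ 81623 Q81623 (allL N81623 (tt N85698 F382586) (tt N104415 F445656) (tt N88321 (iv2 F382578)) (tt N47656 F276258) (tt N88322 (iv4 F382584)) (tt N47655 (iv5 D176887)) (tt N83584 (iv6 F362561)) (tt N91872 (iv7 F394778)))
theorem Q81625 : ∀ i, i < 81625 → P i := stepQ 81624 Q81624 (allL N81624 (tt N91563 (iv1 F393669)) (tt N55575 (iv0 F378725)) (tt N71039 (iv2 F359862)) (tt N47657 F276259) (tt N51982 F358424) (tt N97217 (iv5 F415941)) (tt N47655 (iv6 D176888)) (tt N75397 (iv7 F358430)))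
theorem Q81626 : ∀ i, i < 81626 → P i := stepQ 81625 Q81625 (allL N81625 (tt N110952 (iv1 F473939)) (tt N88267 (iv0 F382411)) (tt N110954 (iv2 F473946)) (tt N49219 F382169) (tt N47656 (iv4 D176889)) (tt N111405 (iv5 F476205)) (tt N87889 F382170) (tt N110950 (iv7 F473930)))
theorem Q81627 : ∀ i, i < 81627 → P i := stepQ 81626 Q81626 (allL N81626 (tt N112433 F481086) (tt N87882 (iv0 F380953)) (tt N111117 (iv2 F474746)) (tt N83584 F362562) (tt N87889 F382168) (tt N97216 (iv5 F415934)) (tt N47656 (iv6 D176890)) (tt N88205 (iv7 F382164)))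
theorem Q81628 : ∀ i, i < 81628 → P i := stepQ 81627 Q81627 (allL N81627 (tt N47657 (iv1 D176892)) (tt N62113 F349851) (tt N58614 F349832) (tt N71032 F349833) (tt N48385 F349834) (tt N62505 (iv5 F349836)) (tt N91995 F395301) (tt N75396 F349835))
theorem Q81629 : ∀ i, i < 81629 → P i := stepQ 81628 Q81628 (allL N81628 (tt N62111 (iv1 F349840)) (tt N62110 F349844) (tt N62115 (iv2 F349838)) (tt N97217 (iv3 F415940)) (tt N62070 F349837) (tt N47657 (iv5 D176893)) (tt N97216 F415937) (tt N62103 (iv7 F349839)))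
theorem Q81630 : ∀ i, i < 81630 → P i := stepQ 81629 Q81629 (allL N81629 (tt N111122 (iv1 F474777)) (tt N111121 F474773) (tt N47661 F276260) (tt N112437 D215683) (tt N47658 (iv4 D176895)) (tt N64991 F276261) (tt N87876 (iv6 F380935)) (tt N111118 (iv7 F474754)))
theorem Q81631 : ∀ i, i < 81631 → P i := stepQ 81630 Q81630 (allL N81630 (tt N52069 (iv1 F378495)) (tt N51767 (iv0 F363510)) (tt N52066 F364487) (tt N47659 (iv3 D176897)) (tt N112438 D215684) (tt N68015 F363508) (tt N112439 D215685) (tt N52067 F364486))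
theorem Q81632 : ∀ i, i < 81632 → P i := stepQ 81631 Q81631 (allL N81631 (tt N108576 F463122) (tt N108586 F463163) (tt N108584 (iv2 F463154)) (tt N112440 D215686) (tt N47659 (iv4 D176898)) (tt N111403 (iv5 F476200)) (tt N86875 (iv6 F463123)) (tt N108583 F463149))
theorem Q81633 : ∀ i, i < 81633 → P i := stepQ 81632 Q81632 (allL N81632 (tt N112441 D215687) (tt N112442 D215688) (tt N111120 (iv2 F474769)) (tt N112439 (iv3 F481119)) (tt N86875 F463124) (tt N112443 D215689) (tt N47659 (iv6 D176899)) (tt N112421 (iv7 F481024)))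
theorem Q81634 : ∀ i, i < 81634 → P i := stepQ 81633 Q81633 (allL N81633 (tt N108586 (iv1 F463164)) (tt N108576 (iv0 F463121)) (tt N108583 F463148) (tt N85694 (iv3 F410096)) (tt N47660 (iv4 D176901)) (tt N96576 (iv5 F413057)) (tt N85691 F410095) (tt N108584 (iv7 F463151)))
theorem Q81635 : ∀ i, i < 81635 → P i := stepQ 81634 Q81634 (allL N81634 (tt N87861 F380885) (tt N87863 (iv0 F380889)) (tt N107597 (iv2 F458881)) (tt N87887 F380972) (tt N85691 (iv4 F410094)) (tt N73403 F373627) (tt N47660 (iv6 D176902)) (tt N88209 (iv7 F382190)))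
theorem Q81636 : ∀ i, i < 81636 → P i := stepQ 81635 Q81635 (allL N81635 (tt N111118 (iv1 F474756)) (tt N47661 (iv0 D176903)) (tt N111122 (iv2 F474781)) (tt N112444 D215690) (tt N85726 (iv4 F373677)) (tt N111435 (iv5 F476353)) (tt N112445 D215691) (tt N111121 F474776))
theorem Q81637 : ∀ i, i < 81637 → P i := stepQ 81636 Q81636 (allL N81636 (tt N47661 (iv1 D176904)) (tt N111118 (iv0 F474755)) (tt N111121 F474775) (tt N104833 (iv3 F447518)) (tt N85730 F373702) (tt N111432 (iv5 F476340)) (tt N112446 D215692) (tt N111122 (iv7 F474778)))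
theorem Q81638 : ∀ i, i < 81638 → P i := stepQ 81637 Q81637 (allL N81637 (tt N111070 (iv1 F474524)) (tt N112447 D215693) (tt N86544 (iv2 F376463)) (tt N47661 (iv3 D176905)) (tt N47667 F276263) (tt N112448 D215694) (tt N112449 D215695) (tt N52750 F276264))
theorem Q81639 : ∀ i, i < 81639 → P i := stepQ 81638 Q81638 (allL N81638 (tt N111409 (iv1 F476224)) (tt N111408 F476220) (tt N64991 F276265) (tt N112448 (iv3 F481148)) (tt N64988 F276266) (tt N47661 (iv5 D176906)) (tt N112450 D215696) (tt N111123 (iv7 F474787)))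
theorem Q81640 : ∀ i, i < 81640 → P i := stepQ 81639 Q81639 (allL N81639 (tt N112451 D215697) (tt N112452 D215698) (tt N87876 (iv2 F380934)) (tt N112449 (iv3 F481151)) (tt N47662 F276267) (tt N112453 D215699) (tt N47661 (iv6 D176907)) (tt N87870 (iv7 F380909)))
theorem Q81641 : ∀ i, i < 81641 → P i := stepQ 81640 Q81640 (allL N81640 (tt N51746 F343061) (tt N47662 (iv0 D176908)) (tt N48679 F343062) (tt N49214 F343063) (tt N88310 (iv4 F382544)) (tt N48678 F343064) (tt N88309 F382542) (tt N52047 F343065))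
theorem Q81642 : ∀ i, i < 81642 → P i := stepQ 81641 Q81641 (allL N81641 (tt N83812 (iv1 F289216)) (tt N83811 F289211) (tt N47663 (iv2 D176913)) (tt N74182 (iv3 F350475)) (tt N112454 D215700) (tt N54845 F276269) (tt N87883 (iv6 F380959)) (tt N83813 (iv7 F289214)))
theorem Q81643 : ∀ i, i < 81643 → P i := stepQ 81642 Q81642 (allL N81642 (tt N74095 F416422) (tt N104987 (iv0 F448280)) (tt N112454 (iv2 F481165)) (tt N51588 (iv3 F291650)) (tt N47663 (iv4 D176914)) (tt N112455 D215701) (tt N112456 D215702) (tt N83796 (iv7 F289175)))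
theorem Q81644 : ∀ i, i < 81644 → P i := stepQ 81643 Q81643 (allL N81643 (tt N85681 F445704) (tt N51751 F445705) (tt N87883 F380958) (tt N47664 F276271) (tt N112456 (iv4 F481172)) (tt N112457 D215703) (tt N47663 (iv6 D176915)) (tt N87884 (iv7 F380957)))
theorem Q81645 : ∀ i, i < 81645 → P i := stepQ 81644 Q81644 (allL N81644 (tt N83784 (iv1 F289103)) (tt N47664 (iv0 D176916)) (tt N83782 F369375) (tt N112458 D215704) (tt N51543 F369295) (tt N112459 D215705) (tt N112460 D215706) (tt N83783 F369373))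
theorem Q81646 : ∀ i, i < 81646 → P i := stepQ 81645 Q81645 (allL N81645 (tt N47664 (iv1 D176917)) (tt N83784 F289102) (tt N83783 (iv2 F369374)) (tt N112442 F481130) (tt N51544 F369378) (tt N112461 D215707) (tt N60266 (iv6 F369379)) (tt N83782 (iv7 F369377)))
theorem Q81647 : ∀ i, i < 81647 → P i := stepQ 81646 Q81646 (allL N81646 (tt N112462 D215708) (tt N112463 D215709) (tt N83774 (iv2 F289073)) (tt N112457 (iv3 F481175)) (tt N100553 F429441) (tt N47664 (iv5 D176918)) (tt N54847 F276272) (tt N112464 D215710))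
theorem Q81648 : ∀ i, i < 81648 → P i := stepQ 81647 Q81647 (allL N81647 (tt N83783 (iv1 F289098)) (tt N83782 F289101) (tt N83784 (iv2 F289099)) (tt N87884 F380956) (tt N51595 (iv4 F291656)) (tt N112464 (iv5 F481196)) (tt N83818 (iv6 F289224)) (tt N47664 (iv7 D176919)))
theorem Q81649 : ∀ i, i < 81649 → P i := stepQ 81648 Q81648 (allL N81648 (tt N108640 F463328) (tt N52018 F381340) (tt N99707 (iv2 F425836)) (tt N47666 F276277) (tt N88337 (iv4 F382642)) (tt N102867 F439012) (tt N47665 (iv6 D176924)) (tt N112465 D215711))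
theorem Q81650 : ∀ i, i < 81650 → P i := stepQ 81649 Q81649 (allL N81649 (tt N83818 (iv1 F289227)) (tt N47666 (iv0 D176925)) (tt N83815 F367382) (tt N87861 (iv3 F380882)) (tt N51530 (iv4 F368656)) (tt N49816 F353334) (tt N54549 (iv6 F353343)) (tt N83816 (iv7 F367397)))
theorem Q81651 : ∀ i, i < 81651 → P i := stepQ 81650 Q81650 (allL N81650 (tt N47666 (iv1 D176926)) (tt N83818 F289226) (tt N83816 (iv2 F367399)) (tt N105254 (iv3 F449404)) (tt N51531 F369406) (tt N96194 (iv5 F411434)) (tt N112466 D215712) (tt N83815 F367398))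
theorem Q81652 : ∀ i, i < 81652 → P i := stepQ 81651 Q81651 (allL N81651 (tt N109536 F467426) (tt N96186 (iv0 F411393)) (tt N83817 (iv2 F289220)) (tt N102867 (iv3 F439014)) (tt N90685 (iv4 F390518)) (tt N47666 (iv5 D176927)) (tt N54851 F276278) (tt N112467 D215713))
theorem Q81653 : ∀ i, i < 81653 → P i := stepQ 81652 Q81652 (allL N81652 (tt N83816 (iv1 F289219)) (tt N83815 F289225) (tt N83818 (iv2 F289222)) (tt N112465 (iv3 F481198)) (tt N51581 (iv4 F291645)) (tt N112467 (iv5 F481207)) (tt N83784 (iv6 F289100)) (tt N47666 (iv7 D176928)))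
theorem Q81654 : ∀ i, i < 81654 → P i := stepQ 81653 Q81653 (allL N81653 (tt N52077 F363536) (tt N104842 (iv0 F447560)) (tt N86545 (iv2 F376464)) (tt N47668 F276287) (tt N112449 (iv4 F481152)) (tt N85992 (iv5 F374777)) (tt N47667 (iv6 D176932)) (tt N108445 (iv7 F462606)))
theorem Q81655 : ∀ i, i < 81655 → P i := stepQ 81654 Q81654 (allL N81654 (tt N49860 (iv1 F276294)) (tt N47668 (iv0 D176933)) (tt N49858 (iv2 F364457)) (tt N95894 (iv3 F410126)) (tt N52691 F364456) (tt N108782 (iv5 F463907)) (tt N86653 (iv6 F376666)) (tt N49859 (iv7 F364458)))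
theorem Q81656 : ∀ i, i < 81656 → P i := stepQ 81655 Q81655 (allL N81655 (tt N47668 (iv1 D176934)) (tt N49860 F276288) (tt N49859 (iv2 F364459)) (tt N111267 (iv3 F475531)) (tt N85459 (iv4 F372695)) (tt N112468 D215714) (tt N95893 (iv6 F410121)) (tt N49858 F364460))
theorem Q81657 : ∀ i, i < 81657 → P i := stepQ 81656 Q81656 (allL N81656 (tt N49859 (iv1 F276295)) (tt N49858 F276296) (tt N49860 F276291) (tt N108445 (iv3 F462603)) (tt N47671 F276292) (tt N60929 F355647) (tt N52753 F276293) (tt N47668 (iv7 D176936)))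
theorem Q81658 : ∀ i, i < 81658 → P i := stepQ 81657 Q81657 (allL N81657 (tt N83807 F365434) (tt N49314 F365435) (tt N83805 (iv2 F365430)) (tt N69373 (iv3 F367059)) (tt N47669 (iv4 D176939)) (tt N69372 F367058) (tt N112469 D215715) (tt N83806 F365433))
theorem Q81659 : ∀ i, i < 81659 → P i := stepQ 81658 Q81658 (allL N81658 (tt N84870 (iv1 F370934)) (tt N84662 F370092) (tt N85453 F372671) (tt N49204 F365437) (tt N85435 F372633) (tt N47669 (iv5 D176940)) (tt N89944 F388066) (tt N84686 (iv7 F370224)))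
theorem Q81660 : ∀ i, i < 81660 → P i := stepQ 81659 Q81659 (allL N81659 (tt N112466 F481204) (tt N112470 D215716) (tt N108646 (iv2 F463345)) (tt N88267 (iv3 F382410)) (tt N112469 (iv4 F481216)) (tt N112471 D215717) (tt N47669 (iv6 D176941)) (tt N112472 D215718))
theorem Q81661 : ∀ i, i < 81661 → P i := stepQ 81660 Q81660 (allL N81660 (tt N49314 F364449) (tt N83807 F364450) (tt N83806 F365432) (tt N92994 (iv3 F399046)) (tt N47670 (iv4 D176944)) (tt N105782 (iv5 F451691)) (tt N92993 F399050) (tt N83805 (iv7 F365431)))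
theorem Q81662 : ∀ i, i < 81662 → P i := stepQ 81661 Q81661 (allL N81661 (tt N84662 F370093) (tt N84870 (iv0 F370933)) (tt N84686 (iv2 F370221)) (tt N55530 F364452) (tt N84752 (iv4 F370479)) (tt N47670 (iv5 D176945)) (tt N55528 (iv6 F364455)) (tt N85453 (iv7 F372673)))
theorem Q81663 : ∀ i, i < 81663 → P i := stepQ 81662 Q81662 (allL N81662 (tt N98304 (iv1 F420427)) (tt N112460 F481190) (tt N112060 (iv2 F479301)) (tt N108490 (iv3 F462809)) (tt N92993 (iv4 F399051)) (tt N112046 (iv5 F479242)) (tt N47670 (iv6 D176946)) (tt N112473 D215719))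
theorem Q81664 : ∀ i, i < 81664 → P i := stepQ 81663 Q81663 (allL N81663 (tt N105021 (iv1 F448416)) (tt N74529 (iv0 F348274)) (tt N64625 F276299) (tt N47673 F276300) (tt N64452 F276301) (tt N73393 (iv5 F349464)) (tt N47672 (iv6 D176947)) (tt N57442 F361518))
theorem Q81665 : ∀ i, i < 81665 → P i := stepQ 81664 Q81664 (allL N81664 (tt N112133 F479670) (tt N108055 (iv0 F460907)) (tt N64646 F359918) (tt N47674 (iv3 D176958)) (tt N64633 F276307) (tt N73662 (iv5 F347187)) (tt N105023 (iv6 F448429)) (tt N64650 (iv7 F359916)))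
theorem Q81666 : ∀ i, i < 81666 → P i := stepQ 81665 Q81665 (allL N81665 (tt N93899 F402340) (tt N106781 (iv0 F455655)) (tt N108871 (iv2 F464305)) (tt N47679 (iv3 D176987)) (tt N70544 (iv4 F348200)) (tt N80950 (iv5 F348197)) (tt N91545 (iv6 F393587)) (tt N110222 (iv7 F470502)))
theorem Q81667 : ∀ i, i < 81667 → P i := stepQ 81666 Q81666 (allL N81666 (tt N99552 (iv1 F425118)) (tt N73081 (iv0 F360013)) (tt N47735 F276353) (tt N80950 F348196) (tt N47770 F276354) (tt N47679 (iv5 D176988)) (tt N65544 F361645) (tt N47768 (iv7 F276355)))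
theorem Q81668 : ∀ i, i < 81668 → P i := stepQ 81667 Q81667 (allL N81667 (tt N65583 (iv1 F360405)) (tt N80230 (iv0 F296358)) (tt N47743 F276381) (tt N65565 F360020) (tt N73081 (iv4 F360011)) (tt N47681 (iv5 D176998)) (tt N93966 (iv6 F402632)) (tt N47751 F276382))
theorem Q81669 : ∀ i, i < 81669 → P i := stepQ 81668 Q81668 (allL N81668 (tt N60592 (iv1 F331148)) (tt N60591 (iv0 F331144)) (tt N47757 F276405) (tt N66039 (iv3 F332898)) (tt N109630 (iv4 F467835)) (tt N47683 (iv5 D177007)) (tt N111860 (iv6 F478354)) (tt N47753 F276406))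
theorem Q81670 : ∀ i, i < 81670 → P i := stepQ 81669 Q81669 (allL N81669 (tt N102292 (iv1 F436594)) (tt N47684 (iv0 D177013)) (tt N65958 (iv2 F365982)) (tt N97588 (iv3 F417490)) (tt N58160 F365958) (tt N65952 F365983) (tt N112474 D215720) (tt N102118 (iv7 F435824)))
theorem Q81671 : ∀ i, i < 81671 → P i := stepQ 81670 Q81670 (allL N81670 (tt N47684 (iv1 D177014)) (tt N102292 (iv0 F436593)) (tt N102118 (iv2 F435821)) (tt N65964 F365979) (tt N58159 (iv4 F365972)) (tt N65959 (iv5 F365980)) (tt N79732 F382534) (tt N65958 (iv7 F365981)))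
theorem Q81672 : ∀ i, i < 81672 → P i := stepQ 81671 Q81671 (allL N81671 (tt N65958 F406811) (tt N102118 F435826) (tt N47684 (iv2 D177015)) (tt N47763 F276419) (tt N91615 F393784) (tt N111595 (iv5 F477074)) (tt N78396 F276420) (tt N102292 (iv7 F436592)))
theorem Q81673 : ∀ i, i < 81673 → P i := stepQ 81672 Q81672 (allL N81672 (tt N100689 (iv1 F430029)) (tt N95816 (iv0 F409778)) (tt N111595 F477077) (tt N47685 F276421) (tt N112381 (iv4 F480828)) (tt N47684 (iv5 D177016)) (tt N60495 (iv6 F365984)) (tt N102022 (iv7 F435393)))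
theorem Q81674 : ∀ i, i < 81674 → P i := stepQ 81673 Q81673 (allL N81673 (tt N47685 (iv1 D177019)) (tt N47770 F276425) (tt N47767 F276598) (tt N97843 (iv3 F418471)) (tt N73761 F347428) (tt N79535 (iv5 F347427)) (tt N111673 (iv6 F477414)) (tt N47766 F276596))
theorem Q81675 : ∀ i, i < 81675 → P i := stepQ 81674 Q81674 (allL N81674 (tt N73081 (iv1 F360012)) (tt N99552 (iv0 F425117)) (tt N47768 F276426) (tt N101686 (iv3 F433863)) (tt N47685 (iv4 D177020)) (tt N47736 F276427) (tt N107746 (iv6 F459523)) (tt N47735 (iv7 F276428)))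
theorem Q81676 : ∀ i, i < 81676 → P i := stepQ 81675 Q81675 (allL N81675 (tt N82565 F365986) (tt N112475 D215721) (tt N47769 F276429) (tt N60495 F365985) (tt N107746 (iv4 F459522)) (tt N55602 F276430) (tt N47685 (iv6 D177021)) (tt N107751 (iv7 F459555)))
theorem Q81677 : ∀ i, i < 81677 → P i := stepQ 81676 Q81676 (allL N81676 (tt N77595 F343396) (tt N80826 (iv0 F343387)) (tt N80629 F276441) (tt N80846 F276442) (tt N47688 F276443) (tt N95779 (iv5 F409605)) (tt N47686 (iv6 D177024)) (tt N101694 (iv7 F433903)))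
theorem Q81678 : ∀ i, i < 81678 → P i := stepQ 81677 Q81677 (allL N81677 (tt N92580 (iv1 F397472)) (tt N80479 (iv0 F344909)) (tt N87699 (iv2 F380174)) (tt N85806 F374037) (tt N85808 (iv4 F374046)) (tt N47688 (iv5 D177028)) (tt N102947 (iv6 F439381)) (tt N101695 (iv7 F433907)))
theorem Q81679 : ∀ i, i < 81679 → P i := stepQ 81678 Q81678 (allL N81678 (tt N64646 F333734) (tt N64650 (iv0 F346683)) (tt N108055 (iv2 F460902)) (tt N47691 F276447) (tt N77197 F276448) (tt N112476 D215722) (tt N47689 (iv6 D177030)) (tt N112133 (iv7 F479668)))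
theorem Q81680 : ∀ i, i < 81680 → P i := stepQ 81679 Q81679 (allL N81679 (tt N47710 F348721) (tt N91538 F393551) (tt N80451 F276449) (tt N100583 (iv3 F429556)) (tt N63909 F276450) (tt N99436 (iv5 F424569)) (tt N47690 (iv6 D177031)) (tt N91537 (iv7 F393543)))
theorem Q81681 : ∀ i, i < 81681 → P i := stepQ 81680 Q81680 (allL N81680 (tt N47731 F360252) (tt N107145 (iv0 F457194)) (tt N77772 F351494) (tt N112476 (iv3 F481238)) (tt N100447 (iv4 F429017)) (tt N47691 (iv5 D177034)) (tt N99436 (iv6 F424568)) (tt N107660 (iv7 F459129)))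
theorem Q81682 : ∀ i, i < 81682 → P i := stepQ 81681 Q81681 (allL N81681 (tt N47696 F276453) (tt N47692 (iv0 D177036)) (tt N47693 F357092) (tt N105021 F448419) (tt N80635 F276452) (tt N73105 F340798) (tt N79534 (iv6 F335262)) (tt N47694 F357093))
theorem Q81683 : ∀ i, i < 81683 → P i := stepQ 81682 Q81682 (allL N81682 (tt N47692 (iv1 D177037)) (tt N47696 F276454) (tt N47694 F357097) (tt N68422 (iv3 F357100)) (tt N112074 (iv4 F479369)) (tt N73104 (iv5 F357101)) (tt N48407 F357098) (tt N47693 F357099))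
theorem Q81684 : ∀ i, i < 81684 → P i := stepQ 81683 Q81683 (allL N81683 (tt N112477 D215723) (tt N110591 F472274) (tt N47695 F276455) (tt N80085 F344486) (tt N108264 (iv4 F461771)) (tt N47692 (iv5 D177038)) (tt N102877 (iv6 F439064)) (tt N76042 (iv7 F344484)))
theorem Q81685 : ∀ i, i < 81685 → P i := stepQ 81684 Q81684 (allL N81684 (tt N63831 F362751) (tt N80021 F357109) (tt N80635 F357111) (tt N103101 (iv3 F440079)) (tt N47693 (iv4 D177042)) (tt N110507 (iv5 F471898)) (tt N100307 (iv6 F428362)) (tt N112074 (iv7 F479372)))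
theorem Q81686 : ∀ i, i < 81686 → P i := stepQ 81685 Q81685 (allL N81685 (tt N75818 F357087) (tt N48432 F357088) (tt N79534 F357091) (tt N74531 F357089) (tt N100307 (iv4 F428359)) (tt N92610 (iv5 F397643)) (tt N47693 (iv6 D177044)) (tt N48419 F357090))
theorem Q81687 : ∀ i, i < 81687 → P i := stepQ 81686 Q81686 (allL N81686 (tt N64625 (iv1 F361519)) (tt N57442 (iv0 F348282)) (tt N74529 F348271) (tt N47694 (iv3 D177046)) (tt N48774 F312607) (tt N72784 F363475) (tt N48420 F312608) (tt N105021 (iv7 F448417)))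
theorem Q81688 : ∀ i, i < 81688 → P i := stepQ 81687 Q81687 (allL N81687 (tt N80021 (iv1 F357112)) (tt N63831 (iv0 F331890)) (tt N112074 (iv2 F479368)) (tt N63503 (iv3 F276463)) (tt N47694 (iv4 D177047)) (tt N112478 D215724) (tt N48421 F313123) (tt N80635 F357095))
theorem Q81689 : ∀ i, i < 81689 → P i := stepQ 81688 Q81688 (allL N81688 (tt N72236 (iv1 F341118)) (tt N73101 (iv0 F344473)) (tt N73104 F357103) (tt N72784 (iv3 F363473)) (tt N74348 (iv4 F361613)) (tt N47694 (iv5 D177048)) (tt N72221 F344472) (tt N73105 F357096))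
theorem Q81690 : ∀ i, i < 81690 → P i := stepQ 81689 Q81689 (allL N81689 (tt N76042 (iv1 F344485)) (tt N47695 (iv0 D177050)) (tt N112477 F481247) (tt N74518 (iv3 F408616)) (tt N95399 F408615) (tt N104257 (iv5 F444976)) (tt N109001 (iv6 F464843)) (tt N110591 (iv7 F472270)))
theorem Q81691 : ∀ i, i < 81691 → P i := stepQ 81690 Q81690 (allL N81690 (tt N47695 (iv1 D177051)) (tt N76042 F344487) (tt N110591 F472272) (tt N112479 D215725) (tt N100504 (iv4 F453160)) (tt N107899 (iv5 F460180)) (tt N108266 (iv6 F461784)) (tt N112477 (iv7 F481249)))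
theorem Q81692 : ∀ i, i < 81692 → P i := stepQ 81691 Q81691 (allL N81691 (tt N110591 F472273) (tt N112477 F481248) (tt N76042 F344480) (tt N47699 F276464) (tt N76248 F344481) (tt N47696 F276465) (tt N63158 (iv6 F344479)) (tt N47695 (iv7 D177053)))
theorem Q81693 : ∀ i, i < 81693 → P i := stepQ 81692 Q81692 (allL N81692 (tt N57452 (iv1 F366298)) (tt N73360 F366299) (tt N70459 (iv2 F366296)) (tt N47697 (iv3 D177054)) (tt N89534 (iv4 F386722)) (tt N80350 (iv5 F366297)) (tt N95613 (iv6 F408889)) (tt N73346 F366295))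
theorem Q81694 : ∀ i, i < 81694 → P i := stepQ 81693 Q81693 (allL N81693 (tt N73181 F350104) (tt N73179 F350105) (tt N59888 (iv2 F350107)) (tt N95613 (iv3 F408887)) (tt N107935 (iv4 F460361)) (tt N80352 F341075) (tt N47697 (iv6 D177055)) (tt N73576 F350106))
theorem Q81695 : ∀ i, i < 81695 → P i := stepQ 81694 Q81694 (allL N81694 (tt N64236 (iv1 F366385)) (tt N47698 (iv0 D177056)) (tt N77495 (iv2 F312869)) (tt N94977 F406563) (tt N52356 F276466) (tt N96727 (iv5 F413634)) (tt N108921 (iv6 F464492)) (tt N77494 (iv7 F312873)))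
theorem Q81696 : ∀ i, i < 81696 → P i := stepQ 81695 Q81695 (allL N81695 (tt N47698 (iv1 D177057)) (tt N64236 (iv0 F366384)) (tt N77494 (iv2 F312872)) (tt N100374 (iv3 F428656)) (tt N52357 F276470) (tt N107906 (iv5 F460208)) (tt N73573 F361963) (tt N77495 (iv7 F312870)))
theorem Q81697 : ∀ i, i < 81697 → P i := stepQ 81696 Q81696 (allL N81696 (tt N93618 F402110) (tt N108935 F464564) (tt N108934 (iv2 F464558)) (tt N47698 (iv3 D177058)) (tt N106109 (iv4 F453157)) (tt N93483 F402109) (tt N96086 (iv6 F410981)) (tt N77514 (iv7 F366602)))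
theorem Q81698 : ∀ i, i < 81698 → P i := stepQ 81697 Q81697 (allL N81697 (tt N94693 (iv1 F405559)) (tt N94689 F405539) (tt N80091 F350061) (tt N93483 (iv3 F402108)) (tt N64238 (iv4 F350071)) (tt N47698 (iv5 D177059)) (tt N93481 F402107) (tt N59433 F350058))
theorem Q81699 : ∀ i, i < 81699 → P i := stepQ 81698 Q81698 (allL N81698 (tt N54963 F276480) (tt N80760 F350147) (tt N79271 F276476) (tt N47702 F276477) (tt N61003 F276479) (tt N47700 (iv5 D177062)) (tt N99356 (iv6 F424251)) (tt N76621 F276478))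
theorem Q81700 : ∀ i, i < 81700 → P i := stepQ 81699 Q81699 (allL N81699 (tt N74403 (iv1 F316301)) (tt N47709 (iv0 D177127)) (tt N78307 (iv2 F341015)) (tt N68420 (iv3 F341016)) (tt N74679 (iv4 F350137)) (tt N80474 (iv5 F276548)) (tt N68411 (iv6 F350140)) (tt N78310 F341014))
theorem Q81701 : ∀ i, i < 81701 → P i := stepQ 81700 Q81700 (allL N81700 (tt N91537 (iv1 F393547)) (tt N80451 F348685) (tt N47710 (iv2 D177139)) (tt N91535 (iv3 F393530)) (tt N109093 (iv4 F465303)) (tt N94455 (iv5 F404537)) (tt N74438 F366833) (tt N91538 (iv7 F393549)))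
theorem Q81702 : ∀ i, i < 81702 → P i := stepQ 81701 Q81701 (allL N81701 (tt N99790 F426229) (tt N101291 (iv0 F432560)) (tt N109093 (iv2 F465301)) (tt N49738 (iv3 F357199)) (tt N47710 (iv4 D177140)) (tt N99942 F426898) (tt N80013 F366834) (tt N91539 (iv7 F393554)))
theorem Q81703 : ∀ i, i < 81703 → P i := stepQ 81702 Q81702 (allL N81702 (tt N76687 F348722) (tt N77998 F404539) (tt N94455 F404535) (tt N47712 F276558) (tt N99964 F426984) (tt N47710 (iv5 D177141)) (tt N99212 (iv6 F423704)) (tt N91540 (iv7 F393559)))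
theorem Q81704 : ∀ i, i < 81704 → P i := stepQ 81703 Q81703 (allL N81703 (tt N54476 F348025) (tt N90957 F391370) (tt N87193 (iv2 F378660)) (tt N89914 (iv3 F387986)) (tt N59183 F346808) (tt N47711 (iv5 D177147)) (tt N59181 F346809) (tt N87196 (iv7 F378702)))
theorem Q81705 : ∀ i, i < 81705 → P i := stepQ 81704 Q81704 (allL N81704 (tt N71983 (iv1 F348030)) (tt N82237 (iv0 F348028)) (tt N92231 (iv2 F396381)) (tt N47716 F276573) (tt N74795 F348029) (tt N82232 (iv5 F348032)) (tt N47713 (iv6 D177163)) (tt N82576 F348031))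
theorem Q81706 : ∀ i, i < 81706 → P i := stepQ 81705 Q81705 (allL N81705 (tt N90957 (iv1 F391369)) (tt N54476 F348026) (tt N87196 (iv2 F378701)) (tt N92644 (iv3 F397733)) (tt N112480 D215726) (tt N47714 (iv5 D177164)) (tt N91642 (iv6 F393868)) (tt N87193 (iv7 F378662)))
theorem Q81707 : ∀ i, i < 81707 → P i := stepQ 81706 Q81706 (allL N81706 (tt N58886 F348027) (tt N52465 (iv0 F361115)) (tt N87197 (iv2 F378705)) (tt N92645 (iv3 F397737)) (tt N47716 F276574) (tt N59833 F346803) (tt N47714 (iv6 D177165)) (tt N87203 (iv7 F378748)))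
theorem Q81708 : ∀ i, i < 81708 → P i := stepQ 81707 Q81707 (allL N81707 (tt N99437 (iv1 F424572)) (tt N99436 (iv0 F424571)) (tt N99439 (iv2 F424583)) (tt N47717 (iv3 D177173)) (tt N98930 F422813) (tt N66728 (iv5 F341009)) (tt N107625 (iv6 F458990)) (tt N91543 (iv7 F393580)))
theorem Q81709 : ∀ i, i < 81709 → P i := stepQ 81708 Q81708 (allL N81708 (tt N74601 (iv1 F357270)) (tt N72688 (iv0 F361889)) (tt N74603 (iv2 F357273)) (tt N112481 D215727) (tt N47717 (iv4 D177174)) (tt N112482 D215728) (tt N74597 (iv6 F357274)) (tt N57193 F357272))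
theorem Q81710 : ∀ i, i < 81710 → P i := stepQ 81709 Q81709 (allL N81709 (tt N99426 (iv1 F424520)) (tt N65385 (iv0 F341025)) (tt N78129 (iv2 F363149)) (tt N107625 (iv3 F458988)) (tt N74597 F357275) (tt N68569 (iv5 F341024)) (tt N47717 (iv6 D177176)) (tt N74594 (iv7 F357276)))
theorem Q81711 : ∀ i, i < 81711 → P i := stepQ 81710 Q81710 (allL N81710 (tt N79446 F346563) (tt N97018 F415056) (tt N108868 (iv2 F464300)) (tt N47718 (iv3 D177183)) (tt N81147 F346559) (tt N112483 D215729) (tt N47734 F276578) (tt N108977 (iv7 F464739)))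
theorem Q81712 : ∀ i, i < 81712 → P i := stepQ 81711 Q81711 (allL N81711 (tt N108327 (iv1 F462080)) (tt N93749 (iv0 F401757)) (tt N91546 (iv2 F393589)) (tt N112483 (iv3 F481282)) (tt N91578 (iv4 F393690)) (tt N47718 (iv5 D177184)) (tt N96346 F412167) (tt N91577 F393689))
theorem Q81713 : ∀ i, i < 81713 → P i := stepQ 81712 Q81712 (allL N81712 (tt N77620 (iv1 F342335)) (tt N77619 (iv0 F342333)) (tt N80838 (iv2 F342334)) (tt N109297 (iv3 F466252)) (tt N47720 (iv4 D177188)) (tt N68550 (iv5 F342338)) (tt N101694 (iv6 F433902)) (tt N68549 F342336))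
theorem Q81714 : ∀ i, i < 81714 → P i := stepQ 81713 Q81713 (allL N81713 (tt N107145 (iv1 F457195)) (tt N47731 F359938) (tt N107660 F459127) (tt N63179 (iv3 F359934)) (tt N100446 (iv4 F429009)) (tt N47720 (iv5 D177189)) (tt N104660 (iv6 F446743)) (tt N77772 F351495))
theorem Q81715 : ∀ i, i < 81715 → P i := stepQ 81714 Q81714 (allL N81714 (tt N47722 (iv1 D177199)) (tt N78176 F351500) (tt N94469 F404602) (tt N99493 F424839) (tt N78016 (iv4 F351501)) (tt N80345 F351503) (tt N107519 (iv6 F458636)) (tt N99240 (iv7 F423820)))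
theorem Q81716 : ∀ i, i < 81716 → P i := stepQ 81715 Q81715 (allL N81715 (tt N62549 (iv1 F351505)) (tt N61934 (iv0 F351561)) (tt N62502 F351517) (tt N62004 F351523) (tt N47722 (iv4 D177200)) (tt N82106 F344874) (tt N62003 (iv6 F351520)) (tt N48023 F351518))
theorem Q81717 : ∀ i, i < 81717 → P i := stepQ 81716 Q81716 (allL N81716 (tt N47723 (iv1 D177203)) (tt N68455 F344128) (tt N68457 (iv2 F344129)) (tt N112484 D215730) (tt N95784 (iv4 F409626)) (tt N80477 (iv5 F344130)) (tt N48424 F344133) (tt N68451 F344132))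
theorem Q81718 : ∀ i, i < 81718 → P i := stepQ 81717 Q81717 (allL N81717 (tt N47741 F276593) (tt N47742 F276594) (tt N64064 F276590) (tt N97844 (iv3 F418476)) (tt N47724 (iv4 D177204)) (tt N47766 F276592) (tt N48251 F276591) (tt N79535 F299407))
theorem Q81719 : ∀ i, i < 81719 → P i := stepQ 81718 Q81718 (allL N81718 (tt N47730 (iv1 F276604)) (tt N47727 (iv0 D177210)) (tt N57152 (iv2 F318312)) (tt N93821 (iv3 F402039)) (tt N62449 (iv4 F322213)) (tt N95059 (iv5 F406890)) (tt N103167 F440376) (tt N73750 (iv7 F322204)))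
theorem Q81720 : ∀ i, i < 81720 → P i := stepQ 81719 Q81719 (allL N81719 (tt N65048 (iv1 F351530)) (tt N65046 (iv0 F351527)) (tt N79182 F351537) (tt N47727 (iv3 D177212)) (tt N62004 (iv4 F351524)) (tt N73209 F351528) (tt N57071 F351536) (tt N79181 (iv7 F351535)))
theorem Q81721 : ∀ i, i < 81721 → P i := stepQ 81720 Q81720 (allL N81720 (tt N111871 (iv1 F478425)) (tt N93484 (iv0 F400878)) (tt N73761 (iv2 F361746)) (tt N73209 (iv3 F351538)) (tt N47767 (iv4 F276607)) (tt N47727 (iv5 D177213)) (tt N93440 (iv6 F400748)) (tt N101648 (iv7 F433687)))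
theorem Q81722 : ∀ i, i < 81722 → P i := stepQ 81721 Q81721 (allL N81721 (tt N93484 (iv1 F400879)) (tt N111871 (iv0 F478424)) (tt N101648 F433690) (tt N106096 (iv3 F453090)) (tt N47766 F276639) (tt N47730 (iv5 D177245)) (tt N112485 D215731) (tt N73761 (iv7 F361747)))
theorem Q81723 : ∀ i, i < 81723 → P i := stepQ 81722 Q81722 (allL N81722 (tt N76865 F360253) (tt N76866 (iv0 F366734)) (tt N76822 F359512) (tt N111365 (iv3 F476024)) (tt N47731 (iv4 D177255)) (tt N95800 (iv5 F409712)) (tt N67066 (iv6 F359513)) (tt N99035 (iv7 F423099)))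
theorem Q81724 : ∀ i, i < 81724 → P i := stepQ 81723 Q81723 (allL N81723 (tt N106788 F455686) (tt N106786 F455689) (tt N58250 (iv2 F365121)) (tt N47733 (iv3 D177280)) (tt N110434 (iv4 F471574)) (tt N58240 F365120) (tt N110024 (iv6 F469602)) (tt N106785 (iv7 F455671)))
theorem Q81725 : ∀ i, i < 81725 → P i := stepQ 81724 Q81724 (allL N81724 (tt N96660 F413355) (tt N110223 F470507) (tt N57920 (iv2 F331136)) (tt N58240 (iv3 F365117)) (tt N47753 F276661) (tt N47733 (iv5 D177281)) (tt N57918 F331158) (tt N109630 (iv7 F467837)))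
theorem Q81726 : ∀ i, i < 81726 → P i := stepQ 81725 Q81725 (allL N81725 (tt N101682 F433850) (tt N47734 (iv0 D177283)) (tt N65054 (iv2 F351541)) (tt N55265 (iv3 F353011)) (tt N91409 (iv4 F393023)) (tt N65053 F351540) (tt N55263 F353010) (tt N101685 (iv7 F433860)))
theorem Q81727 : ∀ i, i < 81727 → P i := stepQ 81726 Q81726 (allL N81726 (tt N47734 (iv1 D177284)) (tt N101682 (iv0 F433849)) (tt N101685 F433858) (tt N58301 (iv3 F351545)) (tt N95802 (iv4 F409726)) (tt N58296 (iv5 F351546)) (tt N110186 F470323) (tt N65054 F351544))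
theorem Q81728 : ∀ i, i < 81728 → P i := stepQ 81727 Q81727 (allL N81727 (tt N65054 F433811) (tt N101685 F433859) (tt N47734 (iv2 D177285)) (tt N108871 (iv3 F464306)) (tt N101675 F433812) (tt N111372 F476056) (tt N108868 F464301) (tt N101682 (iv7 F433848)))
theorem Q81729 : ∀ i, i < 81729 → P i := stepQ 81728 Q81728 (allL N81728 (tt N111373 (iv1 F476063)) (tt N78735 (iv0 F351539)) (tt N111372 F476055) (tt N47735 F276662) (tt N81001 (iv4 F393025)) (tt N47734 (iv5 D177286)) (tt N82422 (iv6 F351542)) (tt N101686 (iv7 F433864)))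
theorem Q81730 : ∀ i, i < 81730 → P i := stepQ 81729 Q81729 (allL N81729 (tt N47735 (iv1 D177288)) (tt N47768 F276666) (tt N73081 (iv2 F360009)) (tt N81231 F333029) (tt N47743 (iv4 F276668)) (tt N47749 F276667) (tt N81227 (iv6 F333028)) (tt N99552 (iv7 F425116)))
theorem Q81731 : ∀ i, i < 81731 → P i := stepQ 81730 Q81730 (allL N81730 (tt N58990 F363310) (tt N65546 F410322) (tt N65544 (iv2 F361646)) (tt N82422 F351543) (tt N102020 (iv4 F435380)) (tt N96346 (iv5 F412165)) (tt N47735 (iv6 D177289)) (tt N65545 (iv7 F361648)))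
theorem Q81732 : ∀ i, i < 81732 → P i := stepQ 81731 Q81731 (allL N81731 (tt N107934 F460359) (tt N78251 (iv0 F366614)) (tt N108984 (iv2 F464770)) (tt N97410 F416764) (tt N47737 F276669) (tt N71921 (iv5 F355523)) (tt N47736 (iv6 D177290)) (tt N82235 F363403))
theorem Q81733 : ∀ i, i < 81733 → P i := stepQ 81732 Q81732 (allL N81732 (tt N97765 F418218) (tt N111596 (iv0 F477086)) (tt N102338 (iv2 F436792)) (tt N47741 (iv3 D177331)) (tt N79169 (iv4 F364151)) (tt N102332 (iv5 F436770)) (tt N79540 F364150) (tt N67450 (iv7 F364149)))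
theorem Q81734 : ∀ i, i < 81734 → P i := stepQ 81733 Q81733 (allL N81733 (tt N79532 (iv1 F325524)) (tt N80207 (iv0 F297571)) (tt N80227 (iv2 F299622)) (tt N102332 F436771) (tt N94732 (iv4 F405715)) (tt N47741 (iv5 D177332)) (tt N111831 F478198) (tt N80228 (iv7 F299626)))
theorem Q81735 : ∀ i, i < 81735 → P i := stepQ 81734 Q81734 (allL N81734 (tt N80374 F363866) (tt N56978 (iv0 F357892)) (tt N111011 (iv2 F474235)) (tt N47742 (iv3 D177333)) (tt N47778 F276715) (tt N81206 (iv5 F346595)) (tt N79706 (iv6 F299562)) (tt N79516 F276717))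
theorem Q81736 : ∀ i, i < 81736 → P i := stepQ 81735 Q81735 (allL N81735 (tt N80207 (iv1 F297572)) (tt N79532 (iv0 F325523)) (tt N80228 (iv2 F299625)) (tt N81206 F334681) (tt N94731 (iv4 F405713)) (tt N47742 (iv5 D177334)) (tt N86952 F377816) (tt N80227 (iv7 F299623)))
theorem Q81737 : ∀ i, i < 81737 → P i := stepQ 81736 Q81736 (allL N81736 (tt N47743 (iv1 D177345)) (tt N47751 F276729) (tt N80230 (iv2 F296360)) (tt N111939 (iv3 F478771)) (tt N93839 F402097) (tt N47752 F276730) (tt N66595 (iv6 F331160)) (tt N65583 (iv7 F360408)))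
theorem Q81738 : ∀ i, i < 81738 → P i := stepQ 81737 Q81737 (allL N81737 (tt N66588 F365130) (tt N97771 F418245) (tt N93966 F402634) (tt N97842 (iv3 F418468)) (tt N81227 F333030) (tt N60526 (iv5 F362140)) (tt N47743 (iv6 D177346)) (tt N97769 (iv7 F418238)))
theorem Q81739 : ∀ i, i < 81739 → P i := stepQ 81738 Q81738 (allL N81738 (tt N80093 (iv1 F299600)) (tt N67987 (iv0 F354343)) (tt N80500 F276733) (tt N60120 (iv3 F365967)) (tt N111990 (iv4 F478986)) (tt N47744 (iv5 D177347)) (tt N60526 F345928) (tt N82547 F365968))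
theorem Q81740 : ∀ i, i < 81740 → P i := stepQ 81739 Q81739 (allL N81739 (tt N95163 F407275) (tt N95159 (iv0 F407265)) (tt N112486 D215732) (tt N47749 (iv3 D177368)) (tt N107217 (iv4 F457488)) (tt N81231 (iv5 F333031)) (tt N78181 F333032) (tt N99551 (iv7 F425109)))
theorem Q81741 : ∀ i, i < 81741 → P i := stepQ 81740 Q81740 (allL N81740 (tt N112487 D215733) (tt N101083 (iv0 F431594)) (tt N112488 D215734) (tt N47752 (iv3 D177389)) (tt N64976 F276772) (tt N111939 (iv5 F478770)) (tt N51617 F276773) (tt N80231 (iv7 F363329)))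
theorem Q81742 : ∀ i, i < 81742 → P i := stepQ 81741 Q81741 (allL N81741 (tt N47757 (iv1 F276779)) (tt N47753 (iv0 D177395)) (tt N60591 (iv2 F331145)) (tt N102343 (iv3 F436818)) (tt N95059 (iv4 F406891)) (tt N74654 (iv5 F326466)) (tt N96651 F413335) (tt N60592 (iv7 F331151)))
theorem Q81743 : ∀ i, i < 81743 → P i := stepQ 81742 Q81742 (allL N81742 (tt N47753 (iv1 D177396)) (tt N47757 F276782) (tt N60592 (iv2 F331149)) (tt N96541 (iv3 F412917)) (tt N73987 (iv4 F358853)) (tt N74655 (iv5 F326472)) (tt N82021 (iv6 F360412)) (tt N60591 (iv7 F331147)))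
theorem Q81744 : ∀ i, i < 81744 → P i := stepQ 81743 Q81743 (allL N81743 (tt N87696 (iv1 F380161)) (tt N103577 (iv0 F442103)) (tt N60590 (iv2 F331163)) (tt N92062 F395584) (tt N85959 (iv4 F374624)) (tt N47754 (iv5 D177400)) (tt N60586 F331159) (tt N65118 F276796))
theorem Q81745 : ∀ i, i < 81745 → P i := stepQ 81744 Q81744 (allL N81744 (tt N55652 (iv1 F361394)) (tt N47756 (iv0 D177408)) (tt N60598 (iv2 F361390)) (tt N112489 D215735) (tt N102342 (iv4 F436813)) (tt N65572 F361392) (tt N52362 F361395) (tt N60597 (iv7 F361391)))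
theorem Q81746 : ∀ i, i < 81746 → P i := stepQ 81745 Q81745 (allL N81745 (tt N102119 F435832) (tt N112003 (iv0 F479035)) (tt N111860 (iv2 F478352)) (tt N55661 F365122) (tt N58280 (iv4 F365123)) (tt N87769 (iv5 F380444)) (tt N47757 (iv6 D177413)) (tt N55658 (iv7 F365124)))
theorem Q81747 : ∀ i, i < 81747 → P i := stepQ 81746 Q81746 (allL N81746 (tt N47758 (iv1 D177422)) (tt N82537 F358239) (tt N86959 (iv2 F377860)) (tt N97596 (iv3 F417532)) (tt N111475 (iv4 F476520)) (tt N111591 (iv5 F477052)) (tt N78398 F377861) (tt N101984 (iv7 F435222)))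
theorem Q81748 : ∀ i, i < 81748 → P i := stepQ 81747 Q81747 (allL N81747 (tt N101984 (iv1 F435224)) (tt N86959 F377859) (tt N47758 (iv2 D177423)) (tt N65986 (iv3 F358237)) (tt N112077 (iv4 F479384)) (tt N65982 F358235) (tt N103255 F440818) (tt N82537 (iv7 F358238)))
theorem Q81749 : ∀ i, i < 81749 → P i := stepQ 81748 Q81748 (allL N81748 (tt N82535 (iv1 F358233)) (tt N82534 F358236) (tt N65982 (iv2 F358231)) (tt N47759 F276844) (tt N71053 F358234) (tt N47758 (iv5 D177424)) (tt N65981 (iv6 F342875)) (tt N82536 F358230))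
theorem Q81750 : ∀ i, i < 81750 → P i := stepQ 81749 Q81749 (allL N81749 (tt N58268 F353617) (tt N58265 F358845) (tt N58681 (iv2 F358837)) (tt N65981 (iv3 F342873)) (tt N58688 F358843) (tt N67305 F341763) (tt N47759 (iv6 D177428)) (tt N65987 F358835))
theorem Q81751 : ∀ i, i < 81751 → P i := stepQ 81750 Q81750 (allL N81750 (tt N65095 F276856) (tt N65136 F276857) (tt N65133 F276854) (tt N67306 F341761) (tt N67592 F341762) (tt N47760 (iv5 D177429)) (tt N67305 (iv6 F341759)) (tt N65132 F276855))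
theorem Q81752 : ∀ i, i < 81752 → P i := stepQ 81751 Q81751 (allL N81751 (tt N47762 (iv1 F276863)) (tt N47761 (iv0 D177438)) (tt N47765 (iv2 F276860)) (tt N102292 (iv3 F436590)) (tt N47793 F276861) (tt N81211 F342128) (tt N60422 (iv6 F357906)) (tt N47763 F276862))
theorem Q81753 : ∀ i, i < 81753 → P i := stepQ 81752 Q81752 (allL N81752 (tt N99712 (iv1 F425862)) (tt N97609 (iv0 F417586)) (tt N96893 (iv2 F414475)) (tt N47761 (iv3 D177440)) (tt N91856 (iv4 F394719)) (tt N56223 (iv5 F355898)) (tt N91855 (iv6 F394716)) (tt N93913 (iv7 F402412)))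
theorem Q81754 : ∀ i, i < 81754 → P i := stepQ 81753 Q81753 (allL N81753 (tt N78413 F355890) (tt N80736 (iv0 F342132)) (tt N97390 (iv2 F416668)) (tt N56223 (iv3 F355897)) (tt N79765 (iv4 F355888)) (tt N47761 (iv5 D177442)) (tt N56220 F355889) (tt N112284 (iv7 F480354)))
theorem Q81755 : ∀ i, i < 81755 → P i := stepQ 81754 Q81754 (allL N81754 (tt N88509 F383326) (tt N79742 F383327) (tt N90427 (iv2 F389609)) (tt N91855 F394714) (tt N91857 (iv4 F394726)) (tt N52958 (iv5 F383328)) (tt N47761 (iv6 D177443)) (tt N90428 (iv7 F389611)))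
theorem Q81756 : ∀ i, i < 81756 → P i := stepQ 81755 Q81755 (allL N81755 (tt N47763 F341723) (tt N47765 F341724) (tt N47762 F276865) (tt N93913 F402415) (tt N102262 (iv4 F436435)) (tt N112284 (iv5 F480349)) (tt N60645 (iv6 F361880)) (tt N47761 (iv7 D177444)))
theorem Q81757 : ∀ i, i < 81757 → P i := stepQ 81756 Q81756 (allL N81756 (tt N80736 F355906) (tt N78413 F342134) (tt N112284 F480352) (tt N101990 (iv3 F435248)) (tt N79764 (iv4 F355885)) (tt N47762 (iv5 D177446)) (tt N112490 D215736) (tt N97390 F416672))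
theorem Q81758 : ∀ i, i < 81758 → P i := stepQ 81757 Q81757 (allL N81757 (tt N102135 (iv1 F435896)) (tt N103238 (iv0 F440718)) (tt N47764 F276867) (tt N111595 (iv3 F477076)) (tt N79222 (iv4 F342119)) (tt N47763 (iv5 D177449)) (tt N88682 (iv6 F383874)) (tt N81211 F342129))
theorem Q81759 : ∀ i, i < 81759 → P i := stepQ 81758 Q81758 (allL N81758 (tt N81211 (iv1 F342130)) (tt N47764 (iv0 D177450)) (tt N102135 (iv2 F435892)) (tt N97620 (iv3 F417630)) (tt N90503 (iv4 F389861)) (tt N80374 (iv5 F363868)) (tt N97619 (iv6 F417625)) (tt N103238 (iv7 F440717)))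
theorem Q81760 : ∀ i, i < 81760 → P i := stepQ 81759 Q81759 (allL N81759 (tt N47764 (iv1 D177451)) (tt N81211 F342131) (tt N103238 (iv2 F440714)) (tt N56979 (iv3 F357905)) (tt N90396 (iv4 F389507)) (tt N56978 F357893) (tt N103237 (iv6 F440710)) (tt N102135 (iv7 F435894)))
theorem Q81761 : ∀ i, i < 81761 → P i := stepQ 81760 Q81760 (allL N81760 (tt N103238 (iv1 F440719)) (tt N102135 (iv0 F435895)) (tt N81211 (iv2 F342127)) (tt N47770 F276870) (tt N79223 (iv4 F342117)) (tt N47765 F276871) (tt N109848 (iv6 F468893)) (tt N47764 (iv7 D177454)))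
theorem Q81762 : ∀ i, i < 81762 → P i := stepQ 81761 Q81761 (allL N81761 (tt N101986 F435231) (tt N111591 F477055) (tt N100683 (iv2 F429993)) (tt N47766 (iv3 D177456)) (tt N99709 (iv4 F425847)) (tt N97844 (iv5 F418478)) (tt N97613 F417606) (tt N97843 F418475))
theorem Q81763 : ∀ i, i < 81763 → P i := stepQ 81762 Q81762 (allL N81762 (tt N107743 F459510) (tt N111925 F478690) (tt N108959 (iv2 F464670)) (tt N97613 (iv3 F417604)) (tt N112485 (iv4 F481294)) (tt N97612 F417601) (tt N47766 (iv6 D177457)) (tt N111926 (iv7 F478694)))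
theorem Q81764 : ∀ i, i < 81764 → P i := stepQ 81763 Q81763 (allL N81763 (tt N80951 F346371) (tt N80944 (iv0 F353090)) (tt N80949 F348199) (tt N47768 (iv3 D177460)) (tt N81210 (iv4 F346372)) (tt N110222 (iv5 F470501)) (tt N101737 (iv6 F434108)) (tt N80950 (iv7 F348198)))
theorem Q81765 : ∀ i, i < 81765 → P i := stepQ 81764 Q81764 (allL N81764 (tt N107751 F459558) (tt N47769 (iv0 D177462)) (tt N82565 (iv2 F361745)) (tt N87732 F380279) (tt N90365 F389427) (tt N110313 (iv5 F470993)) (tt N86944 (iv6 F377797)) (tt N112475 (iv7 F481233)))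
theorem Q81766 : ∀ i, i < 81766 → P i := stepQ 81765 Q81765 (allL N81765 (tt N47769 (iv1 D177463)) (tt N107751 (iv0 F459556)) (tt N112475 (iv2 F481236)) (tt N80390 (iv3 F361743)) (tt N96953 (iv4 F414757)) (tt N112491 D215737) (tt N95820 (iv6 F409795)) (tt N82565 F361744))
theorem Q81767 : ∀ i, i < 81767 → P i := stepQ 81766 Q81766 (allL N81766 (tt N112475 (iv1 F481232)) (tt N82565 (iv0 F383871)) (tt N107751 (iv2 F459552)) (tt N88680 (iv3 F383868)) (tt N107747 F459533) (tt N78408 F276876) (tt N112492 D215738) (tt N47769 (iv7 D177464)))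
theorem Q81768 : ∀ i, i < 81768 → P i := stepQ 81767 Q81767 (allL N81767 (tt N106819 F455824) (tt N82573 (iv0 F382449)) (tt N102020 F435381) (tt N109848 (iv3 F468892)) (tt N65544 (iv4 F361647)) (tt N102192 (iv5 F436110)) (tt N47770 (iv6 D177465)) (tt N112492 (iv7 F481334)))
theorem Q81769 : ∀ i, i < 81769 → P i := stepQ 81768 Q81768 (allL N81768 (tt N72522 F362318) (tt N62262 F362323) (tt N72519 (iv2 F342831)) (tt N86383 (iv3 F376028)) (tt N100880 (iv4 F430851)) (tt N47772 (iv5 D177486)) (tt N47773 F276929) (tt N72520 F342827))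
theorem Q81770 : ∀ i, i < 81770 → P i := stepQ 81769 Q81769 (allL N81769 (tt N94837 F412414) (tt N96542 (iv0 F412921)) (tt N112485 (iv2 F481292)) (tt N47774 (iv3 D177494)) (tt N108959 (iv4 F464671)) (tt N96785 (iv5 F413927)) (tt N101648 (iv6 F433686)) (tt N101120 (iv7 F431775)))
theorem Q81771 : ∀ i, i < 81771 → P i := stepQ 81770 Q81770 (allL N81770 (tt N80992 F351058) (tt N72899 F360140) (tt N111602 F477118) (tt N47775 (iv3 D177496)) (tt N100692 (iv4 F430041)) (tt N81771 F351059) (tt N100752 (iv6 F430293)) (tt N101119 (iv7 F431770)))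
theorem Q81772 : ∀ i, i < 81772 → P i := stepQ 81771 Q81771 (allL N81771 (tt N94671 F405467) (tt N47776 (iv0 D177498)) (tt N94958 F406504) (tt N59752 F351060) (tt N97079 (iv4 F415372)) (tt N81770 (iv5 F351059)) (tt N73076 (iv6 F351061)) (tt N94814 (iv7 F406047)))
theorem Q81773 : ∀ i, i < 81773 → P i := stepQ 81772 Q81772 (allL N81772 (tt N47776 (iv1 D177499)) (tt N94671 F405465) (tt N94814 (iv2 F406050)) (tt N94843 (iv3 F413932)) (tt N79550 (iv4 F276949)) (tt N107737 (iv5 F459474)) (tt N100747 F430282) (tt N94958 (iv7 F406503)))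
theorem Q81774 : ∀ i, i < 81774 → P i := stepQ 81773 Q81773 (allL N81773 (tt N94958 (iv1 F406502)) (tt N94814 F406049) (tt N47776 (iv2 D177500)) (tt N101121 (iv3 F431777)) (tt N47781 F276950) (tt N96558 (iv5 F412981)) (tt N59481 (iv6 F361605)) (tt N94671 (iv7 F405464)))
theorem Q81775 : ∀ i, i < 81775 → P i := stepQ 81774 Q81774 (allL N81774 (tt N64943 F276956) (tt N64945 F276957) (tt N47883 F302255) (tt N107783 F459712) (tt N112493 D215739) (tt N47777 (iv5 D177506)) (tt N58113 (iv6 F363318)) (tt N47879 F302256))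
theorem Q81776 : ∀ i, i < 81776 → P i := stepQ 81775 Q81775 (allL N81775 (tt N47778 (iv1 D177508)) (tt N79515 F276963) (tt N79514 F339182) (tt N94927 (iv3 F406366)) (tt N81215 F339183) (tt N47806 F339184) (tt N80751 (iv6 F339186)) (tt N78571 F339185))
theorem Q81777 : ∀ i, i < 81777 → P i := stepQ 81776 Q81776 (allL N81776 (tt N78571 (iv1 F333799)) (tt N79514 F276962) (tt N47778 (iv2 D177509)) (tt N79520 F276959) (tt N111011 (iv4 F474237)) (tt N81423 (iv5 F333801)) (tt N79729 F276960) (tt N79515 F276961))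
theorem Q81778 : ∀ i, i < 81778 → P i := stepQ 81777 Q81777 (allL N81777 (tt N60093 (iv1 F415415)) (tt N80365 (iv0 F409903)) (tt N109290 (iv2 F466213)) (tt N47779 (iv3 D177511)) (tt N100694 F430048) (tt N112162 (iv5 F479832)) (tt N95842 (iv6 F409902)) (tt N101671 (iv7 F433784)))
theorem Q81779 : ∀ i, i < 81779 → P i := stepQ 81778 Q81778 (allL N81778 (tt N112140 (iv1 F479707)) (tt N81223 (iv0 F405468)) (tt N101673 (iv2 F433793)) (tt N112494 D215740) (tt N47779 (iv4 D177512)) (tt N112495 D215741) (tt N111856 (iv6 F478329)) (tt N101672 (iv7 F433791)))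
theorem Q81780 : ∀ i, i < 81780 → P i := stepQ 81779 Q81779 (allL N81779 (tt N79583 F339277) (tt N64106 (iv0 F339279)) (tt N79586 F353971) (tt N112162 (iv3 F479830)) (tt N92486 F397132) (tt N47779 (iv5 D177513)) (tt N77729 F339275) (tt N79585 F341246))
theorem Q81781 : ∀ i, i < 81781 → P i := stepQ 81780 Q81780 (allL N81780 (tt N81223 F400884) (tt N112140 F479708) (tt N101672 (iv2 F433789)) (tt N56881 F362030) (tt N47780 (iv4 D177517)) (tt N95583 (iv5 F408758)) (tt N56880 F339270) (tt N101673 (iv7 F433796)))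
theorem Q81782 : ∀ i, i < 81782 → P i := stepQ 81781 Q81781 (allL N81781 (tt N64106 F353956) (tt N79583 F341247) (tt N79585 F341245) (tt N93813 (iv3 F402020)) (tt N112496 D215742) (tt N47780 (iv5 D177518)) (tt N76750 F339271) (tt N79586 (iv7 F353972)))
theorem Q81783 : ∀ i, i < 81783 → P i := stepQ 81782 Q81782 (allL N81782 (tt N111090 F474613) (tt N91410 (iv0 F407477)) (tt N103449 (iv2 F441685)) (tt N47782 (iv3 D177525)) (tt N97498 (iv4 F417114)) (tt N94109 (iv5 F403246)) (tt N101809 (iv6 F434443)) (tt N101669 (iv7 F433777)))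
theorem Q81784 : ∀ i, i < 81784 → P i := stepQ 81783 Q81783 (allL N81783 (tt N95594 (iv1 F408820)) (tt N58501 F349881) (tt N82484 F338792) (tt N91820 F394546) (tt N47782 (iv4 D177526)) (tt N78761 (iv5 F338791)) (tt N101810 (iv6 F434449)) (tt N101670 (iv7 F433781)))
theorem Q81785 : ∀ i, i < 81785 → P i := stepQ 81784 Q81784 (allL N81784 (tt N58501 (iv1 F349880)) (tt N95594 F408818) (tt N101670 (iv2 F433779)) (tt N112497 D215743) (tt N47783 (iv4 D177531)) (tt N82485 F345354) (tt N96833 F414180) (tt N82484 (iv7 F345355)))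
theorem Q81786 : ∀ i, i < 81786 → P i := stepQ 81785 Q81785 (allL N81785 (tt N47785 F359069) (tt N100804 (iv0 F430553)) (tt N100807 F430567) (tt N109288 F466204) (tt N96833 (iv4 F414181)) (tt N101017 (iv5 F431288)) (tt N47783 (iv6 D177533)) (tt N100808 (iv7 F430570)))
theorem Q81787 : ∀ i, i < 81787 → P i := stepQ 81786 Q81786 (allL N81786 (tt N47800 F360141) (tt N112134 (iv0 F479675)) (tt N94173 (iv2 F403539)) (tt N47787 (iv3 D177547)) (tt N80602 (iv4 F353977)) (tt N112498 D215744) (tt N94172 F403538) (tt N79575 (iv7 F338329)))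
theorem Q81788 : ∀ i, i < 81788 → P i := stepQ 81787 Q81787 (allL N81787 (tt N79557 F341639) (tt N47811 F341640) (tt N79560 (iv2 F341866)) (tt N112498 (iv3 F481363)) (tt N91280 F392522) (tt N47787 (iv5 D177549)) (tt N109292 (iv6 F466227)) (tt N79559 (iv7 F341871)))
theorem Q81789 : ∀ i, i < 81789 → P i := stepQ 81788 Q81788 (allL N81788 (tt N79571 (iv1 F276997)) (tt N79570 F276998) (tt N47789 F276995) (tt N74653 (iv3 F332895)) (tt N47788 (iv4 D177556)) (tt N74652 F332896) (tt N100797 (iv6 F430513)) (tt N79572 F276996))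
theorem Q81790 : ∀ i, i < 81790 → P i := stepQ 81789 Q81789 (allL N81789 (tt N79578 (iv1 F277002)) (tt N67049 (iv0 F341635)) (tt N47790 F276999) (tt N79567 F277000) (tt N90526 (iv4 F389963)) (tt N47788 (iv5 D177557)) (tt N65333 F350212) (tt N79577 F277001))
theorem Q81791 : ∀ i, i < 81791 → P i := stepQ 81790 Q81790 (allL N81790 (tt N79572 (iv1 F277004)) (tt N47789 (iv0 D177558)) (tt N79571 F357786) (tt N101998 (iv3 F435292)) (tt N112499 D215745) (tt N95031 (iv5 F406731)) (tt N101996 F435285) (tt N79570 F357784))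
theorem Q81792 : ∀ i, i < 81792 → P i := stepQ 81791 Q81791 (allL N81791 (tt N92056 F395574) (tt N97499 F417121) (tt N74652 (iv2 F357895)) (tt N64102 F277007) (tt N112500 D215746) (tt N47789 (iv5 D177560)) (tt N112501 D215747) (tt N79573 F277008))
theorem Q81793 : ∀ i, i < 81793 → P i := stepQ 81792 Q81792 (allL N81792 (tt N89208 F385602) (tt N90527 F389972) (tt N90526 F389961) (tt N65331 F366322) (tt N47790 (iv4 D177563)) (tt N96080 (iv5 F410949)) (tt N60222 (iv6 F366321)) (tt N79579 F277011))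
theorem Q81794 : ∀ i, i < 81794 → P i := stepQ 81793 Q81793 (allL N81793 (tt N47791 (iv1 D177582)) (tt N79565 F277034) (tt N79564 (iv2 F353258)) (tt N95625 (iv3 F408935)) (tt N75216 (iv4 F336520)) (tt N112502 D215748) (tt N52268 F336521) (tt N79321 F353259))
theorem Q81795 : ∀ i, i < 81795 → P i := stepQ 81794 Q81794 (allL N81794 (tt N106712 F455362) (tt N111582 (iv0 F477010)) (tt N109309 (iv2 F466321)) (tt N52818 (iv3 F300487)) (tt N108840 (iv4 F464212)) (tt N47791 (iv5 D177583)) (tt N96048 (iv6 F410796)) (tt N79566 F277037))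
theorem Q81796 : ∀ i, i < 81796 → P i := stepQ 81795 Q81795 (allL N81795 (tt N47806 (iv1 F277059)) (tt N47805 F277060) (tt N47809 F277057) (tt N101675 (iv3 F433806)) (tt N110410 (iv4 F471446)) (tt N47793 (iv5 D177597)) (tt N98463 F420984) (tt N47804 F277058))
theorem Q81797 : ∀ i, i < 81797 → P i := stepQ 81796 Q81796 (allL N81796 (tt N65432 (iv1 F277063)) (tt N65431 F277064) (tt N47810 F277061) (tt N57496 (iv3 F319458)) (tt N60422 (iv4 F351031)) (tt N98144 (iv5 F419685)) (tt N47793 (iv6 D177598)) (tt N60425 (iv7 F319468)))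
theorem Q81798 : ∀ i, i < 81798 → P i := stepQ 81797 Q81797 (allL N81797 (tt N94173 (iv1 F403544)) (tt N79575 F403545) (tt N112134 (iv2 F479671)) (tt N47794 (iv3 D177601)) (tt N101901 (iv4 F434878)) (tt N112503 D215749) (tt N100380 (iv6 F428697)) (tt N47800 F277067))
theorem Q81799 : ∀ i, i < 81799 → P i := stepQ 81798 Q81798 (allL N81798 (tt N101995 F435280) (tt N111141 (iv0 F474897)) (tt N47796 F277068) (tt N112487 (iv3 F481305)) (tt N47794 (iv4 D177602)) (tt N60627 F345504) (tt N88683 (iv6 F383878)) (tt N47801 F277069))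
theorem Q81800 : ∀ i, i < 81800 → P i := stepQ 81799 Q81799 (allL N81799 (tt N54325 F346575) (tt N111564 (iv0 F476945)) (tt N47797 F277070) (tt N112503 (iv3 F481393)) (tt N71167 F346586) (tt N47794 (iv5 D177603)) (tt N48511 F345849) (tt N47802 F277071))
theorem Q81801 : ∀ i, i < 81801 → P i := stepQ 81800 Q81800 (allL N81800 (tt N47795 (iv1 D177606)) (tt N64143 (iv0 F359275)) (tt N79346 F359273) (tt N81619 (iv3 F353274)) (tt N100707 (iv4 F430111)) (tt N94035 (iv5 F402908)) (tt N78409 F359274) (tt N109262 (iv7 F466055)))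
theorem Q81802 : ∀ i, i < 81802 → P i := stepQ 81801 Q81801 (allL N81801 (tt N100400 F428810) (tt N66499 (iv0 F354505)) (tt N110773 (iv2 F473129)) (tt N47797 F277075) (tt N82106 (iv4 F344873)) (tt N47795 (iv5 D177609)) (tt N57361 F344872) (tt N66383 F351554))
theorem Q81803 : ∀ i, i < 81803 → P i := stepQ 81802 Q81802 (allL N81802 (tt N84136 (iv1 F368264)) (tt N74527 F346959) (tt N101873 (iv2 F434771)) (tt N47798 F277076) (tt N48274 F333811) (tt N97628 (iv5 F417673)) (tt N47795 (iv6 D177610)) (tt N64148 F362459))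
theorem Q81804 : ∀ i, i < 81804 → P i := stepQ 81803 Q81803 (allL N81803 (tt N47801 (iv1 F277083)) (tt N47796 (iv0 D177612)) (tt N101995 (iv2 F435275)) (tt N112504 D215750) (tt N79590 F277078) (tt N81214 F339193) (tt N97368 (iv6 F416540)) (tt N111141 (iv7 F474896)))
theorem Q81805 : ∀ i, i < 81805 → P i := stepQ 81804 Q81804 (allL N81804 (tt N47796 (iv1 D177613)) (tt N47801 F277079) (tt N111141 (iv2 F474894)) (tt N60598 F358037) (tt N79595 F358041) (tt N81213 (iv5 F342135)) (tt N78410 (iv6 F358039)) (tt N101995 (iv7 F435279)))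
theorem Q81806 : ∀ i, i < 81806 → P i := stepQ 81805 Q81805 (allL N81805 (tt N67336 (iv1 F347464)) (tt N83986 (iv0 F367723)) (tt N88683 F383880) (tt N102162 (iv3 F435981)) (tt N47798 F277080) (tt N60635 F352529) (tt N47796 (iv6 D177616)) (tt N88684 (iv7 F383882)))
theorem Q81807 : ∀ i, i < 81807 → P i := stepQ 81806 Q81806 (allL N81806 (tt N111141 (iv1 F474898)) (tt N101995 F435281) (tt N47801 F277081) (tt N78744 (iv3 F341712)) (tt N47799 F277082) (tt N60638 F341713) (tt N97639 (iv6 F417728)) (tt N47796 (iv7 D177617)))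
theorem Q81808 : ∀ i, i < 81808 → P i := stepQ 81807 Q81807 (allL N81807 (tt N48512 F336423) (tt N48140 F336424) (tt N48511 F344814) (tt N57361 (iv3 F344863)) (tt N61911 (iv4 F344850)) (tt N81195 (iv5 F336421)) (tt N47797 (iv6 D177621)) (tt N48510 F344815))
theorem Q81809 : ∀ i, i < 81809 → P i := stepQ 81808 Q81808 (allL N81808 (tt N111564 F476946) (tt N54325 (iv0 F341715)) (tt N47802 F277085) (tt N66383 (iv3 F351558)) (tt N70966 (iv4 F345495)) (tt N47799 F277086) (tt N66381 F344778) (tt N47797 (iv7 D177622)))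
theorem Q81810 : ∀ i, i < 81810 → P i := stepQ 81809 Q81809 (allL N81809 (tt N65162 F277088) (tt N65166 F277089) (tt N65164 (iv2 F336437)) (tt N97628 F417674) (tt N78574 (iv4 F336432)) (tt N47798 (iv5 D177625)) (tt N81195 (iv6 F336420)) (tt N65163 (iv7 F336433)))
theorem Q81811 : ∀ i, i < 81811 → P i := stepQ 81810 Q81810 (allL N81810 (tt N112134 F479676) (tt N47800 (iv0 D177628)) (tt N79575 (iv2 F351048)) (tt N65853 F351047) (tt N64985 (iv4 F353986)) (tt N112505 D215751) (tt N64983 (iv6 F351049)) (tt N94173 (iv7 F403542)))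
theorem Q81812 : ∀ i, i < 81812 → P i := stepQ 81811 Q81811 (allL N81811 (tt N79575 F362464) (tt N94173 (iv0 F403543)) (tt N47800 (iv2 D177630)) (tt N64143 F362462) (tt N101902 F434886) (tt N112506 D215752) (tt N64141 (iv6 F362463)) (tt N112134 (iv7 F479674)))
theorem Q81813 : ∀ i, i < 81813 → P i := stepQ 81812 Q81812 (allL N81812 (tt N79239 (iv1 F363842)) (tt N79580 (iv0 F277091)) (tt N101902 (iv2 F434887)) (tt N96347 (iv3 F412168)) (tt N47800 (iv4 D177631)) (tt N112291 (iv5 F480391)) (tt N112507 D215753) (tt N101901 F434880))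
theorem Q81814 : ∀ i, i < 81814 → P i := stepQ 81813 Q81813 (allL N81813 (tt N112309 F480478) (tt N109911 (iv0 F469177)) (tt N112506 (iv2 F481408)) (tt N47802 F277092) (tt N106962 (iv4 F456463)) (tt N47800 (iv5 D177632)) (tt N71770 F345847) (tt N112503 (iv7 F481395)))
theorem Q81815 : ∀ i, i < 81815 → P i := stepQ 81814 Q81814 (allL N81814 (tt N58189 (iv1 F378143)) (tt N87037 F378142) (tt N64141 F362465) (tt N47803 F277093) (tt N112507 (iv4 F481415)) (tt N104775 (iv5 F447207)) (tt N47800 (iv6 D177633)) (tt N104778 (iv7 F447222)))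
theorem Q81816 : ∀ i, i < 81816 → P i := stepQ 81815 Q81815 (allL N81815 (tt N112488 (iv1 F481314)) (tt N80231 (iv0 F366966)) (tt N101083 (iv2 F431591)) (tt N47801 (iv3 D177634)) (tt N96347 (iv4 F412169)) (tt N101082 F431590) (tt N80211 F364116) (tt N112487 (iv7 F481308)))
theorem Q81817 : ∀ i, i < 81817 → P i := stepQ 81816 Q81816 (allL N81816 (tt N60544 (iv1 F358033)) (tt N60637 F358032) (tt N60638 (iv2 F358029)) (tt N101082 (iv3 F431584)) (tt N78414 (iv4 F354490)) (tt N47801 (iv5 D177635)) (tt N60647 F358030) (tt N60627 F358031))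
theorem Q81818 : ∀ i, i < 81818 → P i := stepQ 81817 Q81817 (allL N81817 (tt N97401 F416743) (tt N112490 (iv0 F481324)) (tt N97639 (iv2 F417726)) (tt N80211 (iv3 F364115)) (tt N47803 F277094) (tt N112508 D215754) (tt N47801 (iv6 D177636)) (tt N104779 (iv7 F447228)))
theorem Q81819 : ∀ i, i < 81819 → P i := stepQ 81818 Q81818 (allL N81818 (tt N47804 (iv1 D177654)) (tt N47809 F277100) (tt N47806 F342325) (tt N97376 F416591) (tt N54333 F342326) (tt N79514 F342327) (tt N71487 (iv6 F362167)) (tt N47805 F342329))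
theorem Q81820 : ∀ i, i < 81820 → P i := stepQ 81819 Q81819 (allL N81819 (tt N82869 F363190) (tt N110403 (iv0 F471418)) (tt N47807 F277101) (tt N112068 (iv3 F479337)) (tt N47804 (iv4 D177655)) (tt N76938 F342120) (tt N98167 (iv6 F419807)) (tt N110410 (iv7 F471444)))
theorem Q81821 : ∀ i, i < 81821 → P i := stepQ 81820 Q81820 (allL N81820 (tt N97057 F415255) (tt N57303 (iv0 F346483)) (tt N47808 F277102) (tt N101683 (iv3 F433852)) (tt N98167 (iv4 F419808)) (tt N48324 F277103) (tt N47804 (iv6 D177656)) (tt N97058 (iv7 F415260)))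
theorem Q81822 : ∀ i, i < 81822 → P i := stepQ 81821 Q81821 (allL N81821 (tt N97377 F416596) (tt N94035 (iv0 F402909)) (tt N97375 F416587) (tt N47805 (iv3 D177658)) (tt N61932 F409581) (tt N76880 (iv5 F363850)) (tt N76881 F363849) (tt N97376 (iv7 F416589)))
theorem Q81823 : ∀ i, i < 81823 → P i := stepQ 81822 Q81822 (allL N81822 (tt N112505 (iv1 F481406)) (tt N112498 (iv0 F481367)) (tt N112509 D215755) (tt N47806 (iv3 D177663)) (tt N112510 D215756) (tt N94927 (iv5 F406367)) (tt N66330 F362009) (tt N112369 (iv7 F480773)))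
theorem Q81824 : ∀ i, i < 81824 → P i := stepQ 81823 Q81823 (allL N81823 (tt N53387 F351875) (tt N54387 F356080) (tt N54333 (iv2 F339194)) (tt N110998 (iv3 F474160)) (tt N47806 (iv4 D177664)) (tt N53373 (iv5 F339177)) (tt N71476 (iv6 F346520)) (tt N53872 F339178))
theorem Q81825 : ∀ i, i < 81825 → P i := stepQ 81824 Q81824 (allL N81824 (tt N110410 (iv1 F471443)) (tt N47807 (iv0 D177667)) (tt N82869 (iv2 F363862)) (tt N53082 (iv3 F363863)) (tt N80377 (iv4 F363865)) (tt N53080 F363861) (tt N53681 (iv6 F363864)) (tt N110403 (iv7 F471417)))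
theorem Q81826 : ∀ i, i < 81826 → P i := stepQ 81825 Q81825 (allL N81825 (tt N110403 (iv1 F471419)) (tt N82869 (iv0 F342324)) (tt N110410 F471447) (tt N77779 (iv3 F348209)) (tt N47809 F277108) (tt N76942 (iv5 F348211)) (tt N112365 (iv6 F480761)) (tt N47807 (iv7 D177672)))
theorem Q81827 : ∀ i, i < 81827 → P i := stepQ 81826 Q81826 (allL N81826 (tt N47808 (iv1 D177674)) (tt N97058 F415259) (tt N57303 (iv2 F346470)) (tt N92547 F397333) (tt N71124 F346468) (tt N57302 F346469) (tt N71122 (iv6 F346462)) (tt N97057 (iv7 F415253)))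
theorem Q81828 : ∀ i, i < 81828 → P i := stepQ 81827 Q81827 (allL N81827 (tt N57303 (iv1 F362010)) (tt N97057 (iv0 F415254)) (tt N97058 F415258) (tt N47814 F277109) (tt N98186 (iv4 F419893)) (tt N47936 F277110) (tt N98462 (iv6 F420978)) (tt N47808 (iv7 D177675)))
theorem Q81829 : ∀ i, i < 81829 → P i := stepQ 81828 Q81828 (allL N81828 (tt N60425 (iv1 F319464)) (tt N47810 (iv0 D177677)) (tt N65432 F353629) (tt N97380 (iv3 F416613)) (tt N97434 (iv4 F416891)) (tt N80895 (iv5 F342095)) (tt N78583 (iv6 F353628)) (tt N65431 (iv7 F353630)))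
theorem Q81830 : ∀ i, i < 81830 → P i := stepQ 81829 Q81829 (allL N81829 (tt N47810 (iv1 D177678)) (tt N60425 (iv0 F319463)) (tt N65431 (iv2 F353632)) (tt N94171 (iv3 F403526)) (tt N96635 (iv4 F413270)) (tt N80894 F342092) (tt N60630 (iv6 F342151)) (tt N65432 F353631))
theorem Q81831 : ∀ i, i < 81831 → P i := stepQ 81830 Q81830 (allL N81830 (tt N79560 (iv1 F277122)) (tt N79559 F277120) (tt N47811 (iv2 D177682)) (tt N79528 F277117) (tt N103989 (iv4 F443675)) (tt N64092 F277118) (tt N91330 F392764) (tt N79557 F277119))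
theorem Q81832 : ∀ i, i < 81832 → P i := stepQ 81831 Q81831 (allL N81831 (tt N54393 F390102) (tt N108653 (iv0 F463376)) (tt N103989 (iv2 F443673)) (tt N100345 (iv3 F428514)) (tt N47811 (iv4 D177683)) (tt N91629 (iv5 F393828)) (tt N54512 F361897) (tt N55057 (iv7 F361899)))
theorem Q81833 : ∀ i, i < 81833 → P i := stepQ 81832 Q81832 (allL N81832 (tt N96808 (iv1 F414059)) (tt N79662 (iv0 F361263)) (tt N112511 D215757) (tt N47813 (iv3 D177700)) (tt N103980 (iv4 F443634)) (tt N58671 (iv5 F322507)) (tt N79424 (iv6 F366083)) (tt N48064 F313877))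
theorem Q81834 : ∀ i, i < 81834 → P i := stepQ 81833 Q81833 (allL N81833 (tt N71961 F356282) (tt N72055 F356284) (tt N72057 F363152) (tt N102463 (iv3 F437318)) (tt N112512 D215758) (tt N47817 (iv5 D177717)) (tt N72043 (iv6 F356326)) (tt N72056 (iv7 F363154)))
theorem Q81835 : ∀ i, i < 81835 → P i := stepQ 81834 Q81834 (allL N81834 (tt N100277 (iv1 F428216)) (tt N100276 F428210) (tt N83076 (iv2 F285802)) (tt N47822 F277174) (tt N105100 F448792) (tt N47818 (iv5 D177721)) (tt N47820 F277175) (tt N90910 (iv7 F391241)))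
theorem Q81836 : ∀ i, i < 81836 → P i := stepQ 81835 Q81835 (allL N81835 (tt N52925 (iv1 F340214)) (tt N52929 F340213) (tt N52927 F340210) (tt N47819 (iv3 D177729)) (tt N66978 F277181) (tt N112513 D215759) (tt N101074 (iv6 F431546)) (tt N52926 F340203))
theorem Q81837 : ∀ i, i < 81837 → P i := stepQ 81836 Q81836 (allL N81836 (tt N76497 F364118) (tt N101093 F431641) (tt N101095 (iv2 F431648)) (tt N112513 (iv3 F481446)) (tt N110347 (iv4 F471156)) (tt N47819 (iv5 D177731)) (tt N112514 D215760) (tt N77548 F364119))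
theorem Q81838 : ∀ i, i < 81838 → P i := stepQ 81837 Q81837 (allL N81837 (tt N100278 F428226) (tt N47820 (iv0 D177733)) (tt N101502 (iv2 F433173)) (tt N90629 (iv3 F433175)) (tt N88397 F433174) (tt N94165 F403503) (tt N88396 (iv6 F433176)) (tt N101501 F433168))
theorem Q81839 : ∀ i, i < 81839 → P i := stepQ 81838 Q81838 (allL N81838 (tt N47820 (iv1 D177734)) (tt N100278 F428225) (tt N101501 F433167) (tt N112515 D215761) (tt N110348 (iv4 F471163)) (tt N64397 F338080) (tt N112516 D215762) (tt N101502 (iv7 F433170)))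
theorem Q81840 : ∀ i, i < 81840 → P i := stepQ 81839 Q81839 (allL N81839 (tt N88414 (iv1 F382943)) (tt N90856 F391058) (tt N90854 F391054) (tt N64793 (iv3 F391060)) (tt N47820 (iv4 D177735)) (tt N64174 F391059) (tt N105100 (iv6 F448789)) (tt N90855 (iv7 F391055)))
theorem Q81841 : ∀ i, i < 81841 → P i := stepQ 81840 Q81840 (allL N81840 (tt N54805 (iv1 F290053)) (tt N54804 (iv0 F290051)) (tt N47845 F289829) (tt N53684 (iv3 F290089)) (tt N112517 D215763) (tt N47821 (iv5 D177745)) (tt N112518 D215764) (tt N47843 F289830))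
theorem Q81842 : ∀ i, i < 81842 → P i := stepQ 81841 Q81841 (allL N81841 (tt N47849 (iv1 F277191)) (tt N47822 (iv0 D177747)) (tt N47846 F277422) (tt N49793 (iv3 F362122)) (tt N112519 D215765) (tt N49779 (iv5 F335649)) (tt N72544 F343239) (tt N47847 F277420))
theorem Q81843 : ∀ i, i < 81843 → P i := stepQ 81842 Q81842 (allL N81842 (tt N112520 D215766) (tt N49109 F357249) (tt N47848 F277187) (tt N105101 (iv3 F448794)) (tt N47822 (iv4 D177748)) (tt N105663 (iv5 F451148)) (tt N47826 F277188) (tt N90911 (iv7 F391244)))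
theorem Q81844 : ∀ i, i < 81844 → P i := stepQ 81843 Q81843 (allL N81843 (tt N64886 (iv1 F304473)) (tt N64883 (iv0 F304470)) (tt N47855 F277218) (tt N110612 (iv3 F472392)) (tt N47823 (iv4 D177760)) (tt N109949 (iv5 F469350)) (tt N112521 D215767) (tt N47853 F277219))
theorem Q81845 : ∀ i, i < 81845 → P i := stepQ 81844 Q81844 (allL N81844 (tt N112522 D215768) (tt N107492 (iv0 F458513)) (tt N47856 F277220) (tt N110427 (iv3 F471530)) (tt N112521 (iv4 F481489)) (tt N72541 (iv5 F343237)) (tt N47823 (iv6 D177761)) (tt N108009 (iv7 F460710)))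
theorem Q81846 : ∀ i, i < 81846 → P i := stepQ 81845 Q81845 (allL N81845 (tt N52932 F338084) (tt N49461 (iv0 F338082)) (tt N52930 (iv2 F338081)) (tt N47824 (iv3 D177762)) (tt N54443 (iv4 F338083)) (tt N53578 F338075) (tt N105303 (iv6 F449632)) (tt N47861 F277221))
theorem Q81847 : ∀ i, i < 81847 → P i := stepQ 81846 Q81846 (allL N81846 (tt N64878 (iv1 F304483)) (tt N64881 (iv0 F303657)) (tt N47858 F277222) (tt N112523 D215769) (tt N47824 (iv4 D177763)) (tt N112524 D215770) (tt N105304 (iv6 F449637)) (tt N47862 F277223))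
theorem Q81848 : ∀ i, i < 81848 → P i := stepQ 81847 Q81847 (allL N81847 (tt N64881 (iv1 F303658)) (tt N64878 (iv0 F304482)) (tt N47862 F277228) (tt N93494 (iv3 F400923)) (tt N47825 (iv4 D177766)) (tt N93493 F400921) (tt N112525 D215771) (tt N47858 F277229))
theorem Q81849 : ∀ i, i < 81849 → P i := stepQ 81848 Q81848 (allL N81848 (tt N112526 D215772) (tt N107197 (iv0 F457427)) (tt N47863 F277231) (tt N83434 (iv3 F421399)) (tt N112525 (iv4 F481505)) (tt N64323 F277232) (tt N47825 (iv6 D177767)) (tt N83440 F421404))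
theorem Q81850 : ∀ i, i < 81850 → P i := stepQ 81849 Q81849 (allL N81849 (tt N47868 (iv1 F277239)) (tt N47826 (iv0 D177768)) (tt N47864 (iv2 F277237)) (tt N110783 (iv3 F485413)) (tt N82542 (iv4 F282166)) (tt N112493 (iv5 F481339)) (tt N105306 (iv6 F449664)) (tt N47865 F277238))
theorem Q81851 : ∀ i, i < 81851 → P i := stepQ 81850 Q81850 (allL N81850 (tt N47826 (iv1 D177769)) (tt N47868 F277233) (tt N47865 (iv2 F277235)) (tt N83390 (iv3 F364087)) (tt N49051 F310414) (tt N112527 D215774) (tt N83388 F364085) (tt N47864 (iv7 F277236)))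
theorem Q81852 : ∀ i, i < 81852 → P i := stepQ 81851 Q81851 (allL N81851 (tt N112528 D215775) (tt N112529 D215776) (tt N105297 (iv2 F449617)) (tt N47826 (iv3 D177770)) (tt N64793 F391061) (tt N112530 D215777) (tt N105101 (iv6 F448795)) (tt N101503 (iv7 F433183)))
theorem Q81853 : ∀ i, i < 81853 → P i := stepQ 81852 Q81852 (allL N81852 (tt N100910 (iv1 F430927)) (tt N100916 (iv0 F430954)) (tt N47867 F277240) (tt N112530 (iv3 F481530)) (tt N47900 F277241) (tt N47826 (iv5 D177771)) (tt N112531 D215778) (tt N47898 (iv7 F277242)))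
theorem Q81854 : ∀ i, i < 81854 → P i := stepQ 81853 Q81853 (allL N81853 (tt N87069 (iv1 F378273)) (tt N87025 (iv0 F378075)) (tt N94953 (iv2 F406481)) (tt N47827 (iv3 D177786)) (tt N53857 F359241) (tt N107297 (iv5 F457857)) (tt N94951 F406473) (tt N47882 F277275))
theorem Q81855 : ∀ i, i < 81855 → P i := stepQ 81854 Q81854 (allL N81854 (tt N64945 (iv1 F303664)) (tt N64943 (iv0 F304486)) (tt N47879 F277276) (tt N107297 (iv3 F457855)) (tt N112527 (iv4 F481516)) (tt N47827 (iv5 D177787)) (tt N107295 F457848) (tt N47883 F277277))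
theorem Q81856 : ∀ i, i < 81856 → P i := stepQ 81855 Q81855 (allL N81855 (tt N63900 (iv1 F302439)) (tt N63970 (iv0 F299230)) (tt N47881 F277280) (tt N105727 F451436) (tt N47828 (iv4 D177789)) (tt N82542 (iv5 F282165)) (tt N64026 F277281) (tt N47884 F277282))
theorem Q81857 : ∀ i, i < 81857 → P i := stepQ 81856 Q81856 (allL N81856 (tt N96521 (iv1 F412834)) (tt N96402 (iv0 F412353)) (tt N96319 (iv2 F412005)) (tt N47830 (iv3 D177794)) (tt N96180 (iv4 F411364)) (tt N107795 (iv5 F459758)) (tt N93843 F402117) (tt N47885 F277293))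
theorem Q81858 : ∀ i, i < 81858 → P i := stepQ 81857 Q81857 (allL N81857 (tt N64938 (iv1 F302542)) (tt N64941 (iv0 F302547)) (tt N47889 F277294) (tt N107795 (iv3 F459757)) (tt N112524 (iv4 F481499)) (tt N47830 (iv5 D177795)) (tt N107164 (iv6 F457275)) (tt N47887 F277295))
theorem Q81859 : ∀ i, i < 81859 → P i := stepQ 81858 Q81858 (allL N81858 (tt N101509 (iv1 F433206)) (tt N47831 (iv0 D177796)) (tt N101508 (iv2 F433201)) (tt N112532 D215779) (tt N102086 (iv4 F435655)) (tt N112533 D215780) (tt N102085 F435653) (tt N101507 F433202))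
theorem Q81860 : ∀ i, i < 81860 → P i := stepQ 81859 Q81859 (allL N81859 (tt N47831 (iv1 D177797)) (tt N101509 F433207) (tt N101507 F433200) (tt N91927 (iv3 F394983)) (tt N112534 D215781) (tt N112535 D215782) (tt N81224 F394985) (tt N101508 (iv7 F433199)))
theorem Q81861 : ∀ i, i < 81861 → P i := stepQ 81860 Q81860 (allL N81860 (tt N101508 F433198) (tt N101507 F433194) (tt N47831 (iv2 D177798)) (tt N47893 F277296) (tt N101689 (iv4 F433876)) (tt N112536 D215783) (tt N78430 F277297) (tt N101509 (iv7 F433205)))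
theorem Q81862 : ∀ i, i < 81862 → P i := stepQ 81861 Q81861 (allL N81861 (tt N91742 F470338) (tt N106302 F470340) (tt N112536 (iv2 F481556)) (tt N47832 F277298) (tt N86750 (iv4 F470339)) (tt N47831 (iv5 D177799)) (tt N106298 (iv6 F453938)) (tt N101510 (iv7 F433210)))
theorem Q81863 : ∀ i, i < 81863 → P i := stepQ 81862 Q81862 (allL N81862 (tt N47832 (iv1 D177802)) (tt N47900 F277304) (tt N47897 (iv2 F277307)) (tt N108943 (iv3 F464601)) (tt N101088 (iv4 F431616)) (tt N65049 F277306) (tt N108941 (iv6 F464593)) (tt N47896 F277305))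
theorem Q81864 : ∀ i, i < 81864 → P i := stepQ 81863 Q81863 (allL N81863 (tt N100916 (iv1 F430955)) (tt N100910 (iv0 F430926)) (tt N47898 F277308) (tt N77839 (iv3 F349757)) (tt N47832 (iv4 D177803)) (tt N47868 F277309) (tt N77836 F349755) (tt N47867 (iv7 F277310)))
theorem Q81865 : ∀ i, i < 81865 → P i := stepQ 81864 Q81864 (allL N81864 (tt N77314 (iv1 F384316)) (tt N64649 (iv0 F361939)) (tt N53081 F277318) (tt N54372 (iv3 F351781)) (tt N47834 F277319) (tt N76201 F351774) (tt N47833 (iv6 D177806)) (tt N99457 (iv7 F424671)))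
theorem Q81866 : ∀ i, i < 81866 → P i := stepQ 81865 Q81865 (allL N81865 (tt N101630 (iv1 F433621)) (tt N64379 (iv0 F301778)) (tt N53082 F277321) (tt N55333 F277322) (tt N89998 (iv4 F388249)) (tt N47834 (iv5 D177809)) (tt N50246 F277323) (tt N89995 (iv7 F388243)))
theorem Q81867 : ∀ i, i < 81867 → P i := stepQ 81866 Q81866 (allL N81866 (tt N105004 (iv1 F448326)) (tt N64630 (iv0 F363203)) (tt N53088 (iv2 F281960)) (tt N54276 (iv3 F342033)) (tt N47837 (iv4 D177818)) (tt N107658 (iv5 F459114)) (tt N54274 F363202) (tt N53090 (iv7 F281958)))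
theorem Q81868 : ∀ i, i < 81868 → P i := stepQ 81867 Q81867 (allL N81867 (tt N53704 F338828) (tt N48184 F338829) (tt N53089 (iv2 F281961)) (tt N76934 (iv3 F308826)) (tt N101360 (iv4 F432776)) (tt N47837 (iv5 D177819)) (tt N105642 (iv6 F451072)) (tt N53091 (iv7 F281959)))
theorem Q81869 : ∀ i, i < 81869 → P i := stepQ 81868 Q81868 (allL N81868 (tt N80822 (iv1 F319028)) (tt N80889 F279280) (tt N81193 (iv2 F319024)) (tt N47838 (iv3 D177822)) (tt N81049 F277347) (tt N106364 (iv5 F454156)) (tt N112537 D215784) (tt N53087 F281935))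
theorem Q81870 : ∀ i, i < 81870 → P i := stepQ 81869 Q81869 (allL N81869 (tt N64630 (iv1 F363205)) (tt N105004 F448327) (tt N53090 (iv2 F281969)) (tt N64470 F277349) (tt N47838 (iv4 D177823)) (tt N112028 (iv5 F479145)) (tt N112538 D215785) (tt N53088 F281963))
theorem Q81871 : ∀ i, i < 81871 → P i := stepQ 81870 Q81870 (allL N81870 (tt N48184 F338830) (tt N53704 F338831) (tt N53091 (iv2 F281965)) (tt N106364 (iv3 F454154)) (tt N89129 (iv4 F385278)) (tt N47838 (iv5 D177824)) (tt N85438 (iv6 F372639)) (tt N53089 F281964))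
theorem Q81872 : ∀ i, i < 81872 → P i := stepQ 81871 Q81871 (allL N81871 (tt N48198 F338832) (tt N101492 F433131) (tt N53092 F281974) (tt N112537 (iv3 F481562)) (tt N112538 (iv4 F481569)) (tt N112539 D215786) (tt N47838 (iv6 D177825)) (tt N101090 (iv7 F431626)))
theorem Q81873 : ∀ i, i < 81873 → P i := stepQ 81872 Q81872 (allL N81872 (tt N53096 (iv1 F277350)) (tt N47839 (iv0 D177826)) (tt N53093 F364056) (tt N82632 (iv3 F364053)) (tt N104137 (iv4 F444373)) (tt N89647 (iv5 F387077)) (tt N112540 D215787) (tt N53094 F364054))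
theorem Q81874 : ∀ i, i < 81874 → P i := stepQ 81873 Q81873 (allL N81873 (tt N47839 (iv1 D177827)) (tt N53096 F277351) (tt N53094 (iv2 F364055)) (tt N106376 (iv3 F454211)) (tt N106378 (iv4 F454214)) (tt N88995 (iv5 F384720)) (tt N109614 F467752) (tt N53093 (iv7 F364057)))
theorem Q81875 : ∀ i, i < 81875 → P i := stepQ 81874 Q81874 (allL N81874 (tt N88851 F384343) (tt N64531 (iv0 F366783)) (tt N53095 F277352) (tt N55351 F338875) (tt N47839 (iv4 D177828)) (tt N53689 (iv5 F338877)) (tt N53079 F277353) (tt N53710 (iv7 F338878)))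
theorem Q81876 : ∀ i, i < 81876 → P i := stepQ 81875 Q81875 (allL N81875 (tt N48173 (iv1 F277356)) (tt N47840 (iv0 D177831)) (tt N63967 (iv2 F304519)) (tt N54524 F367935) (tt N63899 (iv4 F301586)) (tt N64506 (iv5 F304274)) (tt N89779 (iv6 F387520)) (tt N63975 (iv7 F303686)))
theorem Q81877 : ∀ i, i < 81877 → P i := stepQ 81876 Q81876 (allL N81876 (tt N47840 (iv1 D177832)) (tt N48173 F277359) (tt N63975 (iv2 F303685)) (tt N112541 D215788) (tt N63902 (iv4 F301213)) (tt N64504 (iv5 F304266)) (tt N112542 D215789) (tt N63967 (iv7 F304520)))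
theorem Q81878 : ∀ i, i < 81878 → P i := stepQ 81877 Q81877 (allL N81877 (tt N64744 (iv1 F366782)) (tt N64702 F338876) (tt N64740 F338872) (tt N47840 (iv3 D177833)) (tt N55351 (iv4 F338871)) (tt N59439 (iv5 F350380)) (tt N59442 F350381) (tt N64741 F338870))
theorem Q81879 : ∀ i, i < 81879 → P i := stepQ 81878 Q81878 (allL N81878 (tt N54821 (iv1 F290092)) (tt N54820 F290094) (tt N52742 (iv2 F290091)) (tt N47843 F277435) (tt N111344 (iv4 F475917)) (tt N47841 (iv5 D177856)) (tt N111345 (iv6 F475923)) (tt N53684 F290090))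
theorem Q81880 : ∀ i, i < 81880 → P i := stepQ 81879 Q81879 (allL N81879 (tt N49158 F289803) (tt N50512 (iv0 F290942)) (tt N50514 (iv2 F290613)) (tt N47844 F277436) (tt N84935 (iv4 F371132)) (tt N83959 (iv5 F367619)) (tt N47841 (iv6 D177857)) (tt N50509 (iv7 F290952)))
theorem Q81881 : ∀ i, i < 81881 → P i := stepQ 81880 Q81880 (allL N81880 (tt N54195 (iv1 F290102)) (tt N54194 F290117) (tt N54103 (iv2 F290101)) (tt N54172 F290116) (tt N90918 (iv4 F391271)) (tt N47842 (iv5 D177862)) (tt N101290 (iv6 F432552)) (tt N54193 F290100))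
theorem Q81882 : ∀ i, i < 81882 → P i := stepQ 81881 Q81881 (allL N81881 (tt N47843 (iv1 D177865)) (tt N47845 F277443) (tt N54805 (iv2 F290019)) (tt N54499 (iv3 F290016)) (tt N90881 (iv4 F391142)) (tt N80626 (iv5 F277451)) (tt N107492 (iv6 F458511)) (tt N54804 F290001))
theorem Q81883 : ∀ i, i < 81883 → P i := stepQ 81882 Q81882 (allL N81882 (tt N83363 F290106) (tt N83361 (iv0 F290093)) (tt N54806 F290123) (tt N112543 D215790) (tt N47843 (iv4 D177866)) (tt N112544 D215791) (tt N112545 D215792) (tt N112517 (iv7 F481463)))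
theorem Q81884 : ∀ i, i < 81884 → P i := stepQ 81883 Q81883 (allL N81883 (tt N112546 D215793) (tt N112547 D215794) (tt N54807 F290124) (tt N111345 F475925) (tt N112545 (iv4 F481598)) (tt N88593 (iv5 F383542)) (tt N47843 (iv6 D177867)) (tt N112548 D215795))
theorem Q81885 : ∀ i, i < 81885 → P i := stepQ 81884 Q81884 (allL N81884 (tt N83361 (iv1 F290125)) (tt N83363 (iv0 F356205)) (tt N112517 (iv2 F481462)) (tt N109973 (iv3 F469433)) (tt N47845 (iv4 D177882)) (tt N112549 D215796) (tt N109972 F469431) (tt N54806 F290122))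
theorem Q81886 : ∀ i, i < 81886 → P i := stepQ 81885 Q81885 (allL N81885 (tt N112550 D215797) (tt N100635 (iv0 F429776)) (tt N112518 (iv2 F481467)) (tt N50050 (iv3 F292180)) (tt N109972 (iv4 F469427)) (tt N50064 F367247) (tt N47845 (iv6 D177883)) (tt N112551 D215798))
theorem Q81887 : ∀ i, i < 81887 → P i := stepQ 81886 Q81886 (allL N81886 (tt N53687 (iv1 F367335)) (tt N53176 F367337) (tt N53499 F362123) (tt N47846 (iv3 D177888)) (tt N112552 D215799) (tt N86231 (iv5 F375487)) (tt N83314 (iv6 F363386)) (tt N53685 (iv7 F362124)))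
theorem Q81888 : ∀ i, i < 81888 → P i := stepQ 81887 Q81887 (allL N81887 (tt N83356 F290121) (tt N83273 (iv0 F367336)) (tt N112519 (iv2 F481474)) (tt N112553 D215800) (tt N47846 (iv4 D177889)) (tt N112554 D215801) (tt N107200 F457439) (tt N112037 (iv7 F479193)))
theorem Q81889 : ∀ i, i < 81889 → P i := stepQ 81888 Q81888 (allL N81888 (tt N83273 F367270) (tt N83356 (iv0 F357247)) (tt N112037 (iv2 F479192)) (tt N112555 D215802) (tt N47847 (iv4 D177892)) (tt N112556 D215803) (tt N112557 D215804) (tt N112519 (iv7 F481477)))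
theorem Q81890 : ∀ i, i < 81890 → P i := stepQ 81889 Q81889 (allL N81889 (tt N64784 F406349) (tt N64793 (iv0 F364407)) (tt N90862 (iv2 F391070)) (tt N49788 F364404) (tt N112557 (iv4 F481638)) (tt N49776 (iv5 F364405)) (tt N47847 (iv6 D177893)) (tt N96197 (iv7 F411452)))
theorem Q81891 : ∀ i, i < 81891 → P i := stepQ 81890 Q81890 (allL N81890 (tt N90911 (iv1 F391246)) (tt N47848 (iv0 D177894)) (tt N112520 F481484) (tt N110008 (iv3 F473084)) (tt N48824 F362118) (tt N112558 D215805) (tt N107334 (iv6 F457992)) (tt N49109 F362119))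
theorem Q81892 : ∀ i, i < 81892 → P i := stepQ 81891 Q81891 (allL N81891 (tt N47848 (iv1 D177895)) (tt N90911 (iv0 F391245)) (tt N49109 F336769) (tt N112559 D215806) (tt N49108 F336770) (tt N112560 D215807) (tt N112528 F481524) (tt N112520 (iv7 F481486)))
theorem Q81893 : ∀ i, i < 81893 → P i := stepQ 81892 Q81892 (allL N81892 (tt N83368 F367262) (tt N112561 D215808) (tt N105307 (iv2 F449639)) (tt N47848 (iv3 D177896)) (tt N101617 (iv4 F433574)) (tt N81894 F391147) (tt N47866 F277467) (tt N81893 (iv7 F391148)))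
theorem Q81894 : ∀ i, i < 81894 → P i := stepQ 81893 Q81893 (allL N81893 (tt N90882 (iv1 F391145)) (tt N90938 (iv0 F391308)) (tt N105663 (iv2 F451147)) (tt N81894 (iv3 F391146)) (tt N90913 (iv4 F391254)) (tt N47848 (iv5 D177897)) (tt N112562 D215809) (tt N81892 F391148))
theorem Q81895 : ∀ i, i < 81895 → P i := stepQ 81894 Q81894 (allL N81894 (tt N49109 F343893) (tt N112520 F481485) (tt N90911 (iv2 F391243)) (tt N81893 F391146) (tt N47849 F277468) (tt N81892 (iv5 F391147)) (tt N106646 (iv6 F455132)) (tt N47848 (iv7 D177898)))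
theorem Q81896 : ∀ i, i < 81896 → P i := stepQ 81895 Q81895 (allL N81895 (tt N110251 (iv1 F470640)) (tt N47850 (iv0 D177911)) (tt N91150 (iv2 F392092)) (tt N77394 F358568) (tt N88420 F382975) (tt N88997 (iv5 F384734)) (tt N77393 (iv6 F358569)) (tt N91149 (iv7 F392088)))
theorem Q81897 : ∀ i, i < 81897 → P i := stepQ 81896 Q81896 (allL N81896 (tt N47850 (iv1 D177912)) (tt N110251 (iv0 F470641)) (tt N91149 (iv2 F392086)) (tt N90821 (iv3 F390974)) (tt N49148 F332660) (tt N89664 (iv5 F387156)) (tt N112563 D215810) (tt N91150 (iv7 F392093)))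
theorem Q81898 : ∀ i, i < 81898 → P i := stepQ 81897 Q81897 (allL N81897 (tt N112564 D215811) (tt N83325 (iv0 F382976)) (tt N83019 (iv2 F332659)) (tt N91288 (iv3 F392565)) (tt N47850 (iv4 D177913)) (tt N50934 F332658) (tt N111341 (iv6 F475908)) (tt N110426 (iv7 F471528)))
theorem Q81899 : ∀ i, i < 81899 → P i := stepQ 81898 Q81898 (allL N81898 (tt N101095 (iv1 F431652)) (tt N77548 (iv0 F351964)) (tt N101093 F431638) (tt N47851 (iv3 D177919)) (tt N91159 (iv4 F392112)) (tt N76498 (iv5 F332468)) (tt N112565 D215812) (tt N76497 F332469))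
theorem Q81900 : ∀ i, i < 81900 → P i := stepQ 81899 Q81899 (allL N81899 (tt N72484 F343247) (tt N72488 F343248) (tt N72264 (iv2 F343235)) (tt N112565 (iv3 F481668)) (tt N101459 (iv4 F433036)) (tt N59231 (iv5 F343244)) (tt N47851 (iv6 D177921)) (tt N72262 F343246))
theorem Q81901 : ∀ i, i < 81901 → P i := stepQ 81900 Q81900 (allL N81900 (tt N112518 F481472) (tt N112551 F481623) (tt N100635 (iv2 F429774)) (tt N109504 (iv3 F467292)) (tt N101462 (iv4 F433038)) (tt N100571 (iv5 F429516)) (tt N47852 (iv6 D177923)) (tt N112550 (iv7 F481616)))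
theorem Q81902 : ∀ i, i < 81902 → P i := stepQ 81901 Q81901 (allL N81901 (tt N47855 (iv1 F277491)) (tt N47853 (iv0 D177924)) (tt N64883 (iv2 F304471)) (tt N112566 D215813) (tt N64350 (iv4 F302309)) (tt N112567 D215814) (tt N112568 D215815) (tt N64886 (iv7 F304475)))
theorem Q81903 : ∀ i, i < 81903 → P i := stepQ 81902 Q81902 (allL N81902 (tt N47853 (iv1 D177925)) (tt N47855 F277492) (tt N64886 (iv2 F304474)) (tt N93511 (iv3 F400980)) (tt N63969 (iv4 F302311)) (tt N93502 F400961) (tt N93505 (iv6 F400967)) (tt N64883 (iv7 F304472)))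
theorem Q81904 : ∀ i, i < 81904 → P i := stepQ 81903 Q81903 (allL N81903 (tt N101304 (iv1 F432593)) (tt N101307 (iv0 F432602)) (tt N100974 (iv2 F431124)) (tt N109956 (iv3 F469370)) (tt N47854 F277495) (tt N109955 F469369) (tt N47853 (iv6 D177928)) (tt N112569 D215816))
theorem Q81905 : ∀ i, i < 81905 → P i := stepQ 81904 Q81904 (allL N81904 (tt N100975 (iv1 F431130)) (tt N47854 (iv0 D177929)) (tt N100972 F431117) (tt N91159 F432607) (tt N101354 (iv4 F432753)) (tt N72257 F364406) (tt N112546 (iv6 F481600)) (tt N100973 (iv7 F431121)))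
theorem Q81906 : ∀ i, i < 81906 → P i := stepQ 81905 Q81905 (allL N81905 (tt N47854 (iv1 D177930)) (tt N100975 F431129) (tt N100973 (iv2 F431123)) (tt N99876 (iv3 F426642)) (tt N101355 (iv4 F432760)) (tt N72258 (iv5 F363016)) (tt N106295 (iv6 F453920)) (tt N100972 F431118))
theorem Q81907 : ∀ i, i < 81907 → P i := stepQ 81906 Q81906 (allL N81906 (tt N100973 (iv1 F431120)) (tt N100972 (iv0 F431119)) (tt N100975 (iv2 F431126)) (tt N111342 (iv3 F475909)) (tt N112569 (iv4 F481689)) (tt N64782 F341424) (tt N108009 (iv6 F460709)) (tt N47854 (iv7 D177931)))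
theorem Q81908 : ∀ i, i < 81908 → P i := stepQ 81907 Q81907 (allL N81907 (tt N109826 F471199) (tt N109979 F471200) (tt N109978 F472396) (tt N47855 (iv3 D177950)) (tt N112346 (iv4 F480679)) (tt N110717 (iv5 F472880)) (tt N112570 D215817) (tt N101087 (iv7 F431613)))
theorem Q81909 : ∀ i, i < 81909 → P i := stepQ 81908 Q81908 (allL N81908 (tt N109945 (iv1 F469338)) (tt N109950 F469360) (tt N109949 F469354) (tt N110717 (iv3 F472878)) (tt N47896 F277507) (tt N47855 (iv5 D177951)) (tt N109927 (iv6 F469266)) (tt N101088 (iv7 F431615)))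
theorem Q81910 : ∀ i, i < 81910 → P i := stepQ 81909 Q81909 (allL N81909 (tt N112571 D215818) (tt N112572 D215819) (tt N112521 (iv2 F481488)) (tt N112570 (iv3 F481693)) (tt N47856 F277508) (tt N112573 D215820) (tt N47855 (iv6 D177952)) (tt N112574 D215821))
theorem Q81911 : ∀ i, i < 81911 → P i := stepQ 81910 Q81910 (allL N81910 (tt N108009 (iv1 F460711)) (tt N47856 (iv0 D177953)) (tt N112522 F481491) (tt N106342 (iv3 F454087)) (tt N112575 D215822) (tt N104858 F447659) (tt N104859 (iv6 F447661)) (tt N107492 (iv7 F458512)))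
theorem Q81912 : ∀ i, i < 81912 → P i := stepQ 81911 Q81911 (allL N81911 (tt N47856 (iv1 D177954)) (tt N108009 (iv0 F460712)) (tt N107492 (iv2 F458509)) (tt N112576 D215823) (tt N112577 D215824) (tt N107316 (iv5 F457939)) (tt N54805 (iv6 F290057)) (tt N112522 (iv7 F481493)))
theorem Q81913 : ∀ i, i < 81913 → P i := stepQ 81912 Q81912 (allL N81912 (tt N107492 F458514) (tt N112522 F481492) (tt N108009 (iv2 F460708)) (tt N112348 (iv3 F480688)) (tt N112574 (iv4 F481696)) (tt N72540 F343252) (tt N100975 (iv6 F431128)) (tt N47856 (iv7 D177955)))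
theorem Q81914 : ∀ i, i < 81914 → P i := stepQ 81913 Q81913 (allL N81913 (tt N112578 D215825) (tt N83227 F382968) (tt N83030 (iv2 F364218)) (tt N110720 (iv3 F472893)) (tt N47857 (iv4 D177959)) (tt N109042 (iv5 F465066)) (tt N109039 F465050) (tt N110429 (iv7 F471542)))
theorem Q81915 : ∀ i, i < 81915 → P i := stepQ 81914 Q81914 (allL N81914 (tt N75488 F366849) (tt N80621 (iv0 F386512)) (tt N110428 (iv2 F471533)) (tt N47859 F277509) (tt N101137 (iv4 F431874)) (tt N47857 (iv5 D177960)) (tt N101137 (iv6 F431875)) (tt N64321 F277510))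
theorem Q81916 : ∀ i, i < 81916 → P i := stepQ 81915 Q81915 (allL N81915 (tt N90631 (iv1 F431883)) (tt N90602 (iv0 F431882)) (tt N90630 (iv2 F418874)) (tt N47860 F277511) (tt N109039 (iv4 F465047)) (tt N101138 (iv5 F431880)) (tt N47857 (iv6 D177961)) (tt N83442 (iv7 F421400)))
theorem Q81917 : ∀ i, i < 81917 → P i := stepQ 81916 Q81916 (allL N81916 (tt N47862 (iv1 F277513)) (tt N47858 (iv0 D177962)) (tt N64878 (iv2 F304484)) (tt N109961 (iv3 F469388)) (tt N64349 (iv4 F302308)) (tt N109950 (iv5 F469358)) (tt N112579 D215826) (tt N64881 (iv7 F303660)))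
theorem Q81918 : ∀ i, i < 81918 → P i := stepQ 81917 Q81917 (allL N81917 (tt N47858 (iv1 D177963)) (tt N47862 F277515) (tt N64881 (iv2 F303659)) (tt N112580 D215827) (tt N48439 F277516) (tt N109945 F469336) (tt N83273 (iv6 F286590)) (tt N64878 (iv7 F304485)))
theorem Q81919 : ∀ i, i < 81919 → P i := stepQ 81918 Q81918 (allL N81918 (tt N101454 (iv1 F433020)) (tt N101450 (iv0 F432999)) (tt N112524 (iv2 F481498)) (tt N77904 (iv3 F351215)) (tt N47889 F277518) (tt N47858 (iv5 D177965)) (tt N77902 F351214) (tt N93493 (iv7 F400920)))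
theorem Q81920 : ∀ i, i < 81920 → P i := stepQ 81919 Q81919 (allL N81919 (tt N112581 D215828) (tt N105533 (iv0 F450611)) (tt N105304 (iv2 F449635)) (tt N110721 (iv3 F472897)) (tt N47860 F277519) (tt N105660 (iv5 F451138)) (tt N47858 (iv6 D177966)) (tt N105302 (iv7 F449627)))
theorem Q81921 : ∀ i, i < 81921 → P i := stepQ 81920 Q81920 (allL N81920 (tt N49461 (iv1 F338086)) (tt N52932 F338085) (tt N47861 (iv2 D177974)) (tt N83438 (iv3 F421388)) (tt N54444 (iv4 F338088)) (tt N53542 (iv5 F338087)) (tt N83435 F421383) (tt N52930 F338097))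
theorem Q81922 : ∀ i, i < 81922 → P i := stepQ 81921 Q81921 (allL N81921 (tt N112582 D215829) (tt N89890 (iv0 F392070)) (tt N83435 (iv2 F421384)) (tt N47863 F277528) (tt N77425 F421427) (tt N88560 (iv5 F383496)) (tt N47861 (iv6 D177976)) (tt N112583 D215830))
theorem Q81923 : ∀ i, i < 81923 → P i := stepQ 81922 Q81922 (allL N81922 (tt N112584 D215831) (tt N112585 D215832) (tt N98891 (iv2 F422707)) (tt N47862 (iv3 D177977)) (tt N112340 (iv4 F480648)) (tt N98886 F422699) (tt N110695 (iv6 F472793)) (tt N112523 (iv7 F481496)))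
theorem Q81924 : ∀ i, i < 81924 → P i := stepQ 81923 Q81923 (allL N81923 (tt N101450 (iv1 F433000)) (tt N101454 (iv0 F433019)) (tt N93493 (iv2 F400917)) (tt N98886 (iv3 F422698)) (tt N47887 F277529) (tt N47862 (iv5 D177978)) (tt N93492 F400916) (tt N112524 (iv7 F481501)))
theorem Q81925 : ∀ i, i < 81925 → P i := stepQ 81924 Q81924 (allL N81924 (tt N112586 D215833) (tt N112587 D215834) (tt N112525 (iv2 F481503)) (tt N110695 F472792) (tt N47863 F277530) (tt N112588 D215835) (tt N47862 (iv6 D177979)) (tt N112589 D215836))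
theorem Q81926 : ∀ i, i < 81926 → P i := stepQ 81925 Q81925 (allL N81925 (tt N83440 (iv1 F421406)) (tt N47863 (iv0 D177980)) (tt N112526 F481508) (tt N83424 F467195) (tt N112590 D215837) (tt N112591 D215838) (tt N108013 (iv6 F460728)) (tt N107197 F457429))
theorem Q81927 : ∀ i, i < 81927 → P i := stepQ 81926 Q81926 (allL N81926 (tt N47863 (iv1 D177981)) (tt N83440 F421405) (tt N107197 (iv2 F457426)) (tt N112592 D215839) (tt N112593 D215840) (tt N110872 (iv5 F473547)) (tt N72546 (iv6 F406607)) (tt N112526 (iv7 F481510)))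
theorem Q81928 : ∀ i, i < 81928 → P i := stepQ 81927 Q81927 (allL N81927 (tt N107197 F457428) (tt N112526 F481509) (tt N83440 F421403) (tt N112583 (iv3 F481724)) (tt N112589 (iv4 F481738)) (tt N111918 (iv5 F478640)) (tt N70431 F341431) (tt N47863 (iv7 D177982)))
theorem Q81929 : ∀ i, i < 81929 → P i := stepQ 81928 Q81928 (allL N81928 (tt N77966 (iv1 F473068)) (tt N110003 F473067) (tt N110002 F469521) (tt N47864 (iv3 D177983)) (tt N83395 (iv4 F364089)) (tt N112594 D215841) (tt N112595 D215842) (tt N83390 F364088))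
theorem Q81930 : ∀ i, i < 81930 → P i := stepQ 81929 Q81929 (allL N81929 (tt N112596 D215843) (tt N112597 D215844) (tt N112493 (iv2 F481336)) (tt N112594 (iv3 F481752)) (tt N47883 F277531) (tt N47864 (iv5 D177984)) (tt N107754 (iv6 F459570)) (tt N112527 (iv7 F481517)))
theorem Q81931 : ∀ i, i < 81931 → P i := stepQ 81930 Q81930 (allL N81930 (tt N105101 (iv1 F448797)) (tt N70432 (iv0 F432198)) (tt N105306 F449663) (tt N112595 (iv3 F481756)) (tt N101206 F432197) (tt N105668 (iv5 F451171)) (tt N47864 (iv6 D177985)) (tt N105305 (iv7 F449662)))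
theorem Q81932 : ∀ i, i < 81932 → P i := stepQ 81931 Q81931 (allL N81931 (tt N110785 (iv1 F481777)) (tt N107665 (iv0 F481779)) (tt N110782 (iv2 F485410)) (tt N47865 (iv3 D177986)) (tt N112598 D215848) (tt N112599 D215849) (tt N112600 D215850) (tt N110783 (iv7 F485414)))
theorem Q81933 : ∀ i, i < 81933 → P i := stepQ 81932 Q81932 (allL N81932 (tt N112597 (iv1 F481763)) (tt N112596 F481760) (tt N112527 (iv2 F481514)) (tt N112599 (iv3 F481774)) (tt N47879 F277532) (tt N47865 (iv5 D177987)) (tt N107785 F459723) (tt N112493 (iv7 F481338)))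
theorem Q81934 : ∀ i, i < 81934 → P i := stepQ 81933 Q81933 (allL N81933 (tt N112590 (iv1 F481771)) (tt N112593 (iv0 F481770)) (tt N83388 (iv2 F364086)) (tt N112600 (iv3 F481781)) (tt N83401 F364090) (tt N112601 D215851) (tt N47865 (iv6 D177988)) (tt N112602 D215852))
theorem Q81935 : ∀ i, i < 81935 → P i := stepQ 81934 Q81934 (allL N81934 (tt N112603 D215853) (tt N47866 (iv0 D177989)) (tt N112604 D215854) (tt N112605 D215855) (tt N112606 D215856) (tt N112607 D215857) (tt N112561 F481801) (tt N112608 D215858))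
theorem Q81936 : ∀ i, i < 81936 → P i := stepQ 81935 Q81935 (allL N81935 (tt N47866 (iv1 D177990)) (tt N112603 F481795) (tt N112608 (iv2 F481822)) (tt N61835 (iv3 F383970)) (tt N62012 F383971) (tt N61831 F383972) (tt N112609 D215859) (tt N112604 F481796))
theorem Q81937 : ∀ i, i < 81937 → P i := stepQ 81936 Q81936 (allL N81936 (tt N112604 F481802) (tt N112608 F481826) (tt N47866 (iv2 D177991)) (tt N105297 F449621) (tt N109521 (iv4 F467349)) (tt N112610 D215860) (tt N105307 (iv6 F449641)) (tt N112603 (iv7 F481794)))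
theorem Q81938 : ∀ i, i < 81938 → P i := stepQ 81937 Q81937 (allL N81937 (tt N112611 D215861) (tt N77932 (iv0 F360097)) (tt N112610 (iv2 F481831)) (tt N47867 F277533) (tt N112612 D215862) (tt N47866 (iv5 D177992)) (tt N106654 F455174) (tt N77839 F349759))
theorem Q81939 : ∀ i, i < 81939 → P i := stepQ 81938 Q81938 (allL N81938 (tt N112608 (iv1 F481827)) (tt N112604 (iv0 F481803)) (tt N112603 F481791) (tt N47868 F277534) (tt N109522 (iv4 F467352)) (tt N77839 F349758) (tt N112613 D215863) (tt N47866 (iv7 D177993)))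
theorem Q81940 : ∀ i, i < 81940 → P i := stepQ 81939 Q81939 (allL N81939 (tt N89493 (iv1 F413422)) (tt N110766 (iv0 F473078)) (tt N112531 (iv2 F481535)) (tt N106654 (iv3 F455165)) (tt N96679 F413421) (tt N112562 (iv5 F481656)) (tt N47867 (iv6 D177996)) (tt N110635 (iv7 F472527)))
theorem Q81941 : ∀ i, i < 81941 → P i := stepQ 81940 Q81940 (allL N81940 (tt N100443 F428996) (tt N98980 (iv0 F429043)) (tt N101504 (iv2 F433186)) (tt N112613 (iv3 F481845)) (tt N47869 F277541) (tt N100452 (iv5 F429041)) (tt N47868 (iv6 D177997)) (tt N106646 (iv7 F455133)))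
theorem Q81942 : ∀ i, i < 81942 → P i := stepQ 81941 Q81941 (allL N81941 (tt N90912 (iv1 F391252)) (tt N47869 (iv0 D177998)) (tt N101505 F452632) (tt N112614 D215864) (tt N112615 D215865) (tt N111196 (iv5 F475183)) (tt N112616 D215866) (tt N101506 F452630))
theorem Q81943 : ∀ i, i < 81943 → P i := stepQ 81942 Q81942 (allL N81942 (tt N47869 (iv1 D177999)) (tt N90912 F391251) (tt N101506 (iv2 F452629)) (tt N112617 D215867) (tt N112618 D215868) (tt N70875 (iv5 F341523)) (tt N108011 (iv6 F460721)) (tt N101505 (iv7 F452631)))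
theorem Q81944 : ∀ i, i < 81944 → P i := stepQ 81943 Q81943 (allL N81943 (tt N110236 (iv1 F470561)) (tt N110235 F470558) (tt N109986 (iv2 F469465)) (tt N106658 (iv3 F455185)) (tt N47870 (iv4 D178073)) (tt N108084 (iv5 F461048)) (tt N63678 F364658) (tt N100906 (iv7 F430913)))
theorem Q81945 : ∀ i, i < 81945 → P i := stepQ 81944 Q81944 (allL N81944 (tt N109817 (iv1 F468767)) (tt N109818 (iv0 F468772)) (tt N109893 (iv2 F469110)) (tt N47872 F277616) (tt N63678 (iv4 F364657)) (tt N61463 F364655) (tt N47870 (iv6 D178074)) (tt N109892 F469102))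
theorem Q81946 : ∀ i, i < 81946 → P i := stepQ 81945 Q81945 (allL N81945 (tt N112619 D215869) (tt N112620 D215870) (tt N110780 (iv2 F473150)) (tt N47871 (iv3 D178078)) (tt N106658 (iv4 F455186)) (tt N101531 (iv5 F433268)) (tt N98973 (iv6 F422882)) (tt N100909 (iv7 F430922)))
theorem Q81947 : ∀ i, i < 81947 → P i := stepQ 81946 Q81946 (allL N81946 (tt N112575 (iv1 F491071)) (tt N112577 (iv0 F481699)) (tt N101433 (iv2 F432965)) (tt N98973 F422880) (tt N47872 F277618) (tt N106626 (iv5 F455093)) (tt N47871 (iv6 D178079)) (tt N112621 D215872))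
theorem Q81948 : ∀ i, i < 81948 → P i := stepQ 81947 Q81947 (allL N81947 (tt N101345 (iv1 F432717)) (tt N47872 (iv0 D178080)) (tt N101432 F432962) (tt N90833 (iv3 F432719)) (tt N112622 D215873) (tt N105231 (iv5 F449316)) (tt N105309 F449654) (tt N90880 F432718))
theorem Q81949 : ∀ i, i < 81949 → P i := stepQ 81948 Q81948 (allL N81948 (tt N47872 (iv1 D178081)) (tt N101345 (iv0 F432716)) (tt N90880 (iv2 F391137)) (tt N112623 D215874) (tt N112624 D215875) (tt N89315 (iv5 F386057)) (tt N49084 F363013) (tt N101432 (iv7 F432964)))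
theorem Q81950 : ∀ i, i < 81950 → P i := stepQ 81949 Q81949 (allL N81949 (tt N90880 F391139) (tt N101432 F432963) (tt N101345 (iv2 F432712)) (tt N109892 (iv3 F469103)) (tt N112621 (iv4 F481870)) (tt N95021 (iv5 F406681)) (tt N64778 (iv6 F366914)) (tt N47872 (iv7 D178083)))
theorem Q81951 : ∀ i, i < 81951 → P i := stepQ 81950 Q81950 (allL N81950 (tt N100913 (iv1 F430940)) (tt N47873 (iv0 D178084)) (tt N87800 F380560) (tt N108673 (iv3 F463483)) (tt N51715 F380561) (tt N112625 D215876) (tt N101142 (iv6 F431905)) (tt N91925 (iv7 F394976)))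
theorem Q81952 : ∀ i, i < 81952 → P i := stepQ 81951 Q81951 (allL N81951 (tt N47873 (iv1 D178085)) (tt N100913 F430941) (tt N91925 (iv2 F394975)) (tt N112626 D215877) (tt N51665 (iv4 F365763)) (tt N112627 D215878) (tt N108671 (iv6 F463480)) (tt N87800 (iv7 F380558)))
theorem Q81953 : ∀ i, i < 81953 → P i := stepQ 81952 Q81952 (allL N81952 (tt N87800 (iv1 F394595)) (tt N91925 (iv0 F394977)) (tt N47873 (iv2 D178086)) (tt N101496 (iv3 F433146)) (tt N91830 F394585) (tt N89464 F394586) (tt N112011 (iv6 F479065)) (tt N100913 (iv7 F430939)))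
theorem Q81954 : ∀ i, i < 81954 → P i := stepQ 81953 Q81953 (allL N81953 (tt N112628 D215879) (tt N86118 (iv0 F394592)) (tt N89464 (iv2 F394587)) (tt N47874 F277620) (tt N89009 F394588) (tt N47873 (iv5 D178087)) (tt N89008 F394589) (tt N100914 (iv7 F430944)))
theorem Q81955 : ∀ i, i < 81955 → P i := stepQ 81954 Q81954 (allL N81954 (tt N112012 (iv1 F479074)) (tt N111017 (iv0 F474276)) (tt N112011 F479064) (tt N47875 F277621) (tt N80925 F277622) (tt N57145 (iv5 F394591)) (tt N47873 (iv6 D178088)) (tt N65047 (iv7 F277623)))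
theorem Q81956 : ∀ i, i < 81956 → P i := stepQ 81955 Q81955 (allL N81955 (tt N112629 D215880) (tt N99033 (iv0 F424181)) (tt N101497 (iv2 F433153)) (tt N89008 (iv3 F394590)) (tt N101466 (iv4 F433041)) (tt N112630 D215881) (tt N47874 (iv6 D178089)) (tt N89440 F394594))
theorem Q81957 : ∀ i, i < 81957 → P i := stepQ 81956 Q81956 (allL N81956 (tt N79182 (iv1 F359941)) (tt N79181 (iv0 F359939)) (tt N65046 F277624) (tt N57145 F394593) (tt N79164 F366916) (tt N47875 (iv5 D178090)) (tt N112630 (iv6 F481910)) (tt N65048 F277625))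
theorem Q81958 : ∀ i, i < 81958 → P i := stepQ 81957 Q81957 (allL N81957 (tt N107916 (iv1 F460273)) (tt N99354 (iv0 F424243)) (tt N75507 F356029) (tt N47876 (iv3 D178092)) (tt N82550 (iv4 F282288)) (tt N75181 (iv5 F356028)) (tt N58700 (iv6 F365906)) (tt N82543 (iv7 F282172)))
theorem Q81959 : ∀ i, i < 81959 → P i := stepQ 81958 Q81958 (allL N81958 (tt N94830 F406083) (tt N59486 (iv0 F365965)) (tt N94834 (iv2 F406097)) (tt N47877 (iv3 D178094)) (tt N54846 F277633) (tt N57842 (iv5 F363362)) (tt N54841 F277634) (tt N94833 F406092))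
theorem Q81960 : ∀ i, i < 81960 → P i := stepQ 81959 Q81959 (allL N81959 (tt N47878 (iv1 D178096)) (tt N59481 F361609) (tt N59483 F361598) (tt N94853 (iv3 F406163)) (tt N80744 (iv4 F348180)) (tt N94525 (iv5 F404847)) (tt N78437 F361599) (tt N59476 (iv7 F361595)))
theorem Q81961 : ∀ i, i < 81961 → P i := stepQ 81960 Q81960 (allL N81960 (tt N99298 F433140) (tt N107784 F459718) (tt N94801 (iv2 F406013)) (tt N47879 F277635) (tt N112631 D215882) (tt N47878 (iv5 D178098)) (tt N92382 F400472) (tt N107783 (iv7 F459709)))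
theorem Q81962 : ∀ i, i < 81962 → P i := stepQ 81961 Q81961 (allL N81961 (tt N47883 (iv1 F277638)) (tt N47879 (iv0 D178100)) (tt N64945 (iv2 F303665)) (tt N99352 F424232) (tt N112567 (iv4 F481679)) (tt N64354 (iv5 F299586)) (tt N72842 (iv6 F363361)) (tt N64943 (iv7 F304488)))
theorem Q81963 : ∀ i, i < 81963 → P i := stepQ 81962 Q81962 (allL N81962 (tt N47879 (iv1 D178101)) (tt N47883 F277641) (tt N64943 (iv2 F304487)) (tt N107776 (iv3 F459674)) (tt N93502 (iv4 F400959)) (tt N64353 (iv5 F299584)) (tt N93501 F400957) (tt N64945 (iv7 F303666)))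
theorem Q81964 : ∀ i, i < 81964 → P i := stepQ 81963 Q81963 (allL N81963 (tt N99347 (iv1 F424208)) (tt N99302 (iv0 F424006)) (tt N107295 (iv2 F457843)) (tt N92382 (iv3 F400474)) (tt N107785 (iv4 F459719)) (tt N100606 (iv5 F429678)) (tt N47879 (iv6 D178102)) (tt N94802 (iv7 F406016)))
theorem Q81965 : ∀ i, i < 81965 → P i := stepQ 81964 Q81964 (allL N81964 (tt N58696 (iv1 F325622)) (tt N58679 (iv0 F360062)) (tt N58692 F359827) (tt N58206 (iv3 F359820)) (tt N95216 (iv4 F407452)) (tt N47880 (iv5 D178105)) (tt N100606 (iv6 F429676)) (tt N58693 (iv7 F359822)))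
theorem Q81966 : ∀ i, i < 81966 → P i := stepQ 81965 Q81965 (allL N81965 (tt N94953 F406485) (tt N47882 (iv0 D178114)) (tt N87025 (iv2 F378076)) (tt N112632 D215883) (tt N55514 F378077) (tt N112628 (iv5 F481900)) (tt N78448 F378078) (tt N87069 (iv7 F378272)))
theorem Q81967 : ∀ i, i < 81967 → P i := stepQ 81966 Q81966 (allL N81966 (tt N47882 (iv1 D178115)) (tt N94953 F406486) (tt N87069 (iv2 F378271)) (tt N112633 D215884) (tt N52281 (iv4 F359243)) (tt N86118 F375166) (tt N86121 (iv6 F375167)) (tt N87025 (iv7 F378074)))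
theorem Q81968 : ∀ i, i < 81968 → P i := stepQ 81967 Q81967 (allL N81967 (tt N87025 (iv1 F378275)) (tt N87069 F378274) (tt N47882 (iv2 D178116)) (tt N59481 (iv3 F361603)) (tt N91938 (iv4 F395032)) (tt N112634 D215885) (tt N101121 (iv6 F431780)) (tt N94953 F406484))
theorem Q81969 : ∀ i, i < 81969 → P i := stepQ 81968 Q81968 (allL N81968 (tt N112635 D215886) (tt N112636 D215887) (tt N112634 (iv2 F481926)) (tt N47883 F277669) (tt N107301 (iv4 F457873)) (tt N47882 (iv5 D178117)) (tt N112144 (iv6 F479726)) (tt N107297 F457858))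
theorem Q81970 : ∀ i, i < 81970 → P i := stepQ 81969 Q81969 (allL N81969 (tt N58116 (iv1 F405571)) (tt N57888 (iv0 F405565)) (tt N58113 F363319) (tt N112144 (iv3 F479725)) (tt N107754 (iv4 F459569)) (tt N96326 (iv5 F412049)) (tt N47883 (iv6 D178119)) (tt N58114 (iv7 F363320)))
theorem Q81971 : ∀ i, i < 81971 → P i := stepQ 81970 Q81970 (allL N81970 (tt N90177 (iv1 F430753)) (tt N76524 (iv0 F353870)) (tt N77081 (iv2 F366850)) (tt N47884 (iv3 D178122)) (tt N78569 (iv4 F302492)) (tt N101440 (iv5 F432977)) (tt N63915 (iv6 F299269)) (tt N105727 (iv7 F451434)))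
theorem Q81972 : ∀ i, i < 81972 → P i := stepQ 81971 Q81971 (allL N81971 (tt N96319 F412011) (tt N47885 (iv0 D178123)) (tt N96402 (iv2 F412351)) (tt N111813 (iv3 F478111)) (tt N112637 D215888) (tt N110892 F473642) (tt N96307 F411954) (tt N96521 (iv7 F412835)))
theorem Q81973 : ∀ i, i < 81973 → P i := stepQ 81972 Q81972 (allL N81972 (tt N47885 (iv1 D178124)) (tt N96319 F412010) (tt N96521 (iv2 F412837)) (tt N112638 D215889) (tt N112639 D215890) (tt N70230 (iv5 F345336)) (tt N78453 F402161) (tt N96402 (iv7 F412352)))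
theorem Q81974 : ∀ i, i < 81974 → P i := stepQ 81973 Q81973 (allL N81973 (tt N57976 (iv1 F345341)) (tt N57975 F345340) (tt N57869 F345338) (tt N47888 F277680) (tt N95694 (iv4 F409167)) (tt N94757 (iv5 F405829)) (tt N47885 (iv6 D178127)) (tt N57977 (iv7 F345339)))
theorem Q81975 : ∀ i, i < 81975 → P i := stepQ 81974 Q81974 (allL N81974 (tt N47889 (iv1 F277688)) (tt N47887 (iv0 D178129)) (tt N64941 (iv2 F302549)) (tt N110995 (iv3 F474144)) (tt N112597 (iv4 F481766)) (tt N63990 (iv5 F300048)) (tt N62566 F349733) (tt N64938 (iv7 F302544)))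
theorem Q81976 : ∀ i, i < 81976 → P i := stepQ 81975 Q81975 (allL N81975 (tt N47887 (iv1 D178130)) (tt N47889 F277691) (tt N64938 (iv2 F302543)) (tt N107814 (iv3 F459818)) (tt N112596 (iv4 F481759)) (tt N64352 (iv5 F301768)) (tt N107853 F459997) (tt N64941 (iv7 F302550)))
theorem Q81977 : ∀ i, i < 81977 → P i := stepQ 81976 Q81976 (allL N81976 (tt N47892 (iv1 F277704)) (tt N47891 (iv0 D178142)) (tt N47895 (iv2 F277701)) (tt N101509 (iv3 F433203)) (tt N47922 F277702) (tt N98201 (iv5 F419961)) (tt N97075 (iv6 F415348)) (tt N47893 F277703))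
theorem Q81978 : ∀ i, i < 81978 → P i := stepQ 81977 Q81977 (allL N81977 (tt N96969 (iv1 F414848)) (tt N96783 (iv0 F413917)) (tt N101554 (iv2 F433380)) (tt N60696 (iv3 F358897)) (tt N79286 (iv4 F358895)) (tt N95188 (iv5 F407351)) (tt N47891 (iv6 D178147)) (tt N72905 F358893))
theorem Q81979 : ∀ i, i < 81979 → P i := stepQ 81978 Q81978 (allL N81978 (tt N111711 F477611) (tt N111813 (iv0 F478109)) (tt N111093 (iv2 F474628)) (tt N47892 (iv3 D178149)) (tt N96491 (iv4 F412737)) (tt N112640 D215891) (tt N81223 F358891) (tt N111857 (iv7 F478336)))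
theorem Q81980 : ∀ i, i < 81980 → P i := stepQ 81979 Q81979 (allL N81979 (tt N107814 (iv1 F459815)) (tt N107813 (iv0 F459814)) (tt N107815 (iv2 F459820)) (tt N112640 (iv3 F481954)) (tt N112641 D215892) (tt N47892 (iv5 D178150)) (tt N112642 D215893) (tt N107812 F459808))
theorem Q81981 : ∀ i, i < 81981 → P i := stepQ 81980 Q81980 (allL N81980 (tt N112643 D215894) (tt N109336 (iv0 F466444)) (tt N47894 F277708) (tt N112536 (iv3 F481557)) (tt N56867 (iv4 F358687)) (tt N47893 (iv5 D178153)) (tt N56865 F358688) (tt N98201 F419962))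
theorem Q81982 : ∀ i, i < 81982 → P i := stepQ 81981 Q81981 (allL N81981 (tt N98201 F419964) (tt N47894 (iv0 D178154)) (tt N112643 F481963) (tt N73501 F356033) (tt N110199 (iv4 F470396)) (tt N101516 (iv5 F433224)) (tt N73499 (iv6 F356034)) (tt N109336 (iv7 F466443)))
theorem Q81983 : ∀ i, i < 81983 → P i := stepQ 81982 Q81982 (allL N81982 (tt N47894 (iv1 D178155)) (tt N98201 F419965) (tt N109336 F466447) (tt N112644 D215895) (tt N86218 (iv4 F419966)) (tt N101517 (iv5 F433228)) (tt N89484 F419968) (tt N112643 (iv7 F481965)))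
theorem Q81984 : ∀ i, i < 81984 → P i := stepQ 81983 Q81983 (allL N81983 (tt N96025 F410698) (tt N112645 D215896) (tt N56867 F358686) (tt N96475 (iv3 F412674)) (tt N47894 (iv4 D178156)) (tt N96474 (iv5 F412672)) (tt N56863 (iv6 F358685)) (tt N112646 D215897))
theorem Q81985 : ∀ i, i < 81985 → P i := stepQ 81984 Q81984 (allL N81984 (tt N72288 (iv1 F345263)) (tt N53767 (iv0 F345258)) (tt N56865 (iv2 F358689)) (tt N47899 F277709) (tt N56863 (iv4 F358683)) (tt N54035 (iv5 F345256)) (tt N47894 (iv6 D178157)) (tt N56870 F349768))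
theorem Q81986 : ∀ i, i < 81986 → P i := stepQ 81985 Q81985 (allL N81985 (tt N109336 F466445) (tt N112643 F481964) (tt N98201 (iv2 F419959)) (tt N47900 F277711) (tt N112646 (iv4 F481975)) (tt N47895 F277712) (tt N98173 (iv6 F419843)) (tt N47894 (iv7 D178158)))
theorem Q81987 : ∀ i, i < 81987 → P i := stepQ 81986 Q81986 (allL N81986 (tt N110892 (iv1 F473639)) (tt N70230 F402162) (tt N73532 F360080) (tt N47896 (iv3 D178160)) (tt N97152 (iv4 F415692)) (tt N100538 F429390) (tt N73530 F360086) (tt N108943 (iv7 F464603)))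
theorem Q81988 : ∀ i, i < 81988 → P i := stepQ 81987 Q81987 (allL N81987 (tt N54198 (iv1 F360795)) (tt N73522 F360084) (tt N73448 F360081) (tt N73530 (iv3 F360082)) (tt N109927 (iv4 F469265)) (tt N100539 (iv5 F429392)) (tt N47896 (iv6 D178161)) (tt N73523 (iv7 F360083)))
theorem Q81989 : ∀ i, i < 81989 → P i := stepQ 81988 Q81988 (allL N81988 (tt N97030 F415113) (tt N97027 (iv0 F415099)) (tt N108941 (iv2 F464589)) (tt N73046 (iv3 F360029)) (tt N110719 (iv4 F472887)) (tt N73044 F360028) (tt N47897 (iv6 D178163)) (tt N73525 F360031))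
theorem Q81990 : ∀ i, i < 81990 → P i := stepQ 81989 Q81989 (allL N81989 (tt N112647 D215898) (tt N101357 F432767) (tt N112648 D215899) (tt N47898 (iv3 D178164)) (tt N96475 F412676) (tt N101503 (iv5 F433182)) (tt N96528 (iv6 F412865)) (tt N112530 (iv7 F481531)))
theorem Q81991 : ∀ i, i < 81991 → P i := stepQ 81990 Q81990 (allL N81990 (tt N109941 F469324) (tt N72299 (iv0 F409308)) (tt N96679 (iv2 F413416)) (tt N98173 (iv3 F419842)) (tt N112531 (iv4 F481536)) (tt N95721 (iv5 F409306)) (tt N47900 (iv6 D178169)) (tt N96713 (iv7 F413578)))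
theorem Q81992 : ∀ i, i < 81992 → P i := stepQ 81991 Q81991 (allL N81991 (tt N47901 (iv1 D178174)) (tt N52841 (iv0 F321802)) (tt N80115 (iv2 F362460)) (tt N82065 F425390) (tt N103367 (iv4 F441309)) (tt N99606 (iv5 F425388)) (tt N69228 (iv6 F333815)) (tt N80116 (iv7 F336442)))
theorem Q81993 : ∀ i, i < 81993 → P i := stepQ 81992 Q81992 (allL N81992 (tt N80113 (iv1 F277729)) (tt N47902 (iv0 D178176)) (tt N80112 (iv2 F345530)) (tt N95103 (iv3 F407052)) (tt N110893 (iv4 F473648)) (tt N47931 F336010) (tt N80053 (iv6 F336007)) (tt N65074 (iv7 F345548)))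
theorem Q81994 : ∀ i, i < 81994 → P i := stepQ 81993 Q81993 (allL N81993 (tt N47902 (iv1 D178177)) (tt N80113 F277734) (tt N65074 F345551) (tt N91969 F395181) (tt N112649 D215900) (tt N47932 F336002) (tt N65071 (iv6 F362195)) (tt N80112 F345529))
theorem Q81995 : ∀ i, i < 81995 → P i := stepQ 81994 Q81994 (allL N81994 (tt N80112 (iv1 F277735)) (tt N65074 (iv0 F345555)) (tt N47902 (iv2 D178178)) (tt N52841 (iv3 F321805)) (tt N101518 (iv4 F433229)) (tt N61470 (iv5 F334690)) (tt N48268 F277731) (tt N80113 F277732))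
theorem Q81996 : ∀ i, i < 81996 → P i := stepQ 81995 Q81995 (allL N81995 (tt N109230 (iv1 F465882)) (tt N109229 (iv0 F465877)) (tt N109332 F466419) (tt N47903 (iv3 D178180)) (tt N100796 F430506) (tt N75220 F355143) (tt N81512 (iv6 F340149)) (tt N101725 (iv7 F434049)))
theorem Q81997 : ∀ i, i < 81997 → P i := stepQ 81996 Q81996 (allL N81996 (tt N112650 D215901) (tt N112651 D215902) (tt N101727 (iv2 F434058)) (tt N91880 F394808) (tt N47903 (iv4 D178181)) (tt N112652 D215903) (tt N82119 (iv6 F340150)) (tt N101726 (iv7 F434056)))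
theorem Q81998 : ∀ i, i < 81998 → P i := stepQ 81997 Q81997 (allL N81997 (tt N74828 F352062) (tt N64248 F352064) (tt N74827 (iv2 F348634)) (tt N75220 (iv3 F355142)) (tt N56335 F352065) (tt N47903 (iv5 D178182)) (tt N63743 (iv6 F340151)) (tt N61004 F340171))
theorem Q81999 : ∀ i, i < 81999 → P i := stepQ 81998 Q81998 (allL N81998 (tt N112651 (iv1 F481998)) (tt N112650 F481995) (tt N101726 (iv2 F434053)) (tt N67348 F347468) (tt N47904 (iv4 D178186)) (tt N112653 D215904) (tt N48281 F335990) (tt N101727 (iv7 F434060)))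
theorem Q82000 : ∀ i, i < 82000 → P i := stepQ 81999 Q81999 (allL N81999 (tt N95123 (iv1 F407132)) (tt N47906 (iv0 D178221)) (tt N82067 F337716) (tt N95130 (iv3 F407163)) (tt N63550 (iv4 F337715)) (tt N82060 F337717) (tt N101494 F433137) (tt N82059 (iv7 F337718)))
theorem Q82001 : ∀ i, i < 82001 → P i := stepQ 82000 Q82000 (allL N82000 (tt N47906 (iv1 D178222)) (tt N95123 (iv0 F407131)) (tt N82059 F337721) (tt N103917 (iv3 F443363)) (tt N80118 (iv4 F277776)) (tt N63541 (iv5 F337720)) (tt N95112 F407098) (tt N82067 F337719))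
theorem Q82002 : ∀ i, i < 82002 → P i := stepQ 82001 Q82001 (allL N82001 (tt N82067 F341258) (tt N82059 F341260) (tt N47906 (iv2 D178223)) (tt N101144 (iv3 F431917)) (tt N47910 F277777) (tt N77570 (iv5 F341262)) (tt N79582 F277778) (tt N95123 (iv7 F407130)))
theorem Q82003 : ∀ i, i < 82003 → P i := stepQ 82002 Q82002 (allL N82002 (tt N94971 F406580) (tt N94961 (iv0 F406517)) (tt N77570 F341268) (tt N47907 F277779) (tt N63543 (iv4 F341402)) (tt N47906 (iv5 D178224)) (tt N72948 (iv6 F341403)) (tt N62182 F341401))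
theorem Q82004 : ∀ i, i < 82004 → P i := stepQ 82003 Q82003 (allL N82003 (tt N112654 D215905) (tt N112136 (iv0 F479684)) (tt N101720 (iv2 F434024)) (tt N87010 (iv3 F378037)) (tt N47908 (iv4 D178230)) (tt N81282 F337712) (tt N101866 (iv6 F434735)) (tt N81281 (iv7 F353916)))
theorem Q82005 : ∀ i, i < 82005 → P i := stepQ 82004 Q82004 (allL N82004 (tt N63546 (iv1 F331713)) (tt N62493 (iv0 F331710)) (tt N66930 (iv2 F331706)) (tt N48692 F331707) (tt N63573 (iv4 F331708)) (tt N47908 (iv5 D178231)) (tt N64038 F331705) (tt N77577 (iv7 F353917)))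
theorem Q82006 : ∀ i, i < 82006 → P i := stepQ 82005 Q82005 (allL N82005 (tt N109333 (iv1 F466424)) (tt N111837 (iv0 F478229)) (tt N87018 (iv2 F378057)) (tt N47909 (iv3 D178234)) (tt N112655 D215906) (tt N81508 F361916) (tt N89721 F387302) (tt N98292 (iv7 F420363)))
theorem Q82007 : ∀ i, i < 82007 → P i := stepQ 82006 Q82006 (allL N82006 (tt N112136 (iv1 F479685)) (tt N112654 F482016) (tt N81281 (iv2 F353915)) (tt N93375 (iv3 F400574)) (tt N47909 (iv4 D178235)) (tt N63581 F337711) (tt N93374 F400572) (tt N101720 (iv7 F434027)))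
theorem Q82008 : ∀ i, i < 82008 → P i := stepQ 82007 Q82007 (allL N82007 (tt N62493 F337714) (tt N63546 F337713) (tt N77577 F353918) (tt N81508 (iv3 F346725)) (tt N66931 (iv4 F337709)) (tt N47909 (iv5 D178236)) (tt N63700 (iv6 F339398)) (tt N66930 F337710))
theorem Q82009 : ∀ i, i < 82009 → P i := stepQ 82008 Q82008 (allL N82008 (tt N64014 (iv1 F339243)) (tt N76727 (iv0 F339240)) (tt N78701 (iv2 F353944)) (tt N89721 (iv3 F387304)) (tt N93374 (iv4 F400571)) (tt N63701 F339241) (tt N47909 (iv6 D178237)) (tt N78702 (iv7 F353947)))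
theorem Q82010 : ∀ i, i < 82010 → P i := stepQ 82009 Q82009 (allL N82009 (tt N94974 (iv1 F406555)) (tt N59423 (iv0 F331242)) (tt N91506 (iv2 F393412)) (tt N47911 (iv3 D178238)) (tt N55444 (iv4 F331240)) (tt N72936 (iv5 F363364)) (tt N72896 (iv6 F362624)) (tt N91508 (iv7 F393422)))
theorem Q82011 : ∀ i, i < 82011 → P i := stepQ 82010 Q82010 (allL N82010 (tt N72306 (iv1 F344445)) (tt N47912 (iv0 D178239)) (tt N80553 (iv2 F304203)) (tt N112656 D215907) (tt N94482 (iv4 F404669)) (tt N64282 (iv5 F299733)) (tt N73556 (iv6 F362635)) (tt N72843 (iv7 F341287)))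
theorem Q82012 : ∀ i, i < 82012 → P i := stepQ 82011 Q82011 (allL N82011 (tt N47912 (iv1 D178240)) (tt N72306 F344444) (tt N72843 (iv2 F341285)) (tt N108996 (iv3 F464822)) (tt N69109 (iv4 F344446)) (tt N64283 (iv5 F299222)) (tt N56792 F344447) (tt N80553 (iv7 F304204)))
theorem Q82013 : ∀ i, i < 82013 → P i := stepQ 82012 Q82012 (allL N82012 (tt N47927 F353480) (tt N58861 F353505) (tt N97068 (iv2 F415303)) (tt N47913 (iv3 D178245)) (tt N84565 (iv4 F369705)) (tt N98751 (iv5 F422152)) (tt N58770 F353481) (tt N79653 F353482))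
theorem Q82014 : ∀ i, i < 82014 → P i := stepQ 82013 Q82013 (allL N82013 (tt N49875 (iv1 F345960)) (tt N47937 F333965) (tt N50660 (iv2 F356626)) (tt N98751 (iv3 F422149)) (tt N49620 (iv4 F333968)) (tt N47913 (iv5 D178247)) (tt N109266 F466077) (tt N79656 F356625))
theorem Q82015 : ∀ i, i < 82015 → P i := stepQ 82014 Q82014 (allL N82014 (tt N79661 (iv1 F351993)) (tt N48326 F333972) (tt N79663 (iv2 F351999)) (tt N58770 (iv3 F353507)) (tt N55171 (iv4 F352009)) (tt N96808 (iv5 F414056)) (tt N47913 (iv6 D178248)) (tt N64134 F351998))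
theorem Q82016 : ∀ i, i < 82016 → P i := stepQ 82015 Q82015 (allL N82015 (tt N80048 (iv1 F360229)) (tt N80049 (iv0 F360228)) (tt N96565 (iv2 F413020)) (tt N47914 (iv3 D178250)) (tt N81345 F360226) (tt N60551 (iv5 F360224)) (tt N60552 F360225) (tt N80161 (iv7 F360227)))
theorem Q82017 : ∀ i, i < 82017 → P i := stepQ 82016 Q82016 (allL N82016 (tt N79692 (iv1 F373666)) (tt N80153 F277836) (tt N47918 F277833) (tt N65640 (iv3 F355926)) (tt N47917 (iv4 D178284)) (tt N97663 (iv5 F417837)) (tt N87919 (iv6 F381122)) (tt N80154 F277834))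
theorem Q82018 : ∀ i, i < 82018 → P i := stepQ 82017 Q82017 (allL N82017 (tt N75012 (iv1 F321710)) (tt N47981 (iv0 F334036)) (tt N47919 F277837) (tt N52293 (iv3 F323555)) (tt N75780 F334042) (tt N47917 (iv5 D178285)) (tt N74396 (iv6 F334039)) (tt N75013 (iv7 F321715)))
theorem Q82019 : ∀ i, i < 82019 → P i := stepQ 82018 Q82018 (allL N82018 (tt N79556 (iv1 F341874)) (tt N79562 F277845) (tt N47920 F277842) (tt N80162 F277843) (tt N87919 (iv4 F381120)) (tt N66839 (iv5 F334038)) (tt N47917 (iv6 D178286)) (tt N66838 (iv7 F318829)))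
theorem Q82020 : ∀ i, i < 82020 → P i := stepQ 82019 Q82019 (allL N82019 (tt N80154 (iv1 F277847)) (tt N47918 (iv0 D178287)) (tt N79692 F362483) (tt N67490 F362484) (tt N75330 (iv4 F339608)) (tt N97777 (iv5 F418270)) (tt N50667 (iv6 F362482)) (tt N80153 (iv7 F373667)))
theorem Q82021 : ∀ i, i < 82021 → P i := stepQ 82020 Q82020 (allL N82020 (tt N47918 (iv1 D178288)) (tt N80154 F277849) (tt N80153 F373668) (tt N65513 (iv3 F356070)) (tt N80164 (iv4 F277850)) (tt N65510 F356071) (tt N112657 D215908) (tt N79692 F362485))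
theorem Q82022 : ∀ i, i < 82022 → P i := stepQ 82021 Q82021 (allL N82021 (tt N111833 (iv1 F478209)) (tt N97747 (iv0 F418140)) (tt N97663 (iv2 F417835)) (tt N64242 F277851) (tt N108454 (iv4 F462653)) (tt N47918 (iv5 D178289)) (tt N81742 F360412) (tt N80155 F277852))
theorem Q82023 : ∀ i, i < 82023 → P i := stepQ 82022 Q82022 (allL N82022 (tt N112633 (iv1 F481924)) (tt N94539 (iv0 F404883)) (tt N47924 F277890) (tt N94830 (iv3 F406081)) (tt N47923 (iv4 D178307)) (tt N99294 (iv5 F423975)) (tt N72894 (iv6 F365526)) (tt N47928 F277891))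
theorem Q82024 : ∀ i, i < 82024 → P i := stepQ 82023 Q82023 (allL N82023 (tt N47928 (iv1 F277905)) (tt N47924 (iv0 D178317)) (tt N112633 F481925) (tt N112658 D215909) (tt N80170 F277900) (tt N94540 (iv5 F404889)) (tt N59413 F409679) (tt N94539 (iv7 F404882)))
theorem Q82025 : ∀ i, i < 82025 → P i := stepQ 82024 Q82024 (allL N82024 (tt N47924 (iv1 D178318)) (tt N47928 F277901) (tt N94539 (iv2 F404879)) (tt N87025 (iv3 F378072)) (tt N80178 (iv4 F358931)) (tt N94535 (iv5 F404876)) (tt N78468 F358932) (tt N112633 (iv7 F481922)))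
theorem Q82026 : ∀ i, i < 82026 → P i := stepQ 82025 Q82025 (allL N82025 (tt N94539 F404885) (tt N112633 (iv0 F481923)) (tt N47928 F277903) (tt N59336 (iv3 F351064)) (tt N47926 F277904) (tt N99297 (iv5 F423981)) (tt N80779 F334709) (tt N47924 (iv7 D178322)))
theorem Q82027 : ∀ i, i < 82027 → P i := stepQ 82026 Q82026 (allL N82026 (tt N58861 F353485) (tt N47927 (iv0 D178333)) (tt N79653 (iv2 F353483)) (tt N96565 (iv3 F413021)) (tt N85711 (iv4 F373614)) (tt N96562 (iv5 F413005)) (tt N78472 F353484) (tt N97068 (iv7 F415305)))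
theorem Q82028 : ∀ i, i < 82028 → P i := stepQ 82027 Q82027 (allL N82027 (tt N79881 F353519) (tt N80165 (iv0 F277911)) (tt N81174 F353504) (tt N95484 (iv3 F408346)) (tt N47927 (iv4 D178336)) (tt N112659 D215910) (tt N81222 F334712) (tt N95381 F408065))
theorem Q82029 : ∀ i, i < 82029 → P i := stepQ 82028 Q82028 (allL N82028 (tt N94834 (iv1 F406094)) (tt N94833 F406091) (tt N59486 F360136) (tt N47928 (iv3 D178339)) (tt N95484 (iv4 F408347)) (tt N107777 (iv5 F459681)) (tt N80992 F334710) (tt N94830 F406084))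
theorem Q82030 : ∀ i, i < 82030 → P i := stepQ 82029 Q82029 (allL N82029 (tt N99296 (iv1 F423977)) (tt N99295 F423983) (tt N99297 (iv2 F423978)) (tt N107777 (iv3 F459679)) (tt N108901 (iv4 F464423)) (tt N47928 (iv5 D178340)) (tt N107166 (iv6 F457287)) (tt N99294 F423976))
theorem Q82031 : ∀ i, i < 82031 → P i := stepQ 82030 Q82030 (allL N82030 (tt N47935 (iv1 F277918)) (tt N47930 (iv0 D178358)) (tt N47931 F345526) (tt N109852 F468919) (tt N51011 F353308) (tt N80112 (iv5 F345525)) (tt N51013 F345527) (tt N47932 F345528))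
theorem Q82032 : ∀ i, i < 82032 → P i := stepQ 82031 Q82031 (allL N82031 (tt N83644 (iv1 F374395)) (tt N86228 F375468) (tt N47933 F277921) (tt N98142 (iv3 F419670)) (tt N47930 (iv4 D178360)) (tt N112660 D215911) (tt N98141 F419668) (tt N86226 (iv7 F375456)))
theorem Q82033 : ∀ i, i < 82033 → P i := stepQ 82032 Q82032 (allL N82032 (tt N94922 F407057) (tt N94936 (iv0 F407056)) (tt N94934 F406404) (tt N47931 (iv3 D178363)) (tt N97099 (iv4 F415475)) (tt N95103 F407055) (tt N103888 (iv6 F443221)) (tt N94933 (iv7 F406401)))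
theorem Q82034 : ∀ i, i < 82034 → P i := stepQ 82033 Q82033 (allL N82033 (tt N109550 F467473) (tt N109690 (iv0 F468129)) (tt N51011 F336012) (tt N109694 (iv3 F468144)) (tt N47931 (iv4 D178364)) (tt N50823 F336013) (tt N48621 F336014) (tt N109717 (iv7 F468264)))
theorem Q82035 : ∀ i, i < 82035 → P i := stepQ 82034 Q82034 (allL N82034 (tt N96562 F413006) (tt N98751 (iv0 F422151)) (tt N94063 (iv2 F403030)) (tt N47932 (iv3 D178368)) (tt N66072 (iv4 F335994)) (tt N91969 (iv5 F395179)) (tt N60356 F335996) (tt N109852 (iv7 F468918)))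
theorem Q82036 : ∀ i, i < 82036 → P i := stepQ 82035 Q82035 (allL N82035 (tt N47933 (iv1 D178373)) (tt N86226 F375457) (tt N86228 (iv2 F375463)) (tt N79936 F375441) (tt N109285 F466184) (tt N85907 (iv5 F375439)) (tt N79897 (iv6 F375440)) (tt N83644 F375438))
theorem Q82037 : ∀ i, i < 82037 → P i := stepQ 82036 Q82036 (allL N82036 (tt N112661 D215912) (tt N112378 (iv0 F480814)) (tt N112660 (iv2 F482048)) (tt N74961 F366567) (tt N108904 (iv4 F464438)) (tt N47933 (iv5 D178375)) (tt N86705 (iv6 F376859)) (tt N112662 D215913))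
theorem Q82038 : ∀ i, i < 82038 → P i := stepQ 82037 Q82037 (allL N82037 (tt N86228 (iv1 F375469)) (tt N83644 (iv0 F354323)) (tt N86226 F375455) (tt N99744 (iv3 F426017)) (tt N47935 F277929) (tt N112662 (iv5 F482063)) (tt N61055 F347654) (tt N47933 (iv7 D178377)))
theorem Q82039 : ∀ i, i < 82039 → P i := stepQ 82038 Q82038 (allL N82038 (tt N76519 (iv1 F363117)) (tt N89102 (iv0 F385158)) (tt N68357 F363119) (tt N63845 (iv3 F363118)) (tt N100638 (iv4 F429786)) (tt N47939 (iv5 D178409)) (tt N63843 F363120) (tt N72373 F363121))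
theorem Q82040 : ∀ i, i < 82040 → P i := stepQ 82039 Q82039 (allL N82039 (tt N80309 F350910) (tt N80314 F350911) (tt N75212 (iv2 F364626)) (tt N89461 (iv3 F386583)) (tt N108053 (iv4 F460895)) (tt N59999 F364625) (tt N47948 (iv6 D178439)) (tt N80313 F357029))
theorem Q82041 : ∀ i, i < 82041 → P i := stepQ 82040 Q82040 (allL N82040 (tt N100691 (iv1 F430036)) (tt N100690 F430033) (tt N54337 F355378) (tt N47953 F278052) (tt N54334 (iv4 F324281)) (tt N79763 (iv5 F355392)) (tt N47951 (iv6 D178452)) (tt N80916 F355386))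
theorem Q82042 : ∀ i, i < 82042 → P i := stepQ 82041 Q82041 (allL N82041 (tt N48016 F278299) (tt N47987 F278300) (tt N48014 F278066) (tt N80916 F344886) (tt N81340 F278301) (tt N65409 (iv5 F344885)) (tt N80915 F344887) (tt N47953 (iv7 D178458)))
theorem Q82043 : ∀ i, i < 82043 → P i := stepQ 82042 Q82042 (allL N82042 (tt N67042 F278069) (tt N63612 (iv0 F332049)) (tt N63105 F278067) (tt N54135 (iv3 F332045)) (tt N47955 F278068) (tt N82526 F332051) (tt N47954 (iv6 D178459)) (tt N67041 (iv7 F278070)))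
theorem Q82044 : ∀ i, i < 82044 → P i := stepQ 82043 Q82043 (allL N82043 (tt N109288 (iv1 F466200)) (tt N109287 (iv0 F466199)) (tt N109289 (iv2 F466207)) (tt N47956 (iv3 D178466)) (tt N81213 (iv4 F358036)) (tt N103606 (iv5 F442212)) (tt N60100 F358042) (tt N59995 (iv7 F358043)))
theorem Q82045 : ∀ i, i < 82045 → P i := stepQ 82044 Q82044 (allL N82044 (tt N99083 (iv1 F423273)) (tt N61853 (iv0 F415321)) (tt N99080 F423260) (tt N112663 D215914) (tt N47962 (iv4 D178481)) (tt N112664 D215915) (tt N100402 (iv6 F428819)) (tt N99081 (iv7 F423264)))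
theorem Q82046 : ∀ i, i < 82046 → P i := stepQ 82045 Q82045 (allL N82045 (tt N74714 F356995) (tt N74715 F356996) (tt N74713 (iv2 F342402)) (tt N71611 (iv3 F337651)) (tt N109478 (iv4 F467177)) (tt N47963 (iv5 D178492)) (tt N78720 (iv6 F348498)) (tt N68527 F342404))
theorem Q82047 : ∀ i, i < 82047 → P i := stepQ 82046 Q82046 (allL N82046 (tt N68513 (iv1 F357115)) (tt N68512 F356994) (tt N68515 (iv2 F356991)) (tt N80766 (iv3 F348509)) (tt N68489 F348527) (tt N78721 F348500) (tt N47963 (iv6 D178493)) (tt N68488 F356993))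
theorem Q82048 : ∀ i, i < 82048 → P i := stepQ 82047 Q82047 (allL N82047 (tt N111536 (iv1 F476799)) (tt N110895 (iv0 F473655)) (tt N80307 F278128) (tt N112629 (iv3 F481905)) (tt N47964 (iv4 D178496)) (tt N107881 (iv5 F460094)) (tt N47973 F278129) (tt N111535 (iv7 F476797)))
theorem Q82049 : ∀ i, i < 82049 → P i := stepQ 82048 Q82048 (allL N82048 (tt N75903 (iv1 F278139)) (tt N72808 (iv0 F318792)) (tt N66924 F278135) (tt N75888 F278136) (tt N62545 F362045) (tt N47966 (iv5 D178498)) (tt N103007 (iv6 F439648)) (tt N66926 F278137))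
theorem Q82050 : ∀ i, i < 82050 → P i := stepQ 82049 Q82049 (allL N82049 (tt N47970 (iv1 F278156)) (tt N47967 (iv0 D178500)) (tt N100370 F428639) (tt N70557 (iv3 F359348)) (tt N99308 (iv4 F424038)) (tt N70555 (iv5 F359349)) (tt N76148 F359350) (tt N82141 F353057))
theorem Q82051 : ∀ i, i < 82051 → P i := stepQ 82050 Q82050 (allL N82050 (tt N111704 (iv1 F477583)) (tt N111855 (iv0 F478324)) (tt N100371 (iv2 F428644)) (tt N101160 F431999) (tt N47967 (iv4 D178502)) (tt N112136 (iv5 F479683)) (tt N110421 (iv6 F471498)) (tt N100373 (iv7 F428654)))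
theorem Q82052 : ∀ i, i < 82052 → P i := stepQ 82051 Q82051 (allL N82051 (tt N111855 (iv1 F478323)) (tt N111704 (iv0 F477584)) (tt N100373 (iv2 F428651)) (tt N90352 (iv3 F458296)) (tt N47970 (iv4 D178507)) (tt N112654 (iv5 F482013)) (tt N104651 (iv6 F446699)) (tt N100371 (iv7 F428645)))
theorem Q82053 : ∀ i, i < 82053 → P i := stepQ 82052 Q82052 (allL N82052 (tt N81282 F278187) (tt N63581 F278208) (tt N77740 (iv2 F353045)) (tt N53655 F358735) (tt N47971 (iv4 D178513)) (tt N112665 D215916) (tt N53654 (iv6 F358743)) (tt N81279 F278200))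
theorem Q82054 : ∀ i, i < 82054 → P i := stepQ 82053 Q82053 (allL N82053 (tt N78212 (iv1 F315969)) (tt N63865 F278188) (tt N77744 F353052) (tt N86378 (iv3 F376013)) (tt N112666 D215917) (tt N47971 (iv5 D178514)) (tt N69053 (iv6 F317293)) (tt N63481 F278201))
theorem Q82055 : ∀ i, i < 82055 → P i := stepQ 82054 Q82054 (allL N82054 (tt N103130 (iv1 F440210)) (tt N77413 (iv0 F365672)) (tt N103131 (iv2 F440213)) (tt N47972 (iv3 D178517)) (tt N112667 D215918) (tt N112116 (iv5 F479565)) (tt N71744 (iv6 F394297)) (tt N77735 (iv7 F353050)))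
theorem Q82056 : ∀ i, i < 82056 → P i := stepQ 82055 Q82055 (allL N82055 (tt N63581 F278191) (tt N81282 F278192) (tt N81279 (iv2 F278204)) (tt N107750 (iv3 F459549)) (tt N47972 (iv4 D178518)) (tt N101737 (iv5 F434109)) (tt N112668 D215919) (tt N77740 (iv7 F353046)))
theorem Q82057 : ∀ i, i < 82057 → P i := stepQ 82056 Q82056 (allL N82056 (tt N63865 F278194) (tt N78212 (iv0 F315968)) (tt N63481 F278196) (tt N112116 F479566) (tt N75924 F278193) (tt N47972 (iv5 D178519)) (tt N63443 (iv6 F278195)) (tt N77744 (iv7 F353051)))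
theorem Q82058 : ∀ i, i < 82058 → P i := stepQ 82057 Q82057 (allL N82057 (tt N65866 F342291) (tt N77718 (iv0 F350839)) (tt N77748 (iv2 F350829)) (tt N71744 F394296) (tt N112668 (iv4 F482095)) (tt N58763 F342290) (tt N47972 (iv6 D178520)) (tt N75685 (iv7 F353033)))
theorem Q82059 : ∀ i, i < 82059 → P i := stepQ 82058 Q82058 (allL N82058 (tt N59425 F341267) (tt N72918 (iv0 F341266)) (tt N94977 (iv2 F406564)) (tt N47973 (iv3 D178521)) (tt N112663 (iv4 F482067)) (tt N58366 F341264) (tt N112629 (iv6 F481906)) (tt N94978 (iv7 F406566)))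
theorem Q82060 : ∀ i, i < 82060 → P i := stepQ 82059 Q82059 (allL N82059 (tt N82001 (iv1 F341260)) (tt N64284 F341261) (tt N82000 (iv2 F337721)) (tt N58366 (iv3 F341263)) (tt N100381 (iv4 F428701)) (tt N47973 (iv5 D178522)) (tt N58364 F341265) (tt N81999 F337718))
theorem Q82061 : ∀ i, i < 82061 → P i := stepQ 82060 Q82060 (allL N82060 (tt N94969 (iv1 F406540)) (tt N77524 (iv0 F359336)) (tt N100374 (iv2 F428655)) (tt N94978 F406567) (tt N47974 F278209) (tt N81999 (iv5 F337717)) (tt N72839 F404290) (tt N47973 (iv7 D178523)))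
theorem Q82062 : ∀ i, i < 82062 → P i := stepQ 82061 Q82061 (allL N82061 (tt N65345 (iv1 F350816)) (tt N65847 F342297) (tt N79589 F342295) (tt N82214 (iv3 F350638)) (tt N72839 (iv4 F404288)) (tt N60083 (iv5 F342296)) (tt N47974 (iv6 D178524)) (tt N79600 (iv7 F359732)))
theorem Q82063 : ∀ i, i < 82063 → P i := stepQ 82062 Q82062 (allL N82062 (tt N66931 (iv1 F278234)) (tt N63573 F278232) (tt N66928 F278230) (tt N75914 (iv3 F278233)) (tt N47979 (iv4 D178534)) (tt N112666 (iv5 F482082)) (tt N81502 F346398) (tt N66929 (iv7 F278237)))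
theorem Q82064 : ∀ i, i < 82064 → P i := stepQ 82063 Q82063 (allL N82063 (tt N76538 F278239) (tt N84137 F368268) (tt N84135 (iv2 F368258)) (tt N47980 (iv3 D178537)) (tt N75925 F278238) (tt N80048 F352227) (tt N100151 (iv6 F427723)) (tt N84134 (iv7 F368255)))
theorem Q82065 : ∀ i, i < 82065 → P i := stepQ 82064 Q82064 (allL N82064 (tt N80158 (iv1 F352225)) (tt N94930 F406385) (tt N94929 (iv2 F406379)) (tt N80048 (iv3 F352226)) (tt N112665 (iv4 F482077)) (tt N47980 (iv5 D178538)) (tt N59459 (iv6 F351724)) (tt N94928 F406371))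
theorem Q82066 : ∀ i, i < 82066 → P i := stepQ 82065 Q82065 (allL N82065 (tt N100381 (iv1 F428704)) (tt N47982 (iv0 D178545)) (tt N100379 F428684) (tt N81991 (iv3 F425390)) (tt N112654 (iv4 F482014)) (tt N62545 (iv5 F362044)) (tt N104778 (iv6 F447221)) (tt N100380 (iv7 F428689)))
theorem Q82067 : ∀ i, i < 82067 → P i := stepQ 82066 Q82066 (allL N82066 (tt N47982 (iv1 D178546)) (tt N100381 F428703) (tt N100380 F428698) (tt N101873 (iv3 F434777)) (tt N112136 (iv4 F479682)) (tt N62546 (iv5 F346262)) (tt N112134 (iv6 F479673)) (tt N100379 F428687))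
theorem Q82068 : ∀ i, i < 82068 → P i := stepQ 82067 Q82067 (allL N82067 (tt N64284 F346266) (tt N82001 (iv0 F341258)) (tt N81999 (iv2 F337716)) (tt N107906 (iv3 F460212)) (tt N47982 (iv4 D178547)) (tt N100374 (iv5 F428658)) (tt N64947 (iv6 F360092)) (tt N82000 (iv7 F337719)))
theorem Q82069 : ∀ i, i < 82069 → P i := stepQ 82068 Q82068 (allL N82068 (tt N78417 F340649) (tt N88506 F383314) (tt N80742 F363228) (tt N79751 (iv3 F341665)) (tt N64947 F360091) (tt N53535 F278246) (tt N47982 (iv6 D178548)) (tt N78545 F363227))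
theorem Q82070 : ∀ i, i < 82070 → P i := stepQ 82069 Q82069 (allL N82069 (tt N47984 (iv1 D178550)) (tt N47986 F278248) (tt N47995 (iv2 F278250)) (tt N109236 (iv3 F465916)) (tt N81329 (iv4 F278251)) (tt N63835 (iv5 F311314)) (tt N60101 F353672) (tt N47994 F278249))
theorem Q82071 : ∀ i, i < 82071 → P i := stepQ 82070 Q82070 (allL N82070 (tt N109194 (iv1 F465741)) (tt N109223 F465845) (tt N47996 F278252) (tt N96262 (iv3 F411787)) (tt N47984 (iv4 D178551)) (tt N77962 F349783) (tt N103808 (iv6 F442915)) (tt N48012 F278253))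
theorem Q82072 : ∀ i, i < 82072 → P i := stepQ 82071 Q82071 (allL N82071 (tt N82458 (iv1 F361321)) (tt N82459 (iv0 F361319)) (tt N48013 F278294) (tt N58885 F348475) (tt N99585 (iv4 F425289)) (tt N58855 F348476) (tt N47986 (iv6 D178565)) (tt N79786 (iv7 F348473)))
theorem Q82073 : ∀ i, i < 82073 → P i := stepQ 82072 Q82072 (allL N82072 (tt N70750 (iv1 F366516)) (tt N70749 F359215) (tt N70752 (iv2 F359213)) (tt N47988 (iv3 D178568)) (tt N59650 (iv4 F353362)) (tt N77961 F359214) (tt N73244 F359212) (tt N48002 F278306))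
theorem Q82074 : ∀ i, i < 82074 → P i := stepQ 82073 Q82073 (allL N82073 (tt N71271 (iv1 F314610)) (tt N71279 (iv0 F312159)) (tt N69539 (iv2 F314607)) (tt N59651 (iv3 F337454)) (tt N64513 F337463) (tt N47990 (iv5 D178614)) (tt N111270 (iv6 F475552)) (tt N59647 (iv7 F337460)))
theorem Q82075 : ∀ i, i < 82075 → P i := stepQ 82074 Q82074 (allL N82074 (tt N97064 F415286) (tt N97092 F415454) (tt N97090 (iv2 F415444)) (tt N80912 (iv3 F363112)) (tt N110324 (iv4 F471054)) (tt N82218 F347856) (tt N47993 (iv6 D178621)) (tt N97089 F415433))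
theorem Q82076 : ∀ i, i < 82076 → P i := stepQ 82075 Q82075 (allL N82075 (tt N109234 F465908) (tt N82588 F361356) (tt N109237 (iv2 F465927)) (tt N47994 (iv3 D178633)) (tt N81435 (iv4 F278426)) (tt N77022 (iv5 F361355)) (tt N75756 F361640) (tt N109236 F465920))
theorem Q82077 : ∀ i, i < 82077 → P i := stepQ 82076 Q82076 (allL N82076 (tt N80015 (iv1 F333936)) (tt N81291 F278430) (tt N59312 (iv2 F318036)) (tt N96237 (iv3 F411653)) (tt N47994 (iv4 D178634)) (tt N78005 F332248) (tt N75757 F361641) (tt N81329 F278428))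
theorem Q82078 : ∀ i, i < 82078 → P i := stepQ 82077 Q82077 (allL N82077 (tt N77873 F366518) (tt N77807 F366519) (tt N77872 F405566) (tt N47997 (iv3 D178649)) (tt N94694 (iv4 F405564)) (tt N106166 (iv5 F453415)) (tt N94696 (iv6 F405574)) (tt N77871 F366720))
theorem Q82079 : ∀ i, i < 82079 → P i := stepQ 82078 Q82078 (allL N82078 (tt N77889 (iv1 F317693)) (tt N78200 (iv0 F318054)) (tt N82101 F278652) (tt N106166 (iv3 F453414)) (tt N78009 F332251) (tt N47997 (iv5 D178650)) (tt N112669 D215920) (tt N82100 F278649))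
theorem Q82080 : ∀ i, i < 82080 → P i := stepQ 82079 Q82079 (allL N82079 (tt N109932 (iv1 F469285)) (tt N72781 (iv0 F362577)) (tt N99342 (iv2 F424194)) (tt N94696 (iv3 F405573)) (tt N47998 F278460) (tt N112670 D215921) (tt N47997 (iv6 D178651)) (tt N99343 (iv7 F424199)))
theorem Q82081 : ∀ i, i < 82081 → P i := stepQ 82080 Q82080 (allL N82080 (tt N61881 (iv1 F351353)) (tt N97208 (iv0 F415901)) (tt N97209 F415905) (tt N47999 (iv3 D178652)) (tt N48057 F278461) (tt N77868 (iv5 F332268)) (tt N100366 (iv6 F428622)) (tt N97210 (iv7 F415912)))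
theorem Q82082 : ∀ i, i < 82082 → P i := stepQ 82081 Q82081 (allL N82081 (tt N78200 (iv1 F318055)) (tt N77889 (iv0 F317692)) (tt N82100 F278648) (tt N77868 F332267) (tt N78008 (iv4 F332265)) (tt N47999 (iv5 D178653)) (tt N112671 D215922) (tt N82101 (iv7 F278651)))
theorem Q82083 : ∀ i, i < 82083 → P i := stepQ 82082 Q82082 (allL N82082 (tt N77909 F366110) (tt N98873 (iv0 F422655)) (tt N98876 F422669) (tt N77853 F366544) (tt N74310 (iv4 F316712)) (tt N112672 D215923) (tt N48000 (iv6 D178656)) (tt N98877 (iv7 F422673)))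
theorem Q82084 : ∀ i, i < 82084 → P i := stepQ 82083 Q82083 (allL N82083 (tt N62119 F355475) (tt N77975 F355487) (tt N77851 F355484) (tt N48001 (iv3 D178657)) (tt N68682 (iv4 F355483)) (tt N62150 (iv5 F355512)) (tt N109523 (iv6 F467355)) (tt N78022 F355486))
theorem Q82085 : ∀ i, i < 82085 → P i := stepQ 82084 Q82084 (allL N82084 (tt N70752 (iv1 F359216)) (tt N48002 (iv0 D178660)) (tt N70749 (iv2 F404208)) (tt N112673 D215924) (tt N106169 (iv4 F453428)) (tt N77847 (iv5 F359220)) (tt N112674 D215925) (tt N70750 (iv7 F404211)))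
theorem Q82086 : ∀ i, i < 82086 → P i := stepQ 82085 Q82085 (allL N82085 (tt N48002 (iv1 D178661)) (tt N70752 F366515) (tt N70750 F404209) (tt N77846 F366517) (tt N90216 (iv4 F388951)) (tt N77846 F388953) (tt N90215 F388952) (tt N70749 F404207))
theorem Q82087 : ∀ i, i < 82087 → P i := stepQ 82086 Q82086 (allL N82086 (tt N110631 (iv1 F472512)) (tt N77836 F359219) (tt N70751 F359218) (tt N48003 F278472) (tt N93360 (iv4 F400522)) (tt N48002 (iv5 D178663)) (tt N93367 (iv6 F400543)) (tt N77961 (iv7 F359217)))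
theorem Q82088 : ∀ i, i < 82088 → P i := stepQ 82087 Q82087 (allL N82087 (tt N100603 F429662) (tt N107786 (iv0 F459728)) (tt N70748 F366514) (tt N48004 F278473) (tt N101110 (iv4 F431720)) (tt N108119 (iv5 F461183)) (tt N48002 (iv6 D178664)) (tt N111361 (iv7 F476012)))
theorem Q82089 : ∀ i, i < 82089 → P i := stepQ 82088 Q82088 (allL N82088 (tt N78041 (iv1 F423808)) (tt N99155 F423496) (tt N77960 (iv2 F366633)) (tt N93367 F400544) (tt N112316 (iv4 F480512)) (tt N105894 (iv5 F452224)) (tt N48003 (iv6 D178667)) (tt N98800 (iv7 F422380)))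
theorem Q82090 : ∀ i, i < 82090 → P i := stepQ 82089 Q82089 (allL N82089 (tt N73205 (iv1 F360886)) (tt N48004 (iv0 D178668)) (tt N62107 (iv2 F408060)) (tt N78040 F408061) (tt N104660 (iv4 F446745)) (tt N108083 (iv5 F461039)) (tt N100446 F429013) (tt N104182 (iv7 F444568)))
theorem Q82091 : ∀ i, i < 82091 → P i := stepQ 82090 Q82090 (allL N82090 (tt N48004 (iv1 D178669)) (tt N73205 F360888) (tt N104182 (iv2 F444571)) (tt N62101 F408057) (tt N108810 (iv4 F464060)) (tt N72645 (iv5 F408058)) (tt N107524 F458660) (tt N62107 (iv7 F408059)))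
theorem Q82092 : ∀ i, i < 82092 → P i := stepQ 82091 Q82091 (allL N82091 (tt N62091 (iv1 F336243)) (tt N62072 (iv0 F336241)) (tt N62030 F360883) (tt N108119 (iv3 F461185)) (tt N61949 F336242) (tt N48004 (iv5 D178670)) (tt N105894 (iv6 F452225)) (tt N62090 (iv7 F360876)))
theorem Q82093 : ∀ i, i < 82093 → P i := stepQ 82092 Q82092 (allL N82092 (tt N104182 (iv1 F444567)) (tt N62107 (iv0 F404291)) (tt N73205 F360872) (tt N111361 (iv3 F476008)) (tt N48008 F278478) (tt N62090 (iv5 F360874)) (tt N61948 F339858) (tt N48004 (iv7 D178671)))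
theorem Q82094 : ∀ i, i < 82094 → P i := stepQ 82093 Q82093 (allL N82093 (tt N61874 (iv1 F360855)) (tt N61873 (iv0 F349440)) (tt N58810 (iv2 F349441)) (tt N61922 F349442) (tt N48005 (iv4 D178672)) (tt N61767 (iv5 F341180)) (tt N100449 (iv6 F429030)) (tt N61871 (iv7 F349431)))
theorem Q82095 : ∀ i, i < 82095 → P i := stepQ 82094 Q82094 (allL N82094 (tt N62500 (iv1 F316205)) (tt N62514 (iv0 F319165)) (tt N62471 (iv2 F316212)) (tt N73724 (iv3 F314490)) (tt N101317 (iv4 F432632)) (tt N48008 F278483) (tt N76253 F278484) (tt N48007 (iv7 D178675)))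
theorem Q82096 : ∀ i, i < 82096 → P i := stepQ 82095 Q82095 (allL N82095 (tt N96260 (iv1 F411781)) (tt N59215 (iv0 F366643)) (tt N91115 (iv2 F391995)) (tt N48012 (iv3 D178690)) (tt N59719 F361300) (tt N59224 F361301) (tt N54714 (iv6 F348480)) (tt N96262 (iv7 F411790)))
theorem Q82097 : ∀ i, i < 82097 → P i := stepQ 82096 Q82096 (allL N82096 (tt N71975 F353845) (tt N88527 (iv0 F383405)) (tt N99585 (iv2 F425288)) (tt N54714 F348479) (tt N48013 F278511) (tt N112675 D215926) (tt N48012 (iv6 D178691)) (tt N91116 (iv7 F392001)))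
theorem Q82098 : ∀ i, i < 82098 → P i := stepQ 82097 Q82097 (allL N82097 (tt N48013 (iv1 D178693)) (tt N79786 F348477) (tt N82459 F352279) (tt N109004 (iv3 F464864)) (tt N80018 F348478) (tt N66043 (iv5 F352278)) (tt N88529 (iv6 F383419)) (tt N82458 F352280))
theorem Q82099 : ∀ i, i < 82099 → P i := stepQ 82098 Q82098 (allL N82098 (tt N80385 (iv1 F278516)) (tt N81293 F278517) (tt N81340 F278513) (tt N82318 (iv3 F280210)) (tt N48014 (iv4 D178696)) (tt N100344 (iv5 F428509)) (tt N67041 F278514) (tt N81264 F278515))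
theorem Q82100 : ∀ i, i < 82100 → P i := stepQ 82099 Q82099 (allL N82099 (tt N76882 (iv1 F278551)) (tt N48018 (iv0 D178713)) (tt N96838 (iv2 F414192)) (tt N75926 F366575) (tt N98378 (iv4 F420697)) (tt N75925 (iv5 F366579)) (tt N77714 (iv6 F363698)) (tt N96878 (iv7 F414406)))
theorem Q82101 : ∀ i, i < 82101 → P i := stepQ 82100 Q82100 (allL N82100 (tt N48022 (iv1 F278647)) (tt N48020 (iv0 D178766)) (tt N82081 (iv2 F278648)) (tt N110661 (iv3 F472643)) (tt N107115 F457050) (tt N68353 (iv5 F313697)) (tt N112676 D215927) (tt N82078 (iv7 F278649)))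
theorem Q82102 : ∀ i, i < 82102 → P i := stepQ 82101 Q82101 (allL N82101 (tt N48020 (iv1 D178767)) (tt N48022 F278650) (tt N82078 (iv2 F278652)) (tt N103976 F443621) (tt N110795 (iv4 F473210)) (tt N65296 (iv5 F278653)) (tt N112677 D215928) (tt N82081 F278651))
theorem Q82103 : ∀ i, i < 82103 → P i := stepQ 82102 Q82102 (allL N82102 (tt N112678 D215929) (tt N112679 D215930) (tt N110678 (iv2 F472727)) (tt N76832 (iv3 F359945)) (tt N64460 F359946) (tt N98778 (iv5 F422283)) (tt N48020 (iv6 D178768)) (tt N99042 (iv7 F423123)))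
theorem Q82104 : ∀ i, i < 82104 → P i := stepQ 82103 Q82103 (allL N82103 (tt N107561 (iv1 F458751)) (tt N112680 D215931) (tt N98926 F422805) (tt N106078 (iv3 F453021)) (tt N105133 (iv4 F448937)) (tt N66382 F351459) (tt N48022 (iv6 D178779)) (tt N99084 (iv7 F423275)))
theorem Q82105 : ∀ i, i < 82105 → P i := stepQ 82104 Q82104 (allL N82104 (tt N99609 F425401) (tt N112681 D215932) (tt N99066 (iv2 F423211)) (tt N79160 (iv3 F351559)) (tt N66383 F351458) (tt N48023 (iv5 D178782)) (tt N66382 (iv6 F351457)) (tt N82106 F351519))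
theorem Q82106 : ∀ i, i < 82106 → P i := stepQ 82105 Q82105 (allL N82105 (tt N70874 F344865) (tt N70870 (iv0 F344866)) (tt N71566 (iv2 F344867)) (tt N48025 (iv3 D178791)) (tt N64859 F344858) (tt N99019 F423063) (tt N99111 (iv6 F423375)) (tt N106231 (iv7 F453682)))
theorem Q82107 : ∀ i, i < 82107 → P i := stepQ 82106 Q82106 (allL N82106 (tt N110022 (iv1 F469593)) (tt N110023 (iv0 F469597)) (tt N99580 (iv2 F425267)) (tt N99111 (iv3 F423374)) (tt N81801 F344873) (tt N81715 (iv5 F344874)) (tt N48025 (iv6 D178794)) (tt N82104 (iv7 F351519)))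
theorem Q82108 : ∀ i, i < 82108 → P i := stepQ 82107 Q82107 (allL N82107 (tt N77924 F416263) (tt N112682 D215933) (tt N97207 (iv2 F415897)) (tt N48031 F278667) (tt N97295 (iv4 F416260)) (tt N100476 (iv5 F429103)) (tt N48027 (iv6 D178801)) (tt N112683 D215934))
theorem Q82109 : ∀ i, i < 82109 → P i := stepQ 82108 Q82108 (allL N82108 (tt N112684 D215935) (tt N112685 D215936) (tt N110920 (iv2 F473794)) (tt N78201 (iv3 F366469)) (tt N96267 (iv4 F411808)) (tt N61968 F336251) (tt N48028 (iv6 D178806)) (tt N99092 (iv7 F423310)))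
theorem Q82110 : ∀ i, i < 82110 → P i := stepQ 82109 Q82109 (allL N82109 (tt N112686 D215937) (tt N112687 D215938) (tt N110923 (iv2 F473806)) (tt N97298 (iv3 F416275)) (tt N48031 F278675) (tt N112688 D215939) (tt N48030 (iv6 D178811)) (tt N89492 (iv7 F386643)))
theorem Q82111 : ∀ i, i < 82111 → P i := stepQ 82110 Q82110 (allL N82110 (tt N110926 (iv1 F473823)) (tt N48031 (iv0 D178812)) (tt N110924 F473816) (tt N76817 (iv3 F457385)) (tt N96270 F457384) (tt N112689 D215940) (tt N99593 (iv6 F457386)) (tt N110925 (iv7 F473815)))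
theorem Q82112 : ∀ i, i < 82112 → P i := stepQ 82111 Q82111 (allL N82111 (tt N48031 (iv1 D178813)) (tt N110926 F473822) (tt N110925 (iv2 F473814)) (tt N110726 F472916) (tt N96271 (iv4 F466348)) (tt N112690 D215941) (tt N112691 D215942) (tt N110924 F473817))
theorem Q82113 : ∀ i, i < 82113 → P i := stepQ 82112 Q82112 (allL N82112 (tt N110925 (iv1 F473810)) (tt N110924 F473819) (tt N110926 (iv2 F473820)) (tt N112683 (iv3 F482159)) (tt N89492 (iv4 F386642)) (tt N100483 (iv5 F429109)) (tt N89491 F386641) (tt N48031 (iv7 D178814)))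
theorem Q82114 : ∀ i, i < 82114 → P i := stepQ 82113 Q82113 (allL N82113 (tt N91943 (iv1 F395057)) (tt N91942 F395055) (tt N55569 F352045) (tt N87820 (iv3 F380658)) (tt N48032 (iv4 D178818)) (tt N109805 (iv5 F468705)) (tt N55567 (iv6 F352043)) (tt N81553 (iv7 F352049)))
theorem Q82115 : ∀ i, i < 82115 → P i := stepQ 82114 Q82114 (allL N82114 (tt N91861 (iv1 F394747)) (tt N91860 F394746) (tt N55544 F352027) (tt N74527 F352044) (tt N55567 F352040) (tt N76542 F352041) (tt N48032 (iv6 D178819)) (tt N76541 (iv7 F352039)))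
theorem Q82116 : ∀ i, i < 82116 → P i := stepQ 82115 Q82115 (allL N82115 (tt N103965 F443554) (tt N103981 F443639) (tt N69445 F366283) (tt N48034 (iv3 D178827)) (tt N78103 (iv4 F366642)) (tt N112692 D215943) (tt N112693 D215944) (tt N78274 (iv7 F366284)))
theorem Q82117 : ∀ i, i < 82117 → P i := stepQ 82116 Q82116 (allL N82116 (tt N101817 (iv1 F434485)) (tt N97236 (iv0 F416013)) (tt N48043 F278691) (tt N112692 (iv3 F482192)) (tt N101814 (iv4 F434470)) (tt N48034 (iv5 D178828)) (tt N112694 D215945) (tt N78275 (iv7 F348066)))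
theorem Q82118 : ∀ i, i < 82118 → P i := stepQ 82117 Q82117 (allL N82117 (tt N58428 (iv1 F347171)) (tt N95566 F408686) (tt N48044 F278692) (tt N112693 (iv3 F482197)) (tt N48035 F278693) (tt N59901 (iv5 F361857)) (tt N48034 (iv6 D178829)) (tt N95547 (iv7 F408593)))
theorem Q82119 : ∀ i, i < 82119 → P i := stepQ 82118 Q82118 (allL N82118 (tt N48048 (iv1 F278698)) (tt N48035 (iv0 D178830)) (tt N48045 (iv2 F278695)) (tt N75280 F278696) (tt N112695 D215946) (tt N62892 F278694) (tt N100125 (iv6 F427578)) (tt N48046 F278697))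
theorem Q82120 : ∀ i, i < 82120 → P i := stepQ 82119 Q82119 (allL N82119 (tt N95630 (iv1 F408951)) (tt N59906 (iv0 F345388)) (tt N95631 F408954) (tt N103400 (iv3 F441445)) (tt N48038 (iv4 D178833)) (tt N112696 D215947) (tt N81996 F340150) (tt N82371 (iv7 F366125)))
theorem Q82121 : ∀ i, i < 82121 → P i := stepQ 82120 Q82120 (allL N82120 (tt N82557 (iv1 F348719)) (tt N75860 F278727) (tt N48236 F278724) (tt N66927 F278725) (tt N48039 (iv4 D178853)) (tt N87466 (iv5 F379429)) (tt N66925 F278726) (tt N54132 (iv7 F348718)))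
theorem Q82122 : ∀ i, i < 82122 → P i := stepQ 82121 Q82121 (allL N82121 (tt N74174 (iv1 F340433)) (tt N78193 F340432) (tt N57638 (iv2 F340429)) (tt N52597 F340428) (tt N111726 (iv4 F477686)) (tt N48040 (iv5 D178864)) (tt N52589 (iv6 F340430)) (tt N78259 F340431))
theorem Q82123 : ∀ i, i < 82123 → P i := stepQ 82122 Q82122 (allL N82122 (tt N78191 (iv1 F316042)) (tt N65330 F279025) (tt N82175 F279039) (tt N60240 F355492) (tt N82481 F362311) (tt N48041 (iv5 D178867)) (tt N82480 (iv6 F362312)) (tt N82174 (iv7 F279043)))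
theorem Q82124 : ∀ i, i < 82124 → P i := stepQ 82123 Q82123 (allL N82123 (tt N59895 (iv1 F397080)) (tt N59918 F397096) (tt N59916 F403771) (tt N48042 (iv3 D178869)) (tt N82309 (iv4 F280180)) (tt N100529 (iv5 F429344)) (tt N89370 F386266) (tt N59915 F390584))
theorem Q82125 : ∀ i, i < 82125 → P i := stepQ 82124 Q82124 (allL N82124 (tt N65330 F278740) (tt N78191 (iv0 F316041)) (tt N82174 F279041) (tt N100529 (iv3 F429341)) (tt N103977 (iv4 F443623)) (tt N48042 (iv5 D178870)) (tt N100528 F429339) (tt N82175 F279040))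
theorem Q82126 : ∀ i, i < 82126 → P i := stepQ 82125 Q82125 (allL N82125 (tt N78275 F348064) (tt N48043 (iv0 D178876)) (tt N101817 (iv2 F434489)) (tt N97226 (iv3 F415979)) (tt N110511 (iv4 F471918)) (tt N48087 F278745) (tt N112697 D215948) (tt N97236 (iv7 F416012)))
theorem Q82127 : ∀ i, i < 82127 → P i := stepQ 82126 Q82126 (allL N82126 (tt N48043 (iv1 D178877)) (tt N78275 F348103) (tt N97236 (iv2 F416009)) (tt N112698 D215949) (tt N112696 (iv4 F482215)) (tt N48088 F278746) (tt N87935 F381230) (tt N101817 (iv7 F434486)))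
theorem Q82128 : ∀ i, i < 82128 → P i := stepQ 82127 Q82127 (allL N82127 (tt N72323 F358449) (tt N109805 (iv0 F468708)) (tt N101814 (iv2 F434467)) (tt N112362 (iv3 F480747)) (tt N48043 (iv4 D178878)) (tt N101808 (iv5 F434436)) (tt N112699 D215950) (tt N101818 (iv7 F434493)))
theorem Q82129 : ∀ i, i < 82129 → P i := stepQ 82128 Q82128 (allL N82128 (tt N112700 D215951) (tt N96764 (iv0 F474549)) (tt N112694 (iv2 F482202)) (tt N88820 (iv3 F384251)) (tt N112699 (iv4 F482232)) (tt N95545 (iv5 F408587)) (tt N48043 (iv6 D178879)) (tt N112701 D215952))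
theorem Q82130 : ∀ i, i < 82130 → P i := stepQ 82129 Q82129 (allL N82129 (tt N95547 (iv1 F408597)) (tt N48044 (iv0 D178880)) (tt N58428 (iv2 F347160)) (tt N62108 (iv3 F347161)) (tt N102967 (iv4 F439488)) (tt N58427 F347159) (tt N100348 (iv6 F428530)) (tt N95566 (iv7 F408684)))
theorem Q82131 : ∀ i, i < 82131 → P i := stepQ 82130 Q82130 (allL N82130 (tt N95566 (iv1 F408685)) (tt N58428 (iv0 F347167)) (tt N95547 (iv2 F408592)) (tt N103980 (iv3 F443633)) (tt N48048 F278747) (tt N59900 F361862) (tt N96823 (iv6 F414129)) (tt N48044 (iv7 D178883)))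
theorem Q82132 : ∀ i, i < 82132 → P i := stepQ 82131 Q82131 (allL N82131 (tt N99703 F425815) (tt N78258 (iv0 F363387)) (tt N112695 (iv2 F482207)) (tt N68072 F347164) (tt N48045 (iv4 D178884)) (tt N102082 (iv5 F435639)) (tt N89230 (iv6 F385692)) (tt N75571 F278748))
theorem Q82133 : ∀ i, i < 82133 → P i := stepQ 82132 Q82132 (allL N82132 (tt N78258 F378307) (tt N99703 F425816) (tt N75571 F278749) (tt N87079 (iv3 F378308)) (tt N48046 (iv4 D178885)) (tt N87078 (iv5 F378306)) (tt N99699 F425794) (tt N112695 (iv7 F482210)))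
theorem Q82134 : ∀ i, i < 82134 → P i := stepQ 82133 Q82133 (allL N82133 (tt N69979 (iv1 F363098)) (tt N69970 F361435) (tt N69977 (iv2 F363090)) (tt N108069 (iv3 F460982)) (tt N48047 (iv4 D178886)) (tt N112702 D215953) (tt N48051 F278750) (tt N69978 (iv7 F363095)))
theorem Q82135 : ∀ i, i < 82135 → P i := stepQ 82134 Q82134 (allL N82134 (tt N80006 (iv1 F278760)) (tt N80004 F278759) (tt N90460 (iv2 F389728)) (tt N58361 F358655) (tt N58364 (iv4 F358654)) (tt N48049 (iv5 D178890)) (tt N100381 F428705) (tt N80859 (iv7 F358656)))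
theorem Q82136 : ∀ i, i < 82136 → P i := stepQ 82135 Q82135 (allL N82135 (tt N48051 (iv1 D178895)) (tt N74983 F278770) (tt N58977 (iv2 F338239)) (tt N110866 (iv3 F473514)) (tt N74440 (iv4 F278772)) (tt N58976 F338240) (tt N108785 F463924) (tt N62857 F278771))
theorem Q82137 : ∀ i, i < 82137 → P i := stepQ 82136 Q82136 (allL N82136 (tt N112703 D215954) (tt N101820 (iv0 F434506)) (tt N109191 (iv2 F465719)) (tt N48051 (iv3 D178896)) (tt N48068 F278774) (tt N77263 (iv5 F342625)) (tt N108069 (iv6 F460983)) (tt N77053 (iv7 F348683)))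
theorem Q82138 : ∀ i, i < 82138 → P i := stepQ 82137 Q82137 (allL N82137 (tt N65275 F341163) (tt N65276 F278779) (tt N94692 (iv2 F405548)) (tt N57846 (iv3 F372902)) (tt N112034 (iv4 F479183)) (tt N48052 (iv5 D178901)) (tt N94688 F405532) (tt N101769 (iv7 F434262)))
theorem Q82139 : ∀ i, i < 82139 → P i := stepQ 82138 Q82138 (allL N82138 (tt N72237 (iv1 F341166)) (tt N62237 (iv0 F341136)) (tt N48446 F306688) (tt N94961 (iv3 F406514)) (tt N48053 F278780) (tt N94689 (iv5 F405537)) (tt N48052 (iv6 D178902)) (tt N73116 (iv7 F324362)))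
theorem Q82140 : ∀ i, i < 82140 → P i := stepQ 82139 Q82139 (allL N82139 (tt N101807 (iv1 F434428)) (tt N101806 F434423) (tt N48054 (iv2 D178906)) (tt N60401 (iv3 F351347)) (tt N69844 (iv4 F351348)) (tt N78217 (iv5 F361291)) (tt N78218 F361289) (tt N100434 (iv7 F428962)))
theorem Q82141 : ∀ i, i < 82141 → P i := stepQ 82140 Q82140 (allL N82140 (tt N65339 (iv1 F352320)) (tt N65344 (iv0 F350813)) (tt N78217 F361292) (tt N48055 F278782) (tt N81354 F363164) (tt N48054 (iv5 D178907)) (tt N78211 F336910) (tt N78707 F278783))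
theorem Q82142 : ∀ i, i < 82142 → P i := stepQ 82141 Q82141 (allL N82141 (tt N63537 F348495) (tt N63539 (iv0 F348494)) (tt N78218 (iv2 F348493)) (tt N48056 F278784) (tt N94961 (iv4 F406516)) (tt N78212 F348491) (tt N48054 (iv6 D178908)) (tt N82049 (iv7 F353057)))
theorem Q82143 : ∀ i, i < 82143 → P i := stepQ 82142 Q82142 (allL N82142 (tt N64225 (iv1 F336906)) (tt N64063 (iv0 F336912)) (tt N64223 (iv2 F349370)) (tt N78211 (iv3 F336908)) (tt N48163 F278786) (tt N70115 F336907) (tt N48055 (iv6 D178909)) (tt N64224 (iv7 F360901)))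
theorem Q82144 : ∀ i, i < 82144 → P i := stepQ 82143 Q82143 (allL N82143 (tt N48057 (iv1 D178915)) (tt N60401 F351338) (tt N60402 F351339) (tt N69424 F351340) (tt N62149 F351341) (tt N48124 F351342) (tt N62141 F351343) (tt N58809 F351344))
theorem Q82145 : ∀ i, i < 82145 → P i := stepQ 82144 Q82144 (allL N82144 (tt N82208 F351336) (tt N82198 F351359) (tt N82205 F351333) (tt N48058 F278797) (tt N52211 F351335) (tt N48057 (iv5 D178917)) (tt N51972 (iv6 F351334)) (tt N77576 F278798))
theorem Q82146 : ∀ i, i < 82146 → P i := stepQ 82145 Q82145 (allL N82145 (tt N81457 (iv1 F327867)) (tt N48059 (iv0 D178918)) (tt N57336 (iv2 F345585)) (tt N103950 (iv3 F443492)) (tt N94416 (iv4 F404391)) (tt N76130 (iv5 F361991)) (tt N79426 F345586) (tt N81455 F345584))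
theorem Q82147 : ∀ i, i < 82147 → P i := stepQ 82146 Q82146 (allL N82146 (tt N112174 F479896) (tt N95270 (iv0 F407656)) (tt N81456 F341151) (tt N65384 F278799) (tt N48059 (iv4 D178921)) (tt N112704 D215955) (tt N79455 (iv6 F341150)) (tt N82230 (iv7 F279727)))
theorem Q82148 : ∀ i, i < 82148 → P i := stepQ 82147 Q82147 (allL N82147 (tt N111805 (iv1 F478067)) (tt N94034 (iv0 F402904)) (tt N112705 D215956) (tt N48061 (iv3 D178929)) (tt N82314 F280194) (tt N75163 (iv5 F355444)) (tt N112706 D215957) (tt N75162 F355443))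
theorem Q82149 : ∀ i, i < 82149 → P i := stepQ 82148 Q82148 (allL N82148 (tt N87573 (iv1 F379783)) (tt N75259 (iv0 F355437)) (tt N91335 (iv2 F392784)) (tt N68078 F366548) (tt N48061 (iv4 D178930)) (tt N87485 (iv5 F379520)) (tt N84634 F369944) (tt N87484 F379499))
theorem Q82150 : ∀ i, i < 82150 → P i := stepQ 82149 Q82149 (allL N82149 (tt N78712 (iv1 F355414)) (tt N64013 F355428) (tt N78711 F355432) (tt N75163 (iv3 F355430)) (tt N73981 F355433) (tt N48061 (iv5 D178931)) (tt N75435 (iv6 F355431)) (tt N75161 F355429))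
theorem Q82151 : ∀ i, i < 82151 → P i := stepQ 82150 Q82150 (allL N82150 (tt N76909 F355436) (tt N81236 (iv0 F355435)) (tt N101819 (iv2 F434496)) (tt N112706 (iv3 F482271)) (tt N84634 (iv4 F369943)) (tt N75777 F355434) (tt N48061 (iv6 D178932)) (tt N91332 (iv7 F392771)))
theorem Q82152 : ∀ i, i < 82152 → P i := stepQ 82151 Q82151 (allL N82151 (tt N57333 F379786) (tt N103950 F443497) (tt N103949 F443489) (tt N48062 (iv3 D178934)) (tt N110836 (iv4 F473374)) (tt N81351 F355517) (tt N91334 (iv6 F392783)) (tt N81350 (iv7 F355519)))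
theorem Q82153 : ∀ i, i < 82153 → P i := stepQ 82152 Q82152 (allL N82152 (tt N64013 F355166) (tt N78712 (iv0 F355158)) (tt N75161 (iv2 F355160)) (tt N81351 (iv3 F355161)) (tt N75172 (iv4 F355162)) (tt N48062 (iv5 D178936)) (tt N75165 F355159) (tt N78711 (iv7 F355164)))
theorem Q82154 : ∀ i, i < 82154 → P i := stepQ 82153 Q82153 (allL N82153 (tt N79662 F355174) (tt N96808 (iv0 F414058)) (tt N48064 F278808) (tt N97373 F416575) (tt N69447 (iv4 F366161)) (tt N75302 (iv5 F355175)) (tt N48063 (iv6 D178938)) (tt N112511 (iv7 F481436)))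
theorem Q82155 : ∀ i, i < 82155 → P i := stepQ 82154 Q82154 (allL N82154 (tt N112511 (iv1 F481437)) (tt N48064 (iv0 D178939)) (tt N79662 (iv2 F352005)) (tt N74279 (iv3 F353509)) (tt N58406 F347163) (tt N64134 F336572) (tt N79559 F341872) (tt N96808 (iv7 F414057)))
theorem Q82156 : ∀ i, i < 82156 → P i := stepQ 82155 Q82155 (allL N82155 (tt N48064 (iv1 D178940)) (tt N112511 F481438) (tt N96808 (iv2 F414054)) (tt N112707 D215958) (tt N96807 (iv4 F414050)) (tt N79663 (iv5 F352003)) (tt N109311 (iv6 F466335)) (tt N79662 F352004))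
theorem Q82157 : ∀ i, i < 82157 → P i := stepQ 82156 Q82156 (allL N82156 (tt N59138 (iv1 F378709)) (tt N72231 F364154) (tt N101777 (iv2 F434295)) (tt N79617 (iv3 F366770)) (tt N48065 (iv4 D178949)) (tt N112708 D215959) (tt N79615 F366771) (tt N101778 (iv7 F434304)))
theorem Q82158 : ∀ i, i < 82158 → P i := stepQ 82157 Q82157 (allL N82157 (tt N102949 (iv1 F439389)) (tt N60477 F360210) (tt N74392 F350803) (tt N48066 (iv3 D178955)) (tt N108069 (iv4 F460981)) (tt N59939 (iv5 F350802)) (tt N48068 F278837) (tt N79794 F350804))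
theorem Q82159 : ∀ i, i < 82159 → P i := stepQ 82158 Q82158 (allL N82158 (tt N78715 (iv1 F278845)) (tt N48068 (iv0 D178958)) (tt N78714 (iv2 F336342)) (tt N57309 F336292) (tt N96281 (iv4 F411859)) (tt N57308 (iv5 F336290)) (tt N62780 F350798) (tt N57380 F336293))
theorem Q82160 : ∀ i, i < 82160 → P i := stepQ 82159 Q82159 (allL N82159 (tt N48068 (iv1 D178959)) (tt N78715 F278850) (tt N57380 (iv2 F336294)) (tt N94178 F403569) (tt N96278 (iv4 F411848)) (tt N57379 F336296) (tt N91379 (iv6 F392919)) (tt N78714 (iv7 F336344)))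
theorem Q82161 : ∀ i, i < 82161 → P i := stepQ 82160 Q82160 (allL N82160 (tt N78714 (iv1 F278851)) (tt N57380 (iv0 F336345)) (tt N48068 (iv2 D178960)) (tt N74393 (iv3 F323953)) (tt N109191 (iv4 F465721)) (tt N65302 F278847) (tt N74392 (iv6 F356771)) (tt N78715 F278848))
theorem Q82162 : ∀ i, i < 82162 → P i := stepQ 82161 Q82161 (allL N82161 (tt N112709 D215960) (tt N96208 (iv0 F411500)) (tt N59303 (iv2 F360931)) (tt N48070 (iv3 D178964)) (tt N71163 F360933) (tt N76369 F360929) (tt N112710 D215961) (tt N72379 (iv7 F360932)))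
theorem Q82163 : ∀ i, i < 82163 → P i := stepQ 82162 Q82162 (allL N82162 (tt N72189 (iv1 F360926)) (tt N72185 F360927) (tt N99755 (iv2 F426074)) (tt N76369 (iv3 F360925)) (tt N52577 F348297) (tt N48070 (iv5 D178965)) (tt N62952 (iv6 F348305)) (tt N72380 F360924))
theorem Q82164 : ∀ i, i < 82164 → P i := stepQ 82163 Q82163 (allL N82163 (tt N99550 F425101) (tt N100122 (iv0 F427563)) (tt N101800 (iv2 F434395)) (tt N112710 (iv3 F482297)) (tt N48071 F278853) (tt N112711 D215962) (tt N48070 (iv6 D178966)) (tt N99799 (iv7 F426275)))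
theorem Q82165 : ∀ i, i < 82165 → P i := stepQ 82164 Q82164 (allL N82164 (tt N72193 (iv1 F315867)) (tt N72195 (iv0 F315879)) (tt N92595 (iv2 F397552)) (tt N75146 F364011) (tt N48077 F278923) (tt N73385 (iv5 F364012)) (tt N48075 (iv6 D179010)) (tt N92594 F397547))
theorem Q82166 : ∀ i, i < 82166 → P i := stepQ 82165 Q82165 (allL N82165 (tt N76370 F385072) (tt N110319 F471026) (tt N105525 (iv2 F450577)) (tt N48078 (iv3 D179012)) (tt N104462 (iv4 F445867)) (tt N109707 (iv5 F468221)) (tt N106548 (iv6 F454837)) (tt N101801 (iv7 F434403)))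
theorem Q82167 : ∀ i, i < 82167 → P i := stepQ 82166 Q82166 (allL N82166 (tt N72275 F330623) (tt N72274 F330625) (tt N73386 (iv2 F338216)) (tt N109707 (iv3 F468218)) (tt N73356 (iv4 F338211)) (tt N48078 (iv5 D179013)) (tt N79122 (iv6 F349349)) (tt N73353 F338218))
theorem Q82168 : ∀ i, i < 82168 → P i := stepQ 82167 Q82167 (allL N82167 (tt N72795 (iv1 F361516)) (tt N62298 (iv0 F330624)) (tt N72792 F348291) (tt N106548 (iv3 F454836)) (tt N48079 F278933) (tt N112712 D215963) (tt N48078 (iv6 D179014)) (tt N72793 (iv7 F361507)))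
theorem Q82169 : ∀ i, i < 82169 → P i := stepQ 82168 Q82168 (allL N82168 (tt N62323 F361194) (tt N62326 F362451) (tt N72753 (iv2 F366207)) (tt N72502 (iv3 F366209)) (tt N48080 (iv4 D179036)) (tt N104136 (iv5 F444368)) (tt N62295 F366208) (tt N92597 (iv7 F397558)))
theorem Q82170 : ∀ i, i < 82170 → P i := stepQ 82169 Q82169 (allL N82169 (tt N57338 (iv1 F362014)) (tt N57304 (iv0 F362011)) (tt N57305 (iv2 F362012)) (tt N48085 (iv3 D179061)) (tt N94255 (iv4 F403856)) (tt N104235 (iv5 F444853)) (tt N100416 (iv6 F428876)) (tt N57339 F362013))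
theorem Q82171 : ∀ i, i < 82171 → P i := stepQ 82170 Q82170 (allL N82170 (tt N64016 (iv1 F345972)) (tt N66940 (iv0 F345966)) (tt N57350 F345979) (tt N104235 (iv3 F444851)) (tt N64687 (iv4 F345980)) (tt N48085 (iv5 D179063)) (tt N66962 F345981) (tt N64684 (iv7 F339310)))
theorem Q82172 : ∀ i, i < 82172 → P i := stepQ 82171 Q82171 (allL N82171 (tt N81235 F354060) (tt N66357 F354065) (tt N57351 (iv2 F366249)) (tt N100416 (iv3 F428874)) (tt N110325 (iv4 F471060)) (tt N104234 (iv5 F444848)) (tt N48085 (iv6 D179064)) (tt N100406 (iv7 F428831)))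
theorem Q82173 : ∀ i, i < 82173 → P i := stepQ 82172 Q82172 (allL N82172 (tt N72329 F363706) (tt N72330 F366529) (tt N101821 (iv2 F434508)) (tt N97227 (iv3 F415983)) (tt N110791 (iv4 F473191)) (tt N108744 (iv5 F463781)) (tt N48087 (iv6 D179092)) (tt N100503 (iv7 F429218)))
theorem Q82174 : ∀ i, i < 82174 → P i := stepQ 82173 Q82173 (allL N82173 (tt N91647 F393882) (tt N93570 (iv0 F401181)) (tt N97230 (iv2 F415992)) (tt N48088 (iv3 D179093)) (tt N57684 (iv4 F315165)) (tt N112698 (iv5 F482225)) (tt N59817 (iv6 F358509)) (tt N97228 F415988))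
theorem Q82175 : ∀ i, i < 82175 → P i := stepQ 82174 Q82174 (allL N82174 (tt N72312 (iv1 F362440)) (tt N48090 (iv0 D179099)) (tt N82124 (iv2 F279041)) (tt N60193 (iv3 F355491)) (tt N112713 D215964) (tt N65318 F279042) (tt N112714 D215965) (tt N82122 F279043))
theorem Q82176 : ∀ i, i < 82176 → P i := stepQ 82175 Q82175 (allL N82175 (tt N48090 (iv1 D179100)) (tt N72312 (iv0 F362439)) (tt N82122 (iv2 F279039)) (tt N96927 (iv3 F414651)) (tt N111143 (iv4 F474908)) (tt N65319 F279038) (tt N111142 (iv6 F474905)) (tt N82124 (iv7 F279040)))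
theorem Q82177 : ∀ i, i < 82177 → P i := stepQ 82176 Q82176 (allL N82176 (tt N93154 F399695) (tt N104410 (iv0 F445647)) (tt N110909 (iv2 F473737)) (tt N86852 (iv3 F377439)) (tt N48090 (iv4 D179101)) (tt N91943 F395059) (tt N87864 (iv6 F395060)) (tt N101822 (iv7 F434514)))
theorem Q82178 : ∀ i, i < 82178 → P i := stepQ 82177 Q82177 (allL N82177 (tt N112715 D215966) (tt N112716 D215967) (tt N110910 (iv2 F473743)) (tt N104879 (iv3 F447773)) (tt N87864 F395061) (tt N73644 (iv5 F366491)) (tt N48090 (iv6 D179102)) (tt N112717 D215968))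
theorem Q82179 : ∀ i, i < 82179 → P i := stepQ 82178 Q82178 (allL N82178 (tt N60354 (iv1 F319237)) (tt N60353 (iv0 F319234)) (tt N48091 (iv2 D179114)) (tt N82224 (iv3 F279619)) (tt N65480 (iv4 F366485)) (tt N76132 F279063) (tt N112718 D215969) (tt N60352 (iv7 F320632)))
theorem Q82180 : ∀ i, i < 82180 → P i := stepQ 82179 Q82179 (allL N82179 (tt N112719 D215970) (tt N82201 (iv0 F279177)) (tt N65480 F366486) (tt N65371 F279068) (tt N48091 (iv4 D179115)) (tt N59569 (iv5 F378718)) (tt N112720 D215971) (tt N67064 F279069))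
theorem Q82181 : ∀ i, i < 82181 → P i := stepQ 82180 Q82180 (allL N82180 (tt N112721 D215972) (tt N81241 (iv0 F361995)) (tt N112718 (iv2 F482331)) (tt N48092 F279070) (tt N112720 (iv4 F482346)) (tt N74746 F279071) (tt N48091 (iv6 D179116)) (tt N66764 F279072))
theorem Q82182 : ∀ i, i < 82182 → P i := stepQ 82181 Q82181 (allL N82181 (tt N82584 F372117) (tt N94080 (iv0 F403115)) (tt N94570 (iv2 F405007)) (tt N48093 (iv3 D179118)) (tt N57509 (iv4 F354251)) (tt N73697 (iv5 F354245)) (tt N111285 (iv6 F475631)) (tt N91357 F392858))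
theorem Q82183 : ∀ i, i < 82183 → P i := stepQ 82182 Q82182 (allL N82182 (tt N75426 (iv1 F392933)) (tt N91378 F392930) (tt N91380 (iv2 F392926)) (tt N111285 (iv3 F475630)) (tt N91275 (iv4 F392494)) (tt N101216 (iv5 F432245)) (tt N48093 (iv6 D179121)) (tt N91272 (iv7 F392487)))
theorem Q82184 : ∀ i, i < 82184 → P i := stepQ 82183 Q82183 (allL N82183 (tt N102643 F438017) (tt N48096 (iv0 D179128)) (tt N102771 F438573) (tt N92309 (iv3 F396666)) (tt N91324 (iv4 F392739)) (tt N69057 F364107) (tt N92498 (iv6 F397172)) (tt N91321 F392727))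
theorem Q82185 : ∀ i, i < 82185 → P i := stepQ 82184 Q82184 (allL N82184 (tt N48096 (iv1 D179129)) (tt N102643 (iv0 F438016)) (tt N91321 (iv2 F392722)) (tt N70118 (iv3 F366372)) (tt N88246 F382333) (tt N68959 (iv5 F337779)) (tt N69308 F337780) (tt N102771 (iv7 F438568)))
theorem Q82186 : ∀ i, i < 82186 → P i := stepQ 82185 Q82185 (allL N82185 (tt N84483 (iv1 F369480)) (tt N91422 F393068) (tt N48099 (iv2 D179157)) (tt N97296 (iv3 F416265)) (tt N48106 F279109) (tt N112703 (iv5 F482251)) (tt N110298 F470914) (tt N91421 (iv7 F393062)))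
theorem Q82187 : ∀ i, i < 82187 → P i := stepQ 82186 Q82186 (allL N82186 (tt N77053 F360537) (tt N109191 (iv0 F465723)) (tt N112703 F482253) (tt N48100 F279110) (tt N112722 D215973) (tt N48099 (iv5 D179158)) (tt N62874 F353933) (tt N101820 (iv7 F434504)))
theorem Q82188 : ∀ i, i < 82188 → P i := stepQ 82187 Q82187 (allL N82187 (tt N62403 (iv1 F361956)) (tt N48101 (iv0 D179164)) (tt N62570 (iv2 F361953)) (tt N89437 (iv3 F386515)) (tt N62432 F361952) (tt N110527 (iv5 F471995)) (tt N89435 F386509) (tt N73248 (iv7 F361962)))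
theorem Q82189 : ∀ i, i < 82189 → P i := stepQ 82188 Q82188 (allL N82188 (tt N110323 (iv1 F471045)) (tt N106466 (iv0 F454571)) (tt N108391 (iv2 F462375)) (tt N106792 F455695) (tt N89078 F385078) (tt N48101 (iv5 D179166)) (tt N73862 (iv6 F364181)) (tt N73249 F342360))
theorem Q82190 : ∀ i, i < 82190 → P i := stepQ 82189 Q82189 (allL N82189 (tt N73737 F361579) (tt N72336 F361581) (tt N72402 (iv2 F361583)) (tt N48102 (iv3 D179168)) (tt N94376 (iv4 F404179)) (tt N75800 (iv5 F361580)) (tt N112723 D215974) (tt N73743 F361582))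
theorem Q82191 : ∀ i, i < 82191 → P i := stepQ 82190 Q82190 (allL N82190 (tt N73193 (iv1 F338995)) (tt N58622 F338994) (tt N73196 (iv2 F333267)) (tt N112723 (iv3 F482364)) (tt N101186 (iv4 F432100)) (tt N107216 (iv5 F457482)) (tt N48102 (iv6 D179170)) (tt N73195 F333271))
theorem Q82192 : ∀ i, i < 82192 → P i := stepQ 82191 Q82191 (allL N82191 (tt N96277 F411845) (tt N96280 (iv0 F411856)) (tt N86366 (iv2 F375963)) (tt N48109 (iv3 D179221)) (tt N84483 F369482) (tt N101233 (iv5 F432333)) (tt N51218 F338754) (tt N101824 (iv7 F434522)))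
theorem Q82193 : ∀ i, i < 82193 → P i := stepQ 82192 Q82192 (allL N82192 (tt N94285 (iv1 F403976)) (tt N94293 (iv0 F403975)) (tt N96254 (iv2 F411754)) (tt N94278 (iv3 F403932)) (tt N48109 (iv4 D179222)) (tt N94278 (iv5 F403931)) (tt N100509 (iv6 F429243)) (tt N96250 (iv7 F411742)))
theorem Q82194 : ∀ i, i < 82194 → P i := stepQ 82193 Q82193 (allL N82193 (tt N112724 D215975) (tt N48115 F398609) (tt N92872 F398607) (tt N48110 (iv3 D179226)) (tt N92870 (iv4 F398606)) (tt N108288 F461902) (tt N111544 (iv6 F476841)) (tt N92877 F398605))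
theorem Q82195 : ∀ i, i < 82195 → P i := stepQ 82194 Q82194 (allL N82194 (tt N94293 F403977) (tt N94285 (iv0 F403966)) (tt N96250 F411744) (tt N112725 D215976) (tt N48110 (iv4 D179227)) (tt N94279 F403940) (tt N112726 D215977) (tt N96254 (iv7 F411755)))
theorem Q82196 : ∀ i, i < 82196 → P i := stepQ 82195 Q82195 (allL N82195 (tt N77759 (iv1 F403215)) (tt N106222 (iv0 F453629)) (tt N101825 (iv2 F434526)) (tt N111544 (iv3 F476840)) (tt N112726 (iv4 F482380)) (tt N61010 F355108) (tt N48110 (iv6 D179229)) (tt N94102 (iv7 F403214)))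
theorem Q82197 : ∀ i, i < 82197 → P i := stepQ 82196 Q82196 (allL N82196 (tt N77758 (iv1 F279167)) (tt N77757 F279168) (tt N48127 F279165) (tt N94628 (iv3 F405299)) (tt N110917 (iv4 F473779)) (tt N109459 (iv5 F467071)) (tt N48113 (iv6 D179244)) (tt N77750 F279166))
theorem Q82198 : ∀ i, i < 82198 → P i := stepQ 82197 Q82197 (allL N82197 (tt N57388 F354249) (tt N55067 F354252) (tt N57387 F355474) (tt N48114 (iv3 D179247)) (tt N55008 (iv4 F355172)) (tt N101702 F433956) (tt N66242 (iv6 F359995)) (tt N48119 F279171))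
theorem Q82199 : ∀ i, i < 82199 → P i := stepQ 82198 Q82198 (allL N82198 (tt N82144 (iv1 F351359)) (tt N97417 (iv0 F416807)) (tt N48116 F279174) (tt N101702 (iv3 F433952)) (tt N52342 (iv4 F352643)) (tt N48114 (iv5 D179249)) (tt N69130 (iv6 F351360)) (tt N48120 F279175))
theorem Q82200 : ∀ i, i < 82200 → P i := stepQ 82199 Q82199 (allL N82199 (tt N48115 (iv1 D179252)) (tt N112724 F482374) (tt N92877 F398603) (tt N86366 (iv3 F375964)) (tt N92875 (iv4 F398614)) (tt N103120 (iv5 F440166)) (tt N81125 (iv6 F365297)) (tt N92872 (iv7 F398608)))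
theorem Q82201 : ∀ i, i < 82201 → P i := stepQ 82200 Q82200 (allL N82200 (tt N92872 (iv1 F398596)) (tt N92877 F398602) (tt N48115 (iv2 D179253)) (tt N57387 (iv3 F355494)) (tt N101939 (iv4 F435022)) (tt N91208 F392265) (tt N66446 F355497) (tt N112724 (iv7 F482375)))
theorem Q82202 : ∀ i, i < 82202 → P i := stepQ 82201 Q82201 (allL N82201 (tt N82179 F279177) (tt N97361 (iv0 F416503)) (tt N101939 (iv2 F435025)) (tt N56829 F360001) (tt N48115 (iv4 D179254)) (tt N107891 (iv5 F460145)) (tt N57002 (iv6 F360000)) (tt N96724 (iv7 F413613)))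
theorem Q82203 : ∀ i, i < 82203 → P i := stepQ 82202 Q82202 (allL N82202 (tt N61281 F350633) (tt N80338 F355847) (tt N91208 (iv2 F392261)) (tt N48116 F279178) (tt N81450 (iv4 F350628)) (tt N48115 (iv5 D179255)) (tt N82747 F350632) (tt N110253 (iv7 F470654)))
theorem Q82204 : ∀ i, i < 82204 → P i := stepQ 82203 Q82203 (allL N82203 (tt N57136 (iv1 F354334)) (tt N57133 (iv0 F354333)) (tt N66446 (iv2 F355498)) (tt N48117 F279179) (tt N57002 F351324) (tt N83637 F354325) (tt N48115 (iv6 D179256)) (tt N92909 (iv7 F398739)))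
theorem Q82205 : ∀ i, i < 82205 → P i := stepQ 82204 Q82204 (allL N82204 (tt N92877 F398601) (tt N92872 F398615) (tt N112724 F482373) (tt N48118 F279180) (tt N96724 F413614) (tt N110253 (iv5 F470648)) (tt N81142 (iv6 F423640)) (tt N48115 (iv7 D179257)))
theorem Q82206 : ∀ i, i < 82206 → P i := stepQ 82205 Q82205 (allL N82205 (tt N48120 (iv1 F279190)) (tt N48116 (iv0 D179264)) (tt N82144 (iv2 F351333)) (tt N101831 (iv3 F434564)) (tt N87733 (iv4 F380282)) (tt N63658 F347850) (tt N52555 (iv6 F347849)) (tt N97417 (iv7 F416805)))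
theorem Q82207 : ∀ i, i < 82207 → P i := stepQ 82206 Q82206 (allL N82206 (tt N52491 (iv1 F350631)) (tt N52587 (iv0 F350629)) (tt N52342 F350625) (tt N52602 F350626) (tt N48116 (iv4 D179266)) (tt N112727 D215978) (tt N112728 D215979) (tt N52588 (iv7 F350624)))
theorem Q82208 : ∀ i, i < 82208 → P i := stepQ 82207 Q82207 (allL N82207 (tt N103599 F442188) (tt N74757 (iv0 F354320)) (tt N69130 F351361) (tt N82747 (iv3 F354318)) (tt N112728 (iv4 F482390)) (tt N69122 (iv5 F347852)) (tt N48116 (iv6 D179267)) (tt N69126 F348900))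
theorem Q82209 : ∀ i, i < 82209 → P i := stepQ 82208 Q82208 (allL N82208 (tt N97417 (iv1 F416806)) (tt N82144 (iv0 F351336)) (tt N48120 F279188) (tt N110253 (iv3 F470650)) (tt N52588 F350614) (tt N48118 F279189) (tt N80197 (iv6 F347913)) (tt N48116 (iv7 D179268)))
theorem Q82210 : ∀ i, i < 82210 → P i := stepQ 82209 Q82209 (allL N82209 (tt N102859 (iv1 F438975)) (tt N66481 (iv0 F351329)) (tt N69131 F359999) (tt N83637 (iv3 F354324)) (tt N112729 D215980) (tt N48117 (iv5 D179271)) (tt N69122 F351325) (tt N69169 F351374))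
theorem Q82211 : ∀ i, i < 82211 → P i := stepQ 82210 Q82210 (allL N82210 (tt N55067 (iv1 F354254)) (tt N57388 F354253) (tt N48119 (iv2 D179276)) (tt N112724 F482376) (tt N55009 (iv4 F354257)) (tt N75499 (iv5 F354255)) (tt N110396 (iv6 F471388)) (tt N57387 (iv7 F355496)))
theorem Q82212 : ∀ i, i < 82212 → P i := stepQ 82211 Q82211 (allL N82211 (tt N50401 F350210) (tt N55010 (iv0 F360549)) (tt N55009 F354260) (tt N99274 (iv3 F423899)) (tt N48119 (iv4 D179277)) (tt N87482 (iv5 F379494)) (tt N99282 (iv6 F423926)) (tt N55008 F355179))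
theorem Q82213 : ∀ i, i < 82213 → P i := stepQ 82212 Q82212 (allL N82212 (tt N103137 (iv1 F440246)) (tt N57399 (iv0 F355476)) (tt N75499 F354261) (tt N48120 F279193) (tt N52592 (iv4 F350636)) (tt N48119 (iv5 D179278)) (tt N75180 (iv6 F354263)) (tt N101702 (iv7 F433954)))
theorem Q82214 : ∀ i, i < 82214 → P i := stepQ 82213 Q82213 (allL N82213 (tt N110397 (iv1 F471398)) (tt N66493 (iv0 F404289)) (tt N110396 F471389) (tt N48121 F279194) (tt N99282 (iv4 F423925)) (tt N82467 (iv5 F355477)) (tt N48119 (iv6 D179279)) (tt N66445 F351384))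
theorem Q82215 : ∀ i, i < 82215 → P i := stepQ 82214 Q82214 (allL N82214 (tt N48121 (iv1 D179286)) (tt N100680 (iv0 F429982)) (tt N79513 (iv2 F350668)) (tt N82061 F350638) (tt N110023 (iv4 F469596)) (tt N79512 F350671) (tt N81101 (iv6 F350637)) (tt N100709 (iv7 F430122)))
theorem Q82216 : ∀ i, i < 82216 → P i := stepQ 82215 Q82215 (allL N82215 (tt N59721 F391642) (tt N95473 F408319) (tt N48125 F279198) (tt N91026 (iv3 F391640)) (tt N48122 (iv4 D179299)) (tt N112730 D215981) (tt N87283 (iv6 F378975)) (tt N95471 (iv7 F408309)))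
theorem Q82217 : ∀ i, i < 82217 → P i := stepQ 82216 Q82216 (allL N82216 (tt N48125 (iv1 D179312)) (tt N95471 F408310) (tt N95473 (iv2 F408315)) (tt N59724 F351358) (tt N94083 (iv4 F403126)) (tt N60181 (iv5 F351357)) (tt N88530 (iv6 F383424)) (tt N59721 F351356))
theorem Q82218 : ∀ i, i < 82218 → P i := stepQ 82217 Q82217 (allL N82217 (tt N112731 D215982) (tt N100528 (iv0 F429338)) (tt N112730 (iv2 F482400)) (tt N87288 (iv3 F378985)) (tt N87111 (iv4 F378990)) (tt N48125 (iv5 D179313)) (tt N87110 F378991) (tt N100649 (iv7 F429839)))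
theorem Q82219 : ∀ i, i < 82219 → P i := stepQ 82218 Q82218 (allL N82218 (tt N77750 (iv1 F279204)) (tt N48127 (iv0 D179317)) (tt N77758 F415438) (tt N111545 F476848) (tt N110620 (iv4 F472435)) (tt N82074 (iv5 F347856)) (tt N63635 F347854) (tt N77757 F415436))
theorem Q82220 : ∀ i, i < 82220 → P i := stepQ 82219 Q82219 (allL N82219 (tt N48127 (iv1 D179318)) (tt N77750 F279205) (tt N77757 (iv2 F415437)) (tt N112732 D215983) (tt N110621 (iv4 F472440)) (tt N112733 D215984) (tt N79413 F357007) (tt N77758 (iv7 F415439)))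
theorem Q82221 : ∀ i, i < 82221 → P i := stepQ 82220 Q82220 (allL N82220 (tt N48131 F341984) (tt N48422 F341985) (tt N48423 F341986) (tt N66825 (iv3 F342001)) (tt N80863 F279326) (tt N66825 (iv5 F341991)) (tt N48130 (iv6 D179371)) (tt N48424 F341987))
theorem Q82222 : ∀ i, i < 82222 → P i := stepQ 82221 Q82221 (allL N82221 (tt N48152 F279561) (tt N101865 F434733) (tt N48497 F279559) (tt N109492 (iv3 F467249)) (tt N90581 F390168) (tt N76127 F279560) (tt N48135 (iv6 D179541)) (tt N101864 (iv7 F434723)))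
theorem Q82223 : ∀ i, i < 82223 → P i := stepQ 82222 Q82222 (allL N82222 (tt N48139 (iv1 D179559)) (tt N78812 F279613) (tt N74971 (iv2 F330042)) (tt N100091 (iv3 F427494)) (tt N72370 F363441) (tt N62852 (iv5 F338208)) (tt N76205 F279616) (tt N78836 F279614))
theorem Q82224 : ∀ i, i < 82224 → P i := stepQ 82223 Q82223 (allL N82223 (tt N48140 (iv1 D179561)) (tt N48512 F279623) (tt N48510 F344811) (tt N112734 D215985) (tt N61910 (iv4 F344844)) (tt N81428 F344781) (tt N66553 F344782) (tt N48511 F344812))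
theorem Q82225 : ∀ i, i < 82225 → P i := stepQ 82224 Q82224 (allL N82224 (tt N48511 (iv1 F279624)) (tt N48510 F279622) (tt N48140 (iv2 D179562)) (tt N82178 F279619) (tt N101943 (iv4 F435041)) (tt N75784 F279620) (tt N111762 (iv6 F477842)) (tt N48512 F279621))
theorem Q82226 : ∀ i, i < 82226 → P i := stepQ 82225 Q82225 (allL N82225 (tt N112389 (iv1 F480880)) (tt N112387 (iv0 F480864)) (tt N112361 (iv2 F480741)) (tt N48143 (iv3 D179594)) (tt N48145 F279694) (tt N71293 F366635) (tt N112735 D215986) (tt N81487 (iv7 F313972)))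
theorem Q82227 : ∀ i, i < 82227 → P i := stepQ 82226 Q82226 (allL N82226 (tt N71149 F341120) (tt N71401 (iv0 F341143)) (tt N71404 F366631) (tt N112735 (iv3 F482430)) (tt N48144 F279696) (tt N112736 D215987) (tt N48143 (iv6 D179596)) (tt N71405 (iv7 F366630)))
theorem Q82228 : ∀ i, i < 82228 → P i := stepQ 82227 Q82227 (allL N82227 (tt N80084 F305218) (tt N48144 (iv0 D179597)) (tt N90730 (iv2 F390669)) (tt N48248 F305219) (tt N89190 (iv4 F385507)) (tt N72396 F282935) (tt N73129 (iv6 F364019)) (tt N62235 (iv7 F322677)))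
theorem Q82229 : ∀ i, i < 82229 → P i := stepQ 82228 Q82228 (allL N82228 (tt N48144 (iv1 D179598)) (tt N80084 F306077) (tt N62235 (iv2 F322675)) (tt N73101 (iv3 F341119)) (tt N89189 (iv4 F385501)) (tt N72395 (iv5 F279697)) (tt N62233 (iv6 F322629)) (tt N90730 (iv7 F390670)))
theorem Q82230 : ∀ i, i < 82230 → P i := stepQ 82229 Q82229 (allL N82229 (tt N81484 (iv1 F344773)) (tt N81483 F344774) (tt N81485 F344772) (tt N48146 F279705) (tt N112735 (iv4 F482431)) (tt N104812 (iv5 F447417)) (tt N48145 (iv6 D179602)) (tt N80125 (iv7 F344771)))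
theorem Q82231 : ∀ i, i < 82231 → P i := stepQ 82230 Q82230 (allL N82230 (tt N109252 (iv1 F466006)) (tt N93379 (iv0 F400589)) (tt N108667 (iv2 F463455)) (tt N48149 (iv3 D179609)) (tt N48150 F279725) (tt N112154 (iv5 F479782)) (tt N77090 F279726) (tt N82146 F279727))
theorem Q82232 : ∀ i, i < 82232 → P i := stepQ 82231 Q82231 (allL N82231 (tt N72337 (iv1 F364622)) (tt N72335 (iv0 F364619)) (tt N103433 F441612) (tt N112154 (iv3 F479781)) (tt N67978 F364620) (tt N48149 (iv5 D179610)) (tt N80559 F365758) (tt N101860 (iv7 F434708)))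
theorem Q82233 : ∀ i, i < 82233 → P i := stepQ 82232 Q82232 (allL N82232 (tt N101865 (iv1 F434732)) (tt N48152 (iv0 D179631)) (tt N101864 (iv2 F434726)) (tt N72233 (iv3 F348046)) (tt N112737 D215988) (tt N81704 F348032) (tt N62328 (iv6 F348035)) (tt N48497 F348040))
theorem Q82234 : ∀ i, i < 82234 → P i := stepQ 82233 Q82233 (allL N82233 (tt N101864 F434727) (tt N48497 F282915) (tt N48152 (iv2 D179632)) (tt N80353 F355808) (tt N76311 F355807) (tt N87749 (iv5 F380352)) (tt N78817 F279740) (tt N101865 (iv7 F434731)))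
theorem Q82235 : ∀ i, i < 82235 → P i := stepQ 82234 Q82234 (allL N82234 (tt N72183 (iv1 F355135)) (tt N73180 (iv0 F341034)) (tt N48153 (iv2 D179637)) (tt N101865 (iv3 F434728)) (tt N106946 (iv4 F456397)) (tt N75378 F279744) (tt N55195 F330080) (tt N80353 (iv7 F330082)))
theorem Q82236 : ∀ i, i < 82236 → P i := stepQ 82235 Q82235 (allL N82235 (tt N94435 F404473) (tt N74705 (iv0 F366270)) (tt N106946 (iv2 F456396)) (tt N89591 (iv3 F386868)) (tt N48153 (iv4 D179638)) (tt N89590 F386865) (tt N74690 F363402) (tt N81731 (iv7 F363403)))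
theorem Q82237 : ∀ i, i < 82237 → P i := stepQ 82236 Q82236 (allL N82236 (tt N112295 (iv1 F480413)) (tt N102765 (iv0 F438545)) (tt N112073 (iv2 F479361)) (tt N48154 (iv3 D179640)) (tt N89591 (iv4 F386869)) (tt N65167 F366645) (tt N108682 (iv6 F463528)) (tt N65083 (iv7 F313778)))
theorem Q82238 : ∀ i, i < 82238 → P i := stepQ 82237 Q82237 (allL N82237 (tt N81704 F348028) (tt N76127 (iv0 F279757)) (tt N106995 (iv2 F456567)) (tt N48155 (iv3 D179642)) (tt N85788 (iv4 F373940)) (tt N66551 (iv5 F321576)) (tt N67054 F279755) (tt N66550 (iv7 F321282)))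
theorem Q82239 : ∀ i, i < 82239 → P i := stepQ 82238 Q82238 (allL N82238 (tt N75155 (iv1 F339413)) (tt N48160 (iv0 D179651)) (tt N73699 F351003) (tt N112722 (iv3 F482357)) (tt N108064 (iv4 F460954)) (tt N65334 F351005) (tt N62491 (iv6 F351002)) (tt N78717 F351004))
theorem Q82240 : ∀ i, i < 82240 → P i := stepQ 82239 Q82239 (allL N82239 (tt N48160 (iv1 D179652)) (tt N75155 (iv0 F339412)) (tt N78717 F353467) (tt N75251 F366622) (tt N80478 F353468) (tt N65335 F353469) (tt N79124 (iv6 F353466)) (tt N73699 F353470))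
theorem Q82241 : ∀ i, i < 82241 → P i := stepQ 82240 Q82240 (allL N82240 (tt N73699 (iv1 F339409)) (tt N78717 F279791) (tt N48160 (iv2 D179653)) (tt N57328 (iv3 F318490)) (tt N62499 F339410) (tt N57327 (iv5 F318489)) (tt N62498 (iv6 F339411)) (tt N75155 (iv7 F339416)))
theorem Q82242 : ∀ i, i < 82242 → P i := stepQ 82241 Q82241 (allL N82241 (tt N64588 (iv1 F306460)) (tt N64906 (iv0 F306489)) (tt N77546 F306148) (tt N48161 (iv3 D179660)) (tt N82329 (iv4 F280310)) (tt N79069 F279814) (tt N65249 F279815) (tt N65210 F279816))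
theorem Q82243 : ∀ i, i < 82243 → P i := stepQ 82242 Q82242 (allL N82242 (tt N102604 (iv1 F437869)) (tt N77221 (iv0 F349793)) (tt N78678 F279824) (tt N81354 (iv3 F363163)) (tt N48162 (iv4 D179663)) (tt N103526 (iv5 F441949)) (tt N81353 F363162) (tt N78680 F279825))
theorem Q82244 : ∀ i, i < 82244 → P i := stepQ 82243 Q82243 (allL N82243 (tt N70526 F357826) (tt N70531 F357827) (tt N48167 F279896) (tt N49034 F279897) (tt N112738 D215989) (tt N48166 (iv5 D179685)) (tt N105398 (iv6 F450060)) (tt N49027 F279898))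
theorem Q82245 : ∀ i, i < 82245 → P i := stepQ 82244 Q82244 (allL N82244 (tt N105627 F451021) (tt N105622 (iv0 F451003)) (tt N112738 (iv2 F482447)) (tt N101418 (iv3 F432910)) (tt N48167 (iv4 D179688)) (tt N105703 (iv5 F451328)) (tt N105399 (iv6 F450065)) (tt N100836 (iv7 F430705)))
theorem Q82246 : ∀ i, i < 82246 → P i := stepQ 82245 Q82245 (allL N82245 (tt N64393 F361490) (tt N64396 F332471) (tt N105022 (iv2 F448422)) (tt N48171 F279916) (tt N83445 (iv4 F346094)) (tt N48168 (iv5 D179710)) (tt N109788 (iv6 F468615)) (tt N101077 (iv7 F431560)))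
theorem Q82247 : ∀ i, i < 82247 → P i := stepQ 82246 Q82246 (allL N82246 (tt N93718 F401660) (tt N94774 F405879) (tt N85218 (iv2 F371936)) (tt N48169 (iv3 D179712)) (tt N85217 (iv4 F371933)) (tt N64915 (iv5 F366892)) (tt N85215 F371921) (tt N94764 (iv7 F405846)))
theorem Q82248 : ∀ i, i < 82248 → P i := stepQ 82247 Q82247 (allL N82247 (tt N48197 (iv1 F279926)) (tt N48170 (iv0 D179714)) (tt N48194 F351141) (tt N51235 (iv3 F351143)) (tt N94562 (iv4 F404974)) (tt N112739 D215990) (tt N84758 (iv6 F370522)) (tt N48195 F351142))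
theorem Q82249 : ∀ i, i < 82249 → P i := stepQ 82248 Q82248 (allL N82248 (tt N48170 (iv1 D179715)) (tt N48197 F279922) (tt N48195 F351136) (tt N53727 (iv3 F351135)) (tt N83134 F351134) (tt N100859 (iv5 F430803)) (tt N51231 (iv6 F351155)) (tt N48194 F351137))
theorem Q82250 : ∀ i, i < 82250 → P i := stepQ 82249 Q82249 (allL N82249 (tt N112740 D215991) (tt N110880 (iv0 F473582)) (tt N48196 F279923) (tt N109788 (iv3 F468614)) (tt N112741 D215992) (tt N48170 (iv5 D179716)) (tt N48171 F279924) (tt N112742 D215993))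
theorem Q82251 : ∀ i, i < 82251 → P i := stepQ 82250 Q82250 (allL N82250 (tt N48195 (iv1 F279927)) (tt N48194 F279928) (tt N48197 F279925) (tt N85192 F371846) (tt N93427 F400707) (tt N112742 (iv5 F482465)) (tt N95202 (iv6 F407395)) (tt N48170 (iv7 D179717)))
theorem Q82252 : ∀ i, i < 82252 → P i := stepQ 82251 Q82251 (allL N82251 (tt N64340 F279931) (tt N64335 F279932) (tt N48201 F279929) (tt N112743 D215994) (tt N48171 (iv4 D179718)) (tt N48201 F279930) (tt N112741 (iv6 F482463)) (tt N80511 F366874))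
theorem Q82253 : ∀ i, i < 82253 → P i := stepQ 82252 Q82252 (allL N82252 (tt N109495 (iv1 F467266)) (tt N101787 (iv0 F434341)) (tt N101843 (iv2 F434617)) (tt N70234 F343131) (tt N48174 (iv4 D179730)) (tt N70232 (iv5 F343130)) (tt N104782 (iv6 F447242)) (tt N82854 (iv7 F284632)))
theorem Q82254 : ∀ i, i < 82254 → P i := stepQ 82253 Q82253 (allL N82253 (tt N94545 (iv1 F404916)) (tt N57852 F343117) (tt N48179 F279952) (tt N84827 (iv3 F370769)) (tt N48175 (iv4 D179732)) (tt N57830 F343120) (tt N84826 F370767) (tt N94522 (iv7 F404820)))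
theorem Q82255 : ∀ i, i < 82255 → P i := stepQ 82254 Q82254 (allL N82254 (tt N98242 (iv1 F420111)) (tt N112744 D215995) (tt N48180 F279953) (tt N84824 F370756) (tt N84826 (iv4 F370764)) (tt N112745 D215996) (tt N48175 (iv6 D179733)) (tt N85197 (iv7 F371865)))
theorem Q82256 : ∀ i, i < 82256 → P i := stepQ 82255 Q82255 (allL N82255 (tt N63131 F279955) (tt N63129 F279956) (tt N48183 F279954) (tt N105022 (iv3 F448423)) (tt N112746 D215997) (tt N48176 (iv5 D179734)) (tt N112745 (iv6 F482477)) (tt N101475 (iv7 F433080)))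
theorem Q82257 : ∀ i, i < 82257 → P i := stepQ 82256 Q82256 (allL N82256 (tt N53113 F368322) (tt N109493 (iv0 F467259)) (tt N103842 (iv2 F443050)) (tt N48177 (iv3 D179736)) (tt N67706 F352315) (tt N94153 (iv5 F403453)) (tt N106474 (iv6 F454596)) (tt N101844 (iv7 F434625)))
theorem Q82258 : ∀ i, i < 82258 → P i := stepQ 82257 Q82257 (allL N82257 (tt N101793 (iv1 F434373)) (tt N53766 (iv0 F368321)) (tt N101846 (iv2 F434634)) (tt N112747 D215998) (tt N48177 (iv4 D179737)) (tt N110839 (iv5 F473392)) (tt N106475 (iv6 F454599)) (tt N101845 (iv7 F434630)))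
theorem Q82259 : ∀ i, i < 82259 → P i := stepQ 82258 Q82258 (allL N82258 (tt N53766 F338894) (tt N101793 (iv0 F434374)) (tt N101845 (iv2 F434629)) (tt N70237 F366742) (tt N48178 (iv4 D179741)) (tt N110837 (iv5 F473379)) (tt N105635 (iv6 F451051)) (tt N101846 (iv7 F434636)))
theorem Q82260 : ∀ i, i < 82260 → P i := stepQ 82259 Q82259 (allL N82259 (tt N48179 (iv1 D179744)) (tt N94522 (iv0 F404821)) (tt N57852 (iv2 F366581)) (tt N94550 (iv3 F404928)) (tt N76108 F279969) (tt N94253 (iv5 F403844)) (tt N94828 F406077) (tt N94545 (iv7 F404915)))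
theorem Q82261 : ∀ i, i < 82261 → P i := stepQ 82260 Q82260 (allL N82260 (tt N85205 (iv1 F371881)) (tt N85204 F371880) (tt N84826 (iv2 F370763)) (tt N70147 (iv3 F343150)) (tt N48180 F279971) (tt N90153 (iv5 F388715)) (tt N48179 (iv6 D179747)) (tt N70140 F343116))
theorem Q82262 : ∀ i, i < 82262 → P i := stepQ 82261 Q82261 (allL N82261 (tt N85197 (iv1 F371867)) (tt N48180 (iv0 D179748)) (tt N98242 (iv2 F420112)) (tt N112748 D215999) (tt N53813 (iv4 F371868)) (tt N112749 D216000) (tt N105637 (iv6 F471881)) (tt N112744 (iv7 F482471)))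
theorem Q82263 : ∀ i, i < 82263 → P i := stepQ 82262 Q82262 (allL N82262 (tt N48180 (iv1 D179749)) (tt N85197 (iv0 F371866)) (tt N112744 (iv2 F482474)) (tt N66803 (iv3 F356704)) (tt N53814 (iv4 F365258)) (tt N83513 F290038) (tt N82856 (iv6 F362815)) (tt N98242 (iv7 F420109)))
theorem Q82264 : ∀ i, i < 82264 → P i := stepQ 82263 Q82263 (allL N82263 (tt N112750 D216001) (tt N112751 D216002) (tt N112745 (iv2 F482476)) (tt N48196 F279972) (tt N112752 D216003) (tt N48180 (iv5 D179750)) (tt N48183 F279973) (tt N112753 D216004))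
theorem Q82265 : ∀ i, i < 82265 → P i := stepQ 82264 Q82264 (allL N82264 (tt N112744 (iv1 F482470)) (tt N98242 (iv0 F420110)) (tt N85197 (iv2 F371863)) (tt N48197 F279974) (tt N70140 (iv4 F343151)) (tt N112753 (iv5 F482495)) (tt N70139 F343154) (tt N48180 (iv7 D179751)))
theorem Q82266 : ∀ i, i < 82266 → P i := stepQ 82265 Q82265 (allL N82265 (tt N94124 (iv1 F403325)) (tt N109494 (iv0 F467264)) (tt N68401 (iv2 F361463)) (tt N48181 (iv3 D179752)) (tt N63448 (iv4 F361464)) (tt N100054 (iv5 F427380)) (tt N73641 F361462) (tt N68400 F361466))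
theorem Q82267 : ∀ i, i < 82267 → P i := stepQ 82266 Q82266 (allL N82266 (tt N101475 (iv1 F433082)) (tt N48183 (iv0 D179755)) (tt N63131 (iv2 F279976)) (tt N88539 (iv3 F383463)) (tt N112754 D216005) (tt N63115 F279975) (tt N106952 (iv6 F456414)) (tt N63129 (iv7 F279977)))
theorem Q82268 : ∀ i, i < 82268 → P i := stepQ 82267 Q82267 (allL N82267 (tt N48183 (iv1 D179756)) (tt N101475 (iv0 F433081)) (tt N63129 (iv2 F279980)) (tt N76966 (iv3 F338047)) (tt N112755 D216006) (tt N63114 F279979) (tt N82736 F338048) (tt N63131 F279978))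
theorem Q82269 : ∀ i, i < 82269 → P i := stepQ 82268 Q82268 (allL N82268 (tt N110098 (iv1 F469978)) (tt N110096 (iv0 F469968)) (tt N112746 (iv2 F482478)) (tt N112756 D216007) (tt N48183 (iv4 D179757)) (tt N112757 D216008) (tt N112752 (iv6 F482492)) (tt N101482 (iv7 F433100)))
theorem Q82270 : ∀ i, i < 82270 → P i := stepQ 82269 Q82269 (allL N82269 (tt N53089 (iv1 F281968)) (tt N53091 F281967) (tt N48184 (iv2 D179761)) (tt N53115 (iv3 F287076)) (tt N53712 (iv4 F338896)) (tt N53705 (iv5 F338821)) (tt N112758 D216009) (tt N53704 F338823))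
theorem Q82271 : ∀ i, i < 82271 → P i := stepQ 82270 Q82270 (allL N82270 (tt N53703 F338840) (tt N53702 F338834) (tt N53705 F338822) (tt N48186 F279985) (tt N53692 (iv4 F338833)) (tt N48184 (iv5 D179763)) (tt N64380 (iv6 F301781)) (tt N53688 (iv7 F300553)))
theorem Q82272 : ∀ i, i < 82272 → P i := stepQ 82271 Q82271 (allL N82271 (tt N53102 F338899) (tt N112759 D216010) (tt N112758 (iv2 F482512)) (tt N48187 F279988) (tt N101781 (iv4 F434317)) (tt N101631 (iv5 F433624)) (tt N48184 (iv6 D179764)) (tt N105648 (iv7 F451101)))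
theorem Q82273 : ∀ i, i < 82273 → P i := stepQ 82272 Q82272 (allL N82272 (tt N112760 D216011) (tt N112761 D216012) (tt N101848 (iv2 F434647)) (tt N101783 (iv3 F434325)) (tt N48187 F280002) (tt N93784 (iv5 F432959)) (tt N48185 (iv6 D179769)) (tt N105649 (iv7 F451105)))
theorem Q82274 : ∀ i, i < 82274 → P i := stepQ 82273 Q82273 (allL N82273 (tt N101849 (iv1 F434656)) (tt N48187 (iv0 D179770)) (tt N84756 (iv2 F370511)) (tt N106360 (iv3 F454137)) (tt N93384 F400601) (tt N89297 (iv5 F385973)) (tt N49451 F280003) (tt N99523 (iv7 F424975)))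
theorem Q82275 : ∀ i, i < 82275 → P i := stepQ 82274 Q82274 (allL N82274 (tt N48187 (iv1 D179771)) (tt N101849 F434655) (tt N99523 (iv2 F424974)) (tt N105957 (iv3 F452502)) (tt N73028 (iv4 F404739)) (tt N90922 (iv5 F391275)) (tt N72174 (iv6 F370516)) (tt N84756 F370515))
theorem Q82276 : ∀ i, i < 82276 → P i := stepQ 82275 Q82275 (allL N82275 (tt N54289 F287073) (tt N54286 F287083) (tt N112282 (iv2 F480337)) (tt N103584 (iv3 F442127)) (tt N48188 (iv4 D179776)) (tt N87670 F380085) (tt N90449 F389686) (tt N51183 F367999))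
theorem Q82277 : ∀ i, i < 82277 → P i := stepQ 82276 Q82276 (allL N82276 (tt N112762 D216013) (tt N111183 (iv0 F475123)) (tt N112763 D216014) (tt N48190 (iv3 D179784)) (tt N112764 D216015) (tt N64509 (iv5 F366887)) (tt N112765 D216016) (tt N63981 (iv7 F366886)))
theorem Q82278 : ∀ i, i < 82278 → P i := stepQ 82277 Q82277 (allL N82277 (tt N93384 F405154) (tt N73028 F407386) (tt N64869 F366870) (tt N112765 (iv3 F482550)) (tt N63983 (iv4 F366888)) (tt N92899 (iv5 F413598)) (tt N48190 (iv6 D179786)) (tt N105645 (iv7 F451087)))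
theorem Q82279 : ∀ i, i < 82279 → P i := stepQ 82278 Q82278 (allL N82278 (tt N77537 F432939) (tt N110216 F470474) (tt N110214 F470462) (tt N48191 (iv3 D179787)) (tt N112766 D216017) (tt N64868 (iv5 F366869)) (tt N105646 (iv6 F451091)) (tt N64867 F366868))
theorem Q82280 : ∀ i, i < 82280 → P i := stepQ 82279 Q82279 (allL N82279 (tt N112767 D216018) (tt N102308 F436648) (tt N64916 F366922) (tt N59659 (iv3 F364130)) (tt N64515 (iv4 F366921)) (tt N112768 D216019) (tt N48192 (iv6 D179795)) (tt N58726 F364129))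
theorem Q82281 : ∀ i, i < 82281 → P i := stepQ 82280 Q82280 (allL N82280 (tt N93426 (iv1 F400700)) (tt N67081 F400711) (tt N93428 (iv2 F400708)) (tt N95267 (iv3 F407640)) (tt N112769 D216020) (tt N48193 (iv5 D179798)) (tt N112768 (iv6 F482569)) (tt N93425 F400699))
theorem Q82282 : ∀ i, i < 82282 → P i := stepQ 82281 Q82281 (allL N82281 (tt N85439 (iv1 F372641)) (tt N85438 F372640) (tt N53724 F351145) (tt N48194 (iv3 D179801)) (tt N53695 (iv4 F351144)) (tt N112770 D216021) (tt N105651 (iv6 F451118)) (tt N53727 F351140))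
theorem Q82283 : ∀ i, i < 82283 → P i := stepQ 82282 Q82282 (allL N82282 (tt N95679 F409114) (tt N100625 (iv0 F429752)) (tt N94562 (iv2 F404973)) (tt N49003 F345421) (tt N48194 (iv4 D179802)) (tt N83162 (iv5 F362246)) (tt N57856 F370508) (tt N83134 F345422))
theorem Q82284 : ∀ i, i < 82284 → P i := stepQ 82283 Q82283 (allL N82283 (tt N105244 (iv1 F449368)) (tt N112771 D216022) (tt N112739 (iv2 F482453)) (tt N112770 (iv3 F482579)) (tt N112772 D216023) (tt N48194 (iv5 D179803)) (tt N112773 D216024) (tt N100859 F430804))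
theorem Q82285 : ∀ i, i < 82285 → P i := stepQ 82284 Q82284 (allL N82284 (tt N100625 F429753) (tt N95679 (iv0 F409113)) (tt N83134 F351139) (tt N112774 D216025) (tt N48195 (iv4 D179807)) (tt N112775 D216026) (tt N51232 (iv6 F367072)) (tt N94562 (iv7 F404975)))
theorem Q82286 : ∀ i, i < 82286 → P i := stepQ 82285 Q82285 (allL N82285 (tt N112771 (iv1 F482583)) (tt N105244 (iv0 F449367)) (tt N100859 (iv2 F430801)) (tt N50214 (iv3 F292678)) (tt N112776 D216027) (tt N48195 (iv5 D179808)) (tt N50213 (iv6 F292671)) (tt N112739 (iv7 F482455)))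
theorem Q82287 : ∀ i, i < 82287 → P i := stepQ 82286 Q82286 (allL N82286 (tt N112742 (iv1 F482467)) (tt N48196 (iv0 D179810)) (tt N112740 F482459) (tt N112777 D216028) (tt N112778 D216029) (tt N104100 F444181) (tt N64411 F366919) (tt N110880 (iv7 F473581)))
theorem Q82288 : ∀ i, i < 82288 → P i := stepQ 82287 Q82287 (allL N82287 (tt N48196 (iv1 D179811)) (tt N112742 F482466) (tt N110880 (iv2 F473578)) (tt N112779 D216030) (tt N112780 D216031) (tt N104101 (iv5 F444188)) (tt N72524 (iv6 F356534)) (tt N112740 (iv7 F482460)))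
theorem Q82289 : ∀ i, i < 82289 → P i := stepQ 82288 Q82288 (allL N82288 (tt N112781 D216032) (tt N112782 D216033) (tt N112741 (iv2 F482462)) (tt N112783 D216034) (tt N48196 (iv4 D179812)) (tt N112784 D216035) (tt N48201 F280033) (tt N112785 D216036))
theorem Q82290 : ∀ i, i < 82290 → P i := stepQ 82289 Q82289 (allL N82289 (tt N110880 F473583) (tt N112740 F482461) (tt N112742 (iv2 F482464)) (tt N112753 (iv3 F482494)) (tt N112785 (iv4 F482618)) (tt N48197 F280034) (tt N101491 (iv6 F433123)) (tt N48196 (iv7 D179813)))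
theorem Q82291 : ∀ i, i < 82291 → P i := stepQ 82290 Q82290 (allL N82290 (tt N48199 (iv1 D179819)) (tt N53129 (iv0 F362723)) (tt N53131 F344108) (tt N94124 (iv3 F403321)) (tt N80722 (iv4 F344107)) (tt N88558 (iv5 F383494)) (tt N53119 F344109) (tt N49467 F344110))
theorem Q82292 : ∀ i, i < 82292 → P i := stepQ 82291 Q82291 (allL N82291 (tt N101782 (iv1 F434323)) (tt N112539 (iv0 F481576)) (tt N77046 (iv2 F366800)) (tt N48200 (iv3 D179821)) (tt N88589 (iv4 F384375)) (tt N52807 F280038) (tt N112786 D216037) (tt N64320 F280039))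
theorem Q82293 : ∀ i, i < 82293 → P i := stepQ 82292 Q82292 (allL N82292 (tt N64844 (iv1 F366889)) (tt N100887 (iv0 F430860)) (tt N64324 F280040) (tt N88596 F384376) (tt N48200 (iv4 D179822)) (tt N88487 (iv5 F383245)) (tt N112787 D216038) (tt N64322 F280041))
theorem Q82294 : ∀ i, i < 82294 → P i := stepQ 82293 Q82293 (allL N82293 (tt N104330 (iv1 F445289)) (tt N70457 (iv0 F365581)) (tt N64325 F280042) (tt N112786 (iv3 F482621)) (tt N112787 (iv4 F482627)) (tt N70251 (iv5 F365580)) (tt N48200 (iv6 D179823)) (tt N104105 (iv7 F444201)))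
theorem Q82295 : ∀ i, i < 82295 → P i := stepQ 82294 Q82294 (allL N82294 (tt N48201 (iv1 D179825)) (tt N80511 F366875) (tt N64335 (iv2 F280048)) (tt N112788 D216039) (tt N63916 (iv4 F299270)) (tt N80520 (iv5 F366876)) (tt N112789 D216040) (tt N64340 F280046))
theorem Q82296 : ∀ i, i < 82296 → P i := stepQ 82295 Q82295 (allL N82295 (tt N112790 D216041) (tt N112791 D216042) (tt N112792 D216043) (tt N48201 (iv3 D179826)) (tt N112756 (iv4 F482505)) (tt N112743 (iv5 F482468)) (tt N112783 (iv6 F482616)) (tt N101493 (iv7 F433132)))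
theorem Q82297 : ∀ i, i < 82297 → P i := stepQ 82296 Q82296 (allL N82296 (tt N53710 (iv1 F338864)) (tt N53095 (iv0 F338884)) (tt N88851 (iv2 F384341)) (tt N48203 F280080) (tt N89667 (iv4 F387165)) (tt N48202 (iv5 D179846)) (tt N107420 (iv6 F458280)) (tt N64531 (iv7 F301729)))
theorem Q82298 : ∀ i, i < 82298 → P i := stepQ 82297 Q82297 (allL N82297 (tt N54008 F280132) (tt N103831 (iv0 F443006)) (tt N67699 F355285) (tt N103853 (iv3 F443090)) (tt N48207 (iv4 D179862)) (tt N67698 F335151) (tt N103829 F442993) (tt N64911 (iv7 F355289)))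
theorem Q82299 : ∀ i, i < 82299 → P i := stepQ 82298 Q82298 (allL N82298 (tt N70856 (iv1 F358546)) (tt N71242 (iv0 F358545)) (tt N71240 (iv2 F366379)) (tt N48209 F280133) (tt N103829 F442992) (tt N58318 (iv5 F337490)) (tt N48207 (iv6 D179863)) (tt N71239 F358537))
theorem Q82300 : ∀ i, i < 82300 → P i := stepQ 82299 Q82299 (allL N82299 (tt N112793 D216044) (tt N112794 D216045) (tt N59390 (iv2 F364125)) (tt N48208 (iv3 D179864)) (tt N103853 (iv4 F443091)) (tt N94764 (iv5 F405845)) (tt N59386 F364122) (tt N64915 (iv7 F366920)))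
theorem Q82301 : ∀ i, i < 82301 → P i := stepQ 82300 Q82300 (allL N82300 (tt N58725 (iv1 F362610)) (tt N48209 (iv0 D179866)) (tt N59635 (iv2 F409082)) (tt N107969 (iv3 F460533)) (tt N58711 F362609) (tt N58694 (iv5 F362608)) (tt N59649 F341519) (tt N59636 F409085))
theorem Q82302 : ∀ i, i < 82302 → P i := stepQ 82301 Q82301 (allL N82301 (tt N48209 (iv1 D179867)) (tt N58725 (iv0 F360070)) (tt N59636 F409084) (tt N88980 (iv3 F384634)) (tt N58701 F360065) (tt N58707 (iv5 F360066)) (tt N89807 (iv6 F387613)) (tt N59635 (iv7 F409083)))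
theorem Q82303 : ∀ i, i < 82303 → P i := stepQ 82302 Q82302 (allL N82302 (tt N59636 (iv1 F364121)) (tt N59635 F362613) (tt N58725 F362611) (tt N71239 F358536) (tt N58713 (iv4 F362612)) (tt N58319 (iv5 F337492)) (tt N64920 (iv6 F366926)) (tt N48209 (iv7 D179868)))
theorem Q82304 : ∀ i, i < 82304 → P i := stepQ 82303 Q82303 (allL N82303 (tt N83230 F286393) (tt N100558 (iv0 F429458)) (tt N90249 (iv2 F389098)) (tt N48211 F280146) (tt N112795 D216046) (tt N48210 (iv5 D179881)) (tt N112796 D216047) (tt N100590 (iv7 F429590)))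
theorem Q82305 : ∀ i, i < 82305 → P i := stepQ 82304 Q82304 (allL N82304 (tt N105192 F449161) (tt N112756 F482508) (tt N80521 (iv2 F366925)) (tt N112796 (iv3 F482655)) (tt N100882 (iv4 F430853)) (tt N101610 (iv5 F433539)) (tt N48211 (iv6 D179882)) (tt N112797 D216048))
theorem Q82306 : ∀ i, i < 82306 → P i := stepQ 82305 Q82305 (allL N82305 (tt N90443 (iv1 F389659)) (tt N90442 F389657) (tt N57833 (iv2 F343145)) (tt N94531 (iv3 F404863)) (tt N48212 (iv4 D179884)) (tt N57832 F343146) (tt N105695 (iv6 F451294)) (tt N90432 (iv7 F389633)))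
theorem Q82307 : ∀ i, i < 82307 → P i := stepQ 82306 Q82306 (allL N82306 (tt N89195 (iv1 F385526)) (tt N65242 F280156) (tt N48227 F280153) (tt N90502 (iv3 F389853)) (tt N48213 (iv4 D179891)) (tt N76997 F280155) (tt N90540 (iv6 F390017)) (tt N48230 F280154))
theorem Q82308 : ∀ i, i < 82308 → P i := stepQ 82307 Q82307 (allL N82307 (tt N73612 (iv1 F323263)) (tt N73327 (iv0 F323260)) (tt N48232 F280157) (tt N111529 (iv3 F476759)) (tt N48214 (iv4 D179892)) (tt N112798 D216049) (tt N73190 F366626) (tt N73611 (iv7 F348356)))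
theorem Q82309 : ∀ i, i < 82309 → P i := stepQ 82308 Q82308 (allL N82308 (tt N48219 (iv1 F280175)) (tt N48217 (iv0 D179895)) (tt N94262 F403879) (tt N57554 F334055) (tt N65209 F280174) (tt N94191 (iv5 F403636)) (tt N105046 (iv6 F448548)) (tt N65245 (iv7 F280176)))
theorem Q82310 : ∀ i, i < 82310 → P i := stepQ 82309 Q82309 (allL N82309 (tt N92302 (iv1 F396637)) (tt N57533 (iv0 F366549)) (tt N92424 (iv2 F396970)) (tt N48217 (iv3 D179897)) (tt N82123 F280180) (tt N94188 (iv5 F403623)) (tt N100081 (iv6 F427465)) (tt N92423 F396967))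
theorem Q82311 : ∀ i, i < 82311 → P i := stepQ 82310 Q82310 (allL N82310 (tt N96924 F414639) (tt N112799 D216050) (tt N110822 (iv2 F473302)) (tt N48220 (iv3 D179905)) (tt N89183 (iv4 F385482)) (tt N92466 F403775) (tt N89182 F385480) (tt N101853 (iv7 F434674)))
theorem Q82312 : ∀ i, i < 82312 → P i := stepQ 82311 Q82311 (allL N82311 (tt N57618 F366580) (tt N57613 (iv0 F315145)) (tt N57614 F366618) (tt N92466 (iv3 F403774)) (tt N110837 (iv4 F473378)) (tt N48220 (iv5 D179906)) (tt N112800 D216051) (tt N57615 (iv7 F366617)))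
theorem Q82313 : ∀ i, i < 82313 → P i := stepQ 82312 Q82312 (allL N82312 (tt N57613 (iv1 F315146)) (tt N57618 (iv0 F364525)) (tt N57615 (iv2 F366616)) (tt N82313 F364195) (tt N110839 (iv4 F473393)) (tt N48221 (iv5 D179908)) (tt N112801 D216052) (tt N57614 F366619))
theorem Q82314 : ∀ i, i < 82314 → P i := stepQ 82313 Q82313 (allL N82313 (tt N57526 (iv1 F353528)) (tt N48222 (iv0 D179910)) (tt N101855 (iv2 F434684)) (tt N82312 (iv3 F364195)) (tt N109141 (iv4 F465534)) (tt N78029 F336911) (tt N112802 D216053) (tt N94365 (iv7 F404146)))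
theorem Q82315 : ∀ i, i < 82315 → P i := stepQ 82314 Q82314 (allL N82314 (tt N48222 (iv1 D179911)) (tt N57526 F355445) (tt N94365 (iv2 F404147)) (tt N96925 (iv3 F414643)) (tt N82147 (iv4 F280194)) (tt N78028 F356558) (tt N102817 (iv6 F438784)) (tt N101855 (iv7 F434681)))
theorem Q82316 : ∀ i, i < 82316 → P i := stepQ 82315 Q82315 (allL N82315 (tt N59308 F343129) (tt N59304 (iv0 F356563)) (tt N94337 (iv2 F404073)) (tt N48223 F280196) (tt N96265 (iv4 F411796)) (tt N48222 (iv5 D179913)) (tt N112803 D216054) (tt N94354 (iv7 F404111)))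
theorem Q82317 : ∀ i, i < 82317 → P i := stepQ 82316 Q82316 (allL N82316 (tt N92403 F404339) (tt N92402 (iv0 F404340)) (tt N102272 (iv2 F436481)) (tt N112803 (iv3 F482685)) (tt N94523 (iv4 F404834)) (tt N94408 (iv5 F404337)) (tt N48223 (iv6 D179918)) (tt N102271 (iv7 F436477)))
theorem Q82318 : ∀ i, i < 82318 → P i := stepQ 82317 Q82317 (allL N82317 (tt N97329 (iv1 F416373)) (tt N92414 (iv0 F396940)) (tt N73190 (iv2 F366625)) (tt N92453 (iv3 F397050)) (tt N48225 (iv4 D179926)) (tt N94410 (iv5 F404349)) (tt N48232 F280206) (tt N108775 (iv7 F463873)))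
theorem Q82319 : ∀ i, i < 82319 → P i := stepQ 82318 Q82318 (allL N82318 (tt N100030 (iv1 F427287)) (tt N48500 F330101) (tt N48226 (iv2 D179929)) (tt N82098 F280210) (tt N65314 (iv4 F280214)) (tt N76796 F280211) (tt N79380 F350952) (tt N77602 F280212))
theorem Q82320 : ∀ i, i < 82320 → P i := stepQ 82319 Q82319 (allL N82319 (tt N48230 (iv1 F280231)) (tt N48227 (iv0 D179932)) (tt N89195 (iv2 F385530)) (tt N88858 (iv3 F384357)) (tt N65249 F280230) (tt N110095 (iv5 F469963)) (tt N82329 F280312) (tt N65242 F280232))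
theorem Q82321 : ∀ i, i < 82321 → P i := stepQ 82320 Q82320 (allL N82320 (tt N77000 F280235) (tt N53999 F280236) (tt N76997 F280233) (tt N53938 F362740) (tt N100056 (iv4 F427386)) (tt N48227 (iv5 D179934)) (tt N112804 D216055) (tt N76998 F280234))
theorem Q82322 : ∀ i, i < 82322 → P i := stepQ 82321 Q82321 (allL N82321 (tt N53999 F280243) (tt N77000 F280244) (tt N76998 F280241) (tt N90501 (iv3 F389848)) (tt N100057 (iv4 F427387)) (tt N48230 (iv5 D179936)) (tt N72135 (iv6 F365826)) (tt N76997 F280242))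
theorem Q82323 : ∀ i, i < 82323 → P i := stepQ 82322 Q82322 (allL N82322 (tt N73793 (iv1 F356233)) (tt N92554 F397352) (tt N63146 F280245) (tt N112805 D216056) (tt N48231 (iv4 D179937)) (tt N110113 (iv5 F470049)) (tt N73404 (iv6 F320122)) (tt N63140 F280247))
theorem Q82324 : ∀ i, i < 82324 → P i := stepQ 82323 Q82323 (allL N82323 (tt N73611 (iv1 F348355)) (tt N48232 (iv0 D179940)) (tt N73612 (iv2 F323264)) (tt N104721 (iv3 F446982)) (tt N76980 F280254) (tt N104720 (iv5 F446980)) (tt N73406 F360678) (tt N73327 (iv7 F323262)))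
theorem Q82325 : ∀ i, i < 82325 → P i := stepQ 82324 Q82324 (allL N82324 (tt N74298 F404354) (tt N100084 (iv0 F427475)) (tt N112798 (iv2 F482661)) (tt N92452 (iv3 F397046)) (tt N106035 (iv4 F452828)) (tt N48232 (iv5 D179943)) (tt N55896 F404355) (tt N73613 F366324))
theorem Q82326 : ∀ i, i < 82326 → P i := stepQ 82325 Q82325 (allL N82325 (tt N92548 (iv1 F403808)) (tt N94239 (iv0 F403807)) (tt N96256 F411767) (tt N106457 (iv3 F454528)) (tt N48233 (iv4 D179946)) (tt N94221 F403809) (tt N103111 (iv6 F440123)) (tt N96255 F411762))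
theorem Q82327 : ∀ i, i < 82327 → P i := stepQ 82326 Q82326 (allL N82326 (tt N94239 F403811) (tt N92548 (iv0 F403621)) (tt N96255 F411761) (tt N112806 D216057) (tt N48234 (iv4 D179951)) (tt N94222 F434686) (tt N110659 (iv6 F472635)) (tt N96256 (iv7 F411765)))
theorem Q82328 : ∀ i, i < 82328 → P i := stepQ 82327 Q82327 (allL N82327 (tt N64031 F350989) (tt N61759 (iv0 F350987)) (tt N78728 F350994) (tt N78623 (iv3 F350984)) (tt N111348 (iv4 F475942)) (tt N48234 (iv5 D179952)) (tt N70095 F350983) (tt N75996 (iv7 F350986)))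
theorem Q82329 : ∀ i, i < 82329 → P i := stepQ 82328 Q82328 (allL N82328 (tt N76124 F280307) (tt N52387 F352638) (tt N87466 F379430) (tt N48238 F280305) (tt N100651 (iv4 F429849)) (tt N48236 (iv5 D179979)) (tt N80464 F334466) (tt N78737 F280306))
theorem Q82330 : ∀ i, i < 82330 → P i := stepQ 82329 Q82329 (allL N82329 (tt N48240 (iv1 F280311)) (tt N48237 (iv0 D179980)) (tt N64482 (iv2 F357834)) (tt N53090 F342040) (tt N82241 F280310) (tt N54006 F280309) (tt N82319 (iv6 F280312)) (tt N54276 (iv7 F280313)))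
theorem Q82331 : ∀ i, i < 82331 → P i := stepQ 82330 Q82330 (allL N82330 (tt N48237 (iv1 D179981)) (tt N48240 F280319) (tt N54276 F280322) (tt N64469 (iv3 F305152)) (tt N76043 (iv4 F280321)) (tt N54007 F280324) (tt N54272 F280323) (tt N64482 (iv7 F357836)))
theorem Q82332 : ∀ i, i < 82332 → P i := stepQ 82331 Q82331 (allL N82331 (tt N76085 (iv1 F280332)) (tt N76082 F280331) (tt N75909 F280330) (tt N54436 (iv3 F366710)) (tt N98719 (iv4 F422000)) (tt N48237 (iv5 D179983)) (tt N98452 F422885) (tt N90057 (iv7 F388438)))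
theorem Q82333 : ∀ i, i < 82333 → P i := stepQ 82332 Q82332 (allL N82332 (tt N74849 F339770) (tt N72736 F334454) (tt N75912 F280335) (tt N80464 (iv3 F334465)) (tt N63408 F334455) (tt N75855 F280336) (tt N48238 (iv6 D179985)) (tt N63405 (iv7 F333598)))
theorem Q82334 : ∀ i, i < 82334 → P i := stepQ 82333 Q82333 (allL N82333 (tt N76077 F280339) (tt N76079 F280340) (tt N101011 (iv2 F431257)) (tt N48241 F280337) (tt N75587 F280342) (tt N48239 (iv5 D179986)) (tt N63409 (iv6 F309792)) (tt N75905 F280338))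
theorem Q82335 : ∀ i, i < 82335 → P i := stepQ 82334 Q82334 (allL N82334 (tt N76082 F280360) (tt N76085 F280361) (tt N90057 F388440) (tt N64661 F366792) (tt N98718 (iv4 F421993)) (tt N48240 (iv5 D179989)) (tt N90083 F388521) (tt N75909 F280359))
theorem Q82336 : ∀ i, i < 82336 → P i := stepQ 82335 Q82335 (allL N82335 (tt N61418 (iv1 F338611)) (tt N62815 (iv0 F360654)) (tt N73407 F355397) (tt N69511 (iv3 F360653)) (tt N48243 F280365) (tt N98316 F420473) (tt N48242 (iv6 D179992)) (tt N61451 F355396))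
theorem Q82337 : ∀ i, i < 82337 → P i := stepQ 82336 Q82336 (allL N82336 (tt N73322 (iv1 F315936)) (tt N73405 (iv0 F318139)) (tt N62395 (iv2 F333651)) (tt N48245 F280366) (tt N61451 (iv4 F333652)) (tt N65382 F280367) (tt N61449 F333650) (tt N48243 (iv7 D179993)))
theorem Q82338 : ∀ i, i < 82338 → P i := stepQ 82337 Q82337 (allL N82337 (tt N74976 F355128) (tt N73396 (iv0 F355131)) (tt N74975 (iv2 F365229)) (tt N48244 (iv3 D179994)) (tt N77444 (iv4 F280373)) (tt N67078 F280370) (tt N49045 F310600) (tt N74974 (iv7 F330056)))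
theorem Q82339 : ∀ i, i < 82339 → P i := stepQ 82338 Q82338 (allL N82338 (tt N64145 F347488) (tt N78561 (iv0 F347495)) (tt N78562 F347501) (tt N48246 (iv3 D179996)) (tt N79739 F280376) (tt N78555 (iv5 F347489)) (tt N101725 (iv6 F434048)) (tt N48278 F324624))
theorem Q82340 : ∀ i, i < 82340 → P i := stepQ 82339 Q82339 (allL N82339 (tt N80703 F348564) (tt N80702 F347486) (tt N48281 F324625) (tt N55421 (iv3 F348568)) (tt N48246 (iv4 D179997)) (tt N55420 F348565) (tt N101726 (iv6 F434055)) (tt N48279 F324626))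
theorem Q82341 : ∀ i, i < 82341 → P i := stepQ 82340 Q82340 (allL N82340 (tt N73116 (iv1 F324358)) (tt N48446 F302799) (tt N72237 F363378) (tt N90356 (iv3 F389409)) (tt N48248 (iv4 D180009)) (tt N112807 D216058) (tt N73136 F366152) (tt N62237 (iv7 F322678)))
theorem Q82342 : ∀ i, i < 82342 → P i := stepQ 82341 Q82341 (allL N82341 (tt N48249 (iv1 D180012)) (tt N48458 F303937) (tt N72217 (iv2 F312854)) (tt N112808 D216059) (tt N74667 (iv4 F324154)) (tt N111990 (iv5 F478985)) (tt N72993 F359817) (tt N62196 (iv7 F324148)))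
theorem Q82343 : ∀ i, i < 82343 → P i := stepQ 82342 Q82342 (allL N82342 (tt N112382 (iv1 F480838)) (tt N105878 (iv0 F452145)) (tt N60447 F361372) (tt N48250 (iv3 D180022)) (tt N97855 (iv4 F418525)) (tt N91980 F395219) (tt N60445 (iv6 F361371)) (tt N80499 F280404))
theorem Q82344 : ∀ i, i < 82344 → P i := stepQ 82343 Q82343 (allL N82343 (tt N67987 (iv1 F354344)) (tt N80093 (iv0 F299599)) (tt N82547 (iv2 F365969)) (tt N91980 (iv3 F395215)) (tt N72985 (iv4 F359328)) (tt N48250 (iv5 D180023)) (tt N65745 F386116) (tt N80500 F280405))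
theorem Q82345 : ∀ i, i < 82345 → P i := stepQ 82344 Q82344 (allL N82344 (tt N65643 (iv1 F356016)) (tt N65635 (iv0 F355999)) (tt N65640 F355927) (tt N48251 (iv3 D180024)) (tt N80160 F299405) (tt N97604 (iv5 F417559)) (tt N97844 (iv6 F418479)) (tt N65641 (iv7 F356008)))
theorem Q82346 : ∀ i, i < 82346 → P i := stepQ 82345 Q82345 (allL N82345 (tt N80095 (iv1 F359324)) (tt N52838 (iv0 F347408)) (tt N64242 (iv2 F299805)) (tt N97604 (iv3 F417561)) (tt N112807 (iv4 F482699)) (tt N48251 (iv5 D180025)) (tt N97612 (iv6 F417599)) (tt N80151 (iv7 F299803)))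
theorem Q82347 : ∀ i, i < 82347 → P i := stepQ 82346 Q82346 (allL N82346 (tt N79686 (iv1 F354381)) (tt N48252 (iv0 D180033)) (tt N64238 F299708) (tt N112809 D216060) (tt N80091 F299709) (tt N48258 F280416) (tt N111596 (iv6 F477084)) (tt N51610 (iv7 F280417)))
theorem Q82348 : ∀ i, i < 82348 → P i := stepQ 82347 Q82347 (allL N82347 (tt N87905 (iv1 F381068)) (tt N87907 (iv0 F381080)) (tt N72218 (iv2 F358448)) (tt N101153 (iv3 F431964)) (tt N48252 (iv4 D180034)) (tt N48458 F302555) (tt N112810 D216061) (tt N101008 (iv7 F431243)))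
theorem Q82349 : ∀ i, i < 82349 → P i := stepQ 82348 Q82348 (allL N82348 (tt N94684 (iv1 F405518)) (tt N65580 F366141) (tt N66058 (iv2 F362997)) (tt N65574 F362995) (tt N112810 (iv4 F482718)) (tt N97456 (iv5 F416959)) (tt N48252 (iv6 D180035)) (tt N94838 (iv7 F406115)))
theorem Q82350 : ∀ i, i < 82350 → P i := stepQ 82349 Q82349 (allL N82349 (tt N65781 F360441) (tt N65888 (iv0 F333476)) (tt N66059 F366017) (tt N97451 F416954) (tt N65778 F360443) (tt N48253 (iv5 D180038)) (tt N97456 (iv6 F416960)) (tt N66062 F360444))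
theorem Q82351 : ∀ i, i < 82351 → P i := stepQ 82350 Q82350 (allL N82350 (tt N91524 (iv1 F393480)) (tt N91512 (iv0 F393431)) (tt N58892 F344921) (tt N48256 (iv3 D180111)) (tt N91829 (iv4 F394576)) (tt N78588 F342100) (tt N102849 F438932) (tt N80700 (iv7 F362444)))
theorem Q82352 : ∀ i, i < 82352 → P i := stepQ 82351 Q82351 (allL N82351 (tt N94981 (iv1 F406569)) (tt N94820 (iv0 F450229)) (tt N72917 (iv2 F351715)) (tt N94974 (iv3 F406553)) (tt N48256 (iv4 D180112)) (tt N89533 (iv5 F386720)) (tt N93466 F400859) (tt N88497 (iv7 F383282)))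
theorem Q82353 : ∀ i, i < 82353 → P i := stepQ 82352 Q82352 (allL N82352 (tt N67398 F362275) (tt N91948 (iv0 F395087)) (tt N108958 (iv2 F464663)) (tt N48258 (iv3 D180123)) (tt N80129 F299705) (tt N112809 (iv5 F482711)) (tt N82532 F299706) (tt N51609 F280494))
theorem Q82354 : ∀ i, i < 82354 → P i := stepQ 82353 Q82353 (allL N82353 (tt N99326 (iv1 F424112)) (tt N101129 F431832) (tt N80551 F359331) (tt N82359 (iv3 F359334)) (tt N48259 (iv4 D180131)) (tt N80089 F347417) (tt N112811 D216062) (tt N88504 (iv7 F383309)))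
theorem Q82355 : ∀ i, i < 82355 → P i := stepQ 82354 Q82354 (allL N82354 (tt N111865 F478388) (tt N112474 (iv0 F481230)) (tt N79744 F359332) (tt N88509 (iv3 F383322)) (tt N112811 (iv4 F482725)) (tt N70802 (iv5 F359333)) (tt N48259 (iv6 D180132)) (tt N67442 F347416))
theorem Q82356 : ∀ i, i < 82356 → P i := stepQ 82355 Q82355 (allL N82355 (tt N65911 (iv1 F333464)) (tt N48260 (iv0 D180133)) (tt N65889 (iv2 F333466)) (tt N65705 F333468) (tt N79709 F333465) (tt N105763 (iv5 F451586)) (tt N65704 (iv6 F333467)) (tt N97671 (iv7 F417866)))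
theorem Q82357 : ∀ i, i < 82357 → P i := stepQ 82356 Q82356 (allL N82356 (tt N58730 F333473) (tt N58731 F362616) (tt N59950 (iv2 F366013)) (tt N59538 (iv3 F358651)) (tt N48261 (iv4 D180163)) (tt N112812 D216063) (tt N48348 F280518) (tt N95111 (iv7 F407093)))
theorem Q82358 : ∀ i, i < 82358 → P i := stepQ 82357 Q82357 (allL N82357 (tt N93375 F400576) (tt N108670 F463475) (tt N108669 (iv2 F463471)) (tt N48262 (iv3 D180166)) (tt N100538 (iv4 F429387)) (tt N62191 F363321) (tt N48329 F280521) (tt N101870 (iv7 F434756)))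
theorem Q82359 : ∀ i, i < 82359 → P i := stepQ 82358 Q82358 (allL N82358 (tt N52832 (iv1 F358718)) (tt N48264 (iv0 D180168)) (tt N82511 F358731) (tt N112813 D216064) (tt N90506 (iv4 F389877)) (tt N72863 F358732) (tt N48330 F358733) (tt N101871 (iv7 F434762)))
theorem Q82360 : ∀ i, i < 82360 → P i := stepQ 82359 Q82359 (allL N82359 (tt N82511 F355395) (tt N101871 F434761) (tt N48264 (iv2 D180170)) (tt N82353 F359334) (tt N48268 F280524) (tt N111828 (iv5 F478182)) (tt N101518 (iv6 F433230)) (tt N52832 (iv7 F358717)))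
theorem Q82361 : ∀ i, i < 82361 → P i := stepQ 82360 Q82360 (allL N82360 (tt N112814 D216065) (tt N53655 (iv0 F358734)) (tt N111828 (iv2 F478180)) (tt N48265 F280525) (tt N53619 (iv4 F384761)) (tt N48264 (iv5 D180171)) (tt N93368 (iv6 F400546)) (tt N101872 (iv7 F434766)))
theorem Q82362 : ∀ i, i < 82362 → P i := stepQ 82361 Q82361 (allL N82361 (tt N108674 (iv1 F463490)) (tt N110133 (iv0 F470115)) (tt N82522 F328389) (tt N94722 (iv3 F405669)) (tt N48266 (iv4 D180178)) (tt N94985 (iv5 F406571)) (tt N48339 F328390) (tt N81011 (iv7 F365500)))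
theorem Q82363 : ∀ i, i < 82363 → P i := stepQ 82362 Q82362 (allL N82362 (tt N87027 (iv1 F378089)) (tt N55524 (iv0 F362436)) (tt N82376 F348556) (tt N48267 (iv3 D180182)) (tt N82369 (iv4 F280583)) (tt N82375 F344927) (tt N80784 (iv6 F361254)) (tt N82519 F348552))
theorem Q82364 : ∀ i, i < 82364 → P i := stepQ 82363 Q82363 (allL N82363 (tt N110133 (iv1 F470116)) (tt N108674 (iv0 F463489)) (tt N81011 (iv2 F365498)) (tt N111991 (iv3 F478991)) (tt N48267 (iv4 D180183)) (tt N112815 D216066) (tt N80785 F365497) (tt N82522 (iv7 F365499)))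
theorem Q82365 : ∀ i, i < 82365 → P i := stepQ 82364 Q82364 (allL N82364 (tt N76109 (iv1 F353881)) (tt N76521 F353888) (tt N80667 F353887) (tt N48273 (iv3 D180218)) (tt N89394 F386354) (tt N65400 F280552) (tt N102791 (iv6 F438667)) (tt N79406 (iv7 F318544)))
theorem Q82366 : ∀ i, i < 82366 → P i := stepQ 82365 Q82365 (allL N82365 (tt N78562 F346960) (tt N48278 F347500) (tt N78561 F347499) (tt N48274 (iv3 D180231)) (tt N102162 (iv4 F435982)) (tt N81516 (iv5 F346961)) (tt N101080 (iv6 F431574)) (tt N64145 F346963))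
theorem Q82367 : ∀ i, i < 82367 → P i := stepQ 82366 Q82366 (allL N82366 (tt N48278 (iv1 D180253)) (tt N78562 (iv0 F345777)) (tt N64145 F345772) (tt N90506 (iv3 F389874)) (tt N97638 (iv4 F417723)) (tt N80774 F345773) (tt N48361 F345774) (tt N78561 (iv7 F347498)))
theorem Q82368 : ∀ i, i < 82368 → P i := stepQ 82367 Q82367 (allL N82367 (tt N79741 F280578) (tt N79735 (iv0 F280579)) (tt N67416 F341629) (tt N87725 (iv3 F380265)) (tt N48278 (iv4 D180255)) (tt N103269 (iv5 F440896)) (tt N67411 F355012) (tt N79739 (iv7 F358322)))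
theorem Q82369 : ∀ i, i < 82369 → P i := stepQ 82368 Q82368 (allL N82368 (tt N68509 (iv1 F355017)) (tt N89745 (iv0 F387396)) (tt N67415 F355014) (tt N48280 F280581) (tt N67411 (iv4 F355013)) (tt N63694 F355015) (tt N48278 (iv6 D180257)) (tt N81512 (iv7 F355016)))
theorem Q82370 : ∀ i, i < 82370 → P i := stepQ 82369 Q82369 (allL N82369 (tt N48281 (iv1 F280588)) (tt N48279 (iv0 D180259)) (tt N80702 (iv2 F348557)) (tt N87805 (iv3 F380583)) (tt N82362 F280583) (tt N112383 (iv5 F480842)) (tt N96882 (iv6 F414425)) (tt N80703 (iv7 F348559)))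
theorem Q82371 : ∀ i, i < 82371 → P i := stepQ 82370 Q82370 (allL N82370 (tt N48279 (iv1 D180260)) (tt N48281 F280584) (tt N80703 F348579) (tt N87756 F380389) (tt N91941 (iv4 F395049)) (tt N87875 F380932) (tt N48366 F348580) (tt N80702 F348558))
theorem Q82372 : ∀ i, i < 82372 → P i := stepQ 82371 Q82371 (allL N82371 (tt N96915 F414593) (tt N58638 (iv0 F355021)) (tt N77590 F366126) (tt N87726 (iv3 F380267)) (tt N48280 F280585) (tt N112816 D216067) (tt N48279 (iv6 D180263)) (tt N82119 F366125))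
theorem Q82373 : ∀ i, i < 82373 → P i := stepQ 82372 Q82372 (allL N82372 (tt N65310 (iv1 F345379)) (tt N48280 (iv0 D180270)) (tt N77588 F345369) (tt N76727 F345370) (tt N91995 (iv4 F395299)) (tt N76726 F345359) (tt N48385 F345361) (tt N77589 (iv7 F345371)))
theorem Q82374 : ∀ i, i < 82374 → P i := stepQ 82373 Q82373 (allL N82373 (tt N84570 F369731) (tt N80129 (iv0 F347475)) (tt N51637 F347476) (tt N48281 (iv3 D180281)) (tt N67339 F347471) (tt N50876 (iv5 F347473)) (tt N67348 (iv6 F347469)) (tt N51640 (iv7 F347480)))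
theorem Q82375 : ∀ i, i < 82375 → P i := stepQ 82374 Q82374 (allL N82374 (tt N55522 (iv1 F348573)) (tt N55107 F348571) (tt N55420 (iv2 F348567)) (tt N50876 F347477) (tt N55420 (iv4 F348570)) (tt N48281 (iv5 D180282)) (tt N112817 D216068) (tt N51639 F348574))
theorem Q82376 : ∀ i, i < 82376 → P i := stepQ 82375 Q82375 (allL N82375 (tt N81337 (iv1 F348586)) (tt N81333 F348587) (tt N48284 F280600) (tt N67955 (iv3 F344930)) (tt N48282 (iv4 D180290)) (tt N82362 (iv5 F344927)) (tt N80942 F344926) (tt N81202 (iv7 F344924)))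
theorem Q82377 : ∀ i, i < 82377 → P i := stepQ 82376 Q82376 (allL N82376 (tt N55436 (iv1 F335309)) (tt N78589 (iv0 F332000)) (tt N82362 (iv2 F348556)) (tt N74251 (iv3 F335285)) (tt N80702 (iv4 F347483)) (tt N48284 (iv5 D180303)) (tt N96883 (iv6 F414432)) (tt N91941 (iv7 F395047)))
theorem Q82378 : ∀ i, i < 82378 → P i := stepQ 82377 Q82377 (allL N82377 (tt N60468 (iv1 F327652)) (tt N48287 (iv0 D180328)) (tt N67488 F358313) (tt N111073 (iv3 F474535)) (tt N67220 F358300) (tt N87912 F400119) (tt N97664 (iv6 F417842)) (tt N67485 (iv7 F358312)))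
theorem Q82379 : ∀ i, i < 82379 → P i := stepQ 82378 Q82378 (allL N82378 (tt N48287 (iv1 D180329)) (tt N60468 (iv0 F327651)) (tt N67485 (iv2 F358314)) (tt N101883 F434806) (tt N67219 (iv4 F358307)) (tt N87913 F381095) (tt N60443 F377923) (tt N67488 (iv7 F358309)))
theorem Q82380 : ∀ i, i < 82380 → P i := stepQ 82379 Q82379 (allL N82379 (tt N102005 (iv1 F435327)) (tt N97574 (iv0 F417428)) (tt N56545 F362856) (tt N48288 F280630) (tt N102488 (iv4 F437414)) (tt N48287 (iv5 D180331)) (tt N56543 (iv6 F362857)) (tt N78397 F280631))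
theorem Q82381 : ∀ i, i < 82381 → P i := stepQ 82380 Q82380 (allL N82380 (tt N48289 (iv1 D180337)) (tt N82758 F283869) (tt N82756 F359043) (tt N97781 (iv3 F418286)) (tt N111060 (iv4 F474467)) (tt N87851 F380844) (tt N97845 (iv6 F418484)) (tt N82757 F359041))
theorem Q82382 : ∀ i, i < 82382 → P i := stepQ 82381 Q82381 (allL N82381 (tt N82757 (iv1 F283868)) (tt N82756 F283863) (tt N48289 (iv2 D180338)) (tt N80067 F280641) (tt N78523 F280642) (tt N83012 F359010) (tt N108962 F464688) (tt N82758 (iv7 F283866)))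
theorem Q82383 : ∀ i, i < 82383 → P i := stepQ 82382 Q82382 (allL N82382 (tt N93970 F402659) (tt N103454 F441710) (tt N108962 (iv2 F464689)) (tt N48290 F280645) (tt N78524 F280646) (tt N60957 (iv5 F347553)) (tt N48289 (iv6 D180340)) (tt N79675 (iv7 F366963)))
theorem Q82384 : ∀ i, i < 82384 → P i := stepQ 82383 Q82383 (allL N82383 (tt N80067 (iv1 F280651)) (tt N48291 (iv0 D180343)) (tt N80066 (iv2 F373724)) (tt N67493 (iv3 F362863)) (tt N80081 (iv4 F280652)) (tt N87787 (iv5 F380496)) (tt N101712 (iv6 F434001)) (tt N80065 F373727))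
theorem Q82385 : ∀ i, i < 82385 → P i := stepQ 82384 Q82384 (allL N82384 (tt N48291 (iv1 D180344)) (tt N80067 F280657) (tt N80065 F373726) (tt N97048 (iv3 F415210)) (tt N80071 (iv4 F280653)) (tt N87788 (iv5 F380503)) (tt N97047 F415211) (tt N80066 (iv7 F373725)))
theorem Q82386 : ∀ i, i < 82386 → P i := stepQ 82385 Q82385 (allL N82385 (tt N97048 F415209) (tt N97518 F417225) (tt N92051 (iv2 F395552)) (tt N48293 (iv3 D180350)) (tt N79632 F280665) (tt N102896 (iv5 F439166)) (tt N67376 F362190) (tt N92014 (iv7 F395364)))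
theorem Q82387 : ∀ i, i < 82387 → P i := stepQ 82386 Q82386 (allL N82386 (tt N78401 F280667) (tt N65426 F280668) (tt N78403 F280666) (tt N102896 (iv3 F439164)) (tt N88678 (iv4 F383853)) (tt N48293 (iv5 D180351)) (tt N88752 (iv6 F384050)) (tt N78402 (iv7 F280674)))
theorem Q82388 : ∀ i, i < 82388 → P i := stepQ 82387 Q82387 (allL N82387 (tt N49195 F334374) (tt N79682 F334375) (tt N79681 (iv2 F334345)) (tt N65504 F334360) (tt N60002 (iv4 F334368)) (tt N88325 (iv5 F382598)) (tt N48294 (iv6 D180355)) (tt N65605 (iv7 F334373)))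
theorem Q82389 : ∀ i, i < 82389 → P i := stepQ 82388 Q82388 (allL N82388 (tt N87683 (iv1 F380138)) (tt N87682 F380144) (tt N87685 (iv2 F380141)) (tt N48297 F280676) (tt N84030 (iv4 F367862)) (tt N101715 (iv5 F434013)) (tt N48296 (iv6 D180358)) (tt N84027 (iv7 F367857)))
theorem Q82390 : ∀ i, i < 82390 → P i := stepQ 82389 Q82389 (allL N82389 (tt N86925 (iv1 F377730)) (tt N48297 (iv0 D180359)) (tt N86922 F377723) (tt N68729 (iv3 F359032)) (tt N82995 F358614) (tt N68728 F359031) (tt N112818 D216069) (tt N86923 (iv7 F377720)))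
theorem Q82391 : ∀ i, i < 82391 → P i := stepQ 82390 Q82390 (allL N82390 (tt N48297 (iv1 D180360)) (tt N86925 F377729) (tt N86923 (iv2 F377718)) (tt N109925 (iv3 F469252)) (tt N82996 (iv4 F369419)) (tt N68785 (iv5 F341760)) (tt N77301 F369420) (tt N86922 F377724))
theorem Q82392 : ∀ i, i < 82392 → P i := stepQ 82391 Q82391 (allL N82391 (tt N86923 (iv1 F377711)) (tt N86922 F377725) (tt N86925 (iv2 F377726)) (tt N84027 (iv3 F367855)) (tt N83017 (iv4 F366990)) (tt N101718 (iv5 F434022)) (tt N84026 F367851) (tt N48297 (iv7 D180361)))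
theorem Q82393 : ∀ i, i < 82393 → P i := stepQ 82392 Q82392 (allL N82392 (tt N48302 (iv1 F280681)) (tt N48299 (iv0 D180363)) (tt N101883 (iv2 F434808)) (tt N111072 (iv3 F474531)) (tt N50704 F280680) (tt N52992 F354673) (tt N88771 (iv6 F384093)) (tt N79877 (iv7 F280683)))
theorem Q82394 : ∀ i, i < 82394 → P i := stepQ 82393 Q82393 (allL N82393 (tt N48299 (iv1 D180364)) (tt N48302 F280684) (tt N79877 F280686) (tt N67488 (iv3 F341795)) (tt N64257 (iv4 F280685)) (tt N111010 (iv5 F474230)) (tt N101734 (iv6 F434093)) (tt N101883 (iv7 F434803)))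
theorem Q82395 : ∀ i, i < 82395 → P i := stepQ 82394 Q82394 (allL N82394 (tt N55625 F334352) (tt N100671 (iv0 F429946)) (tt N104795 F447311) (tt N48299 (iv3 D180365)) (tt N79785 F280687) (tt N68800 F358976) (tt N103321 (iv6 F441131)) (tt N68799 (iv7 F358975)))
theorem Q82396 : ∀ i, i < 82396 → P i := stepQ 82395 Q82395 (allL N82395 (tt N90423 (iv1 F389598)) (tt N112819 D216070) (tt N101884 (iv2 F434809)) (tt N68800 (iv3 F358977)) (tt N90420 F389585) (tt N48299 (iv5 D180366)) (tt N103364 (iv6 F441289)) (tt N68793 F358980))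
theorem Q82397 : ∀ i, i < 82397 → P i := stepQ 82396 Q82396 (allL N82396 (tt N64118 (iv1 F280695)) (tt N79712 F280694) (tt N48301 (iv2 D180372)) (tt N58821 (iv3 F327251)) (tt N79820 (iv4 F280696)) (tt N58820 (iv5 F327247)) (tt N79779 (iv6 F342070)) (tt N79711 F280693))
theorem Q82398 : ∀ i, i < 82398 → P i := stepQ 82397 Q82397 (allL N82397 (tt N48383 F280700) (tt N48370 F280701) (tt N79820 F280698) (tt N97761 (iv3 F418203)) (tt N48301 (iv4 D180373)) (tt N101898 (iv5 F434864)) (tt N105717 F451396) (tt N79819 F280699))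
theorem Q82399 : ∀ i, i < 82399 → P i := stepQ 82398 Q82398 (allL N82398 (tt N80281 (iv1 F362660)) (tt N80068 (iv0 F362659)) (tt N79779 (iv2 F362658)) (tt N48303 F280702) (tt N105717 (iv4 F451393)) (tt N66395 F362657) (tt N48301 (iv6 D180374)) (tt N80282 F334666))
theorem Q82400 : ∀ i, i < 82400 → P i := stepQ 82399 Q82399 (allL N82399 (tt N86944 (iv1 F377798)) (tt N52249 (iv0 F280703)) (tt N86943 F380470) (tt N48302 (iv3 D180375)) (tt N97761 (iv4 F418202)) (tt N112820 D216071) (tt N82570 F364523) (tt N86942 F377795))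
theorem Q82401 : ∀ i, i < 82401 → P i := stepQ 82400 Q82400 (allL N82400 (tt N112819 (iv1 F482771)) (tt N90423 (iv0 F389597)) (tt N68793 F358982) (tt N112820 (iv3 F482779)) (tt N90419 (iv4 F389579)) (tt N48302 (iv5 D180376)) (tt N68790 (iv6 F358983)) (tt N101884 (iv7 F434812)))
theorem Q82402 : ∀ i, i < 82402 → P i := stepQ 82401 Q82401 (allL N82401 (tt N105876 F452135) (tt N112821 D216072) (tt N80287 F358985) (tt N82570 (iv3 F334648)) (tt N48303 F280704) (tt N111868 (iv5 F478402)) (tt N48302 (iv6 D180377)) (tt N103323 (iv7 F441139)))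
theorem Q82403 : ∀ i, i < 82403 → P i := stepQ 82402 Q82402 (allL N82402 (tt N78450 (iv1 F280706)) (tt N48304 (iv0 D180382)) (tt N78449 (iv2 F280826)) (tt N78235 (iv3 F410626)) (tt N112822 D216073) (tt N111019 F474289) (tt N112823 D216074) (tt N78448 F280827))
theorem Q82404 : ∀ i, i < 82404 → P i := stepQ 82403 Q82403 (allL N82403 (tt N48304 (iv1 D180383)) (tt N78450 F280712) (tt N78448 F280825) (tt N78468 (iv3 F280707)) (tt N79641 (iv4 F280708)) (tt N111020 F474293) (tt N87025 (iv6 F378073)) (tt N78449 (iv7 F280824)))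
theorem Q82405 : ∀ i, i < 82405 → P i := stepQ 82404 Q82404 (allL N82404 (tt N78449 (iv1 F280713)) (tt N78448 F280711) (tt N48304 (iv2 D180384)) (tt N78438 F280709) (tt N111444 (iv4 F476396)) (tt N85259 F376981) (tt N92881 F398625) (tt N78450 F280710))
theorem Q82406 : ∀ i, i < 82406 → P i := stepQ 82405 Q82405 (allL N82405 (tt N80577 F401162) (tt N80580 (iv0 F354683)) (tt N85259 (iv2 F376979)) (tt N48305 F280714) (tt N84836 (iv4 F370800)) (tt N48304 (iv5 D180385)) (tt N112824 D216075) (tt N78451 F280715))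
theorem Q82407 : ∀ i, i < 82407 → P i := stepQ 82406 Q82406 (allL N82406 (tt N65496 F364146) (tt N92880 F398623) (tt N92881 (iv2 F398630)) (tt N48306 F280716) (tt N111446 (iv4 F476404)) (tt N78224 F404388) (tt N48304 (iv6 D180386)) (tt N92882 (iv7 F398632)))
theorem Q82408 : ∀ i, i < 82408 → P i := stepQ 82407 Q82407 (allL N82407 (tt N70144 F363355) (tt N93352 F400498) (tt N78441 F280717) (tt N112824 (iv3 F482803)) (tt N82412 (iv4 F280734)) (tt N95071 (iv5 F406951)) (tt N48305 (iv6 D180387)) (tt N93350 F406221))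
theorem Q82409 : ∀ i, i < 82409 → P i := stepQ 82408 Q82408 (allL N82408 (tt N95730 (iv1 F409351)) (tt N95728 (iv0 F409345)) (tt N78444 F280723) (tt N78224 (iv3 F404389)) (tt N112825 D216076) (tt N48306 (iv5 D180389)) (tt N95071 (iv6 F406950)) (tt N100742 (iv7 F430255)))
theorem Q82410 : ∀ i, i < 82410 → P i := stepQ 82409 Q82409 (allL N82409 (tt N56807 (iv1 F337386)) (tt N48307 (iv0 D180390)) (tt N78453 F363805) (tt N70518 F363802) (tt N94424 F404429) (tt N82867 (iv5 F363803)) (tt N96521 F412836) (tt N78452 (iv7 F363804)))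
theorem Q82411 : ∀ i, i < 82411 → P i := stepQ 82410 Q82410 (allL N82410 (tt N48307 (iv1 D180391)) (tt N56807 (iv0 F337385)) (tt N78452 (iv2 F363806)) (tt N112826 D216077) (tt N94423 (iv4 F404423)) (tt N108168 F461374) (tt N96306 F411941) (tt N78453 F363807))
theorem Q82412 : ∀ i, i < 82412 → P i := stepQ 82411 Q82411 (allL N82411 (tt N61322 F370803) (tt N93557 F401129) (tt N95201 (iv2 F407387)) (tt N48308 F280730) (tt N61319 F365247) (tt N48307 (iv5 D180393)) (tt N112827 D216078) (tt N78454 F280731))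
theorem Q82413 : ∀ i, i < 82413 → P i := stepQ 82412 Q82412 (allL N82412 (tt N57946 F363336) (tt N58329 F363337) (tt N58327 (iv2 F363339)) (tt N112827 (iv3 F482817)) (tt N82407 F280734) (tt N101536 (iv5 F433284)) (tt N48308 (iv6 D180395)) (tt N58326 F363346))
theorem Q82414 : ∀ i, i < 82414 → P i := stepQ 82413 Q82413 (allL N82413 (tt N56818 F358804) (tt N56817 (iv0 F345392)) (tt N56357 (iv2 F337382)) (tt N56804 F337406) (tt N77863 F337394) (tt N48310 (iv5 D180403)) (tt N107716 (iv6 F459365)) (tt N56819 F358805))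
theorem Q82415 : ∀ i, i < 82415 → P i := stepQ 82414 Q82414 (allL N82414 (tt N96482 F412701) (tt N102016 (iv0 F435357)) (tt N102017 F435359) (tt N48311 (iv3 D180404)) (tt N79359 F280772) (tt N95197 (iv5 F407371)) (tt N101545 (iv6 F433331)) (tt N78455 F280773))
theorem Q82416 : ∀ i, i < 82416 → P i := stepQ 82415 Q82415 (allL N82415 (tt N53812 (iv1 F345210)) (tt N48399 F280776) (tt N78459 F280774) (tt N95197 F407370) (tt N53805 F354680) (tt N48311 (iv5 D180405)) (tt N112828 D216079) (tt N78456 F280775))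
theorem Q82417 : ∀ i, i < 82417 → P i := stepQ 82416 Q82416 (allL N82416 (tt N78462 F280780) (tt N78461 F280781) (tt N48313 F280778) (tt N108144 F461300) (tt N112829 D216080) (tt N48312 (iv5 D180407)) (tt N112830 D216081) (tt N78460 F280779))
theorem Q82418 : ∀ i, i < 82418 → P i := stepQ 82417 Q82417 (allL N82417 (tt N107897 (iv1 F460168)) (tt N101155 F431975) (tt N48314 F280782) (tt N107898 (iv3 F460173)) (tt N48324 F280783) (tt N96671 (iv5 F413378)) (tt N48312 (iv6 D180408)) (tt N97075 (iv7 F415349)))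
theorem Q82419 : ∀ i, i < 82419 → P i := stepQ 82418 Q82418 (allL N82418 (tt N78460 (iv1 F280785)) (tt N48313 (iv0 D180409)) (tt N78462 (iv2 F280786)) (tt N110891 (iv3 F473636)) (tt N73220 F350352) (tt N48330 F280784) (tt N72862 (iv6 F350366)) (tt N78461 (iv7 F280787)))
theorem Q82420 : ∀ i, i < 82420 → P i := stepQ 82419 Q82419 (allL N82419 (tt N48313 (iv1 D180410)) (tt N78460 F280788) (tt N78461 (iv2 F280791)) (tt N82865 (iv3 F338453)) (tt N112831 D216082) (tt N48331 F280790) (tt N58246 (iv6 F370873)) (tt N78462 F280789))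
theorem Q82421 : ∀ i, i < 82421 → P i := stepQ 82420 Q82420 (allL N82420 (tt N87666 (iv1 F380037)) (tt N87669 (iv0 F380051)) (tt N112829 (iv2 F482827)) (tt N101259 (iv3 F432433)) (tt N48313 (iv4 D180411)) (tt N71638 (iv5 F345434)) (tt N54523 F345433) (tt N54036 (iv7 F345254)))
theorem Q82422 : ∀ i, i < 82422 → P i := stepQ 82421 Q82421 (allL N82421 (tt N91697 F394081) (tt N112832 D216083) (tt N112830 (iv2 F482834)) (tt N48315 F280793) (tt N54523 (iv4 F345432)) (tt N96400 (iv5 F412343)) (tt N48313 (iv6 D180412)) (tt N96707 (iv7 F413546)))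
theorem Q82423 : ∀ i, i < 82423 → P i := stepQ 82422 Q82422 (allL N82422 (tt N97075 F415352) (tt N48314 (iv0 D180413)) (tt N107897 (iv2 F460172)) (tt N81730 (iv3 F351543)) (tt N106825 (iv4 F455854)) (tt N112833 D216084) (tt N81728 F351542) (tt N101155 (iv7 F431978)))
theorem Q82424 : ∀ i, i < 82424 → P i := stepQ 82423 Q82423 (allL N82423 (tt N48314 (iv1 D180414)) (tt N97075 (iv0 F415351)) (tt N101155 (iv2 F431972)) (tt N96489 (iv3 F412735)) (tt N95756 (iv4 F409484)) (tt N86069 (iv5 F386929)) (tt N89602 (iv6 F386928)) (tt N107897 (iv7 F460169)))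
theorem Q82425 : ∀ i, i < 82425 → P i := stepQ 82424 Q82424 (allL N82424 (tt N96398 F412339) (tt N48315 (iv0 D180418)) (tt N96711 (iv2 F413568)) (tt N76231 (iv3 F360003)) (tt N112834 D216085) (tt N64863 F345425) (tt N58282 F351230) (tt N96710 (iv7 F413564)))
theorem Q82426 : ∀ i, i < 82426 → P i := stepQ 82425 Q82425 (allL N82425 (tt N112823 (iv1 F482802)) (tt N86121 (iv0 F380622)) (tt N59468 (iv2 F359302)) (tt N48317 (iv3 D180431)) (tt N58481 (iv4 F366011)) (tt N96554 (iv5 F412962)) (tt N101007 (iv6 F431237)) (tt N96852 (iv7 F414261)))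
theorem Q82427 : ∀ i, i < 82427 → P i := stepQ 82426 Q82426 (allL N82426 (tt N48322 (iv1 F280815)) (tt N48319 (iv0 D180436)) (tt N78468 (iv2 F280816)) (tt N78236 F380705) (tt N48378 F280814) (tt N89731 F387344) (tt N94539 (iv6 F404880)) (tt N78467 (iv7 F280817)))
theorem Q82428 : ∀ i, i < 82428 → P i := stepQ 82427 Q82427 (allL N82427 (tt N48319 (iv1 D180437)) (tt N48322 F280818) (tt N78467 F280821) (tt N78449 F280822) (tt N79761 (iv4 F280820)) (tt N112015 (iv5 F479084)) (tt N59414 (iv6 F409675)) (tt N78468 F280819))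
theorem Q82429 : ∀ i, i < 82429 → P i := stepQ 82428 Q82428 (allL N82428 (tt N54064 (iv1 F354719)) (tt N89817 F387625) (tt N78476 F280830) (tt N58220 F362335) (tt N54061 F362334) (tt N48319 (iv5 D180439)) (tt N112835 D216086) (tt N78469 F280831))
theorem Q82430 : ∀ i, i < 82430 → P i := stepQ 82429 Q82429 (allL N82429 (tt N64132 (iv1 F280845)) (tt N78472 F280844) (tt N48321 (iv2 D180445)) (tt N58766 (iv3 F325960)) (tt N59730 (iv4 F327411)) (tt N79711 F280842) (tt N100135 (iv6 F427627)) (tt N58820 (iv7 F327248)))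
theorem Q82431 : ∀ i, i < 82431 → P i := stepQ 82430 Q82430 (allL N82430 (tt N50705 F280849) (tt N50702 F280850) (tt N59730 (iv2 F327410)) (tt N111077 (iv3 F474551)) (tt N48321 (iv4 D180446)) (tt N111139 (iv5 F474883)) (tt N109804 (iv6 F468700)) (tt N78473 F280848))
theorem Q82432 : ∀ i, i < 82432 → P i := stepQ 82431 Q82431 (allL N82431 (tt N111539 (iv1 F476815)) (tt N54841 (iv0 F280853)) (tt N59448 F365756) (tt N48322 (iv3 D180448)) (tt N111077 (iv4 F474552)) (tt N112836 D216087) (tt N93463 (iv6 F400800)) (tt N78475 F280852))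
theorem Q82433 : ∀ i, i < 82433 → P i := stepQ 82432 Q82432 (allL N82432 (tt N89817 (iv1 F387626)) (tt N54064 (iv0 F354718)) (tt N78469 F280854) (tt N112836 (iv3 F482870)) (tt N54060 (iv4 F362339)) (tt N48322 (iv5 D180449)) (tt N112837 D216088) (tt N78476 F280855))
theorem Q82434 : ∀ i, i < 82434 → P i := stepQ 82433 Q82433 (allL N82433 (tt N59414 (iv1 F360702)) (tt N59413 F360701) (tt N58784 (iv2 F360698)) (tt N59421 F360699) (tt N48325 (iv4 D180462)) (tt N86194 F375342) (tt N88497 (iv6 F383281)) (tt N59415 F360700))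
theorem Q82435 : ∀ i, i < 82435 → P i := stepQ 82434 Q82434 (allL N82434 (tt N79663 (iv1 F352001)) (tt N64134 (iv0 F336621)) (tt N48326 (iv2 D180467)) (tt N79558 F280868) (tt N87024 (iv4 F378070)) (tt N77715 F350213) (tt N64101 F280869) (tt N79661 (iv7 F351997)))
theorem Q82436 : ∀ i, i < 82436 → P i := stepQ 82435 Q82435 (allL N82435 (tt N79689 F409657) (tt N112657 (iv0 F482039)) (tt N65629 F358203) (tt N58846 (iv3 F323184)) (tt N48327 (iv4 D180475)) (tt N102293 (iv5 F436596)) (tt N80038 (iv6 F366192)) (tt N79545 F280898))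
theorem Q82437 : ∀ i, i < 82437 → P i := stepQ 82436 Q82436 (allL N82436 (tt N66233 F348159) (tt N60372 (iv0 F348172)) (tt N97372 (iv2 F416570)) (tt N48328 F280899) (tt N83195 F348158) (tt N48327 (iv5 D180476)) (tt N77703 (iv6 F358790)) (tt N63783 (iv7 F318578)))
theorem Q82438 : ∀ i, i < 82438 → P i := stepQ 82437 Q82437 (allL N82437 (tt N58224 (iv1 F327468)) (tt N48329 (iv0 D180480)) (tt N82509 (iv2 F363335)) (tt N112838 D216089) (tt N112839 D216090) (tt N93900 (iv5 F402344)) (tt N93846 (iv6 F402124)) (tt N57939 F363334))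
theorem Q82439 : ∀ i, i < 82439 → P i := stepQ 82438 Q82438 (allL N82438 (tt N48329 (iv1 D180481)) (tt N58224 (iv0 F327467)) (tt N57939 F363331) (tt N112840 D216091) (tt N111354 (iv4 F475975)) (tt N61208 (iv5 F363330)) (tt N57935 F363332) (tt N82509 (iv7 F363333)))
theorem Q82440 : ∀ i, i < 82440 → P i := stepQ 82439 Q82439 (allL N82439 (tt N82509 (iv1 F281406)) (tt N57939 (iv0 F356728)) (tt N48329 (iv2 D180482)) (tt N57914 (iv3 F326222)) (tt N96338 (iv4 F412119)) (tt N108167 (iv5 F461371)) (tt N108669 (iv6 F463472)) (tt N58224 (iv7 F327470)))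
theorem Q82441 : ∀ i, i < 82441 → P i := stepQ 82440 Q82440 (allL N82440 (tt N58280 F365125) (tt N58272 (iv0 F395648)) (tt N58277 F346874) (tt N48330 (iv3 D180483)) (tt N80212 F280908) (tt N110891 (iv5 F473634)) (tt N112813 (iv6 F482737)) (tt N58278 (iv7 F346873)))
theorem Q82442 : ∀ i, i < 82442 → P i := stepQ 82441 Q82441 (allL N82441 (tt N102833 (iv1 F438859)) (tt N112838 F482886) (tt N112507 (iv2 F481413)) (tt N48331 (iv3 D180485)) (tt N64141 F280909) (tt N82865 F363990) (tt N101902 (iv6 F434888)) (tt N82510 (iv7 F281416)))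
theorem Q82443 : ∀ i, i < 82443 → P i := stepQ 82442 Q82442 (allL N82442 (tt N58293 F359055) (tt N58267 F358833) (tt N48334 F280914) (tt N58303 F358864) (tt N48342 F280915) (tt N89824 (iv5 F387653)) (tt N48332 (iv6 D180488)) (tt N58294 F359056))
theorem Q82444 : ∀ i, i < 82444 → P i := stepQ 82443 Q82443 (allL N82443 (tt N58294 (iv1 F366138)) (tt N48334 (iv0 D180491)) (tt N58293 F366135) (tt N57917 F366133) (tt N97630 (iv4 F417684)) (tt N112841 D216092) (tt N95713 F409267) (tt N58267 (iv7 F366134)))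
theorem Q82445 : ∀ i, i < 82445 → P i := stepQ 82444 Q82444 (allL N82444 (tt N48334 (iv1 D180492)) (tt N58294 F359057) (tt N58267 (iv2 F366137)) (tt N102834 F438863) (tt N89724 (iv4 F387319)) (tt N85118 (iv5 F371686)) (tt N89723 F387316) (tt N58293 F366136))
theorem Q82446 : ∀ i, i < 82446 → P i := stepQ 82445 Q82445 (allL N82445 (tt N107742 (iv1 F459504)) (tt N112842 D216093) (tt N89824 (iv2 F387651)) (tt N48337 F280917) (tt N50329 (iv4 F362677)) (tt N48334 (iv5 D180493)) (tt N50328 F362676) (tt N58295 F362678))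
theorem Q82447 : ∀ i, i < 82447 → P i := stepQ 82446 Q82446 (allL N82446 (tt N66579 F362679) (tt N112843 D216094) (tt N58307 (iv2 F351124)) (tt N50328 F362675) (tt N112844 D216095) (tt N48336 (iv5 D180499)) (tt N48337 F280925) (tt N89819 (iv7 F387628)))
theorem Q82448 : ∀ i, i < 82448 → P i := stepQ 82447 Q82447 (allL N82447 (tt N58291 (iv1 F351110)) (tt N48337 (iv0 D180507)) (tt N58255 (iv2 F351107)) (tt N76241 F363677) (tt N83913 (iv4 F367474)) (tt N59747 F351106) (tt N58225 (iv6 F351108)) (tt N58297 (iv7 F351109)))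
theorem Q82449 : ∀ i, i < 82449 → P i := stepQ 82448 Q82448 (allL N82448 (tt N95686 (iv1 F409141)) (tt N95684 (iv0 F409132)) (tt N58306 F366014) (tt N50584 F365135) (tt N48337 (iv4 D180509)) (tt N59633 (iv5 F366010)) (tt N112844 (iv6 F482920)) (tt N58298 (iv7 F366139)))
theorem Q82450 : ∀ i, i < 82450 → P i := stepQ 82449 Q82449 (allL N82449 (tt N89731 (iv1 F387345)) (tt N112015 F479089) (tt N82521 (iv2 F281453)) (tt N59450 F365752) (tt N87666 (iv4 F380036)) (tt N48339 (iv5 D180526)) (tt N112845 D216096) (tt N82518 (iv7 F281439)))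
theorem Q82451 : ∀ i, i < 82451 → P i := stepQ 82450 Q82450 (allL N82450 (tt N112015 F479090) (tt N89731 (iv0 F387343)) (tt N82518 (iv2 F281438)) (tt N95116 (iv3 F407112)) (tt N87669 (iv4 F380050)) (tt N48341 (iv5 D180533)) (tt N89780 (iv6 F387524)) (tt N82521 (iv7 F281454)))
theorem Q82452 : ∀ i, i < 82452 → P i := stepQ 82451 Q82451 (allL N82451 (tt N75304 (iv1 F338179)) (tt N75437 (iv0 F334581)) (tt N75384 (iv2 F313889)) (tt N111920 (iv3 F478652)) (tt N62605 (iv4 F308860)) (tt N65085 F281040) (tt N48346 (iv6 D180564)) (tt N63081 F281041))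
theorem Q82453 : ∀ i, i < 82453 → P i := stepQ 82452 Q82452 (allL N82452 (tt N58701 (iv1 F360064)) (tt N58711 F360073) (tt N59949 F360071) (tt N59478 (iv3 F403536)) (tt N96673 (iv4 F413391)) (tt N48348 (iv5 D180574)) (tt N101386 (iv6 F432827)) (tt N59951 F360057))
theorem Q82454 : ∀ i, i < 82454 → P i := stepQ 82453 Q82453 (allL N82453 (tt N74938 F352067) (tt N75208 (iv0 F348620)) (tt N62529 (iv2 F339238)) (tt N48350 F281069) (tt N98423 (iv4 F420886)) (tt N48349 (iv5 D180579)) (tt N75661 F348622) (tt N67738 (iv7 F318595)))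
theorem Q82455 : ∀ i, i < 82455 → P i := stepQ 82454 Q82454 (allL N82454 (tt N111089 (iv1 F474610)) (tt N111105 F474698) (tt N101555 (iv2 F433382)) (tt N48352 (iv3 D180588)) (tt N79134 F281094) (tt N70506 (iv5 F366463)) (tt N111837 (iv6 F478227)) (tt N64079 F281095))
theorem Q82456 : ∀ i, i < 82456 → P i := stepQ 82455 Q82455 (allL N82455 (tt N97399 F416737) (tt N107078 F456876) (tt N112846 D216097) (tt N48353 (iv3 D180590)) (tt N78411 F281097) (tt N102819 (iv5 F438792)) (tt N64113 (iv6 F364607)) (tt N64082 F281098))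
theorem Q82457 : ∀ i, i < 82457 → P i := stepQ 82456 Q82456 (allL N82456 (tt N101904 (iv1 F434895)) (tt N75213 (iv0 F359053)) (tt N97630 (iv2 F417683)) (tt N48355 (iv3 D180599)) (tt N58293 F359054) (tt N75201 (iv5 F413367)) (tt N96666 (iv6 F413364)) (tt N89724 F387322))
theorem Q82458 : ∀ i, i < 82458 → P i := stepQ 82457 Q82457 (allL N82457 (tt N75296 F353590) (tt N104247 F444919) (tt N102400 (iv2 F437071)) (tt N58186 (iv3 F366193)) (tt N48355 (iv4 D180600)) (tt N94055 F403007) (tt N96561 (iv6 F412998)) (tt N102401 (iv7 F437078)))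
theorem Q82459 : ∀ i, i < 82459 → P i := stepQ 82458 Q82458 (allL N82458 (tt N58511 (iv1 F361322)) (tt N82071 F361321) (tt N78724 (iv2 F354751)) (tt N75201 F413368) (tt N105144 (iv4 F448982)) (tt N48355 (iv5 D180601)) (tt N65347 F353674) (tt N82097 (iv7 F352280)))
theorem Q82460 : ∀ i, i < 82460 → P i := stepQ 82459 Q82459 (allL N82459 (tt N82071 F361319) (tt N58511 F361320) (tt N82097 (iv2 F352279)) (tt N81523 (iv3 F359774)) (tt N101289 (iv4 F432545)) (tt N48356 (iv5 D180606)) (tt N68514 (iv6 F359776)) (tt N78724 F352272))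
theorem Q82461 : ∀ i, i < 82461 → P i := stepQ 82460 Q82460 (allL N82460 (tt N48357 (iv1 D180609)) (tt N58647 (iv0 F355561)) (tt N80188 (iv2 F355563)) (tt N100595 (iv3 F429615)) (tt N62901 F355560) (tt N58853 (iv5 F330805)) (tt N74759 (iv6 F353676)) (tt N96873 (iv7 F414376)))
theorem Q82462 : ∀ i, i < 82462 → P i := stepQ 82461 Q82461 (allL N82461 (tt N98165 F419799) (tt N109228 (iv0 F465872)) (tt N90998 (iv2 F391512)) (tt N63006 F355562) (tt N48357 (iv4 D180610)) (tt N90996 F391510) (tt N64255 F281114) (tt N99877 (iv7 F426649)))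
theorem Q82463 : ∀ i, i < 82463 → P i := stepQ 82462 Q82462 (allL N82462 (tt N80188 (iv1 F281117)) (tt N96873 F414375) (tt N58647 F361329) (tt N48360 F281115) (tt N99877 (iv4 F426647)) (tt N48358 F281116) (tt N97092 (iv6 F415453)) (tt N48357 (iv7 D180611)))
theorem Q82464 : ∀ i, i < 82464 → P i := stepQ 82463 Q82463 (allL N82463 (tt N75606 (iv1 F354265)) (tt N75679 (iv0 F349406)) (tt N59940 (iv2 F319473)) (tt N97092 (iv3 F415451)) (tt N74995 (iv4 F311115)) (tt N64117 F281141) (tt N48360 (iv6 D180619)) (tt N64256 F281142))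
theorem Q82465 : ∀ i, i < 82465 → P i := stepQ 82464 Q82464 (allL N82464 (tt N64261 F281151) (tt N58816 (iv0 F325696)) (tt N48363 F281146) (tt N79761 F281147) (tt N64123 F281149) (tt N48362 (iv5 D180621)) (tt N58798 (iv6 F344641)) (tt N64260 F281148))
theorem Q82466 : ∀ i, i < 82466 → P i := stepQ 82465 Q82465 (allL N82465 (tt N109335 F466440) (tt N64113 F389964) (tt N48364 F281153) (tt N79595 (iv3 F357779)) (tt N79570 (iv4 F357782)) (tt N112847 D216098) (tt N48362 (iv6 D180622)) (tt N112499 (iv7 F481371)))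
theorem Q82467 : ∀ i, i < 82467 → P i := stepQ 82466 Q82466 (allL N82466 (tt N48363 (iv1 D180623)) (tt N64260 F281156) (tt N58816 (iv2 F325698)) (tt N64258 (iv3 F281159)) (tt N91525 (iv4 F393481)) (tt N79781 F281158) (tt N69263 (iv6 F362187)) (tt N64261 F281157))
theorem Q82468 : ∀ i, i < 82468 → P i := stepQ 82467 Q82467 (allL N82467 (tt N112499 (iv1 F481374)) (tt N48364 (iv0 D180625)) (tt N109335 (iv2 F466436)) (tt N64108 (iv3 F355478)) (tt N65957 F355480) (tt N82213 F355477) (tt N109230 (iv6 F465880)) (tt N64113 F355481))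
theorem Q82469 : ∀ i, i < 82469 → P i := stepQ 82468 Q82468 (allL N82468 (tt N48364 (iv1 D180626)) (tt N112499 (iv0 F481373)) (tt N64113 F430130) (tt N112227 (iv3 F480144)) (tt N65956 F429413) (tt N102649 (iv5 F438049)) (tt N112846 (iv6 F482934)) (tt N109335 (iv7 F466441)))
theorem Q82470 : ∀ i, i < 82470 → P i := stepQ 82469 Q82469 (allL N82469 (tt N112386 F480860) (tt N55051 (iv0 F355479)) (tt N112847 (iv2 F482938)) (tt N48373 F281163) (tt N108653 (iv4 F463372)) (tt N48364 (iv5 D180627)) (tt N62136 F344733) (tt N108679 (iv7 F463511)))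
theorem Q82471 : ∀ i, i < 82471 → P i := stepQ 82470 Q82470 (allL N82470 (tt N64113 (iv1 F389965)) (tt N109335 (iv0 F466439)) (tt N112499 (iv2 F481368)) (tt N48374 F281164) (tt N79571 (iv4 F336523)) (tt N108679 (iv5 F463510)) (tt N97629 (iv6 F417682)) (tt N48364 (iv7 D180628)))
theorem Q82472 : ∀ i, i < 82472 → P i := stepQ 82471 Q82471 (allL N82471 (tt N96913 F414583) (tt N96934 F414667) (tt N96880 (iv2 F414415)) (tt N48365 (iv3 D180629)) (tt N80565 F281165) (tt N108549 (iv5 F463043)) (tt N95580 F408744) (tt N96935 (iv7 F414673)))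
theorem Q82473 : ∀ i, i < 82473 → P i := stepQ 82472 Q82472 (allL N82472 (tt N85730 (iv1 F373701)) (tt N85726 (iv0 F373675)) (tt N96770 (iv2 F413848)) (tt N108549 (iv3 F463041)) (tt N74126 F365096) (tt N48365 (iv5 D180630)) (tt N74125 (iv6 F365091)) (tt N111138 (iv7 F474879)))
theorem Q82474 : ∀ i, i < 82474 → P i := stepQ 82473 Q82473 (allL N82473 (tt N85726 (iv1 F373676)) (tt N85730 (iv0 F373700)) (tt N111138 (iv2 F474877)) (tt N78533 F365725) (tt N112848 D216099) (tt N48366 (iv5 D180632)) (tt N87874 (iv6 F380933)) (tt N96770 (iv7 F413847)))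
theorem Q82475 : ∀ i, i < 82475 → P i := stepQ 82474 Q82474 (allL N82474 (tt N48367 (iv1 D180634)) (tt N88469 F383178) (tt N111064 (iv2 F474485)) (tt N111066 (iv3 F474498)) (tt N80208 (iv4 F281167)) (tt N71598 (iv5 F358390)) (tt N87722 F380261) (tt N71597 F358389))
theorem Q82476 : ∀ i, i < 82476 → P i := stepQ 82475 Q82475 (allL N82475 (tt N71597 (iv1 F379232)) (tt N111064 F474490) (tt N48367 (iv2 D180635)) (tt N83715 (iv3 F288739)) (tt N104424 (iv4 F445689)) (tt N87396 F379231) (tt N112148 F479745) (tt N88469 (iv7 F383177)))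
theorem Q82477 : ∀ i, i < 82477 → P i := stepQ 82476 Q82476 (allL N82476 (tt N84678 (iv1 F370184)) (tt N112849 D216100) (tt N87396 (iv2 F379229)) (tt N48368 F281168) (tt N52535 (iv4 F366983)) (tt N48367 (iv5 D180636)) (tt N102863 (iv6 F438995)) (tt N87525 (iv7 F379654)))
theorem Q82478 : ∀ i, i < 82478 → P i := stepQ 82477 Q82477 (allL N82477 (tt N81027 F358247) (tt N112078 (iv0 F479394)) (tt N112148 (iv2 F479746)) (tt N48369 F281169) (tt N111866 (iv4 F478391)) (tt N112850 D216101) (tt N48367 (iv6 D180637)) (tt N112147 F479742))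
theorem Q82479 : ∀ i, i < 82479 → P i := stepQ 82478 Q82478 (allL N82478 (tt N48381 (iv1 F281171)) (tt N48368 (iv0 D180638)) (tt N96939 (iv2 F414692)) (tt N112445 (iv3 F481137)) (tt N112851 D216102) (tt N78473 F281170) (tt N112444 F481135) (tt N111139 (iv7 F474887)))
theorem Q82480 : ∀ i, i < 82480 → P i := stepQ 82479 Q82479 (allL N82479 (tt N48368 (iv1 D180639)) (tt N48381 F281172) (tt N111139 F474885) (tt N59731 (iv3 F327414)) (tt N112852 D216103) (tt N59730 (iv5 F327412)) (tt N112853 D216104) (tt N96939 (iv7 F414687)))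
theorem Q82481 : ∀ i, i < 82481 → P i := stepQ 82480 Q82480 (allL N82480 (tt N112436 (iv1 F481107)) (tt N79853 F281175) (tt N111142 (iv2 F474899)) (tt N87347 (iv3 F379090)) (tt N48368 (iv4 D180640)) (tt N111409 (iv5 F476226)) (tt N82122 F362312) (tt N111140 (iv7 F474890)))
theorem Q82482 : ∀ i, i < 82482 → P i := stepQ 82481 Q82481 (allL N82481 (tt N95632 F408957) (tt N107230 (iv0 F457560)) (tt N111143 (iv2 F474906)) (tt N102863 (iv3 F438994)) (tt N82122 (iv4 F362311)) (tt N79887 F362310) (tt N48368 (iv6 D180641)) (tt N112713 (iv7 F482316)))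
theorem Q82483 : ∀ i, i < 82483 → P i := stepQ 82482 Q82482 (allL N82482 (tt N79591 (iv1 F362314)) (tt N48369 (iv0 D180642)) (tt N58594 (iv2 F359272)) (tt N95535 (iv3 F408531)) (tt N97365 (iv4 F416526)) (tt N82483 F362313) (tt N112650 F481996) (tt N95589 (iv7 F408791)))
theorem Q82484 : ∀ i, i < 82484 → P i := stepQ 82483 Q82483 (allL N82483 (tt N48369 (iv1 D180643)) (tt N79591 F351038) (tt N95589 (iv2 F408789)) (tt N58560 F351041) (tt N65854 (iv4 F351044)) (tt N82482 (iv5 F362313)) (tt N58655 (iv6 F360142)) (tt N58594 (iv7 F353279)))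
theorem Q82485 : ∀ i, i < 82485 → P i := stepQ 82484 Q82484 (allL N82484 (tt N95466 (iv1 F408819)) (tt N95465 F408287) (tt N81783 (iv2 F338792)) (tt N112850 (iv3 F482956)) (tt N65063 (iv4 F345350)) (tt N48369 (iv5 D180644)) (tt N79887 (iv6 F345357)) (tt N81784 F345355))
theorem Q82486 : ∀ i, i < 82486 → P i := stepQ 82485 Q82485 (allL N82485 (tt N95589 (iv1 F408794)) (tt N58594 F353284) (tt N79591 F338807) (tt N112147 (iv3 F479739)) (tt N48374 F281176) (tt N81784 (iv5 F345354)) (tt N58571 F351035) (tt N48369 (iv7 D180645)))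
theorem Q82487 : ∀ i, i < 82487 → P i := stepQ 82486 Q82486 (allL N82486 (tt N48370 (iv1 D180646)) (tt N48383 F281177) (tt N79819 (iv2 F281180)) (tt N64962 (iv3 F281181)) (tt N79711 F281179) (tt N101899 (iv5 F434867)) (tt N93474 F400833) (tt N79820 F281178))
theorem Q82488 : ∀ i, i < 82488 → P i := stepQ 82487 Q82487 (allL N82487 (tt N111383 F476104) (tt N111449 (iv0 F476414)) (tt N112854 D216105) (tt N48370 (iv3 D180647)) (tt N79642 F281182) (tt N112855 D216106) (tt N96825 (iv6 F414141)) (tt N79821 F281183))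
theorem Q82489 : ∀ i, i < 82489 → P i := stepQ 82488 Q82488 (allL N82488 (tt N111013 (iv1 F474253)) (tt N111426 (iv0 F476311)) (tt N79826 F281184) (tt N112855 (iv3 F482982)) (tt N111408 (iv4 F476219)) (tt N48370 (iv5 D180648)) (tt N112856 D216107) (tt N79822 F281185))
theorem Q82490 : ∀ i, i < 82490 → P i := stepQ 82489 Q82489 (allL N82489 (tt N94926 (iv1 F406364)) (tt N94925 (iv0 F406362)) (tt N79827 F281186) (tt N96825 (iv3 F414140)) (tt N48371 F281187) (tt N103738 (iv5 F442633)) (tt N48370 (iv6 D180649)) (tt N107738 (iv7 F459479)))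
theorem Q82491 : ∀ i, i < 82491 → P i := stepQ 82490 Q82490 (allL N82490 (tt N58088 (iv1 F345345)) (tt N58092 (iv0 F336489)) (tt N79793 (iv2 F338759)) (tt N58799 F344644) (tt N107738 (iv4 F459480)) (tt N94049 (iv5 F402979)) (tt N64243 (iv6 F331719)) (tt N48371 (iv7 D180653)))
theorem Q82492 : ∀ i, i < 82492 → P i := stepQ 82491 Q82491 (allL N82491 (tt N79592 F338808) (tt N48373 (iv0 D180664)) (tt N64116 (iv2 F338781)) (tt N79621 F338782) (tt N66502 F338783) (tt N65064 F338784) (tt N71099 F338785) (tt N71343 F338786))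
theorem Q82493 : ∀ i, i < 82493 → P i := stepQ 82492 Q82492 (allL N82492 (tt N65428 F281205) (tt N65430 F281204) (tt N48377 F281201) (tt N52363 F281202) (tt N48376 (iv4 D180669)) (tt N112819 (iv5 F482773)) (tt N97370 (iv6 F416561)) (tt N78410 F281203))
theorem Q82494 : ∀ i, i < 82494 → P i := stepQ 82493 Q82493 (allL N82493 (tt N102177 F436051) (tt N112857 D216108) (tt N88470 (iv2 F383180)) (tt N48377 (iv3 D180671)) (tt N48380 F281207) (tt N112858 D216109) (tt N102003 (iv6 F435319)) (tt N88467 (iv7 F383172)))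
theorem Q82495 : ∀ i, i < 82495 → P i := stepQ 82494 Q82494 (allL N82494 (tt N101884 (iv1 F434814)) (tt N68793 (iv0 F383855)) (tt N112819 F482775) (tt N112858 (iv3 F482997)) (tt N69945 F364569) (tt N48377 (iv5 D180672)) (tt N71640 (iv6 F383840)) (tt N90423 (iv7 F389595)))
theorem Q82496 : ∀ i, i < 82496 → P i := stepQ 82495 Q82495 (allL N82495 (tt N96635 F413273) (tt N97434 F416894) (tt N97370 (iv2 F416560)) (tt N102003 (iv3 F435316)) (tt N48379 F281208) (tt N102128 (iv5 F435870)) (tt N48377 (iv6 D180673)) (tt N97368 (iv7 F416541)))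
theorem Q82497 : ∀ i, i < 82497 → P i := stepQ 82496 Q82496 (allL N82496 (tt N80179 F358881) (tt N80183 F358882) (tt N80178 (iv2 F358928)) (tt N48384 F281210) (tt N94539 F404881) (tt N75361 F358889) (tt N48378 (iv6 D180674)) (tt N80170 (iv7 F358936)))
theorem Q82498 : ∀ i, i < 82498 → P i := stepQ 82497 Q82497 (allL N82497 (tt N79853 F281215) (tt N112436 (iv0 F481106)) (tt N111140 (iv2 F474888)) (tt N104860 (iv3 F447666)) (tt N48381 (iv4 D180682)) (tt N111408 (iv5 F476218)) (tt N104198 (iv6 F444653)) (tt N111142 (iv7 F474902)))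
theorem Q82499 : ∀ i, i < 82499 → P i := stepQ 82498 Q82498 (allL N82498 (tt N65495 F364143) (tt N64954 (iv0 F281219)) (tt N93400 F400642) (tt N48383 (iv3 D180688)) (tt N78236 (iv4 F380718)) (tt N112859 D216110) (tt N94998 (iv6 F406598)) (tt N79825 F281218))
theorem Q82500 : ∀ i, i < 82500 → P i := stepQ 82499 Q82499 (allL N82499 (tt N111426 (iv1 F476312)) (tt N111013 (iv0 F474252)) (tt N79822 F281220) (tt N112859 (iv3 F482999)) (tt N111409 (iv4 F476227)) (tt N48383 (iv5 D180689)) (tt N112860 D216111) (tt N79826 F281221))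
theorem Q82501 : ∀ i, i < 82501 → P i := stepQ 82500 Q82500 (allL N82500 (tt N112665 (iv1 F482079)) (tt N101737 (iv0 F434110)) (tt N79823 F281222) (tt N94998 F406597) (tt N48384 F281223) (tt N110506 (iv5 F471892)) (tt N48383 (iv6 D180690)) (tt N80171 F365211))
theorem Q82502 : ∀ i, i < 82502 → P i := stepQ 82501 Q82501 (allL N82501 (tt N103805 F442898) (tt N103809 F442921) (tt N66491 (iv2 F355087)) (tt N103425 (iv3 F441570)) (tt N111248 F475422) (tt N48390 (iv5 D180739)) (tt N105708 (iv6 F451354)) (tt N103424 (iv7 F441568)))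
theorem Q82503 : ∀ i, i < 82503 → P i := stepQ 82502 Q82502 (allL N82502 (tt N109237 (iv1 F465921)) (tt N109236 F465918) (tt N82588 (iv2 F355098)) (tt N101036 (iv3 F431394)) (tt N82585 F355099) (tt N88852 (iv5 F384348)) (tt N48391 (iv6 D180745)) (tt N109234 (iv7 F465905)))
theorem Q82504 : ∀ i, i < 82504 → P i := stepQ 82503 Q82503 (allL N82503 (tt N104578 (iv1 F446378)) (tt N48392 (iv0 D180746)) (tt N104577 F446368) (tt N65114 (iv3 F374622)) (tt N86010 (iv4 F374866)) (tt N65113 F374621) (tt N80955 F366570) (tt N85958 (iv7 F374618)))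
theorem Q82505 : ∀ i, i < 82505 → P i := stepQ 82504 Q82504 (allL N82504 (tt N48392 (iv1 D180747)) (tt N104578 F446377) (tt N85958 (iv2 F374615)) (tt N67607 F365713) (tt N50282 F365714) (tt N94107 (iv5 F403237)) (tt N50236 (iv6 F365712)) (tt N104577 (iv7 F446370)))
theorem Q82506 : ∀ i, i < 82506 → P i := stepQ 82505 Q82505 (allL N82505 (tt N85958 (iv1 F374620)) (tt N104577 F446371) (tt N104578 (iv2 F446372)) (tt N102827 (iv3 F438825)) (tt N85954 F374597) (tt N48393 F281338) (tt N102825 F438818) (tt N48392 (iv7 D180749)))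
theorem Q82507 : ∀ i, i < 82507 → P i := stepQ 82506 Q82506 (allL N82506 (tt N80563 (iv1 F281395)) (tt N48394 (iv0 D180777)) (tt N80562 F386125) (tt N111114 (iv3 F474732)) (tt N97594 (iv4 F417519)) (tt N95187 (iv5 F407346)) (tt N97593 F417517) (tt N80561 F386123))
theorem Q82508 : ∀ i, i < 82508 → P i := stepQ 82507 Q82507 (allL N82507 (tt N48394 (iv1 D180778)) (tt N80563 F281400) (tt N80561 (iv2 F386122)) (tt N94743 (iv3 F436025)) (tt N102171 (iv4 F436018)) (tt N73490 (iv5 F364846)) (tt N99326 (iv6 F424110)) (tt N80562 (iv7 F386124)))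
theorem Q82509 : ∀ i, i < 82509 → P i := stepQ 82508 Q82508 (allL N82508 (tt N80562 (iv1 F281401)) (tt N80561 F281399) (tt N48394 (iv2 D180779)) (tt N48398 F281396) (tt N78396 F281397) (tt N89325 F386112) (tt N91615 (iv6 F393783)) (tt N80563 F281398))
theorem Q82510 : ∀ i, i < 82510 → P i := stepQ 82509 Q82509 (allL N82509 (tt N48395 (iv1 D180781)) (tt N82439 F281406) (tt N82437 F363335) (tt N112417 (iv3 F481016)) (tt N100918 (iv4 F430959)) (tt N93557 (iv5 F401127)) (tt N93558 (iv6 F401130)) (tt N82438 F363333))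
theorem Q82511 : ∀ i, i < 82511 → P i := stepQ 82510 Q82510 (allL N82510 (tt N100676 (iv1 F429968)) (tt N94760 F405839) (tt N95192 (iv2 F407365)) (tt N48397 (iv3 D180787)) (tt N79768 F281415) (tt N85492 (iv5 F372819)) (tt N112312 F480496) (tt N82441 F281416))
theorem Q82512 : ∀ i, i < 82512 → P i := stepQ 82511 Q82511 (allL N82511 (tt N65407 (iv1 F358719)) (tt N82359 (iv0 F355395)) (tt N82358 (iv2 F358731)) (tt N112312 F480495) (tt N79763 F281418) (tt N93259 (iv5 F400164)) (tt N48397 (iv6 D180788)) (tt N80982 (iv7 F355394)))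
theorem Q82513 : ∀ i, i < 82513 → P i := stepQ 82512 Q82512 (allL N82512 (tt N78459 (iv1 F281422)) (tt N78456 F281421) (tt N48399 F281419) (tt N89325 (iv3 F386110)) (tt N54062 (iv4 F345228)) (tt N48398 (iv5 D180789)) (tt N89324 (iv6 F386108)) (tt N53812 (iv7 F345213)))
theorem Q82514 : ∀ i, i < 82514 → P i := stepQ 82513 Q82513 (allL N82513 (tt N54061 (iv1 F345224)) (tt N54060 F362338) (tt N54062 F345222) (tt N55321 (iv3 F332737)) (tt N48399 (iv4 D180790)) (tt N52162 F345223) (tt N54057 F345219) (tt N52161 (iv7 F345215)))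
theorem Q82515 : ∀ i, i < 82515 → P i := stepQ 82514 Q82514 (allL N82514 (tt N77126 (iv1 F353013)) (tt N91612 F393779) (tt N89324 (iv2 F386103)) (tt N48400 F281424) (tt N54057 (iv4 F345218)) (tt N77113 F353007) (tt N48399 (iv6 D180791)) (tt N53809 F345216))
theorem Q82516 : ∀ i, i < 82516 → P i := stepQ 82515 Q82515 (allL N82515 (tt N58347 F351192) (tt N48400 (iv0 D180792)) (tt N58346 (iv2 F345415)) (tt N50373 F351191) (tt N50376 (iv4 F351186)) (tt N99475 (iv5 F424748)) (tt N57950 F345417) (tt N56788 F345418))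
theorem Q82517 : ∀ i, i < 82517 → P i := stepQ 82516 Q82516 (allL N82516 (tt N56788 (iv1 F345205)) (tt N58346 F345206) (tt N58347 (iv2 F345420)) (tt N53809 (iv3 F345217)) (tt N73022 (iv4 F351126)) (tt N91488 (iv5 F393340)) (tt N53807 (iv6 F345220)) (tt N48400 (iv7 D180794)))
theorem Q82518 : ∀ i, i < 82518 → P i := stepQ 82517 Q82517 (allL N82517 (tt N48401 (iv1 D180796)) (tt N48403 F281429) (tt N79235 (iv2 F281432)) (tt N78425 (iv3 F281433)) (tt N64138 F281431) (tt N89817 (iv5 F387624)) (tt N101678 F433829) (tt N80579 F281430))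
theorem Q82519 : ∀ i, i < 82519 → P i := stepQ 82518 Q82518 (allL N82518 (tt N111042 (iv1 F474398)) (tt N111043 (iv0 F474403)) (tt N82450 F281438) (tt N58218 (iv3 F365751)) (tt N85403 (iv4 F372503)) (tt N48401 (iv5 D180798)) (tt N85401 F372504) (tt N82449 F281439))
theorem Q82520 : ∀ i, i < 82520 → P i := stepQ 82519 Q82519 (allL N82519 (tt N78589 F348554) (tt N55436 (iv0 F348553)) (tt N91941 (iv2 F395052)) (tt N48404 F281449) (tt N80703 (iv4 F348561)) (tt N81202 F348551) (tt N48402 (iv6 D180804)) (tt N82362 (iv7 F348552)))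
theorem Q82521 : ∀ i, i < 82521 → P i := stepQ 82520 Q82520 (allL N82520 (tt N80566 (iv1 F281452)) (tt N58706 (iv0 F327003)) (tt N58214 F365753) (tt N48403 (iv3 D180805)) (tt N96935 (iv4 F414671)) (tt N112861 D216112) (tt N112862 D216113) (tt N80565 F281450))
theorem Q82522 : ∀ i, i < 82522 → P i := stepQ 82521 Q82521 (allL N82521 (tt N111043 (iv1 F474404)) (tt N111042 (iv0 F474397)) (tt N82449 F281453) (tt N112861 (iv3 F483010)) (tt N88795 (iv4 F384171)) (tt N48403 (iv5 D180806)) (tt N107306 F457897) (tt N82450 F281454))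
theorem Q82523 : ∀ i, i < 82523 → P i := stepQ 82522 Q82522 (allL N82522 (tt N112137 (iv1 F479692)) (tt N101878 (iv0 F434788)) (tt N82361 (iv2 F328389)) (tt N112862 (iv3 F483016)) (tt N48404 F281456) (tt N107307 (iv5 F457900)) (tt N48403 (iv6 D180807)) (tt N82363 F365499))
theorem Q82524 : ∀ i, i < 82524 → P i := stepQ 82523 Q82523 (allL N82523 (tt N48405 (iv1 D180813)) (tt N52364 F281471) (tt N52362 F281469) (tt N78410 (iv3 F281465)) (tt N79733 (iv4 F281466)) (tt N97574 (iv5 F417427)) (tt N60598 (iv6 F358040)) (tt N52363 F281467))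
theorem Q82525 : ∀ i, i < 82525 → P i := stepQ 82524 Q82524 (allL N82524 (tt N103462 (iv1 F441735)) (tt N103466 (iv0 F441752)) (tt N67237 (iv2 F362767)) (tt N48406 F281478) (tt N106128 (iv4 F453257)) (tt N48405 (iv5 D180815)) (tt N67236 F362768) (tt N52365 F281479))
theorem Q82526 : ∀ i, i < 82526 → P i := stepQ 82525 Q82525 (allL N82525 (tt N63695 F281487) (tt N64662 F281488) (tt N48421 F281483) (tt N76905 F281484) (tt N48407 (iv4 D180817)) (tt N64465 F281486) (tt N112074 (iv6 F479371)) (tt N48418 F281485))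
theorem Q82527 : ∀ i, i < 82527 → P i := stepQ 82526 Q82526 (allL N82526 (tt N48432 F332053) (tt N75818 F332054) (tt N48419 F281496) (tt N88617 (iv3 F383599)) (tt N100306 (iv4 F428356)) (tt N82042 (iv5 F332051)) (tt N48408 (iv6 D180820)) (tt N79534 (iv7 F357094)))
theorem Q82528 : ∀ i, i < 82528 → P i := stepQ 82527 Q82527 (allL N82527 (tt N49391 F289544) (tt N75672 (iv0 F356582)) (tt N49542 F281614) (tt N48414 F281615) (tt N52392 F281616) (tt N63922 F356971) (tt N48413 (iv6 D180879)) (tt N87308 (iv7 F379029)))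
theorem Q82529 : ∀ i, i < 82529 → P i := stepQ 82528 Q82528 (allL N82528 (tt N49624 (iv1 F335730)) (tt N49610 (iv0 F335727)) (tt N49623 (iv2 F289529)) (tt N87308 (iv3 F379027)) (tt N49760 (iv4 F335738)) (tt N63924 (iv5 F356444)) (tt N49760 (iv6 F335739)) (tt N48414 (iv7 D180886)))
theorem Q82530 : ∀ i, i < 82530 → P i := stepQ 82529 Q82529 (allL N82529 (tt N80414 (iv1 F345720)) (tt N91955 (iv0 F395119)) (tt N97117 (iv2 F415517)) (tt N48416 (iv3 D181007)) (tt N49347 F281846) (tt N58844 F345715) (tt N48489 F281847) (tt N65628 (iv7 F345719)))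
theorem Q82531 : ∀ i, i < 82531 → P i := stepQ 82530 Q82530 (allL N82530 (tt N52360 (iv1 F330417)) (tt N80415 (iv0 F330415)) (tt N48450 F281849) (tt N58844 (iv3 F345716)) (tt N94693 (iv4 F405555)) (tt N48416 (iv5 D181008)) (tt N88305 (iv6 F382524)) (tt N65627 (iv7 F354277)))
theorem Q82532 : ∀ i, i < 82532 → P i := stepQ 82531 Q82531 (allL N82531 (tt N68480 (iv1 F342015)) (tt N68479 F342014) (tt N68481 F342010) (tt N48424 (iv3 D181034)) (tt N75863 F281874) (tt N48424 F342012) (tt N112484 (iv6 F481288)) (tt N66825 F342013))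
theorem Q82533 : ∀ i, i < 82533 → P i := stepQ 82532 Q82532 (allL N82532 (tt N55651 F332905) (tt N66039 F332906) (tt N74653 F332894) (tt N48434 (iv3 D181132)) (tt N79563 F282126) (tt N56976 F332893) (tt N82352 (iv6 F299706)) (tt N74651 (iv7 F332892)))
theorem Q82534 : ∀ i, i < 82534 → P i := stepQ 82533 Q82533 (allL N82533 (tt N76121 (iv1 F341693)) (tt N78742 (iv0 F299711)) (tt N64102 F282128) (tt N56976 F357894) (tt N79556 (iv4 F341877)) (tt N48434 (iv5 D181133)) (tt N79554 (iv6 F357896)) (tt N74650 (iv7 F357902)))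
theorem Q82535 : ∀ i, i < 82535 → P i := stepQ 82534 Q82534 (allL N82534 (tt N81748 (iv1 F358236)) (tt N48435 (iv0 D181139)) (tt N102359 (iv2 F436895)) (tt N60526 F411040) (tt N81025 F411041) (tt N97842 (iv5 F418469)) (tt N60120 (iv6 F411039)) (tt N102358 F436889))
theorem Q82536 : ∀ i, i < 82536 → P i := stepQ 82535 Q82535 (allL N82535 (tt N48435 (iv1 D181140)) (tt N81748 F358233) (tt N102358 F436888) (tt N93964 (iv3 F402623)) (tt N112149 (iv4 F479750)) (tt N93963 (iv5 F402621)) (tt N86956 F417076) (tt N102359 (iv7 F436891)))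
theorem Q82537 : ∀ i, i < 82537 → P i := stepQ 82536 Q82536 (allL N82536 (tt N102359 (iv1 F436890)) (tt N102358 F436887) (tt N48435 (iv2 D181141)) (tt N80207 (iv3 F358229)) (tt N106107 (iv4 F453144)) (tt N80206 F358226) (tt N79354 F282143) (tt N81748 (iv7 F358230)))
theorem Q82538 : ∀ i, i < 82538 → P i := stepQ 82537 Q82537 (allL N82537 (tt N81746 (iv1 F358239)) (tt N65518 F358242) (tt N80206 (iv2 F358228)) (tt N48436 F282144) (tt N81024 F358240) (tt N48435 (iv5 D181142)) (tt N80205 F358241) (tt N81747 F358238))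
theorem Q82539 : ∀ i, i < 82539 → P i := stepQ 82538 Q82538 (allL N82538 (tt N79533 (iv1 F282149)) (tt N48436 (iv0 D181144)) (tt N80223 F330163) (tt N106723 (iv3 F455412)) (tt N76115 F330165) (tt N64520 F282147) (tt N80051 (iv6 F416735)) (tt N80224 (iv7 F322996)))
theorem Q82540 : ∀ i, i < 82540 → P i := stepQ 82539 Q82539 (allL N82539 (tt N48436 (iv1 D181145)) (tt N79533 F282150) (tt N80224 (iv2 F322994)) (tt N58836 F355900) (tt N76117 F330166) (tt N58832 (iv5 F325935)) (tt N92680 (iv6 F397864)) (tt N80223 F330167))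
theorem Q82541 : ∀ i, i < 82541 → P i := stepQ 82540 Q82540 (allL N82540 (tt N64275 (iv1 F366716)) (tt N54247 (iv0 F366715)) (tt N53322 F282160) (tt N86466 (iv3 F376311)) (tt N88619 (iv4 F383609)) (tt N104148 (iv5 F444414)) (tt N48437 (iv6 D181149)) (tt N64455 (iv7 F364928)))
theorem Q82542 : ∀ i, i < 82542 → P i := stepQ 82541 Q82541 (allL N82541 (tt N112320 F480537) (tt N112863 D216114) (tt N110983 (iv2 F474077)) (tt N48439 F282163) (tt N112864 D216115) (tt N48438 (iv5 D181152)) (tt N83272 (iv6 F286586)) (tt N64874 (iv7 F304481)))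
theorem Q82543 : ∀ i, i < 82543 → P i := stepQ 82542 Q82542 (allL N82542 (tt N64349 (iv1 F302307)) (tt N48439 (iv0 D181153)) (tt N64877 (iv2 F303654)) (tt N83304 (iv3 F366820)) (tt N81849 F282166) (tt N81855 F282165) (tt N105316 (iv6 F449670)) (tt N64876 (iv7 F302097)))
theorem Q82544 : ∀ i, i < 82544 → P i := stepQ 82543 Q82543 (allL N82543 (tt N73135 (iv1 F360896)) (tt N109341 F466473) (tt N101799 (iv2 F434390)) (tt N48440 (iv3 D181154)) (tt N48449 F282170) (tt N101762 (iv5 F434231)) (tt N79357 F282171) (tt N81957 F282172))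
theorem Q82545 : ∀ i, i < 82545 → P i := stepQ 82544 Q82544 (allL N82544 (tt N64356 (iv1 F302317)) (tt N64924 (iv0 F304739)) (tt N64951 (iv2 F304973)) (tt N101762 (iv3 F434229)) (tt N109950 (iv4 F469357)) (tt N48440 (iv5 D181155)) (tt N94626 (iv6 F405288)) (tt N64950 (iv7 F304971)))
theorem Q82546 : ∀ i, i < 82546 → P i := stepQ 82545 Q82545 (allL N82545 (tt N80404 (iv1 F348294)) (tt N80405 (iv0 F348293)) (tt N99625 (iv2 F425465)) (tt N48445 (iv3 D181198)) (tt N112865 D216116) (tt N104861 (iv5 F447671)) (tt N98408 (iv6 F420846)) (tt N99622 (iv7 F425455)))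
theorem Q82547 : ∀ i, i < 82547 → P i := stepQ 82546 Q82546 (allL N82546 (tt N62237 (iv1 F341164)) (tt N72237 F341165) (tt N73116 (iv2 F324359)) (tt N94697 (iv3 F405577)) (tt N48447 F282243) (tt N94693 (iv5 F405556)) (tt N77033 F350086) (tt N48446 (iv7 D181208)))
theorem Q82548 : ∀ i, i < 82548 → P i := stepQ 82547 Q82547 (allL N82547 (tt N86935 (iv1 F377768)) (tt N86933 (iv0 F377756)) (tt N82343 F365969) (tt N58845 F365962) (tt N99326 (iv4 F424111)) (tt N48448 (iv5 D181222)) (tt N102171 (iv6 F436019)) (tt N81738 (iv7 F365968)))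
theorem Q82549 : ∀ i, i < 82549 → P i := stepQ 82548 Q82548 (allL N82548 (tt N48449 (iv1 D181228)) (tt N97430 F416867) (tt N111095 (iv2 F474636)) (tt N97429 F416868) (tt N107820 (iv4 F459844)) (tt N109334 (iv5 F466431)) (tt N111592 (iv6 F477059)) (tt N97526 F417260))
theorem Q82550 : ∀ i, i < 82550 → P i := stepQ 82549 Q82549 (allL N82549 (tt N97526 (iv1 F417259)) (tt N111095 (iv0 F474640)) (tt N48449 (iv2 D181229)) (tt N97117 (iv3 F415518)) (tt N101799 (iv4 F434392)) (tt N79719 (iv5 F356068)) (tt N79360 F282285) (tt N97430 (iv7 F416864)))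
theorem Q82551 : ∀ i, i < 82551 → P i := stepQ 82550 Q82550 (allL N82550 (tt N111095 F474641) (tt N97526 (iv0 F417257)) (tt N97430 (iv2 F416862)) (tt N48451 F282287) (tt N81957 F282288) (tt N80159 (iv5 F356026)) (tt N95440 (iv6 F408191)) (tt N48449 (iv7 D181231)))
theorem Q82552 : ∀ i, i < 82552 → P i := stepQ 82551 Q82551 (allL N82551 (tt N48450 (iv1 D181233)) (tt N65627 (iv0 F354273)) (tt N80415 (iv2 F350078)) (tt N91950 (iv3 F395092)) (tt N80409 (iv4 F350059)) (tt N52361 (iv5 F299391)) (tt N97499 (iv6 F417120)) (tt N52360 F350075))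
theorem Q82553 : ∀ i, i < 82553 → P i := stepQ 82552 Q82552 (allL N82552 (tt N59433 (iv1 F350055)) (tt N80091 F282295) (tt N94693 (iv2 F405553)) (tt N94962 (iv3 F406519)) (tt N48450 (iv4 D181234)) (tt N73116 (iv5 F324361)) (tt N94860 (iv6 F406181)) (tt N94689 F405540))
theorem Q82554 : ∀ i, i < 82554 → P i := stepQ 82553 Q82553 (allL N82553 (tt N94793 (iv1 F405966)) (tt N94792 F405965) (tt N88305 (iv2 F382522)) (tt N64119 F356037) (tt N94860 (iv4 F406180)) (tt N79362 F282296) (tt N48450 (iv6 D181235)) (tt N79715 (iv7 F356038)))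
theorem Q82555 : ∀ i, i < 82555 → P i := stepQ 82554 Q82554 (allL N82554 (tt N80415 (iv1 F330416)) (tt N52360 F330418) (tt N65627 (iv2 F354275)) (tt N80159 F356024) (tt N94689 (iv4 F405536)) (tt N48451 F282298) (tt N65626 F356039) (tt N48450 (iv7 D181236)))
theorem Q82556 : ∀ i, i < 82556 → P i := stepQ 82555 Q82555 (allL N82555 (tt N66825 F341998) (tt N68481 F342002) (tt N68480 (iv2 F342004)) (tt N48455 F282368) (tt N64823 (iv4 F314264)) (tt N68978 (iv5 F341999)) (tt N48454 (iv6 D181285)) (tt N68479 F342003))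
theorem Q82557 : ∀ i, i < 82557 → P i := stepQ 82556 Q82556 (allL N82556 (tt N101160 (iv1 F431996)) (tt N72863 F366741) (tt N57808 F366740) (tt N48458 (iv3 D181323)) (tt N96261 (iv4 F411786)) (tt N101153 (iv5 F431962)) (tt N57806 (iv6 F366739)) (tt N101159 (iv7 F431992)))
theorem Q82558 : ∀ i, i < 82558 → P i := stepQ 82557 Q82557 (allL N82557 (tt N49038 F342056) (tt N82120 F348719) (tt N80034 F282515) (tt N48470 (iv3 D181400)) (tt N78580 F282516) (tt N74815 (iv5 F348720)) (tt N100030 F427292) (tt N81360 F282517))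
theorem Q82559 : ∀ i, i < 82559 → P i := stepQ 82558 Q82558 (allL N82558 (tt N77266 (iv1 F330091)) (tt N48474 F330090) (tt N87926 (iv2 F381160)) (tt N100030 F427291) (tt N49030 F282518) (tt N76143 F330089) (tt N48470 (iv6 D181402)) (tt N72227 F360594))
theorem Q82560 : ∀ i, i < 82560 → P i := stepQ 82559 Q82559 (allL N82559 (tt N48718 F330092) (tt N65215 F330114) (tt N65254 (iv2 F330116)) (tt N78369 (iv3 F330112)) (tt N48474 F282535) (tt N76967 (iv5 F306627)) (tt N48472 (iv6 D181423)) (tt N65186 F330115))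
theorem Q82561 : ∀ i, i < 82561 → P i := stepQ 82560 Q82560 (allL N82560 (tt N50078 F346567) (tt N74990 (iv0 F310253)) (tt N70481 (iv2 F337893)) (tt N79439 (iv3 F342201)) (tt N48479 (iv4 D181589)) (tt N67431 F348865) (tt N75207 (iv6 F348868)) (tt N74743 F348870))
theorem Q82562 : ∀ i, i < 82562 → P i := stepQ 82561 Q82561 (allL N82561 (tt N91810 (iv1 F394515)) (tt N52209 (iv0 F353197)) (tt N91815 F394533) (tt N48484 (iv3 D181680)) (tt N55167 (iv4 F353190)) (tt N104906 F447876) (tt N74659 F353194) (tt N87695 (iv7 F380157)))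
theorem Q82563 : ∀ i, i < 82563 → P i := stepQ 82562 Q82562 (allL N82562 (tt N60590 F331166) (tt N65118 (iv0 F299382)) (tt N103577 (iv2 F442100)) (tt N104906 (iv3 F447873)) (tt N103575 (iv4 F442090)) (tt N48484 (iv5 D181681)) (tt N112866 D216117) (tt N87696 (iv7 F380160)))
theorem Q82564 : ∀ i, i < 82564 → P i := stepQ 82563 Q82563 (allL N82563 (tt N68288 F354310) (tt N68286 F354313) (tt N99788 (iv2 F426214)) (tt N48487 F282799) (tt N84229 (iv4 F368608)) (tt N48486 (iv5 D181684)) (tt N75663 (iv6 F354312)) (tt N99857 (iv7 F426571)))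
theorem Q82565 : ∀ i, i < 82565 → P i := stepQ 82564 Q82564 (allL N82564 (tt N69139 (iv1 F354311)) (tt N80482 (iv0 F354308)) (tt N80401 (iv2 F366790)) (tt N112313 (iv3 F480498)) (tt N48487 (iv4 D181686)) (tt N103575 (iv5 F442089)) (tt N109232 (iv6 F465893)) (tt N101700 (iv7 F433943)))
theorem Q82566 : ∀ i, i < 82566 → P i := stepQ 82565 Q82565 (allL N82565 (tt N81766 F383871) (tt N81675 (iv0 F365986)) (tt N81764 F361745) (tt N48488 (iv3 D181689)) (tt N79803 F366964) (tt N110278 (iv5 F470800)) (tt N51611 (iv6 F366965)) (tt N81765 (iv7 F361744)))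
theorem Q82567 : ∀ i, i < 82567 → P i := stepQ 82566 Q82566 (allL N82566 (tt N65118 (iv1 F299383)) (tt N60590 (iv0 F331162)) (tt N87696 (iv2 F380159)) (tt N110278 (iv3 F470798)) (tt N103576 (iv4 F442097)) (tt N48488 (iv5 D181690)) (tt N110277 F470796) (tt N103577 (iv7 F442102)))
theorem Q82568 : ∀ i, i < 82568 → P i := stepQ 82567 Q82567 (allL N82567 (tt N79678 (iv1 F282819)) (tt N48489 (iv0 D181694)) (tt N79677 F367212) (tt N94793 F405969) (tt N111749 (iv4 F477778)) (tt N54881 F282818) (tt N112867 D216118) (tt N79676 F367211))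
theorem Q82569 : ∀ i, i < 82569 → P i := stepQ 82568 Q82568 (allL N82568 (tt N48489 (iv1 D181695)) (tt N79678 F282824) (tt N79676 (iv2 F367214)) (tt N112868 D216119) (tt N111112 (iv4 F474723)) (tt N86857 (iv5 F377457)) (tt N87775 (iv6 F399480)) (tt N79677 F367213))
theorem Q82570 : ∀ i, i < 82570 → P i := stepQ 82569 Q82569 (allL N82569 (tt N79677 (iv1 F282825)) (tt N79676 F282823) (tt N48489 (iv2 D181696)) (tt N79360 F282820) (tt N49352 F282821) (tt N88301 (iv5 F382506)) (tt N97117 (iv6 F415519)) (tt N79678 F282822))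
theorem Q82571 : ∀ i, i < 82571 → P i := stepQ 82570 Q82570 (allL N82570 (tt N79360 (iv1 F282830)) (tt N48490 (iv0 D181699)) (tt N79359 (iv2 F282834)) (tt N82401 F334648) (tt N102017 (iv4 F435358)) (tt N80225 (iv5 F382706)) (tt N82399 (iv6 F364523)) (tt N79358 (iv7 F282836)))
theorem Q82572 : ∀ i, i < 82572 → P i := stepQ 82571 Q82571 (allL N82571 (tt N48490 (iv1 D181700)) (tt N79360 F282837) (tt N79358 F282835) (tt N79714 (iv3 F282831)) (tt N78455 (iv4 F282832)) (tt N80226 F356069) (tt N112869 D216120) (tt N79359 F282833))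
theorem Q82573 : ∀ i, i < 82573 → P i := stepQ 82572 Q82572 (allL N82572 (tt N79359 (iv1 F282841)) (tt N79358 F282840) (tt N48490 (iv2 D181701)) (tt N79678 F282838) (tt N111026 (iv4 F474322)) (tt N88281 (iv5 F382451)) (tt N112870 D216121) (tt N79360 F282839))
theorem Q82574 : ∀ i, i < 82574 → P i := stepQ 82573 Q82573 (allL N82573 (tt N81767 F382449) (tt N97419 (iv0 F416817)) (tt N112870 (iv2 F483058)) (tt N48491 F282844) (tt N95697 (iv4 F409183)) (tt N102194 (iv5 F436122)) (tt N48490 (iv6 D181703)) (tt N95440 (iv7 F408192)))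
theorem Q82575 : ∀ i, i < 82575 → P i := stepQ 82574 Q82574 (allL N82574 (tt N72345 (iv1 F341570)) (tt N72368 F341571) (tt N72366 (iv2 F352846)) (tt N90336 (iv3 F389374)) (tt N89109 F385193) (tt N48496 (iv5 D181739)) (tt N78982 (iv6 F355766)) (tt N72365 F352845))
theorem Q82576 : ∀ i, i < 82576 → P i := stepQ 82575 Q82575 (allL N82575 (tt N73911 (iv1 F341573)) (tt N75563 (iv0 F282907)) (tt N90581 F390167) (tt N78341 F357692) (tt N48497 F282906) (tt N73849 (iv5 F355736)) (tt N48496 (iv6 D181740)) (tt N112737 (iv7 F482444)))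
theorem Q82577 : ∀ i, i < 82577 → P i := stepQ 82576 Q82576 (allL N82576 (tt N106995 (iv1 F456573)) (tt N66550 (iv0 F340691)) (tt N76127 F282908) (tt N72232 (iv3 F312813)) (tt N73867 F340689) (tt N48497 (iv5 D181743)) (tt N48498 F282910) (tt N81704 (iv7 F348031)))
theorem Q82578 : ∀ i, i < 82578 → P i := stepQ 82577 Q82577 (allL N82577 (tt N62817 F282920) (tt N61491 (iv0 F340675)) (tt N74926 F282918) (tt N69502 (iv3 F360263)) (tt N48498 (iv4 D181745)) (tt N57276 F340673) (tt N73867 (iv6 F340688)) (tt N55815 (iv7 F353423)))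
theorem Q82579 : ∀ i, i < 82579 → P i := stepQ 82578 Q82578 (allL N82578 (tt N73099 (iv1 F348056)) (tt N73165 (iv0 F348057)) (tt N72222 (iv2 F348053)) (tt N48505 F282922) (tt N78256 F352803) (tt N99045 (iv5 F423125)) (tt N48499 (iv6 D181746)) (tt N73166 F348048))
theorem Q82580 : ∀ i, i < 82580 → P i := stepQ 82579 Q82579 (allL N82579 (tt N72368 (iv1 F359447)) (tt N72345 F352847) (tt N72365 F352844) (tt N71206 (iv3 F352831)) (tt N76479 F342025) (tt N48504 (iv5 D181757)) (tt N112871 D216122) (tt N72366 F352843))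
theorem Q82581 : ∀ i, i < 82581 → P i := stepQ 82580 Q82580 (allL N82580 (tt N110633 F472519) (tt N101917 (iv0 F434944)) (tt N71200 F366310) (tt N48506 (iv3 D181759)) (tt N57755 F366311) (tt N85612 F373209) (tt N71834 (iv6 F366309)) (tt N72356 F366312))
theorem Q82582 : ∀ i, i < 82582 → P i := stepQ 82581 Q82581 (allL N82581 (tt N101469 (iv1 F433056)) (tt N101096 (iv0 F431655)) (tt N72359 F359398) (tt N85612 (iv3 F373210)) (tt N89103 (iv4 F385163)) (tt N48506 (iv5 D181760)) (tt N112872 D216123) (tt N72357 F359397))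
theorem Q82583 : ∀ i, i < 82583 → P i := stepQ 82582 Q82582 (allL N82582 (tt N99493 (iv1 F424836)) (tt N94470 F404607) (tt N78150 F361944) (tt N48509 F282929) (tt N72318 (iv4 F346677)) (tt N64650 (iv5 F346680)) (tt N48507 (iv6 D181764)) (tt N73662 (iv7 F359917)))
theorem Q82584 : ∀ i, i < 82584 → P i := stepQ 82583 Q82583 (allL N82583 (tt N101096 (iv1 F431656)) (tt N101469 (iv0 F433055)) (tt N72357 (iv2 F352964)) (tt N54043 (iv3 F352962)) (tt N64737 (iv4 F351900)) (tt N48508 (iv5 D181766)) (tt N54040 F352963) (tt N72359 (iv7 F352970)))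
theorem Q82585 : ∀ i, i < 82585 → P i := stepQ 82584 Q82584 (allL N82584 (tt N94203 F403687) (tt N82181 (iv0 F372117)) (tt N110771 (iv2 F473116)) (tt N48511 (iv3 D181796)) (tt N102743 (iv4 F438451)) (tt N75159 F428695) (tt N112503 (iv6 F481394)) (tt N112734 (iv7 F482426)))
theorem Q82586 : ∀ i, i < 82586 → P i := stepQ 82585 Q82585 (allL N82585 (tt N75783 (iv1 F282972)) (tt N75782 F282973) (tt N48513 F282970) (tt N97362 (iv3 F416506)) (tt N82502 (iv4 F355099)) (tt N48512 (iv5 D181800)) (tt N80535 F355100) (tt N75784 F282971))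
theorem Q82587 : ∀ i, i < 82587 → P i := stepQ 82586 Q82586 (allL N82586 (tt N75784 (iv1 F282974)) (tt N48513 (iv0 D181801)) (tt N75783 (iv2 F346449)) (tt N57499 F354571) (tt N75786 (iv4 F346448)) (tt N81488 F346479) (tt N57498 (iv6 F346418)) (tt N75782 F346446))
theorem Q82588 : ∀ i, i < 82588 → P i := stepQ 82587 Q82587 (allL N82587 (tt N48513 (iv1 D181802)) (tt N75784 F282975) (tt N75782 (iv2 F344861)) (tt N100489 (iv3 F429140)) (tt N80892 (iv4 F344805)) (tt N81489 F344809) (tt N78575 F344807) (tt N75783 (iv7 F346452)))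
theorem Q82589 : ∀ i, i < 82589 → P i := stepQ 82588 Q82588 (allL N82588 (tt N82075 (iv1 F361356)) (tt N80670 F348517) (tt N82502 F355098) (tt N75207 F282976) (tt N48513 (iv4 D181803)) (tt N81048 F344827) (tt N79439 (iv6 F355091)) (tt N75205 F282977))
theorem Q82590 : ∀ i, i < 82590 → P i := stepQ 82589 Q82589 (allL N82589 (tt N78578 (iv1 F346568)) (tt N80537 (iv0 F346562)) (tt N80535 (iv2 F355101)) (tt N48514 F282978) (tt N79439 F342202) (tt N66764 F282979) (tt N48513 (iv6 D181804)) (tt N74746 F282980))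
theorem Q82591 : ∀ i, i < 82591 → P i := stepQ 82590 Q82590 (allL N82590 (tt N52241 (iv1 F283164)) (tt N48517 (iv0 D181879)) (tt N52240 F370112) (tt N82818 (iv3 F284402)) (tt N112873 D216124) (tt N82947 F365942) (tt N91918 (iv6 F394957)) (tt N52239 (iv7 F370111)))
theorem Q82592 : ∀ i, i < 82592 → P i := stepQ 82591 Q82591 (allL N82591 (tt N48517 (iv1 D181880)) (tt N52241 F283169) (tt N52239 (iv2 F370109)) (tt N83519 F370984) (tt N82772 (iv4 F283981)) (tt N82948 F367090) (tt N55268 (iv6 F367091)) (tt N52240 F370113))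
theorem Q82593 : ∀ i, i < 82593 → P i := stepQ 82592 Q82592 (allL N82592 (tt N52240 (iv1 F283170)) (tt N52239 F283168) (tt N48517 (iv2 D181881)) (tt N50526 F283165) (tt N48654 F283166) (tt N88343 (iv5 F382662)) (tt N52277 (iv6 F367147)) (tt N52241 F283167))
theorem Q82594 : ∀ i, i < 82594 → P i := stepQ 82593 Q82593 (allL N82593 (tt N48518 (iv1 D181884)) (tt N50526 (iv0 F283176)) (tt N49278 F283174) (tt N52131 (iv3 F367076)) (tt N50794 (iv4 F283173)) (tt N86282 (iv5 F375678)) (tt N54450 F367062) (tt N50529 F283175))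
theorem Q82595 : ∀ i, i < 82595 → P i := stepQ 82594 Q82594 (allL N82594 (tt N50529 (iv1 F283182)) (tt N49278 F283181) (tt N48518 (iv2 D181885)) (tt N52241 F283178) (tt N50151 F283179) (tt N52141 (iv5 F356265)) (tt N55292 (iv6 F352884)) (tt N50526 F283180))
theorem Q82596 : ∀ i, i < 82596 → P i := stepQ 82595 Q82595 (allL N82595 (tt N82816 F284400) (tt N82818 F370115) (tt N91415 (iv2 F393033)) (tt N48520 (iv3 D181893)) (tt N91415 (iv4 F393034)) (tt N88338 (iv5 F382644)) (tt N91760 (iv6 F394333)) (tt N84676 (iv7 F370173)))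
theorem Q82597 : ∀ i, i < 82597 → P i := stepQ 82596 Q82596 (allL N82596 (tt N52400 (iv1 F365035)) (tt N52681 F365034) (tt N48522 F283195) (tt N84656 (iv3 F370072)) (tt N112849 (iv4 F482953)) (tt N48521 (iv5 D181897)) (tt N97151 (iv6 F415689)) (tt N84677 (iv7 F370178)))
theorem Q82598 : ∀ i, i < 82598 → P i := stepQ 82597 Q82597 (allL N82597 (tt N48522 (iv1 D181899)) (tt N84677 (iv0 F370179)) (tt N52681 F365109) (tt N112874 D216125) (tt N81608 F365110) (tt N49983 (iv5 F365108)) (tt N112875 D216126) (tt N52400 F365111))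
theorem Q82599 : ∀ i, i < 82599 → P i := stepQ 82598 Q82598 (allL N82598 (tt N87396 (iv1 F379230)) (tt N87525 (iv0 F379656)) (tt N112849 (iv2 F482955)) (tt N81573 F283196) (tt N48522 (iv4 D181900)) (tt N81571 (iv5 F283197)) (tt N97156 (iv6 F415703)) (tt N84678 (iv7 F370183)))
theorem Q82600 : ∀ i, i < 82600 → P i := stepQ 82599 Q82599 (allL N82599 (tt N84661 (iv1 F370087)) (tt N48524 (iv0 D181905)) (tt N84659 (iv2 F377487)) (tt N96909 (iv3 F414562)) (tt N88318 (iv4 F382565)) (tt N96005 (iv5 F410602)) (tt N86863 F377486) (tt N84660 (iv7 F377489)))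
theorem Q82601 : ∀ i, i < 82601 → P i := stepQ 82600 Q82600 (allL N82600 (tt N48524 (iv1 D181906)) (tt N84661 F370086) (tt N84660 F377490) (tt N69593 (iv3 F377491)) (tt N88319 F382570) (tt N90708 (iv5 F390585)) (tt N104784 (iv6 F447253)) (tt N84659 F377488))
theorem Q82602 : ∀ i, i < 82602 → P i := stepQ 82601 Q82601 (allL N82601 (tt N84660 (iv1 F370081)) (tt N84659 F370085) (tt N84661 (iv2 F370083)) (tt N97140 (iv3 F415635)) (tt N111668 (iv4 F477389)) (tt N55287 (iv5 F294975)) (tt N84682 (iv6 F370201)) (tt N48524 (iv7 D181907)))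
theorem Q82603 : ∀ i, i < 82603 → P i := stepQ 82602 Q82602 (allL N82602 (tt N48793 (iv1 F295113)) (tt N48525 (iv0 D181908)) (tt N48792 F294751) (tt N53033 F294752) (tt N87099 (iv4 F378366)) (tt N87837 (iv5 F380770)) (tt N48723 F294753) (tt N48682 F294754))
theorem Q82604 : ∀ i, i < 82604 → P i := stepQ 82603 Q82603 (allL N82603 (tt N84656 F370075) (tt N49201 F344361) (tt N52700 (iv2 F295363)) (tt N87609 (iv3 F379871)) (tt N112876 D216127) (tt N48526 (iv5 D181923)) (tt N86799 (iv6 F377240)) (tt N52454 (iv7 F295362)))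
theorem Q82605 : ∀ i, i < 82605 → P i := stepQ 82604 Q82604 (allL N82604 (tt N52704 (iv1 F294710)) (tt N52703 (iv0 F294709)) (tt N48528 F283225) (tt N52682 (iv3 F294700)) (tt N112877 D216128) (tt N48527 (iv5 D181927)) (tt N67142 F340524) (tt N52701 (iv7 F294713)))
theorem Q82606 : ∀ i, i < 82606 → P i := stepQ 82605 Q82605 (allL N82605 (tt N52701 (iv1 F294712)) (tt N48528 (iv0 D181928)) (tt N52704 (iv2 F356270)) (tt N87623 (iv3 F379916)) (tt N112878 D216129) (tt N49974 F356262) (tt N96957 (iv6 F414773)) (tt N52703 (iv7 F356271)))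
theorem Q82607 : ∀ i, i < 82607 → P i := stepQ 82606 Q82606 (allL N82606 (tt N112879 D216130) (tt N51356 (iv0 F376513)) (tt N112877 (iv2 F483097)) (tt N111655 (iv3 F477328)) (tt N48528 (iv4 D181930)) (tt N112880 D216131) (tt N112881 D216132) (tt N52705 (iv7 F294714)))
theorem Q82608 : ∀ i, i < 82608 → P i := stepQ 82607 Q82607 (allL N82607 (tt N71588 (iv1 F340527)) (tt N71587 (iv0 F340521)) (tt N67142 (iv2 F340523)) (tt N48530 F283226) (tt N112881 (iv4 F483121)) (tt N70889 (iv5 F331273)) (tt N48528 (iv6 D181931)) (tt N71585 F340525))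
theorem Q82609 : ∀ i, i < 82609 → P i := stepQ 82608 Q82608 (allL N82608 (tt N68782 F347531) (tt N68796 (iv0 F348724)) (tt N52690 (iv2 F294507)) (tt N85464 (iv3 F372715)) (tt N82821 (iv4 F284452)) (tt N51667 (iv5 F348710)) (tt N48529 (iv6 D181932)) (tt N104786 (iv7 F447266)))
theorem Q82610 : ∀ i, i < 82610 → P i := stepQ 82609 Q82609 (allL N82609 (tt N52698 (iv1 F294707)) (tt N48530 (iv0 D181933)) (tt N52696 F355421) (tt N54905 (iv3 F355616)) (tt N88283 (iv4 F382454)) (tt N67129 F339724) (tt N91649 (iv6 F393894)) (tt N52697 (iv7 F355418)))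
theorem Q82611 : ∀ i, i < 82611 → P i := stepQ 82610 Q82610 (allL N82610 (tt N52697 (iv1 F294704)) (tt N52696 (iv0 F294703)) (tt N52698 (iv2 F294708)) (tt N71585 (iv3 F340526)) (tt N111659 (iv4 F477345)) (tt N71576 (iv5 F331275)) (tt N52712 (iv6 F294715)) (tt N48530 (iv7 D181935)))
theorem Q82612 : ∀ i, i < 82612 → P i := stepQ 82611 Q82611 (allL N82611 (tt N110321 (iv1 F471037)) (tt N89165 (iv0 F385415)) (tt N53932 F283232) (tt N48537 F283233) (tt N112882 D216133) (tt N48532 (iv5 D181939)) (tt N48535 F283234) (tt N100592 (iv7 F429599)))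
theorem Q82613 : ∀ i, i < 82613 → P i := stepQ 82612 Q82612 (allL N82612 (tt N52906 (iv1 F353212)) (tt N52902 (iv0 F335693)) (tt N52903 (iv2 F364399)) (tt N49438 F283241) (tt N48533 (iv4 D181942)) (tt N112883 D216134) (tt N88989 (iv6 F384684)) (tt N52904 (iv7 F364398)))
theorem Q82614 : ∀ i, i < 82614 → P i := stepQ 82613 Q82613 (allL N82613 (tt N52902 (iv1 F335694)) (tt N52906 (iv0 F353211)) (tt N52904 (iv2 F364396)) (tt N53070 F283243) (tt N48534 (iv4 D181945)) (tt N110094 (iv5 F469959)) (tt N88789 (iv6 F384155)) (tt N52903 (iv7 F364402)))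
theorem Q82615 : ∀ i, i < 82615 → P i := stepQ 82614 Q82614 (allL N82614 (tt N83498 F289315) (tt N84286 (iv0 F368806)) (tt N83687 (iv2 F288497)) (tt N88110 (iv3 F381822)) (tt N53074 (iv4 F363127)) (tt N48534 (iv5 D181946)) (tt N53077 F363135) (tt N83685 (iv7 F288484)))
theorem Q82616 : ∀ i, i < 82616 → P i := stepQ 82615 Q82615 (allL N82615 (tt N83690 (iv1 F288518)) (tt N48535 (iv0 D181948)) (tt N83688 F288502) (tt N111290 (iv3 F475658)) (tt N88861 (iv4 F384372)) (tt N50161 (iv5 F295167)) (tt N112884 D216135) (tt N83025 (iv7 F285539)))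
theorem Q82617 : ∀ i, i < 82617 → P i := stepQ 82616 Q82616 (allL N82616 (tt N48535 (iv1 D181949)) (tt N83690 F288517) (tt N83025 (iv2 F285532)) (tt N112885 D216136) (tt N100864 (iv4 F430819)) (tt N52723 (iv5 F283244)) (tt N112886 D216137) (tt N83688 (iv7 F288504)))
theorem Q82618 : ∀ i, i < 82618 → P i := stepQ 82617 Q82617 (allL N82617 (tt N112887 D216138) (tt N112888 D216139) (tt N83689 (iv2 F288513)) (tt N109760 F468490) (tt N48535 (iv4 D181950)) (tt N76989 (iv5 F363274)) (tt N112882 (iv6 F483127)) (tt N112889 D216140))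
theorem Q82619 : ∀ i, i < 82619 → P i := stepQ 82618 Q82618 (allL N82618 (tt N83025 F285535) (tt N83688 F288505) (tt N83690 (iv2 F288514)) (tt N48541 F283245) (tt N112889 (iv4 F483151)) (tt N48536 F283246) (tt N109711 (iv6 F468232)) (tt N48535 (iv7 D181951)))
theorem Q82620 : ∀ i, i < 82620 → P i := stepQ 82619 Q82619 (allL N82619 (tt N77073 (iv1 F365224)) (tt N77070 F351882) (tt N48570 F283249) (tt N112890 D216141) (tt N48537 (iv4 D181962)) (tt N91673 (iv5 F393981)) (tt N48540 F283250) (tt N100593 (iv7 F429604)))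
theorem Q82621 : ∀ i, i < 82621 → P i := stepQ 82620 Q82620 (allL N82620 (tt N48538 (iv1 D181965)) (tt N48572 F283261) (tt N48571 F364166) (tt N84709 (iv3 F370301)) (tt N85791 (iv4 F373953)) (tt N83337 (iv5 F287442)) (tt N84101 (iv6 F368111)) (tt N48562 F364167))
theorem Q82622 : ∀ i, i < 82622 → P i := stepQ 82621 Q82621 (allL N82621 (tt N48562 F333363) (tt N48571 F283260) (tt N48538 (iv2 D181966)) (tt N48579 F283257) (tt N50752 F283258) (tt N112891 D216142) (tt N55312 (iv6 F340067)) (tt N48572 F283259))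
theorem Q82623 : ∀ i, i < 82623 → P i := stepQ 82622 Q82622 (allL N82622 (tt N112892 D216143) (tt N90187 (iv0 F388821)) (tt N112891 (iv2 F483159)) (tt N48539 F283263) (tt N112893 D216144) (tt N48538 (iv5 D181967)) (tt N110182 (iv6 F470304)) (tt N48573 F283264))
theorem Q82624 : ∀ i, i < 82624 → P i := stepQ 82623 Q82623 (allL N82623 (tt N48593 (iv1 F283273)) (tt N48540 (iv0 D181970)) (tt N48589 (iv2 F283272)) (tt N112894 D216145) (tt N48689 F283271) (tt N48842 F283270) (tt N83516 F329951) (tt N48590 F283274))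
theorem Q82625 : ∀ i, i < 82625 → P i := stepQ 82624 Q82624 (allL N82624 (tt N112895 D216146) (tt N112896 D216147) (tt N112897 D216148) (tt N48540 (iv3 D181971)) (tt N109760 (iv4 F468492)) (tt N49124 F283278) (tt N112890 (iv6 F483156)) (tt N49123 F283279))
theorem Q82626 : ∀ i, i < 82626 → P i := stepQ 82625 Q82625 (allL N82625 (tt N51224 F283285) (tt N83346 (iv0 F287451)) (tt N48603 F283282) (tt N112898 D216149) (tt N48543 (iv4 D181973)) (tt N48831 F283284) (tt N110164 (iv6 F470248)) (tt N48615 F283283))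
theorem Q82627 : ∀ i, i < 82627 → P i := stepQ 82626 Q82626 (allL N82626 (tt N112899 D216150) (tt N112900 D216151) (tt N48604 F283286) (tt N88544 (iv3 F383472)) (tt N110164 (iv4 F470246)) (tt N86757 (iv5 F377077)) (tt N48543 (iv6 D181974)) (tt N110162 (iv7 F470235)))
theorem Q82628 : ∀ i, i < 82628 → P i := stepQ 82627 Q82627 (allL N82627 (tt N54648 F283294) (tt N49080 F337954) (tt N48690 F283292) (tt N112901 D216152) (tt N48545 (iv4 D181977)) (tt N49134 F283293) (tt N77079 (iv6 F306629)) (tt N82689 (iv7 F283642)))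
theorem Q82629 : ∀ i, i < 82629 → P i := stepQ 82628 Q82628 (allL N82628 (tt N69227 (iv1 F363997)) (tt N84087 (iv0 F368051)) (tt N107096 (iv2 F456944)) (tt N69171 (iv3 F338360)) (tt N48548 (iv4 D181983)) (tt N80068 F295103) (tt N69244 (iv6 F338591)) (tt N69245 (iv7 F337816)))
theorem Q82630 : ∀ i, i < 82630 → P i := stepQ 82629 Q82629 (allL N82629 (tt N48549 (iv1 D181992)) (tt N48788 F283312) (tt N48786 F310659) (tt N70373 (iv3 F365708)) (tt N83300 (iv4 F287227)) (tt N55352 (iv5 F283313)) (tt N103419 (iv6 F441542)) (tt N48785 F310660))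
theorem Q82631 : ∀ i, i < 82631 → P i := stepQ 82630 Q82630 (allL N82630 (tt N88920 (iv1 F384538)) (tt N83927 (iv0 F367954)) (tt N75864 F283406) (tt N48555 F283407) (tt N67714 (iv4 F355253)) (tt N48551 (iv5 D182024)) (tt N48552 F283408) (tt N88898 (iv7 F384476)))
theorem Q82632 : ∀ i, i < 82632 → P i := stepQ 82631 Q82631 (allL N82631 (tt N106404 F454315) (tt N112902 D216153) (tt N88531 (iv2 F383428)) (tt N112903 D216154) (tt N48552 (iv4 D182025)) (tt N112904 D216155) (tt N67714 F355254) (tt N86727 (iv7 F377007)))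
theorem Q82633 : ∀ i, i < 82633 → P i := stepQ 82632 Q82632 (allL N82632 (tt N48722 (iv1 F283431)) (tt N48555 (iv0 D182030)) (tt N48719 F364044) (tt N81872 F364053) (tt N83292 (iv4 F364049)) (tt N63994 F364045) (tt N85852 (iv6 F374216)) (tt N48720 F364046))
theorem Q82634 : ∀ i, i < 82634 → P i := stepQ 82633 Q82633 (allL N82633 (tt N48555 (iv1 D182031)) (tt N48722 F283425) (tt N48720 F309401) (tt N109704 (iv3 F468202)) (tt N83293 (iv4 F287203)) (tt N55337 (iv5 F283426)) (tt N108450 (iv6 F462634)) (tt N48719 F309402))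
theorem Q82635 : ∀ i, i < 82635 → P i := stepQ 82634 Q82634 (allL N82634 (tt N88455 (iv1 F383121)) (tt N88457 (iv0 F383131)) (tt N48721 F283427) (tt N85296 F372191) (tt N48555 (iv4 D182032)) (tt N52038 (iv5 F356677)) (tt N48560 F283428) (tt N52037 F356678))
theorem Q82636 : ∀ i, i < 82636 → P i := stepQ 82635 Q82635 (allL N82635 (tt N48720 (iv1 F283432)) (tt N48719 F283433) (tt N48722 F283429) (tt N88898 (iv3 F384474)) (tt N52037 (iv4 F356679)) (tt N48556 F283430) (tt N86731 (iv6 F377014)) (tt N48555 (iv7 D182033)))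
theorem Q82637 : ∀ i, i < 82637 → P i := stepQ 82636 Q82636 (allL N82636 (tt N49096 F283436) (tt N51453 F283437) (tt N48727 F283434) (tt N98331 (iv3 F420524)) (tt N48557 (iv4 D182034)) (tt N82641 (iv5 F283449)) (tt N109801 (iv6 F468683)) (tt N48729 F283435))
theorem Q82638 : ∀ i, i < 82638 → P i := stepQ 82637 Q82637 (allL N82637 (tt N112905 D216156) (tt N112906 D216157) (tt N48728 F283438) (tt N85416 (iv3 F372543)) (tt N109801 (iv4 F468682)) (tt N55348 F283439) (tt N48557 (iv6 D182035)) (tt N112907 D216158))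
theorem Q82639 : ∀ i, i < 82639 → P i := stepQ 82638 Q82638 (allL N82638 (tt N50578 (iv1 F295201)) (tt N49609 F283444) (tt N48733 F283440) (tt N109643 (iv3 F467895)) (tt N48558 (iv4 D182036)) (tt N52137 F283442) (tt N109641 (iv6 F467888)) (tt N48735 F283441))
theorem Q82640 : ∀ i, i < 82640 → P i := stepQ 82639 Q82639 (allL N82639 (tt N112908 D216159) (tt N109450 (iv0 F467019)) (tt N48734 F283445) (tt N72810 F359693) (tt N109641 F467887) (tt N72809 (iv5 F359695)) (tt N48558 (iv6 D182037)) (tt N110267 (iv7 F470732)))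
theorem Q82641 : ∀ i, i < 82641 → P i := stepQ 82640 Q82640 (allL N82640 (tt N87251 (iv1 F378878)) (tt N87636 (iv0 F379960)) (tt N85418 (iv2 F372553)) (tt N48559 (iv3 D182038)) (tt N86286 (iv4 F375692)) (tt N48882 F283446) (tt N112909 D216160) (tt N48732 F283447))
theorem Q82642 : ∀ i, i < 82642 → P i := stepQ 82641 Q82641 (allL N82641 (tt N49609 F283451) (tt N50578 (iv0 F295200)) (tt N48735 F283448) (tt N112910 D216161) (tt N48559 (iv4 D182039)) (tt N82636 F283449) (tt N99591 F425315) (tt N48733 F283450))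
theorem Q82643 : ∀ i, i < 82643 → P i := stepQ 82642 Q82642 (allL N82642 (tt N107830 (iv1 F459903)) (tt N103017 (iv0 F439689)) (tt N48736 F283453) (tt N112909 (iv3 F483239)) (tt N99591 (iv4 F425312)) (tt N48885 F283454) (tt N48559 (iv6 D182040)) (tt N112911 D216162))
theorem Q82644 : ∀ i, i < 82644 → P i := stepQ 82643 Q82643 (allL N82643 (tt N98240 F420101) (tt N98238 (iv0 F420094)) (tt N112912 D216163) (tt N48560 (iv3 D182041)) (tt N112903 (iv4 F483209)) (tt N82922 (iv5 F284758)) (tt N85296 (iv6 F372193)) (tt N82921 F284756))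
theorem Q82645 : ∀ i, i < 82645 → P i := stepQ 82644 Q82644 (allL N82644 (tt N48584 F333367) (tt N83320 F333368) (tt N83336 (iv2 F364160)) (tt N88805 (iv3 F384210)) (tt N112913 D216164) (tt N48562 (iv5 D182048)) (tt N83230 (iv6 F286392)) (tt N83337 F364165))
theorem Q82646 : ∀ i, i < 82646 → P i := stepQ 82645 Q82645 (allL N82645 (tt N79034 F283458) (tt N51481 (iv0 F283459)) (tt N51468 (iv2 F344305)) (tt N84103 (iv3 F368120)) (tt N48563 (iv4 D182051)) (tt N108808 (iv5 F464047)) (tt N112914 D216165) (tt N79033 F344306))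
theorem Q82647 : ∀ i, i < 82647 → P i := stepQ 82646 Q82646 (allL N82646 (tt N55312 F349304) (tt N55145 F349305) (tt N55311 (iv2 F361033)) (tt N54025 F283460) (tt N112914 (iv4 F483259)) (tt N54023 F283461) (tt N48563 (iv6 D182053)) (tt N55310 (iv7 F361026)))
theorem Q82648 : ∀ i, i < 82648 → P i := stepQ 82647 Q82647 (allL N82647 (tt N51278 F283464) (tt N82794 (iv0 F294968)) (tt N83827 (iv2 F344264)) (tt N48564 (iv3 D182055)) (tt N51396 F283463) (tt N106895 (iv5 F456171)) (tt N112915 D216166) (tt N82798 (iv7 F344271)))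
theorem Q82649 : ∀ i, i < 82649 → P i := stepQ 82648 Q82648 (allL N82648 (tt N51597 (iv1 F344367)) (tt N82767 F344327) (tt N82768 (iv2 F344333)) (tt N106895 (iv3 F456169)) (tt N112916 D216167) (tt N48564 (iv5 D182056)) (tt N112917 D216168) (tt N82769 (iv7 F362419)))
theorem Q82650 : ∀ i, i < 82650 → P i := stepQ 82649 Q82649 (allL N82649 (tt N49099 F344328) (tt N84119 F368181) (tt N82797 (iv2 F344314)) (tt N112915 (iv3 F483264)) (tt N86414 (iv4 F376151)) (tt N83044 (iv5 F344318)) (tt N48564 (iv6 D182057)) (tt N83326 (iv7 F344316)))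
theorem Q82651 : ∀ i, i < 82651 → P i := stepQ 82650 Q82650 (allL N82650 (tt N53011 F283465) (tt N102587 F437806) (tt N102484 (iv2 F437393)) (tt N111007 (iv3 F474211)) (tt N48565 (iv4 D182060)) (tt N66180 (iv5 F344978)) (tt N66181 F344983) (tt N82801 F294309))
theorem Q82652 : ∀ i, i < 82652 → P i := stepQ 82651 Q82651 (allL N82651 (tt N76798 F330097) (tt N76796 F330100) (tt N72194 (iv2 F330099)) (tt N48567 F283474) (tt N106921 (iv4 F456285)) (tt N48566 (iv5 D182069)) (tt N80346 F283475) (tt N75809 F330098))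
theorem Q82653 : ∀ i, i < 82653 → P i := stepQ 82652 Q82652 (allL N82652 (tt N100558 (iv1 F429459)) (tt N83230 (iv0 F389109)) (tt N100590 (iv2 F429588)) (tt N48568 (iv3 D182128)) (tt N112918 D216169) (tt N90250 (iv5 F389105)) (tt N112919 D216170) (tt N90249 F389101))
theorem Q82654 : ∀ i, i < 82654 → P i := stepQ 82653 Q82653 (allL N82653 (tt N110157 (iv1 F470215)) (tt N110067 F469821) (tt N86383 (iv2 F376027)) (tt N112919 (iv3 F483276)) (tt N101227 F432301) (tt N83214 F286295) (tt N48568 (iv6 D182131)) (tt N86381 (iv7 F376021)))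
theorem Q82655 : ∀ i, i < 82655 → P i := stepQ 82654 Q82654 (allL N82654 (tt N90355 F417154) (tt N90357 (iv0 F389412)) (tt N90257 (iv2 F389128)) (tt N80521 F366817) (tt N105181 (iv4 F449128)) (tt N90203 (iv5 F388882)) (tt N48569 (iv6 D182135)) (tt N105180 F449129))
theorem Q82656 : ∀ i, i < 82656 → P i := stepQ 82655 Q82655 (allL N82655 (tt N100593 (iv1 F429606)) (tt N48570 (iv0 D182136)) (tt N77073 (iv2 F365222)) (tt N106505 (iv3 F454692)) (tt N76968 F365221) (tt N101785 (iv5 F434334)) (tt N110065 (iv6 F469808)) (tt N77070 (iv7 F365223)))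
theorem Q82657 : ∀ i, i < 82657 → P i := stepQ 82656 Q82656 (allL N82656 (tt N48570 (iv1 D182137)) (tt N100593 (iv0 F429605)) (tt N77070 F365226) (tt N107089 (iv3 F456913)) (tt N76967 (iv4 F306626)) (tt N101784 (iv5 F434331)) (tt N107083 (iv6 F456898)) (tt N77073 F365225))
theorem Q82658 : ∀ i, i < 82658 → P i := stepQ 82657 Q82657 (allL N82657 (tt N112920 D216171) (tt N112921 D216172) (tt N112922 D216173) (tt N48570 (iv3 D182138)) (tt N84173 (iv4 F368418)) (tt N112923 D216174) (tt N48591 F283520) (tt N110991 (iv7 F474125)))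
theorem Q82659 : ∀ i, i < 82659 → P i := stepQ 82658 Q82658 (allL N82658 (tt N82739 (iv1 F338045)) (tt N91674 F393987) (tt N91673 F393982) (tt N112923 (iv3 F483285)) (tt N73769 F350094) (tt N48570 (iv5 D182139)) (tt N112924 D216175) (tt N91672 F432310))
theorem Q82660 : ∀ i, i < 82660 → P i := stepQ 82659 Q82659 (allL N82659 (tt N79040 F283527) (tt N78994 (iv0 F283525)) (tt N85791 (iv2 F373952)) (tt N79004 F283524) (tt N48571 (iv4 D182143)) (tt N78977 (iv5 F342999)) (tt N79004 F287409) (tt N79026 (iv7 F343000)))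
theorem Q82661 : ∀ i, i < 82661 → P i := stepQ 82660 Q82660 (allL N82660 (tt N83320 (iv1 F287406)) (tt N48584 F287410) (tt N83337 F364164) (tt N84080 (iv3 F368033)) (tt N112925 D216176) (tt N48571 (iv5 D182144)) (tt N112926 D216177) (tt N83336 (iv7 F364163)))
theorem Q82662 : ∀ i, i < 82662 → P i := stepQ 82661 Q82661 (allL N82661 (tt N90187 F388822) (tt N112892 F483166) (tt N48573 F283605) (tt N80624 (iv3 F356427)) (tt N112927 D216178) (tt N48572 (iv5 D182151)) (tt N112928 D216179) (tt N112891 (iv7 F483161)))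
theorem Q82663 : ∀ i, i < 82663 → P i := stepQ 82662 Q82662 (allL N82662 (tt N84108 (iv1 F371145)) (tt N86753 F377062) (tt N48574 F283606) (tt N80625 (iv3 F356434)) (tt N50768 F283607) (tt N90169 F388763) (tt N48572 (iv6 D182152)) (tt N86754 (iv7 F377066)))
theorem Q82664 : ∀ i, i < 82664 → P i := stepQ 82663 Q82663 (allL N82663 (tt N112891 (iv1 F483163)) (tt N48573 (iv0 D182153)) (tt N90187 (iv2 F388819)) (tt N84294 (iv3 F368837)) (tt N112929 D216180) (tt N49066 F344234) (tt N112930 D216181) (tt N112892 (iv7 F483167)))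
theorem Q82665 : ∀ i, i < 82665 → P i := stepQ 82664 Q82664 (allL N82664 (tt N48573 (iv1 D182154)) (tt N112891 (iv0 F483162)) (tt N112892 F483165) (tt N112931 D216182) (tt N112932 D216183) (tt N49067 (iv5 F287427)) (tt N112933 D216184) (tt N90187 (iv7 F388820)))
theorem Q82666 : ∀ i, i < 82666 → P i := stepQ 82665 Q82665 (allL N82665 (tt N112934 D216185) (tt N112935 D216186) (tt N112927 (iv2 F483296)) (tt N112936 D216187) (tt N48573 (iv4 D182155)) (tt N112937 D216188) (tt N112938 D216189) (tt N112893 (iv7 F483168)))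
theorem Q82667 : ∀ i, i < 82667 → P i := stepQ 82666 Q82666 (allL N82666 (tt N106211 F483205) (tt N112939 D216190) (tt N112928 (iv2 F483297)) (tt N48577 F283608) (tt N112938 (iv4 F483313)) (tt N90222 (iv5 F388975)) (tt N48573 (iv6 D182156)) (tt N112940 D216191))
theorem Q82668 : ∀ i, i < 82668 → P i := stepQ 82667 Q82667 (allL N82667 (tt N48574 (iv1 D182158)) (tt N86754 F377068) (tt N86753 F377061) (tt N106900 (iv3 F456205)) (tt N112941 D216192) (tt N54174 F283609) (tt N89867 (iv6 F387801)) (tt N84108 F368135))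
theorem Q82669 : ∀ i, i < 82669 → P i := stepQ 82668 Q82668 (allL N82668 (tt N83687 (iv1 F288499)) (tt N83685 (iv0 F288485)) (tt N84286 (iv2 F368803)) (tt N48575 (iv3 D182159)) (tt N112942 D216193) (tt N48950 F283610) (tt N112943 D216194) (tt N83498 (iv7 F287647)))
theorem Q82670 : ∀ i, i < 82670 → P i := stepQ 82669 Q82669 (allL N82669 (tt N48615 F283613) (tt N48603 F283614) (tt N51224 F283611) (tt N100968 (iv3 F431105)) (tt N48575 (iv4 D182160)) (tt N51604 F283612) (tt N110147 F470175) (tt N83346 (iv7 F287450)))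
theorem Q82671 : ∀ i, i < 82671 → P i := stepQ 82670 Q82670 (allL N82670 (tt N110328 (iv1 F471076)) (tt N110330 (iv0 F471084)) (tt N51222 F283615) (tt N112943 (iv3 F483330)) (tt N110147 (iv4 F470178)) (tt N48951 F283616) (tt N48575 (iv6 D182161)) (tt N112944 D216195))
theorem Q82672 : ∀ i, i < 82672 → P i := stepQ 82671 Q82671 (allL N82671 (tt N48582 (iv1 F283624)) (tt N48576 (iv0 D182164)) (tt N82718 (iv2 F283683)) (tt N112945 D216196) (tt N49159 F283623) (tt N49078 (iv5 F337966)) (tt N110327 F471070) (tt N82721 (iv7 F283692)))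
theorem Q82673 : ∀ i, i < 82673 → P i := stepQ 82672 Q82672 (allL N82672 (tt N48576 (iv1 D182165)) (tt N48582 F283625) (tt N82721 (iv2 F283690)) (tt N90732 (iv3 F390678)) (tt N49157 F283627) (tt N49079 (iv5 F337964)) (tt N84333 (iv6 F368936)) (tt N82718 (iv7 F283684)))
theorem Q82674 : ∀ i, i < 82674 → P i := stepQ 82673 Q82673 (allL N82673 (tt N112946 D216197) (tt N112947 D216198) (tt N112948 D216199) (tt N48576 (iv3 D182166)) (tt N112936 (iv4 F483309)) (tt N49112 F283628) (tt N112949 D216200) (tt N110181 F470302))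
theorem Q82675 : ∀ i, i < 82675 → P i := stepQ 82674 Q82674 (allL N82674 (tt N83499 F364081) (tt N92029 F395434) (tt N84332 (iv2 F368930)) (tt N112949 (iv3 F483341)) (tt N48577 F283629) (tt N86928 (iv5 F377739)) (tt N48576 (iv6 D182167)) (tt N92028 (iv7 F395430)))
theorem Q82676 : ∀ i, i < 82676 → P i := stepQ 82675 Q82675 (allL N82675 (tt N84335 (iv1 F368950)) (tt N48577 (iv0 D182168)) (tt N84333 F368937) (tt N108418 (iv3 F462488)) (tt N82722 (iv4 F364083)) (tt N109553 (iv5 F467485)) (tt N82721 F364082) (tt N84334 (iv7 F368942)))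
theorem Q82677 : ∀ i, i < 82677 → P i := stepQ 82676 Q82676 (allL N82676 (tt N48577 (iv1 D182169)) (tt N84335 F368949) (tt N84334 F368943) (tt N84291 F368940) (tt N110163 (iv4 F470240)) (tt N112950 D216201) (tt N110326 F471067) (tt N84333 F368938))
theorem Q82678 : ∀ i, i < 82678 → P i := stepQ 82677 Q82677 (allL N82677 (tt N84334 (iv1 F368941)) (tt N84333 F368944) (tt N84335 (iv2 F368945)) (tt N112940 (iv3 F483317)) (tt N92028 (iv4 F395429)) (tt N90226 (iv5 F388988)) (tt N110026 (iv6 F469617)) (tt N48577 (iv7 D182170)))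
theorem Q82679 : ∀ i, i < 82679 → P i := stepQ 82678 Q82678 (allL N82678 (tt N48587 F335674) (tt N88442 F383068) (tt N84325 (iv2 F368906)) (tt N84037 (iv3 F367880)) (tt N112951 D216202) (tt N48578 (iv5 D182176)) (tt N100589 (iv6 F429585)) (tt N52805 F352775))
theorem Q82680 : ∀ i, i < 82680 → P i := stepQ 82679 Q82679 (allL N82679 (tt N84327 (iv1 F368915)) (tt N84326 F368912) (tt N48580 F283633) (tt N112891 (iv3 F483160)) (tt N112952 D216203) (tt N48579 (iv5 D182178)) (tt N111949 (iv6 F478825)) (tt N80624 (iv7 F356428)))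
theorem Q82681 : ∀ i, i < 82681 → P i := stepQ 82680 Q82680 (allL N82680 (tt N80624 (iv1 F356425)) (tt N48580 (iv0 D182180)) (tt N84327 F368918) (tt N107441 (iv3 F458353)) (tt N107448 (iv4 F458371)) (tt N54645 F356423) (tt N69869 (iv6 F356424)) (tt N84326 F368914))
theorem Q82682 : ∀ i, i < 82682 → P i := stepQ 82681 Q82681 (allL N82681 (tt N48580 (iv1 D182181)) (tt N80624 F356429) (tt N84326 F368913) (tt N84283 F368796) (tt N112953 D216204) (tt N49015 F356415) (tt N110903 (iv6 F473704)) (tt N84327 (iv7 F368916)))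
theorem Q82683 : ∀ i, i < 82683 → P i := stepQ 82682 Q82682 (allL N82682 (tt N100873 F430841) (tt N112954 D216205) (tt N112952 (iv2 F483357)) (tt N100889 (iv3 F430866)) (tt N48580 (iv4 D182182)) (tt N101286 (iv5 F432530)) (tt N100888 F430865) (tt N84328 (iv7 F368920)))
theorem Q82684 : ∀ i, i < 82684 → P i := stepQ 82683 Q82683 (allL N82683 (tt N111950 (iv1 F478833)) (tt N64842 (iv0 F364136)) (tt N111949 F478826) (tt N48583 F283635) (tt N100888 (iv4 F430862)) (tt N72514 (iv5 F364135)) (tt N48580 (iv6 D182183)) (tt N110030 (iv7 F469637)))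
theorem Q82685 : ∀ i, i < 82685 → P i := stepQ 82684 Q82684 (allL N82684 (tt N110026 (iv1 F469620)) (tt N48583 (iv0 D182188)) (tt N110029 F469633) (tt N84299 F388616) (tt N110069 (iv4 F469830)) (tt N73008 F372985) (tt N92804 (iv6 F398300)) (tt N110027 F469627))
theorem Q82686 : ∀ i, i < 82686 → P i := stepQ 82685 Q82685 (allL N82685 (tt N48583 (iv1 D182189)) (tt N110026 (iv0 F469619)) (tt N110027 (iv2 F469621)) (tt N112955 D216206) (tt N65255 F364080) (tt N64733 (iv5 F306666)) (tt N64734 (iv6 F366796)) (tt N110029 (iv7 F469630)))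
theorem Q82687 : ∀ i, i < 82687 → P i := stepQ 82686 Q82686 (allL N82686 (tt N83337 (iv1 F287441)) (tt N83336 F287439) (tt N48584 (iv2 D182192)) (tt N88442 F383070) (tt N112956 D216207) (tt N83321 (iv5 F287416)) (tt N112957 D216208) (tt N83320 F287411))
theorem Q82688 : ∀ i, i < 82688 → P i := stepQ 82687 Q82687 (allL N82687 (tt N112958 D216209) (tt N112959 D216210) (tt N112956 (iv2 F483378)) (tt N112960 D216211) (tt N48584 (iv4 D182193)) (tt N110540 F472060) (tt N112961 D216212) (tt N83338 (iv7 F287443)))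
theorem Q82689 : ∀ i, i < 82689 → P i := stepQ 82688 Q82688 (allL N82688 (tt N112962 D216213) (tt N112963 D216214) (tt N112957 (iv2 F483380)) (tt N48586 F283638) (tt N112961 (iv4 F483389)) (tt N86738 (iv5 F377040)) (tt N48584 (iv6 D182194)) (tt N112964 D216215))
theorem Q82690 : ∀ i, i < 82690 → P i := stepQ 82689 Q82689 (allL N82689 (tt N48588 (iv1 F283641)) (tt N48585 (iv0 D182195)) (tt N82708 (iv2 F283665)) (tt N112965 D216216) (tt N49152 F283640) (tt N49102 F283639) (tt N110157 (iv6 F470213)) (tt N82627 F283642))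
theorem Q82691 : ∀ i, i < 82691 → P i := stepQ 82690 Q82690 (allL N82690 (tt N112966 D216217) (tt N112967 D216218) (tt N112968 D216219) (tt N48585 (iv3 D182196)) (tt N112960 (iv4 F483388)) (tt N49091 F283643) (tt N112964 (iv6 F483392)) (tt N83332 (iv7 F337956)))
theorem Q82692 : ∀ i, i < 82692 → P i := stepQ 82691 Q82691 (allL N82691 (tt N90895 (iv1 F391200)) (tt N90894 F391199) (tt N90893 (iv2 F391192)) (tt N112964 (iv3 F483391)) (tt N48586 F283644) (tt N85075 F371544) (tt N48585 (iv6 D182197)) (tt N48586 F337951))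
theorem Q82693 : ∀ i, i < 82693 → P i := stepQ 82692 Q82692 (allL N82692 (tt N90893 F391196) (tt N48586 (iv0 D182198)) (tt N90894 F439751) (tt N112969 D216220) (tt N83515 F377045) (tt N92825 (iv5 F398394)) (tt N90357 F389414) (tt N90895 (iv7 F439750)))
theorem Q82694 : ∀ i, i < 82694 → P i := stepQ 82693 Q82693 (allL N82693 (tt N48586 (iv1 D182199)) (tt N90893 F391197) (tt N90895 (iv2 F439749)) (tt N84307 F398386) (tt N83514 (iv4 F391198)) (tt N92823 (iv5 F398385)) (tt N105178 F449121) (tt N90894 F439752))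
theorem Q82695 : ∀ i, i < 82695 → P i := stepQ 82694 Q82694 (allL N82694 (tt N52805 F356422) (tt N84325 (iv0 F368909)) (tt N48587 (iv2 D182203)) (tt N83320 (iv3 F287405)) (tt N100860 (iv4 F430807)) (tt N54636 F283645) (tt N112970 D216221) (tt N88442 (iv7 F383069)))
theorem Q82696 : ∀ i, i < 82696 → P i := stepQ 82695 Q82695 (allL N82695 (tt N52909 F290096) (tt N100863 F430816) (tt N100860 F430808) (tt N112971 D216222) (tt N48587 (iv4 D182204)) (tt N110867 (iv5 F473524)) (tt N112971 F483405) (tt N90890 (iv7 F391185)))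
theorem Q82697 : ∀ i, i < 82697 → P i := stepQ 82696 Q82696 (allL N82696 (tt N112972 D216223) (tt N110885 (iv0 F473606)) (tt N112970 (iv2 F483400)) (tt N48588 F337949) (tt N112971 (iv4 F483404)) (tt N49077 (iv5 F337960)) (tt N48587 (iv6 D182205)) (tt N90892 (iv7 F391191)))
theorem Q82698 : ∀ i, i < 82698 → P i := stepQ 82697 Q82697 (allL N82697 (tt N112973 D216224) (tt N99943 (iv0 F478591)) (tt N112974 D216225) (tt N48589 (iv3 D182211)) (tt N112975 D216226) (tt N49185 F283651) (tt N112976 D216227) (tt N83496 (iv7 F287643)))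
theorem Q82699 : ∀ i, i < 82699 → P i := stepQ 82698 Q82698 (allL N82698 (tt N83515 (iv1 F356711)) (tt N83514 F356713) (tt N83516 F356709) (tt N112976 (iv3 F483415)) (tt N49165 F283652) (tt N79045 (iv5 F356701)) (tt N48589 (iv6 D182212)) (tt N82837 (iv7 F356707)))
theorem Q82700 : ∀ i, i < 82700 → P i := stepQ 82699 Q82699 (allL N82699 (tt N112977 D216228) (tt N112978 D216229) (tt N112979 D216230) (tt N48590 (iv3 D182213)) (tt N112980 D216231) (tt N49142 F329856) (tt N49145 F329857) (tt N112894 (iv7 F483170)))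
theorem Q82701 : ∀ i, i < 82701 → P i := stepQ 82700 Q82700 (allL N82700 (tt N112981 D216232) (tt N48591 (iv0 D182215)) (tt N112982 D216233) (tt N112983 D216234) (tt N112984 D216235) (tt N112985 D216236) (tt N112986 D216237) (tt N112987 D216238))
theorem Q82702 : ∀ i, i < 82702 → P i := stepQ 82701 Q82701 (allL N82701 (tt N48591 (iv1 D182216)) (tt N112981 F483432) (tt N112987 (iv2 F483438)) (tt N112988 D216239) (tt N112989 D216240) (tt N112990 D216241) (tt N82834 F483441) (tt N112982 F483433))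
theorem Q82703 : ∀ i, i < 82703 → P i := stepQ 82702 Q82702 (allL N82702 (tt N112982 (iv1 F483459)) (tt N112987 (iv0 F483454)) (tt N48591 (iv2 D182217)) (tt N112897 (iv3 F483184)) (tt N84321 (iv4 F368884)) (tt N112991 D216244) (tt N112922 (iv6 F483284)) (tt N112981 (iv7 F483431)))
theorem Q82704 : ∀ i, i < 82704 → P i := stepQ 82703 Q82703 (allL N82703 (tt N112339 F480646) (tt N112992 D216245) (tt N112991 (iv2 F483448)) (tt N48592 F283655) (tt N112334 (iv4 F480620)) (tt N48591 (iv5 D182218)) (tt N112993 D216246) (tt N48832 (iv7 F283656)))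
theorem Q82705 : ∀ i, i < 82705 → P i := stepQ 82704 Q82704 (allL N82704 (tt N112987 (iv1 F483455)) (tt N112982 (iv0 F483458)) (tt N112981 F483428) (tt N48593 F283657) (tt N84282 (iv4 F368792)) (tt N48832 F283658) (tt N112994 D216247) (tt N48591 (iv7 D182219)))
theorem Q82706 : ∀ i, i < 82706 → P i := stepQ 82705 Q82705 (allL N82705 (tt N110360 (iv1 F471224)) (tt N110359 F471221) (tt N49126 F283659) (tt N112993 (iv3 F483468)) (tt N48833 F283660) (tt N112924 (iv5 F483288)) (tt N48592 (iv6 D182220)) (tt N110247 (iv7 F470623)))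
theorem Q82707 : ∀ i, i < 82707 → P i := stepQ 82706 Q82706 (allL N82706 (tt N110173 (iv1 F470282)) (tt N81074 (iv0 F358782)) (tt N49125 F283661) (tt N112994 (iv3 F483471)) (tt N48594 F283662) (tt N109317 (iv5 F466357)) (tt N48593 (iv6 D182221)) (tt N101229 (iv7 F432307)))
theorem Q82708 : ∀ i, i < 82708 → P i := stepQ 82707 Q82707 (allL N82707 (tt N88827 (iv1 F384279)) (tt N88826 F384278) (tt N88829 (iv2 F384286)) (tt N48596 F283663) (tt N54365 (iv4 F368851)) (tt N48595 (iv5 D182224)) (tt N54368 F368852) (tt N48687 F283664))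
theorem Q82709 : ∀ i, i < 82709 → P i := stepQ 82708 Q82708 (allL N82708 (tt N49080 F337955) (tt N54648 F283669) (tt N82689 F283665) (tt N90823 F390984) (tt N48596 (iv4 D182225)) (tt N48853 F283666) (tt N112995 D216248) (tt N48690 F283667))
theorem Q82710 : ∀ i, i < 82710 → P i := stepQ 82709 Q82709 (allL N82709 (tt N77057 (iv1 F366702)) (tt N77056 F366701) (tt N77059 (iv2 F314204)) (tt N54368 (iv3 F368855)) (tt N112995 (iv4 F483474)) (tt N76959 F366699) (tt N48596 (iv6 D182226)) (tt N76962 F366700))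
theorem Q82711 : ∀ i, i < 82711 → P i := stepQ 82710 Q82710 (allL N82710 (tt N83474 F335703) (tt N49163 F335704) (tt N83483 F335705) (tt N64319 F335706) (tt N99782 (iv4 F426192)) (tt N48597 (iv5 D182229)) (tt N112996 D216249) (tt N48694 F335707))
theorem Q82712 : ∀ i, i < 82712 → P i := stepQ 82711 Q82711 (allL N82711 (tt N83510 F335587) (tt N83508 F335588) (tt N48599 F283678) (tt N88532 (iv3 F383431)) (tt N112997 D216250) (tt N48598 (iv5 D182236)) (tt N71414 F335589) (tt N84222 (iv7 F368573)))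
theorem Q82713 : ∀ i, i < 82713 → P i := stepQ 82712 Q82712 (allL N82712 (tt N48708 F335574) (tt N70973 F335575) (tt N48600 F283679) (tt N83932 F367527) (tt N83848 (iv4 F289469)) (tt N71137 F335576) (tt N48598 (iv6 D182237)) (tt N71866 F335577))
theorem Q82714 : ∀ i, i < 82714 → P i := stepQ 82713 Q82713 (allL N82713 (tt N84222 (iv1 F368574)) (tt N48599 (iv0 D182238)) (tt N83510 F362132) (tt N84413 F369208) (tt N101276 (iv4 F432499)) (tt N49143 F362133) (tt N110874 (iv6 F473552)) (tt N83508 F362134))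
theorem Q82715 : ∀ i, i < 82715 → P i := stepQ 82714 Q82714 (allL N82714 (tt N48599 (iv1 D182239)) (tt N84222 (iv0 F368575)) (tt N83508 F346007) (tt N112998 D216251) (tt N101271 (iv4 F432472)) (tt N49144 F346008) (tt N105270 (iv6 F449484)) (tt N83510 F346009))
theorem Q82716 : ∀ i, i < 82716 → P i := stepQ 82715 Q82715 (allL N82715 (tt N88557 F426955) (tt N99787 (iv0 F426957)) (tt N112997 (iv2 F483484)) (tt N99958 (iv3 F426958)) (tt N48599 (iv4 D182240)) (tt N99957 (iv5 F426954)) (tt N112999 D216252) (tt N84227 (iv7 F368606)))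
theorem Q82717 : ∀ i, i < 82717 → P i := stepQ 82716 Q82716 (allL N82716 (tt N113000 D216253) (tt N71815 (iv0 F352702)) (tt N71414 F352701) (tt N48604 F283680) (tt N112999 (iv4 F483496)) (tt N70645 (iv5 F352700)) (tt N48599 (iv6 D182241)) (tt N71412 F352699))
theorem Q82718 : ∀ i, i < 82718 → P i := stepQ 82717 Q82717 (allL N82717 (tt N88825 (iv1 F384273)) (tt N88824 (iv0 F384267)) (tt N90736 (iv2 F390691)) (tt N48601 (iv3 D182245)) (tt N84292 (iv4 F368823)) (tt N48937 F283682) (tt N113001 D216254) (tt N83503 (iv7 F287662)))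
theorem Q82719 : ∀ i, i < 82719 → P i := stepQ 82718 Q82718 (allL N82718 (tt N77083 (iv1 F337941)) (tt N49763 F283687) (tt N82671 F283683) (tt N113002 D216255) (tt N48601 (iv4 D182246)) (tt N49075 F283685) (tt N113003 D216256) (tt N82672 F283684))
theorem Q82720 : ∀ i, i < 82720 → P i := stepQ 82719 Q82719 (allL N82719 (tt N110148 (iv1 F470179)) (tt N110150 F470189) (tt N83507 (iv2 F287691)) (tt N113001 (iv3 F483506)) (tt N113003 (iv4 F483513)) (tt N48938 F283688) (tt N48601 (iv6 D182247)) (tt N113004 D216257))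
theorem Q82721 : ∀ i, i < 82721 → P i := stepQ 82720 Q82720 (allL N82720 (tt N83698 F288569) (tt N83957 (iv0 F367609)) (tt N84429 F369248) (tt N48602 (iv3 D182248)) (tt N113005 D216258) (tt N49151 F283689) (tt N105236 (iv6 F449338)) (tt N83506 (iv7 F287688)))
theorem Q82722 : ∀ i, i < 82722 → P i := stepQ 82721 Q82721 (allL N82721 (tt N49763 F283693) (tt N77083 (iv0 F337940)) (tt N82672 F283690) (tt N113006 D216259) (tt N48602 (iv4 D182249)) (tt N49076 F283691) (tt N82675 (iv6 F364082)) (tt N82671 F283692))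
theorem Q82723 : ∀ i, i < 82723 → P i := stepQ 82722 Q82722 (allL N82722 (tt N77064 F362137) (tt N82724 (iv0 F365250)) (tt N83504 (iv2 F287668)) (tt N105236 (iv3 F449337)) (tt N82675 F364083) (tt N48799 F283695) (tt N48602 (iv6 D182250)) (tt N113007 D216260))
theorem Q82724 : ∀ i, i < 82724 → P i := stepQ 82723 Q82723 (allL N82723 (tt N113008 D216261) (tt N113009 D216262) (tt N113010 D216263) (tt N48603 (iv3 D182251)) (tt N99958 (iv4 F426959)) (tt N49118 F283696) (tt N113011 D216264) (tt N110166 F470257))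
theorem Q82725 : ∀ i, i < 82725 → P i := stepQ 82724 Q82724 (allL N82724 (tt N82722 F365250) (tt N110163 F470243) (tt N110164 (iv2 F470244)) (tt N113011 (iv3 F483546)) (tt N48604 F283697) (tt N113012 D216265) (tt N48603 (iv6 D182252)) (tt N110071 (iv7 F469842)))
theorem Q82726 : ∀ i, i < 82726 → P i := stepQ 82725 Q82725 (allL N82725 (tt N110162 F470236) (tt N48604 (iv0 D182253)) (tt N112899 F483197) (tt N113013 D216266) (tt N55604 (iv4 F365252)) (tt N113014 D216267) (tt N55606 F365251) (tt N112900 (iv7 F483200)))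
theorem Q82727 : ∀ i, i < 82727 → P i := stepQ 82726 Q82726 (allL N82726 (tt N48604 (iv1 D182254)) (tt N110162 F470237) (tt N112900 F483204) (tt N113015 D216268) (tt N105177 (iv4 F459528)) (tt N71922 (iv5 F365472)) (tt N113016 D216269) (tt N112899 F483198))
theorem Q82728 : ∀ i, i < 82728 → P i := stepQ 82727 Q82727 (allL N82727 (tt N106940 F456369) (tt N113017 D216270) (tt N86757 (iv2 F377075)) (tt N70645 F352695) (tt N72937 F352696) (tt N48604 (iv5 D182255)) (tt N48606 F283698) (tt N71411 (iv7 F352694)))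
theorem Q82729 : ∀ i, i < 82729 → P i := stepQ 82728 Q82728 (allL N82728 (tt N112900 (iv1 F483199)) (tt N112899 F483196) (tt N110162 (iv2 F470232)) (tt N71412 (iv3 F352698)) (tt N110071 (iv4 F469840)) (tt N71411 F352697) (tt N110070 F469838) (tt N48604 (iv7 D182256)))
theorem Q82730 : ∀ i, i < 82730 → P i := stepQ 82729 Q82729 (allL N82729 (tt N83830 F289296) (tt N83841 F289369) (tt N50046 (iv2 F291155)) (tt N48607 (iv3 D182257)) (tt N82729 F283699) (tt N54642 F283700) (tt N55148 (iv6 F292865)) (tt N48805 F283701))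
theorem Q82731 : ∀ i, i < 82731 → P i := stepQ 82730 Q82730 (allL N82730 (tt N87254 F378903) (tt N113018 D216271) (tt N113019 D216272) (tt N48608 (iv3 D182258)) (tt N49967 F283702) (tt N83064 (iv5 F285732)) (tt N55300 (iv6 F293842)) (tt N48795 F283703))
theorem Q82732 : ∀ i, i < 82732 → P i := stepQ 82731 Q82731 (allL N82731 (tt N49137 F343888) (tt N48856 F343889) (tt N75866 F346019) (tt N48610 F283706) (tt N90030 (iv4 F388344)) (tt N48609 (iv5 D182262)) (tt N110357 (iv6 F471213)) (tt N75867 (iv7 F346033)))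
theorem Q82733 : ∀ i, i < 82733 → P i := stepQ 82732 Q82732 (allL N82732 (tt N88532 F383434) (tt N48613 (iv0 D182265)) (tt N83564 (iv2 F287800)) (tt N113020 D216273) (tt N113021 D216274) (tt N82792 (iv5 F294479)) (tt N113022 D216275) (tt N83563 F287802))
theorem Q82734 : ∀ i, i < 82734 → P i := stepQ 82733 Q82733 (allL N82733 (tt N107431 (iv1 F458319)) (tt N107442 F458358) (tt N88545 (iv2 F383473)) (tt N113023 D216276) (tt N48613 (iv4 D182266)) (tt N106802 (iv5 F455743)) (tt N105817 (iv6 F451859)) (tt N88543 (iv7 F383471)))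
theorem Q82735 : ∀ i, i < 82735 → P i := stepQ 82734 Q82734 (allL N82734 (tt N105920 F452354) (tt N71457 (iv0 F387511)) (tt N88546 (iv2 F383475)) (tt N48616 F283711) (tt N105817 (iv4 F451858)) (tt N89773 (iv5 F387510)) (tt N48613 (iv6 D182267)) (tt N106507 (iv7 F454701)))
theorem Q82736 : ∀ i, i < 82736 → P i := stepQ 82735 Q82735 (allL N82735 (tt N55306 (iv1 F352756)) (tt N48614 (iv0 D182268)) (tt N53794 (iv2 F283712)) (tt N85326 (iv3 F372245)) (tt N63381 F352755) (tt N53793 F283713) (tt N83535 F287744) (tt N48780 F283714))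
theorem Q82737 : ∀ i, i < 82737 → P i := stepQ 82736 Q82736 (allL N82736 (tt N107376 F483505) (tt N113024 D216277) (tt N100051 (iv2 F427372)) (tt N48615 (iv3 D182269)) (tt N113023 (iv4 F483601)) (tt N49116 F283716) (tt N82267 (iv6 F338048)) (tt N112898 (iv7 F483192)))
theorem Q82738 : ∀ i, i < 82738 → P i := stepQ 82737 Q82737 (allL N82737 (tt N110070 (iv1 F469836)) (tt N48616 (iv0 D182271)) (tt N110160 F470223) (tt N113025 D216278) (tt N76871 (iv4 F381167)) (tt N101786 (iv5 F434336)) (tt N113026 D216279) (tt N101257 (iv7 F432426)))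
theorem Q82739 : ∀ i, i < 82739 → P i := stepQ 82738 Q82738 (allL N82738 (tt N48616 (iv1 D182272)) (tt N110070 (iv0 F469835)) (tt N101257 (iv2 F432424)) (tt N113027 D216280) (tt N76870 F338046) (tt N83106 (iv5 F286004)) (tt N77061 F366802) (tt N110160 (iv7 F470221)))
theorem Q82740 : ∀ i, i < 82740 → P i := stepQ 82739 Q82739 (allL N82739 (tt N107968 F460531) (tt N82658 F338045) (tt N55305 F338041) (tt N89773 (iv3 F387508)) (tt N85653 (iv4 F373402)) (tt N48616 (iv5 D182273)) (tt N48618 F283718) (tt N110161 (iv7 F470228)))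
theorem Q82741 : ∀ i, i < 82741 → P i := stepQ 82740 Q82740 (allL N82740 (tt N113028 D216281) (tt N52738 (iv0 F354904)) (tt N84476 (iv2 F369447)) (tt N107542 (iv3 F458700)) (tt N49119 F283733) (tt N84468 (iv5 F369417)) (tt N48620 (iv6 D182278)) (tt N110292 (iv7 F470886)))
theorem Q82742 : ∀ i, i < 82742 → P i := stepQ 82741 Q82741 (allL N82741 (tt N78999 (iv1 F283737)) (tt N78996 (iv0 F283736)) (tt N86470 F376321) (tt N48621 (iv3 D182279)) (tt N113029 D216282) (tt N49242 F283734) (tt N109694 (iv6 F468145)) (tt N78959 F283735))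
theorem Q82743 : ∀ i, i < 82743 → P i := stepQ 82742 Q82742 (allL N82742 (tt N50083 (iv1 F283778)) (tt N48622 (iv0 D182283)) (tt N51092 (iv2 F283779)) (tt N69126 (iv3 F354319)) (tt N49249 F283777) (tt N49268 F283776) (tt N80198 F354321) (tt N82747 (iv7 F283817)))
theorem Q82744 : ∀ i, i < 82744 → P i := stepQ 82743 Q82743 (allL N82743 (tt N84125 F369512) (tt N103812 (iv0 F442930)) (tt N113030 D216283) (tt N48622 (iv3 D182285)) (tt N84487 (iv4 F369508)) (tt N77340 (iv5 F369516)) (tt N112071 (iv6 F479352)) (tt N82748 (iv7 F283818)))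
theorem Q82745 : ∀ i, i < 82745 → P i := stepQ 82744 Q82744 (allL N82744 (tt N50013 F283793) (tt N66632 F283796) (tt N97906 F418747) (tt N48623 (iv3 D182290)) (tt N49969 F283790) (tt N85941 (iv5 F374531)) (tt N50468 F283791) (tt N49846 (iv7 F290839)))
theorem Q82746 : ∀ i, i < 82746 → P i := stepQ 82745 Q82745 (allL N82745 (tt N51487 F283801) (tt N86543 (iv0 F376460)) (tt N113031 D216284) (tt N48624 (iv3 D182291)) (tt N83490 F287619) (tt N49263 F283798) (tt N50363 F283799) (tt N50715 (iv7 F292141)))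
theorem Q82747 : ∀ i, i < 82747 → P i := stepQ 82746 Q82746 (allL N82746 (tt N50075 F283811) (tt N49807 F283812) (tt N54885 (iv2 F293279)) (tt N113032 D216285) (tt N48625 (iv4 D182292)) (tt N49238 F283809) (tt N80900 (iv6 F336040)) (tt N67917 (iv7 F321775)))
theorem Q82748 : ∀ i, i < 82748 → P i := stepQ 82747 Q82747 (allL N82747 (tt N50762 (iv1 F283816)) (tt N48626 (iv0 D182293)) (tt N54864 F292115) (tt N82207 F354318) (tt N49244 F283814) (tt N49241 F283813) (tt N82202 (iv6 F350632)) (tt N82742 F283817))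
theorem Q82749 : ∀ i, i < 82749 → P i := stepQ 82748 Q82748 (allL N82748 (tt N103112 F440130) (tt N83422 (iv0 F368157)) (tt N108441 (iv2 F462578)) (tt N48626 (iv3 D182294)) (tt N84474 (iv4 F369443)) (tt N85957 (iv5 F374611)) (tt N78334 F359841) (tt N82743 F283818))
theorem Q82750 : ∀ i, i < 82750 → P i := stepQ 82749 Q82749 (allL N82749 (tt N49164 F294917) (tt N50685 F283833) (tt N50058 F283830) (tt N84881 (iv3 F370988)) (tt N48627 (iv4 D182297)) (tt N82849 F294918) (tt N55369 F294919) (tt N50684 F283831))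
theorem Q82751 : ∀ i, i < 82751 → P i := stepQ 82750 Q82750 (allL N82750 (tt N87764 F380426) (tt N84704 (iv0 F370279)) (tt N92011 (iv2 F395345)) (tt N48629 (iv3 D182316)) (tt N55001 (iv4 F294012)) (tt N111126 (iv5 F474808)) (tt N89178 (iv6 F385465)) (tt N87830 (iv7 F380741)))
theorem Q82752 : ∀ i, i < 82752 → P i := stepQ 82751 Q82751 (allL N82751 (tt N72045 F356327) (tt N84753 (iv0 F370490)) (tt N87036 F378134) (tt N52304 F283854) (tt N48629 (iv4 D182317)) (tt N72009 (iv5 F360353)) (tt N61547 (iv6 F356334)) (tt N72008 F350432))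
theorem Q82753 : ∀ i, i < 82753 → P i := stepQ 82752 Q82752 (allL N82752 (tt N48659 F335416) (tt N49533 F335417) (tt N53036 (iv2 F335419)) (tt N111126 (iv3 F474806)) (tt N105449 (iv4 F450311)) (tt N48629 (iv5 D182318)) (tt N73846 (iv6 F335420)) (tt N53035 F335418))
theorem Q82754 : ∀ i, i < 82754 → P i := stepQ 82753 Q82753 (allL N82753 (tt N48651 (iv1 F283860)) (tt N48631 (iv0 D182325)) (tt N48649 F352435) (tt N70006 (iv3 F352434)) (tt N102215 F436230) (tt N105521 (iv5 F450564)) (tt N70004 F352431) (tt N48650 F352436))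
theorem Q82755 : ∀ i, i < 82755 → P i := stepQ 82754 Q82754 (allL N82754 (tt N48631 (iv1 D182326)) (tt N48651 F283858) (tt N48650 F359716) (tt N99255 (iv3 F423850)) (tt N102347 (iv4 F436837)) (tt N97374 F416585) (tt N102346 F436835) (tt N48649 F359717))
theorem Q82756 : ∀ i, i < 82756 → P i := stepQ 82755 Q82755 (allL N82755 (tt N48650 (iv1 F283861)) (tt N48649 F283862) (tt N48651 F283859) (tt N72021 F352442) (tt N97717 (iv4 F418046)) (tt N86361 (iv5 F375942)) (tt N69861 F361737) (tt N48631 (iv7 D182327)))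
theorem Q82757 : ∀ i, i < 82757 → P i := stepQ 82756 Q82756 (allL N82756 (tt N82381 (iv1 F283863)) (tt N48632 (iv0 D182328)) (tt N82380 (iv2 F359043)) (tt N55695 (iv3 F359044)) (tt N96773 (iv4 F413861)) (tt N67281 F359046) (tt N60768 (iv6 F359045)) (tt N55693 F359042))
theorem Q82758 : ∀ i, i < 82758 → P i := stepQ 82757 Q82757 (allL N82757 (tt N48632 (iv1 D182329)) (tt N82381 F283868) (tt N55693 F359017) (tt N60709 F359018) (tt N106815 (iv4 F455802)) (tt N86963 F377947) (tt N55692 (iv6 F359016)) (tt N82380 (iv7 F359041)))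
theorem Q82759 : ∀ i, i < 82759 → P i := stepQ 82758 Q82758 (allL N82758 (tt N82380 (iv1 F283869)) (tt N55693 (iv0 F358998)) (tt N48632 (iv2 D182330)) (tt N69287 (iv3 F358993)) (tt N81568 F283865) (tt N69283 F359000) (tt N85675 (iv6 F373486)) (tt N82381 F283866))
theorem Q82760 : ∀ i, i < 82760 → P i := stepQ 82759 Q82759 (allL N82759 (tt N113033 D216286) (tt N67893 (iv0 F365732)) (tt N88711 (iv2 F383947)) (tt N93242 (iv3 F400086)) (tt N48633 (iv4 D182386)) (tt N97873 F418616) (tt N67656 (iv6 F363957)) (tt N48782 (iv7 F295124)))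
theorem Q82761 : ∀ i, i < 82761 → P i := stepQ 82760 Q82760 (allL N82760 (tt N70383 (iv1 F363951)) (tt N70379 F363948) (tt N70387 (iv2 F363945)) (tt N48634 F283942) (tt N67656 F363946) (tt N86728 (iv5 F377009)) (tt N48633 (iv6 D182387)) (tt N70384 F363947))
theorem Q82762 : ∀ i, i < 82762 → P i := stepQ 82761 Q82761 (allL N82761 (tt N69240 (iv1 F337803)) (tt N48634 (iv0 D182392)) (tt N68762 (iv2 F363959)) (tt N70169 (iv3 F363961)) (tt N56534 F363958) (tt N113034 D216287) (tt N103246 (iv6 F440765)) (tt N68765 (iv7 F363960)))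
theorem Q82763 : ∀ i, i < 82763 → P i := stepQ 82762 Q82762 (allL N82762 (tt N48634 (iv1 D182393)) (tt N69240 (iv0 F337802)) (tt N68765 (iv2 F363970)) (tt N98036 (iv3 F419258)) (tt N56533 F363971) (tt N113035 D216288) (tt N98035 F419257) (tt N68762 F363972))
theorem Q82764 : ∀ i, i < 82764 → P i := stepQ 82763 Q82763 (allL N82763 (tt N68765 (iv1 F363955)) (tt N68762 (iv0 F337797)) (tt N69240 (iv2 F337804)) (tt N70384 (iv3 F363949)) (tt N69251 F362904) (tt N86731 (iv5 F377013)) (tt N48788 (iv6 F295125)) (tt N48634 (iv7 D182395)))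
theorem Q82765 : ∀ i, i < 82765 → P i := stepQ 82764 Q82764 (allL N82764 (tt N88427 (iv1 F383004)) (tt N84446 (iv0 F369313)) (tt N83703 F361064) (tt N85495 (iv3 F372833)) (tt N48635 (iv4 D182407)) (tt N98361 (iv5 F420642)) (tt N111286 (iv6 F475640)) (tt N88428 (iv7 F383009)))
theorem Q82766 : ∀ i, i < 82766 → P i := stepQ 82765 Q82765 (allL N82765 (tt N49060 F344322) (tt N49069 F344323) (tt N49067 F361044) (tt N85497 (iv3 F372845)) (tt N111286 (iv4 F475638)) (tt N112892 (iv5 F483164)) (tt N48635 (iv6 D182409)) (tt N49066 F361045))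
theorem Q82767 : ∀ i, i < 82767 → P i := stepQ 82766 Q82766 (allL N82766 (tt N54865 (iv1 F367152)) (tt N54867 (iv0 F361063)) (tt N85491 (iv2 F372810)) (tt N48636 (iv3 D182411)) (tt N85932 (iv4 F374491)) (tt N105566 (iv5 F450753)) (tt N76191 F361054) (tt N89180 (iv7 F385476)))
theorem Q82768 : ∀ i, i < 82768 → P i := stepQ 82767 Q82767 (allL N82767 (tt N82648 (iv1 F344327)) (tt N71851 (iv0 F338482)) (tt N48639 F283960) (tt N58230 (iv3 F336761)) (tt N88692 (iv4 F383896)) (tt N48637 (iv5 D182415)) (tt N69831 F362231) (tt N58229 (iv7 F344366)))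
theorem Q82769 : ∀ i, i < 82769 → P i := stepQ 82768 Q82768 (allL N82768 (tt N58229 F344362) (tt N48639 (iv0 D182419)) (tt N82648 F344333) (tt N49583 (iv3 F344338)) (tt N103551 (iv4 F442011)) (tt N48664 F344335) (tt N113036 D216289) (tt N71851 F344336))
theorem Q82770 : ∀ i, i < 82770 → P i := stepQ 82769 Q82769 (allL N82769 (tt N48639 (iv1 D182420)) (tt N58229 F362416) (tt N71851 F362417) (tt N113037 D216290) (tt N103779 (iv4 F442780)) (tt N48665 F362418) (tt N96596 F449273) (tt N82648 F362419))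
theorem Q82771 : ∀ i, i < 82771 → P i := stepQ 82770 Q82770 (allL N82770 (tt N83999 (iv1 F367771)) (tt N88687 (iv0 F383893)) (tt N88692 F383897) (tt N87914 (iv3 F381098)) (tt N48639 (iv4 D182421)) (tt N98746 F422130) (tt N106521 (iv6 F454756)) (tt N86917 (iv7 F377701)))
theorem Q82772 : ∀ i, i < 82772 → P i := stepQ 82771 Q82771 (allL N82771 (tt N73836 F349683) (tt N71842 F349685) (tt N69734 F349680) (tt N69826 F349682) (tt N60452 (iv4 F349679)) (tt N71756 (iv5 F345466)) (tt N69732 F349681) (tt N48640 (iv7 D182430)))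
theorem Q82773 : ∀ i, i < 82773 → P i := stepQ 82772 Q82772 (allL N82772 (tt N87830 F380742) (tt N92011 (iv0 F395349)) (tt N87764 (iv2 F380423)) (tt N48641 (iv3 D182434)) (tt N82591 F283981) (tt N96484 (iv5 F412708)) (tt N49014 F294417) (tt N84704 (iv7 F370277)))
theorem Q82774 : ∀ i, i < 82774 → P i := stepQ 82773 Q82773 (allL N82773 (tt N85452 F372668) (tt N80613 (iv0 F352766)) (tt N48644 F283986) (tt N85666 (iv3 F373436)) (tt N50212 F283987) (tt N63923 (iv5 F340899)) (tt N48643 (iv6 D182442)) (tt N64761 (iv7 F357129)))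
theorem Q82775 : ∀ i, i < 82775 → P i := stepQ 82774 Q82774 (allL N82774 (tt N64761 F356510) (tt N48644 (iv0 D182446)) (tt N85452 (iv2 F372661)) (tt N89176 F385449) (tt N54645 F356511) (tt N84126 (iv5 F368208)) (tt N49088 F356512) (tt N80613 F356513))
theorem Q82776 : ∀ i, i < 82776 → P i := stepQ 82775 Q82775 (allL N82775 (tt N66995 F348699) (tt N48692 F292467) (tt N49629 F292468) (tt N64251 (iv3 F348458)) (tt N48645 (iv4 D182453)) (tt N54950 F283991) (tt N69798 F348456) (tt N49632 (iv7 F293243)))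
theorem Q82777 : ∀ i, i < 82777 → P i := stepQ 82776 Q82776 (allL N82776 (tt N60651 (iv1 F352462)) (tt N48646 (iv0 D182488)) (tt N71645 (iv2 F346641)) (tt N113038 D216291) (tt N97544 F417328) (tt N89978 (iv5 F388174)) (tt N113039 D216292) (tt N71634 F346642))
theorem Q82778 : ∀ i, i < 82778 → P i := stepQ 82777 Q82777 (allL N82777 (tt N71634 (iv1 F352447)) (tt N71645 (iv0 F352445)) (tt N60651 (iv2 F352463)) (tt N48651 F284012) (tt N55746 F352437) (tt N55104 F346646) (tt N84095 (iv6 F368084)) (tt N48646 (iv7 D182490)))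
theorem Q82779 : ∀ i, i < 82779 → P i := stepQ 82778 Q82778 (allL N82778 (tt N92019 (iv1 F395393)) (tt N48647 (iv0 D182509)) (tt N92018 F395383) (tt N102934 (iv3 F439324)) (tt N67418 F364792) (tt N80416 (iv5 F364793)) (tt N103423 (iv6 F441561)) (tt N92017 F395380))
theorem Q82780 : ∀ i, i < 82780 → P i := stepQ 82779 Q82779 (allL N82779 (tt N48647 (iv1 D182510)) (tt N92019 F395394) (tt N92017 (iv2 F395388)) (tt N103468 (iv3 F441758)) (tt N103270 (iv4 F440902)) (tt N80417 (iv5 F395389)) (tt N103268 (iv6 F440892)) (tt N92018 F395387))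
theorem Q82781 : ∀ i, i < 82781 → P i := stepQ 82780 Q82780 (allL N82780 (tt N92018 F395386) (tt N92017 F395378) (tt N48647 (iv2 D182511)) (tt N97449 (iv3 F416937)) (tt N82810 F364845) (tt N87780 (iv5 F380475)) (tt N65998 (iv6 F380736)) (tt N92019 (iv7 F395392)))
theorem Q82782 : ∀ i, i < 82782 → P i := stepQ 82781 Q82781 (allL N82781 (tt N56259 F359713) (tt N65780 (iv0 F359712)) (tt N65998 (iv2 F380734)) (tt N48648 F284027) (tt N55596 F359710) (tt N65895 (iv5 F359711)) (tt N48647 (iv6 D182512)) (tt N65999 (iv7 F380737)))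
theorem Q82783 : ∀ i, i < 82783 → P i := stepQ 82782 Q82782 (allL N82782 (tt N97717 F418050) (tt N48648 (iv0 D182513)) (tt N101887 F434829) (tt N97737 (iv3 F418114)) (tt N87833 F380752) (tt N113040 D216293) (tt N103929 (iv6 F443409)) (tt N101888 (iv7 F434832)))
theorem Q82784 : ∀ i, i < 82784 → P i := stepQ 82783 Q82783 (allL N82783 (tt N48648 (iv1 D182514)) (tt N97717 F418049) (tt N101888 (iv2 F434835)) (tt N102244 (iv3 F436340)) (tt N87834 F416725) (tt N102243 F436336) (tt N97703 (iv6 F417979)) (tt N101887 F434830))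
theorem Q82785 : ∀ i, i < 82785 → P i := stepQ 82784 Q82784 (allL N82784 (tt N113041 D216294) (tt N113042 D216295) (tt N65903 F366131) (tt N65895 F359714) (tt N65725 (iv4 F416828)) (tt N48648 (iv5 D182515)) (tt N65897 (iv6 F366130)) (tt N113043 D216296))
theorem Q82786 : ∀ i, i < 82786 → P i := stepQ 82785 Q82785 (allL N82785 (tt N101888 (iv1 F434831)) (tt N101887 F434828) (tt N97717 (iv2 F418045)) (tt N65999 F380738) (tt N48651 F284028) (tt N113043 (iv5 F483694)) (tt N92023 (iv6 F395418)) (tt N48648 (iv7 D182516)))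
theorem Q82787 : ∀ i, i < 82787 → P i := stepQ 82786 Q82786 (allL N82786 (tt N71658 F398044) (tt N105568 (iv0 F450767)) (tt N73311 (iv2 F352438)) (tt N48649 (iv3 D182518)) (tt N113044 D216297) (tt N98832 F422498) (tt N105555 F450720) (tt N99255 (iv7 F423851)))
theorem Q82788 : ∀ i, i < 82788 → P i := stepQ 82787 Q82787 (allL N82787 (tt N92738 F398042) (tt N83007 F398043) (tt N102215 (iv2 F436225)) (tt N113045 D216298) (tt N48649 (iv4 D182519)) (tt N102213 (iv5 F436218)) (tt N104389 F445548) (tt N102347 (iv7 F436841)))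
theorem Q82789 : ∀ i, i < 82789 → P i := stepQ 82788 Q82788 (allL N82788 (tt N83007 F360194) (tt N92738 (iv0 F398041)) (tt N102347 (iv2 F436836)) (tt N73294 F360186) (tt N48650 (iv4 D182524)) (tt N97427 (iv5 F416852)) (tt N60459 (iv6 F360193)) (tt N102215 (iv7 F436227)))
theorem Q82790 : ∀ i, i < 82790 → P i := stepQ 82789 Q82789 (allL N82789 (tt N89977 F388173) (tt N105114 (iv0 F448862)) (tt N97374 (iv2 F416580)) (tt N72149 F360187) (tt N79717 (iv4 F360195)) (tt N48650 (iv5 D182525)) (tt N90197 (iv6 F388851)) (tt N105521 (iv7 F450566)))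
theorem Q82791 : ∀ i, i < 82791 → P i := stepQ 82790 Q82790 (allL N82790 (tt N71637 F360191) (tt N73824 (iv0 F360189)) (tt N102346 (iv2 F436831)) (tt N62362 F360188) (tt N60459 F360190) (tt N71617 (iv5 F360192)) (tt N48650 (iv6 D182526)) (tt N102349 (iv7 F436848)))
theorem Q82792 : ∀ i, i < 82792 → P i := stepQ 82791 Q82791 (allL N82791 (tt N53598 (iv1 F367254)) (tt N53597 (iv0 F367097)) (tt N53012 (iv2 F291558)) (tt N48652 (iv3 D182590)) (tt N49315 F284089) (tt N53010 F367089) (tt N84976 (iv6 F371240)) (tt N52309 F284088))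
theorem Q82793 : ∀ i, i < 82793 → P i := stepQ 82792 Q82792 (allL N82792 (tt N49193 F294477) (tt N48841 F294478) (tt N49192 (iv2 F295065)) (tt N84976 (iv3 F371238)) (tt N55389 F366986) (tt N82732 F294479) (tt N48652 (iv6 D182593)) (tt N49191 F294480))
theorem Q82794 : ∀ i, i < 82794 → P i := stepQ 82793 Q82793 (allL N82793 (tt N103562 (iv1 F442051)) (tt N95809 (iv0 F409758)) (tt N71953 (iv2 F365381)) (tt N86964 (iv3 F377873)) (tt N48655 (iv4 D182599)) (tt N66133 (iv5 F365382)) (tt N70571 F365379) (tt N52313 F284107))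
theorem Q82795 : ∀ i, i < 82795 → P i := stepQ 82794 Q82794 (allL N82794 (tt N82647 F294968) (tt N49580 F294969) (tt N51520 F294970) (tt N48657 (iv3 D182605)) (tt N50713 F284116) (tt N107052 (iv5 F456784)) (tt N53169 F294971) (tt N49380 F294972))
theorem Q82796 : ∀ i, i < 82796 → P i := stepQ 82795 Q82795 (allL N82795 (tt N71136 (iv1 F335558)) (tt N49866 F346020) (tt N71871 (iv2 F329308)) (tt N49777 (iv3 F335637)) (tt N48708 F295458) (tt N49140 F295459) (tt N48661 (iv6 D182631)) (tt N71867 (iv7 F346044)))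
theorem Q82797 : ∀ i, i < 82797 → P i := stepQ 82796 Q82796 (allL N82796 (tt N52916 F295460) (tt N52901 F295461) (tt N52911 F295462) (tt N48662 (iv3 D182632)) (tt N52911 F295463) (tt N105119 (iv5 F448884)) (tt N91669 (iv6 F393966)) (tt N52917 F295464))
theorem Q82798 : ∀ i, i < 82798 → P i := stepQ 82797 Q82797 (allL N82797 (tt N83384 (iv1 F344332)) (tt N49619 F339555) (tt N82649 F344314) (tt N49584 F357606) (tt N70021 (iv4 F339543)) (tt N49062 F339542) (tt N48664 (iv6 D182692)) (tt N83391 (iv7 F344331)))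
theorem Q82799 : ∀ i, i < 82799 → P i := stepQ 82798 Q82798 (allL N82798 (tt N51520 F294954) (tt N49380 F294955) (tt N49580 (iv2 F344265)) (tt N48665 (iv3 D182694)) (tt N49481 (iv4 F295035)) (tt N113037 (iv5 F483664)) (tt N91679 (iv6 F394010)) (tt N82647 F344271))
theorem Q82800 : ∀ i, i < 82800 → P i := stepQ 82799 Q82799 (allL N82799 (tt N70358 (iv1 F327070)) (tt N48667 (iv0 D182700)) (tt N70356 (iv2 F361059)) (tt N49586 F348534) (tt N103557 (iv4 F442029)) (tt N54085 (iv5 F348533)) (tt N106041 (iv6 F452853)) (tt N70357 (iv7 F361048)))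
theorem Q82801 : ∀ i, i < 82801 → P i := stepQ 82800 Q82800 (allL N82800 (tt N48667 (iv1 D182701)) (tt N70358 (iv0 F327069)) (tt N70357 F361058) (tt N113046 D216299) (tt N103781 (iv4 F442786)) (tt N55599 (iv5 F339538)) (tt N105070 (iv6 F448649)) (tt N70356 (iv7 F361057)))
theorem Q82802 : ∀ i, i < 82802 → P i := stepQ 82801 Q82801 (allL N82801 (tt N84017 (iv1 F367817)) (tt N88736 (iv0 F383986)) (tt N66187 F344979) (tt N102488 (iv3 F437413)) (tt N48667 (iv4 D182702)) (tt N102577 (iv5 F437739)) (tt N66185 (iv6 F344980)) (tt N82650 (iv7 F294309)))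
theorem Q82803 : ∀ i, i < 82803 → P i := stepQ 82802 Q82802 (allL N82802 (tt N53032 (iv1 F366971)) (tt N52485 F366972) (tt N82943 (iv2 F366970)) (tt N48669 (iv3 D182716)) (tt N52676 (iv4 F294769)) (tt N69800 (iv5 F365760)) (tt N91680 (iv6 F394015)) (tt N80549 F366969))
theorem Q82804 : ∀ i, i < 82804 → P i := stepQ 82803 Q82803 (allL N82803 (tt N49765 F336765) (tt N83407 F356401) (tt N80550 F295451) (tt N49677 (iv3 F356198)) (tt N52764 F295452) (tt N49085 F295453) (tt N48670 (iv6 D182722)) (tt N83412 (iv7 F356390)))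
theorem Q82805 : ∀ i, i < 82805 → P i := stepQ 82804 Q82804 (allL N82804 (tt N86920 (iv1 F377707)) (tt N48672 (iv0 D182766)) (tt N86919 (iv2 F380708)) (tt N97782 (iv3 F474226)) (tt N113047 D216300) (tt N80157 F358301) (tt N66053 (iv6 F358302)) (tt N86918 (iv7 F380713)))
theorem Q82806 : ∀ i, i < 82806 → P i := stepQ 82805 Q82805 (allL N82805 (tt N48672 (iv1 D182767)) (tt N86920 F377709) (tt N86918 F380714) (tt N113048 D216301) (tt N113049 D216302) (tt N87779 F380716) (tt N103319 (iv6 F441122)) (tt N86919 F380712))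
theorem Q82807 : ∀ i, i < 82807 → P i := stepQ 82806 Q82806 (allL N82806 (tt N86919 (iv1 F377708)) (tt N86918 F377703) (tt N48672 (iv2 D182768)) (tt N52158 F364840) (tt N82807 (iv4 F364841)) (tt N87827 (iv5 F380701)) (tt N52157 (iv6 F364842)) (tt N86920 (iv7 F377706)))
theorem Q82808 : ∀ i, i < 82808 → P i := stepQ 82807 Q82807 (allL N82807 (tt N87679 (iv1 F380132)) (tt N87678 F380126) (tt N52157 F364843) (tt N48673 F284337) (tt N82806 F364841) (tt N107060 (iv5 F456818)) (tt N48672 (iv6 D182769)) (tt N87680 (iv7 F380130)))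
theorem Q82809 : ∀ i, i < 82809 → P i := stepQ 82808 Q82808 (allL N82808 (tt N84026 (iv1 F367853)) (tt N48673 (iv0 D182770)) (tt N88791 F417186) (tt N103623 (iv3 F442277)) (tt N82984 F394026) (tt N87679 (iv5 F380127)) (tt N113050 D216303) (tt N88792 F417190))
theorem Q82810 : ∀ i, i < 82810 → P i := stepQ 82809 Q82809 (allL N82809 (tt N48673 (iv1 D182771)) (tt N84026 F367852) (tt N88792 (iv2 F417191)) (tt N104911 (iv3 F447899)) (tt N82985 (iv4 F394246)) (tt N87678 (iv5 F380717)) (tt N104910 F447897) (tt N88791 (iv7 F417192)))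
theorem Q82811 : ∀ i, i < 82811 → P i := stepQ 82810 Q82810 (allL N82810 (tt N113051 D216304) (tt N113052 D216305) (tt N53029 F364844) (tt N107060 (iv3 F456816)) (tt N82780 (iv4 F364845)) (tt N48673 (iv5 D182772)) (tt N87829 (iv6 F380729)) (tt N113053 D216306))
theorem Q82812 : ∀ i, i < 82812 → P i := stepQ 82811 Q82811 (allL N82811 (tt N88792 (iv1 F384161)) (tt N88791 F384160) (tt N84026 F367850) (tt N87680 (iv3 F380128)) (tt N48675 F284338) (tt N113053 (iv5 F483750)) (tt N86925 (iv6 F377728)) (tt N48673 (iv7 D182773)))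
theorem Q82813 : ∀ i, i < 82813 → P i := stepQ 82812 Q82812 (allL N82812 (tt N96597 (iv1 F413132)) (tt N96596 F413137) (tt N96600 (iv2 F413134)) (tt N48674 (iv3 D182775)) (tt N113054 D216307) (tt N113055 D216308) (tt N105506 (iv6 F450505)) (tt N96598 F413131))
theorem Q82814 : ∀ i, i < 82814 → P i := stepQ 82813 Q82813 (allL N82813 (tt N93095 (iv1 F399462)) (tt N86951 (iv0 F398789)) (tt N93097 (iv2 F399482)) (tt N113056 D216309) (tt N48674 (iv4 D182776)) (tt N104307 (iv5 F445158)) (tt N113057 D216310) (tt N93094 F399461))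
theorem Q82815 : ∀ i, i < 82815 → P i := stepQ 82814 Q82814 (allL N82814 (tt N83257 F367094) (tt N101259 F432437) (tt N95939 (iv2 F410351)) (tt N113055 (iv3 F483761)) (tt N96472 (iv4 F412664)) (tt N48674 (iv5 D182777)) (tt N95190 F407360) (tt N85619 F373225))
theorem Q82816 : ∀ i, i < 82816 → P i := stepQ 82815 Q82815 (allL N82815 (tt N69795 (iv1 F375984)) (tt N77306 (iv0 F367095)) (tt N86373 (iv2 F375991)) (tt N105506 (iv3 F450503)) (tt N113057 (iv4 F483772)) (tt N86360 F375938) (tt N48674 (iv6 D182778)) (tt N86371 (iv7 F375982)))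
theorem Q82817 : ∀ i, i < 82817 → P i := stepQ 82816 Q82816 (allL N82816 (tt N83730 (iv1 F370097)) (tt N82595 (iv0 F284400)) (tt N84665 (iv2 F370105)) (tt N85457 (iv3 F372685)) (tt N48676 (iv4 D182848)) (tt N97238 (iv5 F416021)) (tt N55114 F363047) (tt N84663 (iv7 F370095)))
theorem Q82818 : ∀ i, i < 82818 → P i := stepQ 82817 Q82817 (allL N82817 (tt N87836 F380769) (tt N83712 F372679) (tt N85454 (iv2 F372675)) (tt N48677 (iv3 D182852)) (tt N87674 F380108) (tt N87107 (iv5 F378379)) (tt N89946 (iv6 F388075)) (tt N84664 (iv7 F370099)))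
theorem Q82819 : ∀ i, i < 82819 → P i := stepQ 82818 Q82818 (allL N82818 (tt N82595 (iv1 F370115)) (tt N83730 (iv0 F288962)) (tt N84663 (iv2 F370094)) (tt N82590 F284402) (tt N48677 (iv4 D182853)) (tt N112456 F481174) (tt N91735 (iv6 F394247)) (tt N84665 (iv7 F370107)))
theorem Q82820 : ∀ i, i < 82820 → P i := stepQ 82819 Q82819 (allL N82819 (tt N48680 (iv1 D182862)) (tt N49221 F284407) (tt N49220 F361261) (tt N110950 (iv3 F473928)) (tt N93078 (iv4 F399381)) (tt N113058 D216311) (tt N88217 (iv6 F382219)) (tt N49219 F361262))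
theorem Q82821 : ∀ i, i < 82821 → P i := stepQ 82820 Q82820 (allL N82820 (tt N49220 (iv1 F284411)) (tt N49219 F284412) (tt N49221 F284408) (tt N83583 F365806) (tt N79670 (iv4 F327190)) (tt N88141 (iv5 F381902)) (tt N84670 (iv6 F370137)) (tt N48680 (iv7 D182863)))
theorem Q82822 : ∀ i, i < 82822 → P i := stepQ 82821 Q82821 (allL N82821 (tt N69233 (iv1 F347532)) (tt N69257 (iv0 F347529)) (tt N69256 (iv2 F347519)) (tt N56663 (iv3 F347533)) (tt N82608 F284452) (tt N69046 F347530) (tt N48681 (iv6 D182878)) (tt N69255 (iv7 F361704)))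
theorem Q82823 : ∀ i, i < 82823 → P i := stepQ 82822 Q82822 (allL N82822 (tt N83970 F367664) (tt N48800 (iv0 F284504)) (tt N87252 (iv2 F378879)) (tt N88581 (iv3 F383522)) (tt N86723 (iv4 F376908)) (tt N48682 (iv5 D182916)) (tt N77210 (iv6 F364931)) (tt N87837 (iv7 F380773)))
theorem Q82824 : ∀ i, i < 82824 → P i := stepQ 82823 Q82823 (allL N82823 (tt N48732 F366996) (tt N85418 F372557) (tt N87251 (iv2 F378873)) (tt N83761 (iv3 F367046)) (tt N105227 (iv4 F449299)) (tt N48683 (iv5 D182917)) (tt N106190 (iv6 F453538)) (tt N87636 (iv7 F379959)))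
theorem Q82825 : ∀ i, i < 82825 → P i := stepQ 82824 Q82824 (allL N82824 (tt N76937 (iv1 F354031)) (tt N48684 (iv0 D182918)) (tt N52825 (iv2 F354026)) (tt N64296 F354028) (tt N52823 F354029) (tt N113059 D216312) (tt N109772 (iv6 F468541)) (tt N52829 (iv7 F354027)))
theorem Q82826 : ∀ i, i < 82826 → P i := stepQ 82825 Q82825 (allL N82825 (tt N48684 (iv1 D182919)) (tt N76937 (iv0 F354013)) (tt N52829 F354010) (tt N53537 (iv3 F354008)) (tt N52824 (iv4 F354009)) (tt N113060 D216313) (tt N110265 (iv6 F470726)) (tt N52825 F354011))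
theorem Q82827 : ∀ i, i < 82827 → P i := stepQ 82826 Q82826 (allL N82826 (tt N113061 D216314) (tt N112283 (iv0 F480347)) (tt N88823 (iv2 F384262)) (tt N48688 F284505) (tt N89606 F386939) (tt N48684 (iv5 D182920)) (tt N48687 F284506) (tt N76952 F366823))
theorem Q82828 : ∀ i, i < 82828 → P i := stepQ 82827 Q82827 (allL N82827 (tt N84033 (iv1 F367876)) (tt N52321 (iv0 F353220)) (tt N52537 F284517) (tt N52495 F284519) (tt N48685 (iv4 D182924)) (tt N79254 F353205) (tt N79246 (iv6 F353207)) (tt N52510 F284518))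
theorem Q82829 : ∀ i, i < 82829 → P i := stepQ 82828 Q82828 (allL N82828 (tt N90736 (iv1 F390695)) (tt N83503 (iv0 F353219)) (tt N88824 (iv2 F384265)) (tt N88583 (iv3 F383529)) (tt N113062 D216315) (tt N48685 (iv5 D182925)) (tt N113063 D216316) (tt N88825 (iv7 F384271)))
theorem Q82830 : ∀ i, i < 82830 → P i := stepQ 82829 Q82829 (allL N82829 (tt N80135 F353217) (tt N80140 F353218) (tt N81481 F353213) (tt N88584 (iv3 F383530)) (tt N79246 (iv4 F353214)) (tt N80124 (iv5 F353215)) (tt N48685 (iv6 D182926)) (tt N81486 (iv7 F353216)))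
theorem Q82831 : ∀ i, i < 82831 → P i := stepQ 82830 Q82830 (allL N82830 (tt N52321 F289562) (tt N84033 F367875) (tt N52510 F284520) (tt N49939 F284521) (tt N48686 (iv4 D182927)) (tt N111487 (iv5 F476571)) (tt N113064 D216317) (tt N52537 F284522))
theorem Q82832 : ∀ i, i < 82832 → P i := stepQ 82831 Q82831 (allL N82831 (tt N83503 F356256) (tt N90736 F390694) (tt N88825 (iv2 F384270)) (tt N83900 (iv3 F367444)) (tt N91004 (iv4 F391538)) (tt N48686 (iv5 D182928)) (tt N113065 D216318) (tt N88824 (iv7 F384266)))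
theorem Q82833 : ∀ i, i < 82833 → P i := stepQ 82832 Q82832 (allL N82832 (tt N55300 (iv1 F387244)) (tt N83165 (iv0 F367650)) (tt N83163 (iv2 F381819)) (tt N83901 (iv3 F367445)) (tt N113064 (iv4 F483810)) (tt N89678 (iv5 F387193)) (tt N48686 (iv6 D182929)) (tt N83164 (iv7 F381820)))
theorem Q82834 : ∀ i, i < 82834 → P i := stepQ 82833 Q82833 (allL N82833 (tt N88829 (iv1 F384291)) (tt N48687 (iv0 D182930)) (tt N88826 F384276) (tt N88587 F386330) (tt N113066 D216319) (tt N83201 F368863) (tt N113067 D216320) (tt N88827 (iv7 F384280)))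
theorem Q82835 : ∀ i, i < 82835 → P i := stepQ 82834 Q82834 (allL N82834 (tt N48687 (iv1 D182931)) (tt N88829 F384290) (tt N88827 F384282) (tt N83903 (iv3 F372296)) (tt N113068 D216321) (tt N83202 (iv5 F287658)) (tt N82701 (iv6 F483441)) (tt N88826 F384277))
theorem Q82836 : ∀ i, i < 82836 → P i := stepQ 82835 Q82835 (allL N82835 (tt N54540 (iv1 F368861)) (tt N54537 (iv0 F365542)) (tt N88828 (iv2 F384283)) (tt N113069 D216322) (tt N48687 (iv4 D182932)) (tt N54366 (iv5 F368854)) (tt N89606 (iv6 F386938)) (tt N54365 F368853))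
theorem Q82837 : ∀ i, i < 82837 → P i := stepQ 82836 Q82836 (allL N82836 (tt N77076 (iv1 F345160)) (tt N77075 F345158) (tt N77079 (iv2 F306628)) (tt N113070 D216323) (tt N48688 (iv4 D182945)) (tt N77096 F345157) (tt N48690 F284525) (tt N76969 F345159))
theorem Q82838 : ∀ i, i < 82838 → P i := stepQ 82837 Q82837 (allL N82837 (tt N113071 D216324) (tt N113072 D216325) (tt N49165 F284527) (tt N88549 (iv3 F383484)) (tt N83516 (iv4 F356710)) (tt N50693 (iv5 F295279)) (tt N48689 (iv6 D182947)) (tt N82698 F356707))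
theorem Q82839 : ∀ i, i < 82839 → P i := stepQ 82838 Q82838 (allL N82838 (tt N90824 (iv1 F390993)) (tt N49755 F390981) (tt N90822 F390978) (tt N48690 (iv3 D182948)) (tt N113069 (iv4 F483830)) (tt N83396 (iv5 F287519)) (tt N113070 (iv6 F483836)) (tt N90823 (iv7 F390983)))
theorem Q82840 : ∀ i, i < 82840 → P i := stepQ 82839 Q82839 (allL N82839 (tt N48770 (iv1 F284558)) (tt N54718 (iv0 F284557)) (tt N62864 (iv2 F360604)) (tt N48691 (iv3 D182962)) (tt N109625 (iv4 F467802)) (tt N50665 F284556) (tt N62862 F360603) (tt N52292 (iv7 F360607)))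
theorem Q82841 : ∀ i, i < 82841 → P i := stepQ 82840 Q82840 (allL N82840 (tt N49632 (iv1 F284567)) (tt N49629 F284568) (tt N66995 F348702) (tt N77577 F353919) (tt N48693 F284566) (tt N52279 (iv5 F353920)) (tt N66993 (iv6 F361223)) (tt N48692 (iv7 D182967)))
theorem Q82842 : ∀ i, i < 82842 → P i := stepQ 82841 Q82841 (allL N82841 (tt N83483 F289851) (tt N48694 (iv0 D182979)) (tt N49163 F289852) (tt N88533 (iv3 F383437)) (tt N109452 (iv4 F467028)) (tt N49162 F289853) (tt N113073 D216326) (tt N83474 F289854))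
theorem Q82843 : ∀ i, i < 82843 → P i := stepQ 82842 Q82842 (allL N82842 (tt N85517 (iv1 F372919)) (tt N99784 F426204) (tt N99783 F426198) (tt N105182 (iv3 F449131)) (tt N48694 (iv4 D182981)) (tt N99987 (iv5 F427066)) (tt N63135 F284571) (tt N99782 F426193))
theorem Q82844 : ∀ i, i < 82844 → P i := stepQ 82843 Q82843 (allL N82843 (tt N48695 (iv1 D182984)) (tt N80594 F284574) (tt N49396 F349052) (tt N83956 F367603) (tt N49384 F349053) (tt N101099 (iv5 F431668)) (tt N85911 (iv6 F374429)) (tt N49392 F349054))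
theorem Q82845 : ∀ i, i < 82845 → P i := stepQ 82844 Q82844 (allL N82844 (tt N49396 F335651) (tt N49392 F335652) (tt N80594 F284578) (tt N48698 F284579) (tt N80594 F284580) (tt N61545 F336784) (tt N84226 (iv6 F368602)) (tt N48695 (iv7 D182986)))
theorem Q82846 : ∀ i, i < 82846 → P i := stepQ 82845 Q82845 (allL N82845 (tt N84469 (iv1 F369421)) (tt N84347 F369012) (tt N75664 F345987) (tt N75044 F356591) (tt N75644 (iv4 F339710)) (tt N48696 (iv5 D182995)) (tt N76728 (iv6 F345986)) (tt N76100 (iv7 F345990)))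
theorem Q82847 : ∀ i, i < 82847 → P i := stepQ 82846 Q82846 (allL N82846 (tt N53170 F284598) (tt N49377 (iv0 F284599)) (tt N51126 (iv2 F295259)) (tt N48699 (iv3 D183001)) (tt N51126 (iv4 F295260)) (tt N113074 D216327) (tt N91419 (iv6 F393057)) (tt N48706 F284597))
theorem Q82848 : ∀ i, i < 82848 → P i := stepQ 82847 Q82847 (allL N82847 (tt N50686 (iv1 F333860)) (tt N88934 F384561) (tt N48704 F284600) (tt N113074 (iv3 F483856)) (tt N85510 (iv4 F372890)) (tt N48699 (iv5 D183002)) (tt N113075 D216328) (tt N48707 F284601))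
theorem Q82849 : ∀ i, i < 82849 → P i := stepQ 82848 Q82848 (allL N82848 (tt N88934 (iv1 F384562)) (tt N50686 F333859) (tt N48707 F284605) (tt N50062 (iv3 F294278)) (tt N79813 F333855) (tt N48700 (iv5 D183004)) (tt N71195 F337823) (tt N48704 F284607))
theorem Q82850 : ∀ i, i < 82850 → P i := stepQ 82849 Q82849 (allL N82849 (tt N48712 (iv1 F284618)) (tt N48701 (iv0 D183006)) (tt N48709 F284676) (tt N113076 D216329) (tt N86303 (iv4 F375761)) (tt N82749 (iv5 F294918)) (tt N99883 (iv6 F426675)) (tt N48710 F284677))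
theorem Q82851 : ∀ i, i < 82851 → P i := stepQ 82850 Q82850 (allL N82850 (tt N48701 (iv1 D183007)) (tt N48712 F284611) (tt N48710 F284672) (tt N51128 (iv3 F294613)) (tt N64287 F333849) (tt N48863 (iv5 F284612)) (tt N99307 (iv6 F424032)) (tt N48709 F284673))
theorem Q82852 : ∀ i, i < 82852 → P i := stepQ 82851 Q82851 (allL N82851 (tt N85498 (iv1 F372853)) (tt N85492 (iv0 F372818)) (tt N48711 F284614) (tt N113077 D216330) (tt N48701 (iv4 D183008)) (tt N79830 (iv5 F348605)) (tt N75865 F284615) (tt N113078 D216331))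
theorem Q82853 : ∀ i, i < 82853 → P i := stepQ 82852 Q82852 (allL N82852 (tt N48710 (iv1 F284619)) (tt N48709 F284620) (tt N48712 F284616) (tt N83929 (iv3 F367520)) (tt N113078 (iv4 F483872)) (tt N48702 F284617) (tt N70390 (iv6 F337820)) (tt N48701 (iv7 D183009)))
theorem Q82854 : ∀ i, i < 82854 → P i := stepQ 82853 Q82853 (allL N82853 (tt N65356 (iv1 F284622)) (tt N48703 (iv0 D183010)) (tt N57691 (iv2 F315174)) (tt N63904 (iv3 F301600)) (tt N94619 (iv4 F405248)) (tt N57685 (iv5 F310493)) (tt N113079 D216332) (tt N63991 (iv7 F305541)))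
theorem Q82855 : ∀ i, i < 82855 → P i := stepQ 82854 Q82854 (allL N82854 (tt N90438 (iv1 F389651)) (tt N90440 (iv0 F389653)) (tt N75865 F284630) (tt N105436 (iv3 F450261)) (tt N48703 (iv4 D183012)) (tt N105435 (iv5 F450259)) (tt N48711 F284631) (tt N82252 F284632))
theorem Q82856 : ∀ i, i < 82856 → P i := stepQ 82855 Q82855 (allL N82855 (tt N48707 (iv1 F284643)) (tt N48704 (iv0 D183016)) (tt N50686 (iv2 F295224)) (tt N83532 F290131) (tt N113080 D216333) (tt N50685 (iv5 F294103)) (tt N113081 D216334) (tt N88934 (iv7 F384560)))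
theorem Q82857 : ∀ i, i < 82857 → P i := stepQ 82856 Q82856 (allL N82856 (tt N48704 (iv1 D183017)) (tt N48707 F284644) (tt N88934 (iv2 F384558)) (tt N48726 F362813) (tt N89830 (iv4 F387676)) (tt N49164 F362814) (tt N82262 F362815) (tt N50686 F362816))
theorem Q82858 : ∀ i, i < 82858 → P i := stepQ 82857 Q82857 (allL N82857 (tt N113082 D216335) (tt N70402 (iv0 F411400)) (tt N113075 (iv2 F483859)) (tt N62418 (iv3 F343172)) (tt N111027 (iv4 F474327)) (tt N96187 (iv5 F411396)) (tt N48704 (iv6 D183019)) (tt N107130 (iv7 F457113)))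
theorem Q82859 : ∀ i, i < 82859 → P i := stepQ 82858 Q82858 (allL N82858 (tt N84888 (iv1 F371008)) (tt N84882 F370994) (tt N83910 (iv2 F367463)) (tt N48707 F284658) (tt N98494 (iv4 F421118)) (tt N48706 (iv5 D183025)) (tt N98493 (iv6 F421114)) (tt N113074 (iv7 F483857)))
theorem Q82860 : ∀ i, i < 82860 → P i := stepQ 82859 Q82859 (allL N82859 (tt N88962 F384607) (tt N88584 F383533) (tt N72010 F356214) (tt N48708 F284659) (tt N72010 F356215) (tt N62445 F356218) (tt N48706 (iv6 D183026)) (tt N71864 (iv7 F356219)))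
theorem Q82861 : ∀ i, i < 82861 → P i := stepQ 82860 Q82860 (allL N82860 (tt N85500 (iv1 F372859)) (tt N84865 (iv0 F370906)) (tt N79813 F333853) (tt N111034 (iv3 F474354)) (tt N48707 (iv4 D183029)) (tt N79808 (iv5 F333851)) (tt N110899 (iv6 F473681)) (tt N85510 (iv7 F372892)))
theorem Q82862 : ∀ i, i < 82862 → P i := stepQ 82861 Q82861 (allL N82861 (tt N105281 (iv1 F449539)) (tt N105283 (iv0 F449548)) (tt N99883 (iv2 F426674)) (tt N72965 (iv3 F341407)) (tt N58164 F341406) (tt N99854 (iv5 F426552)) (tt N48709 (iv6 D183039)) (tt N94832 (iv7 F406087)))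
theorem Q82863 : ∀ i, i < 82863 → P i := stepQ 82862 Q82862 (allL N82862 (tt N85920 (iv1 F374475)) (tt N85919 (iv0 F374467)) (tt N83912 (iv2 F367470)) (tt N48710 (iv3 D183041)) (tt N113083 D216336) (tt N84754 (iv5 F370493)) (tt N113084 D216337) (tt N113076 (iv7 F483866)))
theorem Q82864 : ∀ i, i < 82864 → P i := stepQ 82863 Q82863 (allL N82863 (tt N86300 (iv1 F375753)) (tt N50588 (iv0 F363799)) (tt N64287 (iv2 F363800)) (tt N80582 F363801) (tt N48710 (iv4 D183042)) (tt N58209 (iv5 F333848)) (tt N99305 (iv6 F424019)) (tt N86303 (iv7 F375764)))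
theorem Q82865 : ∀ i, i < 82865 → P i := stepQ 82864 Q82864 (allL N82864 (tt N71241 F384563) (tt N107778 F459687) (tt N99307 (iv2 F424030)) (tt N113084 (iv3 F483906)) (tt N99305 F424020) (tt N113085 D216338) (tt N48710 (iv6 D183044)) (tt N107775 (iv7 F459667)))
theorem Q82866 : ∀ i, i < 82866 → P i := stepQ 82865 Q82865 (allL N82865 (tt N113078 (iv1 F483876)) (tt N48711 (iv0 D183045)) (tt N85498 (iv2 F372850)) (tt N82419 F338453) (tt N51157 F338450) (tt N82441 (iv5 F363990)) (tt N95156 (iv6 F407258)) (tt N85492 (iv7 F372817)))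
theorem Q82867 : ∀ i, i < 82867 → P i := stepQ 82866 Q82866 (allL N82866 (tt N48711 (iv1 D183046)) (tt N113078 F483875) (tt N85492 (iv2 F372816)) (tt N95193 (iv3 F407367)) (tt N51158 (iv4 F295440)) (tt N95192 F407366) (tt N113086 D216339) (tt N85498 (iv7 F372851)))
theorem Q82868 : ∀ i, i < 82868 → P i := stepQ 82867 Q82867 (allL N82867 (tt N95135 F407187) (tt N73509 (iv0 F341313)) (tt N105440 (iv2 F450273)) (tt N48711 (iv3 D183047)) (tt N48738 F284679) (tt N82409 F363803) (tt N105436 (iv6 F450266)) (tt N111035 (iv7 F474361)))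
theorem Q82869 : ∀ i, i < 82869 → P i := stepQ 82868 Q82868 (allL N82868 (tt N85492 (iv1 F372820)) (tt N85498 (iv0 F372852)) (tt N113078 (iv2 F483871)) (tt N111035 (iv3 F474360)) (tt N48712 F284680) (tt N79833 (iv5 F348604)) (tt N70392 (iv6 F364106)) (tt N48711 (iv7 D183049)))
theorem Q82870 : ∀ i, i < 82870 → P i := stepQ 82869 Q82869 (allL N82869 (tt N81825 F342324) (tt N81819 (iv0 F363190)) (tt N81824 F363862) (tt N48714 F284683) (tt N79608 F342323) (tt N48713 (iv5 D183053)) (tt N48850 F284684) (tt N77428 (iv7 F363870)))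
theorem Q82871 : ∀ i, i < 82871 → P i := stepQ 82870 Q82870 (allL N82870 (tt N76335 F334743) (tt N105718 (iv0 F451402)) (tt N88853 (iv2 F384351)) (tt N48716 F284697) (tt N113087 D216340) (tt N48715 (iv5 D183083)) (tt N113088 D216341) (tt N110057 (iv7 F469774)))
theorem Q82872 : ∀ i, i < 82872 → P i := stepQ 82871 Q82871 (allL N82871 (tt N100594 (iv1 F429611)) (tt N100600 F429642) (tt N100599 (iv2 F429639)) (tt N98439 (iv3 F420921)) (tt N48716 (iv4 D183089)) (tt N52031 F335096) (tt N99604 (iv6 F425372)) (tt N98433 F420911))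
theorem Q82873 : ∀ i, i < 82873 → P i := stepQ 82872 Q82872 (allL N82872 (tt N107817 (iv1 F459831)) (tt N103027 (iv0 F439732)) (tt N108446 (iv2 F462609)) (tt N113088 (iv3 F483927)) (tt N99604 (iv4 F425374)) (tt N65229 F366835) (tt N48716 (iv6 D183090)) (tt N109395 (iv7 F466746)))
theorem Q82874 : ∀ i, i < 82874 → P i := stepQ 82873 Q82873 (allL N82873 (tt N100600 (iv1 F429643)) (tt N100594 (iv0 F429610)) (tt N98433 (iv2 F420907)) (tt N98256 (iv3 F420204)) (tt N48717 (iv4 D183097)) (tt N52027 F335103) (tt N84776 F370587) (tt N100599 (iv7 F429635)))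
theorem Q82875 : ∀ i, i < 82875 → P i := stepQ 82874 Q82874 (allL N82874 (tt N61212 (iv1 F356708)) (tt N50693 (iv0 F295277)) (tt N98432 (iv2 F420902)) (tt N88860 (iv3 F384364)) (tt N84776 F370588) (tt N110159 (iv5 F470217)) (tt N48717 (iv6 D183098)) (tt N92803 (iv7 F398297)))
theorem Q82876 : ∀ i, i < 82876 → P i := stepQ 82875 Q82875 (allL N82875 (tt N94156 F403468) (tt N106190 (iv0 F453540)) (tt N88862 (iv2 F384378)) (tt N48719 (iv3 D183104)) (tt N113089 D216342) (tt N64001 (iv5 F366768)) (tt N113090 D216343) (tt N109704 (iv7 F468203)))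
theorem Q82877 : ∀ i, i < 82877 → P i := stepQ 82876 Q82876 (allL N82876 (tt N83296 F287206) (tt N52773 F364058) (tt N83292 F364050) (tt N113091 D216344) (tt N48719 (iv4 D183105)) (tt N52021 F364047) (tt N50097 F364059) (tt N83293 (iv7 F364063)))
theorem Q82878 : ∀ i, i < 82878 → P i := stepQ 82877 Q82877 (allL N82877 (tt N113092 D216345) (tt N113093 D216346) (tt N85852 (iv2 F374215)) (tt N113090 (iv3 F483936)) (tt N50097 (iv4 F364060)) (tt N49188 F284725) (tt N48719 (iv6 D183107)) (tt N85855 (iv7 F374230)))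
theorem Q82879 : ∀ i, i < 82879 → P i := stepQ 82878 Q82878 (allL N82878 (tt N52773 F284727) (tt N83296 F287205) (tt N83293 (iv2 F364064)) (tt N101167 (iv3 F432015)) (tt N48720 (iv4 D183109)) (tt N52010 F364048) (tt N108448 (iv6 F462621)) (tt N83292 F364051))
theorem Q82880 : ∀ i, i < 82880 → P i := stepQ 82879 Q82879 (allL N82879 (tt N103038 F439782) (tt N103116 (iv0 F440147)) (tt N108450 (iv2 F462633)) (tt N88866 (iv3 F384385)) (tt N108448 (iv4 F462623)) (tt N83185 (iv5 F286220)) (tt N48720 (iv6 D183110)) (tt N113094 D216347))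
theorem Q82881 : ∀ i, i < 82881 → P i := stepQ 82880 Q82880 (allL N82880 (tt N52037 F356683) (tt N48721 (iv0 D183111)) (tt N88455 (iv2 F383118)) (tt N109619 (iv3 F467775)) (tt N49031 F356684) (tt N113095 D216348) (tt N85850 (iv6 F374206)) (tt N88457 (iv7 F383130)))
theorem Q82882 : ∀ i, i < 82882 → P i := stepQ 82881 Q82881 (allL N82881 (tt N48721 (iv1 D183112)) (tt N52037 F356680) (tt N88457 (iv2 F383129)) (tt N111268 (iv3 F475537)) (tt N49032 F284728) (tt N103988 (iv5 F443670)) (tt N80146 (iv6 F362979)) (tt N88455 (iv7 F383119)))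
theorem Q82883 : ∀ i, i < 82883 → P i := stepQ 82882 Q82882 (allL N82882 (tt N51064 F364999) (tt N103044 (iv0 F439816)) (tt N97284 (iv2 F416204)) (tt N48721 (iv3 D183113)) (tt N105436 (iv4 F450263)) (tt N60205 (iv5 F364983)) (tt N48738 F284729) (tt N97285 (iv7 F416214)))
theorem Q82884 : ∀ i, i < 82884 → P i := stepQ 82883 Q82883 (allL N82883 (tt N52035 F356670) (tt N52034 (iv0 F356686)) (tt N52038 (iv2 F356673)) (tt N60205 F364982) (tt N51762 (iv4 F356674)) (tt N48721 (iv5 D183114)) (tt N87597 (iv6 F379846)) (tt N51761 F356672))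
theorem Q82885 : ∀ i, i < 82885 → P i := stepQ 82884 Q82884 (allL N82884 (tt N88457 (iv1 F383132)) (tt N88455 (iv0 F383120)) (tt N52037 F356676) (tt N97285 (iv3 F416212)) (tt N48722 F284730) (tt N51761 (iv5 F356675)) (tt N87600 (iv6 F379857)) (tt N48721 (iv7 D183115)))
theorem Q82886 : ∀ i, i < 82886 → P i := stepQ 82885 Q82885 (allL N82885 (tt N86730 (iv1 F377011)) (tt N86729 F377015) (tt N86731 (iv2 F377012)) (tt N69241 (iv3 F337792)) (tt N87600 (iv4 F379856)) (tt N69240 F364104) (tt N48722 (iv6 D183116)) (tt N48741 F284732))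
theorem Q82887 : ∀ i, i < 82887 → P i := stepQ 82886 Q82886 (allL N82886 (tt N51134 (iv1 F364440)) (tt N51137 (iv0 F294339)) (tt N81559 F364444) (tt N50674 (iv3 F294108)) (tt N48723 (iv4 D183117)) (tt N111729 (iv5 F477704)) (tt N87099 F378371) (tt N52489 F284733))
theorem Q82888 : ∀ i, i < 82888 → P i := stepQ 82887 Q82887 (allL N82887 (tt N85418 F372558) (tt N48732 F372559) (tt N87636 (iv2 F379957)) (tt N85919 (iv3 F374464)) (tt N103936 (iv4 F443447)) (tt N48723 (iv5 D183118)) (tt N103935 F443443) (tt N87251 (iv7 F378876)))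
theorem Q82889 : ∀ i, i < 82889 → P i := stepQ 82888 Q82888 (allL N82888 (tt N85411 (iv1 F372528)) (tt N48724 (iv0 D183119)) (tt N87638 F379969) (tt N84882 (iv3 F370992)) (tt N89100 (iv4 F385151)) (tt N83118 F286016) (tt N89099 F385150) (tt N87637 F379965))
theorem Q82890 : ∀ i, i < 82890 → P i := stepQ 82889 Q82889 (allL N82889 (tt N48724 (iv1 D183120)) (tt N85411 F372517) (tt N87637 F379964) (tt N83764 F370486) (tt N105229 F449307) (tt N83119 F367241) (tt N113096 D216349) (tt N87638 (iv7 F379967)))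
theorem Q82891 : ∀ i, i < 82891 → P i := stepQ 82890 Q82890 (allL N82890 (tt N85460 (iv1 F372697)) (tt N84874 (iv0 F370958)) (tt N85471 (iv2 F372732)) (tt N89816 F449310) (tt N48724 (iv4 D183121)) (tt N84945 F371153) (tt N113097 D216350) (tt N85470 F372730))
theorem Q82892 : ∀ i, i < 82892 → P i := stepQ 82891 Q82891 (allL N82891 (tt N91068 F421258) (tt N101375 (iv0 F443444)) (tt N88868 (iv2 F384393)) (tt N48728 F284736) (tt N113097 (iv4 F483960)) (tt N83207 (iv5 F286280)) (tt N48724 (iv6 D183122)) (tt N113098 D216351))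
theorem Q82893 : ∀ i, i < 82893 → P i := stepQ 82892 Q82892 (allL N82892 (tt N84398 (iv1 F369151)) (tt N48725 (iv0 D183123)) (tt N87256 (iv2 F378909)) (tt N85911 (iv3 F374430)) (tt N87369 (iv4 F379143)) (tt N89936 (iv5 F388049)) (tt N83956 F374432) (tt N88869 (iv7 F384396)))
theorem Q82894 : ∀ i, i < 82894 → P i := stepQ 82893 Q82893 (allL N82893 (tt N48725 (iv1 D183124)) (tt N84398 F369150) (tt N88869 (iv2 F384400)) (tt N53677 F375505) (tt N74191 (iv4 F366944)) (tt N89490 (iv5 F386634)) (tt N113018 F483582) (tt N87256 F378914))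
theorem Q82895 : ∀ i, i < 82895 → P i := stepQ 82894 Q82894 (allL N82894 (tt N113099 D216352) (tt N98333 (iv0 F420531)) (tt N98425 (iv2 F420889)) (tt N48727 (iv3 D183128)) (tt N89816 (iv4 F449311)) (tt N82912 (iv5 F284751)) (tt N98345 F420578) (tt N87640 (iv7 F379972)))
theorem Q82896 : ∀ i, i < 82896 → P i := stepQ 82895 Q82895 (allL N82895 (tt N86314 F375799) (tt N86317 (iv0 F375809)) (tt N109801 (iv2 F468680)) (tt N98345 (iv3 F420575)) (tt N48728 F284742) (tt N66951 (iv5 F358474)) (tt N48727 (iv6 D183129)) (tt N98418 (iv7 F420874)))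
theorem Q82897 : ∀ i, i < 82897 → P i := stepQ 82896 Q82896 (allL N82896 (tt N112907 (iv1 F483231)) (tt N48728 (iv0 D183130)) (tt N112905 F483215) (tt N88941 (iv3 F421332)) (tt N98559 F421330) (tt N111843 (iv5 F478264)) (tt N107817 F459832) (tt N112906 (iv7 F483220)))
theorem Q82898 : ∀ i, i < 82898 → P i := stepQ 82897 Q82897 (allL N82897 (tt N48728 (iv1 D183131)) (tt N112907 F483230) (tt N112906 (iv2 F483224)) (tt N70402 F442156) (tt N109558 (iv4 F467511)) (tt N111844 (iv5 F478269)) (tt N70400 (iv6 F442155)) (tt N112905 F483217))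
theorem Q82899 : ∀ i, i < 82899 → P i := stepQ 82898 Q82898 (allL N82898 (tt N112906 (iv1 F483219)) (tt N112905 (iv0 F483218)) (tt N112907 (iv2 F483225)) (tt N113098 (iv3 F483962)) (tt N98418 (iv4 F420875)) (tt N83209 (iv5 F286283)) (tt N87644 (iv6 F379979)) (tt N48728 (iv7 D183132)))
theorem Q82900 : ∀ i, i < 82900 → P i := stepQ 82899 Q82899 (allL N82899 (tt N98330 (iv1 F420535)) (tt N98334 (iv0 F420534)) (tt N98332 (iv2 F420528)) (tt N48729 (iv3 D183133)) (tt N88877 (iv4 F384413)) (tt N82907 (iv5 F284749)) (tt N70782 (iv6 F416558)) (tt N98331 F420526))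
theorem Q82901 : ∀ i, i < 82901 → P i := stepQ 82900 Q82900 (allL N82900 (tt N70807 F448091) (tt N113100 D216353) (tt N87641 (iv2 F379973)) (tt N70782 F416559) (tt N48730 F284743) (tt N104948 (iv5 F448088)) (tt N48729 (iv6 D183134)) (tt N104947 F448082))
theorem Q82902 : ∀ i, i < 82902 → P i := stepQ 82901 Q82901 (allL N82901 (tt N87644 (iv1 F379982)) (tt N48730 (iv0 D183135)) (tt N87642 F426549) (tt N71393 (iv3 F426547)) (tt N86740 (iv4 F444489)) (tt N71392 F426546) (tt N109293 (iv6 F466232)) (tt N87643 (iv7 F426548)))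
theorem Q82903 : ∀ i, i < 82903 → P i := stepQ 82902 Q82902 (allL N82902 (tt N48730 (iv1 D183136)) (tt N87644 F379981) (tt N87643 (iv2 F426550)) (tt N113101 D216354) (tt N86741 F405231) (tt N110056 (iv5 F469764)) (tt N100644 (iv6 F429820)) (tt N87642 F426551))
theorem Q82904 : ∀ i, i < 82904 → P i := stepQ 82903 Q82903 (allL N82903 (tt N71238 F405227) (tt N71231 F405228) (tt N55373 F284744) (tt N54768 F284745) (tt N90300 (iv4 F389275)) (tt N48730 (iv5 D183137)) (tt N48731 F284746) (tt N71236 (iv7 F358541)))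
theorem Q82905 : ∀ i, i < 82905 → P i := stepQ 82904 Q82904 (allL N82904 (tt N87643 (iv1 F379976)) (tt N87642 F379980) (tt N87644 (iv2 F379978)) (tt N88880 (iv3 F384415)) (tt N104947 (iv4 F448083)) (tt N71236 F358542) (tt N112907 (iv6 F483229)) (tt N48730 (iv7 D183138)))
theorem Q82906 : ∀ i, i < 82906 → P i := stepQ 82905 Q82905 (allL N82905 (tt N86281 (iv1 F375674)) (tt N49563 (iv0 F284747)) (tt N86287 (iv2 F375699)) (tt N113102 D216355) (tt N48732 (iv4 D183141)) (tt N113103 D216356) (tt N107965 (iv6 F460512)) (tt N86286 F375695))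
theorem Q82907 : ∀ i, i < 82907 → P i := stepQ 82906 Q82906 (allL N82906 (tt N113104 D216357) (tt N72469 (iv0 F396200)) (tt N88881 (iv2 F384416)) (tt N48734 F284748) (tt N107965 (iv4 F460510)) (tt N92195 (iv5 F396194)) (tt N48732 (iv6 D183142)) (tt N113105 D216358))
theorem Q82908 : ∀ i, i < 82908 → P i := stepQ 82907 Q82907 (allL N82907 (tt N113106 D216359) (tt N113107 D216360) (tt N104180 (iv2 F444559)) (tt N48733 (iv3 D183143)) (tt N113102 (iv4 F483979)) (tt N82899 F284749) (tt N70745 F416555) (tt N112910 (iv7 F483243)))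
theorem Q82909 : ∀ i, i < 82909 → P i := stepQ 82908 Q82908 (allL N82908 (tt N113108 D216361) (tt N98311 (iv0 F420453)) (tt N109641 (iv2 F467885)) (tt N70745 (iv3 F416554)) (tt N48734 F284750) (tt N70744 F416547) (tt N48733 (iv6 D183144)) (tt N104064 (iv7 F444002)))
theorem Q82910 : ∀ i, i < 82910 → P i := stepQ 82909 Q82909 (allL N82909 (tt N110267 (iv1 F470734)) (tt N48734 (iv0 D183145)) (tt N112908 F483235) (tt N75032 (iv3 F359701)) (tt N113109 D216362) (tt N75104 F359700) (tt N103116 F440148) (tt N109450 (iv7 F467017)))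
theorem Q82911 : ∀ i, i < 82911 → P i := stepQ 82910 Q82910 (allL N82910 (tt N48734 (iv1 D183146)) (tt N110267 (iv0 F470733)) (tt N109450 (iv2 F467015)) (tt N105283 (iv3 F449546)) (tt N61199 (iv4 F416556)) (tt N105282 (iv5 F449545)) (tt N61198 F416557) (tt N112908 (iv7 F483237)))
theorem Q82912 : ∀ i, i < 82912 → P i := stepQ 82911 Q82911 (allL N82911 (tt N109450 (iv1 F467020)) (tt N112908 F483236) (tt N110267 (iv2 F470730)) (tt N113105 (iv3 F483992)) (tt N104064 (iv4 F444003)) (tt N75375 F359699) (tt N112911 (iv6 F483247)) (tt N48734 (iv7 D183148)))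
theorem Q82913 : ∀ i, i < 82913 → P i := stepQ 82912 Q82912 (allL N82912 (tt N113110 D216363) (tt N113111 D216364) (tt N113112 D216365) (tt N48735 (iv3 D183149)) (tt N88889 (iv4 F384436)) (tt N82894 F284751) (tt N98315 F420470) (tt N109643 (iv7 F467898)))
theorem Q82914 : ∀ i, i < 82914 → P i := stepQ 82913 Q82913 (allL N82913 (tt N73154 (iv1 F358478)) (tt N73158 (iv0 F358477)) (tt N99591 (iv2 F425311)) (tt N98315 (iv3 F420468)) (tt N48736 F284752) (tt N73585 F358475) (tt N48735 (iv6 D183150)) (tt N107907 (iv7 F460215)))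
theorem Q82915 : ∀ i, i < 82915 → P i := stepQ 82914 Q82914 (allL N82914 (tt N112911 (iv1 F483249)) (tt N48736 (iv0 D183151)) (tt N107830 (iv2 F459898)) (tt N71241 F358538) (tt N61179 F358479) (tt N71235 (iv5 F358534)) (tt N71237 F358539) (tt N103017 (iv7 F439687)))
theorem Q82916 : ∀ i, i < 82916 → P i := stepQ 82915 Q82915 (allL N82915 (tt N48736 (iv1 D183152)) (tt N112911 F483248) (tt N103017 (iv2 F439686)) (tt N113113 D216366) (tt N85545 F373022) (tt N99328 (iv5 F424117)) (tt N113092 (iv6 F483944)) (tt N107830 (iv7 F459901)))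
theorem Q82917 : ∀ i, i < 82917 → P i := stepQ 82916 Q82916 (allL N82916 (tt N103017 (iv1 F439690)) (tt N107830 (iv0 F459902)) (tt N112911 (iv2 F483244)) (tt N88891 (iv3 F384442)) (tt N107907 (iv4 F460214)) (tt N91730 (iv5 F394218)) (tt N110267 (iv6 F470735)) (tt N48736 (iv7 D183153)))
theorem Q82918 : ∀ i, i < 82918 → P i := stepQ 82917 Q82917 (allL N82917 (tt N113109 (iv1 F484012)) (tt N61199 (iv0 F356663)) (tt N85547 (iv2 F373028)) (tt N62808 (iv3 F356635)) (tt N82935 (iv4 F284796)) (tt N62807 F356634) (tt N48737 (iv6 D183155)) (tt N74916 (iv7 F356636)))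
theorem Q82919 : ∀ i, i < 82919 → P i := stepQ 82918 Q82918 (allL N82918 (tt N113114 D216367) (tt N48738 (iv0 D183158)) (tt N103045 (iv2 F439818)) (tt N113115 D216368) (tt N113116 D216369) (tt N98235 (iv5 F420089)) (tt N61202 F420090) (tt N103021 (iv7 F439709)))
theorem Q82920 : ∀ i, i < 82920 → P i := stepQ 82919 Q82919 (allL N82919 (tt N48738 (iv1 D183159)) (tt N113114 F484034) (tt N103021 (iv2 F439707)) (tt N113117 D216370) (tt N107902 (iv4 F460195)) (tt N61590 F365001) (tt N61175 (iv6 F365000)) (tt N103045 (iv7 F439819)))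
theorem Q82921 : ∀ i, i < 82921 → P i := stepQ 82920 Q82920 (allL N82920 (tt N103045 F439821) (tt N103021 (iv0 F439710)) (tt N48738 (iv2 D183160)) (tt N112912 (iv3 F483250)) (tt N105440 (iv4 F450274)) (tt N111219 (iv5 F475273)) (tt N97284 F416210) (tt N113114 (iv7 F484035)))
theorem Q82922 : ∀ i, i < 82922 → P i := stepQ 82921 Q82921 (allL N82921 (tt N103046 F439826) (tt N103048 (iv0 F439840)) (tt N111219 (iv2 F475272)) (tt N48739 F284755) (tt N113118 D216371) (tt N48738 (iv5 D183161)) (tt N92860 F398550) (tt N82643 (iv7 F284756)))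
theorem Q82923 : ∀ i, i < 82923 → P i := stepQ 82922 Q82922 (allL N82922 (tt N103021 F439711) (tt N103045 (iv0 F439822)) (tt N113114 F484033) (tt N48740 F284757) (tt N111035 (iv4 F474362)) (tt N82643 F284758) (tt N92988 (iv6 F399619)) (tt N48738 (iv7 D183162)))
theorem Q82924 : ∀ i, i < 82924 → P i := stepQ 82923 Q82923 (allL N82923 (tt N92824 F398392) (tt N105476 (iv0 F450411)) (tt N82924 (iv2 F284760)) (tt N92860 (iv3 F398551)) (tt N51446 F284759) (tt N87597 (iv5 F379845)) (tt N48739 (iv6 D183163)) (tt N87507 (iv7 F379606)))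
theorem Q82925 : ∀ i, i < 82925 → P i := stepQ 82924 Q82924 (allL N82924 (tt N103032 F439759) (tt N105538 (iv0 F450642)) (tt N82923 F284760) (tt N92988 F399618) (tt N48741 F284761) (tt N87508 (iv5 F379608)) (tt N48740 (iv6 D183164)) (tt N87600 (iv7 F379858)))
theorem Q82926 : ∀ i, i < 82926 → P i := stepQ 82925 Q82925 (allL N82925 (tt N86731 (iv1 F377017)) (tt N48741 (iv0 D183165)) (tt N86729 F398842) (tt N113119 D216372) (tt N98441 (iv4 F420930)) (tt N93091 (iv5 F399444)) (tt N98440 F420928) (tt N86730 F398840))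
theorem Q82927 : ∀ i, i < 82927 → P i := stepQ 82926 Q82926 (allL N82926 (tt N48741 (iv1 D183166)) (tt N86731 F377016) (tt N86730 (iv2 F398839)) (tt N70370 (iv3 F405047)) (tt N113120 D216373) (tt N71913 (iv5 F364105)) (tt N113121 D216374) (tt N86729 (iv7 F398841)))
theorem Q82928 : ∀ i, i < 82928 → P i := stepQ 82927 Q82927 (allL N82927 (tt N86309 (iv1 F375783)) (tt N86308 F375775) (tt N50859 (iv2 F356763)) (tt N113122 D216375) (tt N48742 (iv4 D183167)) (tt N74952 (iv5 F356762)) (tt N85027 (iv6 F371406)) (tt N86310 (iv7 F375789)))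
theorem Q82929 : ∀ i, i < 82929 → P i := stepQ 82928 Q82928 (allL N82928 (tt N108366 F462279) (tt N113123 D216376) (tt N50860 (iv2 F356756)) (tt N48745 F284762) (tt N85027 (iv4 F371407)) (tt N83282 (iv5 F286690)) (tt N48742 (iv6 D183168)) (tt N89640 (iv7 F387045)))
theorem Q82930 : ∀ i, i < 82930 → P i := stepQ 82929 Q82929 (allL N82929 (tt N48743 (iv1 D183170)) (tt N50852 (iv0 F292705)) (tt N50850 (iv2 F292927)) (tt N88275 (iv3 F382431)) (tt N113124 D216377) (tt N86355 F375918) (tt N83841 (iv6 F289368)) (tt N50849 (iv7 F292925)))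
theorem Q82931 : ∀ i, i < 82931 → P i := stepQ 82930 Q82930 (allL N82930 (tt N113125 D216378) (tt N111190 (iv0 F475160)) (tt N113126 D216379) (tt N48744 (iv3 D183172)) (tt N113122 (iv4 F484070)) (tt N50580 (iv5 F295290)) (tt N76275 (iv6 F356761)) (tt N84899 (iv7 F371026)))
theorem Q82932 : ∀ i, i < 82932 → P i := stepQ 82931 Q82931 (allL N82931 (tt N98559 F421333) (tt N109558 F467513) (tt N51165 (iv2 F295354)) (tt N76275 F356760) (tt N48745 F284771) (tt N56315 (iv5 F356650)) (tt N48744 (iv6 D183173)) (tt N103104 (iv7 F440090)))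
theorem Q82933 : ∀ i, i < 82933 → P i := stepQ 82932 Q82932 (allL N82932 (tt N51168 (iv1 F295358)) (tt N48745 (iv0 D183174)) (tt N51166 F352540) (tt N66415 (iv3 F345610)) (tt N107908 (iv4 F460220)) (tt N66413 F345609) (tt N85620 (iv6 F373229)) (tt N51167 F352538))
theorem Q82934 : ∀ i, i < 82934 → P i := stepQ 82933 Q82933 (allL N82933 (tt N48745 (iv1 D183175)) (tt N51168 (iv0 F295357)) (tt N51167 (iv2 F352539)) (tt N105504 (iv3 F450493)) (tt N108444 (iv4 F462599)) (tt N86372 (iv5 F375988)) (tt N105394 (iv6 F450039)) (tt N51166 (iv7 F352541)))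
theorem Q82935 : ∀ i, i < 82935 → P i := stepQ 82934 Q82934 (allL N82934 (tt N51167 (iv1 F295356)) (tt N51166 (iv0 F295355)) (tt N51168 (iv2 F295359)) (tt N89640 (iv3 F387044)) (tt N103104 (iv4 F440091)) (tt N83285 (iv5 F286691)) (tt N86735 (iv6 F377025)) (tt N48745 (iv7 D183176)))
theorem Q82936 : ∀ i, i < 82936 → P i := stepQ 82935 Q82935 (allL N82935 (tt N110345 (iv1 F471148)) (tt N110332 (iv0 F471088)) (tt N50586 (iv2 F294672)) (tt N85566 (iv3 F373082)) (tt N82917 F284796) (tt N63941 (iv5 F356632)) (tt N48748 (iv6 D183181)) (tt N109061 (iv7 F465159)))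
theorem Q82937 : ∀ i, i < 82937 → P i := stepQ 82936 Q82936 (allL N82936 (tt N87962 (iv1 F381299)) (tt N51863 (iv0 F364028)) (tt N83151 (iv2 F286121)) (tt N68474 F284868) (tt N100665 (iv4 F429909)) (tt N113127 D216380) (tt N48749 (iv6 D183213)) (tt N87961 (iv7 F381295)))
theorem Q82938 : ∀ i, i < 82938 → P i := stepQ 82937 Q82937 (allL N82937 (tt N88001 (iv1 F381442)) (tt N51886 (iv0 F289706)) (tt N87928 (iv2 F381173)) (tt N87083 (iv3 F378317)) (tt N108742 (iv4 F463773)) (tt N48750 (iv5 D183216)) (tt N113127 (iv6 F484103)) (tt N87982 (iv7 F381369)))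
theorem Q82939 : ∀ i, i < 82939 → P i := stepQ 82938 Q82938 (allL N82938 (tt N51813 (iv1 F361183)) (tt N58516 (iv0 F361182)) (tt N58514 (iv2 F362075)) (tt N83151 (iv3 F286122)) (tt N80035 F284870) (tt N113128 D216381) (tt N48751 (iv6 D183218)) (tt N58513 (iv7 F362086)))
theorem Q82940 : ∀ i, i < 82940 → P i := stepQ 82939 Q82939 (allL N82939 (tt N51836 F289558) (tt N88070 F381678) (tt N87927 (iv2 F381168)) (tt N87928 (iv3 F381174)) (tt N113129 D216382) (tt N48752 (iv5 D183221)) (tt N113128 (iv6 F484109)) (tt N88059 (iv7 F381623)))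
theorem Q82941 : ∀ i, i < 82941 → P i := stepQ 82940 Q82940 (allL N82940 (tt N87766 (iv1 F380436)) (tt N87765 (iv0 F380429)) (tt N48760 F284873) (tt N51847 F284874) (tt N76420 (iv4 F363169)) (tt N48754 (iv5 D183224)) (tt N76419 F363168) (tt N88331 (iv7 F382619)))
theorem Q82942 : ∀ i, i < 82942 → P i := stepQ 82941 Q82941 (allL N82941 (tt N95874 (iv1 F410046)) (tt N48757 (iv0 D183227)) (tt N95883 F410086) (tt N109247 (iv3 F465977)) (tt N68402 (iv4 F342243)) (tt N100526 (iv5 F429326)) (tt N109491 (iv6 F467245)) (tt N95882 F410079))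
theorem Q82943 : ∀ i, i < 82943 → P i := stepQ 82942 Q82942 (allL N82942 (tt N48757 (iv1 D183228)) (tt N95874 (iv0 F410045)) (tt N95882 (iv2 F410080)) (tt N87735 F427668) (tt N100143 (iv4 F427667)) (tt N69410 F365206) (tt N58649 (iv6 F365207)) (tt N95883 (iv7 F410083)))
theorem Q82944 : ∀ i, i < 82944 → P i := stepQ 82943 Q82943 (allL N82943 (tt N52040 F284881) (tt N51899 (iv0 F284882)) (tt N82802 F366970) (tt N51148 (iv3 F294214)) (tt N48758 (iv4 D183231)) (tt N105117 (iv5 F448877)) (tt N98392 (iv6 F420758)) (tt N80683 F284880))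
theorem Q82945 : ∀ i, i < 82945 → P i := stepQ 82944 Q82944 (allL N82944 (tt N88343 (iv1 F382664)) (tt N52242 F381638) (tt N88330 (iv2 F382612)) (tt N87102 (iv3 F378376)) (tt N104829 (iv4 F447503)) (tt N48758 (iv5 D183232)) (tt N73630 F330008) (tt N88329 (iv7 F382609)))
theorem Q82946 : ∀ i, i < 82946 → P i := stepQ 82945 Q82945 (allL N82945 (tt N52242 (iv1 F366984)) (tt N88343 F382665) (tt N88329 (iv2 F382606)) (tt N87932 (iv3 F381208)) (tt N104830 (iv4 F447509)) (tt N48759 (iv5 D183234)) (tt N59733 F365991) (tt N88330 (iv7 F382614)))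
theorem Q82947 : ∀ i, i < 82947 → P i := stepQ 82946 Q82946 (allL N82946 (tt N59775 F365992) (tt N59825 F365993) (tt N59823 F358525) (tt N87933 (iv3 F381213)) (tt N111989 (iv4 F478979)) (tt N59920 (iv5 F365990)) (tt N48759 (iv6 D183235)) (tt N59822 F358518))
theorem Q82948 : ∀ i, i < 82948 → P i := stepQ 82947 Q82947 (allL N82947 (tt N88331 (iv1 F382620)) (tt N48760 (iv0 D183236)) (tt N87766 (iv2 F380432)) (tt N112456 (iv3 F481171)) (tt N51589 F363173) (tt N82590 (iv5 F365942)) (tt N51588 (iv6 F363174)) (tt N87765 (iv7 F380428)))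
theorem Q82949 : ∀ i, i < 82949 → P i := stepQ 82948 Q82948 (allL N82948 (tt N48760 (iv1 D183237)) (tt N88331 (iv0 F382621)) (tt N87765 (iv2 F380427)) (tt N87935 F381229) (tt N97183 (iv4 F415794)) (tt N82591 (iv5 F367090)) (tt N112698 (iv6 F482226)) (tt N87766 (iv7 F380434)))
theorem Q82950 : ∀ i, i < 82950 → P i := stepQ 82949 Q82949 (allL N82949 (tt N87748 (iv1 F380351)) (tt N48762 (iv0 D183255)) (tt N66675 (iv2 F332546)) (tt N113130 D216383) (tt N79702 (iv4 F332552)) (tt N66654 F332547) (tt N93181 (iv6 F399835)) (tt N87747 (iv7 F380341)))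
theorem Q82951 : ∀ i, i < 82951 → P i := stepQ 82950 Q82950 (allL N82950 (tt N48762 (iv1 D183256)) (tt N87748 F380350) (tt N87747 F380344) (tt N67133 F339723) (tt N79703 F361102) (tt N66676 (iv5 F332543)) (tt N67131 (iv6 F339722)) (tt N66675 F332544))
theorem Q82952 : ∀ i, i < 82952 → P i := stepQ 82951 Q82951 (allL N82951 (tt N83170 F339030) (tt N53570 (iv0 F339025)) (tt N78318 (iv2 F335226)) (tt N48766 F284947) (tt N80595 F284948) (tt N89169 (iv5 F385425)) (tt N48765 (iv6 D183292)) (tt N57459 F335234))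
theorem Q82953 : ∀ i, i < 82953 → P i := stepQ 82952 Q82952 (allL N82952 (tt N54731 F285097) (tt N62740 (iv0 F353234)) (tt N75043 F356596) (tt N76100 (iv3 F356595)) (tt N74456 (iv4 F356606)) (tt N48769 (iv5 D183385)) (tt N99872 (iv6 F426632)) (tt N75044 F356592))
theorem Q82954 : ∀ i, i < 82954 → P i := stepQ 82953 Q82953 (allL N82953 (tt N62864 (iv1 F360633)) (tt N52292 F360634) (tt N54718 F285098) (tt N84338 (iv3 F368964)) (tt N72690 F347299) (tt N48771 F285099) (tt N99768 (iv6 F426141)) (tt N48770 (iv7 D183388)))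
theorem Q82955 : ∀ i, i < 82955 → P i := stepQ 82954 Q82954 (allL N82954 (tt N67893 F363998) (tt N113033 F483642) (tt N48782 F285104) (tt N113131 D216384) (tt N48773 (iv4 D183390)) (tt N109165 (iv5 F465645)) (tt N104722 F446989) (tt N88711 (iv7 F383949)))
theorem Q82956 : ∀ i, i < 82956 → P i := stepQ 82955 Q82955 (allL N82955 (tt N75876 F467305) (tt N77429 (iv0 F366779)) (tt N83920 (iv2 F367498)) (tt N88606 (iv3 F383578)) (tt N110722 (iv4 F472899)) (tt N48774 (iv5 D183393)) (tt N48917 F285108) (tt N113132 D216385))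
theorem Q82957 : ∀ i, i < 82957 → P i := stepQ 82956 Q82956 (allL N82956 (tt N68272 (iv1 F348275)) (tt N65171 F348276) (tt N75868 (iv2 F312626)) (tt N80636 (iv3 F340206)) (tt N105021 F448418) (tt N113132 (iv5 F484124)) (tt N78367 F366438) (tt N48774 (iv7 D183394)))
theorem Q82958 : ∀ i, i < 82958 → P i := stepQ 82957 Q82957 (allL N82957 (tt N80453 (iv1 F359378)) (tt N88619 F383612) (tt N83975 (iv2 F367679)) (tt N87700 (iv3 F380177)) (tt N48776 (iv4 D183398)) (tt N102968 (iv5 F439492)) (tt N112133 (iv6 F479667)) (tt N87697 F380166))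
theorem Q82959 : ∀ i, i < 82959 → P i := stepQ 82958 Q82958 (allL N82958 (tt N88660 (iv1 F383767)) (tt N77227 F367686) (tt N83976 (iv2 F367683)) (tt N88636 (iv3 F383665)) (tt N113133 D216386) (tt N48776 (iv5 D183399)) (tt N113134 D216387) (tt N88658 (iv7 F383762)))
theorem Q82960 : ∀ i, i < 82960 → P i := stepQ 82959 Q82959 (allL N82959 (tt N77268 F345817) (tt N65184 (iv0 F345818)) (tt N77267 F346700) (tt N80840 (iv3 F345809)) (tt N112133 (iv4 F479665)) (tt N89471 (iv5 F386605)) (tt N48776 (iv6 D183400)) (tt N77197 F345816))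
theorem Q82961 : ∀ i, i < 82961 → P i := stepQ 82960 Q82960 (allL N82960 (tt N103665 F442423) (tt N104671 (iv0 F446803)) (tt N104722 F446988) (tt N98032 (iv3 F419238)) (tt N48777 (iv4 D183402)) (tt N98532 (iv5 F421228)) (tt N48782 F285122) (tt N92279 (iv7 F396561)))
theorem Q82962 : ∀ i, i < 82962 → P i := stepQ 82961 Q82961 (allL N82961 (tt N88674 (iv1 F383844)) (tt N83981 F367706) (tt N70386 F363943) (tt N48788 F285123) (tt N92279 (iv4 F396560)) (tt N48778 F285124) (tt N70384 (iv6 F363950)) (tt N48777 (iv7 D183403)))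
theorem Q82963 : ∀ i, i < 82963 → P i := stepQ 82962 Q82962 (allL N82962 (tt N69022 (iv1 F384115)) (tt N67782 (iv0 F437582)) (tt N83987 (iv2 F367724)) (tt N69158 F366039) (tt N48779 (iv4 D183404)) (tt N104090 (iv5 F444124)) (tt N113135 D216388) (tt N88712 (iv7 F383954)))
theorem Q82964 : ∀ i, i < 82964 → P i := stepQ 82963 Q82963 (allL N82963 (tt N113136 D216389) (tt N113137 D216390) (tt N83988 (iv2 F367726)) (tt N88688 (iv3 F383895)) (tt N113135 (iv4 F484132)) (tt N107093 F456934) (tt N48779 (iv6 D183405)) (tt N113138 D216391))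
theorem Q82965 : ∀ i, i < 82965 → P i := stepQ 82964 Q82964 (allL N82964 (tt N53504 F285128) (tt N50632 (iv0 F285129)) (tt N53223 F285125) (tt N53801 F285126) (tt N61316 F352776) (tt N48780 (iv5 D183406)) (tt N107093 F456933) (tt N53793 F285127))
theorem Q82966 : ∀ i, i < 82966 → P i := stepQ 82965 Q82965 (allL N82965 (tt N88759 (iv1 F384065)) (tt N88758 F384064) (tt N84008 (iv2 F367785)) (tt N102562 (iv3 F437668)) (tt N48781 (iv4 D183407)) (tt N102542 (iv5 F437570)) (tt N103538 (iv6 F442749)) (tt N87842 (iv7 F380805)))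
theorem Q82967 : ∀ i, i < 82967 → P i := stepQ 82966 Q82966 (allL N82966 (tt N105268 F449477) (tt N102597 (iv0 F437847)) (tt N84009 (iv2 F367787)) (tt N88737 (iv3 F383988)) (tt N103538 F442750) (tt N113022 (iv5 F483599)) (tt N48781 (iv6 D183408)) (tt N105266 (iv7 F449469)))
theorem Q82968 : ∀ i, i < 82968 → P i := stepQ 82967 Q82967 (allL N82967 (tt N88711 (iv1 F383952)) (tt N48782 (iv0 D183409)) (tt N67893 (iv2 F412714)) (tt N113139 D216392) (tt N105571 (iv4 F450784)) (tt N102512 (iv5 F437481)) (tt N102599 (iv6 F437854)) (tt N113033 (iv7 F483643)))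
theorem Q82969 : ∀ i, i < 82969 → P i := stepQ 82968 Q82968 (allL N82968 (tt N48782 (iv1 D183410)) (tt N88711 F383951) (tt N113033 F483641) (tt N67855 (iv3 F412712)) (tt N96484 (iv4 F412711)) (tt N102513 (iv5 F437482)) (tt N107066 (iv6 F456837)) (tt N67893 F412713))
theorem Q82970 : ∀ i, i < 82970 → P i := stepQ 82969 Q82969 (allL N82969 (tt N109448 (iv1 F467007)) (tt N113140 D216393) (tt N113141 D216394) (tt N48782 (iv3 D183411)) (tt N48803 F285130) (tt N103660 (iv5 F442401)) (tt N98032 (iv6 F419240)) (tt N93242 F400088))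
theorem Q82971 : ∀ i, i < 82971 → P i := stepQ 82970 Q82970 (allL N82970 (tt N109157 (iv1 F465623)) (tt N103563 (iv0 F442054)) (tt N109165 (iv2 F465643)) (tt N103660 (iv3 F442399)) (tt N102937 (iv4 F439338)) (tt N48782 (iv5 D183412)) (tt N103659 F442398) (tt N97873 (iv7 F418617)))
theorem Q82972 : ∀ i, i < 82972 → P i := stepQ 82971 Q82971 (allL N82971 (tt N86001 F374842) (tt N64600 (iv0 F363725)) (tt N83964 (iv2 F367639)) (tt N48784 F285142) (tt N56050 (iv4 F360921)) (tt N48783 (iv5 D183423)) (tt N56049 F360922) (tt N65199 F366818))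
theorem Q82973 : ∀ i, i < 82973 → P i := stepQ 82972 Q82972 (allL N82972 (tt N77234 (iv1 F363724)) (tt N77233 F363727) (tt N77237 (iv2 F363723)) (tt N113142 D216395) (tt N48784 (iv4 D183432)) (tt N56261 F339643) (tt N113143 D216396) (tt N65206 F363722))
theorem Q82974 : ∀ i, i < 82974 → P i := stepQ 82973 Q82973 (allL N82973 (tt N108035 F460825) (tt N113144 D216397) (tt N77238 F366819) (tt N56049 (iv3 F360923)) (tt N113143 (iv4 F484169)) (tt N77274 (iv5 F366844)) (tt N48784 (iv6 D183433)) (tt N87049 (iv7 F378179)))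
theorem Q82975 : ∀ i, i < 82975 → P i := stepQ 82974 Q82974 (allL N82974 (tt N70369 F349513) (tt N64598 (iv0 F301616)) (tt N70374 F365768) (tt N48785 (iv3 D183451)) (tt N85972 (iv4 F374677)) (tt N78359 F349511) (tt N91076 (iv6 F391835)) (tt N70373 F365709))
theorem Q82976 : ∀ i, i < 82976 → P i := stepQ 82975 Q82975 (allL N82975 (tt N56537 (iv1 F328263)) (tt N54128 (iv0 F360826)) (tt N66007 F345941) (tt N97537 (iv3 F417301)) (tt N48785 (iv4 D183452)) (tt N113145 D216398) (tt N66006 F345943) (tt N83300 (iv7 F362138)))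
theorem Q82977 : ∀ i, i < 82977 → P i := stepQ 82976 Q82976 (allL N82976 (tt N77210 F364932) (tt N77212 F364936) (tt N112281 (iv2 F480336)) (tt N48786 (iv3 D183456)) (tt N92163 (iv4 F396039)) (tt N83101 F285987) (tt N98001 (iv6 F419125)) (tt N92161 F396029))
theorem Q82978 : ∀ i, i < 82978 → P i := stepQ 82977 Q82977 (allL N82977 (tt N54128 F285209) (tt N56537 (iv0 F328262)) (tt N83300 (iv2 F362139)) (tt N66009 (iv3 F345934)) (tt N48786 (iv4 D183457)) (tt N113146 D216399) (tt N97510 (iv6 F417175)) (tt N66007 F345933))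
theorem Q82979 : ∀ i, i < 82979 → P i := stepQ 82978 Q82978 (allL N82978 (tt N69253 F362901) (tt N48787 (iv0 D183459)) (tt N90239 (iv2 F389048)) (tt N102295 (iv3 F436601)) (tt N49035 F285210) (tt N113147 D216400) (tt N97712 (iv6 F418027)) (tt N90240 (iv7 F389055)))
theorem Q82980 : ∀ i, i < 82980 → P i := stepQ 82979 Q82979 (allL N82979 (tt N48787 (iv1 D183460)) (tt N69253 (iv0 F362885)) (tt N90240 (iv2 F389054)) (tt N53028 (iv3 F336402)) (tt N49036 F285211) (tt N113148 D216401) (tt N53027 F336401) (tt N90239 (iv7 F389050)))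
theorem Q82981 : ∀ i, i < 82981 → P i := stepQ 82980 Q82980 (allL N82980 (tt N90240 (iv1 F389057)) (tt N90239 (iv0 F389051)) (tt N69253 F362899) (tt N92187 (iv3 F396153)) (tt N48788 F285213) (tt N92186 F396151) (tt N69251 (iv6 F362903)) (tt N48787 (iv7 D183463)))
theorem Q82982 : ∀ i, i < 82982 → P i := stepQ 82981 Q82981 (allL N82981 (tt N48789 (iv1 D183465)) (tt N54777 F285215) (tt N54779 (iv2 F285217)) (tt N58941 F364221) (tt N102424 (iv4 F437178)) (tt N52301 (iv5 F293578)) (tt N58940 (iv6 F364222)) (tt N54763 F285216))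
theorem Q82983 : ∀ i, i < 82983 → P i := stepQ 82982 Q82982 (allL N82982 (tt N105900 (iv1 F452260)) (tt N105896 F452240) (tt N83966 (iv2 F367652)) (tt N87578 (iv3 F379799)) (tt N48789 (iv4 D183466)) (tt N87577 F379797) (tt N111329 F475848) (tt N83968 (iv7 F367656)))
theorem Q82984 : ∀ i, i < 82984 → P i := stepQ 82983 Q82983 (allL N82983 (tt N88707 F383929) (tt N88893 (iv0 F384455)) (tt N83967 (iv2 F367653)) (tt N48791 F285220) (tt N111329 (iv4 F475847)) (tt N53728 F285221) (tt N48789 (iv6 D183467)) (tt N107987 (iv7 F460611)))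
theorem Q82985 : ∀ i, i < 82985 → P i := stepQ 82984 Q82984 (allL N82984 (tt N87041 (iv1 F378152)) (tt N48791 (iv0 D183475)) (tt N87039 (iv2 F417194)) (tt N71321 (iv3 F407348)) (tt N82808 (iv4 F394026)) (tt N71319 F407347) (tt N108035 (iv6 F460823)) (tt N87040 (iv7 F417197)))
theorem Q82986 : ∀ i, i < 82986 → P i := stepQ 82985 Q82985 (allL N82985 (tt N48791 (iv1 D183476)) (tt N87041 F378151) (tt N87040 F417195) (tt N113137 F484140) (tt N82809 F394246) (tt N108143 (iv5 F461290)) (tt N113149 D216402) (tt N87039 F417193))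
theorem Q82987 : ∀ i, i < 82987 → P i := stepQ 82986 Q82986 (allL N82986 (tt N87040 (iv1 F378147)) (tt N87039 F378150) (tt N87041 (iv2 F378148)) (tt N107987 (iv3 F460609)) (tt N93095 F399464) (tt N83138 (iv5 F286051)) (tt N87043 (iv6 F378160)) (tt N48791 (iv7 D183477)))
theorem Q82988 : ∀ i, i < 82988 → P i := stepQ 82987 Q82987 (allL N82987 (tt N52331 F285232) (tt N80680 (iv0 F285233)) (tt N87099 F378368) (tt N50676 (iv3 F293686)) (tt N48792 (iv4 D183478)) (tt N86604 (iv5 F376583)) (tt N81559 F364447) (tt N52533 F285231))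
theorem Q82989 : ∀ i, i < 82989 → P i := stepQ 82988 Q82988 (allL N82988 (tt N48800 F356269) (tt N83970 F367662) (tt N87837 F380771) (tt N83994 (iv3 F367749)) (tt N69363 (iv4 F366183)) (tt N48792 (iv5 D183479)) (tt N69362 F366184) (tt N87252 (iv7 F378882)))
theorem Q82990 : ∀ i, i < 82990 → P i := stepQ 82989 Q82989 (allL N82989 (tt N87035 (iv1 F378130)) (tt N72001 (iv0 F356272)) (tt N48794 F285234) (tt N54777 F285235) (tt N97931 (iv4 F418843)) (tt N48793 (iv5 D183480)) (tt N98574 (iv6 F421375)) (tt N83965 (iv7 F367645)))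
theorem Q82991 : ∀ i, i < 82991 → P i := stepQ 82990 Q82990 (allL N82990 (tt N113018 F483584) (tt N87254 (iv0 F378893)) (tt N48795 F285236) (tt N83876 (iv3 F367327)) (tt N52702 F285237) (tt N83485 (iv5 F287608)) (tt N48793 (iv6 D183481)) (tt N113019 (iv7 F483589)))
theorem Q82992 : ∀ i, i < 82992 → P i := stepQ 82991 Q82991 (allL N82991 (tt N83965 (iv1 F367647)) (tt N48794 (iv0 D183482)) (tt N87035 (iv2 F378125)) (tt N72009 (iv3 F367651)) (tt N104069 (iv4 F444024)) (tt N52304 F367649) (tt N104068 F444022) (tt N72001 F367648))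
theorem Q82993 : ∀ i, i < 82993 → P i := stepQ 82992 Q82992 (allL N82992 (tt N48794 (iv1 D183483)) (tt N83965 (iv0 F367646)) (tt N72001 F367053) (tt N83998 F367765) (tt N75070 (iv4 F367055)) (tt N52305 (iv5 F367052)) (tt N71998 F367054) (tt N87035 (iv7 F378127)))
theorem Q82994 : ∀ i, i < 82994 → P i := stepQ 82993 Q82993 (allL N82993 (tt N113019 (iv1 F483590)) (tt N48795 (iv0 D183486)) (tt N113018 (iv2 F483583)) (tt N88600 F383559) (tt N113150 D216403) (tt N87056 (iv5 F378216)) (tt N88869 F384399) (tt N87254 (iv7 F378902)))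
theorem Q82995 : ∀ i, i < 82995 → P i := stepQ 82994 Q82994 (allL N82994 (tt N48795 (iv1 D183487)) (tt N113019 F483591) (tt N87254 (iv2 F378891)) (tt N84002 F378213) (tt N87409 (iv4 F379259)) (tt N54624 F378214) (tt N83955 (iv6 F378212)) (tt N113018 (iv7 F483578)))
theorem Q82996 : ∀ i, i < 82996 → P i := stepQ 82995 Q82995 (allL N82995 (tt N87043 (iv1 F378162)) (tt N48796 (iv0 D183491)) (tt N87042 F378154) (tt N88717 (iv3 F384041)) (tt N82389 (iv4 F358614)) (tt N49119 F353763) (tt N113012 (iv6 F483548)) (tt N77230 (iv7 F364040)))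
theorem Q82997 : ∀ i, i < 82997 → P i := stepQ 82996 Q82996 (allL N82996 (tt N48796 (iv1 D183492)) (tt N87043 F378161) (tt N77230 F365546) (tt N76783 F397635) (tt N82390 F369419) (tt N77431 F365547) (tt N65204 (iv6 F365545)) (tt N87042 (iv7 F378156)))
theorem Q82998 : ∀ i, i < 82998 → P i := stepQ 82997 Q82997 (allL N82997 (tt N77230 (iv1 F345940)) (tt N87042 F378158) (tt N87043 (iv2 F378159)) (tt N92236 (iv3 F396403)) (tt N92243 (iv4 F396439)) (tt N77365 (iv5 F358619)) (tt N87041 (iv6 F378149)) (tt N48796 (iv7 D183493)))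
theorem Q82999 : ∀ i, i < 82999 → P i := stepQ 82998 Q82998 (allL N82998 (tt N102922 F439279) (tt N85975 (iv0 F374695)) (tt N83971 (iv2 F367666)) (tt N102932 (iv3 F439309)) (tt N48797 (iv4 D183494)) (tt N113151 D216404) (tt N105235 (iv6 F449334)) (tt N74405 F363455))
theorem Q83000 : ∀ i, i < 83000 → P i := stepQ 82999 Q82999 (allL N82999 (tt N112820 (iv1 F482784)) (tt N113152 D216405) (tt N113153 D216406) (tt N48798 (iv3 D183496)) (tt N102932 F439313) (tt N51617 F367077) (tt N90425 F395407) (tt N80426 (iv7 F367078)))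
theorem Q83001 : ∀ i, i < 83001 → P i := stepQ 83000 Q83000 (allL N83000 (tt N103253 (iv1 F440807)) (tt N103248 (iv0 F440780)) (tt N80423 (iv2 F367161)) (tt N90425 (iv3 F395406)) (tt N48799 F285244) (tt N66595 F331161) (tt N48798 (iv6 D183498)) (tt N103251 (iv7 F440795)))
theorem Q83002 : ∀ i, i < 83002 → P i := stepQ 83001 Q83001 (allL N83001 (tt N48799 (iv1 D183500)) (tt N87840 F380795) (tt N87839 (iv2 F380777)) (tt N102597 (iv3 F437845)) (tt N92022 F395413) (tt N110155 (iv5 F470207)) (tt N77223 (iv6 F345946)) (tt N87838 F380782))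
theorem Q83003 : ∀ i, i < 83003 → P i := stepQ 83002 Q83002 (allL N83002 (tt N87839 (iv1 F380775)) (tt N87838 F380784) (tt N87840 (iv2 F380792)) (tt N105233 F449327) (tt N103251 F440798) (tt N113007 (iv5 F483536)) (tt N87835 (iv6 F380761)) (tt N48799 (iv7 D183501)))
theorem Q83004 : ∀ i, i < 83004 → P i := stepQ 83003 Q83003 (allL N83003 (tt N87252 F378884) (tt N87837 F380772) (tt N48800 (iv2 D183503)) (tt N83961 (iv3 F367628)) (tt N91783 (iv4 F394397)) (tt N51687 (iv5 F367080)) (tt N107031 (iv6 F456712)) (tt N83970 (iv7 F367661)))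
theorem Q83005 : ∀ i, i < 83005 → P i := stepQ 83004 Q83004 (allL N83004 (tt N91782 (iv1 F394389)) (tt N86295 (iv0 F375734)) (tt N91783 (iv2 F394396)) (tt N68163 F364706) (tt N48800 (iv4 D183504)) (tt N51361 F364707) (tt N91787 (iv6 F394420)) (tt N51360 (iv7 F364704)))
theorem Q83006 : ∀ i, i < 83006 → P i := stepQ 83005 Q83005 (allL N83005 (tt N107010 F456637) (tt N97998 (iv0 F419108)) (tt N107031 F456713) (tt N48802 F285245) (tt N91787 (iv4 F394418)) (tt N91712 (iv5 F394143)) (tt N48800 (iv6 D183505)) (tt N91785 (iv7 F394410)))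
theorem Q83007 : ∀ i, i < 83007 → P i := stepQ 83006 Q83006 (allL N83006 (tt N97557 F419095) (tt N113154 D216407) (tt N66011 F377838) (tt N48801 (iv3 D183506)) (tt N68163 (iv4 F364708)) (tt N51618 (iv5 F364714)) (tt N56234 (iv6 F383826)) (tt N80422 F364709))
theorem Q83008 : ∀ i, i < 83008 → P i := stepQ 83007 Q83007 (allL N83007 (tt N82787 (iv1 F398043)) (tt N82788 (iv0 F360194)) (tt N80427 (iv2 F367079)) (tt N56234 (iv3 F383824)) (tt N48802 F285247) (tt N102160 (iv5 F435972)) (tt N48801 (iv6 D183508)) (tt N66012 (iv7 F377851)))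
theorem Q83009 : ∀ i, i < 83009 → P i := stepQ 83008 Q83008 (allL N83008 (tt N87835 (iv1 F380763)) (tt N48802 (iv0 D183509)) (tt N87833 (iv2 F380751)) (tt N88763 (iv3 F384073)) (tt N101887 (iv4 F434827)) (tt N113155 D216408) (tt N107059 (iv6 F456812)) (tt N87834 (iv7 F380755)))
theorem Q83010 : ∀ i, i < 83010 → P i := stepQ 83009 Q83009 (allL N83009 (tt N87834 (iv1 F380754)) (tt N87833 (iv0 F380753)) (tt N87835 (iv2 F380759)) (tt N91785 (iv3 F394408)) (tt N66012 F377852) (tt N91716 (iv5 F394152)) (tt N87840 (iv6 F380794)) (tt N48802 (iv7 D183511)))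
theorem Q83011 : ∀ i, i < 83011 → P i := stepQ 83010 Q83010 (allL N83010 (tt N69283 (iv1 F359005)) (tt N48803 (iv0 D183517)) (tt N93243 (iv2 F400092)) (tt N56530 (iv3 F359006)) (tt N103783 (iv4 F442792)) (tt N51619 F359007) (tt N91817 F394541) (tt N65710 F359008))
theorem Q83012 : ∀ i, i < 83012 → P i := stepQ 83011 Q83011 (allL N83011 (tt N48803 (iv1 D183518)) (tt N69283 F359011) (tt N65710 (iv2 F359012)) (tt N113156 D216409) (tt N103866 (iv4 F443145)) (tt N51620 (iv5 F363214)) (tt N113157 D216410) (tt N93243 (iv7 F400090)))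
theorem Q83013 : ∀ i, i < 83013 → P i := stepQ 83012 Q83012 (allL N83012 (tt N93243 (iv1 F400089)) (tt N65710 (iv0 F359014)) (tt N48803 (iv2 D183519)) (tt N69288 (iv3 F359009)) (tt N113141 (iv4 F484155)) (tt N82381 (iv5 F359010)) (tt N92184 F396143) (tt N69283 F359004))
theorem Q83014 : ∀ i, i < 83014 → P i := stepQ 83013 Q83013 (allL N83013 (tt N88785 (iv1 F384140)) (tt N72007 (iv0 F356274)) (tt N84024 (iv2 F367841)) (tt N53045 F345232) (tt N48804 (iv4 D183526)) (tt N90146 (iv5 F388681)) (tt N113158 D216411) (tt N53038 (iv7 F345234)))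
theorem Q83015 : ∀ i, i < 83015 → P i := stepQ 83014 Q83014 (allL N83014 (tt N113159 D216412) (tt N113160 D216413) (tt N84025 (iv2 F367844)) (tt N48806 F285253) (tt N113158 (iv4 F484257)) (tt N83340 (iv5 F287445)) (tt N48804 (iv6 D183527)) (tt N113161 D216414))
theorem Q83016 : ∀ i, i < 83016 → P i := stepQ 83015 Q83015 (allL N83015 (tt N50046 (iv1 F291154)) (tt N48805 (iv0 D183528)) (tt N83841 (iv2 F289366)) (tt N113162 D216415) (tt N113163 D216416) (tt N48815 F285254) (tt N50850 (iv6 F292929)) (tt N83830 F289300))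
theorem Q83017 : ∀ i, i < 83017 → P i := stepQ 83016 Q83016 (allL N83016 (tt N51603 (iv1 F285260)) (tt N48806 (iv0 D183532)) (tt N51600 F286530) (tt N70007 (iv3 F366837)) (tt N113164 D216417) (tt N83053 F353717) (tt N104107 (iv6 F444208)) (tt N51601 F286528))
theorem Q83018 : ∀ i, i < 83018 → P i := stepQ 83017 Q83017 (allL N83017 (tt N51601 (iv1 F285261)) (tt N51600 F285262) (tt N51603 F285259) (tt N113161 (iv3 F484265)) (tt N82391 F366990) (tt N83344 (iv5 F287447)) (tt N70282 F332727) (tt N48806 (iv7 D183534)))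
theorem Q83019 : ∀ i, i < 83019 → P i := stepQ 83018 Q83018 (allL N83018 (tt N83619 F288072) (tt N48808 (iv0 D183753)) (tt N85969 (iv2 F374660)) (tt N48819 (iv3 F285523)) (tt N50184 F285521) (tt N113165 D216418) (tt N85948 (iv6 F374563)) (tt N48967 F290218))
theorem Q83020 : ∀ i, i < 83020 → P i := stepQ 83019 Q83019 (allL N83019 (tt N113166 D216419) (tt N90825 (iv0 F392097)) (tt N81897 F332659) (tt N48810 F285524) (tt N77256 F332668) (tt N48808 (iv5 D183754)) (tt N113167 D216420) (tt N85999 (iv7 F374836)))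
theorem Q83021 : ∀ i, i < 83021 → P i := stepQ 83020 Q83020 (allL N83020 (tt N90185 F388818) (tt N85515 (iv0 F372910)) (tt N78991 F285525) (tt N48811 F285526) (tt N78970 F285527) (tt N113168 D216421) (tt N48808 (iv6 D183755)) (tt N78984 (iv7 F285528)))
theorem Q83022 : ∀ i, i < 83022 → P i := stepQ 83021 Q83021 (allL N83021 (tt N88601 F383562) (tt N83477 (iv0 F386188)) (tt N88385 (iv2 F382842)) (tt N53491 F285529) (tt N107027 (iv4 F456696)) (tt N48809 (iv5 D183756)) (tt N113169 D216422) (tt N88389 (iv7 F382853)))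
theorem Q83023 : ∀ i, i < 83023 → P i := stepQ 83022 Q83022 (allL N83022 (tt N53528 F289868) (tt N83482 F289911) (tt N88386 (iv2 F382845)) (tt N53492 F285530) (tt N48811 F285531) (tt N88588 F383536) (tt N48809 (iv6 D183757)) (tt N84889 (iv7 F371011)))
theorem Q83024 : ∀ i, i < 83024 → P i := stepQ 83023 Q83023 (allL N83023 (tt N107030 (iv1 F456705)) (tt N107029 F456704) (tt N88387 (iv2 F382849)) (tt N81396 (iv3 F332669)) (tt N48810 (iv4 D183758)) (tt N105099 F448786) (tt N113170 D216423) (tt N88390 (iv7 F382855)))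
theorem Q83025 : ∀ i, i < 83025 → P i := stepQ 83024 Q83024 (allL N83024 (tt N90818 (iv1 F390967)) (tt N83349 (iv0 F358627)) (tt N88388 (iv2 F382851)) (tt N113167 (iv3 F484298)) (tt N113170 (iv4 F484311)) (tt N113171 D216424) (tt N48810 (iv6 D183759)) (tt N113172 D216425))
theorem Q83026 : ∀ i, i < 83026 → P i := stepQ 83025 Q83025 (allL N83025 (tt N49282 F285533) (tt N82618 (iv0 F285535)) (tt N82616 F285532) (tt N113168 (iv3 F484302)) (tt N101782 (iv4 F434321)) (tt N48811 (iv5 D183762)) (tt N113171 (iv6 F484316)) (tt N82615 F285539))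
theorem Q83027 : ∀ i, i < 83027 → P i := stepQ 83026 Q83026 (allL N83026 (tt N49008 F289656) (tt N85477 (iv0 F372760)) (tt N48812 (iv2 D183764)) (tt N83619 (iv3 F288069)) (tt N54941 F285545) (tt N113173 D216426) (tt N83580 (iv6 F357384)) (tt N54943 F285546))
theorem Q83028 : ∀ i, i < 83028 → P i := stepQ 83027 Q83027 (allL N83027 (tt N90806 (iv1 F390932)) (tt N90876 F391129) (tt N113173 (iv2 F484320)) (tt N48814 F285548) (tt N77925 F359517) (tt N48812 (iv5 D183765)) (tt N113174 D216427) (tt N88383 (iv7 F382838)))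
theorem Q83029 : ∀ i, i < 83029 → P i := stepQ 83028 Q83028 (allL N83028 (tt N83477 (iv1 F386189)) (tt N88601 (iv0 F383561)) (tt N88389 (iv2 F382852)) (tt N83462 (iv3 F287571)) (tt N100260 (iv4 F428156)) (tt N48813 (iv5 D183767)) (tt N100221 (iv6 F428051)) (tt N88385 (iv7 F382844)))
theorem Q83030 : ∀ i, i < 83030 → P i := stepQ 83029 Q83029 (allL N83029 (tt N110373 (iv1 F471292)) (tt N90837 (iv0 F391014)) (tt N88391 (iv2 F382856)) (tt N113174 (iv3 F484326)) (tt N100183 (iv4 F427886)) (tt N84884 (iv5 F370995)) (tt N48814 (iv6 D183770)) (tt N100220 (iv7 F428049)))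
theorem Q83031 : ∀ i, i < 83031 → P i := stepQ 83030 Q83030 (allL N83030 (tt N113165 (iv1 F484291)) (tt N89063 F387074) (tt N81913 F364218) (tt N48815 (iv3 D183774)) (tt N77459 (iv4 F364217)) (tt N113162 (iv5 F484268)) (tt N107619 F458960) (tt N88395 (iv7 F382870)))
theorem Q83032 : ∀ i, i < 83032 → P i := stepQ 83031 Q83031 (allL N83031 (tt N100275 F428205) (tt N105100 F448791) (tt N88393 (iv2 F382867)) (tt N81389 F364216) (tt N48815 (iv4 D183775)) (tt N113175 D216428) (tt N113176 D216429) (tt N88396 (iv7 F382872)))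
theorem Q83033 : ∀ i, i < 83033 → P i := stepQ 83032 Q83032 (allL N83032 (tt N90842 F458962) (tt N77432 (iv0 F458963)) (tt N88394 (iv2 F382869)) (tt N107619 (iv3 F458961)) (tt N113176 (iv4 F484333)) (tt N89576 (iv5 F386803)) (tt N48815 (iv6 D183776)) (tt N113177 D216430))
theorem Q83034 : ∀ i, i < 83034 → P i := stepQ 83033 Q83033 (allL N83033 (tt N89084 F385100) (tt N90872 (iv0 F391118)) (tt N110769 F473106) (tt N48816 (iv3 D183778)) (tt N61854 (iv4 F369580)) (tt N83835 F289351) (tt N113178 D216431) (tt N88392 (iv7 F382866)))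
theorem Q83035 : ∀ i, i < 83035 → P i := stepQ 83034 Q83034 (allL N83034 (tt N105100 (iv1 F448790)) (tt N100275 F428206) (tt N88396 (iv2 F382871)) (tt N113179 D216432) (tt N48816 (iv4 D183779)) (tt N113180 D216433) (tt N101502 (iv6 F433178)) (tt N88393 (iv7 F382868)))
theorem Q83036 : ∀ i, i < 83036 → P i := stepQ 83035 Q83035 (allL N83035 (tt N100765 F430363) (tt N77387 F364035) (tt N88397 (iv2 F382874)) (tt N113178 (iv3 F484345)) (tt N101502 (iv4 F433171)) (tt N83840 (iv5 F289359)) (tt N48816 (iv6 D183780)) (tt N110348 (iv7 F471161)))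
theorem Q83037 : ∀ i, i < 83037 → P i := stepQ 83036 Q83036 (allL N83036 (tt N88401 (iv1 F382882)) (tt N48817 (iv0 D183781)) (tt N88398 F428213) (tt N113181 D216434) (tt N89343 (iv4 F386197)) (tt N113182 D216435) (tt N113183 D216436) (tt N88399 (iv7 F428212)))
theorem Q83038 : ∀ i, i < 83038 → P i := stepQ 83037 Q83037 (allL N83037 (tt N48817 (iv1 D183782)) (tt N88401 F382881) (tt N88399 (iv2 F428214)) (tt N113184 D216437) (tt N113185 D216438) (tt N113186 D216439) (tt N77385 F444987) (tt N88398 F428215))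
theorem Q83039 : ∀ i, i < 83039 → P i := stepQ 83038 Q83038 (allL N83038 (tt N112335 (iv1 F480627)) (tt N54439 (iv0 F368367)) (tt N112333 F480611) (tt N48817 (iv3 D183783)) (tt N48832 F285562) (tt N104336 (iv5 F445316)) (tt N54621 F368366) (tt N112334 (iv7 F480616)))
theorem Q83040 : ∀ i, i < 83040 → P i := stepQ 83039 Q83039 (allL N83039 (tt N72025 F445318) (tt N113187 D216440) (tt N88400 (iv2 F382876)) (tt N104336 (iv3 F445314)) (tt N107026 (iv4 F456691)) (tt N48817 (iv5 D183784)) (tt N104335 F445312) (tt N113188 D216441))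
theorem Q83041 : ∀ i, i < 83041 → P i := stepQ 83040 Q83040 (allL N83040 (tt N88399 (iv1 F382875)) (tt N88398 F382880) (tt N88401 (iv2 F382877)) (tt N112334 F480621) (tt N48818 F285563) (tt N113188 (iv5 F484388)) (tt N103070 (iv6 F439944)) (tt N48817 (iv7 D183785)))
theorem Q83042 : ∀ i, i < 83042 → P i := stepQ 83041 Q83041 (allL N83041 (tt N48827 F285649) (tt N49097 F285652) (tt N49058 F285647) (tt N113165 (iv3 F484288)) (tt N108541 (iv4 F463009)) (tt N48819 (iv5 D183848)) (tt N106602 (iv6 F455015)) (tt N48969 F290226))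
theorem Q83043 : ∀ i, i < 83043 → P i := stepQ 83042 Q83042 (allL N83042 (tt N49063 (iv1 F285658)) (tt N49062 F285659) (tt N48821 F285655) (tt N49082 F285656) (tt N61847 (iv4 F359536)) (tt N48820 (iv5 D183850)) (tt N113189 D216442) (tt N49059 F285657))
theorem Q83044 : ∀ i, i < 83044 → P i := stepQ 83043 Q83043 (allL N83043 (tt N49059 (iv1 F285662)) (tt N48821 (iv0 D183852)) (tt N49063 F344320) (tt N88405 F382906) (tt N108542 (iv4 F463014)) (tt N83391 (iv5 F344330)) (tt N109818 (iv6 F468770)) (tt N49062 F344321))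
theorem Q83045 : ∀ i, i < 83045 → P i := stepQ 83044 Q83044 (allL N83044 (tt N48821 (iv1 D183853)) (tt N49059 F285663) (tt N49062 F344317) (tt N113166 (iv3 F484293)) (tt N99290 (iv4 F423958)) (tt N82649 F344318) (tt N113190 D216443) (tt N49063 F344319))
theorem Q83046 : ∀ i, i < 83046 → P i := stepQ 83045 Q83045 (allL N83045 (tt N113191 D216444) (tt N109968 (iv0 F469415)) (tt N113189 (iv2 F484392)) (tt N48823 F285665) (tt N99168 (iv4 F423554)) (tt N85530 (iv5 F372954)) (tt N48821 (iv6 D183855)) (tt N83379 (iv7 F364065)))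
theorem Q83047 : ∀ i, i < 83047 → P i := stepQ 83046 Q83046 (allL N83046 (tt N113192 D216445) (tt N101305 (iv0 F432735)) (tt N113193 D216446) (tt N48822 (iv3 D183858)) (tt N110710 F472855) (tt N90892 (iv5 F391190)) (tt N83372 F364066) (tt N49077 F285666))
theorem Q83048 : ∀ i, i < 83048 → P i := stepQ 83047 Q83047 (allL N83047 (tt N49081 F356383) (tt N49009 F356384) (tt N48824 (iv2 D183865)) (tt N49097 F285676) (tt N112520 (iv4 F481483)) (tt N84336 (iv5 F368953)) (tt N95013 (iv6 F406642)) (tt N49108 F285677))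
theorem Q83049 : ∀ i, i < 83049 → P i := stepQ 83048 Q83048 (allL N83048 (tt N98456 F420952) (tt N113194 D216447) (tt N113195 D216448) (tt N48825 (iv3 D183868)) (tt N110008 (iv4 F473085)) (tt N110181 (iv5 F470301)) (tt N77376 (iv6 F364091)) (tt N49112 F285683))
theorem Q83050 : ∀ i, i < 83050 → P i := stepQ 83049 Q83049 (allL N83049 (tt N48969 F290230) (tt N49058 F285694) (tt N48827 (iv2 D183873)) (tt N49108 F285692) (tt N110750 (iv4 F473004)) (tt N84119 (iv5 F368179)) (tt N113196 D216449) (tt N49097 F285693))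
theorem Q83051 : ∀ i, i < 83051 → P i := stepQ 83050 Q83050 (allL N83050 (tt N53497 F285697) (tt N110704 (iv0 F472829)) (tt N110750 (iv2 F473003)) (tt N113197 D216450) (tt N48827 (iv4 D183874)) (tt N71544 (iv5 F359541)) (tt N113198 D216451) (tt N49098 F285696))
theorem Q83052 : ∀ i, i < 83052 → P i := stepQ 83051 Q83051 (allL N83051 (tt N110224 F470513) (tt N110226 (iv0 F470523)) (tt N113196 (iv2 F484424)) (tt N48829 F285698) (tt N113198 (iv4 F484436)) (tt N84122 (iv5 F368198)) (tt N48827 (iv6 D183875)) (tt N110340 (iv7 F471125)))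
theorem Q83053 : ∀ i, i < 83053 → P i := stepQ 83052 Q83052 (allL N83052 (tt N113199 D216452) (tt N113200 D216453) (tt N113201 D216454) (tt N48828 (iv3 D183876)) (tt N113197 (iv4 F484429)) (tt N84331 (iv5 F368927)) (tt N105311 (iv6 F449657)) (tt N49103 F285699))
theorem Q83054 : ∀ i, i < 83054 → P i := stepQ 83053 Q83053 (allL N83053 (tt N83308 (iv1 F353718)) (tt N77360 (iv0 F353700)) (tt N49113 F285700) (tt N105311 (iv3 F449656)) (tt N48829 F285701) (tt N83016 (iv5 F353717)) (tt N48828 (iv6 D183877)) (tt N77378 F353716))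
theorem Q83055 : ∀ i, i < 83055 → P i := stepQ 83054 Q83054 (allL N83054 (tt N110922 (iv1 F473805)) (tt N109960 (iv0 F469383)) (tt N113202 D216455) (tt N48830 (iv3 D183881)) (tt N107536 (iv4 F458688)) (tt N110166 (iv5 F470256)) (tt N77429 (iv6 F364036)) (tt N49118 F285708))
theorem Q83056 : ∀ i, i < 83056 → P i := stepQ 83055 Q83055 (allL N83055 (tt N113203 D216456) (tt N113204 D216457) (tt N113205 D216458) (tt N48831 (iv3 D183883)) (tt N98787 (iv4 F422316)) (tt N112898 (iv5 F483190)) (tt N105639 (iv6 F451065)) (tt N49116 F285710))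
theorem Q83057 : ∀ i, i < 83057 → P i := stepQ 83056 Q83056 (allL N83056 (tt N110239 (iv1 F470581)) (tt N110241 (iv0 F470591)) (tt N49119 F285711) (tt N105639 F451064) (tt N84476 F369450) (tt N87042 (iv5 F378153)) (tt N48831 (iv6 D183884)) (tt N77431 (iv7 F364041)))
theorem Q83058 : ∀ i, i < 83058 → P i := stepQ 83057 Q83057 (allL N83057 (tt N112991 F483460) (tt N48832 (iv0 D183885)) (tt N112992 (iv2 F483467)) (tt N113206 D216459) (tt N113207 D216460) (tt N113208 D216461) (tt N77424 F483461) (tt N112339 F483462))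
theorem Q83059 : ∀ i, i < 83059 → P i := stepQ 83058 Q83058 (allL N83058 (tt N48832 (iv1 D183886)) (tt N112991 F483452) (tt N112339 (iv2 F480643)) (tt N113209 D216462) (tt N105303 F450201) (tt N88756 F450202) (tt N54443 F450203) (tt N112992 (iv7 F483464)))
theorem Q83060 : ∀ i, i < 83060 → P i := stepQ 83059 Q83059 (allL N83059 (tt N112992 (iv1 F483463)) (tt N112339 (iv0 F480647)) (tt N48832 (iv2 D183887)) (tt N49122 F285712) (tt N112333 F480612) (tt N112981 (iv5 F483430)) (tt N110367 (iv6 F471260)) (tt N112991 (iv7 F483451)))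
theorem Q83061 : ∀ i, i < 83061 → P i := stepQ 83060 Q83060 (allL N83060 (tt N77435 F359646) (tt N77434 F359653) (tt N49135 F285715) (tt N89646 (iv3 F387075)) (tt N83397 (iv4 F287521)) (tt N88031 (iv5 F381532)) (tt N48834 (iv6 D183890)) (tt N77175 F359647))
theorem Q83062 : ∀ i, i < 83062 → P i := stepQ 83061 Q83061 (allL N83061 (tt N49180 F285721) (tt N49179 F285723) (tt N48837 F285718) (tt N49138 F285719) (tt N110617 (iv4 F472419)) (tt N48836 (iv5 D183892)) (tt N113210 D216463) (tt N49177 F285720))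
theorem Q83063 : ∀ i, i < 83063 → P i := stepQ 83062 Q83062 (allL N83062 (tt N49177 (iv1 F285726)) (tt N48837 (iv0 D183893)) (tt N49180 (iv2 F285725)) (tt N89338 F386182) (tt N72669 (iv4 F359518)) (tt N52998 F285724) (tt N113211 D216464) (tt N49179 F285727))
theorem Q83064 : ∀ i, i < 83064 → P i := stepQ 83063 Q83063 (allL N83063 (tt N113212 D216465) (tt N91142 (iv0 F392065)) (tt N113210 (iv2 F484492)) (tt N48840 F329946) (tt N109663 F467992) (tt N83496 (iv5 F329966)) (tt N48837 (iv6 D183895)) (tt N49185 F329947))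
theorem Q83065 : ∀ i, i < 83065 → P i := stepQ 83064 Q83064 (allL N83064 (tt N87054 (iv1 F378205)) (tt N87055 (iv0 F378209)) (tt N91148 (iv2 F392077)) (tt N48839 (iv3 D183897)) (tt N110384 (iv4 F471333)) (tt N82730 F285732) (tt N113213 D216466) (tt N49146 F285733))
theorem Q83066 : ∀ i, i < 83066 → P i := stepQ 83065 Q83065 (allL N83065 (tt N77420 F366845) (tt N113214 D216467) (tt N49150 F285734) (tt N113213 (iv3 F484508)) (tt N83350 (iv4 F287455)) (tt N48891 F285735) (tt N48839 (iv6 D183898)) (tt N110352 (iv7 F471185)))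
theorem Q83067 : ∀ i, i < 83067 → P i := stepQ 83066 Q83066 (allL N83066 (tt N49192 (iv1 F285754)) (tt N49191 F285753) (tt N48841 (iv2 D183905)) (tt N49162 F285750) (tt N91434 (iv4 F393111)) (tt N88533 (iv5 F383435)) (tt N50056 (iv6 F293666)) (tt N49193 F285752))
theorem Q83068 : ∀ i, i < 83068 → P i := stepQ 83067 Q83067 (allL N83067 (tt N113215 D216468) (tt N113216 D216469) (tt N113217 D216470) (tt N48842 (iv3 D183906)) (tt N90691 (iv4 F390541)) (tt N112894 (iv5 F483169)) (tt N90695 (iv6 F390546)) (tt N49142 F329858))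
theorem Q83069 : ∀ i, i < 83069 → P i := stepQ 83068 Q83068 (allL N83068 (tt N49188 F329952) (tt N49187 F329953) (tt N49186 F285756) (tt N90695 (iv3 F390545)) (tt N48843 F285757) (tt N85704 (iv5 F373591)) (tt N48842 (iv6 D183907)) (tt N48843 F329954))
theorem Q83070 : ∀ i, i < 83070 → P i := stepQ 83069 Q83069 (allL N83069 (tt N48843 (iv1 D183909)) (tt N49186 F329978) (tt N49188 F338016) (tt N91156 (iv3 F392105)) (tt N49093 F353735) (tt N85852 (iv5 F374218)) (tt N75489 F338018) (tt N49187 F338019))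
theorem Q83071 : ∀ i, i < 83071 → P i := stepQ 83070 Q83070 (allL N83070 (tt N72593 (iv1 F357439)) (tt N48941 (iv0 F285784)) (tt N87051 (iv2 F378184)) (tt N53286 F285783) (tt N74188 F365274) (tt N48846 (iv5 D183920)) (tt N78621 (iv6 F356147)) (tt N91711 (iv7 F394138)))
theorem Q83072 : ∀ i, i < 83072 → P i := stepQ 83071 Q83071 (allL N83071 (tt N48889 F352899) (tt N85473 (iv0 F372741)) (tt N87050 (iv2 F378180)) (tt N84984 (iv3 F371259)) (tt N113218 D216471) (tt N48847 (iv5 D183921)) (tt N88493 (iv6 F383273)) (tt N89677 (iv7 F387190)))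
theorem Q83073 : ∀ i, i < 83073 → P i := stepQ 83072 Q83072 (allL N83072 (tt N54798 F285787) (tt N51679 (iv0 F367064)) (tt N87822 F380677) (tt N53350 F285786) (tt N89904 (iv4 F387929)) (tt N78851 F356338) (tt N48848 (iv6 D183923)) (tt N87821 (iv7 F380668)))
theorem Q83074 : ∀ i, i < 83074 → P i := stepQ 83073 Q83073 (allL N83073 (tt N104963 F448168) (tt N104962 F448161) (tt N65448 (iv2 F352688)) (tt N89364 (iv3 F386252)) (tt N90228 (iv4 F388997)) (tt N55309 (iv5 F359641)) (tt N48851 (iv6 D183929)) (tt N104964 (iv7 F448173)))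
theorem Q83075 : ∀ i, i < 83075 → P i := stepQ 83074 Q83074 (allL N83074 (tt N113219 D216472) (tt N113220 D216473) (tt N113221 D216474) (tt N48852 (iv3 D183930)) (tt N79610 (iv4 F342312)) (tt N87441 (iv5 F379341)) (tt N79609 F342321) (tt N91737 (iv7 F394256)))
theorem Q83076 : ∀ i, i < 83076 → P i := stepQ 83075 Q83075 (allL N83075 (tt N81388 F387062) (tt N90626 F390317) (tt N90625 F390313) (tt N48853 (iv3 D183932)) (tt N89644 (iv4 F387059)) (tt N90823 F390985) (tt N77461 (iv6 F366808)) (tt N83396 (iv7 F287520)))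
theorem Q83077 : ∀ i, i < 83077 → P i := stepQ 83076 Q83076 (allL N83076 (tt N89343 F386198) (tt N113185 (iv0 F484370)) (tt N81834 F285802) (tt N48856 F285803) (tt N113222 D216475) (tt N48855 (iv5 D183949)) (tt N75846 F285804) (tt N63368 F363005))
theorem Q83078 : ∀ i, i < 83078 → P i := stepQ 83077 Q83077 (allL N83077 (tt N53301 F285827) (tt N52714 (iv0 F285828)) (tt N53299 F285824) (tt N48857 (iv3 D183965)) (tt N53299 F285825) (tt N113223 D216476) (tt N84754 (iv6 F370494)) (tt N48864 F285826))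
theorem Q83079 : ∀ i, i < 83079 → P i := stepQ 83078 Q83078 (allL N83078 (tt N55304 (iv1 F345094)) (tt N70881 F345096) (tt N48862 F285829) (tt N113223 (iv3 F484563)) (tt N103654 (iv4 F442371)) (tt N48857 (iv5 D183966)) (tt N113085 (iv6 F483913)) (tt N48866 F285830))
theorem Q83080 : ∀ i, i < 83080 → P i := stepQ 83079 Q83079 (allL N83079 (tt N70881 (iv1 F345095)) (tt N55304 (iv0 F345092)) (tt N48866 F285831) (tt N53529 F285832) (tt N103655 (iv4 F442378)) (tt N48858 (iv5 D183967)) (tt N113224 D216477) (tt N48862 F285833))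
theorem Q83081 : ∀ i, i < 83081 → P i := stepQ 83080 Q83080 (allL N83080 (tt N48871 (iv1 F285845)) (tt N48859 (iv0 D183969)) (tt N48868 F285848) (tt N113225 D216478) (tt N54027 (iv4 F285877)) (tt N86247 F375574) (tt N71262 (iv6 F375576)) (tt N48869 F285847))
theorem Q83082 : ∀ i, i < 83082 → P i := stepQ 83081 Q83081 (allL N83081 (tt N48859 (iv1 D183970)) (tt N48871 F285837) (tt N48869 F285839) (tt N52915 F285840) (tt N54028 F285841) (tt N52913 (iv5 F285838)) (tt N72102 F333872) (tt N48868 (iv7 F285849)))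
theorem Q83083 : ∀ i, i < 83083 → P i := stepQ 83082 Q83082 (allL N83082 (tt N55075 (iv1 F362694)) (tt N113226 D216479) (tt N53521 F285852) (tt N72041 F357354) (tt N96043 (iv4 F410773)) (tt N48861 (iv5 D183973)) (tt N72037 (iv6 F357359)) (tt N53996 F285853))
theorem Q83084 : ∀ i, i < 83084 → P i := stepQ 83083 Q83083 (allL N83083 (tt N48866 (iv1 F285857)) (tt N48862 (iv0 D183975)) (tt N55304 (iv2 F343912)) (tt N88547 (iv3 F383477)) (tt N78792 F343919) (tt N55303 F343915) (tt N71314 (iv6 F338295)) (tt N70881 F338293))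
theorem Q83085 : ∀ i, i < 83085 → P i := stepQ 83084 Q83084 (allL N83084 (tt N71326 F407567) (tt N95976 (iv0 F410497)) (tt N113085 (iv2 F483910)) (tt N89034 (iv3 F384896)) (tt N103729 (iv4 F442608)) (tt N99307 F424034) (tt N48862 (iv6 D183978)) (tt N99516 (iv7 F424953)))
theorem Q83086 : ∀ i, i < 83086 → P i := stepQ 83085 Q83085 (allL N83085 (tt N48864 (iv1 D183981)) (tt N53299 F285859) (tt N53301 F285862) (tt N48880 F285864) (tt N50140 (iv4 F293972)) (tt N113227 D216480) (tt N53287 F285863) (tt N52714 F285860))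
theorem Q83087 : ∀ i, i < 83087 → P i := stepQ 83086 Q83086 (allL N83086 (tt N71292 (iv1 F427860)) (tt N113228 D216481) (tt N89035 (iv2 F384902)) (tt N48866 F285865) (tt N113229 D216482) (tt N48864 (iv5 D183982)) (tt N78973 (iv6 F363122)) (tt N113223 (iv7 F484565)))
theorem Q83088 : ∀ i, i < 83088 → P i := stepQ 83087 Q83087 (allL N83087 (tt N89795 F387595) (tt N53350 (iv0 F289918)) (tt N54734 (iv2 F289919)) (tt N48867 F285866) (tt N54734 (iv4 F289916)) (tt N112314 (iv5 F480501)) (tt N48864 (iv6 D183983)) (tt N90946 (iv7 F391333)))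
theorem Q83089 : ∀ i, i < 83089 → P i := stepQ 83088 Q83088 (allL N83088 (tt N113226 (iv1 F484580)) (tt N55075 F343918) (tt N53996 F285867) (tt N53516 F285868) (tt N74210 F363680) (tt N48865 (iv5 D183984)) (tt N108020 (iv6 F460767)) (tt N53521 F285869))
theorem Q83090 : ∀ i, i < 83090 → P i := stepQ 83089 Q83089 (allL N83089 (tt N100439 F428980) (tt N100998 (iv0 F431197)) (tt N113224 (iv2 F484569)) (tt N78973 F363123) (tt N103732 (iv4 F442615)) (tt N113230 D216483) (tt N48866 (iv6 D183987)) (tt N113231 D216484))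
theorem Q83091 : ∀ i, i < 83091 → P i := stepQ 83090 Q83090 (allL N83090 (tt N75664 (iv1 F345988)) (tt N76100 (iv0 F285873)) (tt N84347 (iv2 F369014)) (tt N112314 F480503) (tt N74806 (iv4 F346801)) (tt N48867 (iv5 D183990)) (tt N113230 (iv6 F484608)) (tt N84469 (iv7 F369422)))
theorem Q83092 : ∀ i, i < 83092 → P i := stepQ 83091 Q83091 (allL N83091 (tt N54031 F285875) (tt N53992 F285884) (tt N54027 F285876) (tt N111151 (iv3 F474945)) (tt N48868 (iv4 D183992)) (tt N113232 D216485) (tt N69092 F441480) (tt N54028 F285874))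
theorem Q83093 : ∀ i, i < 83093 → P i := stepQ 83092 Q83092 (allL N83092 (tt N71265 (iv1 F446926)) (tt N70864 (iv0 F375556)) (tt N71262 F375577) (tt N72596 (iv3 F365299)) (tt N69092 (iv4 F441481)) (tt N90689 (iv5 F390535)) (tt N48868 (iv6 D183994)) (tt N71263 (iv7 F375578)))
theorem Q83094 : ∀ i, i < 83094 → P i := stepQ 83093 Q83093 (allL N83093 (tt N53300 F385321) (tt N113227 (iv0 F484590)) (tt N72595 (iv2 F365300)) (tt N48869 (iv3 D183995)) (tt N113233 D216486) (tt N91669 (iv5 F393965)) (tt N113234 D216487) (tt N113225 (iv7 F484577)))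
theorem Q83095 : ∀ i, i < 83095 → P i := stepQ 83094 Q83094 (allL N83094 (tt N53992 F285882) (tt N54031 F285883) (tt N54028 F285880) (tt N69093 F388379) (tt N48869 (iv4 D183996)) (tt N113235 D216488) (tt N113236 D216489) (tt N54027 F285881))
theorem Q83096 : ∀ i, i < 83096 → P i := stepQ 83095 Q83095 (allL N83095 (tt N69968 F375557) (tt N71017 F375558) (tt N72102 (iv2 F364603)) (tt N113234 (iv3 F484633)) (tt N113236 (iv4 F484647)) (tt N104129 (iv5 F444329)) (tt N48869 (iv6 D183997)) (tt N72103 (iv7 F364604)))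
theorem Q83097 : ∀ i, i < 83097 → P i := stepQ 83096 Q83096 (allL N83096 (tt N90088 (iv1 F388530)) (tt N90095 F388550) (tt N78803 F360999) (tt N48870 (iv3 D183999)) (tt N48894 F285885) (tt N91670 (iv5 F393971)) (tt N109597 (iv6 F467652)) (tt N98705 (iv7 F421933)))
theorem Q83098 : ∀ i, i < 83098 → P i := stepQ 83097 Q83097 (allL N83097 (tt N90074 (iv1 F388498)) (tt N90081 (iv0 F388517)) (tt N61647 F361000) (tt N91670 (iv3 F393970)) (tt N85614 (iv4 F375606)) (tt N48870 (iv5 D184000)) (tt N109181 F465688) (tt N105128 (iv7 F448921)))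
theorem Q83099 : ∀ i, i < 83099 → P i := stepQ 83098 Q83098 (allL N83098 (tt N90039 (iv1 F388386)) (tt N90037 (iv0 F388371)) (tt N67119 F361001) (tt N98705 (iv3 F421930)) (tt N48871 F285886) (tt N105128 (iv5 F448918)) (tt N103681 F442467) (tt N48870 (iv7 D184001)))
theorem Q83100 : ∀ i, i < 83100 → P i := stepQ 83099 Q83099 (allL N83099 (tt N59043 F345097) (tt N59038 F345103) (tt N59039 F338285) (tt N48896 F285887) (tt N103681 (iv4 F442465)) (tt N62269 (iv5 F345100)) (tt N48871 (iv6 D184002)) (tt N59040 (iv7 F338283)))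
theorem Q83101 : ∀ i, i < 83101 → P i := stepQ 83100 Q83100 (allL N83100 (tt N101468 (iv1 F433052)) (tt N101741 (iv0 F434127)) (tt N86289 (iv2 F375705)) (tt N48873 F285985) (tt N70509 (iv4 F338858)) (tt N48872 (iv5 D184035)) (tt N86281 (iv6 F375671)) (tt N91725 (iv7 F394192)))
theorem Q83102 : ∀ i, i < 83102 → P i := stepQ 83101 Q83101 (allL N83101 (tt N88502 F383302) (tt N103938 (iv0 F443457)) (tt N89665 (iv2 F387157)) (tt N48874 F285986) (tt N105722 (iv4 F451413)) (tt N82976 (iv5 F285987)) (tt N48872 (iv6 D184036)) (tt N110031 (iv7 F469644)))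
theorem Q83103 : ∀ i, i < 83103 → P i := stepQ 83102 Q83102 (allL N83102 (tt N108143 F461291) (tt N71319 (iv0 F407349)) (tt N88841 (iv2 F384303)) (tt N86281 F375675) (tt N96459 F412612) (tt N72096 (iv5 F412614)) (tt N48873 (iv6 D184041)) (tt N113237 D216490))
theorem Q83104 : ∀ i, i < 83104 → P i := stepQ 83103 Q83103 (allL N83103 (tt N70882 (iv1 F394000)) (tt N55309 (iv0 F359642)) (tt N71226 (iv2 F338907)) (tt N70372 (iv3 F338901)) (tt N57758 F338900) (tt N70860 (iv5 F338903)) (tt N48875 (iv6 D184048)) (tt N71229 (iv7 F338902)))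
theorem Q83105 : ∀ i, i < 83105 → P i := stepQ 83104 Q83104 (allL N83104 (tt N103892 (iv1 F443247)) (tt N88493 (iv0 F383274)) (tt N89672 (iv2 F387181)) (tt N48876 (iv3 D184053)) (tt N94556 (iv4 F404961)) (tt N65214 F366801) (tt N113238 D216491) (tt N65227 (iv7 F366804)))
theorem Q83106 : ∀ i, i < 83106 → P i := stepQ 83105 Q83105 (allL N83105 (tt N83262 (iv1 F286558)) (tt N53476 F286554) (tt N65252 (iv2 F309404)) (tt N70404 F351244) (tt N48876 (iv4 D184054)) (tt N107218 (iv5 F457493)) (tt N73766 (iv6 F360597)) (tt N65228 (iv7 F309408)))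
theorem Q83107 : ∀ i, i < 83107 → P i := stepQ 83106 Q83106 (allL N83106 (tt N107835 F459920) (tt N107832 (iv0 F459908)) (tt N65253 (iv2 F366814)) (tt N113238 (iv3 F484658)) (tt N73766 F360595) (tt N82738 F286004) (tt N48876 (iv6 D184055)) (tt N113239 D216492))
theorem Q83108 : ∀ i, i < 83108 → P i := stepQ 83107 Q83107 (allL N83107 (tt N53476 F286005) (tt N83262 F286557) (tt N65228 (iv2 F309407)) (tt N65361 (iv3 F338898)) (tt N48877 (iv4 D184056)) (tt N101467 (iv5 F433043)) (tt N73108 (iv6 F358529)) (tt N65252 (iv7 F309405)))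
theorem Q83109 : ∀ i, i < 83109 → P i := stepQ 83108 Q83108 (allL N83108 (tt N71235 F338911) (tt N99328 (iv0 F424120)) (tt N65229 (iv2 F366813)) (tt N89674 (iv3 F387183)) (tt N73108 F358530) (tt N108446 (iv5 F462612)) (tt N48877 (iv6 D184057)) (tt N107828 (iv7 F459888)))
theorem Q83110 : ∀ i, i < 83110 → P i := stepQ 83109 Q83109 (allL N83109 (tt N113240 D216493) (tt N105621 (iv0 F451000)) (tt N113241 D216494) (tt N48878 (iv3 D184060)) (tt N109597 (iv4 F467650)) (tt N70308 F350386) (tt N48894 F286007) (tt N113242 D216495))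
theorem Q83111 : ∀ i, i < 83111 → P i := stepQ 83110 Q83110 (allL N83110 (tt N89318 (iv1 F386072)) (tt N58343 F364770) (tt N91728 (iv2 F394210)) (tt N113242 (iv3 F484673)) (tt N48879 F286008) (tt N72216 (iv5 F350383)) (tt N58266 F359813) (tt N48878 (iv7 D184062)))
theorem Q83112 : ∀ i, i < 83112 → P i := stepQ 83111 Q83111 (allL N83111 (tt N85631 (iv1 F373279)) (tt N72585 F373283) (tt N85632 (iv2 F373285)) (tt N59040 (iv3 F338282)) (tt N58266 F359812) (tt N72550 F331757) (tt N48879 (iv6 D184063)) (tt N48896 F286009))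
theorem Q83113 : ∀ i, i < 83113 → P i := stepQ 83112 Q83112 (allL N83112 (tt N85379 F372411) (tt N55113 (iv0 F286012)) (tt N85264 (iv2 F372058)) (tt N55133 F286011) (tt N48880 (iv4 D184064)) (tt N84273 (iv5 F368763)) (tt N89511 (iv6 F386688)) (tt N55149 F286010))
theorem Q83114 : ∀ i, i < 83114 → P i := stepQ 83113 Q83113 (allL N83113 (tt N85473 F372740) (tt N48889 F366084) (tt N89677 (iv2 F387188)) (tt N113227 (iv3 F484586)) (tt N90802 (iv4 F390910)) (tt N48880 (iv5 D184065)) (tt N113243 D216496) (tt N87050 (iv7 F378181)))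
theorem Q83115 : ∀ i, i < 83115 → P i := stepQ 83114 Q83114 (allL N83114 (tt N89651 (iv1 F387101)) (tt N48881 (iv0 D184066)) (tt N89678 (iv2 F387197)) (tt N113228 F484598) (tt N113244 D216497) (tt N83163 F381818) (tt N113245 D216498) (tt N89679 (iv7 F387199)))
theorem Q83116 : ∀ i, i < 83116 → P i := stepQ 83115 Q83115 (allL N83115 (tt N48881 (iv1 D184067)) (tt N89651 F387102) (tt N89679 F387200) (tt N88701 (iv3 F383919)) (tt N113090 (iv4 F483937)) (tt N83164 F383920) (tt N113089 F483935) (tt N89678 (iv7 F387196)))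
theorem Q83117 : ∀ i, i < 83117 → P i := stepQ 83116 Q83116 (allL N83116 (tt N113246 D216499) (tt N91692 (iv0 F394064)) (tt N89680 (iv2 F387201)) (tt N113247 D216500) (tt N48881 (iv4 D184068)) (tt N90797 (iv5 F390903)) (tt N113248 D216501) (tt N91423 (iv7 F393070)))
theorem Q83118 : ∀ i, i < 83118 → P i := stepQ 83117 Q83117 (allL N83117 (tt N113249 D216502) (tt N113250 D216503) (tt N89681 (iv2 F387205)) (tt N48885 F286013) (tt N113248 (iv4 F484701)) (tt N112909 (iv5 F483240)) (tt N48881 (iv6 D184069)) (tt N113251 D216504))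
theorem Q83119 : ∀ i, i < 83119 → P i := stepQ 83118 Q83118 (allL N83118 (tt N50794 F367035) (tt N48882 (iv0 D184070)) (tt N84752 (iv2 F370478)) (tt N50156 (iv3 F294910)) (tt N84686 (iv4 F370222)) (tt N82888 (iv5 F286016)) (tt N49130 (iv6 F286015)) (tt N85435 (iv7 F372632)))
theorem Q83120 : ∀ i, i < 83120 → P i := stepQ 83119 Q83119 (allL N83119 (tt N48882 (iv1 D184071)) (tt N50794 F367240) (tt N85435 (iv2 F372636)) (tt N50792 (iv3 F370485)) (tt N85453 (iv4 F372670)) (tt N82889 (iv5 F367241)) (tt N83501 F372518) (tt N84752 F370484))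
theorem Q83121 : ∀ i, i < 83121 → P i := stepQ 83120 Q83120 (allL N83120 (tt N113252 D216505) (tt N85089 (iv0 F373398)) (tt N105364 (iv2 F449897)) (tt N48884 (iv3 D184074)) (tt N113247 (iv4 F484695)) (tt N91640 (iv5 F393860)) (tt N72836 F358527) (tt N91425 (iv7 F393073)))
theorem Q83122 : ∀ i, i < 83122 → P i := stepQ 83121 Q83121 (allL N83121 (tt N72990 (iv1 F358485)) (tt N72983 F358486) (tt N91730 (iv2 F394216)) (tt N113251 (iv3 F484710)) (tt N73569 F358487) (tt N112911 (iv5 F483246)) (tt N91429 (iv6 F393093)) (tt N48885 (iv7 D184079)))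
theorem Q83123 : ∀ i, i < 83123 → P i := stepQ 83122 Q83122 (allL N83122 (tt N72201 F450697) (tt N107515 F458618) (tt N107514 (iv2 F458613)) (tt N48886 (iv3 D184080)) (tt N89689 (iv4 F387224)) (tt N91635 (iv5 F393851)) (tt N107133 F457133) (tt N91729 (iv7 F394215)))
theorem Q83124 : ∀ i, i < 83124 → P i := stepQ 83123 Q83123 (allL N83123 (tt N101249 F432397) (tt N101219 (iv0 F432259)) (tt N91426 (iv2 F393074)) (tt N107133 (iv3 F457130)) (tt N48887 F286024) (tt N108114 (iv5 F461170)) (tt N48886 (iv6 D184082)) (tt N99589 (iv7 F425302)))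
theorem Q83125 : ∀ i, i < 83125 → P i := stepQ 83124 Q83124 (allL N83124 (tt N91429 (iv1 F393095)) (tt N48887 (iv0 D184083)) (tt N91427 (iv2 F393080)) (tt N100439 (iv3 F428979)) (tt N85658 F393081) (tt N100437 F428974) (tt N113253 D216506) (tt N91428 (iv7 F393087)))
theorem Q83126 : ∀ i, i < 83126 → P i := stepQ 83125 Q83125 (allL N83125 (tt N110275 (iv1 F470785)) (tt N75425 (iv0 F426113)) (tt N84472 (iv2 F369433)) (tt N75666 F360917) (tt N103125 (iv4 F440186)) (tt N48887 (iv5 D184085)) (tt N48888 F286025) (tt N110268 (iv7 F470740)))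
theorem Q83127 : ∀ i, i < 83127 → P i := stepQ 83126 Q83126 (allL N83126 (tt N91428 (iv1 F393086)) (tt N91427 (iv0 F393085)) (tt N91429 (iv2 F393092)) (tt N89693 (iv3 F387234)) (tt N99589 (iv4 F425301)) (tt N110268 (iv5 F470739)) (tt N91730 (iv6 F394219)) (tt N48887 (iv7 D184086)))
theorem Q83128 : ∀ i, i < 83128 → P i := stepQ 83127 Q83127 (allL N83127 (tt N49627 F286026) (tt N49621 F286027) (tt N84471 (iv2 F369428)) (tt N77573 F356620) (tt N48888 (iv4 D184087)) (tt N51669 F348704) (tt N103125 (iv6 F440185)) (tt N84473 (iv7 F369439)))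
theorem Q83129 : ∀ i, i < 83129 → P i := stepQ 83128 Q83128 (allL N83128 (tt N85474 (iv1 F372743)) (tt N53268 (iv0 F286042)) (tt N85476 (iv2 F372751)) (tt N113254 D216507) (tt N48889 (iv4 D184090)) (tt N90792 (iv5 F390889)) (tt N113255 D216508) (tt N85461 F372702))
theorem Q83130 : ∀ i, i < 83130 → P i := stepQ 83129 Q83129 (allL N83129 (tt N113256 D216509) (tt N98434 (iv0 F420914)) (tt N89695 (iv2 F387245)) (tt N48891 F286046) (tt N113255 (iv4 F484726)) (tt N113213 (iv5 F484510)) (tt N48889 (iv6 D184092)) (tt N113257 D216510))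
theorem Q83131 : ∀ i, i < 83131 → P i := stepQ 83130 Q83130 (allL N83130 (tt N107730 F459435) (tt N113258 D216511) (tt N113259 D216512) (tt N48890 (iv3 D184093)) (tt N113254 (iv4 F484721)) (tt N87705 (iv5 F380201)) (tt N103051 (iv6 F439852)) (tt N83267 (iv7 F286568)))
theorem Q83132 : ∀ i, i < 83132 → P i := stepQ 83131 Q83131 (allL N83131 (tt N91732 (iv1 F394236)) (tt N48891 (iv0 D184096)) (tt N91731 (iv2 F394225)) (tt N89801 F394229) (tt N84831 F394226) (tt N83451 F393984) (tt N99328 (iv6 F424118)) (tt N85240 (iv7 F394227)))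
theorem Q83133 : ∀ i, i < 83133 → P i := stepQ 83132 Q83132 (allL N83132 (tt N48891 (iv1 D184097)) (tt N91732 F394235) (tt N85240 F372013) (tt N70864 F359644) (tt N85239 (iv4 F372014)) (tt N83450 F358625) (tt N70862 (iv6 F359643)) (tt N91731 F394224))
theorem Q83134 : ∀ i, i < 83134 → P i := stepQ 83133 Q83133 (allL N83133 (tt N85240 (iv1 F372012)) (tt N91731 F394228) (tt N91732 (iv2 F394231)) (tt N113257 (iv3 F484732)) (tt N98251 (iv4 F420183)) (tt N110352 (iv5 F471184)) (tt N91734 (iv6 F394243)) (tt N48891 (iv7 D184098)))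
theorem Q83135 : ∀ i, i < 83135 → P i := stepQ 83134 Q83134 (allL N83134 (tt N111974 F478929) (tt N113260 D216513) (tt N82284 (iv2 F351139)) (tt N48892 (iv3 D184099)) (tt N82248 (iv4 F351134)) (tt N91625 (iv5 F393812)) (tt N86396 (iv6 F376090)) (tt N82282 (iv7 F345422)))
theorem Q83136 : ∀ i, i < 83136 → P i := stepQ 83135 Q83135 (allL N83135 (tt N96469 F412652) (tt N96470 (iv0 F412658)) (tt N83268 (iv2 F286572)) (tt N86396 (iv3 F376088)) (tt N48893 F286050) (tt N94720 (iv5 F405661)) (tt N48892 (iv6 D184101)) (tt N94719 (iv7 F405656)))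
theorem Q83137 : ∀ i, i < 83137 → P i := stepQ 83136 Q83136 (allL N83136 (tt N91734 (iv1 F394245)) (tt N48893 (iv0 D184102)) (tt N91733 F394238) (tt N69968 (iv3 F339698)) (tt N91682 F394025) (tt N69965 F339697) (tt N110274 (iv6 F470777)) (tt N72099 (iv7 F339699)))
theorem Q83138 : ∀ i, i < 83138 → P i := stepQ 83137 Q83137 (allL N83137 (tt N48893 (iv1 D184103)) (tt N91734 F394244) (tt N72099 F380790) (tt N113261 D216514) (tt N91683 (iv4 F394028)) (tt N72097 (iv5 F380789)) (tt N107835 (iv6 F459917)) (tt N91733 (iv7 F394239)))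
theorem Q83139 : ∀ i, i < 83139 → P i := stepQ 83138 Q83138 (allL N83138 (tt N72099 (iv1 F380787)) (tt N91733 F394240) (tt N91734 (iv2 F394241)) (tt N85833 F374169) (tt N94719 (iv4 F405655)) (tt N82986 F286051) (tt N91732 (iv6 F394234)) (tt N48893 (iv7 D184104)))
theorem Q83140 : ∀ i, i < 83140 → P i := stepQ 83139 Q83139 (allL N83139 (tt N85116 F371677) (tt N48894 (iv0 D184110)) (tt N113262 D216515) (tt N57202 F362354) (tt N113232 (iv4 F484623)) (tt N57201 (iv5 F362355)) (tt N61323 (iv6 F362356)) (tt N93556 (iv7 F401121)))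
theorem Q83141 : ∀ i, i < 83141 → P i := stepQ 83140 Q83140 (allL N83140 (tt N48894 (iv1 D184111)) (tt N85116 F371679) (tt N93556 (iv2 F401119)) (tt N110502 (iv3 F471872)) (tt N113235 (iv4 F484641)) (tt N89070 (iv5 F385036)) (tt N113263 D216516) (tt N113262 (iv7 F484764)))
theorem Q83142 : ∀ i, i < 83142 → P i := stepQ 83141 Q83141 (allL N83141 (tt N113262 (iv1 F484765)) (tt N93556 (iv0 F401123)) (tt N48894 (iv2 D184112)) (tt N78801 F345166) (tt N78803 (iv4 F361003)) (tt N86248 (iv5 F375582)) (tt N113241 (iv6 F484672)) (tt N85116 (iv7 F371676)))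
theorem Q83143 : ∀ i, i < 83143 → P i := stepQ 83142 Q83142 (allL N83142 (tt N93556 F401124) (tt N113262 F484766) (tt N85116 (iv2 F371674)) (tt N48895 F286057) (tt N98705 (iv4 F421931)) (tt N59087 (iv5 F368595)) (tt N105131 (iv6 F448926)) (tt N48894 (iv7 D184114)))
theorem Q83144 : ∀ i, i < 83144 → P i := stepQ 83143 Q83143 (allL N83143 (tt N58330 F345104) (tt N57945 F345107) (tt N58269 (iv2 F352253)) (tt N105131 (iv3 F448925)) (tt N48896 F286058) (tt N57916 (iv5 F345102)) (tt N48895 (iv6 D184116)) (tt N58266 (iv7 F352258)))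
theorem Q83145 : ∀ i, i < 83145 → P i := stepQ 83144 Q83144 (allL N83144 (tt N85632 (iv1 F373290)) (tt N48896 (iv0 D184117)) (tt N72585 (iv2 F369486)) (tt N113264 D216517) (tt N113265 D216518) (tt N73246 F369487) (tt N71232 (iv6 F404937)) (tt N85631 (iv7 F373280)))
theorem Q83146 : ∀ i, i < 83146 → P i := stepQ 83145 Q83145 (allL N83145 (tt N48896 (iv1 D184118)) (tt N85632 F373289) (tt N85631 F373281) (tt N62281 F369484) (tt N113266 D216519) (tt N62401 (iv5 F369483)) (tt N113267 D216520) (tt N72585 F369485))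
theorem Q83147 : ∀ i, i < 83147 → P i := stepQ 83146 Q83146 (allL N83146 (tt N89842 (iv1 F387703)) (tt N89841 F387702) (tt N84854 (iv2 F370856)) (tt N113268 D216521) (tt N48897 (iv4 D184119)) (tt N113269 D216522) (tt N108364 F462269) (tt N85633 (iv7 F373292)))
theorem Q83148 : ∀ i, i < 83148 → P i := stepQ 83147 Q83147 (allL N83147 (tt N107402 F458227) (tt N107403 (iv0 F458230)) (tt N84855 (iv2 F370858)) (tt N48899 F286059) (tt N108364 (iv4 F462266)) (tt N84893 (iv5 F371020)) (tt N48897 (iv6 D184120)) (tt N108134 (iv7 F461251)))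
theorem Q83149 : ∀ i, i < 83149 → P i := stepQ 83148 Q83148 (allL N83148 (tt N110204 (iv1 F470423)) (tt N110080 (iv0 F469886)) (tt N93269 (iv2 F400216)) (tt N48898 (iv3 D184123)) (tt N113268 (iv4 F484793)) (tt N85669 (iv5 F373451)) (tt N93267 F400210) (tt N85635 (iv7 F373296)))
theorem Q83150 : ∀ i, i < 83150 → P i := stepQ 83149 Q83149 (allL N83149 (tt N48952 F367107) (tt N48900 (iv0 D184128)) (tt N84588 F369784) (tt N90783 (iv3 F390846)) (tt N100347 (iv4 F428527)) (tt N55119 F367108) (tt N84593 F369808) (tt N51747 F367109))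
theorem Q83151 : ∀ i, i < 83151 → P i := stepQ 83150 Q83150 (allL N83150 (tt N91623 (iv1 F393801)) (tt N91622 F393797) (tt N48911 F286119) (tt N51706 F286120) (tt N91391 F392958) (tt N48906 (iv5 D184192)) (tt N54510 F359405) (tt N89506 (iv7 F386668)))
theorem Q83152 : ∀ i, i < 83152 → P i := stepQ 83151 Q83151 (allL N83151 (tt N52416 F354567) (tt N87283 F381296) (tt N82936 F286121) (tt N82938 F286122) (tt N100668 (iv4 F429927)) (tt N95644 (iv5 F408989)) (tt N48907 (iv6 D184193)) (tt N87282 (iv7 F378971)))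
theorem Q83153 : ∀ i, i < 83153 → P i := stepQ 83152 Q83152 (allL N83152 (tt N89371 (iv1 F386270)) (tt N89370 F386265) (tt N54510 (iv2 F359404)) (tt N48912 F286124) (tt N113270 D216523) (tt N48908 (iv5 D184197)) (tt N48911 F286125) (tt N89372 (iv7 F386269)))
theorem Q83154 : ∀ i, i < 83154 → P i := stepQ 83153 Q83153 (allL N83153 (tt N59723 F361278) (tt N88530 F383426) (tt N84343 (iv2 F368990)) (tt N48913 F286126) (tt N91313 (iv4 F392676)) (tt N89372 (iv5 F386268)) (tt N87191 (iv6 F378652)) (tt N48908 (iv7 D184198)))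
theorem Q83155 : ∀ i, i < 83155 → P i := stepQ 83154 Q83154 (allL N83154 (tt N59820 F340553) (tt N59774 F358511) (tt N59817 (iv2 F358505)) (tt N91255 (iv3 F392424)) (tt N76053 (iv4 F358512)) (tt N48909 (iv5 D184199)) (tt N97230 F415997) (tt N59818 (iv7 F358513)))
theorem Q83156 : ∀ i, i < 83156 → P i := stepQ 83155 Q83155 (allL N83155 (tt N55504 F381204) (tt N83529 (iv0 F381645)) (tt N83527 (iv2 F363039)) (tt N87704 (iv3 F380199)) (tt N89115 (iv4 F385217)) (tt N88063 F381641) (tt N48910 (iv6 D184202)) (tt N83528 (iv7 F363040)))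
theorem Q83157 : ∀ i, i < 83157 → P i := stepQ 83156 Q83156 (allL N83156 (tt N89506 (iv1 F386670)) (tt N48911 (iv0 D184203)) (tt N91623 F393806) (tt N100346 (iv3 F428519)) (tt N108820 (iv4 F464117)) (tt N87315 F379040) (tt N95531 (iv6 F408513)) (tt N91622 F393800))
theorem Q83158 : ∀ i, i < 83158 → P i := stepQ 83157 Q83157 (allL N83157 (tt N91388 (iv1 F392952)) (tt N88278 (iv0 F382445)) (tt N91391 (iv2 F392959)) (tt N113271 D216524) (tt N48911 (iv4 D184205)) (tt N113272 D216525) (tt N113270 (iv6 F484803)) (tt N91390 F392957))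
theorem Q83159 : ∀ i, i < 83159 → P i := stepQ 83158 Q83158 (allL N83158 (tt N54511 (iv1 F353237)) (tt N48912 (iv0 D184216)) (tt N87198 F378728) (tt N89918 (iv3 F393295)) (tt N91476 (iv4 F393291)) (tt N66729 (iv5 F361888)) (tt N113273 D216526) (tt N87199 (iv7 F378732)))
theorem Q83160 : ∀ i, i < 83160 → P i := stepQ 83159 Q83159 (allL N83159 (tt N48912 (iv1 D184217)) (tt N54511 (iv0 F353236)) (tt N87199 F378734) (tt N92647 F397747) (tt N91477 (iv4 F393298)) (tt N66731 (iv5 F350623)) (tt N103967 (iv6 F443560)) (tt N87198 F378729))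
theorem Q83161 : ∀ i, i < 83161 → P i := stepQ 83160 Q83160 (allL N83160 (tt N55220 (iv1 F365228)) (tt N55222 (iv0 F366332)) (tt N87200 (iv2 F378736)) (tt N95074 (iv3 F406954)) (tt N48912 (iv4 D184218)) (tt N95058 (iv5 F406886)) (tt N48915 F286129) (tt N95057 (iv7 F406872)))
theorem Q83162 : ∀ i, i < 83162 → P i := stepQ 83161 Q83161 (allL N83161 (tt N87199 (iv1 F378731)) (tt N87198 F378727) (tt N54511 (iv2 F353235)) (tt N89372 (iv3 F386267)) (tt N95057 (iv4 F406871)) (tt N48913 F286130) (tt N91629 (iv6 F393829)) (tt N48912 (iv7 D184219)))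
theorem Q83163 : ∀ i, i < 83163 → P i := stepQ 83162 Q83162 (allL N83162 (tt N95100 F407038) (tt N107885 F460121) (tt N107884 (iv2 F460115)) (tt N48915 (iv3 D184221)) (tt N113271 (iv4 F484805)) (tt N82282 F362246) (tt N95074 (iv6 F406956)) (tt N91625 (iv7 F393813)))
theorem Q83164 : ∀ i, i < 83164 → P i := stepQ 83163 Q83163 (allL N83163 (tt N89694 F387241) (tt N48916 (iv0 D184228)) (tt N82832 F381819) (tt N88789 (iv3 F384154)) (tt N88109 F381816) (tt N83114 (iv5 F381818)) (tt N53070 (iv6 F381817)) (tt N91668 (iv7 F393962)))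
theorem Q83165 : ∀ i, i < 83165 → P i := stepQ 83164 Q83164 (allL N83164 (tt N48916 (iv1 D184229)) (tt N89694 F387243) (tt N91668 F393960) (tt N52990 (iv3 F381821)) (tt N111842 (iv4 F478257)) (tt N83115 (iv5 F383920)) (tt N111441 (iv6 F476384)) (tt N82832 F381820))
theorem Q83166 : ∀ i, i < 83166 → P i := stepQ 83165 Q83165 (allL N83165 (tt N82832 F367650) (tt N91668 F393961) (tt N48916 (iv2 D184230)) (tt N49499 (iv3 F366973)) (tt N48960 F286155) (tt N85473 (iv5 F372739)) (tt N49497 (iv6 F294757)) (tt N89694 (iv7 F387239)))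
theorem Q83167 : ∀ i, i < 83167 → P i := stepQ 83166 Q83166 (allL N83166 (tt N49176 (iv1 F286162)) (tt N48917 (iv0 D184234)) (tt N87057 (iv2 F378217)) (tt N75866 F346018) (tt N98869 (iv4 F422637)) (tt N59824 (iv5 F340562)) (tt N113274 D216527) (tt N88720 (iv7 F383967)))
theorem Q83168 : ∀ i, i < 83168 → P i := stepQ 83167 Q83167 (allL N83167 (tt N72610 F365566) (tt N89953 (iv0 F388095)) (tt N48925 F286163) (tt N107883 (iv3 F460107)) (tt N48918 (iv4 D184236)) (tt N113275 D216528) (tt N101191 F432117) (tt N89507 (iv7 F386672)))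
theorem Q83169 : ∀ i, i < 83169 → P i := stepQ 83168 Q83168 (allL N83168 (tt N105026 F448450) (tt N80434 (iv0 F344409)) (tt N52877 F286164) (tt N79364 F286165) (tt N48920 F286166) (tt N103007 (iv5 F439647)) (tt N48919 (iv6 D184237)) (tt N80448 (iv7 F366572)))
theorem Q83170 : ∀ i, i < 83170 → P i := stepQ 83169 Q83169 (allL N83169 (tt N100054 F427382) (tt N110072 (iv0 F469847)) (tt N52879 F286169) (tt N89395 (iv3 F386358)) (tt N105333 (iv4 F449749)) (tt N48920 (iv5 D184240)) (tt N52872 F286170) (tt N110051 (iv7 F469740)))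
theorem Q83171 : ∀ i, i < 83171 → P i := stepQ 83170 Q83170 (allL N83170 (tt N66828 F351945) (tt N82951 (iv0 F339030)) (tt N68560 (iv2 F359898)) (tt N80457 F351936) (tt N48921 (iv4 D184242)) (tt N108266 (iv5 F461781)) (tt N80456 (iv6 F351938)) (tt N89445 (iv7 F386535)))
theorem Q83172 : ∀ i, i < 83172 → P i := stepQ 83171 Q83171 (allL N83171 (tt N89450 (iv1 F386549)) (tt N89449 F386547) (tt N88998 (iv2 F384737)) (tt N89425 (iv3 F386455)) (tt N107352 (iv4 F458061)) (tt N48921 (iv5 D184243)) (tt N107356 (iv6 F458076)) (tt N89446 (iv7 F386540)))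
theorem Q83173 : ∀ i, i < 83173 → P i := stepQ 83172 Q83172 (allL N83172 (tt N89444 (iv1 F386532)) (tt N48922 (iv0 D184245)) (tt N89012 (iv2 F384816)) (tt N78012 F384817) (tt N78031 (iv4 F384818)) (tt N77197 (iv5 F384819)) (tt N78010 (iv6 F384820)) (tt N89471 (iv7 F386606)))
theorem Q83174 : ∀ i, i < 83174 → P i := stepQ 83173 Q83173 (allL N83173 (tt N101172 (iv1 F432043)) (tt N101193 F432124) (tt N101191 F432116) (tt N113276 D216529) (tt N48922 (iv4 D184247)) (tt N74286 (iv5 F427576)) (tt N48925 F286176) (tt N101190 F432111))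
theorem Q83175 : ∀ i, i < 83175 → P i := stepQ 83174 Q83174 (allL N83174 (tt N89519 (iv1 F386706)) (tt N89518 F386703) (tt N89014 (iv2 F384822)) (tt N94347 F438406) (tt N48923 (iv4 D184249)) (tt N108829 (iv5 F464155)) (tt N113277 D216530) (tt N89509 (iv7 F386682)))
theorem Q83176 : ∀ i, i < 83176 → P i := stepQ 83175 Q83175 (allL N83175 (tt N113278 D216531) (tt N113279 D216532) (tt N88764 (iv2 F384077)) (tt N89488 (iv3 F386631)) (tt N113277 (iv4 F484828)) (tt N87843 (iv5 F380809)) (tt N48923 (iv6 D184250)) (tt N107071 (iv7 F456849)))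
theorem Q83177 : ∀ i, i < 83177 → P i := stepQ 83176 Q83176 (allL N83176 (tt N89559 (iv1 F386764)) (tt N63169 (iv0 F372270)) (tt N89016 (iv2 F384827)) (tt N98850 F422561) (tt N48924 (iv4 D184251)) (tt N113280 D216533) (tt N113281 D216534) (tt N89557 (iv7 F386760)))
theorem Q83178 : ∀ i, i < 83178 → P i := stepQ 83177 Q83177 (allL N83177 (tt N53142 (iv1 F286181)) (tt N49874 F286182) (tt N49821 F286179) (tt N86230 (iv3 F375478)) (tt N84640 (iv4 F369964)) (tt N48924 (iv5 D184252)) (tt N90967 (iv6 F391408)) (tt N53138 F286180))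
theorem Q83179 : ∀ i, i < 83179 → P i := stepQ 83178 Q83178 (allL N83178 (tt N102756 F438497) (tt N113282 D216535) (tt N89017 (iv2 F384829)) (tt N89540 (iv3 F386738)) (tt N113281 (iv4 F484844)) (tt N90968 (iv5 F391412)) (tt N48924 (iv6 D184253)) (tt N113283 D216536))
theorem Q83180 : ∀ i, i < 83180 → P i := stepQ 83179 Q83179 (allL N83179 (tt N89507 (iv1 F386674)) (tt N48925 (iv0 D184254)) (tt N72610 (iv2 F365058)) (tt N108819 (iv3 F464112)) (tt N72616 F365059) (tt N113284 D216537) (tt N113285 D216538) (tt N89953 (iv7 F388094)))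
theorem Q83181 : ∀ i, i < 83181 → P i := stepQ 83180 Q83180 (allL N83180 (tt N48925 (iv1 D184255)) (tt N89507 (iv0 F386673)) (tt N89953 (iv2 F388093)) (tt N55902 (iv3 F365055)) (tt N72457 F365056) (tt N113286 D216539) (tt N94245 (iv6 F403820)) (tt N72610 F365057))
theorem Q83182 : ∀ i, i < 83182 → P i := stepQ 83181 Q83181 (allL N83181 (tt N102729 (iv1 F438389)) (tt N102727 (iv0 F438381)) (tt N77776 F365054) (tt N48925 (iv3 D184256)) (tt N48946 F286185) (tt N94350 (iv5 F404093)) (tt N113276 (iv6 F484824)) (tt N71366 (iv7 F365105)))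
theorem Q83183 : ∀ i, i < 83183 → P i := stepQ 83182 Q83182 (allL N83182 (tt N113287 D216540) (tt N113288 D216541) (tt N113275 (iv2 F484818)) (tt N94350 F404094) (tt N113289 D216542) (tt N48925 (iv5 D184257)) (tt N113289 F484869) (tt N110460 F471695))
theorem Q83184 : ∀ i, i < 83184 → P i := stepQ 83183 Q83183 (allL N83183 (tt N89953 (iv1 F388096)) (tt N72610 (iv0 F365339)) (tt N89507 (iv2 F386671)) (tt N71366 F365107) (tt N48926 F286186) (tt N110460 (iv5 F471693)) (tt N72489 F364962) (tt N48925 (iv7 D184258)))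
theorem Q83185 : ∀ i, i < 83185 → P i := stepQ 83184 Q83184 (allL N83184 (tt N113290 D216543) (tt N72446 (iv0 F396784)) (tt N72547 F362376) (tt N48948 F286187) (tt N72489 (iv4 F364961)) (tt N85630 (iv5 F373276)) (tt N48926 (iv6 D184259)) (tt N110990 (iv7 F474122)))
theorem Q83186 : ∀ i, i < 83186 → P i := stepQ 83185 Q83185 (allL N83185 (tt N111844 (iv1 F478273)) (tt N111843 (iv0 F478265)) (tt N91710 (iv2 F394133)) (tt N62408 F364532) (tt N81234 (iv4 F364533)) (tt N82879 F286220) (tt N48927 (iv6 D184272)) (tt N102799 (iv7 F438693)))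
theorem Q83187 : ∀ i, i < 83187 → P i := stepQ 83186 Q83186 (allL N83186 (tt N101211 (iv1 F432223)) (tt N90266 (iv0 F389162)) (tt N73200 (iv2 F358567)) (tt N103152 F440319) (tt N48929 (iv4 D184286)) (tt N96902 (iv5 F414527)) (tt N75309 F358566) (tt N91709 (iv7 F394129)))
theorem Q83188 : ∀ i, i < 83188 → P i := stepQ 83187 Q83187 (allL N83187 (tt N91442 F393138) (tt N91283 (iv0 F392539)) (tt N75439 F358563) (tt N112123 (iv3 F479603)) (tt N75309 (iv4 F358564)) (tt N77159 F353747) (tt N48929 (iv6 D184287)) (tt N75433 (iv7 F358565)))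
theorem Q83189 : ∀ i, i < 83189 → P i := stepQ 83188 Q83188 (allL N83188 (tt N78621 F334215) (tt N78654 (iv0 F356173)) (tt N109626 (iv2 F467806)) (tt N48930 (iv3 D184295)) (tt N78642 (iv4 F356172)) (tt N65180 F356170) (tt N113291 D216544) (tt N65179 (iv7 F356171)))
theorem Q83190 : ∀ i, i < 83190 → P i := stepQ 83189 Q83189 (allL N83189 (tt N113155 (iv1 F484242)) (tt N106085 (iv0 F453047)) (tt N77274 F366843) (tt N113291 (iv3 F484876)) (tt N102764 (iv4 F438535)) (tt N77238 F366830) (tt N48930 (iv6 D184297)) (tt N113292 D216545))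
theorem Q83191 : ∀ i, i < 83191 → P i := stepQ 83190 Q83190 (allL N83190 (tt N66373 F353472) (tt N63867 (iv0 F342370)) (tt N77604 F350973) (tt N48931 (iv3 D184300)) (tt N113276 (iv4 F484822)) (tt N63748 F332035) (tt N48946 F286245) (tt N78364 F350972))
theorem Q83192 : ∀ i, i < 83192 → P i := stepQ 83191 Q83191 (allL N83191 (tt N79400 F343440) (tt N80705 (iv0 F332032)) (tt N79489 F331992) (tt N63748 (iv3 F332033)) (tt N77282 (iv4 F332029)) (tt N48931 (iv5 D184301)) (tt N77580 (iv6 F332038)) (tt N79379 (iv7 F331991)))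
theorem Q83193 : ∀ i, i < 83193 → P i := stepQ 83192 Q83192 (allL N83192 (tt N62274 (iv1 F362378)) (tt N72567 F362380) (tt N72550 F331755) (tt N110990 (iv3 F474119)) (tt N106430 (iv4 F454399)) (tt N85632 (iv5 F373287)) (tt N48932 (iv6 D184303)) (tt N48948 F286247))
theorem Q83194 : ∀ i, i < 83194 → P i := stepQ 83193 Q83193 (allL N83193 (tt N91716 (iv1 F394156)) (tt N48933 (iv0 D184313)) (tt N91714 F415400) (tt N73288 F415398) (tt N86368 F415397) (tt N110285 (iv5 F470840)) (tt N111844 (iv6 F478270)) (tt N91715 (iv7 F415399)))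
theorem Q83195 : ∀ i, i < 83195 → P i := stepQ 83194 Q83194 (allL N83194 (tt N48933 (iv1 D184314)) (tt N91716 F394155) (tt N91715 (iv2 F415401)) (tt N113279 F484839) (tt N86369 F416723) (tt N110284 (iv5 F470834)) (tt N73245 F415402) (tt N91714 F415403))
theorem Q83196 : ∀ i, i < 83196 → P i := stepQ 83195 Q83195 (allL N83195 (tt N91715 (iv1 F394150)) (tt N91714 F394154) (tt N91716 (iv2 F394151)) (tt N73254 F348157) (tt N82436 (iv4 F348158)) (tt N87835 (iv5 F380760)) (tt N81072 F358788) (tt N48933 (iv7 D184315)))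
theorem Q83197 : ∀ i, i < 83197 → P i := stepQ 83196 Q83196 (allL N83196 (tt N48941 F286278) (tt N72593 (iv0 F365345)) (tt N91711 (iv2 F394135)) (tt N85333 (iv3 F372266)) (tt N74139 (iv4 F368782)) (tt N48934 (iv5 D184316)) (tt N72575 F368783) (tt N87051 (iv7 F378186)))
theorem Q83198 : ∀ i, i < 83198 → P i := stepQ 83197 Q83197 (allL N83197 (tt N83501 (iv1 F287656)) (tt N83500 F287651) (tt N48937 F286254) (tt N83505 (iv3 F287674)) (tt N53892 F286255) (tt N90736 (iv5 F390693)) (tt N48935 (iv6 D184318)) (tt N83502 (iv7 F287654)))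
theorem Q83199 : ∀ i, i < 83199 → P i := stepQ 83198 Q83198 (allL N83198 (tt N76192 (iv1 F354453)) (tt N48936 (iv0 D184319)) (tt N89490 (iv2 F386639)) (tt N89384 F387970) (tt N89909 (iv4 F387967)) (tt N88869 (iv5 F384397)) (tt N113293 D216546) (tt N89936 (iv7 F388051)))
theorem Q83200 : ∀ i, i < 83200 → P i := stepQ 83199 Q83199 (allL N83199 (tt N48936 (iv1 D184320)) (tt N76192 F354450) (tt N89936 (iv2 F388048)) (tt N85336 F372286) (tt N89907 (iv4 F387950)) (tt N87256 F378911) (tt N97299 F416282) (tt N89490 (iv7 F386635)))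
theorem Q83201 : ∀ i, i < 83201 → P i := stepQ 83200 Q83200 (allL N83200 (tt N113294 D216547) (tt N113295 D216548) (tt N109686 (iv2 F468105)) (tt N48938 F286256) (tt N91651 (iv4 F393899)) (tt N113001 (iv5 F483507)) (tt N48936 (iv6 D184322)) (tt N113296 D216549))
theorem Q83202 : ∀ i, i < 83202 → P i := stepQ 83201 Q83201 (allL N83201 (tt N83502 (iv1 F287655)) (tt N48937 (iv0 D184323)) (tt N83501 (iv2 F372522)) (tt N89387 (iv3 F386325)) (tt N89944 (iv4 F388064)) (tt N82833 (iv5 F368863)) (tt N85435 F372635) (tt N83500 F372523))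
theorem Q83203 : ∀ i, i < 83203 → P i := stepQ 83202 Q83202 (allL N83202 (tt N48937 (iv1 D184324)) (tt N83502 F287657) (tt N83500 F372521) (tt N85339 (iv3 F372294)) (tt N89885 (iv4 F387867)) (tt N82834 F287658) (tt N49131 F287659) (tt N83501 (iv7 F372520)))
theorem Q83204 : ∀ i, i < 83204 → P i := stepQ 83203 Q83203 (allL N83203 (tt N81072 (iv1 F358772)) (tt N48938 (iv0 D184328)) (tt N81075 F358770) (tt N89523 (iv3 F386718)) (tt N81057 (iv4 F358769)) (tt N110173 (iv5 F470280)) (tt N110300 (iv6 F470923)) (tt N81056 F358771))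
theorem Q83205 : ∀ i, i < 83205 → P i := stepQ 83204 Q83204 (allL N83204 (tt N81056 (iv1 F358774)) (tt N81075 F358789) (tt N81072 F358785) (tt N113296 (iv3 F484895)) (tt N103146 (iv4 F440288)) (tt N113004 (iv5 F483520)) (tt N91716 (iv6 F394153)) (tt N48938 (iv7 D184330)))
theorem Q83206 : ∀ i, i < 83206 → P i := stepQ 83205 Q83205 (allL N83205 (tt N91720 (iv1 F394168)) (tt N48940 (iv0 D184337)) (tt N91718 F424282) (tt N94939 (iv3 F406424)) (tt N111608 (iv4 F477142)) (tt N94938 F406421) (tt N106085 (iv6 F453046)) (tt N91719 (iv7 F424281)))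
theorem Q83207 : ∀ i, i < 83207 → P i := stepQ 83206 Q83206 (allL N83206 (tt N48940 (iv1 D184338)) (tt N91720 F394167) (tt N91719 (iv2 F424283)) (tt N113282 F484846) (tt N109240 (iv4 F465942)) (tt N106793 (iv5 F455700)) (tt N83317 (iv6 F392540)) (tt N91718 F424284))
theorem Q83208 : ∀ i, i < 83208 → P i := stepQ 83207 Q83207 (allL N83207 (tt N54553 F361895) (tt N113297 D216550) (tt N109612 (iv2 F467735)) (tt N48943 F286279) (tt N53888 (iv4 F361894)) (tt N82891 F286280) (tt N48941 (iv6 D184343)) (tt N113298 D216551))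
theorem Q83209 : ∀ i, i < 83209 → P i := stepQ 83208 Q83208 (allL N83208 (tt N91722 (iv1 F394178)) (tt N48943 (iv0 D184347)) (tt N91721 F394170) (tt N89563 (iv3 F386777)) (tt N66988 F364280) (tt N92822 (iv5 F398383)) (tt N112165 (iv6 F479846)) (tt N66987 (iv7 F364281)))
theorem Q83210 : ∀ i, i < 83210 → P i := stepQ 83209 Q83209 (allL N83209 (tt N66987 (iv1 F339296)) (tt N91721 F394172) (tt N91722 (iv2 F394173)) (tt N113298 (iv3 F484906)) (tt N103091 (iv4 F440025)) (tt N82898 F286283) (tt N91720 (iv6 F394165)) (tt N48943 (iv7 D184349)))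
theorem Q83211 : ∀ i, i < 83211 → P i := stepQ 83210 Q83210 (allL N83210 (tt N95927 F410303) (tt N71605 (iv0 F358794)) (tt N86354 (iv2 F375911)) (tt N66280 F331750) (tt N48948 F286290) (tt N66484 (iv5 F331751)) (tt N48947 (iv6 D184361)) (tt N106430 (iv7 F454398)))
theorem Q83212 : ∀ i, i < 83212 → P i := stepQ 83211 Q83211 (allL N83211 (tt N89578 (iv1 F386805)) (tt N89577 F386804) (tt N89026 (iv2 F384868)) (tt N78829 (iv3 F353001)) (tt N48949 (iv4 D184364)) (tt N113299 D216552) (tt N113300 D216553) (tt N86356 (iv7 F375921)))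
theorem Q83213 : ∀ i, i < 83213 → P i := stepQ 83212 Q83212 (allL N83212 (tt N113301 D216554) (tt N113302 D216555) (tt N89027 (iv2 F384870)) (tt N48951 F286291) (tt N113300 (iv4 F484914)) (tt N112943 (iv5 F483331)) (tt N48949 (iv6 D184365)) (tt N113303 D216556))
theorem Q83214 : ∀ i, i < 83214 → P i := stepQ 83213 Q83213 (allL N83213 (tt N51223 (iv1 F286297)) (tt N48951 (iv0 D184368)) (tt N51220 F358792) (tt N72433 F358750) (tt N77700 (iv4 F358749)) (tt N107388 (iv5 F458177)) (tt N72431 F358751) (tt N51221 (iv7 F358766)))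
theorem Q83215 : ∀ i, i < 83215 → P i := stepQ 83214 Q83214 (allL N83214 (tt N48951 (iv1 D184369)) (tt N51223 F286294) (tt N51221 (iv2 F358762)) (tt N113304 D216557) (tt N77701 (iv4 F358754)) (tt N82653 (iv5 F286295)) (tt N64688 F358761) (tt N51220 F358793))
theorem Q83216 : ∀ i, i < 83216 → P i := stepQ 83215 Q83215 (allL N83215 (tt N51221 (iv1 F286298)) (tt N51220 F286299) (tt N51223 F286296) (tt N113303 (iv3 F484926)) (tt N81055 (iv4 F358748)) (tt N112944 (iv5 F483333)) (tt N86361 (iv6 F375943)) (tt N48951 (iv7 D184370)))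
theorem Q83217 : ∀ i, i < 83217 → P i := stepQ 83216 Q83216 (allL N83216 (tt N54911 F363044) (tt N54913 F363045) (tt N85637 (iv2 F373303)) (tt N48953 F286308) (tt N98875 (iv4 F422665)) (tt N48952 (iv5 D184379)) (tt N98874 F422662) (tt N55002 F363046))
theorem Q83218 : ∀ i, i < 83218 → P i := stepQ 83217 Q83217 (allL N83217 (tt N54983 (iv1 F352015)) (tt N55987 F352019) (tt N51227 F286311) (tt N98874 (iv3 F422657)) (tt N60092 (iv4 F347899)) (tt N54949 F352011) (tt N48953 (iv6 D184381)) (tt N71043 F353517))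
theorem Q83219 : ∀ i, i < 83219 → P i := stepQ 83218 Q83218 (allL N83218 (tt N48955 (iv1 D184384)) (tt N85668 F373449) (tt N50625 F357436) (tt N52110 F357437) (tt N53098 F357433) (tt N53893 (iv5 F357432)) (tt N51141 (iv6 F357435)) (tt N53925 F357431))
theorem Q83220 : ∀ i, i < 83220 → P i := stepQ 83219 Q83219 (allL N83219 (tt N53925 (iv1 F367118)) (tt N50625 F367117) (tt N48955 (iv2 D184385)) (tt N88061 (iv3 F381632)) (tt N51103 F286316) (tt N89921 (iv5 F387995)) (tt N51832 (iv6 F367116)) (tt N85668 (iv7 F373450)))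
theorem Q83221 : ∀ i, i < 83221 → P i := stepQ 83220 Q83220 (allL N83220 (tt N67014 (iv1 F364594)) (tt N67019 F364593) (tt N55064 (iv2 F364596)) (tt N91651 (iv3 F393898)) (tt N91355 (iv4 F392851)) (tt N51835 F364592) (tt N48956 (iv6 D184388)) (tt N103147 (iv7 F440294)))
theorem Q83222 : ∀ i, i < 83222 → P i := stepQ 83221 Q83221 (allL N83221 (tt N48959 (iv1 F286329)) (tt N48958 (iv0 D184397)) (tt N48962 (iv2 F286327)) (tt N74198 (iv3 F345190)) (tt N89694 (iv4 F387240)) (tt N74197 F340530) (tt N84185 F368456) (tt N48960 F286328))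
theorem Q83223 : ∀ i, i < 83223 → P i := stepQ 83222 Q83222 (allL N83222 (tt N91430 (iv1 F393096)) (tt N87931 F381203) (tt N51880 F340551) (tt N48958 (iv3 D184399)) (tt N83909 (iv4 F367458)) (tt N59820 (iv5 F340550)) (tt N51878 F340539) (tt N59819 F340552))
theorem Q83224 : ∀ i, i < 83224 → P i := stepQ 83223 Q83223 (allL N83223 (tt N84194 (iv1 F372446)) (tt N80682 F363551) (tt N52163 (iv2 F363550)) (tt N84077 (iv3 F368027)) (tt N48958 (iv4 D184400)) (tt N85389 (iv5 F372468)) (tt N80676 F340540) (tt N88800 (iv7 F384191)))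
theorem Q83225 : ∀ i, i < 83225 → P i := stepQ 83224 Q83224 (allL N83224 (tt N55083 F340541) (tt N54930 (iv0 F340542)) (tt N55086 (iv2 F340543)) (tt N59820 F340548) (tt N91010 (iv4 F391553)) (tt N48958 (iv5 D184401)) (tt N95396 (iv6 F408110)) (tt N55085 F340544))
theorem Q83226 : ∀ i, i < 83226 → P i := stepQ 83225 Q83225 (allL N83225 (tt N48960 F340533) (tt N48962 F340534) (tt N48959 F286331) (tt N59819 F340536) (tt N88800 (iv4 F384188)) (tt N55085 (iv5 F340546)) (tt N52142 F340535) (tt N48958 (iv7 D184403)))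
theorem Q83227 : ∀ i, i < 83227 → P i := stepQ 83226 Q83226 (allL N83226 (tt N68101 F355459) (tt N104871 F447735) (tt N84655 (iv2 F370063)) (tt N90789 (iv3 F390874)) (tt N89204 (iv4 F385576)) (tt N83521 F358417) (tt N48964 (iv6 D184426)) (tt N90516 (iv7 F389920)))
theorem Q83228 : ∀ i, i < 83228 → P i := stepQ 83227 Q83227 (allL N83227 (tt N81913 (iv1 F382968)) (tt N88395 F382969) (tt N89063 (iv2 F385023)) (tt N48969 F286353) (tt N110232 (iv4 F470552)) (tt N48967 (iv5 D184447)) (tt N110232 (iv6 F470551)) (tt N113165 (iv7 F484289)))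
theorem Q83229 : ∀ i, i < 83229 → P i := stepQ 83228 Q83228 (allL N83228 (tt N50612 F340059) (tt N85641 F373334) (tt N48984 F286360) (tt N89131 (iv3 F385287)) (tt N113305 D216558) (tt N48970 (iv5 D184466)) (tt N96572 (iv6 F413043)) (tt N48988 F286361))
theorem Q83230 : ∀ i, i < 83230 → P i := stepQ 83229 Q83229 (allL N83229 (tt N48991 (iv1 F286370)) (tt N48990 F286371) (tt N48993 F286366) (tt N69720 (iv3 F337437)) (tt N53673 (iv4 F349151)) (tt N48972 F286368) (tt N69719 (iv6 F354422)) (tt N48971 (iv7 D184470)))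
theorem Q83231 : ∀ i, i < 83231 → P i := stepQ 83230 Q83230 (allL N83230 (tt N82652 F389109) (tt N82303 (iv0 F286393)) (tt N80604 F286391) (tt N110088 (iv3 F469934)) (tt N113306 D216559) (tt N48975 (iv5 D184476)) (tt N82644 F286392) (tt N111353 (iv7 F475969)))
theorem Q83232 : ∀ i, i < 83232 → P i := stepQ 83231 Q83231 (allL N83231 (tt N78622 F286406) (tt N48978 (iv0 D184480)) (tt N63237 (iv2 F332312)) (tt N80957 (iv3 F286404)) (tt N53206 F286403) (tt N57352 (iv5 F332315)) (tt N57354 (iv6 F340655)) (tt N53747 (iv7 F286405)))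
theorem Q83233 : ∀ i, i < 83233 → P i := stepQ 83232 Q83232 (allL N83232 (tt N53747 (iv1 F286415)) (tt N63237 (iv0 F332310)) (tt N78622 F286413) (tt N63846 F363114) (tt N48982 F286414) (tt N109797 (iv5 F468659)) (tt N90173 (iv6 F388780)) (tt N48978 (iv7 D184483)))
theorem Q83234 : ∀ i, i < 83234 → P i := stepQ 83233 Q83233 (allL N83233 (tt N64489 (iv1 F304630)) (tt N64471 F351829) (tt N64486 (iv2 F344169)) (tt N76082 F286418) (tt N98445 (iv4 F420938)) (tt N48979 (iv5 D184484)) (tt N105222 (iv6 F449269)) (tt N64487 (iv7 F344174)))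
theorem Q83235 : ∀ i, i < 83235 → P i := stepQ 83234 Q83234 (allL N83234 (tt N64339 F364881) (tt N110288 (iv0 F470861)) (tt N80607 F286421) (tt N76083 F286422) (tt N69428 (iv4 F332328)) (tt N80548 F286423) (tt N48979 (iv6 D184485)) (tt N105742 (iv7 F451488)))
theorem Q83236 : ∀ i, i < 83236 → P i := stepQ 83235 Q83235 (allL N83235 (tt N69565 (iv1 F366761)) (tt N89130 F385284) (tt N76084 F286424) (tt N48980 (iv3 D184486)) (tt N88995 (iv4 F384719)) (tt N113307 D216560) (tt N88993 F384711) (tt N80605 F286425))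
theorem Q83237 : ∀ i, i < 83237 → P i := stepQ 83236 Q83236 (allL N83236 (tt N64471 F351828) (tt N64489 (iv0 F304629)) (tt N64487 (iv2 F344172)) (tt N113307 (iv3 F484945)) (tt N98444 (iv4 F431338)) (tt N48980 (iv5 D184488)) (tt N106192 (iv6 F453548)) (tt N64486 (iv7 F344171)))
theorem Q83238 : ∀ i, i < 83238 → P i := stepQ 83237 Q83237 (allL N83237 (tt N89874 (iv1 F387822)) (tt N109071 (iv0 F465219)) (tt N80610 F286433) (tt N98216 F420027) (tt N48981 (iv4 D184492)) (tt N93192 (iv5 F399884)) (tt N48992 F286434) (tt N104176 (iv7 F444543)))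
theorem Q83239 : ∀ i, i < 83239 → P i := stepQ 83238 Q83238 (allL N83238 (tt N80609 (iv1 F286439)) (tt N80608 F286440) (tt N78729 F286435) (tt N49000 F286436) (tt N104176 (iv4 F444541)) (tt N48982 F286437) (tt N95935 (iv6 F410335)) (tt N48981 (iv7 D184493)))
theorem Q83240 : ∀ i, i < 83240 → P i := stepQ 83239 Q83239 (allL N83239 (tt N83241 (iv1 F340066)) (tt N83247 F373342) (tt N84780 (iv2 F370606)) (tt N90182 (iv3 F388812)) (tt N53784 (iv4 F340058)) (tt N48983 (iv5 D184494)) (tt N106372 (iv6 F454193)) (tt N90078 (iv7 F388506)))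
theorem Q83241 : ∀ i, i < 83241 → P i := stepQ 83240 Q83240 (allL N83240 (tt N84448 F370483) (tt N84750 (iv0 F370471)) (tt N83705 (iv2 F362652)) (tt N88428 (iv3 F383006)) (tt N48985 F286441) (tt N100141 (iv5 F427656)) (tt N48983 (iv6 D184495)) (tt N85495 (iv7 F372834)))
theorem Q83242 : ∀ i, i < 83242 → P i := stepQ 83241 Q83241 (allL N83241 (tt N83246 F374252) (tt N83239 F340066) (tt N113305 (iv2 F484935)) (tt N85862 (iv3 F374249)) (tt N48984 (iv4 D184498)) (tt N111320 (iv5 F475806)) (tt N98369 (iv6 F420671)) (tt N86093 (iv7 F375099)))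
theorem Q83243 : ∀ i, i < 83243 → P i := stepQ 83242 Q83242 (allL N83242 (tt N109857 (iv1 F468949)) (tt N108145 (iv0 F461305)) (tt N96572 (iv2 F413041)) (tt N90034 (iv3 F388360)) (tt N98369 (iv4 F420670)) (tt N96568 F413031) (tt N48984 (iv6 D184499)) (tt N113308 D216561))
theorem Q83244 : ∀ i, i < 83244 → P i := stepQ 83243 Q83243 (allL N83243 (tt N84102 (iv1 F368118)) (tt N51161 (iv0 F294595)) (tt N84110 F368145) (tt N51158 (iv3 F295439)) (tt N96569 (iv4 F413035)) (tt N48985 (iv5 D184502)) (tt N96568 F413032) (tt N84109 F368139))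
theorem Q83245 : ∀ i, i < 83245 → P i := stepQ 83244 Q83244 (allL N83244 (tt N90069 (iv1 F388479)) (tt N89838 F387695) (tt N89132 (iv2 F385291)) (tt N48988 F286445) (tt N113309 D216562) (tt N48986 (iv5 D184504)) (tt N109404 (iv6 F466792)) (tt N89131 (iv7 F385289)))
theorem Q83246 : ∀ i, i < 83246 → P i := stepQ 83245 Q83245 (allL N83245 (tt N79001 (iv1 F349293)) (tt N89151 (iv0 F385361)) (tt N89133 (iv2 F385294)) (tt N48989 F286446) (tt N54756 F349290) (tt N77552 (iv5 F349292)) (tt N48986 (iv6 D184505)) (tt N75626 (iv7 F349291)))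
theorem Q83247 : ∀ i, i < 83247 → P i := stepQ 83246 Q83246 (allL N83246 (tt N83247 F373340) (tt N83241 (iv0 F374252)) (tt N90078 (iv2 F388505)) (tt N50809 F286447) (tt N53785 F364372) (tt N48987 (iv5 D184506)) (tt N61452 (iv6 F371370)) (tt N84780 (iv7 F370608)))
theorem Q83248 : ∀ i, i < 83248 → P i := stepQ 83247 Q83247 (allL N83247 (tt N83239 (iv1 F373342)) (tt N83246 (iv0 F373340)) (tt N86093 (iv2 F375098)) (tt N50321 F363652) (tt N48988 (iv4 D184508)) (tt N86821 (iv5 F377300)) (tt N98450 (iv6 F431373)) (tt N113305 (iv7 F484938)))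
theorem Q83249 : ∀ i, i < 83249 → P i := stepQ 83248 Q83248 (allL N83248 (tt N85661 F431370) (tt N64478 (iv0 F357865)) (tt N90080 (iv2 F388515)) (tt N109404 (iv3 F466791)) (tt N98450 F431372) (tt N105216 (iv5 F449240)) (tt N48988 (iv6 D184509)) (tt N113310 D216563))
theorem Q83250 : ∀ i, i < 83250 → P i := stepQ 83249 Q83249 (allL N83249 (tt N85994 (iv1 F387113)) (tt N89136 F387115) (tt N89135 (iv2 F385310)) (tt N48991 (iv3 D184520)) (tt N89656 (iv4 F387120)) (tt N91679 (iv5 F394009)) (tt N113311 D216564) (tt N89134 (iv7 F385303)))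
theorem Q83251 : ∀ i, i < 83251 → P i := stepQ 83250 Q83250 (allL N83250 (tt N89330 (iv1 F386141)) (tt N84788 (iv0 F373595)) (tt N89788 (iv2 F387576)) (tt N84809 (iv3 F370694)) (tt N48991 (iv4 D184521)) (tt N84779 F370605) (tt N113099 (iv6 F483965)) (tt N85010 (iv7 F371368)))
theorem Q83252 : ∀ i, i < 83252 → P i := stepQ 83251 Q83251 (allL N83251 (tt N91684 F434955) (tt N105225 F449289) (tt N90093 (iv2 F388543)) (tt N113311 (iv3 F484960)) (tt N113099 (iv4 F483964)) (tt N96596 (iv5 F449272)) (tt N48991 (iv6 D184523)) (tt N105223 (iv7 F449277)))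
theorem Q83253 : ∀ i, i < 83253 → P i := stepQ 83252 Q83252 (allL N83252 (tt N95936 (iv1 F410338)) (tt N73349 F354434) (tt N69719 F354430) (tt N49007 F286462) (tt N70740 (iv4 F354432)) (tt N72461 (iv5 F354433)) (tt N48993 (iv6 D184529)) (tt N95935 (iv7 F410336)))
theorem Q83254 : ∀ i, i < 83254 → P i := stepQ 83253 Q83253 (allL N83253 (tt N68357 (iv1 F359396)) (tt N72373 (iv0 F359368)) (tt N89102 (iv2 F385154)) (tt N76134 (iv3 F303965)) (tt N48995 (iv4 D184547)) (tt N72392 F342623) (tt N107572 (iv6 F458795)) (tt N76519 (iv7 F342624)))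
theorem Q83255 : ∀ i, i < 83255 → P i := stepQ 83254 Q83254 (allL N83254 (tt N90119 (iv1 F388597)) (tt N77309 F352971) (tt N89103 (iv2 F385161)) (tt N48996 F286486) (tt N72359 (iv4 F352969)) (tt N48995 (iv5 D184548)) (tt N113312 D216565) (tt N64737 (iv7 F351899)))
theorem Q83256 : ∀ i, i < 83256 → P i := stepQ 83255 Q83255 (allL N83255 (tt N72800 (iv1 F374702)) (tt N104146 F444409) (tt N89104 (iv2 F385167)) (tt N48997 F286487) (tt N107572 (iv4 F458793)) (tt N83298 (iv5 F287225)) (tt N48995 (iv6 D184549)) (tt N78346 F349696))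
theorem Q83257 : ∀ i, i < 83257 → P i := stepQ 83256 Q83256 (allL N83256 (tt N101763 (iv1 F434240)) (tt N101740 (iv0 F434122)) (tt N64735 F366882) (tt N112830 (iv3 F482835)) (tt N48996 (iv4 D184551)) (tt N96714 (iv5 F413582)) (tt N108144 F461298) (tt N64738 (iv7 F366881)))
theorem Q83258 : ∀ i, i < 83258 → P i := stepQ 83257 Q83257 (allL N83257 (tt N70283 F332731) (tt N82814 (iv0 F367094)) (tt N64736 (iv2 F366883)) (tt N113312 (iv3 F484965)) (tt N108144 (iv4 F461297)) (tt N83299 (iv5 F287226)) (tt N48996 (iv6 D184552)) (tt N113313 D216566))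
theorem Q83259 : ∀ i, i < 83259 → P i := stepQ 83258 Q83258 (allL N83258 (tt N101740 (iv1 F434123)) (tt N101763 (iv0 F434239)) (tt N64738 F366885) (tt N96398 (iv3 F412335)) (tt N48998 (iv4 D184556)) (tt N96397 (iv5 F412331)) (tt N113314 D216567) (tt N64735 (iv7 F366884)))
theorem Q83260 : ∀ i, i < 83260 → P i := stepQ 83259 Q83259 (allL N83259 (tt N85646 (iv1 F373357)) (tt N50617 (iv0 F286535)) (tt N64739 (iv2 F366839)) (tt N85395 F372481) (tt N113314 (iv4 F484978)) (tt N78345 F366838) (tt N48998 (iv6 D184557)) (tt N85645 (iv7 F373348)))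
theorem Q83261 : ∀ i, i < 83261 → P i := stepQ 83260 Q83260 (allL N83260 (tt N93728 F401697) (tt N98221 F420044) (tt N108659 (iv2 F463400)) (tt N48999 (iv3 D184567)) (tt N98216 (iv4 F420022)) (tt N113315 D216568) (tt N49005 F286555) (tt N113316 D216569))
theorem Q83262 : ∀ i, i < 83262 → P i := stepQ 83261 Q83261 (allL N83261 (tt N59439 F350382) (tt N107162 (iv0 F457269)) (tt N89320 (iv2 F386080)) (tt N113315 (iv3 F484984)) (tt N101769 (iv4 F434261)) (tt N48999 (iv5 D184568)) (tt N91598 (iv6 F393746)) (tt N112034 (iv7 F479181)))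
theorem Q83263 : ∀ i, i < 83263 → P i := stepQ 83262 Q83262 (allL N83262 (tt N83107 (iv1 F286557)) (tt N83105 F286558) (tt N89321 (iv2 F386083)) (tt N113316 (iv3 F484988)) (tt N49000 F286556) (tt N112034 (iv5 F479182)) (tt N95680 F409117) (tt N48999 (iv7 D184569)))
theorem Q83264 : ∀ i, i < 83264 → P i := stepQ 83263 Q83263 (allL N83263 (tt N85640 (iv1 F373320)) (tt N58331 F373319) (tt N66347 (iv2 F355068)) (tt N95935 (iv3 F410334)) (tt N95680 (iv4 F409115)) (tt N66346 F355067) (tt N49000 (iv6 D184570)) (tt N49007 F286559))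
theorem Q83265 : ∀ i, i < 83265 → P i := stepQ 83264 Q83264 (allL N83264 (tt N90141 (iv1 F388667)) (tt N72383 (iv0 F382807)) (tt N83265 F351177) (tt N53277 F351179) (tt N49001 (iv4 D184571)) (tt N113317 D216570) (tt N53276 (iv6 F351178)) (tt N89142 (iv7 F385333)))
theorem Q83266 : ∀ i, i < 83266 → P i := stepQ 83265 Q83265 (allL N83265 (tt N107272 (iv1 F457737)) (tt N89139 (iv0 F385320)) (tt N83264 (iv2 F351177)) (tt N49002 F286560) (tt N53276 F351160) (tt N90884 (iv5 F391152)) (tt N49001 (iv6 D184572)) (tt N54058 F351176))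
theorem Q83267 : ∀ i, i < 83267 → P i := stepQ 83266 Q83266 (allL N83266 (tt N66812 F358528) (tt N61222 F358550) (tt N66811 (iv2 F358489)) (tt N57856 (iv3 F370509)) (tt N55359 F286567) (tt N110483 (iv5 F471794)) (tt N49003 (iv6 D184581)) (tt N66810 F370510))
theorem Q83268 : ∀ i, i < 83268 → P i := stepQ 83267 Q83267 (allL N83267 (tt N105634 F459448) (tt N85104 (iv0 F371641)) (tt N112774 (iv2 F482595)) (tt N49004 (iv3 D184582)) (tt N113318 D216571) (tt N91604 (iv5 F393762)) (tt N111025 (iv6 F474321)) (tt N83130 F286568))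
theorem Q83269 : ∀ i, i < 83269 → P i := stepQ 83268 Q83268 (allL N83268 (tt N91685 F412602) (tt N91689 (iv0 F394049)) (tt N83135 F286572) (tt N111025 (iv3 F474316)) (tt N55361 F286573) (tt N111024 F474313) (tt N49004 (iv6 D184584)) (tt N113319 D216572))
theorem Q83270 : ∀ i, i < 83270 → P i := stepQ 83269 Q83269 (allL N83269 (tt N94552 F404941) (tt N113320 D216573) (tt N85639 (iv2 F373313)) (tt N93446 (iv3 F400762)) (tt N49007 F286584) (tt N60580 F361217) (tt N49006 (iv6 D184593)) (tt N95680 (iv7 F409116)))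
theorem Q83271 : ∀ i, i < 83271 → P i := stepQ 83270 Q83270 (allL N83270 (tt N66347 (iv1 F345622)) (tt N49007 (iv0 D184594)) (tt N58331 (iv2 F345619)) (tt N107263 (iv3 F457694)) (tt N58330 F345620) (tt N66410 F345621) (tt N107262 F457693) (tt N85640 (iv7 F373321)))
theorem Q83272 : ∀ i, i < 83272 → P i := stepQ 83271 Q83271 (allL N83271 (tt N49007 (iv1 D184595)) (tt N66347 (iv0 F345616)) (tt N85640 F373329) (tt N72871 (iv3 F345617)) (tt N57945 F345614) (tt N66409 (iv5 F345612)) (tt N101218 (iv6 F432252)) (tt N58331 F345613))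
theorem Q83273 : ∀ i, i < 83273 → P i := stepQ 83272 Q83272 (allL N83272 (tt N88392 (iv1 F422720)) (tt N110769 F473107) (tt N89084 (iv2 F385096)) (tt N49009 F286585) (tt N98868 (iv4 F422632)) (tt N49008 (iv5 D184598)) (tt N82541 F286586) (tt N90872 (iv7 F391117)))
theorem Q83274 : ∀ i, i < 83274 → P i := stepQ 83273 Q83273 (allL N83273 (tt N81887 F367336) (tt N81888 (iv0 F367270)) (tt N89312 (iv2 F386044)) (tt N113321 D216574) (tt N49009 (iv4 D184612)) (tt N113322 D216575) (tt N81917 F286590) (tt N90873 (iv7 F391120)))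
theorem Q83275 : ∀ i, i < 83275 → P i := stepQ 83274 Q83274 (allL N83274 (tt N84384 (iv1 F369105)) (tt N89373 (iv0 F386273)) (tt N89310 (iv2 F386037)) (tt N99036 (iv3 F423102)) (tt N49010 (iv4 D184626)) (tt N90937 (iv5 F391305)) (tt N83717 (iv6 F288747)) (tt N90311 (iv7 F389318)))
theorem Q83276 : ∀ i, i < 83276 → P i := stepQ 83275 Q83275 (allL N83275 (tt N81061 (iv1 F331995)) (tt N81052 F332010) (tt N75951 (iv2 F340231)) (tt N79401 F343438) (tt N49016 (iv4 D184664)) (tt N79400 (iv5 F343436)) (tt N66946 F343434) (tt N81060 (iv7 F332014)))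
theorem Q83277 : ∀ i, i < 83277 → P i := stepQ 83276 Q83276 (allL N83276 (tt N86372 F375989) (tt N66413 (iv0 F345611)) (tt N75950 F362977) (tt N89073 (iv3 F385045)) (tt N66946 (iv4 F343435)) (tt N83291 (iv5 F287202)) (tt N49016 (iv6 D184665)) (tt N109327 (iv7 F466403)))
theorem Q83278 : ∀ i, i < 83278 → P i := stepQ 83277 Q83277 (allL N83277 (tt N77315 (iv1 F365563)) (tt N77317 F363161) (tt N89074 (iv2 F385050)) (tt N49019 F286662) (tt N91058 (iv4 F391796)) (tt N49018 (iv5 D184670)) (tt N109331 (iv6 F466416)) (tt N76495 F365562))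
theorem Q83279 : ∀ i, i < 83279 → P i := stepQ 83278 Q83278 (allL N83278 (tt N76488 (iv1 F364029)) (tt N76487 (iv0 F348245)) (tt N76490 F338060) (tt N49020 F286663) (tt N68293 F348246) (tt N77158 (iv5 F308326)) (tt N49018 (iv6 D184671)) (tt N74935 F338137))
theorem Q83280 : ∀ i, i < 83280 → P i := stepQ 83279 Q83279 (allL N83279 (tt N90199 (iv1 F388866)) (tt N49022 (iv0 D184685)) (tt N90197 (iv2 F388855)) (tt N99256 (iv3 F423854)) (tt N79350 F388856) (tt N113323 D216576) (tt N97374 (iv6 F416582)) (tt N90198 (iv7 F388858)))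
theorem Q83281 : ∀ i, i < 83281 → P i := stepQ 83280 Q83280 (allL N83280 (tt N90198 (iv1 F388857)) (tt N90197 (iv0 F388853)) (tt N90199 (iv2 F388862)) (tt N71652 F346648) (tt N102264 (iv4 F436448)) (tt N90263 F389147) (tt N86254 (iv6 F375598)) (tt N49022 (iv7 D184687)))
theorem Q83282 : ∀ i, i < 83282 → P i := stepQ 83281 Q83281 (allL N83281 (tt N89993 (iv1 F388232)) (tt N89992 F388230) (tt N54760 F356750) (tt N100267 (iv3 F428174)) (tt N49023 (iv4 D184688)) (tt N113324 D216577) (tt N53434 (iv6 F356749)) (tt N89122 (iv7 F385250)))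
theorem Q83283 : ∀ i, i < 83283 → P i := stepQ 83282 Q83282 (allL N83282 (tt N89186 F385491) (tt N113325 D216578) (tt N54759 (iv2 F356747)) (tt N49024 F286689) (tt N53434 F356746) (tt N82928 F286690) (tt N49023 (iv6 D184689)) (tt N53683 (iv7 F356745)))
theorem Q83284 : ∀ i, i < 83284 → P i := stepQ 83283 Q83283 (allL N83283 (tt N86254 (iv1 F375600)) (tt N49024 (iv0 D184690)) (tt N86253 F375591) (tt N69781 (iv3 F362973)) (tt N66945 F362972) (tt N113326 D216579) (tt N72517 F362976) (tt N66944 (iv7 F362974)))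
theorem Q83285 : ∀ i, i < 83285 → P i := stepQ 83284 Q83284 (allL N83284 (tt N49024 (iv1 D184691)) (tt N86254 F375599) (tt N66944 F345608) (tt N110796 (iv3 F473214)) (tt N66907 (iv4 F345607)) (tt N113327 D216580) (tt N69779 F354240) (tt N86253 (iv7 F375592)))
theorem Q83286 : ∀ i, i < 83286 → P i := stepQ 83285 Q83285 (allL N83285 (tt N66944 (iv1 F356742)) (tt N86253 F375593) (tt N86254 (iv2 F375594)) (tt N53683 F356740) (tt N66986 (iv4 F356654)) (tt N82934 F286691) (tt N90199 (iv6 F388864)) (tt N49024 (iv7 D184692)))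
theorem Q83287 : ∀ i, i < 83287 → P i := stepQ 83286 Q83286 (allL N83286 (tt N105622 F451004) (tt N105627 F451022) (tt N100836 (iv2 F430703)) (tt N113328 D216581) (tt N49027 (iv4 D184712)) (tt N105702 (iv5 F451324)) (tt N84111 (iv6 F368146)) (tt N112738 (iv7 F482450)))
theorem Q83288 : ∀ i, i < 83288 → P i := stepQ 83287 Q83287 (allL N83287 (tt N49028 (iv1 D184717)) (tt N49029 F287113) (tt N63946 (iv2 F365664)) (tt N105705 F451339) (tt N113329 D216582) (tt N63937 F365663) (tt N86734 F377021) (tt N63936 (iv7 F365665)))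
theorem Q83289 : ∀ i, i < 83289 → P i := stepQ 83288 Q83288 (allL N83288 (tt N103053 (iv1 F439863)) (tt N107922 F460304) (tt N88454 (iv2 F383112)) (tt N111191 (iv3 F475162)) (tt N49029 (iv4 D184721)) (tt N52034 (iv5 F356682)) (tt N56298 F356685) (tt N88452 (iv7 F383101)))
theorem Q83290 : ∀ i, i < 83290 → P i := stepQ 83289 Q83289 (allL N83289 (tt N85075 (iv1 F371543)) (tt N50574 (iv0 F295285)) (tt N86739 F377043) (tt N50559 F367122) (tt N56298 (iv4 F356687)) (tt N113330 D216583) (tt N49029 (iv6 D184722)) (tt N56297 F356688))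
theorem Q83291 : ∀ i, i < 83291 → P i := stepQ 83290 Q83290 (allL N83290 (tt N76868 (iv1 F304640)) (tt N63378 (iv0 F304637)) (tt N76871 (iv2 F308282)) (tt N84073 (iv3 F368015)) (tt N110160 (iv4 F470222)) (tt N49030 (iv5 D184724)) (tt N113330 (iv6 F485063)) (tt N76870 (iv7 F308305)))
theorem Q83292 : ∀ i, i < 83292 → P i := stepQ 83291 Q83291 (allL N83291 (tt N103107 (iv1 F440107)) (tt N103102 (iv0 F440083)) (tt N88458 (iv2 F383133)) (tt N84075 (iv3 F368023)) (tt N80146 F362978) (tt N83276 F287202) (tt N49032 (iv6 D184729)) (tt N109551 (iv7 F467476)))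
theorem Q83293 : ∀ i, i < 83293 → P i := stepQ 83292 Q83292 (allL N83292 (tt N85163 (iv1 F371771)) (tt N49033 (iv0 D184730)) (tt N82876 (iv2 F364050)) (tt N104026 (iv3 F443851)) (tt N82632 F364049) (tt N86422 (iv5 F376170)) (tt N50807 F362826) (tt N82878 (iv7 F364051)))
theorem Q83294 : ∀ i, i < 83294 → P i := stepQ 83293 Q83293 (allL N83293 (tt N49033 (iv1 D184731)) (tt N85163 (iv0 F371770)) (tt N82878 F364064) (tt N113331 D216584) (tt N82633 F287203) (tt N87120 (iv5 F378416)) (tt N73979 F374236) (tt N82876 F364063))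
theorem Q83295 : ∀ i, i < 83295 → P i := stepQ 83294 Q83294 (allL N83294 (tt N50818 F376964) (tt N50998 F376965) (tt N50997 (iv2 F376967)) (tt N49033 (iv3 D184732)) (tt N113328 (iv4 F485049)) (tt N86793 (iv5 F377217)) (tt N84112 (iv6 F368148)) (tt N50996 F376966))
theorem Q83296 : ∀ i, i < 83296 → P i := stepQ 83295 Q83295 (allL N83295 (tt N73966 (iv1 F364052)) (tt N87128 (iv0 F378461)) (tt N87502 (iv2 F379582)) (tt N86793 F377219) (tt N87742 (iv4 F380313)) (tt N49033 (iv5 D184733)) (tt N86824 (iv6 F377311)) (tt N87503 (iv7 F379585)))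
theorem Q83297 : ∀ i, i < 83297 → P i := stepQ 83296 Q83296 (allL N83296 (tt N82878 (iv1 F287205)) (tt N82876 (iv0 F287206)) (tt N85163 (iv2 F371768)) (tt N50996 F376992) (tt N49034 F287204) (tt N87503 (iv5 F379586)) (tt N105537 (iv6 F450634)) (tt N49033 (iv7 D184734)))
theorem Q83298 : ∀ i, i < 83298 → P i := stepQ 83297 Q83297 (allL N83297 (tt N102346 (iv1 F436833)) (tt N102349 (iv0 F436850)) (tt N73824 (iv2 F345438)) (tt N70908 F345437) (tt N97712 (iv4 F418025)) (tt N70955 (iv5 F345439)) (tt N49035 (iv6 D184747)) (tt N71637 (iv7 F345440)))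
theorem Q83299 : ∀ i, i < 83299 → P i := stepQ 83298 Q83298 (allL N83298 (tt N81367 (iv1 F349704)) (tt N89160 F385396) (tt N84092 (iv2 F368072)) (tt N49036 (iv3 D184748)) (tt N88802 (iv4 F384200)) (tt N83255 F287225) (tt N88801 F384197) (tt N73826 (iv7 F349695)))
theorem Q83300 : ∀ i, i < 83300 → P i := stepQ 83299 Q83299 (allL N83299 (tt N58044 F336399) (tt N92027 (iv0 F395426)) (tt N90241 (iv2 F389060)) (tt N88801 (iv3 F384195)) (tt N53027 (iv4 F336400)) (tt N83257 F287226) (tt N49036 (iv6 D184749)) (tt N113332 D216585))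
theorem Q83301 : ∀ i, i < 83301 → P i := stepQ 83300 Q83300 (allL N83300 (tt N49037 (iv1 D184751)) (tt N90242 F389069) (tt N82977 F362139) (tt N104394 (iv3 F445572)) (tt N82629 F287227) (tt N113333 D216586) (tt N67417 F417132) (tt N82975 F362138))
theorem Q83302 : ∀ i, i < 83302 → P i := stepQ 83301 Q83301 (allL N83301 (tt N92581 (iv1 F397475)) (tt N92574 F397438) (tt N75646 (iv2 F355579)) (tt N99924 (iv3 F426839)) (tt N63049 F355578) (tt N49040 (iv5 D184777)) (tt N108796 (iv6 F463987)) (tt N75057 (iv7 F355580)))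
theorem Q83303 : ∀ i, i < 83303 → P i := stepQ 83302 Q83302 (allL N83302 (tt N75438 (iv1 F338005)) (tt N75429 F338006) (tt N76144 (iv2 F338003)) (tt N77559 (iv3 F338004)) (tt N77430 F337997) (tt N49044 (iv5 D184828)) (tt N94121 (iv6 F403304)) (tt N66872 F338002))
theorem Q83304 : ∀ i, i < 83304 → P i := stepQ 83303 Q83303 (allL N83303 (tt N91379 (iv1 F392923)) (tt N101216 (iv0 F432244)) (tt N101237 F432347) (tt N49046 (iv3 D184836)) (tt N76956 F354075) (tt N109269 (iv5 F466093)) (tt N101696 (iv6 F433914)) (tt N76908 (iv7 F354073)))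
theorem Q83305 : ∀ i, i < 83305 → P i := stepQ 83304 Q83304 (allL N83304 (tt N100903 (iv1 F430902)) (tt N90024 F388325) (tt N49047 (iv2 D184951)) (tt N82542 F366820) (tt N110820 (iv4 F473294)) (tt N105727 F451438) (tt N113334 D216587) (tt N101440 (iv7 F432978)))
theorem Q83306 : ∀ i, i < 83306 → P i := stepQ 83305 Q83305 (allL N83305 (tt N110821 F473301) (tt N110650 (iv0 F472591)) (tt N110820 F473295) (tt N96210 (iv3 F411507)) (tt N49047 (iv4 D184952)) (tt N113335 D216588) (tt N113336 D216589) (tt N110356 (iv7 F471209)))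
theorem Q83307 : ∀ i, i < 83307 → P i := stepQ 83306 Q83306 (allL N83306 (tt N76524 (iv1 F366851)) (tt N90177 F388789) (tt N105727 (iv2 F451439)) (tt N49049 F287367) (tt N104261 (iv4 F444998)) (tt N49047 (iv5 D184953)) (tt N110288 (iv6 F470859)) (tt N77081 (iv7 F308302)))
theorem Q83308 : ∀ i, i < 83308 → P i := stepQ 83307 Q83307 (allL N83307 (tt N105212 F449225) (tt N113337 D216590) (tt N113334 (iv2 F485084)) (tt N49050 F287369) (tt N113336 (iv4 F485092)) (tt N110312 (iv5 F470988)) (tt N49047 (iv6 D184954)) (tt N83418 (iv7 F364092)))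
theorem Q83309 : ∀ i, i < 83309 → P i := stepQ 83308 Q83308 (allL N83308 (tt N49050 (iv1 D184962)) (tt N83053 F353718) (tt N83419 F358611) (tt N90620 (iv3 F450617)) (tt N113028 (iv4 F483610)) (tt N70332 F358604) (tt N110344 (iv6 F471140)) (tt N83420 (iv7 F358605)))
theorem Q83310 : ∀ i, i < 83310 → P i := stepQ 83309 Q83309 (allL N83309 (tt N99402 F457996) (tt N113338 D216591) (tt N99953 (iv2 F426933)) (tt N49053 (iv3 D184979)) (tt N113339 D216592) (tt N110901 (iv5 F473694)) (tt N99870 F426623) (tt N110357 (iv7 F471214)))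
theorem Q83311 : ∀ i, i < 83311 → P i := stepQ 83310 Q83310 (allL N83310 (tt N75433 (iv1 F337998)) (tt N75439 (iv0 F353432)) (tt N91442 (iv2 F393134)) (tt N110901 (iv3 F473693)) (tt N77443 F337996) (tt N49053 (iv5 D184980)) (tt N91422 (iv6 F393067)) (tt N91283 F392541))
theorem Q83312 : ∀ i, i < 83312 → P i := stepQ 83311 Q83311 (allL N83311 (tt N52738 (iv1 F369452)) (tt N113028 F483612) (tt N110292 (iv2 F470883)) (tt N99870 (iv3 F426621)) (tt N77431 (iv4 F366797)) (tt N84477 (iv5 F369456)) (tt N49053 (iv6 D184981)) (tt N84476 F369451))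
theorem Q83313 : ∀ i, i < 83313 → P i := stepQ 83312 Q83312 (allL N83312 (tt N113340 D216593) (tt N113341 D216594) (tt N113274 (iv2 F484816)) (tt N49054 (iv3 D184983)) (tt N107554 (iv4 F458737)) (tt N89515 (iv5 F386697)) (tt N87057 (iv6 F378219)) (tt N110358 (iv7 F471217)))
theorem Q83314 : ∀ i, i < 83314 → P i := stepQ 83313 Q83313 (allL N83313 (tt N99411 (iv1 F424449)) (tt N49055 (iv0 D184987)) (tt N72255 (iv2 F363382)) (tt N89352 (iv3 F386224)) (tt N113342 D216595) (tt N72249 F341093) (tt N54629 F366938) (tt N89350 F386217))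
theorem Q83315 : ∀ i, i < 83315 → P i := stepQ 83314 Q83314 (allL N83314 (tt N49055 (iv1 D184988)) (tt N99411 (iv0 F424448)) (tt N89350 (iv2 F386214)) (tt N72267 (iv3 F363384)) (tt N113343 D216596) (tt N63187 (iv5 F363385)) (tt N81886 F363386) (tt N72255 F363383))
theorem Q83316 : ∀ i, i < 83316 → P i := stepQ 83315 Q83315 (allL N83315 (tt N72255 (iv1 F386220)) (tt N89350 F386219) (tt N49055 (iv2 D184989)) (tt N110367 (iv3 F471258)) (tt N90631 (iv4 F390323)) (tt N99412 (iv5 F424455)) (tt N49122 F287390) (tt N99411 (iv7 F424452)))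
theorem Q83317 : ∀ i, i < 83317 → P i := stepQ 83316 Q83316 (allL N83316 (tt N107451 F458385) (tt N49056 (iv0 D184992)) (tt N107454 F458400) (tt N99401 F424414) (tt N75460 F337992) (tt N77199 (iv5 F337995)) (tt N110301 (iv6 F470928)) (tt N107453 F458396))
theorem Q83318 : ∀ i, i < 83318 → P i := stepQ 83317 Q83317 (allL N83317 (tt N49056 (iv1 D184993)) (tt N107451 (iv0 F458383)) (tt N107453 (iv2 F458394)) (tt N113344 D216597) (tt N75333 (iv4 F337994)) (tt N77419 F337993) (tt N83206 F392540) (tt N107454 (iv7 F458398)))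
theorem Q83319 : ∀ i, i < 83319 → P i := stepQ 83318 Q83318 (allL N83318 (tt N107438 F458345) (tt N110294 F470897) (tt N109317 (iv2 F466355)) (tt N78109 (iv3 F341132)) (tt N81235 F341134) (tt N49125 F287393) (tt N49056 (iv6 D184995)) (tt N99405 (iv7 F424423)))
theorem Q83320 : ∀ i, i < 83320 → P i := stepQ 83319 Q83319 (allL N83319 (tt N83377 (iv1 F364076)) (tt N83376 F364074) (tt N49065 F287402) (tt N83353 F364071) (tt N110707 (iv4 F472847)) (tt N113345 D216598) (tt N49059 (iv6 D185017)) (tt N83378 (iv7 F364072)))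
theorem Q83321 : ∀ i, i < 83321 → P i := stepQ 83320 Q83320 (allL N83320 (tt N82644 (iv1 F333368)) (tt N82660 F287406) (tt N49068 F287404) (tt N82694 F287405) (tt N113346 D216599) (tt N49060 (iv5 D185020)) (tt N113345 (iv6 F485120)) (tt N82686 (iv7 F287411)))
theorem Q83322 : ∀ i, i < 83322 → P i := stepQ 83321 Q83321 (allL N83321 (tt N49067 (iv1 F287418)) (tt N49066 F287419) (tt N49069 F287413) (tt N54646 F287414) (tt N50453 F287415) (tt N82686 F287416) (tt N54854 F362651) (tt N49060 (iv7 D185021)))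
theorem Q83323 : ∀ i, i < 83323 → P i := stepQ 83322 Q83322 (allL N83322 (tt N49061 (iv1 D185025)) (tt N50453 F287422) (tt N50455 (iv2 F287424)) (tt N54830 (iv3 F290540)) (tt N84976 (iv4 F371239)) (tt N78930 (iv5 F287426)) (tt N49315 F292496) (tt N50448 F287423))
theorem Q83324 : ∀ i, i < 83324 → P i := stepQ 83323 Q83323 (allL N83323 (tt N61862 F339545) (tt N89339 (iv0 F386186)) (tt N99290 (iv2 F423956)) (tt N113347 D216600) (tt N49062 (iv4 D185028)) (tt N70026 (iv5 F339544)) (tt N109979 (iv6 F469451)) (tt N108542 (iv7 F463017)))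
theorem Q83325 : ∀ i, i < 83325 → P i := stepQ 83324 Q83324 (allL N83324 (tt N105312 (iv1 F471193)) (tt N77369 (iv0 F431647)) (tt N113190 (iv2 F484396)) (tt N90826 (iv3 F390996)) (tt N109979 (iv4 F469449)) (tt N113036 (iv5 F483660)) (tt N49062 (iv6 D185030)) (tt N106593 (iv7 F454983)))
theorem Q83326 : ∀ i, i < 83326 → P i := stepQ 83325 Q83325 (allL N83325 (tt N81897 F382976) (tt N85999 F382977) (tt N90825 (iv2 F390994)) (tt N49063 (iv3 D185032)) (tt N91152 (iv4 F392101)) (tt N113348 D216601) (tt N109895 F469115) (tt N113166 (iv7 F484296)))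
theorem Q83327 : ∀ i, i < 83327 → P i := stepQ 83326 Q83326 (allL N83326 (tt N49619 F287431) (tt N83384 F339549) (tt N83391 F344329) (tt N113348 (iv3 F485134)) (tt N70024 (iv4 F339546)) (tt N49063 (iv5 D185034)) (tt N91499 F393389) (tt N82649 F344316))
theorem Q83328 : ∀ i, i < 83328 → P i := stepQ 83327 Q83327 (allL N83327 (tt N61847 (iv1 F359539)) (tt N49064 (iv0 D185036)) (tt N99278 (iv2 F423909)) (tt N113349 D216602) (tt N54809 F287430) (tt N78046 F359537) (tt N109998 (iv6 F469505)) (tt N109830 (iv7 F468826)))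
theorem Q83329 : ∀ i, i < 83329 → P i := stepQ 83328 Q83328 (allL N83328 (tt N113350 D216603) (tt N113351 D216604) (tt N113352 D216605) (tt N49064 (iv3 D185038)) (tt N49077 F287432) (tt N110608 (iv5 F472374)) (tt N54639 F364068) (tt N110710 (iv7 F472854)))
theorem Q83330 : ∀ i, i < 83330 → P i := stepQ 83329 Q83329 (allL N83329 (tt N113353 D216606) (tt N113354 D216607) (tt N110707 (iv2 F472846)) (tt N54639 (iv3 F364069)) (tt N49065 F287433) (tt N113355 D216608) (tt N49064 (iv6 D185040)) (tt N83367 F364070))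
theorem Q83331 : ∀ i, i < 83331 → P i := stepQ 83330 Q83330 (allL N83330 (tt N83378 (iv1 F364073)) (tt N49065 (iv0 D185041)) (tt N83377 F455087) (tt N106624 F455085) (tt N113356 D216609) (tt N112946 (iv5 F483338)) (tt N110227 (iv6 F470527)) (tt N83376 (iv7 F455086)))
theorem Q83332 : ∀ i, i < 83332 → P i := stepQ 83331 Q83331 (allL N83331 (tt N49065 (iv1 D185042)) (tt N83378 F364075) (tt N83376 (iv2 F455088)) (tt N113357 D216610) (tt N113358 D216611) (tt N112947 (iv5 F485164)) (tt N106617 F455089) (tt N83377 F455090))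
theorem Q83333 : ∀ i, i < 83333 → P i := stepQ 83332 Q83332 (allL N83332 (tt N113359 D216612) (tt N113360 D216613) (tt N113345 (iv2 F485118)) (tt N49080 F287434) (tt N113361 D216614) (tt N49065 (iv5 D185043)) (tt N49068 F287435) (tt N82690 F337956))
theorem Q83334 : ∀ i, i < 83334 → P i := stepQ 83333 Q83333 (allL N83333 (tt N85180 F372526) (tt N89337 F386177) (tt N84784 (iv2 F370619)) (tt N90079 (iv3 F388510)) (tt N49066 (iv4 D185047)) (tt N100496 (iv5 F429188)) (tt N75988 F344233) (tt N111286 (iv7 F475643)))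
theorem Q83335 : ∀ i, i < 83335 → P i := stepQ 83334 Q83334 (allL N83334 (tt N78991 F372525) (tt N78984 F372527) (tt N85515 (iv2 F372908)) (tt N49067 (iv3 D185051)) (tt N85433 (iv4 F372621)) (tt N112931 (iv5 F483302)) (tt N89180 (iv6 F385477)) (tt N90185 (iv7 F388817)))
theorem Q83336 : ∀ i, i < 83336 → P i := stepQ 83335 Q83335 (allL N83335 (tt N89337 F386176) (tt N85180 (iv0 F371831)) (tt N111286 F475641) (tt N83618 (iv3 F288059)) (tt N49067 (iv4 D185052)) (tt N100658 (iv5 F429883)) (tt N83703 F335764) (tt N84784 (iv7 F370622)))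
theorem Q83337 : ∀ i, i < 83337 → P i := stepQ 83336 Q83336 (allL N83336 (tt N82686 (iv1 F287439)) (tt N49068 (iv0 D185054)) (tt N82644 F364160) (tt N49573 F364161) (tt N113362 D216615) (tt N49571 (iv5 F337275)) (tt N80604 F364162) (tt N82660 F364163))
theorem Q83338 : ∀ i, i < 83338 → P i := stepQ 83337 Q83337 (allL N83337 (tt N49068 (iv1 D185055)) (tt N82686 F287441) (tt N82660 (iv2 F364164)) (tt N113363 D216616) (tt N113364 D216617) (tt N82620 F287442) (tt N113365 D216618) (tt N82644 (iv7 F364165)))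
theorem Q83339 : ∀ i, i < 83339 → P i := stepQ 83338 Q83338 (allL N83338 (tt N83904 (iv1 F367446)) (tt N113366 D216619) (tt N113346 (iv2 F485125)) (tt N113361 (iv3 F485174)) (tt N49068 (iv4 D185056)) (tt N113367 D216620) (tt N113361 (iv6 F485175)) (tt N82687 F287443))
theorem Q83340 : ∀ i, i < 83340 → P i := stepQ 83339 Q83339 (allL N83339 (tt N111338 F475896) (tt N113368 D216621) (tt N83340 F358602) (tt N54595 (iv3 F358601)) (tt N49070 (iv4 D185057)) (tt N84025 (iv5 F367846)) (tt N54593 F358603) (tt N90883 (iv7 F391149)))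
theorem Q83341 : ∀ i, i < 83341 → P i := stepQ 83340 Q83340 (allL N83340 (tt N100260 F428157) (tt N107027 (iv0 F456698)) (tt N83339 (iv2 F358602)) (tt N49072 F287444) (tt N54593 (iv4 F358598)) (tt N83014 F287445) (tt N49070 (iv6 D185058)) (tt N113369 D216622))
theorem Q83342 : ∀ i, i < 83342 → P i := stepQ 83341 Q83341 (allL N83341 (tt N112985 (iv1 F483434)) (tt N112990 (iv0 F483444)) (tt N87692 (iv2 F380149)) (tt N49071 (iv3 D185059)) (tt N54595 F358600) (tt N86388 (iv5 F376036)) (tt N54594 (iv6 F358599)) (tt N90885 (iv7 F391155)))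
theorem Q83343 : ∀ i, i < 83343 → P i := stepQ 83342 Q83342 (allL N83342 (tt N113370 D216623) (tt N76958 (iv0 F338037)) (tt N86930 (iv2 F377747)) (tt N54594 F358594) (tt N49072 F287446) (tt N84487 (iv5 F369509)) (tt N49071 (iv6 D185060)) (tt N113371 D216624))
theorem Q83344 : ∀ i, i < 83344 → P i := stepQ 83343 Q83343 (allL N83343 (tt N77368 (iv1 F358588)) (tt N49072 (iv0 D185061)) (tt N77371 (iv2 F358586)) (tt N70434 (iv3 F358580)) (tt N77154 F358585) (tt N70433 F358579) (tt N90390 (iv6 F389483)) (tt N77153 (iv7 F358581)))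
theorem Q83345 : ∀ i, i < 83345 → P i := stepQ 83344 Q83344 (allL N83344 (tt N77153 (iv1 F352432)) (tt N77371 F352433) (tt N77368 F358589) (tt N113369 (iv3 F485211)) (tt N113371 (iv4 F485225)) (tt N83017 F287447) (tt N90888 (iv6 F391175)) (tt N49072 (iv7 D185063)))
theorem Q83346 : ∀ i, i < 83346 → P i := stepQ 83345 Q83345 (allL N83345 (tt N88422 F433083) (tt N113372 D216625) (tt N113373 D216626) (tt N49073 (iv3 D185064)) (tt N90815 (iv4 F390955)) (tt N113374 D216627) (tt N113375 D216628) (tt N86931 (iv7 F377750)))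
theorem Q83347 : ∀ i, i < 83347 → P i := stepQ 83346 Q83346 (allL N83346 (tt N82625 F287451) (tt N77069 (iv0 F338031)) (tt N55606 (iv2 F294287)) (tt N113374 (iv3 F485234)) (tt N49155 F287449) (tt N49073 (iv5 D185065)) (tt N112899 (iv6 F483195)) (tt N82669 F287450))
theorem Q83348 : ∀ i, i < 83348 → P i := stepQ 83347 Q83347 (allL N83347 (tt N110370 F471281) (tt N113376 D216629) (tt N90886 (iv2 F391156)) (tt N113375 (iv3 F485242)) (tt N49074 F287453) (tt N113377 D216630) (tt N49073 (iv6 D185066)) (tt N110395 (iv7 F471382)))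
theorem Q83349 : ∀ i, i < 83349 → P i := stepQ 83348 Q83348 (allL N83348 (tt N54601 (iv1 F382920)) (tt N52733 (iv0 F368301)) (tt N54598 F390253) (tt N49075 (iv3 D185068)) (tt N113378 D216631) (tt N113002 (iv5 F483508)) (tt N77361 (iv6 F353698)) (tt N54599 (iv7 F390251)))
theorem Q83350 : ∀ i, i < 83350 → P i := stepQ 83349 Q83349 (allL N83349 (tt N83024 F358627) (tt N113379 D216632) (tt N113380 D216633) (tt N49076 (iv3 D185070)) (tt N113381 D216634) (tt N113006 (iv5 F483531)) (tt N78824 F358626) (tt N83354 (iv7 F337983)))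
theorem Q83351 : ∀ i, i < 83351 → P i := stepQ 83350 Q83350 (allL N83350 (tt N109321 F466379) (tt N110355 (iv0 F471206)) (tt N83355 (iv2 F337979)) (tt N78824 (iv3 F358623)) (tt N83065 F287455) (tt N78823 F358622) (tt N49076 (iv6 D185071)) (tt N77367 (iv7 F358621)))
theorem Q83352 : ∀ i, i < 83352 → P i := stepQ 83351 Q83351 (allL N83351 (tt N113193 (iv1 F484412)) (tt N49077 (iv0 D185072)) (tt N101305 (iv2 F432594)) (tt N113382 D216635) (tt N113383 D216636) (tt N113384 D216637) (tt N64814 F411839) (tt N113192 (iv7 F484407)))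
theorem Q83353 : ∀ i, i < 83353 → P i := stepQ 83352 Q83352 (allL N83352 (tt N49077 (iv1 D185073)) (tt N113193 F484413) (tt N113192 F484405) (tt N113385 D216638) (tt N113386 D216639) (tt N113387 D216640) (tt N113388 D216641) (tt N101305 F432598))
theorem Q83354 : ∀ i, i < 83354 → P i := stepQ 83353 Q83353 (allL N83353 (tt N101305 F432597) (tt N113192 F484406) (tt N49077 (iv2 D185074)) (tt N83319 (iv3 F364071)) (tt N113352 (iv4 F485149)) (tt N112970 (iv5 F483401)) (tt N54635 F364067) (tt N113193 (iv7 F484411)))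
theorem Q83355 : ∀ i, i < 83355 → P i := stepQ 83354 Q83354 (allL N83354 (tt N113172 F484319) (tt N88388 (iv0 F478815)) (tt N90818 (iv2 F390966)) (tt N49078 (iv3 D185081)) (tt N110382 (iv4 F471323)) (tt N112945 (iv5 F483337)) (tt N110242 (iv6 F470596)) (tt N83349 F337983))
theorem Q83356 : ∀ i, i < 83356 → P i := stepQ 83355 Q83355 (allL N83355 (tt N77410 F357266) (tt N90390 F389485) (tt N83350 F337979) (tt N90791 F390887) (tt N49150 F337980) (tt N106282 (iv5 F453883)) (tt N49079 (iv6 D185088)) (tt N110244 (iv7 F470609)))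
theorem Q83357 : ∀ i, i < 83357 → P i := stepQ 83356 Q83356 (allL N83356 (tt N81888 F357247) (tt N81887 (iv0 F290121)) (tt N90873 (iv2 F391119)) (tt N113389 D216642) (tt N49081 (iv4 D185104)) (tt N113390 D216643) (tt N113391 D216644) (tt N89312 (iv7 F386046)))
theorem Q83358 : ∀ i, i < 83358 → P i := stepQ 83357 Q83357 (allL N83357 (tt N101445 (iv1 F432986)) (tt N101444 F432985) (tt N90874 (iv2 F391121)) (tt N89900 (iv3 F387914)) (tt N113391 (iv4 F485319)) (tt N90312 (iv5 F389320)) (tt N49081 (iv6 D185105)) (tt N100907 (iv7 F430917)))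
theorem Q83359 : ∀ i, i < 83359 → P i := stepQ 83358 Q83358 (allL N83358 (tt N90881 (iv1 F391140)) (tt N88605 (iv0 F383575)) (tt N49086 F287479) (tt N113392 D216645) (tt N49082 (iv4 D185110)) (tt N90938 (iv5 F391307)) (tt N113393 D216646) (tt N90875 (iv7 F391124)))
theorem Q83360 : ∀ i, i < 83360 → P i := stepQ 83359 Q83359 (allL N83359 (tt N101457 (iv1 F433034)) (tt N100621 (iv0 F429740)) (tt N49087 F287480) (tt N113189 (iv3 F484393)) (tt N113393 (iv4 F485328)) (tt N94559 (iv5 F404967)) (tt N49082 (iv6 D185111)) (tt N101456 (iv7 F433027)))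
theorem Q83361 : ∀ i, i < 83361 → P i := stepQ 83360 Q83360 (allL N83360 (tt N88383 (iv1 F382839)) (tt N113173 (iv0 F484324)) (tt N90806 (iv2 F390929)) (tt N49084 (iv3 D185117)) (tt N72661 F363545) (tt N96848 (iv5 F414239)) (tt N112623 (iv6 F481880)) (tt N90876 (iv7 F391127)))
theorem Q83362 : ∀ i, i < 83362 → P i := stepQ 83361 Q83361 (allL N83361 (tt N81882 F290093) (tt N81884 F290125) (tt N90879 (iv2 F391134)) (tt N99249 (iv3 F423838)) (tt N49084 (iv4 D185118)) (tt N113394 D216647) (tt N112624 (iv6 F481884)) (tt N90877 (iv7 F391131)))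
theorem Q83363 : ∀ i, i < 83363 → P i := stepQ 83362 Q83362 (allL N83362 (tt N83407 F356400) (tt N49765 (iv0 F343263)) (tt N83412 F356391) (tt N96848 (iv3 F414241)) (tt N72620 F356399) (tt N49084 (iv5 D185119)) (tt N72619 (iv6 F356398)) (tt N80550 (iv7 F290110)))
theorem Q83364 : ∀ i, i < 83364 → P i := stepQ 83363 Q83363 (allL N83363 (tt N81884 F356205) (tt N81882 (iv0 F290106)) (tt N90877 (iv2 F391130)) (tt N113395 D216648) (tt N49085 (iv4 D185123)) (tt N113396 D216649) (tt N113397 D216650) (tt N90879 (iv7 F391135)))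
theorem Q83365 : ∀ i, i < 83365 → P i := stepQ 83364 Q83364 (allL N83364 (tt N70434 F363286) (tt N70438 F363288) (tt N90878 (iv2 F391133)) (tt N89467 (iv3 F386598)) (tt N113397 (iv4 F485329)) (tt N69802 (iv5 F363287)) (tt N49085 (iv6 D185125)) (tt N105309 (iv7 F449652)))
theorem Q83366 : ∀ i, i < 83366 → P i := stepQ 83365 Q83365 (allL N83365 (tt N90875 (iv1 F391126)) (tt N49086 (iv0 D185126)) (tt N90881 F391143) (tt N113398 D216651) (tt N54805 (iv4 F364220)) (tt N113399 D216652) (tt N112577 (iv6 F481698)) (tt N88605 (iv7 F383574)))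
theorem Q83367 : ∀ i, i < 83367 → P i := stepQ 83366 Q83366 (allL N83366 (tt N49086 (iv1 D185127)) (tt N90875 (iv0 F391125)) (tt N88605 (iv2 F383573)) (tt N113400 D216653) (tt N54804 F287492) (tt N113400 F485338) (tt N113401 D216654) (tt N90881 (iv7 F391141)))
theorem Q83368 : ∀ i, i < 83368 → P i := stepQ 83367 Q83367 (allL N83367 (tt N113402 D216655) (tt N113403 D216656) (tt N113404 D216657) (tt N49086 (iv3 D185128)) (tt N49091 F287494) (tt N113405 D216658) (tt N100513 F429260) (tt N83329 (iv7 F364070)))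
theorem Q83369 : ∀ i, i < 83369 → P i := stepQ 83368 Q83368 (allL N83368 (tt N105663 F451150) (tt N81892 (iv0 F367262)) (tt N90938 (iv2 F391306)) (tt N113405 (iv3 F485350)) (tt N90915 (iv4 F391257)) (tt N49086 (iv5 D185129)) (tt N113406 D216659) (tt N90882 (iv7 F391144)))
theorem Q83370 : ∀ i, i < 83370 → P i := stepQ 83369 Q83369 (allL N83369 (tt N113407 D216660) (tt N101462 (iv0 F467295)) (tt N113393 (iv2 F485326)) (tt N100513 (iv3 F429257)) (tt N49087 F287495) (tt N100512 F429256) (tt N49086 (iv6 D185130)) (tt N113408 D216661))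
theorem Q83371 : ∀ i, i < 83371 → P i := stepQ 83370 Q83370 (allL N83370 (tt N101456 (iv1 F433026)) (tt N49087 (iv0 D185131)) (tt N101457 (iv2 F433031)) (tt N113409 D216662) (tt N113410 D216663) (tt N99534 (iv5 F425021)) (tt N96203 F411476) (tt N100621 (iv7 F429738)))
theorem Q83372 : ∀ i, i < 83372 → P i := stepQ 83371 Q83371 (allL N83371 (tt N57855 (iv1 F362822)) (tt N94561 F404972) (tt N94559 (iv2 F404966)) (tt N49094 F287496) (tt N70240 F362811) (tt N49087 (iv5 D185133)) (tt N49090 F287497) (tt N84794 (iv7 F370638)))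
theorem Q83373 : ∀ i, i < 83373 → P i := stepQ 83372 Q83372 (allL N83372 (tt N100621 (iv1 F429741)) (tt N101457 F433033) (tt N101456 F433030) (tt N49095 F287498) (tt N113408 (iv4 F485361)) (tt N84794 (iv5 F370637)) (tt N83046 (iv6 F364066)) (tt N49087 (iv7 D185134)))
theorem Q83374 : ∀ i, i < 83374 → P i := stepQ 83373 Q83373 (allL N83373 (tt N83581 F367113) (tt N83580 F370206) (tt N84871 (iv2 F370935)) (tt N49088 (iv3 D185136)) (tt N85705 F373598) (tt N88448 (iv5 F383089)) (tt N89176 F385450) (tt N84879 (iv7 F370979)))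
theorem Q83375 : ∀ i, i < 83375 → P i := stepQ 83374 Q83374 (allL N83374 (tt N85532 (iv1 F372964)) (tt N49090 (iv0 D185144)) (tt N52763 (iv2 F362818)) (tt N113411 D216664) (tt N58219 F362812) (tt N51450 (iv5 F362817)) (tt N100632 (iv6 F429767)) (tt N52761 F362819))
theorem Q83376 : ∀ i, i < 83376 → P i := stepQ 83375 Q83375 (allL N83375 (tt N49090 (iv1 D185145)) (tt N85532 (iv0 F372963)) (tt N52761 F289709) (tt N49557 F289710) (tt N58220 F343087) (tt N49555 (iv5 F289707)) (tt N70314 F336664) (tt N52763 F289711))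
theorem Q83377 : ∀ i, i < 83377 → P i := stepQ 83376 Q83376 (allL N83376 (tt N83319 (iv1 F364074)) (tt N49091 (iv0 D185147)) (tt N83331 F455088) (tt N71522 F455018) (tt N113412 D216665) (tt N113413 D216666) (tt N71520 (iv6 F455017)) (tt N83330 F455086))
theorem Q83378 : ∀ i, i < 83378 → P i := stepQ 83377 Q83377 (allL N83377 (tt N49091 (iv1 D185148)) (tt N83319 F364076) (tt N83330 (iv2 F455087)) (tt N113414 D216667) (tt N113415 D216668) (tt N113416 D216669) (tt N101297 (iv6 F470529)) (tt N83331 (iv7 F455090)))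
theorem Q83379 : ∀ i, i < 83379 → P i := stepQ 83378 Q83378 (allL N83378 (tt N83331 (iv1 F364075)) (tt N83330 F364073) (tt N49091 (iv2 D185149)) (tt N113193 (iv3 F484409)) (tt N113404 (iv4 F485344)) (tt N112968 (iv5 F483396)) (tt N113417 D216670) (tt N83319 F364072))
theorem Q83380 : ∀ i, i < 83380 → P i := stepQ 83379 Q83379 (allL N83379 (tt N113418 D216671) (tt N110392 F471369) (tt N113417 (iv2 F485391)) (tt N49092 F287501) (tt N100513 (iv4 F429259)) (tt N85861 (iv5 F374246)) (tt N49091 (iv6 D185150)) (tt N83045 F364065))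
theorem Q83381 : ∀ i, i < 83381 → P i := stepQ 83380 Q83380 (allL N83380 (tt N110378 (iv1 F471303)) (tt N85145 (iv0 F371737)) (tt N110379 (iv2 F471308)) (tt N85598 F373180) (tt N85853 (iv4 F374221)) (tt N49093 (iv5 D185157)) (tt N109551 (iv6 F467475)) (tt N88456 F383127))
theorem Q83382 : ∀ i, i < 83382 → P i := stepQ 83381 Q83381 (allL N83381 (tt N50813 (iv1 F362832)) (tt N49094 (iv0 D185161)) (tt N84793 (iv2 F370642)) (tt N84867 F370912) (tt N98244 (iv4 F420121)) (tt N110344 (iv5 F471139)) (tt N70278 F332715) (tt N84792 F370643))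
theorem Q83383 : ∀ i, i < 83383 → P i := stepQ 83382 Q83382 (allL N83382 (tt N49094 (iv1 D185162)) (tt N50813 F362835) (tt N84792 F370641) (tt N66861 (iv3 F362823)) (tt N98243 (iv4 F420114)) (tt N110240 (iv5 F470584)) (tt N100597 F429629) (tt N84793 (iv7 F370640)))
theorem Q83384 : ∀ i, i < 83384 → P i := stepQ 83383 Q83383 (allL N83383 (tt N110704 (iv1 F472830)) (tt N53497 F287506) (tt N49098 F287505) (tt N113419 D216672) (tt N49097 (iv4 D185166)) (tt N61998 (iv5 F359538)) (tt N110764 (iv6 F473061)) (tt N110750 (iv7 F473005)))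
theorem Q83385 : ∀ i, i < 83385 → P i := stepQ 83384 Q83384 (allL N83384 (tt N83326 (iv1 F339549)) (tt N82797 F344332) (tt N49099 F287507) (tt N84336 (iv3 F368951)) (tt N51431 F287508) (tt N49097 (iv5 D185167)) (tt N89868 (iv6 F387808)) (tt N84119 (iv7 F368182)))
theorem Q83386 : ∀ i, i < 83386 → P i := stepQ 83385 Q83385 (allL N83385 (tt N113420 D216673) (tt N113421 D216674) (tt N49100 F287509) (tt N95013 (iv3 F406641)) (tt N110764 (iv4 F473066)) (tt N96273 (iv5 F411825)) (tt N49097 (iv6 D185168)) (tt N96272 F411819))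
theorem Q83387 : ∀ i, i < 83387 → P i := stepQ 83386 Q83386 (allL N83386 (tt N110750 (iv1 F473007)) (tt N49098 (iv0 D185169)) (tt N110704 (iv2 F472825)) (tt N107540 F458697) (tt N53498 F287510) (tt N61846 (iv5 F359545)) (tt N76859 F361012) (tt N53497 (iv7 F287511)))
theorem Q83388 : ∀ i, i < 83388 → P i := stepQ 83387 Q83387 (allL N83387 (tt N49098 (iv1 D185170)) (tt N110750 (iv0 F473006)) (tt N53497 F287513) (tt N110800 (iv3 F473227)) (tt N53488 (iv4 F287512)) (tt N61845 (iv5 F359543)) (tt N110650 (iv6 F472589)) (tt N110704 (iv7 F472828)))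
theorem Q83389 : ∀ i, i < 83389 → P i := stepQ 83388 Q83388 (allL N83388 (tt N107426 F458292) (tt N113422 D216675) (tt N81933 F364086) (tt N49098 (iv3 D185171)) (tt N49103 F287514) (tt N113423 D216676) (tt N81850 (iv6 F364085)) (tt N113197 (iv7 F484431)))
theorem Q83390 : ∀ i, i < 83390 → P i := stepQ 83389 Q83389 (allL N83389 (tt N103789 (iv1 F442826)) (tt N62154 (iv0 F415248)) (tt N61998 F359540) (tt N113423 (iv3 F485435)) (tt N56998 F359547) (tt N49098 (iv5 D185172)) (tt N56997 F359549) (tt N71544 (iv7 F359550)))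
theorem Q83391 : ∀ i, i < 83391 → P i := stepQ 83390 Q83390 (allL N83390 (tt N107550 (iv1 F469522)) (tt N76853 (iv0 F458629)) (tt N110764 F473064) (tt N81850 F364087) (tt N49100 F287515) (tt N107517 (iv5 F458627)) (tt N49098 (iv6 D185173)) (tt N81928 (iv7 F364088)))
theorem Q83392 : ∀ i, i < 83392 → P i := stepQ 83391 Q83391 (allL N83391 (tt N84119 F368180) (tt N49099 (iv0 D185174)) (tt N83326 (iv2 F344329)) (tt N83853 F357618) (tt N98733 (iv4 F422074)) (tt N83043 F344330) (tt N55310 F361025) (tt N82797 F344331))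
theorem Q83393 : ∀ i, i < 83393 → P i := stepQ 83392 Q83392 (allL N83392 (tt N96272 (iv1 F411821)) (tt N49100 (iv0 D185176)) (tt N113420 F485420) (tt N113424 D216677) (tt N113425 D216678) (tt N107332 (iv5 F466104)) (tt N83415 (iv6 F484401)) (tt N113421 (iv7 F485423)))
theorem Q83394 : ∀ i, i < 83394 → P i := stepQ 83393 Q83393 (allL N83393 (tt N49100 (iv1 D185177)) (tt N96272 F411820) (tt N113421 (iv2 F485426)) (tt N99442 (iv3 F424598)) (tt N63690 F424591) (tt N99440 (iv5 F424589)) (tt N63689 (iv6 F424590)) (tt N113420 F485421))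
theorem Q83395 : ∀ i, i < 83395 → P i := stepQ 83394 Q83394 (allL N83394 (tt N96271 (iv1 F411816)) (tt N96270 F411827) (tt N96273 (iv2 F411822)) (tt N49106 F287516) (tt N110758 (iv4 F473041)) (tt N49100 (iv5 D185178)) (tt N51214 F287517) (tt N96268 (iv7 F411813)))
theorem Q83396 : ∀ i, i < 83396 → P i := stepQ 83395 Q83395 (allL N83395 (tt N113421 (iv1 F485422)) (tt N113420 F485419) (tt N96272 (iv2 F411817)) (tt N49107 F287518) (tt N81928 F364089) (tt N96268 F411814) (tt N110340 (iv6 F471124)) (tt N49100 (iv7 D185179)))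
theorem Q83397 : ∀ i, i < 83397 → P i := stepQ 83396 Q83396 (allL N83396 (tt N112337 (iv1 F480638)) (tt N54442 (iv0 F387883)) (tt N77426 F387063) (tt N49101 (iv3 D185180)) (tt N77422 (iv4 F387064)) (tt N82838 F287519) (tt N113426 D216679) (tt N83075 F287520))
theorem Q83398 : ∀ i, i < 83398 → P i := stepQ 83397 Q83397 (allL N83397 (tt N83456 F351166) (tt N109896 (iv0 F469119)) (tt N83470 (iv2 F287578)) (tt N113426 (iv3 F485446)) (tt N83060 F287521) (tt N110189 (iv5 F470347)) (tt N49101 (iv6 D185181)) (tt N83405 (iv7 F364096)))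
theorem Q83399 : ∀ i, i < 83399 → P i := stepQ 83398 Q83398 (allL N83398 (tt N112323 F480553) (tt N113183 (iv0 F484361)) (tt N113427 D216680) (tt N49102 (iv3 D185182)) (tt N90842 (iv4 F391031)) (tt N112965 (iv5 F483393)) (tt N83402 (iv6 F364094)) (tt N83469 (iv7 F287577)))
theorem Q83400 : ∀ i, i < 83400 → P i := stepQ 83399 Q83399 (allL N83399 (tt N113201 (iv1 F484452)) (tt N49103 (iv0 D185183)) (tt N113200 (iv2 F484446)) (tt N113428 D216681) (tt N112586 F484454) (tt N112972 (iv5 F483407)) (tt N110011 F469546) (tt N113199 F484443))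
theorem Q83401 : ∀ i, i < 83401 → P i := stepQ 83400 Q83400 (allL N83400 (tt N49103 (iv1 D185184)) (tt N113201 F484453) (tt N113199 F484442) (tt N113429 D216682) (tt N112587 F484455) (tt N110885 (iv5 F473605)) (tt N72482 (iv6 F406626)) (tt N113200 (iv7 F484444)))
theorem Q83402 : ∀ i, i < 83402 → P i := stepQ 83401 Q83401 (allL N83401 (tt N113200 F484447) (tt N113199 F484441) (tt N49103 (iv2 D185185)) (tt N113195 (iv3 F484419)) (tt N81933 (iv4 F364090)) (tt N100581 (iv5 F429551)) (tt N64876 (iv6 F364084)) (tt N113201 (iv7 F484451)))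
theorem Q83403 : ∀ i, i < 83403 → P i := stepQ 83402 Q83402 (allL N83402 (tt N113177 F484339) (tt N88394 F484340) (tt N90842 (iv2 F391030)) (tt N49104 (iv3 D185192)) (tt N113427 (iv4 F485452)) (tt N113430 D216683) (tt N83398 F364094) (tt N77432 F364100))
theorem Q83404 : ∀ i, i < 83404 → P i := stepQ 83403 Q83403 (allL N83403 (tt N75450 (iv1 F352428)) (tt N75313 F352429) (tt N75447 (iv2 F352426)) (tt N113430 (iv3 F485462)) (tt N77179 (iv4 F352427)) (tt N49104 (iv5 D185194)) (tt N81065 (iv6 F354166)) (tt N75448 F352425))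
theorem Q83405 : ∀ i, i < 83405 → P i := stepQ 83404 Q83404 (allL N83404 (tt N75313 (iv1 F337915)) (tt N75450 (iv0 F337914)) (tt N75448 F352355) (tt N90844 (iv3 F391035)) (tt N77184 (iv4 F352423)) (tt N49105 (iv5 D185199)) (tt N58985 (iv6 F329613)) (tt N75447 (iv7 F352424)))
theorem Q83406 : ∀ i, i < 83406 → P i := stepQ 83405 Q83405 (allL N83405 (tt N76716 (iv1 F373378)) (tt N83454 F373386) (tt N77433 (iv2 F364097)) (tt N90845 (iv3 F391039)) (tt N77175 (iv4 F364098)) (tt N95191 (iv5 F407362)) (tt N49105 (iv6 D185200)) (tt N83397 F364096))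
theorem Q83407 : ∀ i, i < 83407 → P i := stepQ 83406 Q83406 (allL N83406 (tt N86365 (iv1 F375957)) (tt N77395 (iv0 F353742)) (tt N59241 F352345) (tt N96268 (iv3 F411811)) (tt N77440 F352347) (tt N49107 F287530) (tt N59239 (iv6 F352348)) (tt N49106 (iv7 D185203)))
theorem Q83408 : ∀ i, i < 83408 → P i := stepQ 83407 Q83407 (allL N83407 (tt N82803 (iv1 F356401)) (tt N83362 (iv0 F356400)) (tt N49110 F287534) (tt N84119 (iv3 F368177)) (tt N64315 F336768) (tt N49108 (iv5 D185215)) (tt N64313 (iv6 F336776)) (tt N84336 (iv7 F368955)))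
theorem Q83409 : ∀ i, i < 83409 → P i := stepQ 83408 Q83408 (allL N83408 (tt N64771 (iv1 F353713)) (tt N64774 F353712) (tt N49111 F287535) (tt N113196 (iv3 F484425)) (tt N112528 (iv4 F481521)) (tt N96275 (iv5 F411835)) (tt N49108 (iv6 D185216)) (tt N96274 (iv7 F411832)))
theorem Q83410 : ∀ i, i < 83410 → P i := stepQ 83409 Q83409 (allL N83409 (tt N110010 F481631) (tt N109838 (iv0 F518007)) (tt N110007 F473087) (tt N49109 (iv3 D185219)) (tt N49112 F287536) (tt N113431 D216685) (tt N113432 D216686) (tt N110008 F473086))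
theorem Q83411 : ∀ i, i < 83411 → P i := stepQ 83410 Q83410 (allL N83410 (tt N113433 D216687) (tt N113434 D216688) (tt N112560 (iv2 F481646)) (tt N113431 (iv3 F485466)) (tt N113435 D216689) (tt N49109 (iv5 D185220)) (tt N113436 D216690) (tt N112558 (iv7 F481643)))
theorem Q83412 : ∀ i, i < 83412 → P i := stepQ 83411 Q83411 (allL N83411 (tt N101503 F433185) (tt N105297 (iv0 F449620)) (tt N112528 F481523) (tt N113432 (iv3 F485467)) (tt N49111 F287537) (tt N113437 D216691) (tt N49109 (iv6 D185221)) (tt N112529 (iv7 F481526)))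
theorem Q83413 : ∀ i, i < 83413 → P i := stepQ 83412 Q83412 (allL N83412 (tt N49110 (iv1 D185223)) (tt N84336 F368957) (tt N83362 (iv2 F356391)) (tt N84179 F368436) (tt N81494 (iv4 F356388)) (tt N54638 (iv5 F356392)) (tt N55314 F356389) (tt N82803 F356390))
theorem Q83414 : ∀ i, i < 83414 → P i := stepQ 83413 Q83413 (allL N83413 (tt N79151 F363293) (tt N84714 (iv0 F370307)) (tt N96275 (iv2 F411833)) (tt N49114 F287538) (tt N69902 F353709) (tt N49111 (iv5 D185226)) (tt N84113 (iv6 F368150)) (tt N59242 (iv7 F353708)))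
theorem Q83415 : ∀ i, i < 83415 → P i := stepQ 83414 Q83414 (allL N83414 (tt N64774 F353711) (tt N64771 F353710) (tt N96274 (iv2 F411828)) (tt N49115 F287539) (tt N112529 (iv4 F481527)) (tt N59242 (iv5 F353707)) (tt N59243 F352340) (tt N49111 (iv7 D185227)))
theorem Q83416 : ∀ i, i < 83416 → P i := stepQ 83415 Q83415 (allL N83415 (tt N113195 (iv1 F484422)) (tt N49112 (iv0 D185228)) (tt N113194 (iv2 F484415)) (tt N113438 D216692) (tt N109954 (iv4 F484418)) (tt N112966 (iv5 F484402)) (tt N83392 F484401) (tt N98456 F484416))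
theorem Q83417 : ∀ i, i < 83417 → P i := stepQ 83416 Q83416 (allL N83416 (tt N49112 (iv1 D185229)) (tt N113195 F484423) (tt N98456 F481481) (tt N113439 D216693) (tt N99971 (iv4 F481480)) (tt N112967 (iv5 F485124)) (tt N98352 F481482) (tt N113194 (iv7 F484414)))
theorem Q83418 : ∀ i, i < 83418 → P i := stepQ 83417 Q83417 (allL N83417 (tt N113194 (iv1 F484417)) (tt N98456 F420953) (tt N49112 (iv2 D185230)) (tt N113201 (iv3 F484448)) (tt N110007 (iv4 F473088)) (tt N112948 (iv5 F483340)) (tt N113440 D216694) (tt N113195 (iv7 F484421)))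
theorem Q83419 : ∀ i, i < 83419 → P i := stepQ 83418 Q83418 (allL N83418 (tt N105556 F455980) (tt N113441 D216695) (tt N113440 (iv2 F485498)) (tt N49113 F287540) (tt N113432 (iv4 F485468)) (tt N86926 (iv5 F377731)) (tt N49112 (iv6 D185231)) (tt N83307 F364092))
theorem Q83420 : ∀ i, i < 83420 → P i := stepQ 83419 Q83419 (allL N83419 (tt N77378 (iv1 F358618)) (tt N49113 (iv0 D185232)) (tt N83308 (iv2 F358611)) (tt N88401 (iv3 F382878)) (tt N88416 (iv4 F382949)) (tt N96488 (iv5 F412730)) (tt N113442 D216696) (tt N77360 (iv7 F358612)))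
theorem Q83421 : ∀ i, i < 83421 → P i := stepQ 83420 Q83420 (allL N83420 (tt N49113 (iv1 D185233)) (tt N77378 F353719) (tt N77360 (iv2 F355070)) (tt N112333 (iv3 F480608)) (tt N88415 (iv4 F382945)) (tt N69855 F353721) (tt N77150 F353720) (tt N83308 F358605))
theorem Q83422 : ∀ i, i < 83422 → P i := stepQ 83421 Q83421 (allL N83421 (tt N49114 (iv1 D185247)) (tt N77322 F357267) (tt N77363 F357262) (tt N109066 (iv3 F465187)) (tt N104569 (iv4 F446321)) (tt N77151 (iv5 F310884)) (tt N105175 F449112) (tt N77366 F353690))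
theorem Q83423 : ∀ i, i < 83423 → P i := stepQ 83422 Q83422 (allL N83422 (tt N82748 F368157) (tt N113030 F483625) (tt N84125 (iv2 F368206)) (tt N97097 (iv3 F415472)) (tt N49114 (iv4 D185248)) (tt N70048 (iv5 F359718)) (tt N84114 (iv6 F368153)) (tt N103812 (iv7 F442928)))
theorem Q83424 : ∀ i, i < 83424 → P i := stepQ 83423 Q83423 (allL N83423 (tt N77363 F353701) (tt N77366 F357261) (tt N77322 F353703) (tt N59242 F353704) (tt N103812 (iv4 F442929)) (tt N49115 F287546) (tt N59240 (iv6 F353702)) (tt N49114 (iv7 D185249)))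
theorem Q83425 : ∀ i, i < 83425 → P i := stepQ 83424 Q83424 (allL N83424 (tt N113205 (iv1 F484475)) (tt N49116 (iv0 D185250)) (tt N113204 F484469) (tt N81925 (iv3 F467195)) (tt N110807 (iv4 F473247)) (tt N112977 (iv5 F483419)) (tt N106344 F467194) (tt N113203 (iv7 F484466)))
theorem Q83426 : ∀ i, i < 83426 → P i := stepQ 83425 Q83425 (allL N83425 (tt N49116 (iv1 D185251)) (tt N113205 F484476) (tt N113203 (iv2 F484467)) (tt N113443 D216697) (tt N110808 (iv4 F473251)) (tt N112978 (iv5 F484477)) (tt N113338 (iv6 F485101)) (tt N113204 (iv7 F484468)))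
theorem Q83427 : ∀ i, i < 83427 → P i := stepQ 83426 Q83426 (allL N83426 (tt N113204 (iv1 F484470)) (tt N113203 F484463) (tt N49116 (iv2 D185252)) (tt N113202 (iv3 F484457)) (tt N113444 D216698) (tt N100051 (iv5 F427373)) (tt N75849 (iv6 F338051)) (tt N113205 (iv7 F484474)))
theorem Q83428 : ∀ i, i < 83428 → P i := stepQ 83427 Q83427 (allL N83427 (tt N110668 (iv1 F472689)) (tt N110670 (iv0 F485493)) (tt N113444 (iv2 F485519)) (tt N90030 F388348) (tt N49116 (iv4 D185253)) (tt N98788 (iv5 F422320)) (tt N75880 (iv6 F338052)) (tt N98787 F422317))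
theorem Q83429 : ∀ i, i < 83429 → P i := stepQ 83428 Q83428 (allL N83428 (tt N113202 (iv1 F484461)) (tt N49118 (iv0 D185259)) (tt N109960 (iv2 F469380)) (tt N113445 D216699) (tt N99965 (iv4 F458685)) (tt N112973 F484495) (tt N113340 (iv6 F485105)) (tt N110922 (iv7 F473803)))
theorem Q83430 : ∀ i, i < 83430 → P i := stepQ 83429 Q83429 (allL N83429 (tt N49118 (iv1 D185260)) (tt N113202 F484462) (tt N110922 (iv2 F473802)) (tt N113446 D216700) (tt N109961 (iv4 F469389)) (tt N99943 (iv5 F469386)) (tt N113447 D216701) (tt N109960 F469385))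
theorem Q83431 : ∀ i, i < 83431 → P i := stepQ 83430 Q83430 (allL N83430 (tt N109960 (iv1 F469384)) (tt N110922 (iv0 F473804)) (tt N49118 (iv2 D185261)) (tt N113205 (iv3 F484471)) (tt N107525 F458665) (tt N113010 (iv5 F483545)) (tt N113448 D216702) (tt N113202 (iv7 F484460)))
theorem Q83432 : ∀ i, i < 83432 → P i := stepQ 83431 Q83431 (allL N83431 (tt N113449 D216703) (tt N113450 D216704) (tt N113448 (iv2 F485533)) (tt N49119 F287548) (tt N107528 F458671) (tt N88717 F384042) (tt N49118 (iv6 D185263)) (tt N113451 D216705))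
theorem Q83433 : ∀ i, i < 83433 → P i := stepQ 83432 Q83432 (allL N83432 (tt N110241 (iv1 F470593)) (tt N110239 (iv0 F470580)) (tt N77431 F364038) (tt N113451 (iv3 F485548)) (tt N110292 (iv4 F470884)) (tt N77230 F364039) (tt N77174 (iv6 F364037)) (tt N49119 (iv7 D185267)))
theorem Q83434 : ∀ i, i < 83434 → P i := stepQ 83433 Q83433 (allL N83433 (tt N49121 (iv1 F287551)) (tt N49120 (iv0 D185268)) (tt N49124 (iv2 F287549)) (tt N112991 (iv3 F483449)) (tt N90805 (iv4 F390924)) (tt N112897 (iv5 F483186)) (tt N113452 D216706) (tt N49122 F287550))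
theorem Q83435 : ∀ i, i < 83435 → P i := stepQ 83434 Q83434 (allL N83434 (tt N49124 F426816) (tt N49122 F426817) (tt N49120 (iv2 D185269)) (tt N81848 F421399) (tt N99919 F426826) (tt N100842 (iv5 F430724)) (tt N77460 (iv6 F421398)) (tt N49121 (iv7 F287552)))
theorem Q83436 : ∀ i, i < 83436 → P i := stepQ 83435 Q83435 (allL N83435 (tt N113446 F485529) (tt N113453 D216707) (tt N81921 F421384) (tt N49120 (iv3 D185270)) (tt N90629 F421382) (tt N89408 F421392) (tt N81920 (iv6 F421383)) (tt N110404 (iv7 F471421)))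
theorem Q83437 : ∀ i, i < 83437 → P i := stepQ 83436 Q83436 (allL N83436 (tt N113454 D216708) (tt N113455 D216709) (tt N99919 (iv2 F426823)) (tt N88397 F421397) (tt N49120 (iv4 D185271)) (tt N99910 (iv5 F426780)) (tt N88395 (iv6 F421396)) (tt N99917 (iv7 F426811)))
theorem Q83438 : ∀ i, i < 83438 → P i := stepQ 83437 Q83437 (allL N83437 (tt N100969 (iv1 F431106)) (tt N100968 F431104) (tt N100842 (iv2 F430721)) (tt N89408 (iv3 F421394)) (tt N100034 (iv4 F427307)) (tt N49120 (iv5 D185272)) (tt N89405 F421395) (tt N100950 (iv7 F431081)))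
theorem Q83439 : ∀ i, i < 83439 → P i := stepQ 83438 Q83438 (allL N83438 (tt N53686 F421385) (tt N77173 F421386) (tt N77460 F421387) (tt N81920 F421388) (tt N88395 F421389) (tt N89406 F421390) (tt N49120 (iv6 D185273)) (tt N77459 F421391))
theorem Q83440 : ∀ i, i < 83440 → P i := stepQ 83439 Q83439 (allL N83439 (tt N49122 F426813) (tt N49124 F426814) (tt N49121 F287553) (tt N110404 (iv3 F471420)) (tt N99917 F426815) (tt N100950 (iv5 F431080)) (tt N113456 D216710) (tt N49120 (iv7 D185274)))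
theorem Q83441 : ∀ i, i < 83441 → P i := stepQ 83440 Q83440 (allL N83440 (tt N81926 (iv1 F421405)) (tt N81925 F421406) (tt N81927 (iv2 F421403)) (tt N49121 (iv3 D185275)) (tt N113457 D216711) (tt N100867 (iv5 F430824)) (tt N70001 F421402) (tt N81848 (iv7 F421404)))
theorem Q83442 : ∀ i, i < 83442 → P i := stepQ 83441 Q83441 (allL N83441 (tt N113455 (iv1 F485566)) (tt N113454 F485562) (tt N99917 (iv2 F426810)) (tt N113458 D216712) (tt N49121 (iv4 D185276)) (tt N99909 F426782) (tt N107620 F458966) (tt N99919 (iv7 F426825)))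
theorem Q83443 : ∀ i, i < 83443 → P i := stepQ 83442 Q83442 (allL N83442 (tt N105575 (iv1 F450807)) (tt N54445 F450808) (tt N113456 (iv2 F485571)) (tt N70001 (iv3 F421401)) (tt N107620 (iv4 F458965)) (tt N113459 D216713) (tt N49121 (iv6 D185278)) (tt N81915 F421400))
theorem Q83444 : ∀ i, i < 83444 → P i := stepQ 83443 Q83443 (allL N83443 (tt N112896 F483183) (tt N112895 F483172) (tt N49123 F287556) (tt N112981 (iv3 F483429)) (tt N109759 F468485) (tt N49122 (iv5 D185281)) (tt N107477 F458452) (tt N112897 (iv7 F483187)))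
theorem Q83445 : ∀ i, i < 83445 → P i := stepQ 83444 Q83444 (allL N83444 (tt N112897 (iv1 F483188)) (tt N49123 (iv0 D185282)) (tt N112896 (iv2 F483180)) (tt N52897 (iv3 F382983)) (tt N100957 F431095) (tt N88422 F382982) (tt N52896 (iv6 F382984)) (tt N112895 F483174))
theorem Q83446 : ∀ i, i < 83446 → P i := stepQ 83445 Q83445 (allL N83445 (tt N49123 (iv1 D185283)) (tt N112897 F483189) (tt N112895 F483173) (tt N112773 (iv3 F482588)) (tt N82245 F346094) (tt N113372 (iv5 F485232)) (tt N112770 F482582) (tt N112896 (iv7 F483177)))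
theorem Q83447 : ∀ i, i < 83447 → P i := stepQ 83446 Q83446 (allL N83446 (tt N109762 (iv1 F468499)) (tt N109699 (iv0 F468176)) (tt N109759 (iv2 F468484)) (tt N112889 (iv3 F483150)) (tt N49123 (iv4 D185284)) (tt N53931 (iv5 F346093)) (tt N113460 D216714) (tt N109760 (iv7 F468488)))
theorem Q83448 : ∀ i, i < 83448 → P i := stepQ 83447 Q83447 (allL N83447 (tt N107475 (iv1 F458447)) (tt N100872 F430837) (tt N107477 (iv2 F458450)) (tt N49125 F287557) (tt N113460 (iv4 F485594)) (tt N78109 F341129) (tt N49123 (iv6 D185285)) (tt N99407 (iv7 F424433)))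
theorem Q83449 : ∀ i, i < 83449 → P i := stepQ 83448 Q83448 (allL N83448 (tt N113461 D216715) (tt N113462 D216716) (tt N113452 (iv2 F485551)) (tt N49126 F287558) (tt N90801 (iv4 F390908)) (tt N107458 (iv5 F458409)) (tt N49124 (iv6 D185286)) (tt N107457 F458407))
theorem Q83450 : ∀ i, i < 83450 → P i := stepQ 83449 Q83449 (allL N83449 (tt N101229 (iv1 F432311)) (tt N49125 (iv0 D185287)) (tt N110173 (iv2 F470278)) (tt N88545 (iv3 F438516)) (tt N77057 F432313) (tt N81075 (iv5 F432314)) (tt N106506 (iv6 F454696)) (tt N81074 F432312))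
theorem Q83451 : ∀ i, i < 83451 → P i := stepQ 83450 Q83450 (allL N83450 (tt N110247 F470625) (tt N49126 (iv0 D185290)) (tt N110360 F471228) (tt N105978 (iv3 F452602)) (tt N77435 (iv4 F384919)) (tt N83132 (iv5 F358625)) (tt N77435 F359645) (tt N110359 F471223))
theorem Q83452 : ∀ i, i < 83452 → P i := stepQ 83451 Q83451 (allL N83451 (tt N49126 (iv1 D185291)) (tt N110247 (iv0 F470624)) (tt N110359 F471222) (tt N113463 D216717) (tt N77434 (iv4 F394230)) (tt N83131 (iv5 F393984)) (tt N113464 D216718) (tt N110360 (iv7 F471225)))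
theorem Q83453 : ∀ i, i < 83453 → P i := stepQ 83452 Q83452 (allL N83452 (tt N113465 D216719) (tt N85357 (iv0 F372335)) (tt N112924 (iv2 F483286)) (tt N107458 (iv3 F458408)) (tt N97832 (iv4 F418447)) (tt N49126 (iv5 D185292)) (tt N91673 F393983) (tt N107452 F458390))
theorem Q83454 : ∀ i, i < 83454 → P i := stepQ 83453 Q83453 (allL N83453 (tt N106020 F452770) (tt N106602 (iv0 F455016)) (tt N76857 F351168) (tt N49127 (iv3 D185294)) (tt N76614 F351169) (tt N101918 (iv5 F434940)) (tt N76613 (iv6 F351167)) (tt N106603 (iv7 F455019)))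
theorem Q83455 : ∀ i, i < 83455 → P i := stepQ 83454 Q83454 (allL N83454 (tt N83405 (iv1 F373386)) (tt N83470 F373385) (tt N83456 (iv2 F373383)) (tt N110012 (iv3 F469548)) (tt N49127 (iv4 D185295)) (tt N89322 F386089) (tt N77383 (iv6 F386092)) (tt N109896 (iv7 F469118)))
theorem Q83456 : ∀ i, i < 83456 → P i := stepQ 83455 Q83455 (allL N83455 (tt N78823 F358624) (tt N90308 (iv0 F389306)) (tt N110362 (iv2 F471238)) (tt N101918 F434941) (tt N86157 (iv4 F375240)) (tt N49127 (iv5 D185296)) (tt N101917 (iv6 F434942)) (tt N110361 (iv7 F471233)))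
theorem Q83457 : ∀ i, i < 83457 → P i := stepQ 83456 Q83456 (allL N83456 (tt N77433 (iv1 F364099)) (tt N83397 (iv0 F351166)) (tt N83454 F373383) (tt N76613 F351164) (tt N77383 (iv4 F386091)) (tt N76717 (iv5 F351163)) (tt N49127 (iv6 D185297)) (tt N76716 F351165))
theorem Q83458 : ∀ i, i < 83458 → P i := stepQ 83457 Q83457 (allL N83457 (tt N90874 (iv1 F469563)) (tt N100907 F469562) (tt N101444 F455172) (tt N49128 (iv3 D185299)) (tt N100443 F428995) (tt N113466 D216720) (tt N113467 D216721) (tt N101445 (iv7 F455171)))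
theorem Q83459 : ∀ i, i < 83459 → P i := stepQ 83458 Q83458 (allL N83458 (tt N90308 (iv1 F389308)) (tt N78823 (iv0 F373382)) (tt N110361 (iv2 F471231)) (tt N113466 (iv3 F485613)) (tt N86155 (iv4 F375236)) (tt N49128 (iv5 D185301)) (tt N90294 (iv6 F389256)) (tt N110362 (iv7 F471241)))
theorem Q83460 : ∀ i, i < 83460 → P i := stepQ 83459 Q83459 (allL N83459 (tt N110344 (iv1 F471142)) (tt N110240 (iv0 F470585)) (tt N110342 F471137) (tt N113467 (iv3 F485618)) (tt N109897 (iv4 F469123)) (tt N89856 F387745) (tt N49128 (iv6 D185302)) (tt N110343 (iv7 F471135)))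
theorem Q83461 : ∀ i, i < 83461 → P i := stepQ 83460 Q83460 (allL N83460 (tt N53397 (iv1 F287562)) (tt N49129 (iv0 D185303)) (tt N50548 F344349) (tt N91047 (iv3 F391746)) (tt N50555 F356791) (tt N49701 (iv5 F356785)) (tt N50144 (iv6 F338451)) (tt N53398 F344201))
theorem Q83462 : ∀ i, i < 83462 → P i := stepQ 83461 Q83461 (allL N83461 (tt N50548 (iv1 F344348)) (tt N53398 F287569) (tt N49129 (iv2 D185305)) (tt N54449 F287565) (tt N49162 F287566) (tt N74992 F337255) (tt N54496 F287567) (tt N53397 F287568))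
theorem Q83463 : ∀ i, i < 83463 → P i := stepQ 83462 Q83462 (allL N83462 (tt N91148 F392082) (tt N49146 F378211) (tt N87055 (iv2 F378206)) (tt N83028 F287571) (tt N113468 D216722) (tt N49130 (iv5 D185306)) (tt N113469 D216723) (tt N87054 (iv7 F378203)))
theorem Q83464 : ∀ i, i < 83464 → P i := stepQ 83463 Q83463 (allL N83463 (tt N49146 F287572) (tt N91148 F392081) (tt N87054 (iv2 F378202)) (tt N89333 (iv3 F386149)) (tt N113470 D216724) (tt N49131 (iv5 D185307)) (tt N112990 (iv6 F483440)) (tt N87055 (iv7 F378208)))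
theorem Q83465 : ∀ i, i < 83465 → P i := stepQ 83464 Q83464 (allL N83464 (tt N54624 (iv1 F378194)) (tt N87056 F378215) (tt N49133 F287574) (tt N88419 (iv3 F382963)) (tt N54615 F368568) (tt N49132 (iv5 D185309)) (tt N113471 D216725) (tt N87052 (iv7 F378191)))
theorem Q83466 : ∀ i, i < 83466 → P i := stepQ 83465 Q83465 (allL N83465 (tt N87052 (iv1 F378195)) (tt N49133 (iv0 D185310)) (tt N54624 F378896) (tt N113185 (iv3 F484366)) (tt N53500 F378897) (tt N87254 (iv5 F378894)) (tt N52737 (iv6 F378895)) (tt N87056 (iv7 F378899)))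
theorem Q83467 : ∀ i, i < 83467 → P i := stepQ 83466 Q83466 (allL N83466 (tt N49133 (iv1 D185311)) (tt N87052 F378193) (tt N87056 (iv2 F378901)) (tt N89335 F386163) (tt N89896 (iv4 F387901)) (tt N113018 (iv5 F483579)) (tt N110366 F471256) (tt N54624 F378900))
theorem Q83468 : ∀ i, i < 83468 → P i := stepQ 83467 Q83467 (allL N83467 (tt N52736 (iv1 F361678)) (tt N54611 F287575) (tt N54615 (iv2 F368566)) (tt N110413 (iv3 F471456)) (tt N49133 (iv4 D185312)) (tt N90021 (iv5 F388315)) (tt N113472 D216726) (tt N54614 F361677))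
theorem Q83469 : ∀ i, i < 83469 → P i := stepQ 83468 Q83468 (allL N83468 (tt N78832 F391169) (tt N113473 D216727) (tt N113471 (iv2 F485636)) (tt N49135 F287576) (tt N113472 (iv4 F485645)) (tt N91736 (iv5 F394251)) (tt N49133 (iv6 D185313)) (tt N77427 F359650))
theorem Q83470 : ∀ i, i < 83470 → P i := stepQ 83469 Q83469 (allL N83469 (tt N113474 D216728) (tt N110364 (iv0 F480533)) (tt N110407 (iv2 F471435)) (tt N49134 (iv3 D185314)) (tt N110413 (iv4 F471457)) (tt N112901 (iv5 F483206)) (tt N89843 F387705) (tt N83398 F287577))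
theorem Q83471 : ∀ i, i < 83471 → P i := stepQ 83470 Q83470 (allL N83470 (tt N83454 (iv1 F373385)) (tt N76716 (iv0 F373377)) (tt N83397 F287578) (tt N89843 (iv3 F387704)) (tt N49135 F287579) (tt N85246 F373376) (tt N49134 (iv6 D185315)) (tt N77433 F359651))
theorem Q83472 : ∀ i, i < 83472 → P i := stepQ 83471 Q83471 (allL N83471 (tt N77175 (iv1 F359654)) (tt N49135 (iv0 D185316)) (tt N77435 F452581) (tt N106321 (iv3 F454019)) (tt N110360 (iv4 F471227)) (tt N105974 (iv5 F452579)) (tt N110360 F471230) (tt N77434 (iv7 F452582)))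
theorem Q83473 : ∀ i, i < 83473 → P i := stepQ 83472 Q83472 (allL N83472 (tt N49135 (iv1 D185317)) (tt N77175 F359649) (tt N77434 (iv2 F452584)) (tt N71535 (iv3 F452585)) (tt N110359 (iv4 F471220)) (tt N105977 (iv5 F452597)) (tt N113475 D216729) (tt N77435 F452583))
theorem Q83474 : ∀ i, i < 83474 → P i := stepQ 83473 Q83473 (allL N83473 (tt N113216 F484531) (tt N113215 F484522) (tt N49142 F287595) (tt N113210 (iv3 F484493)) (tt N71885 (iv4 F365328)) (tt N112979 (iv5 F483423)) (tt N49138 (iv6 D185340)) (tt N113217 (iv7 F484534)))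
theorem Q83475 : ∀ i, i < 83475 → P i := stepQ 83474 Q83474 (allL N83474 (tt N76098 (iv1 F289960)) (tt N82710 (iv0 F335703)) (tt N49145 F287596) (tt N52885 F287597) (tt N113476 D216730) (tt N49139 (iv5 D185341)) (tt N112979 (iv6 F483424)) (tt N82841 (iv7 F289854)))
theorem Q83476 : ∀ i, i < 83476 → P i := stepQ 83475 Q83475 (allL N83475 (tt N54604 F287599) (tt N73617 F357610) (tt N62027 F357608) (tt N113477 D216731) (tt N49140 (iv4 D185343)) (tt N61783 (iv5 F357607)) (tt N109919 (iv6 F469219)) (tt N62029 F357609))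
theorem Q83477 : ∀ i, i < 83477 → P i := stepQ 83476 Q83476 (allL N83476 (tt N71008 F396722) (tt N72078 F396723) (tt N72076 (iv2 F362121)) (tt N91118 (iv3 F392008)) (tt N109919 (iv4 F469215)) (tt N104132 (iv5 F444347)) (tt N49140 (iv6 D185345)) (tt N72075 (iv7 F434483)))
theorem Q83478 : ∀ i, i < 83478 → P i := stepQ 83477 Q83477 (allL N83477 (tt N83021 F386188) (tt N83028 F386189) (tt N91119 (iv2 F392012)) (tt N49141 (iv3 D185347)) (tt N113478 D216732) (tt N113479 D216733) (tt N113480 D216734) (tt N90690 (iv7 F390538)))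
theorem Q83479 : ∀ i, i < 83479 → P i := stepQ 83478 Q83478 (allL N83478 (tt N49866 (iv1 F346049)) (tt N71136 F346048) (tt N71867 F346045) (tt N113479 (iv3 F485680)) (tt N70973 (iv4 F346050)) (tt N49141 (iv5 D185349)) (tt N86247 F375575) (tt N71871 (iv7 F329311)))
theorem Q83480 : ∀ i, i < 83480 → P i := stepQ 83479 Q83479 (allL N83479 (tt N75875 F346052) (tt N113481 D216735) (tt N90689 (iv2 F390534)) (tt N113480 (iv3 F485686)) (tt N73618 F365378) (tt N71262 (iv5 F365612)) (tt N49141 (iv6 D185350)) (tt N113482 D216736))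
theorem Q83481 : ∀ i, i < 83481 → P i := stepQ 83480 Q83480 (allL N83480 (tt N113217 (iv1 F484535)) (tt N49142 (iv0 D185356)) (tt N113216 F484528) (tt N91123 F482594) (tt N110810 (iv4 F473257)) (tt N113483 D216737) (tt N113484 D216738) (tt N113215 F484525))
theorem Q83482 : ∀ i, i < 83482 → P i := stepQ 83481 Q83481 (allL N83481 (tt N49142 (iv1 D185357)) (tt N113217 F484536) (tt N113215 (iv2 F484524)) (tt N109637 (iv3 F467867)) (tt N110811 (iv4 F473263)) (tt N113485 D216739) (tt N71220 (iv6 F365613)) (tt N113216 (iv7 F484527)))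
theorem Q83483 : ∀ i, i < 83483 → P i := stepQ 83482 Q83482 (allL N83482 (tt N83022 (iv1 F289911)) (tt N89387 F386328) (tt N89389 (iv2 F386332)) (tt N49144 (iv3 D185365)) (tt N89389 (iv4 F386334)) (tt N112998 (iv5 F483491)) (tt N51689 (iv6 F356324)) (tt N83509 (iv7 F289901)))
theorem Q83484 : ∀ i, i < 83484 → P i := stepQ 83483 Q83483 (allL N83483 (tt N49145 (iv1 D185369)) (tt N82841 (iv0 F289851)) (tt N82710 (iv2 F335705)) (tt N110140 (iv3 F470147)) (tt N113486 D216740) (tt N49699 (iv5 F335583)) (tt N113487 D216741) (tt N76098 F290069))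
theorem Q83485 : ∀ i, i < 83485 → P i := stepQ 83484 Q83484 (allL N83484 (tt N109414 (iv1 F466849)) (tt N109098 (iv0 F465331)) (tt N113476 (iv2 F485663)) (tt N113488 D216742) (tt N49145 (iv4 D185370)) (tt N99785 F426208) (tt N112980 (iv6 F483426)) (tt N83512 (iv7 F287708)))
theorem Q83486 : ∀ i, i < 83486 → P i := stepQ 83485 Q83485 (allL N83485 (tt N87055 F378210) (tt N87054 (iv0 F378204)) (tt N49146 (iv2 D185372)) (tt N88420 (iv3 F382971)) (tt N77390 (iv4 F364814)) (tt N82990 F287608) (tt N77389 F364816) (tt N91148 (iv7 F392078)))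
theorem Q83487 : ∀ i, i < 83487 → P i := stepQ 83486 Q83486 (allL N83486 (tt N110383 F471332) (tt N54590 (iv0 F287609)) (tt N77390 F364813) (tt N110382 (iv3 F471322)) (tt N49146 (iv4 D185373)) (tt N89076 (iv5 F385056)) (tt N54427 (iv6 F364812)) (tt N110384 (iv7 F471336)))
theorem Q83488 : ∀ i, i < 83488 → P i := stepQ 83487 Q83487 (allL N83487 (tt N112111 (iv1 F479535)) (tt N101085 (iv0 F431606)) (tt N77389 (iv2 F364811)) (tt N49147 F287611) (tt N54427 F364810) (tt N61583 (iv5 F364808)) (tt N49146 (iv6 D185374)) (tt N110351 (iv7 F471176)))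
theorem Q83489 : ∀ i, i < 83489 → P i := stepQ 83488 Q83488 (allL N83488 (tt N110243 (iv1 F470603)) (tt N49147 (iv0 D185377)) (tt N72072 (iv2 F365544)) (tt N113489 D216743) (tt N113370 (iv4 F485218)) (tt N72067 F365543) (tt N113376 F485250) (tt N110350 (iv7 F471169)))
theorem Q83490 : ∀ i, i < 83490 → P i := stepQ 83489 Q83489 (allL N83489 (tt N49147 (iv1 D185378)) (tt N110243 (iv0 F470602)) (tt N110350 (iv2 F471173)) (tt N72078 (iv3 F365551)) (tt N76958 F353762) (tt N72073 (iv5 F365552)) (tt N77199 (iv6 F353761)) (tt N72072 F365550))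
theorem Q83491 : ∀ i, i < 83491 → P i := stepQ 83490 Q83490 (allL N83490 (tt N49424 F287621) (tt N86231 (iv0 F375489)) (tt N86232 F375493) (tt N49149 F287617) (tt N82745 (iv4 F287619)) (tt N49148 (iv5 D185382)) (tt N50464 (iv6 F292007)) (tt N49501 F287618))
theorem Q83492 : ∀ i, i < 83492 → P i := stepQ 83491 Q83491 (allL N83491 (tt N113490 D216744) (tt N113491 D216745) (tt N89700 (iv2 F387253)) (tt N49150 F287624) (tt N112563 (iv4 F481658)) (tt N89654 (iv5 F387109)) (tt N49148 (iv6 D185383)) (tt N113492 D216746))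
theorem Q83493 : ∀ i, i < 83493 → P i := stepQ 83492 Q83492 (allL N83492 (tt N110352 F471187) (tt N49150 (iv0 D185386)) (tt N77420 (iv2 F366810)) (tt N75875 (iv3 F366811)) (tt N110370 (iv4 F471277)) (tt N113465 (iv5 F485607)) (tt N75873 F366809) (tt N113214 (iv7 F484515)))
theorem Q83494 : ∀ i, i < 83494 → P i := stepQ 83493 Q83493 (allL N83493 (tt N49150 (iv1 D185387)) (tt N110352 (iv0 F471186)) (tt N113214 F484519) (tt N85358 F393084) (tt N113376 (iv4 F485249)) (tt N85357 (iv5 F393083)) (tt N113370 (iv6 F485219)) (tt N77420 F366812))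
theorem Q83495 : ∀ i, i < 83495 → P i := stepQ 83494 Q83494 (allL N83494 (tt N113214 (iv1 F484514)) (tt N77420 (iv0 F394237)) (tt N110352 (iv2 F471181)) (tt N113492 (iv3 F485749)) (tt N110244 (iv4 F470607)) (tt N91732 (iv5 F394233)) (tt N110243 F470604) (tt N49150 (iv7 D185388)))
theorem Q83496 : ∀ i, i < 83496 → P i := stepQ 83495 Q83495 (allL N83495 (tt N52896 F287637) (tt N53076 F287639) (tt N53078 (iv2 F287638)) (tt N49152 (iv3 D185412)) (tt N111284 (iv4 F475625)) (tt N49490 F287635) (tt N109552 (iv6 F467479)) (tt N49489 F287636))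
theorem Q83497 : ∀ i, i < 83497 → P i := stepQ 83496 Q83496 (allL N83496 (tt N113493 D216747) (tt N113494 D216748) (tt N88551 (iv2 F383487)) (tt N49153 (iv3 D185414)) (tt N113488 (iv4 F485733)) (tt N83063 F329966) (tt N49194 F329967) (tt N82697 F287643))
theorem Q83498 : ∀ i, i < 83498 → P i := stepQ 83497 Q83497 (allL N83497 (tt N49154 (iv1 D185416)) (tt N50520 (iv0 F292183)) (tt N50161 (iv2 F295165)) (tt N91766 (iv3 F394349)) (tt N89387 (iv4 F386323)) (tt N83688 (iv5 F288503)) (tt N50051 (iv6 F294292)) (tt N52723 F288155))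
theorem Q83499 : ∀ i, i < 83499 → P i := stepQ 83498 Q83498 (allL N83498 (tt N77049 (iv1 F363128)) (tt N82614 (iv0 F289315)) (tt N84973 (iv2 F371226)) (tt N49155 F287646) (tt N110092 (iv4 F469946)) (tt N49154 (iv5 D185417)) (tt N113495 D216749) (tt N82668 F287647))
theorem Q83500 : ∀ i, i < 83500 → P i := stepQ 83499 Q83499 (allL N83499 (tt N76873 (iv1 F308312)) (tt N82674 (iv0 F364081)) (tt N55604 (iv2 F294290)) (tt N113495 (iv3 F485763)) (tt N112899 (iv4 F483194)) (tt N52300 (iv5 F294414)) (tt N49155 (iv6 D185418)) (tt N105177 (iv7 F449117)))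
theorem Q83501 : ∀ i, i < 83501 → P i := stepQ 83500 Q83500 (allL N83500 (tt N83197 (iv1 F287651)) (tt N49156 (iv0 D185419)) (tt N83202 (iv2 F372521)) (tt N88386 (iv3 F382846)) (tt N113496 D216750) (tt N88827 (iv5 F384281)) (tt N51701 F372524) (tt N83201 (iv7 F372523)))
theorem Q83502 : ∀ i, i < 83502 → P i := stepQ 83501 Q83501 (allL N83501 (tt N49156 (iv1 D185420)) (tt N83197 F287656) (tt N83201 F372522) (tt N84975 F372519) (tt N91595 (iv4 F393736)) (tt N88826 (iv5 F384275)) (tt N83119 (iv6 F372518)) (tt N83202 F372520))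
theorem Q83503 : ∀ i, i < 83503 → P i := stepQ 83502 Q83502 (allL N83502 (tt N83202 (iv1 F287657)) (tt N83201 F287655) (tt N49156 (iv2 D185421)) (tt N50512 (iv3 F290944)) (tt N55509 F287653) (tt N54543 F365783) (tt N52306 (iv6 F293588)) (tt N83197 F287654))
theorem Q83504 : ∀ i, i < 83504 → P i := stepQ 83503 Q83503 (allL N83503 (tt N82828 F353219) (tt N82831 (iv0 F356256)) (tt N54543 F365782) (tt N49157 F287661) (tt N49745 (iv4 F365784)) (tt N49156 (iv5 D185422)) (tt N49744 (iv6 F365785)) (tt N82717 F287662))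
theorem Q83505 : ∀ i, i < 83505 → P i := stepQ 83504 Q83504 (allL N83504 (tt N110071 F469843) (tt N110164 F470249) (tt N82722 F287668) (tt N49744 F365786) (tt N84333 (iv4 F368935)) (tt N52308 (iv5 F293590)) (tt N49157 (iv6 D185424)) (tt N110163 F470242))
theorem Q83506 : ∀ i, i < 83506 → P i := stepQ 83505 Q83505 (allL N83505 (tt N50509 (iv1 F290950)) (tt N50514 (iv0 F290611)) (tt N49158 (iv2 D185427)) (tt N83197 F287674) (tt N78983 F287675) (tt N113497 D216751) (tt N51093 (iv6 F292314)) (tt N50512 (iv7 F290947)))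
theorem Q83507 : ∀ i, i < 83507 → P i := stepQ 83506 Q83506 (allL N83506 (tt N49837 F287690) (tt N53075 F287689) (tt N113497 (iv2 F485776)) (tt N49159 F287687) (tt N110175 (iv4 F470283)) (tt N49158 (iv5 D185428)) (tt N77691 F365352) (tt N82720 F287688))
theorem Q83508 : ∀ i, i < 83508 → P i := stepQ 83507 Q83507 (allL N83507 (tt N110149 F470184) (tt N113498 D216752) (tt N82719 F287691) (tt N77691 (iv3 F365351)) (tt N110327 (iv4 F471071)) (tt N55345 F287692) (tt N49159 (iv6 D185429)) (tt N112168 (iv7 F479860)))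
theorem Q83509 : ∀ i, i < 83509 → P i := stepQ 83508 Q83508 (allL N83508 (tt N82711 (iv1 F335588)) (tt N49700 F343876) (tt N82714 (iv2 F346007)) (tt N84978 (iv3 F371248)) (tt N64750 F369011) (tt N49160 (iv5 D185431)) (tt N100939 (iv6 F431033)) (tt N82713 (iv7 F362134)))
theorem Q83510 : ∀ i, i < 83510 → P i := stepQ 83509 Q83509 (allL N83509 (tt N84889 F371012) (tt N88386 (iv0 F382848)) (tt N53528 (iv2 F289866)) (tt N49161 (iv3 D185434)) (tt N53528 (iv4 F289867)) (tt N110142 (iv5 F470156)) (tt N53526 F289864) (tt N83482 F289901))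
theorem Q83511 : ∀ i, i < 83511 → P i := stepQ 83510 Q83510 (allL N83510 (tt N49700 F343874) (tt N82711 (iv0 F335587)) (tt N82713 (iv2 F362132)) (tt N110142 (iv3 F470155)) (tt N99781 (iv4 F426190)) (tt N49161 (iv5 D185435)) (tt N113499 D216753) (tt N82714 (iv7 F346009)))
theorem Q83512 : ∀ i, i < 83512 → P i := stepQ 83511 Q83511 (allL N83511 (tt N50684 (iv1 F295148)) (tt N50058 (iv0 F294266)) (tt N49164 F287699) (tt N50056 (iv3 F293664)) (tt N54496 F287701) (tt N88934 (iv5 F384559)) (tt N49162 (iv6 D185438)) (tt N50685 (iv7 F294105)))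
theorem Q83513 : ∀ i, i < 83513 → P i := stepQ 83512 Q83512 (allL N83512 (tt N113500 D216754) (tt N84079 (iv0 F368032)) (tt N109452 (iv2 F467026)) (tt N112975 (iv3 F483412)) (tt N49163 (iv4 D185441)) (tt N75103 (iv5 F365327)) (tt N113501 D216755) (tt N83484 F287708))
theorem Q83514 : ∀ i, i < 83514 → P i := stepQ 83513 Q83513 (allL N83513 (tt N113502 D216756) (tt N113503 D216757) (tt N113073 (iv2 F483851)) (tt N49165 F287709) (tt N113501 (iv4 F485799)) (tt N82262 (iv5 F290038)) (tt N49163 (iv6 D185442)) (tt N113504 D216758))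
theorem Q83515 : ∀ i, i < 83515 → P i := stepQ 83514 Q83514 (allL N83514 (tt N82698 (iv1 F356713)) (tt N49165 (iv0 D185445)) (tt N113071 F483842) (tt N113505 D216759) (tt N82693 F391198) (tt N92827 (iv5 F398402)) (tt N113506 D216760) (tt N113072 (iv7 F483845)))
theorem Q83516 : ∀ i, i < 83516 → P i := stepQ 83515 Q83515 (allL N83515 (tt N49165 (iv1 D185446)) (tt N82698 F356711) (tt N113072 F483850) (tt N113507 D216761) (tt N82692 (iv4 F377045)) (tt N92826 (iv5 F398395)) (tt N113508 D216762) (tt N113071 F483843))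
theorem Q83517 : ∀ i, i < 83517 → P i := stepQ 83516 Q83516 (allL N83516 (tt N113072 (iv1 F483844)) (tt N113071 (iv0 F483840)) (tt N82698 (iv2 F356709)) (tt N113504 (iv3 F485812)) (tt N82837 F356710) (tt N61212 (iv5 F356712)) (tt N82623 (iv6 F329951)) (tt N49165 (iv7 D185447)))
theorem Q83518 : ∀ i, i < 83518 → P i := stepQ 83517 Q83517 (allL N83517 (tt N85705 (iv1 F373596)) (tt N85457 (iv0 F372688)) (tt N49169 F287715) (tt N49974 F356261) (tt N49178 F287716) (tt N87623 (iv5 F379917)) (tt N49167 (iv6 D185453)) (tt N83572 (iv7 F357375)))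
theorem Q83519 : ∀ i, i < 83519 → P i := stepQ 83518 Q83518 (allL N83518 (tt N83572 (iv1 F367075)) (tt N49169 (iv0 D185458)) (tt N85705 (iv2 F373599)) (tt N84663 (iv3 F370096)) (tt N84871 (iv4 F370936)) (tt N87934 (iv5 F381220)) (tt N87762 F380413) (tt N85457 (iv7 F372687)))
theorem Q83520 : ∀ i, i < 83520 → P i := stepQ 83519 Q83519 (allL N83519 (tt N49169 (iv1 D185459)) (tt N83572 F357387) (tt N85457 (iv2 F372684)) (tt N82591 (iv3 F370984)) (tt N84879 (iv4 F370983)) (tt N87935 (iv5 F381227)) (tt N55055 F370985) (tt N85705 (iv7 F373597)))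
theorem Q83521 : ∀ i, i < 83521 → P i := stepQ 83520 Q83520 (allL N83520 (tt N51715 (iv1 F287721)) (tt N51665 (iv0 F287720)) (tt N87799 F380556) (tt N49170 (iv3 D185460)) (tt N95164 (iv4 F407277)) (tt N49967 F287718) (tt N95162 F407271) (tt N52708 F287719))
theorem Q83522 : ∀ i, i < 83522 → P i := stepQ 83521 Q83521 (allL N83521 (tt N80933 F337337) (tt N80931 F337345) (tt N80929 (iv2 F337348)) (tt N95162 (iv3 F407269)) (tt N55482 F287723) (tt N83226 (iv5 F358417)) (tt N49170 (iv6 D185461)) (tt N80930 (iv7 F337350)))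
theorem Q83523 : ∀ i, i < 83523 → P i := stepQ 83522 Q83522 (allL N83522 (tt N55419 (iv1 F287726)) (tt N55421 (iv0 F287725)) (tt N87722 F380258) (tt N49171 (iv3 D185462)) (tt N104909 (iv4 F447890)) (tt N49966 F287724) (tt N111064 (iv6 F474489)) (tt N84563 (iv7 F369701)))
theorem Q83524 : ∀ i, i < 83524 → P i := stepQ 83523 Q83523 (allL N83523 (tt N58597 (iv1 F365443)) (tt N58654 F363543) (tt N58740 (iv2 F340610)) (tt N49172 (iv3 D185464)) (tt N58376 (iv4 F340611)) (tt N87392 (iv5 F379223)) (tt N58374 F340613) (tt N71196 F340609))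
theorem Q83525 : ∀ i, i < 83525 → P i := stepQ 83524 Q83524 (allL N83524 (tt N55573 (iv1 F363528)) (tt N55577 (iv0 F363516)) (tt N87758 (iv2 F380396)) (tt N58374 (iv3 F363511)) (tt N49173 F287730) (tt N86483 (iv5 F376357)) (tt N49172 (iv6 D185465)) (tt N49173 F363514))
theorem Q83526 : ∀ i, i < 83526 → P i := stepQ 83525 Q83525 (allL N83525 (tt N87758 (iv1 F380402)) (tt N49173 (iv0 D185466)) (tt N55577 (iv2 F363522)) (tt N113509 D216763) (tt N55527 F363515) (tt N56292 F363521) (tt N58554 F363523) (tt N55573 (iv7 F363527)))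
theorem Q83527 : ∀ i, i < 83527 → P i := stepQ 83526 Q83526 (allL N83526 (tt N49173 (iv1 D185467)) (tt N87758 (iv0 F380401)) (tt N55573 F363526) (tt N113510 D216764) (tt N55526 (iv4 F363525)) (tt N93153 (iv5 F399687)) (tt N58625 (iv6 F378723)) (tt N55577 F363524))
theorem Q83528 : ∀ i, i < 83528 → P i := stepQ 83527 Q83527 (allL N83527 (tt N91434 F393116) (tt N49175 (iv0 D185469)) (tt N83155 F363039) (tt N91461 (iv3 F393233)) (tt N53913 F343085) (tt N87226 (iv5 F378815)) (tt N53911 (iv6 F363038)) (tt N91918 (iv7 F394960)))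
theorem Q83529 : ∀ i, i < 83529 → P i := stepQ 83528 Q83528 (allL N83528 (tt N49175 (iv1 D185470)) (tt N91434 (iv0 F393115)) (tt N91918 F394958) (tt N87013 (iv3 F381185)) (tt N90889 (iv4 F391179)) (tt N87227 F380581) (tt N52240 (iv6 F370114)) (tt N83155 F363040))
theorem Q83530 : ∀ i, i < 83530 → P i := stepQ 83529 Q83529 (allL N83529 (tt N83155 F381645) (tt N91918 F394959) (tt N49175 (iv2 D185471)) (tt N52263 F287731) (tt N49193 F287732) (tt N88070 (iv5 F381675)) (tt N52229 F287733) (tt N91434 (iv7 F393114)))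
theorem Q83531 : ∀ i, i < 83531 → P i := stepQ 83530 Q83530 (allL N83530 (tt N106321 F454021) (tt N106341 F454085) (tt N106339 (iv2 F454080)) (tt N84376 (iv3 F369070)) (tt N106665 F455215) (tt N89265 (iv5 F385842)) (tt N49176 (iv6 D185473)) (tt N106338 F455120))
theorem Q83532 : ∀ i, i < 83532 → P i := stepQ 83531 Q83531 (allL N83531 (tt N91164 (iv1 F485851)) (tt N113511 D216766) (tt N49182 F287735) (tt N90688 (iv3 F390533)) (tt N110724 (iv4 F472906)) (tt N109201 F465771) (tt N49177 (iv6 D185475)) (tt N113512 D216767))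
theorem Q83533 : ∀ i, i < 83533 → P i := stepQ 83532 Q83532 (allL N83532 (tt N49472 (iv1 F287769)) (tt N53137 (iv0 F287737)) (tt N49184 F287736) (tt N82855 (iv3 F290131)) (tt N113513 D216768) (tt N49178 (iv5 D185476)) (tt N109201 (iv6 F465769)) (tt N53139 (iv7 F287738)))
theorem Q83534 : ∀ i, i < 83534 → P i := stepQ 83533 Q83533 (allL N83533 (tt N89333 (iv1 F386153)) (tt N89334 (iv0 F386160)) (tt N84740 (iv2 F370435)) (tt N49179 (iv3 D185477)) (tt N76845 (iv4 F361011)) (tt N105320 (iv5 F449698)) (tt N76704 (iv6 F361008)) (tt N89338 (iv7 F386181)))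
theorem Q83535 : ∀ i, i < 83535 → P i := stepQ 83534 Q83534 (allL N83534 (tt N110614 (iv1 F472405)) (tt N110612 (iv0 F472394)) (tt N72672 (iv2 F359515)) (tt N113514 D216769) (tt N49179 (iv4 D185478)) (tt N61838 (iv5 F359521)) (tt N113515 D216770) (tt N72669 F359520))
theorem Q83536 : ∀ i, i < 83536 → P i := stepQ 83535 Q83535 (allL N83535 (tt N53002 (iv1 F287746)) (tt N53001 (iv0 F287743)) (tt N49790 F287741) (tt N105320 (iv3 F449697)) (tt N96896 (iv4 F414494)) (tt N49179 (iv5 D185479)) (tt N82735 (iv6 F287744)) (tt N52998 F287742))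
theorem Q83537 : ∀ i, i < 83537 → P i := stepQ 83536 Q83536 (allL N83536 (tt N113516 D216771) (tt N85358 (iv0 F372345)) (tt N89802 (iv2 F387603)) (tt N76704 F361007) (tt N113515 (iv4 F485867)) (tt N76703 (iv5 F361006)) (tt N49179 (iv6 D185480)) (tt N113517 D216772))
theorem Q83538 : ∀ i, i < 83538 → P i := stepQ 83537 Q83537 (allL N83537 (tt N110612 (iv1 F472395)) (tt N110614 (iv0 F472404)) (tt N72669 F359519) (tt N101304 (iv3 F432591)) (tt N49180 (iv4 D185481)) (tt N61837 (iv5 F359528)) (tt N113518 D216773) (tt N72672 (iv7 F359516)))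
theorem Q83539 : ∀ i, i < 83539 → P i := stepQ 83538 Q83538 (allL N83538 (tt N113489 F485740) (tt N113519 D216774) (tt N113211 (iv2 F484499)) (tt N53007 F287749) (tt N113518 (iv4 F485877)) (tt N53000 F287750) (tt N49180 (iv6 D185482)) (tt N113520 D216775))
theorem Q83540 : ∀ i, i < 83540 → P i := stepQ 83539 Q83539 (allL N83539 (tt N110617 (iv1 F472422)) (tt N49181 (iv0 D185483)) (tt N72661 (iv2 F359525)) (tt N113521 D216776) (tt N90806 F390931) (tt N61834 F359526) (tt N113522 D216777) (tt N72659 F359527))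
theorem Q83541 : ∀ i, i < 83541 → P i := stepQ 83540 Q83540 (allL N83540 (tt N49181 (iv1 D185484)) (tt N110617 (iv0 F472421)) (tt N72659 (iv2 F359523)) (tt N99250 (iv3 F423839)) (tt N90876 (iv4 F391128)) (tt N61833 F359522) (tt N113523 D216778) (tt N72661 (iv7 F359524)))
theorem Q83542 : ∀ i, i < 83542 → P i := stepQ 83541 Q83541 (allL N83541 (tt N109995 F469496) (tt N113524 D216779) (tt N109963 (iv2 F469395)) (tt N49181 (iv3 D185485)) (tt N49185 F287751) (tt N72284 F363546) (tt N113525 D216780) (tt N109663 (iv7 F467989)))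
theorem Q83543 : ∀ i, i < 83543 → P i := stepQ 83542 Q83542 (allL N83542 (tt N113526 D216781) (tt N113527 D216782) (tt N110724 (iv2 F472905)) (tt N113525 (iv3 F485902)) (tt N49182 F287752) (tt N73618 F363547) (tt N49181 (iv6 D185487)) (tt N113525 (iv7 F485905)))
theorem Q83544 : ∀ i, i < 83544 → P i := stepQ 83543 Q83543 (allL N83543 (tt N113512 (iv1 F485855)) (tt N49182 (iv0 D185488)) (tt N91164 (iv2 F392120)) (tt N113528 D216783) (tt N113529 D216784) (tt N111177 F475098) (tt N113530 D216785) (tt N113511 (iv7 F485850)))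
theorem Q83545 : ∀ i, i < 83545 → P i := stepQ 83544 Q83544 (allL N83544 (tt N49182 (iv1 D185489)) (tt N113512 F485854) (tt N113511 F485849) (tt N84745 F384548) (tt N113531 D216786) (tt N88923 (iv5 F384547)) (tt N113532 D216787) (tt N91164 (iv7 F392119)))
theorem Q83546 : ∀ i, i < 83546 → P i := stepQ 83545 Q83545 (allL N83545 (tt N109204 F465781) (tt N84761 (iv0 F370531)) (tt N109201 F465770) (tt N49189 F287753) (tt N113533 D216788) (tt N49182 (iv5 D185490)) (tt N49184 F287754) (tt N109202 (iv7 F465774)))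
theorem Q83547 : ∀ i, i < 83547 → P i := stepQ 83546 Q83546 (allL N83546 (tt N113511 (iv1 F485847)) (tt N91164 (iv0 F392128)) (tt N113512 (iv2 F485852)) (tt N49186 F329980) (tt N113525 (iv4 F485903)) (tt N109202 F465776) (tt N49185 F329981) (tt N49182 (iv7 D185491)))
theorem Q83548 : ∀ i, i < 83548 → P i := stepQ 83547 Q83547 (allL N83547 (tt N53139 (iv1 F287770)) (tt N49184 (iv0 D185494)) (tt N49472 (iv2 F287765)) (tt N53148 F287766) (tt N113534 D216789) (tt N49471 F287767) (tt N106984 (iv6 F456520)) (tt N53137 F287768))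
theorem Q83549 : ∀ i, i < 83549 → P i := stepQ 83548 Q83548 (allL N83548 (tt N113535 D216790) (tt N113536 D216791) (tt N113513 (iv2 F485856)) (tt N113537 D216792) (tt N49184 (iv4 D185495)) (tt N113538 D216793) (tt N113533 (iv6 F485920)) (tt N85708 (iv7 F373609)))
theorem Q83550 : ∀ i, i < 83550 → P i := stepQ 83549 Q83549 (allL N83549 (tt N113210 F484496) (tt N49185 (iv0 D185497)) (tt N91142 (iv2 F392066)) (tt N113539 D216794) (tt N98931 F433012) (tt N113540 D216795) (tt N98941 (iv6 F433013)) (tt N113212 (iv7 F484506)))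
theorem Q83551 : ∀ i, i < 83551 → P i := stepQ 83550 Q83550 (allL N83550 (tt N49185 (iv1 D185498)) (tt N113210 F484498) (tt N113212 F484504) (tt N88423 (iv3 F390255)) (tt N112566 (iv4 F481674)) (tt N113541 D216796) (tt N113542 D216797) (tt N91142 (iv7 F392064)))
theorem Q83552 : ∀ i, i < 83552 → P i := stepQ 83551 Q83551 (allL N83551 (tt N91142 (iv1 F469399)) (tt N113212 F484505) (tt N49185 (iv2 D185499)) (tt N113217 (iv3 F484532)) (tt N109963 F469398) (tt N112974 (iv5 F483410)) (tt N113512 (iv6 F485853)) (tt N113210 F484497))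
theorem Q83553 : ∀ i, i < 83553 → P i := stepQ 83552 Q83552 (allL N83552 (tt N85703 (iv1 F373585)) (tt N85702 F373584) (tt N85704 (iv2 F373589)) (tt N109202 F465775) (tt N79043 (iv4 F356698)) (tt N49186 (iv5 D185503)) (tt N79045 F356700) (tt N49189 F329983))
theorem Q83554 : ∀ i, i < 83554 → P i := stepQ 83553 Q83553 (allL N83553 (tt N91157 F460974) (tt N89642 (iv0 F457381)) (tt N91155 F392109) (tt N49187 (iv3 D185506)) (tt N113543 D216798) (tt N113544 D216799) (tt N107181 F457380) (tt N91156 F392107))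
theorem Q83555 : ∀ i, i < 83555 → P i := stepQ 83554 Q83554 (allL N83554 (tt N113093 (iv1 F483946)) (tt N113092 F483945) (tt N85855 (iv2 F374228)) (tt N113544 (iv3 F485959)) (tt N50100 F356717) (tt N49187 (iv5 D185508)) (tt N113094 (iv6 F483953)) (tt N85852 (iv7 F374217)))
theorem Q83556 : ∀ i, i < 83556 → P i := stepQ 83555 Q83555 (allL N83555 (tt N113469 F485630) (tt N113545 D216800) (tt N113546 D216801) (tt N49188 (iv3 D185511)) (tt N113547 D216802) (tt N113090 F483938) (tt N113548 D216803) (tt N110377 F471302))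
theorem Q83557 : ∀ i, i < 83557 → P i := stepQ 83556 Q83556 (allL N83556 (tt N65173 F338007) (tt N75873 F338009) (tt N75489 (iv2 F338013)) (tt N113548 (iv3 F485977)) (tt N77162 (iv4 F338008)) (tt N64002 (iv5 F307392)) (tt N49188 (iv6 D185513)) (tt N75472 (iv7 F307391)))
theorem Q83558 : ∀ i, i < 83558 → P i := stepQ 83557 Q83557 (allL N83557 (tt N85704 (iv1 F373594)) (tt N49189 (iv0 D185514)) (tt N85702 F373582) (tt N105574 (iv3 F450798)) (tt N50103 F362834) (tt N110341 (iv5 F471129)) (tt N104388 (iv6 F445544)) (tt N85703 (iv7 F373586)))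
theorem Q83559 : ∀ i, i < 83559 → P i := stepQ 83558 Q83558 (allL N83558 (tt N49189 (iv1 D185515)) (tt N85704 F373593) (tt N85703 F373588) (tt N113549 D216804) (tt N50102 (iv4 F356716)) (tt N113550 D216805) (tt N110269 F470749) (tt N85702 F373583))
theorem Q83560 : ∀ i, i < 83560 → P i := stepQ 83559 Q83559 (allL N83559 (tt N98244 (iv1 F420119)) (tt N98243 F420117) (tt N85701 (iv2 F373576)) (tt N79049 (iv3 F356697)) (tt N49189 (iv4 D185516)) (tt N79044 (iv5 F356699)) (tt N49190 F287782) (tt N79043 F356661))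
theorem Q83561 : ∀ i, i < 83561 → P i := stepQ 83560 Q83560 (allL N83560 (tt N98235 (iv1 F420087)) (tt N61590 (iv0 F356720)) (tt N85283 (iv2 F372168)) (tt N49190 (iv3 D185518)) (tt N113537 (iv4 F485935)) (tt N66807 (iv5 F356718)) (tt N79049 F356715) (tt N66806 (iv7 F356719)))
theorem Q83562 : ∀ i, i < 83562 → P i := stepQ 83561 Q83561 (allL N83561 (tt N84975 (iv1 F371237)) (tt N53492 (iv0 F288154)) (tt N50441 F287787) (tt N49191 (iv3 D185520)) (tt N50448 F287789) (tt N113551 D216806) (tt N50439 F287788) (tt N84976 (iv7 F371241)))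
theorem Q83563 : ∀ i, i < 83563 → P i := stepQ 83562 Q83562 (allL N83562 (tt N55388 (iv1 F366989)) (tt N54945 F367168) (tt N53611 F287790) (tt N55013 F287791) (tt N49191 (iv4 D185521)) (tt N88105 (iv5 F381804)) (tt N53607 F287792) (tt N55389 (iv7 F366988)))
theorem Q83564 : ∀ i, i < 83564 → P i := stepQ 83563 Q83563 (allL N83563 (tt N52882 F287794) (tt N52881 (iv0 F287795)) (tt N53616 F287793) (tt N113551 (iv3 F485995)) (tt N113552 D216807) (tt N49191 (iv5 D185522)) (tt N113553 D216808) (tt N82732 (iv7 F287802)))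
theorem Q83565 : ∀ i, i < 83565 → P i := stepQ 83564 Q83564 (allL N83564 (tt N52881 (iv1 F287799)) (tt N52882 (iv0 F287798)) (tt N82732 F287800) (tt N49832 F287796) (tt N113554 D216809) (tt N49192 (iv5 D185523)) (tt N113555 D216810) (tt N53616 F287797))
theorem Q83566 : ∀ i, i < 83566 → P i := stepQ 83565 Q83565 (allL N83565 (tt N113556 D216811) (tt N110874 F473555) (tt N88550 (iv2 F383486)) (tt N112980 (iv3 F483425)) (tt N49194 (iv4 D185524)) (tt N72556 (iv5 F349147)) (tt N113488 (iv6 F485735)) (tt N88548 (iv7 F383483)))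
theorem Q83567 : ∀ i, i < 83567 → P i := stepQ 83566 Q83566 (allL N83566 (tt N79682 (iv1 F287811)) (tt N49195 (iv0 D185529)) (tt N65605 (iv2 F334380)) (tt N91193 (iv3 F392228)) (tt N88915 (iv4 F384525)) (tt N86622 F376617) (tt N88914 F384523) (tt N79681 F334376))
theorem Q83568 : ∀ i, i < 83568 → P i := stepQ 83567 Q83567 (allL N83567 (tt N65605 (iv1 F334370)) (tt N79681 F287815) (tt N49195 (iv2 D185531)) (tt N67459 (iv3 F341824)) (tt N69218 (iv4 F323703)) (tt N88374 (iv5 F382785)) (tt N80373 (iv6 F334343)) (tt N79682 F287814))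
theorem Q83569 : ∀ i, i < 83569 → P i := stepQ 83568 Q83568 (allL N83568 (tt N67459 (iv1 F341822)) (tt N49196 (iv0 D185557)) (tt N67460 (iv2 F341829)) (tt N65594 F405946) (tt N94858 (iv4 F406170)) (tt N88322 (iv5 F382583)) (tt N87826 (iv6 F380696)) (tt N67447 F341828))
theorem Q83570 : ∀ i, i < 83570 → P i := stepQ 83569 Q83569 (allL N83569 (tt N67460 (iv1 F354391)) (tt N67447 (iv0 F354388)) (tt N49196 (iv2 D185559)) (tt N79682 F287860) (tt N79187 F287861) (tt N88353 (iv5 F382714)) (tt N94838 F406117) (tt N67459 (iv7 F341826)))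
theorem Q83571 : ∀ i, i < 83571 → P i := stepQ 83570 Q83570 (allL N83570 (tt N65580 F366140) (tt N94684 (iv0 F405516)) (tt N94838 F406116) (tt N49197 F287866) (tt N79189 F287867) (tt N102058 (iv5 F435546)) (tt N49196 (iv6 D185560)) (tt N66058 (iv7 F362999)))
theorem Q83572 : ∀ i, i < 83572 → P i := stepQ 83571 Q83571 (allL N83571 (tt N65888 F333480) (tt N65781 F360442) (tt N66062 (iv2 F325538)) (tt N102058 F435547) (tt N65777 (iv4 F366142)) (tt N49197 (iv5 D185561)) (tt N88355 (iv6 F382719)) (tt N66059 (iv7 F366016)))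
theorem Q83573 : ∀ i, i < 83573 → P i := stepQ 83572 Q83572 (allL N83572 (tt N83519 (iv1 F357387)) (tt N83518 F367075) (tt N50689 F287915) (tt N49198 (iv3 D185593)) (tt N50056 F287916) (tt N88361 (iv5 F382739)) (tt N91434 (iv6 F393113)) (tt N83517 F357375))
theorem Q83574 : ∀ i, i < 83574 → P i := stepQ 83573 Q83573 (allL N83573 (tt N53409 (iv1 F295183)) (tt N53408 (iv0 F295181)) (tt N52166 (iv2 F294443)) (tt N54496 (iv3 F295366)) (tt N49198 (iv4 D185594)) (tt N87675 (iv5 F380112)) (tt N54449 F356259) (tt N53406 (iv7 F295185)))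
theorem Q83575 : ∀ i, i < 83575 → P i := stepQ 83574 Q83574 (allL N83574 (tt N52700 F356264) (tt N52454 F356266) (tt N49201 F287923) (tt N84677 (iv3 F370177)) (tt N86609 (iv4 F376593)) (tt N49200 (iv5 D185599)) (tt N108562 (iv6 F463072)) (tt N84656 (iv7 F370073)))
theorem Q83576 : ∀ i, i < 83576 → P i := stepQ 83575 Q83575 (allL N83575 (tt N86610 (iv1 F381948)) (tt N86440 F381947) (tt N86609 F376594) (tt N111666 (iv3 F477382)) (tt N49201 (iv4 D185603)) (tt N113557 D216812) (tt N113558 D216813) (tt N84657 (iv7 F370076)))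
theorem Q83577 : ∀ i, i < 83577 → P i := stepQ 83576 Q83576 (allL N83576 (tt N106872 F456087) (tt N113559 D216814) (tt N108562 (iv2 F463071)) (tt N49202 F287925) (tt N113558 (iv4 F486029)) (tt N91924 (iv5 F394974)) (tt N49201 (iv6 D185604)) (tt N113560 D216815))
theorem Q83578 : ∀ i, i < 83578 → P i := stepQ 83577 Q83577 (allL N83577 (tt N84682 (iv1 F370203)) (tt N49202 (iv0 D185609)) (tt N84680 (iv2 F370193)) (tt N113561 D216816) (tt N79688 F370194) (tt N111894 (iv5 F478541)) (tt N103200 F440541) (tt N84681 (iv7 F370196)))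
theorem Q83579 : ∀ i, i < 83579 → P i := stepQ 83578 Q83578 (allL N83578 (tt N49202 (iv1 D185610)) (tt N84682 F370202) (tt N84681 F370198) (tt N86908 F377671) (tt N79691 F358961) (tt N111892 (iv5 F478534)) (tt N113562 D216817) (tt N84680 F370192))
theorem Q83580 : ∀ i, i < 83580 → P i := stepQ 83579 Q83579 (allL N83579 (tt N84681 (iv1 F370195)) (tt N84680 F370199) (tt N84682 (iv2 F370200)) (tt N113560 (iv3 F486034)) (tt N100736 (iv4 F430225)) (tt N84557 (iv5 F369689)) (tt N84661 (iv6 F370084)) (tt N49202 (iv7 D185612)))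
theorem Q83581 : ∀ i, i < 83581 → P i := stepQ 83580 Q83580 (allL N83580 (tt N83373 (iv1 F370206)) (tt N50524 F370942) (tt N50155 F357382) (tt N85143 (iv3 F371729)) (tt N49203 (iv4 D185626)) (tt N113563 D216818) (tt N83026 F357384) (tt N84683 (iv7 F370205)))
theorem Q83582 : ∀ i, i < 83582 → P i := stepQ 83581 Q83581 (allL N83581 (tt N50524 (iv1 F370943)) (tt N83373 (iv0 F367113)) (tt N84683 (iv2 F370204)) (tt N50051 F287947) (tt N49204 (iv4 D185631)) (tt N86319 (iv5 F375815)) (tt N91766 (iv6 F394350)) (tt N50155 F357381))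
theorem Q83583 : ∀ i, i < 83583 → P i := stepQ 83582 Q83582 (allL N83582 (tt N49206 (iv1 D185637)) (tt N52655 F335374) (tt N52626 (iv2 F335375)) (tt N111729 (iv3 F477702)) (tt N113564 D216819) (tt N50674 F335376) (tt N111727 F477695) (tt N52492 F335377))
theorem Q83584 : ∀ i, i < 83584 → P i := stepQ 83583 Q83583 (allL N83583 (tt N87936 (iv1 F381232)) (tt N113565 D216820) (tt N110916 (iv2 F473770)) (tt N82820 (iv3 F365806)) (tt N49206 (iv4 D185638)) (tt N113566 D216821) (tt N109805 (iv6 F468706)) (tt N52656 (iv7 F365810)))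
theorem Q83585 : ∀ i, i < 83585 → P i := stepQ 83584 Q83584 (allL N83584 (tt N52667 (iv1 F293089)) (tt N49207 (iv0 D185643)) (tt N52665 (iv2 F355506)) (tt N81626 (iv3 F362562)) (tt N103271 (iv4 F440909)) (tt N60217 (iv5 F358269)) (tt N81623 F362561) (tt N52666 (iv7 F355508)))
theorem Q83586 : ∀ i, i < 83586 → P i := stepQ 83585 Q83585 (allL N83585 (tt N49207 (iv1 D185644)) (tt N52667 (iv0 F293088)) (tt N52666 F355507) (tt N56642 F348083) (tt N56661 (iv4 F348084)) (tt N60216 (iv5 F358248)) (tt N56640 (iv6 F348085)) (tt N52665 F355505))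
theorem Q83587 : ∀ i, i < 83587 → P i := stepQ 83586 Q83586 (allL N83586 (tt N52666 (iv1 F293087)) (tt N52665 (iv0 F293086)) (tt N52667 (iv2 F293090)) (tt N72315 F348759) (tt N79738 F348728) (tt N55237 (iv5 F348758)) (tt N52661 (iv6 F348729)) (tt N49207 (iv7 D185646)))
theorem Q83588 : ∀ i, i < 83588 → P i := stepQ 83587 Q83587 (allL N83587 (tt N84664 F370102) (tt N85454 (iv0 F372678)) (tt N87836 (iv2 F380764)) (tt N49208 (iv3 D185649)) (tt N51686 F287961) (tt N86572 (iv5 F376512)) (tt N90643 F390383) (tt N83712 (iv7 F350441)))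
theorem Q83589 : ∀ i, i < 83589 → P i := stepQ 83588 Q83588 (allL N83588 (tt N52643 (iv1 F292589)) (tt N52534 (iv0 F292588)) (tt N49211 F287966) (tt N52655 (iv3 F335373)) (tt N49331 F340447) (tt N49210 (iv5 D185656)) (tt N94437 (iv6 F404479)) (tt N52662 (iv7 F292595)))
theorem Q83590 : ∀ i, i < 83590 → P i := stepQ 83589 Q83589 (allL N83589 (tt N69605 (iv1 F376681)) (tt N69601 F376736) (tt N94437 (iv2 F404476)) (tt N49212 F287968) (tt N57212 (iv4 F361221)) (tt N84543 (iv5 F369656)) (tt N49211 (iv6 D185660)) (tt N57209 F361220))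
theorem Q83591 : ∀ i, i < 83591 → P i := stepQ 83590 Q83590 (allL N83590 (tt N52661 (iv1 F348732)) (tt N49212 (iv0 D185665)) (tt N52659 F418570) (tt N87140 F418571) (tt N100712 (iv4 F430143)) (tt N111515 (iv5 F476673)) (tt N106444 (iv6 F454476)) (tt N52660 F418572))
theorem Q83592 : ∀ i, i < 83592 → P i := stepQ 83591 Q83591 (allL N83591 (tt N49212 (iv1 D185666)) (tt N52661 F367193) (tt N52660 F418573) (tt N113567 D216822) (tt N100711 (iv4 F430137)) (tt N111519 (iv5 F476694)) (tt N111526 (iv6 F476741)) (tt N52659 F418574))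
theorem Q83593 : ∀ i, i < 83593 → P i := stepQ 83592 Q83592 (allL N83592 (tt N52660 (iv1 F367192)) (tt N52659 F348735) (tt N52661 F348730) (tt N57209 (iv3 F361219)) (tt N79734 (iv4 F348731)) (tt N80265 (iv5 F348737)) (tt N52667 (iv6 F293091)) (tt N49212 (iv7 D185668)))
theorem Q83594 : ∀ i, i < 83594 → P i := stepQ 83593 Q83593 (allL N83593 (tt N55586 F350511) (tt N55530 F350523) (tt N49213 (iv2 D185682)) (tt N55585 (iv3 F294384)) (tt N51423 (iv4 F292484)) (tt N87137 (iv5 F378503)) (tt N91169 (iv6 F392140)) (tt N55587 F350513))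
theorem Q83595 : ∀ i, i < 83595 → P i := stepQ 83594 Q83594 (allL N83594 (tt N51781 (iv1 F348099)) (tt N51783 F348100) (tt N49215 F287988) (tt N60256 F348095) (tt N49214 (iv4 D185691)) (tt N49215 F287989) (tt N83741 (iv6 F348096)) (tt N52048 (iv7 F348097)))
theorem Q83596 : ∀ i, i < 83596 → P i := stepQ 83595 Q83595 (allL N83595 (tt N52022 F367204) (tt N86770 (iv0 F377120)) (tt N49216 F287990) (tt N88309 (iv3 F382539)) (tt N83741 F348102) (tt N51932 (iv5 F367203)) (tt N49214 (iv6 D185692)) (tt N91996 (iv7 F395305)))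
theorem Q83597 : ∀ i, i < 83597 → P i := stepQ 83596 Q83596 (allL N83596 (tt N92932 (iv1 F398806)) (tt N92931 F398805) (tt N86668 (iv2 F376730)) (tt N49215 (iv3 D185701)) (tt N49217 F287995) (tt N60256 (iv5 F348094)) (tt N85298 (iv6 F372206)) (tt N55588 F348093))
theorem Q83598 : ∀ i, i < 83598 → P i := stepQ 83597 Q83597 (allL N83597 (tt N97177 (iv1 F415770)) (tt N97176 F415767) (tt N83741 F348101) (tt N85298 F372203) (tt N49216 F287996) (tt N85762 (iv5 F373821)) (tt N49215 (iv6 D185702)) (tt N85761 F373817))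
theorem Q83599 : ∀ i, i < 83599 → P i := stepQ 83598 Q83598 (allL N83598 (tt N91996 (iv1 F395306)) (tt N49216 (iv0 D185703)) (tt N52022 (iv2 F367199)) (tt N97965 (iv3 F418991)) (tt N51251 F367200) (tt N109323 (iv5 F466387)) (tt N51758 F367198) (tt N86770 (iv7 F377119)))
theorem Q83600 : ∀ i, i < 83600 → P i := stepQ 83599 Q83599 (allL N83599 (tt N49216 (iv1 D185704)) (tt N91996 (iv0 F395307)) (tt N86770 (iv2 F377118)) (tt N108639 (iv3 F463322)) (tt N51250 (iv4 F367202)) (tt N113568 D216823) (tt N108638 F463321) (tt N52022 F367201))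
theorem Q83601 : ∀ i, i < 83601 → P i := stepQ 83600 Q83600 (allL N83600 (tt N86770 (iv1 F377122)) (tt N52022 (iv0 F363598)) (tt N91996 (iv2 F395302)) (tt N49221 F287997) (tt N85761 (iv4 F373816)) (tt N55501 (iv5 F363595)) (tt N55583 F363596) (tt N49216 (iv7 D185705)))
theorem Q83602 : ∀ i, i < 83602 → P i := stepQ 83601 Q83601 (allL N83601 (tt N68605 (iv1 F363245)) (tt N49217 (iv0 D185723)) (tt N84697 F373475) (tt N65505 F347542) (tt N92933 F398819) (tt N65502 (iv5 F347544)) (tt N102220 (iv6 F436244)) (tt N84696 F373473))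
theorem Q83603 : ∀ i, i < 83603 → P i := stepQ 83602 Q83602 (allL N83602 (tt N49217 (iv1 D185724)) (tt N68605 (iv0 F358224)) (tt N84696 (iv2 F373474)) (tt N111676 (iv3 F477428)) (tt N85756 (iv4 F373801)) (tt N79673 F358378) (tt N67489 (iv6 F358222)) (tt N84697 (iv7 F373476)))
theorem Q83604 : ∀ i, i < 83604 → P i := stepQ 83603 Q83603 (allL N83603 (tt N84697 (iv1 F370266)) (tt N84696 F370265) (tt N49217 (iv2 D185725)) (tt N79356 (iv3 F324247)) (tt N86668 (iv4 F376732)) (tt N80205 F288005) (tt N79355 F358244) (tt N68605 F358217))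
theorem Q83605 : ∀ i, i < 83605 → P i := stepQ 83604 Q83604 (allL N83604 (tt N86857 (iv1 F377459)) (tt N54881 (iv0 F358227)) (tt N79355 (iv2 F358225)) (tt N49218 F288006) (tt N85298 (iv4 F372205)) (tt N79354 F358223) (tt N49217 (iv6 D185726)) (tt N68616 (iv7 F341776)))
theorem Q83606 : ∀ i, i < 83606 → P i := stepQ 83605 Q83605 (allL N83605 (tt N79670 (iv1 F327188)) (tt N49218 (iv0 D185727)) (tt N80225 (iv2 F382703)) (tt N104401 (iv3 F445608)) (tt N88350 (iv4 F382704)) (tt N79359 (iv5 F382705)) (tt N98766 (iv6 F422224)) (tt N80226 F382702))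
theorem Q83607 : ∀ i, i < 83607 → P i := stepQ 83606 Q83606 (allL N83606 (tt N49218 (iv1 D185728)) (tt N79670 (iv0 F327187)) (tt N80226 F382698) (tt N104296 (iv3 F445120)) (tt N88351 F382696) (tt N79358 (iv5 F382700)) (tt N104294 F445118) (tt N80225 (iv7 F382701)))
theorem Q83608 : ∀ i, i < 83608 → P i := stepQ 83607 Q83607 (allL N83607 (tt N80226 (iv1 F288013)) (tt N80225 F288014) (tt N79670 (iv2 F327189)) (tt N68616 F341777) (tt N49221 F288011) (tt N79669 (iv5 F358842)) (tt N68615 (iv6 F340299)) (tt N49218 (iv7 D185730)))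
theorem Q83609 : ∀ i, i < 83609 → P i := stepQ 83608 Q83608 (allL N83608 (tt N88328 (iv1 F395665)) (tt N87769 (iv0 F380446)) (tt N88229 (iv2 F382276)) (tt N88322 (iv3 F382585)) (tt N49219 (iv4 D185733)) (tt N65594 (iv5 F405945)) (tt N87892 (iv6 F380991)) (tt N93078 (iv7 F399382)))
theorem Q83610 : ∀ i, i < 83610 → P i := stepQ 83609 Q83609 (allL N83609 (tt N113569 D216824) (tt N113570 D216825) (tt N88230 (iv2 F382280)) (tt N111405 F476207) (tt N113571 D216826) (tt N49219 (iv5 D185734)) (tt N87420 F379289) (tt N113058 (iv7 F483780)))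
theorem Q83611 : ∀ i, i < 83611 → P i := stepQ 83610 Q83610 (allL N83610 (tt N113570 (iv1 F486074)) (tt N113569 F486073) (tt N113058 (iv2 F483777)) (tt N97218 (iv3 F415944)) (tt N113572 D216827) (tt N49220 (iv5 D185739)) (tt N87342 (iv6 F379069)) (tt N88230 (iv7 F382282)))
theorem Q83612 : ∀ i, i < 83612 → P i := stepQ 83611 Q83611 (allL N83611 (tt N83615 F288045) (tt N50087 (iv0 F290206)) (tt N84911 (iv2 F371065)) (tt N49223 (iv3 D185741)) (tt N84911 (iv4 F371066)) (tt N93204 F399959) (tt N109400 F466776) (tt N50879 F288017))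
theorem Q83613 : ∀ i, i < 83613 → P i := stepQ 83612 Q83612 (allL N83612 (tt N54750 F288021) (tt N92793 F398259) (tt N50877 F288019) (tt N93204 (iv3 F399957)) (tt N102390 (iv4 F437021)) (tt N49223 (iv5 D185742)) (tt N92784 F398212) (tt N50881 F288020))
theorem Q83614 : ∀ i, i < 83614 → P i := stepQ 83613 Q83613 (allL N83613 (tt N49248 F288038) (tt N83638 F288134) (tt N50878 F288033) (tt N109400 (iv3 F466772)) (tt N51638 F288034) (tt N50739 F288036) (tt N49223 (iv6 D185743)) (tt N79978 F288035))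
theorem Q83615 : ∀ i, i < 83615 → P i := stepQ 83614 Q83614 (allL N83614 (tt N101687 (iv1 F433873)) (tt N101691 (iv0 F433888)) (tt N69047 (iv2 F348872)) (tt N49225 (iv3 D185744)) (tt N87900 (iv4 F381028)) (tt N50078 F288039) (tt N69045 F348871) (tt N50897 F288040))
theorem Q83616 : ∀ i, i < 83616 → P i := stepQ 83615 Q83615 (allL N83615 (tt N50174 F288044) (tt N83611 (iv0 F288045)) (tt N83647 (iv2 F288275)) (tt N50184 F288043) (tt N49226 (iv4 D185748)) (tt N102939 F439351) (tt N83647 F290240) (tt N50803 (iv7 F290232)))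
theorem Q83617 : ∀ i, i < 83617 → P i := stepQ 83616 Q83616 (allL N83616 (tt N50922 (iv1 F288046)) (tt N49227 (iv0 D185753)) (tt N83649 (iv2 F344296)) (tt N61692 (iv3 F349137)) (tt N68718 F349140) (tt N51249 (iv5 F335769)) (tt N70043 F349141) (tt N70023 (iv7 F349145)))
theorem Q83618 : ∀ i, i < 83618 → P i := stepQ 83617 Q83617 (allL N83617 (tt N49227 (iv1 D185754)) (tt N50922 F288047) (tt N70023 (iv2 F349144)) (tt N109132 (iv3 F465484)) (tt N113573 D216828) (tt N84732 (iv5 F370402)) (tt N109130 F465472) (tt N83649 F344297))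
theorem Q83619 : ∀ i, i < 83619 → P i := stepQ 83618 Q83618 (allL N83618 (tt N50205 (iv1 F288060)) (tt N49229 (iv0 D185764)) (tt N52744 (iv2 F335772)) (tt N83335 F288059) (tt N109399 (iv4 F466765)) (tt N84731 F370397) (tt N49293 F335765) (tt N50101 (iv7 F335767)))
theorem Q83620 : ∀ i, i < 83620 → P i := stepQ 83619 Q83619 (allL N83619 (tt N53227 (iv1 F290159)) (tt N83018 (iv0 F288072)) (tt N50937 F288068) (tt N83026 F288069) (tt N49230 (iv4 D185767)) (tt N110426 (iv5 F471527)) (tt N85143 (iv6 F371730)) (tt N50934 F288070))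
theorem Q83621 : ∀ i, i < 83621 → P i := stepQ 83620 Q83620 (allL N83620 (tt N83661 (iv1 F288335)) (tt N49234 F288079) (tt N50938 F288073) (tt N50958 F288074) (tt N49495 (iv4 F332657)) (tt N49230 (iv5 D185768)) (tt N49504 F347564) (tt N50935 F288075))
theorem Q83622 : ∀ i, i < 83622 → P i := stepQ 83621 Q83621 (allL N83621 (tt N50941 (iv1 F288085)) (tt N50940 F288086) (tt N49233 F288081) (tt N75721 F288082) (tt N110424 (iv4 F471515)) (tt N49232 (iv5 D185770)) (tt N74919 F288083) (tt N50932 F288084))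
theorem Q83623 : ∀ i, i < 83623 → P i := stepQ 83622 Q83622 (allL N83622 (tt N49233 (iv1 D185771)) (tt N50932 F288088) (tt N50940 (iv2 F288090)) (tt N69358 (iv3 F363904)) (tt N101006 (iv4 F431229)) (tt N86543 F376461) (tt N104058 (iv6 F443963)) (tt N50941 F288089))
theorem Q83624 : ∀ i, i < 83624 → P i := stepQ 83623 Q83623 (allL N83623 (tt N50938 (iv1 F288109)) (tt N50935 F288108) (tt N49234 (iv2 D185778)) (tt N83667 (iv3 F288357)) (tt N113574 D216829) (tt N85742 (iv5 F373763)) (tt N70673 F373765) (tt N83661 (iv7 F288334)))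
theorem Q83625 : ∀ i, i < 83625 → P i := stepQ 83624 Q83624 (allL N83624 (tt N85974 (iv1 F374688)) (tt N110423 (iv0 F471511)) (tt N113574 (iv2 F486087)) (tt N70490 F337853) (tt N49234 (iv4 D185779)) (tt N90056 (iv5 F388436)) (tt N105341 (iv6 F449782)) (tt N83662 (iv7 F288337)))
theorem Q83626 : ∀ i, i < 83626 → P i := stepQ 83625 Q83625 (allL N83625 (tt N70668 (iv1 F363182)) (tt N70675 (iv0 F363181)) (tt N70673 (iv2 F373766)) (tt N49236 F288110) (tt N105341 (iv4 F449780)) (tt N84454 (iv5 F369355)) (tt N49234 (iv6 D185780)) (tt N70672 F331844))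
theorem Q83627 : ∀ i, i < 83627 → P i := stepQ 83626 Q83626 (allL N83626 (tt N49236 (iv1 D185784)) (tt N67956 (iv0 F336095)) (tt N83670 F362720) (tt N91782 F394392) (tt N70508 (iv4 F351700)) (tt N86865 (iv5 F377495)) (tt N102846 (iv6 F438914)) (tt N70502 F351701))
theorem Q83628 : ∀ i, i < 83628 → P i := stepQ 83627 Q83627 (allL N83627 (tt N83670 (iv1 F288371)) (tt N70502 (iv0 F362717)) (tt N67956 (iv2 F336097)) (tt N70672 (iv3 F331843)) (tt N67939 F331842) (tt N84457 (iv5 F369383)) (tt N83666 (iv6 F288354)) (tt N49236 (iv7 D185785)))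
theorem Q83629 : ∀ i, i < 83629 → P i := stepQ 83628 Q83628 (allL N83628 (tt N83659 (iv1 F288324)) (tt N83657 F288318) (tt N49237 (iv2 D185788)) (tt N83661 (iv3 F288333)) (tt N103784 (iv4 F442797)) (tt N86830 (iv5 F377344)) (tt N97898 F418706) (tt N83667 (iv7 F288359)))
theorem Q83630 : ∀ i, i < 83630 → P i := stepQ 83629 Q83629 (allL N83629 (tt N113575 D216830) (tt N105758 (iv0 F451561)) (tt N103784 (iv2 F442795)) (tt N67784 F362149) (tt N49237 (iv4 D185789)) (tt N104496 F446024) (tt N109032 (iv6 F465012)) (tt N83668 (iv7 F288365)))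
theorem Q83631 : ∀ i, i < 83631 → P i := stepQ 83630 Q83630 (allL N83630 (tt N67961 F354309) (tt N111101 F474671) (tt N104783 (iv2 F447244)) (tt N49238 (iv3 D185791)) (tt N67784 (iv4 F362148)) (tt N113032 (iv5 F483634)) (tt N105355 (iv6 F449862)) (tt N67916 (iv7 F323382)))
theorem Q83632 : ∀ i, i < 83632 → P i := stepQ 83631 Q83631 (allL N83631 (tt N73414 (iv1 F361999)) (tt N62398 (iv0 F336042)) (tt N56355 (iv2 F336034)) (tt N105355 (iv3 F449857)) (tt N49239 F288113) (tt N56354 F336039) (tt N49238 (iv6 D185792)) (tt N67957 (iv7 F336076)))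
theorem Q83633 : ∀ i, i < 83633 → P i := stepQ 83632 Q83632 (allL N83632 (tt N83666 (iv1 F288356)) (tt N49239 (iv0 D185793)) (tt N83664 F288346) (tt N85030 (iv3 F371418)) (tt N71340 (iv4 F288115)) (tt N93766 (iv5 F401820)) (tt N50944 F288114) (tt N83665 (iv7 F288349)))
theorem Q83634 : ∀ i, i < 83634 → P i := stepQ 83633 Q83633 (allL N83633 (tt N49239 (iv1 D185794)) (tt N83666 F288355) (tt N83665 F288350) (tt N102329 (iv3 F436758)) (tt N93772 (iv4 F401847)) (tt N93787 (iv5 F401882)) (tt N104758 (iv6 F447137)) (tt N83664 F288347))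
theorem Q83635 : ∀ i, i < 83635 → P i := stepQ 83634 Q83634 (allL N83634 (tt N83665 (iv1 F288348)) (tt N83664 F288351) (tt N83666 (iv2 F288352)) (tt N94773 (iv3 F405868)) (tt N67957 F336094) (tt N84822 (iv5 F370741)) (tt N67956 (iv6 F336099)) (tt N49239 (iv7 D185795)))
theorem Q83636 : ∀ i, i < 83636 → P i := stepQ 83635 Q83635 (allL N83635 (tt N70482 F342192) (tt N67431 F348863) (tt N70479 F337858) (tt N49240 (iv3 D185796)) (tt N65123 F348862) (tt N65111 (iv5 F348861)) (tt N104407 F445634) (tt N70480 (iv7 F337857)))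
theorem Q83637 : ∀ i, i < 83637 → P i := stepQ 83636 Q83636 (allL N83636 (tt N70499 F366373) (tt N70508 F366375) (tt N70506 (iv2 F366460)) (tt N104407 F445633) (tt N54751 F288116) (tt N101555 (iv5 F433385)) (tt N49240 (iv6 D185797)) (tt N70505 F366467))
theorem Q83638 : ∀ i, i < 83638 → P i := stepQ 83637 Q83637 (allL N83637 (tt N71340 F288118) (tt N93772 (iv0 F401848)) (tt N83671 (iv2 F288379)) (tt N82209 F354324) (tt N54749 F288117) (tt N82203 (iv5 F354325)) (tt N49241 (iv6 D185799)) (tt N104754 (iv7 F447112)))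
theorem Q83639 : ∀ i, i < 83639 → P i := stepQ 83638 Q83638 (allL N83638 (tt N83613 (iv1 F288134)) (tt N83641 F288169) (tt N49243 (iv2 D185823)) (tt N54856 F292453) (tt N55493 F288133) (tt N79968 F288171) (tt N49320 F292454) (tt N83642 (iv7 F288213)))
theorem Q83640 : ∀ i, i < 83640 → P i := stepQ 83639 Q83639 (allL N83639 (tt N50732 F288137) (tt N50736 (iv0 F367228)) (tt N79968 (iv2 F288172)) (tt N49244 F288135) (tt N88220 (iv4 F382230)) (tt N49243 (iv5 D185824)) (tt N60991 F288136) (tt N83643 (iv7 F288217)))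
theorem Q83641 : ∀ i, i < 83641 → P i := stepQ 83640 Q83640 (allL N83640 (tt N78970 (iv1 F288153)) (tt N78969 (iv0 F288148)) (tt N49245 (iv2 D185826)) (tt N54879 (iv3 F293794)) (tt N50512 (iv4 F290945)) (tt N76364 F288144) (tt N49850 (iv6 F292543)) (tt N78983 F288146))
theorem Q83642 : ∀ i, i < 83642 → P i := stepQ 83641 Q83641 (allL N83641 (tt N83638 (iv1 F288169)) (tt N49248 (iv0 D185832)) (tt N79978 (iv2 F288168)) (tt N55767 F288166) (tt N55384 (iv4 F367170)) (tt N50738 F288167) (tt N51422 (iv6 F288209)) (tt N50878 F288170))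
theorem Q83643 : ∀ i, i < 83643 → P i := stepQ 83642 Q83642 (allL N83642 (tt N79978 (iv1 F288215)) (tt N50878 F288214) (tt N49248 (iv2 D185833)) (tt N51078 F288210) (tt N55238 F288211) (tt N85769 (iv5 F373857)) (tt N50843 F288212) (tt N83638 F288213))
theorem Q83644 : ∀ i, i < 83644 → P i := stepQ 83643 Q83643 (allL N83643 (tt N61174 F288218) (tt N85766 (iv0 F373847)) (tt N85769 F373858) (tt N49249 F288216) (tt N113576 D216831) (tt N49248 (iv5 D185834)) (tt N93751 (iv6 F401767)) (tt N83639 F288217))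
theorem Q83645 : ∀ i, i < 83645 → P i := stepQ 83644 Q83644 (allL N83644 (tt N82037 F354323) (tt N82031 F374395) (tt N51089 F288220) (tt N93751 (iv3 F401766)) (tt N80198 (iv4 F354322)) (tt N50846 F288221) (tt N49249 (iv6 D185835)) (tt N82035 (iv7 F375438)))
theorem Q83646 : ∀ i, i < 83646 → P i := stepQ 83645 Q83645 (allL N83645 (tt N85961 (iv1 F374630)) (tt N51591 F288237) (tt N50190 F288235) (tt N85971 (iv3 F374673)) (tt N113577 D216832) (tt N49250 (iv5 D185839)) (tt N102912 (iv6 F439234)) (tt N50222 F288236))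
theorem Q83647 : ∀ i, i < 83647 → P i := stepQ 83646 Q83646 (allL N83646 (tt N50250 F288274) (tt N50270 (iv0 F288273)) (tt N54170 F288270) (tt N49254 (iv3 D185850)) (tt N54076 (iv4 F290170)) (tt N68305 F363896) (tt N68306 (iv6 F335797)) (tt N50086 (iv7 F290178)))
theorem Q83648 : ∀ i, i < 83648 → P i := stepQ 83647 Q83647 (allL N83647 (tt N50879 F288277) (tt N84911 (iv0 F371068)) (tt N83615 F288275) (tt N50883 F288278) (tt N49254 (iv4 D185851)) (tt N92724 (iv5 F397984)) (tt N83615 (iv6 F290240)) (tt N50087 (iv7 F290208)))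
theorem Q83649 : ∀ i, i < 83649 → P i := stepQ 83648 Q83648 (allL N83648 (tt N50283 F335784) (tt N50261 F364338) (tt N68304 (iv2 F335787)) (tt N68305 (iv3 F335805)) (tt N92780 F398192) (tt N49254 (iv5 D185852)) (tt N68303 F335804) (tt N50090 (iv7 F290221)))
theorem Q83650 : ∀ i, i < 83650 → P i := stepQ 83649 Q83649 (allL N83649 (tt N49255 (iv1 D185855)) (tt N50204 F288283) (tt N83616 F344296) (tt N98741 (iv3 F422103)) (tt N93206 (iv4 F399968)) (tt N51475 F290245) (tt N70815 F364366) (tt N83617 (iv7 F344297)))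
theorem Q83651 : ∀ i, i < 83651 → P i := stepQ 83650 Q83650 (allL N83650 (tt N97537 F417302) (tt N97550 F417348) (tt N85991 (iv2 F374772)) (tt N68787 F354360) (tt N49255 (iv4 D185856)) (tt N113578 D216833) (tt N113152 (iv6 F484223)) (tt N68777 (iv7 F354359)))
theorem Q83652 : ∀ i, i < 83652 → P i := stepQ 83651 Q83651 (allL N83651 (tt N70473 F366119) (tt N113579 D216834) (tt N85992 (iv2 F374775)) (tt N49258 F288285) (tt N113152 (iv4 F484220)) (tt N86545 (iv5 F376466)) (tt N49255 (iv6 D185857)) (tt N61751 (iv7 F365903)))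
theorem Q83653 : ∀ i, i < 83653 → P i := stepQ 83652 Q83652 (allL N83652 (tt N70072 (iv1 F334341)) (tt N60784 (iv0 F288290)) (tt N49270 F288288) (tt N110334 (iv3 F471094)) (tt N49258 F288289) (tt N96977 (iv5 F414886)) (tt N49257 (iv6 D185861)) (tt N70071 (iv7 F334339)))
theorem Q83654 : ∀ i, i < 83654 → P i := stepQ 83653 Q83653 (allL N83653 (tt N49274 (iv1 F288298)) (tt N49258 (iv0 D185862)) (tt N49271 F288302) (tt N75716 (iv3 F288301)) (tt N69202 (iv4 F336071)) (tt N104019 (iv5 F443806)) (tt N69200 F363187) (tt N49272 F288300))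
theorem Q83655 : ∀ i, i < 83655 → P i := stepQ 83654 Q83654 (allL N83654 (tt N49258 (iv1 D185863)) (tt N49274 F288291) (tt N49272 F288294) (tt N55724 F288295) (tt N69217 (iv4 F347566)) (tt N51314 (iv5 F288293)) (tt N55722 (iv6 F288292)) (tt N49271 (iv7 F288303)))
theorem Q83656 : ∀ i, i < 83656 → P i := stepQ 83655 Q83655 (allL N83655 (tt N49272 (iv1 F288299)) (tt N49271 F288304) (tt N49274 F288296) (tt N61751 F365902) (tt N70071 F334340) (tt N86550 (iv5 F376476)) (tt N61748 (iv6 F326534)) (tt N49258 (iv7 D185864)))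
theorem Q83657 : ∀ i, i < 83657 → P i := stepQ 83656 Q83656 (allL N83656 (tt N50086 (iv1 F290177)) (tt N54170 (iv0 F288309)) (tt N50250 F288305) (tt N49259 (iv3 D185865)) (tt N50219 F288306) (tt N98742 (iv5 F422109)) (tt N113580 D216835) (tt N50270 F288307))
theorem Q83658 : ∀ i, i < 83658 → P i := stepQ 83657 Q83657 (allL N83657 (tt N83628 (iv1 F288318)) (tt N49265 (iv0 F288317)) (tt N50272 F288310) (tt N98742 (iv3 F422108)) (tt N113581 D216836) (tt N49259 (iv5 D185866)) (tt N75714 (iv6 F288312)) (tt N50271 F288311))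
theorem Q83659 : ∀ i, i < 83659 → P i := stepQ 83658 Q83658 (allL N83658 (tt N54887 F294544) (tt N49276 F288316) (tt N50273 F288313) (tt N113580 (iv3 F486123)) (tt N49300 F294545) (tt N86431 (iv5 F376196)) (tt N49259 (iv6 D185867)) (tt N54886 (iv7 F293763)))
theorem Q83660 : ∀ i, i < 83660 → P i := stepQ 83659 Q83659 (allL N83659 (tt N49265 F288323) (tt N83628 F288324) (tt N50271 F288319) (tt N50248 F288320) (tt N66122 (iv4 F363814)) (tt N49260 (iv5 D185868)) (tt N66121 (iv6 F327779)) (tt N50272 F288322))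
theorem Q83661 : ∀ i, i < 83661 → P i := stepQ 83660 Q83660 (allL N83660 (tt N84921 (iv1 F371095)) (tt N84917 (iv0 F371084)) (tt N109435 (iv2 F466944)) (tt N67710 (iv3 F366212)) (tt N49262 (iv4 D185869)) (tt N113582 D216837) (tt N67708 F366211) (tt N50276 F288325))
theorem Q83662 : ∀ i, i < 83662 → P i := stepQ 83661 Q83661 (allL N83661 (tt N61737 (iv1 F332651)) (tt N83620 F288335) (tt N49263 (iv2 D185874)) (tt N83628 F288333) (tt N111988 (iv4 F478973)) (tt N113031 (iv5 F483628)) (tt N109062 F465168) (tt N83623 F288334))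
theorem Q83663 : ∀ i, i < 83663 → P i := stepQ 83662 Q83662 (allL N83662 (tt N84938 (iv1 F371135)) (tt N113583 D216838) (tt N111988 (iv2 F478972)) (tt N70913 (iv3 F338463)) (tt N49263 (iv4 D185875)) (tt N113584 D216839) (tt N70912 F363974) (tt N83624 F288337))
theorem Q83664 : ∀ i, i < 83664 → P i := stepQ 83663 Q83663 (allL N83663 (tt N55734 F288340) (tt N105865 (iv0 F452071)) (tt N109062 (iv2 F465167)) (tt N49264 F288338) (tt N70912 (iv4 F363975)) (tt N50364 F288339) (tt N49263 (iv6 D185876)) (tt N71498 F363976))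
theorem Q83665 : ∀ i, i < 83665 → P i := stepQ 83664 Q83664 (allL N83664 (tt N83634 (iv1 F288351)) (tt N49264 (iv0 D185879)) (tt N83632 (iv2 F288346)) (tt N97542 (iv3 F417319)) (tt N106435 (iv4 F454420)) (tt N61297 F288345) (tt N50279 F288344) (tt N83633 (iv7 F288347)))
theorem Q83666 : ∀ i, i < 83666 → P i := stepQ 83665 Q83665 (allL N83665 (tt N49264 (iv1 D185880)) (tt N83634 F288348) (tt N83633 (iv2 F288350)) (tt N86127 (iv3 F375182)) (tt N72091 F336101) (tt N85189 (iv5 F371839)) (tt N78611 F344106) (tt N83632 F288349))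
theorem Q83667 : ∀ i, i < 83667 → P i := stepQ 83666 Q83666 (allL N83666 (tt N83633 (iv1 F288355)) (tt N83632 F288356) (tt N83634 F288352) (tt N71498 (iv3 F363977)) (tt N57139 (iv4 F336033)) (tt N50371 F288353) (tt N83627 F288354) (tt N49264 (iv7 D185881)))
theorem Q83668 : ∀ i, i < 83668 → P i := stepQ 83667 Q83667 (allL N83667 (tt N50272 (iv1 F288364)) (tt N50271 (iv0 F288361)) (tt N49265 (iv2 D185882)) (tt N83623 F288357) (tt N113585 D216840) (tt N51535 F288358) (tt N95895 (iv6 F410134)) (tt N83628 F288359))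
theorem Q83669 : ∀ i, i < 83669 → P i := stepQ 83668 Q83668 (allL N83668 (tt N84916 (iv1 F371083)) (tt N84914 (iv0 F371080)) (tt N113585 (iv2 F486156)) (tt N103772 F442759) (tt N49265 (iv4 D185883)) (tt N111239 (iv5 F475377)) (tt N103850 (iv6 F443078)) (tt N83629 F288365))
theorem Q83670 : ∀ i, i < 83670 → P i := stepQ 83669 Q83669 (allL N83669 (tt N70695 F360350) (tt N111252 (iv0 F475447)) (tt N95895 (iv2 F410132)) (tt N49266 F288366) (tt N103850 (iv4 F443077)) (tt N51539 F288367) (tt N49265 (iv6 D185884)) (tt N95896 (iv7 F410138)))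
theorem Q83671 : ∀ i, i < 83671 → P i := stepQ 83670 Q83670 (allL N83670 (tt N49266 (iv1 D185888)) (tt N83627 F288371) (tt N83626 (iv2 F362720)) (tt N70817 (iv3 F362721)) (tt N105708 (iv4 F451353)) (tt N91220 (iv5 F392312)) (tt N111248 F475423) (tt N70811 F362719))
theorem Q83672 : ∀ i, i < 83672 → P i := stepQ 83671 Q83671 (allL N83671 (tt N106435 F454424) (tt N72091 (iv0 F362738)) (tt N83637 F288379) (tt N66448 (iv3 F355500)) (tt N85951 (iv4 F374582)) (tt N66446 F355499) (tt N49267 (iv6 D185891)) (tt N105713 (iv7 F451378)))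
theorem Q83673 : ∀ i, i < 83673 → P i := stepQ 83672 Q83672 (allL N83672 (tt N70071 (iv1 F363985)) (tt N49270 (iv0 D185900)) (tt N70072 F363983) (tt N103426 F441578) (tt N60785 F363981) (tt N102278 (iv5 F436518)) (tt N103809 (iv6 F442918)) (tt N60784 (iv7 F363982)))
theorem Q83674 : ∀ i, i < 83674 → P i := stepQ 83673 Q83673 (allL N83673 (tt N96983 (iv1 F414922)) (tt N80033 (iv0 F362994)) (tt N96977 (iv2 F414885)) (tt N50709 F340145) (tt N112821 (iv4 F482787)) (tt N49270 (iv5 D185902)) (tt N58874 F362992) (tt N70073 (iv7 F362993)))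
theorem Q83675 : ∀ i, i < 83675 → P i := stepQ 83674 Q83674 (allL N83674 (tt N60933 F364605) (tt N83962 F367633) (tt N83973 F367674) (tt N49271 (iv3 D185904)) (tt N84086 (iv4 F368047)) (tt N109743 (iv5 F468397)) (tt N70776 F342158) (tt N55724 F288403))
theorem Q83676 : ∀ i, i < 83676 → P i := stepQ 83675 Q83675 (allL N83675 (tt N104018 (iv1 F443802)) (tt N104017 F443808) (tt N104019 (iv2 F443804)) (tt N109743 (iv3 F468396)) (tt N113586 D216841) (tt N49271 (iv5 D185906)) (tt N113587 D216842) (tt N51314 F288404))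
theorem Q83677 : ∀ i, i < 83677 → P i := stepQ 83676 Q83676 (allL N83676 (tt N111248 (iv1 F475420)) (tt N103891 F443241) (tt N69200 (iv2 F342155)) (tt N70776 (iv3 F342157)) (tt N69190 F342154) (tt N113588 D216843) (tt N49271 (iv6 D185907)) (tt N69204 (iv7 F342156)))
theorem Q83678 : ∀ i, i < 83678 → P i := stepQ 83677 Q83677 (allL N83677 (tt N86550 (iv1 F376478)) (tt N49273 (iv0 D185909)) (tt N86548 (iv2 F413809)) (tt N113589 D216844) (tt N113590 D216845) (tt N104852 (iv5 F447630)) (tt N113591 D216846) (tt N86549 F413808))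
theorem Q83679 : ∀ i, i < 83679 → P i := stepQ 83678 Q83678 (allL N83678 (tt N49273 (iv1 D185910)) (tt N86550 F376477) (tt N86549 F413805) (tt N69507 F413806) (tt N113592 D216847) (tt N104853 (iv5 F447636)) (tt N69504 (iv6 F413804)) (tt N86548 (iv7 F413807)))
theorem Q83680 : ∀ i, i < 83680 → P i := stepQ 83679 Q83679 (allL N83679 (tt N86715 F417920) (tt N86454 F417921) (tt N86547 (iv2 F376468)) (tt N112058 (iv3 F479291)) (tt N49273 (iv4 D185911)) (tt N86694 (iv5 F376823)) (tt N49277 F288407) (tt N86714 F376882))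
theorem Q83681 : ∀ i, i < 83681 → P i := stepQ 83680 Q83680 (allL N83680 (tt N86549 (iv1 F376473)) (tt N86548 (iv0 F376472)) (tt N86550 (iv2 F376475)) (tt N49860 (iv3 F355649)) (tt N86714 (iv4 F376881)) (tt N49274 F288408) (tt N54894 (iv6 F355835)) (tt N49273 (iv7 D185912)))
theorem Q83682 : ∀ i, i < 83682 → P i := stepQ 83681 Q83681 (allL N83681 (tt N50318 (iv1 F288411)) (tt N49275 (iv0 D185913)) (tt N50325 (iv2 F288416)) (tt N49852 F350509) (tt N84886 (iv4 F371003)) (tt N76400 F288409) (tt N78969 F288410) (tt N50324 (iv7 F288417)))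
theorem Q83683 : ∀ i, i < 83683 → P i := stepQ 83682 Q83682 (allL N83682 (tt N86280 (iv1 F375668)) (tt N49550 (iv0 F294894)) (tt N86282 (iv2 F375680)) (tt N49279 F288461) (tt N113593 D216848) (tt N49278 (iv5 D185956)) (tt N113594 D216849) (tt N52149 (iv7 F367039)))
theorem Q83684 : ∀ i, i < 83684 → P i := stepQ 83683 Q83683 (allL N83683 (tt N113595 D216850) (tt N112449 F481155) (tt N52133 (iv2 F367040)) (tt N113594 (iv3 F486204)) (tt N87150 (iv4 F378555)) (tt N87303 (iv5 F379020)) (tt N49279 (iv6 D185959)) (tt N113596 D216851))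
theorem Q83685 : ∀ i, i < 83685 → P i := stepQ 83684 Q83684 (allL N83684 (tt N87222 F378809) (tt N52757 (iv0 F289554)) (tt N52507 F288479) (tt N49280 (iv3 D185980)) (tt N52495 F288480) (tt N113597 D216852) (tt N112397 (iv6 F480927)) (tt N52511 F288481))
theorem Q83686 : ∀ i, i < 83686 → P i := stepQ 83685 Q83685 (allL N83685 (tt N82668 F288485) (tt N84973 (iv0 F371229)) (tt N77049 (iv2 F363129)) (tt N113597 (iv3 F486224)) (tt N77043 F363132) (tt N49280 (iv5 D185981)) (tt N113598 D216853) (tt N82614 F288484))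
theorem Q83687 : ∀ i, i < 83687 → P i := stepQ 83686 Q83686 (allL N83686 (tt N51447 (iv1 F288489)) (tt N49794 (iv0 F288488)) (tt N53172 (iv2 F289319)) (tt N112397 F480925) (tt N88584 (iv4 F383531)) (tt N53318 F288487) (tt N49280 (iv6 D185982)) (tt N53171 (iv7 F288492)))
theorem Q83688 : ∀ i, i < 83688 → P i := stepQ 83687 Q83687 (allL N83687 (tt N84973 F371230) (tt N82668 F288499) (tt N82614 F288497) (tt N86473 (iv3 F376329)) (tt N53700 F363126) (tt N49281 (iv5 D185984)) (tt N83960 (iv6 F367623)) (tt N77049 (iv7 F363131)))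
theorem Q83689 : ∀ i, i < 83689 → P i := stepQ 83688 Q83688 (allL N83688 (tt N82618 (iv1 F288505)) (tt N49282 (iv0 D185986)) (tt N82615 (iv2 F288502)) (tt N113599 D216854) (tt N112539 (iv4 F481575)) (tt N83497 F288503) (tt N113600 D216855) (tt N82616 F288504))
theorem Q83690 : ∀ i, i < 83690 → P i := stepQ 83689 Q83689 (allL N83689 (tt N89713 (iv1 F427406)) (tt N113601 D216856) (tt N82617 F288513) (tt N100935 (iv3 F431021)) (tt N49282 (iv4 D185987)) (tt N89660 F387136) (tt N89961 (iv6 F388111)) (tt N110091 (iv7 F469944)))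
theorem Q83691 : ∀ i, i < 83691 → P i := stepQ 83690 Q83690 (allL N83690 (tt N82616 (iv1 F288517)) (tt N82615 F288518) (tt N82618 F288514) (tt N49289 F288515) (tt N110091 (iv4 F469945)) (tt N49283 F288516) (tt N113602 D216857) (tt N49282 (iv7 D185988)))
theorem Q83692 : ∀ i, i < 83692 → P i := stepQ 83691 Q83691 (allL N83691 (tt N113603 D216858) (tt N113604 D216859) (tt N109410 (iv2 F466821)) (tt N49285 F288530) (tt N101274 (iv4 F432486)) (tt N49284 (iv5 D185992)) (tt N54531 F288531) (tt N49746 F288532))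
theorem Q83693 : ∀ i, i < 83693 → P i := stepQ 83692 Q83692 (allL N83692 (tt N84418 (iv1 F369220)) (tt N84420 (iv0 F369228)) (tt N49744 F288533) (tt N113605 D216860) (tt N49285 (iv4 D185993)) (tt N55397 F365788) (tt N54543 F288534) (tt N49748 F288535))
theorem Q83694 : ∀ i, i < 83694 → P i := stepQ 83693 Q83693 (allL N83693 (tt N84421 (iv1 F369235)) (tt N53918 (iv0 F368821)) (tt N90734 (iv2 F390684)) (tt N49287 F288543) (tt N84291 F368820) (tt N49286 (iv5 D185997)) (tt N113606 D216861) (tt N49741 F288544))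
theorem Q83695 : ∀ i, i < 83695 → P i := stepQ 83694 Q83694 (allL N83694 (tt N84420 (iv1 F369229)) (tt N84418 (iv0 F369219)) (tt N49748 F288545) (tt N110163 F470241) (tt N49287 (iv4 D185998)) (tt N55400 F365790) (tt N113607 D216862) (tt N49744 F288546))
theorem Q83696 : ∀ i, i < 83696 → P i := stepQ 83695 Q83695 (allL N83695 (tt N113608 D216863) (tt N90124 (iv0 F388610)) (tt N49749 F288547) (tt N113606 (iv3 F486273)) (tt N113607 (iv4 F486278)) (tt N50475 (iv5 F293924)) (tt N49287 (iv6 D185999)) (tt N113609 D216864))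
theorem Q83697 : ∀ i, i < 83697 → P i := stepQ 83696 Q83696 (allL N83696 (tt N106855 (iv1 F456012)) (tt N71453 F367186) (tt N70063 F367185) (tt N49288 (iv3 D186003)) (tt N100935 (iv4 F431022)) (tt N55404 (iv5 F367184)) (tt N89966 (iv6 F388127)) (tt N91797 (iv7 F394467)))
theorem Q83698 : ∀ i, i < 83698 → P i := stepQ 83697 Q83697 (allL N83697 (tt N113610 D216865) (tt N113611 D216866) (tt N49739 F288564) (tt N113602 (iv3 F486250)) (tt N91798 (iv4 F394470)) (tt N49420 F288565) (tt N49289 (iv6 D186006)) (tt N89969 (iv7 F388138)))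
theorem Q83699 : ∀ i, i < 83699 → P i := stepQ 83698 Q83698 (allL N83698 (tt N113497 (iv1 F485781)) (tt N82720 (iv0 F288569)) (tt N53075 F288566) (tt N49291 F288567) (tt N113612 D216867) (tt N49290 (iv5 D186007)) (tt N113613 D216868) (tt N49837 F288568))
theorem Q83700 : ∀ i, i < 83700 → P i := stepQ 83699 Q83699 (allL N83699 (tt N53660 F288577) (tt N84962 (iv0 F371187)) (tt N49833 F288575) (tt N113614 D216869) (tt N49291 (iv4 D186009)) (tt N55402 F365796) (tt N84284 F368801) (tt N49839 F288576))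
theorem Q83701 : ∀ i, i < 83701 → P i := stepQ 83700 Q83700 (allL N83700 (tt N113062 (iv1 F483801)) (tt N91004 (iv0 F391539)) (tt N49834 F288578) (tt N113613 (iv3 F486307)) (tt N84284 (iv4 F368802)) (tt N49827 F288579) (tt N49291 (iv6 D186010)) (tt N89951 (iv7 F388085)))
theorem Q83702 : ∀ i, i < 83702 → P i := stepQ 83701 Q83701 (allL N83701 (tt N84962 (iv1 F371188)) (tt N53660 F288594) (tt N49839 F288592) (tt N69870 (iv3 F365795)) (tt N49292 (iv4 D186015)) (tt N55403 F365793) (tt N113615 D216870) (tt N49833 F288593))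
theorem Q83703 : ∀ i, i < 83703 → P i := stepQ 83702 Q83702 (allL N83702 (tt N113616 D216871) (tt N89757 (iv0 F387445)) (tt N49840 F288595) (tt N100857 (iv3 F430796)) (tt N113615 (iv4 F486315)) (tt N50437 (iv5 F293927)) (tt N49292 (iv6 D186016)) (tt N113617 D216872))
theorem Q83704 : ∀ i, i < 83704 → P i := stepQ 83703 Q83703 (allL N83703 (tt N54866 F339781) (tt N113580 (iv0 F486127)) (tt N82764 (iv2 F361064)) (tt N49293 (iv3 D186036)) (tt N55599 F288642) (tt N68372 (iv5 F339540)) (tt N83335 (iv6 F335764)) (tt N52745 (iv7 F361051)))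
theorem Q83705 : ∀ i, i < 83705 → P i := stepQ 83704 Q83704 (allL N83704 (tt N83735 (iv1 F288974)) (tt N83728 (iv0 F288957)) (tt N52748 (iv2 F355748)) (tt N54746 (iv3 F367215)) (tt N49293 (iv4 D186037)) (tt N97176 (iv5 F415763)) (tt N109399 (iv6 F466766)) (tt N52746 F355747))
theorem Q83706 : ∀ i, i < 83706 → P i := stepQ 83705 Q83705 (allL N83705 (tt N85831 F374161) (tt N54875 (iv0 F288645)) (tt N83240 F362652) (tt N49294 (iv3 D186041)) (tt N50564 F288644) (tt N86772 (iv5 F377126)) (tt N50095 (iv6 F362650)) (tt N52747 (iv7 F366982)))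
theorem Q83707 : ∀ i, i < 83707 → P i := stepQ 83706 Q83706 (allL N83706 (tt N83728 (iv1 F355749)) (tt N83735 (iv0 F288977)) (tt N52746 F355746) (tt N50503 F288646) (tt N49294 (iv4 D186042)) (tt N97177 (iv5 F415772)) (tt N50096 (iv6 F355750)) (tt N52748 (iv7 F355745)))
theorem Q83708 : ∀ i, i < 83708 → P i := stepQ 83707 Q83707 (allL N83707 (tt N49361 F294491) (tt N49360 (iv0 F295069)) (tt N49298 F288658) (tt N49330 F288659) (tt N111081 (iv4 F474574)) (tt N49297 (iv5 D186050)) (tt N113618 D216873) (tt N54855 F288660))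
theorem Q83709 : ∀ i, i < 83709 → P i := stepQ 83708 Q83708 (allL N83708 (tt N109740 F468379) (tt N111078 F474559) (tt N111081 F474575) (tt N86877 (iv3 F377552)) (tt N49298 (iv4 D186053)) (tt N113619 D216874) (tt N113620 D216875) (tt N54857 F288665))
theorem Q83710 : ∀ i, i < 83710 → P i := stepQ 83709 Q83709 (allL N83709 (tt N113621 D216876) (tt N104838 (iv0 F447540)) (tt N113618 (iv2 F486327)) (tt N49299 F288666) (tt N113620 (iv4 F486334)) (tt N85898 (iv5 F374357)) (tt N49298 (iv6 D186054)) (tt N113622 D216877))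
theorem Q83711 : ∀ i, i < 83711 → P i := stepQ 83710 Q83710 (allL N83710 (tt N49299 (iv1 D186056)) (tt N49339 F288667) (tt N49338 F353352) (tt N109724 (iv3 F468301)) (tt N68389 F353353) (tt N113623 D216878) (tt N87656 (iv6 F380007)) (tt N49337 F353354))
theorem Q83712 : ∀ i, i < 83712 → P i := stepQ 83711 Q83711 (allL N83711 (tt N49338 (iv1 F288671)) (tt N49337 F288672) (tt N49339 F288668) (tt N113622 (iv3 F486341)) (tt N86878 (iv4 F377556)) (tt N85902 (iv5 F374366)) (tt N54863 F288669) (tt N49299 (iv7 D186057)))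
theorem Q83713 : ∀ i, i < 83713 → P i := stepQ 83712 Q83712 (allL N83712 (tt N82817 (iv1 F372679)) (tt N53907 (iv0 F367057)) (tt N81548 F350444) (tt N49300 (iv3 D186059)) (tt N52305 F288674) (tt N111740 (iv5 F477750)) (tt N53871 (iv6 F350443)) (tt N83587 F350441))
theorem Q83714 : ∀ i, i < 83714 → P i := stepQ 83713 Q83713 (allL N83713 (tt N52644 (iv1 F331403)) (tt N49997 F331404) (tt N52646 (iv2 F331407)) (tt N111740 (iv3 F477748)) (tt N51256 F331406) (tt N49300 (iv5 D186061)) (tt N111738 (iv6 F477741)) (tt N51351 (iv7 F331408)))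
theorem Q83715 : ∀ i, i < 83715 → P i := stepQ 83714 Q83714 (allL N83714 (tt N49997 F331396) (tt N52644 (iv0 F331402)) (tt N51351 (iv2 F331410)) (tt N74169 (iv3 F360340)) (tt N51345 (iv4 F331411)) (tt N49301 (iv5 D186066)) (tt N68160 F331412) (tt N52646 F331409))
theorem Q83716 : ∀ i, i < 83716 → P i := stepQ 83715 Q83715 (allL N83715 (tt N49303 (iv1 D186082)) (tt N52786 F288740) (tt N52784 (iv2 F288736)) (tt N82475 F288739) (tt N87908 (iv4 F381082)) (tt N103972 (iv5 F443589)) (tt N112076 F479381) (tt N52785 (iv7 F288738)))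
theorem Q83717 : ∀ i, i < 83717 → P i := stepQ 83716 Q83716 (allL N83716 (tt N52785 (iv1 F288745)) (tt N52784 F288744) (tt N49303 (iv2 D186083)) (tt N78500 F288741) (tt N78399 F288742) (tt N97199 (iv5 F415854)) (tt N109308 (iv6 F466316)) (tt N52786 F288743))
theorem Q83718 : ∀ i, i < 83718 → P i := stepQ 83717 Q83717 (allL N83717 (tt N101606 (iv1 F433521)) (tt N64384 (iv0 F301789)) (tt N79162 (iv2 F304176)) (tt N61932 (iv3 F409582)) (tt N49304 (iv4 D186084)) (tt N95693 (iv5 F409165)) (tt N83274 F288747) (tt N79163 (iv7 F366897)))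
theorem Q83719 : ∀ i, i < 83719 → P i := stepQ 83718 Q83718 (allL N83718 (tt N112497 F481362) (tt N113624 D216879) (tt N86986 (iv2 F377949)) (tt N49307 (iv3 D186087)) (tt N97844 (iv4 F418477)) (tt N91811 (iv5 F394518)) (tt N80160 (iv6 F366940)) (tt N96755 (iv7 F413788)))
theorem Q83720 : ∀ i, i < 83720 → P i := stepQ 83719 Q83719 (allL N83719 (tt N84886 (iv1 F371004)) (tt N84748 F370462) (tt N84861 F370888) (tt N85494 (iv3 F372826)) (tt N49310 (iv4 D186130)) (tt N88892 (iv5 F384448)) (tt N75626 F360956) (tt N84885 (iv7 F371000)))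
theorem Q83721 : ∀ i, i < 83721 → P i := stepQ 83720 Q83720 (allL N83720 (tt N53054 (iv1 F367103)) (tt N53051 (iv0 F349283)) (tt N49313 F288872) (tt N83802 (iv3 F289178)) (tt N113625 D216880) (tt N49312 (iv5 D186137)) (tt N104216 (iv6 F444749)) (tt N83808 (iv7 F289197)))
theorem Q83722 : ∀ i, i < 83722 → P i := stepQ 83721 Q83721 (allL N83721 (tt N83808 (iv1 F289198)) (tt N49313 (iv0 D186139)) (tt N53054 (iv2 F367104)) (tt N86766 (iv3 F377107)) (tt N105835 (iv4 F451946)) (tt N50483 F367105) (tt N105903 (iv6 F452274)) (tt N53051 F367106))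
theorem Q83723 : ∀ i, i < 83723 → P i := stepQ 83722 Q83722 (allL N83722 (tt N49313 (iv1 D186140)) (tt N83808 F289200) (tt N53051 (iv2 F367100)) (tt N86658 (iv3 F376699)) (tt N105839 (iv4 F451968)) (tt N50484 F367099) (tt N109700 (iv6 F468181)) (tt N53054 (iv7 F367101)))
theorem Q83724 : ∀ i, i < 83724 → P i := stepQ 83723 Q83723 (allL N83723 (tt N105771 (iv1 F451638)) (tt N51329 (iv0 F349248)) (tt N113625 (iv2 F486356)) (tt N52144 (iv3 F365441)) (tt N49313 (iv4 D186141)) (tt N111329 (iv5 F475846)) (tt N52143 F365440) (tt N83809 (iv7 F289201)))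
theorem Q83725 : ∀ i, i < 83725 → P i := stepQ 83724 Q83724 (allL N83724 (tt N87577 F379798) (tt N104209 (iv0 F444704)) (tt N104216 F444750) (tt N49314 F288875) (tt N52143 (iv4 F365424)) (tt N85975 (iv5 F374694)) (tt N49313 (iv6 D186142)) (tt N104217 (iv7 F444751)))
theorem Q83726 : ∀ i, i < 83726 → P i := stepQ 83725 Q83725 (allL N83725 (tt N83806 (iv1 F289186)) (tt N83805 F289191) (tt N83807 (iv2 F289189)) (tt N104217 F444753) (tt N51779 (iv4 F365425)) (tt N85979 (iv5 F374711)) (tt N60270 (iv6 F291599)) (tt N49314 (iv7 D186150)))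
theorem Q83727 : ∀ i, i < 83727 → P i := stepQ 83726 Q83726 (allL N83726 (tt N49335 F339539) (tt N50766 F345007) (tt N55607 F288902) (tt N78931 (iv3 F345010)) (tt N92973 (iv4 F398980)) (tt N49315 (iv5 D186157)) (tt N78929 F345008) (tt N84705 (iv7 F370281)))
theorem Q83728 : ∀ i, i < 83728 → P i := stepQ 83727 Q83727 (allL N83727 (tt N49319 (iv1 D186170)) (tt N60270 (iv0 F291597)) (tt N60271 F343306) (tt N97181 (iv3 F415785)) (tt N54899 F355661) (tt N74459 (iv5 F343305)) (tt N104028 F443865) (tt N60262 F343307))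
theorem Q83729 : ∀ i, i < 83729 → P i := stepQ 83728 Q83728 (allL N83728 (tt N83704 F288957) (tt N83706 F355749) (tt N85945 (iv2 F374543)) (tt N49321 (iv3 D186179)) (tt N85945 (iv4 F374545)) (tt N113626 D216881) (tt N50174 F367235) (tt N49327 F288931))
theorem Q83730 : ∀ i, i < 83730 → P i := stepQ 83729 Q83729 (allL N83729 (tt N49845 (iv1 F331401)) (tt N51571 F331398) (tt N49324 F288935) (tt N113626 (iv3 F486361)) (tt N52644 (iv4 F294057)) (tt N49321 (iv5 D186181)) (tt N97202 (iv6 F415876)) (tt N49329 F288936))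
theorem Q83731 : ∀ i, i < 83731 → P i := stepQ 83730 Q83730 (allL N83730 (tt N82818 F288962) (tt N82816 F370097) (tt N84676 (iv2 F370170)) (tt N49323 (iv3 D186185)) (tt N84676 (iv4 F370171)) (tt N113627 D216882) (tt N52205 F367234) (tt N91415 (iv7 F393036)))
theorem Q83732 : ∀ i, i < 83732 → P i := stepQ 83731 Q83731 (allL N83731 (tt N51348 (iv1 F331391)) (tt N52109 F331399) (tt N51573 (iv2 F291631)) (tt N113627 (iv3 F486365)) (tt N51571 (iv4 F291630)) (tt N49323 (iv5 D186186)) (tt N113628 D216883) (tt N52111 (iv7 F365029)))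
theorem Q83733 : ∀ i, i < 83733 → P i := stepQ 83732 Q83732 (allL N83732 (tt N49329 (iv1 F288971)) (tt N49324 (iv0 D186188)) (tt N49845 (iv2 F331414)) (tt N51584 (iv3 F331415)) (tt N52111 (iv4 F331416)) (tt N49844 F331405) (tt N60273 (iv6 F331420)) (tt N51571 (iv7 F331417)))
theorem Q83734 : ∀ i, i < 83734 → P i := stepQ 83733 Q83733 (allL N83733 (tt N97201 (iv1 F415868)) (tt N92994 F399049) (tt N97202 (iv2 F415873)) (tt N60788 (iv3 F331452)) (tt N52647 (iv4 F294060)) (tt N60786 (iv5 F331441)) (tt N49324 (iv6 D186190)) (tt N60284 F331434))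
theorem Q83735 : ∀ i, i < 83735 → P i := stepQ 83734 Q83734 (allL N83734 (tt N70016 F369241) (tt N85964 F374647) (tt N50175 (iv2 F331435)) (tt N60789 F331437) (tt N105758 (iv4 F451560)) (tt N49325 (iv5 D186194)) (tt N60786 (iv6 F331442)) (tt N50173 (iv7 F331436)))
theorem Q83736 : ∀ i, i < 83736 → P i := stepQ 83735 Q83735 (allL N83735 (tt N83706 F288977) (tt N83704 F288974) (tt N49327 (iv2 D186198)) (tt N50416 (iv3 F293508)) (tt N49327 F288975) (tt N86671 (iv5 F376753)) (tt N92808 (iv6 F398318)) (tt N85945 F374546))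
theorem Q83737 : ∀ i, i < 83737 → P i := stepQ 83736 Q83736 (allL N83736 (tt N86760 (iv1 F377087)) (tt N86766 (iv0 F377109)) (tt N86671 (iv2 F376752)) (tt N49329 F288978) (tt N113629 D216884) (tt N49327 (iv5 D186199)) (tt N60285 F366041) (tt N113626 (iv7 F486362)))
theorem Q83738 : ∀ i, i < 83738 → P i := stepQ 83737 Q83737 (allL N83737 (tt N52109 (iv1 F331400)) (tt N51348 (iv0 F331390)) (tt N52111 F331418) (tt N83780 (iv3 F289092)) (tt N49845 F288981) (tt N49328 (iv5 D186201)) (tt N69456 F340441) (tt N51573 (iv7 F291633)))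
theorem Q83739 : ∀ i, i < 83739 → P i := stepQ 83738 Q83738 (allL N83738 (tt N52646 (iv1 F294056)) (tt N51351 (iv0 F331394)) (tt N49997 F288983) (tt N52627 (iv3 F294049)) (tt N49329 (iv4 D186203)) (tt N50677 F288984) (tt N60286 F366998) (tt N52644 (iv7 F294058)))
theorem Q83740 : ∀ i, i < 83740 → P i := stepQ 83739 Q83739 (allL N83739 (tt N55063 (iv1 F365030)) (tt N68391 (iv0 F331380)) (tt N49332 F288991) (tt N113630 D216885) (tt N49330 (iv4 D186211)) (tt N51347 (iv5 F293683)) (tt N113631 D216886) (tt N51789 F365031))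
theorem Q83741 : ∀ i, i < 83741 → P i := stepQ 83740 Q83740 (allL N83740 (tt N103054 (iv1 F439867)) (tt N103055 (iv0 F439873)) (tt N49333 F288993) (tt N113618 (iv3 F486328)) (tt N113631 (iv4 F486386)) (tt N86185 (iv5 F375312)) (tt N49330 (iv6 D186212)) (tt N113632 D216887))
theorem Q83742 : ∀ i, i < 83742 → P i := stepQ 83741 Q83741 (allL N83741 (tt N88429 (iv1 F383016)) (tt N88430 (iv0 F383023)) (tt N83597 (iv2 F348101)) (tt N49331 (iv3 D186219)) (tt N83595 (iv4 F348102)) (tt N84439 (iv5 F369259)) (tt N83594 F348096) (tt N60169 F348098))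
theorem Q83743 : ∀ i, i < 83743 → P i := stepQ 83742 Q83742 (allL N83742 (tt N97259 F416113) (tt N103209 (iv0 F440579)) (tt N113631 (iv2 F486385)) (tt N88336 (iv3 F382638)) (tt N49333 F288996) (tt N88336 (iv5 F382640)) (tt N49332 (iv6 D186225)) (tt N113633 D216888))
theorem Q83744 : ∀ i, i < 83744 → P i := stepQ 83743 Q83743 (allL N83743 (tt N113632 (iv1 F486395)) (tt N49333 (iv0 D186227)) (tt N103054 (iv2 F439864)) (tt N110979 F474058) (tt N113634 D216889) (tt N61226 F367231) (tt N97824 (iv6 F418426)) (tt N103055 (iv7 F439870)))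
theorem Q83745 : ∀ i, i < 83745 → P i := stepQ 83744 Q83744 (allL N83744 (tt N49333 (iv1 D186228)) (tt N113632 F486394) (tt N103055 (iv2 F439868)) (tt N87477 (iv3 F379468)) (tt N113635 D216890) (tt N61227 (iv5 F367248)) (tt N69474 F367249) (tt N103054 (iv7 F439865)))
theorem Q83746 : ∀ i, i < 83746 → P i := stepQ 83745 Q83745 (allL N83745 (tt N103055 (iv1 F439872)) (tt N103054 (iv0 F439866)) (tt N113632 (iv2 F486391)) (tt N49339 F288999) (tt N113633 (iv4 F486397)) (tt N86190 (iv5 F375328)) (tt N79966 (iv6 F331427)) (tt N49333 (iv7 D186229)))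
theorem Q83747 : ∀ i, i < 83747 → P i := stepQ 83746 Q83746 (allL N83746 (tt N104002 F443739) (tt N61112 (iv0 F331425)) (tt N79967 F331423) (tt N49340 F289000) (tt N87712 (iv4 F380231)) (tt N60991 (iv5 F331422)) (tt N49334 (iv6 D186230)) (tt N79966 F331424))
theorem Q83748 : ∀ i, i < 83748 → P i := stepQ 83747 Q83747 (allL N83747 (tt N84705 (iv1 F370280)) (tt N55607 F289006) (tt N49335 (iv2 D186245)) (tt N76458 F345006) (tt N70677 F344974) (tt N49356 F289005) (tt N70681 F344972) (tt N50766 (iv7 F345005)))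
theorem Q83749 : ∀ i, i < 83749 → P i := stepQ 83748 Q83748 (allL N83748 (tt N76471 (iv1 F344971)) (tt N49336 (iv0 D186248)) (tt N85409 F373655) (tt N57211 F364666) (tt N85749 (iv4 F373783)) (tt N93189 (iv5 F399873)) (tt N99687 (iv6 F425747)) (tt N85410 (iv7 F373654)))
theorem Q83750 : ∀ i, i < 83750 → P i := stepQ 83749 Q83749 (allL N83749 (tt N49336 (iv1 D186249)) (tt N76471 F367236) (tt N85410 (iv2 F373656)) (tt N111080 (iv3 F474573)) (tt N85750 F373791) (tt N113636 D216891) (tt N103902 F443284) (tt N85409 F373657))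
theorem Q83751 : ∀ i, i < 83751 → P i := stepQ 83750 Q83750 (allL N83750 (tt N113637 D216892) (tt N113638 D216893) (tt N51400 (iv2 F367237)) (tt N86902 (iv3 F377643)) (tt N86590 (iv4 F376548)) (tt N49336 (iv5 D186250)) (tt N49357 F289010) (tt N92979 (iv7 F399004)))
theorem Q83752 : ∀ i, i < 83752 → P i := stepQ 83751 Q83751 (allL N83751 (tt N78961 F399769) (tt N88813 (iv0 F399770)) (tt N104979 (iv2 F448238)) (tt N49337 (iv3 D186253)) (tt N93167 (iv4 F399765)) (tt N105421 F450181) (tt N113639 D216894) (tt N109724 (iv7 F468302)))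
theorem Q83753 : ∀ i, i < 83753 → P i := stepQ 83752 Q83752 (allL N83752 (tt N113640 D216895) (tt N61170 (iv0 F352893)) (tt N104980 (iv2 F448243)) (tt N105421 F450182) (tt N106281 (iv4 F453878)) (tt N49337 (iv5 D186255)) (tt N113641 D216896) (tt N113623 (iv7 F486348)))
theorem Q83754 : ∀ i, i < 83754 → P i := stepQ 83753 Q83753 (allL N83753 (tt N103902 (iv1 F443282)) (tt N103901 (iv0 F443281)) (tt N103904 (iv2 F443289)) (tt N113639 (iv3 F486437)) (tt N104983 (iv4 F448264)) (tt N86915 F377691) (tt N49337 (iv6 D186256)) (tt N103895 (iv7 F443255)))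
theorem Q83755 : ∀ i, i < 83755 → P i := stepQ 83754 Q83754 (allL N83754 (tt N61170 F387438) (tt N113640 F486446) (tt N113623 (iv2 F486345)) (tt N64820 F352839) (tt N64825 (iv4 F352842)) (tt N49338 (iv5 D186260)) (tt N89629 (iv6 F387016)) (tt N104980 (iv7 F448246)))
theorem Q83756 : ∀ i, i < 83756 → P i := stepQ 83755 Q83755 (allL N83755 (tt N104003 F443744) (tt N88816 (iv0 F387439)) (tt N87656 (iv2 F380005)) (tt N68371 F352840) (tt N68390 (iv4 F352841)) (tt N103900 (iv5 F443275)) (tt N49338 (iv6 D186261)) (tt N103899 (iv7 F443272)))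
theorem Q83757 : ∀ i, i < 83757 → P i := stepQ 83756 Q83756 (allL N83756 (tt N54861 (iv1 F289015)) (tt N54860 F289016) (tt N54863 F289013) (tt N79966 (iv3 F331426)) (tt N86873 (iv4 F377526)) (tt N79897 F331428) (tt N49339 (iv6 D186262)) (tt N49340 F289014))
theorem Q83758 : ∀ i, i < 83758 → P i := stepQ 83757 Q83757 (allL N83757 (tt N54863 (iv1 F289017)) (tt N49340 (iv0 D186263)) (tt N54860 (iv2 F377425)) (tt N68425 (iv3 F355119)) (tt N78518 (iv4 F355120)) (tt N76128 F355118) (tt N89879 (iv6 F387838)) (tt N54861 F377419))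
theorem Q83759 : ∀ i, i < 83759 → P i := stepQ 83758 Q83758 (allL N83758 (tt N49340 (iv1 D186264)) (tt N54863 F289018) (tt N54861 F377427) (tt N99736 (iv3 F425977)) (tt N78519 (iv4 F355324)) (tt N98117 (iv5 F419528)) (tt N99735 (iv6 F425972)) (tt N54860 (iv7 F377426)))
theorem Q83760 : ∀ i, i < 83760 → P i := stepQ 83759 Q83759 (allL N83759 (tt N86299 F375748) (tt N51242 (iv0 F367041)) (tt N53146 (iv2 F367042)) (tt N51258 F367043) (tt N49341 (iv4 D186279)) (tt N109741 (iv5 F468384)) (tt N52981 F367044) (tt N51279 F367045))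
theorem Q83761 : ∀ i, i < 83761 → P i := stepQ 83760 Q83760 (allL N83760 (tt N53162 (iv1 F367085)) (tt N49475 F367084) (tt N53147 (iv2 F367050)) (tt N88985 (iv3 F384664)) (tt N113642 D216897) (tt N49341 (iv5 D186280)) (tt N105413 (iv6 F450145)) (tt N52848 F367047))
theorem Q83762 : ∀ i, i < 83762 → P i := stepQ 83761 Q83761 (allL N83761 (tt N49475 F367083) (tt N53162 F367086) (tt N52848 F367048) (tt N82823 F367046) (tt N113643 D216898) (tt N49342 (iv5 D186285)) (tt N105733 F451469) (tt N53147 (iv7 F367049)))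
theorem Q83763 : ∀ i, i < 83763 → P i := stepQ 83762 Q83762 (allL N83762 (tt N53151 (iv1 F367068)) (tt N53150 F367126) (tt N49344 F289053) (tt N53137 F367065) (tt N113644 D216899) (tt N49343 (iv5 D186287)) (tt N113645 D216900) (tt N53148 (iv7 F367066)))
theorem Q83764 : ∀ i, i < 83764 → P i := stepQ 83763 Q83763 (allL N83763 (tt N53148 (iv1 F367125)) (tt N49344 (iv0 D186288)) (tt N53151 F367132) (tt N113646 D216901) (tt N110495 (iv4 F471840)) (tt N50791 F367129) (tt N110494 (iv6 F471837)) (tt N53150 F367136))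
theorem Q83765 : ∀ i, i < 83765 → P i := stepQ 83764 Q83764 (allL N83764 (tt N49344 (iv1 D186289)) (tt N53148 F367067) (tt N53150 (iv2 F367137)) (tt N82889 (iv3 F370486)) (tt N113647 D216902) (tt N50792 F367139) (tt N113648 D216903) (tt N53151 (iv7 F367138)))
theorem Q83766 : ∀ i, i < 83766 → P i := stepQ 83765 Q83765 (allL N83765 (tt N113649 D216904) (tt N86737 (iv0 F377038)) (tt N113644 (iv2 F486466)) (tt N53152 (iv3 F367112)) (tt N49344 (iv4 D186290)) (tt N113650 D216905) (tt N113651 D216906) (tt N53152 (iv7 F367124)))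
theorem Q83767 : ∀ i, i < 83767 → P i := stepQ 83766 Q83766 (allL N83766 (tt N113652 D216907) (tt N113653 D216908) (tt N113645 (iv2 F486470)) (tt N49345 F289054) (tt N113651 (iv4 F486494)) (tt N89023 (iv5 F384848)) (tt N49344 (iv6 D186291)) (tt N113654 D216909))
theorem Q83768 : ∀ i, i < 83768 → P i := stepQ 83767 Q83767 (allL N83767 (tt N53145 (iv1 F359442)) (tt N49345 (iv0 D186292)) (tt N53143 (iv2 F359437)) (tt N99510 (iv3 F424927)) (tt N51185 F359438) (tt N95957 (iv5 F410427)) (tt N89786 (iv6 F387562)) (tt N53144 (iv7 F359439)))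
theorem Q83769 : ∀ i, i < 83769 → P i := stepQ 83768 Q83768 (allL N83768 (tt N53144 (iv1 F359445)) (tt N53143 F359444) (tt N53145 F359443) (tt N113654 (iv3 F486500)) (tt N53156 (iv4 F366995)) (tt N89025 (iv5 F384850)) (tt N53156 F367183) (tt N49345 (iv7 D186294)))
theorem Q83770 : ∀ i, i < 83770 → P i := stepQ 83769 Q83769 (allL N83769 (tt N67348 F347470) (tt N103383 F441387) (tt N110971 (iv2 F474018)) (tt N49346 (iv3 D186297)) (tt N67401 (iv4 F341767)) (tt N97220 (iv5 F415952)) (tt N80787 F289063) (tt N79437 (iv7 F363246)))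
theorem Q83771 : ∀ i, i < 83771 → P i := stepQ 83770 Q83770 (allL N83770 (tt N49347 (iv1 D186299)) (tt N71733 F356057) (tt N95354 (iv2 F407973)) (tt N80364 (iv3 F345723)) (tt N65649 (iv4 F345721)) (tt N113655 D216910) (tt N102324 (iv6 F436734)) (tt N95350 F407961))
theorem Q83772 : ∀ i, i < 83772 → P i := stepQ 83771 Q83771 (allL N83771 (tt N95350 F407960) (tt N95354 F407975) (tt N49347 (iv2 D186300)) (tt N91189 (iv3 F392201)) (tt N97117 (iv4 F415522)) (tt N99695 (iv5 F425778)) (tt N49352 F289064) (tt N71733 F356054))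
theorem Q83773 : ∀ i, i < 83773 → P i := stepQ 83772 Q83772 (allL N83772 (tt N95354 (iv1 F407976)) (tt N95350 (iv0 F407959)) (tt N71733 (iv2 F356052)) (tt N49349 F289066) (tt N65628 (iv4 F345718)) (tt N108599 (iv5 F463202)) (tt N59703 F356051) (tt N49347 (iv7 D186302)))
theorem Q83774 : ∀ i, i < 83774 → P i := stepQ 83773 Q83773 (allL N83773 (tt N79477 (iv1 F302243)) (tt N79457 (iv0 F303397)) (tt N81259 F289068) (tt N108591 (iv3 F463177)) (tt N49348 (iv4 D186303)) (tt N79461 (iv5 F303414)) (tt N101551 F433363) (tt N80837 F289072))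
theorem Q83775 : ∀ i, i < 83775 → P i := stepQ 83774 Q83774 (allL N83774 (tt N113656 D216911) (tt N113657 D216912) (tt N81646 F289073) (tt N108596 F463189) (tt N101551 F433364) (tt N49354 F289074) (tt N49348 (iv6 D186304)) (tt N113658 D216913))
theorem Q83776 : ∀ i, i < 83776 → P i := stepQ 83775 Q83775 (allL N83775 (tt N65146 (iv1 F289078)) (tt N80539 (iv0 F298771)) (tt N79464 (iv2 F302207)) (tt N108599 (iv3 F463200)) (tt N80837 F289076) (tt N49349 F289077) (tt N113659 D216914) (tt N49348 (iv7 D186305)))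
theorem Q83777 : ∀ i, i < 83777 → P i := stepQ 83776 Q83776 (allL N83776 (tt N67484 (iv1 F364568)) (tt N79690 (iv0 F289082)) (tt N91193 (iv2 F392224)) (tt N59741 F364567) (tt N49350 (iv4 D186308)) (tt N104350 (iv5 F445369)) (tt N67380 (iv6 F395746)) (tt N65604 (iv7 F364544)))
theorem Q83778 : ∀ i, i < 83778 → P i := stepQ 83777 Q83777 (allL N83777 (tt N103963 (iv1 F443548)) (tt N79863 (iv0 F365690)) (tt N91194 (iv2 F392229)) (tt N59744 (iv3 F365689)) (tt N67380 F395747) (tt N97317 (iv5 F416330)) (tt N49350 (iv6 D186310)) (tt N95436 (iv7 F408180)))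
theorem Q83779 : ∀ i, i < 83779 → P i := stepQ 83778 Q83778 (allL N83778 (tt N79665 (iv1 F376765)) (tt N74813 (iv0 F376764)) (tt N59737 (iv2 F364552)) (tt N49351 (iv3 D186312)) (tt N100815 (iv4 F430605)) (tt N112431 (iv5 F481069)) (tt N79655 F364553) (tt N91192 (iv7 F392213)))
theorem Q83780 : ∀ i, i < 83780 → P i := stepQ 83779 Q83779 (allL N83779 (tt N79690 F376763) (tt N67484 (iv0 F343672)) (tt N65604 (iv2 F334367)) (tt N79681 (iv3 F289084)) (tt N49351 (iv4 D186313)) (tt N85299 (iv5 F372210)) (tt N92014 (iv6 F395363)) (tt N91193 (iv7 F392226)))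
theorem Q83781 : ∀ i, i < 83781 → P i := stepQ 83780 Q83780 (allL N83780 (tt N52682 (iv1 F350534)) (tt N49985 F350533) (tt N52685 (iv2 F360346)) (tt N83737 F289092) (tt N49353 (iv4 D186319)) (tt N49987 F289094) (tt N104886 (iv6 F447806)) (tt N52684 (iv7 F293682)))
theorem Q83782 : ∀ i, i < 83782 → P i := stepQ 83781 Q83781 (allL N83781 (tt N113660 D216915) (tt N113661 D216916) (tt N108644 (iv2 F463338)) (tt N49354 F289097) (tt N104886 (iv4 F447804)) (tt N108596 F463190) (tt N49353 (iv6 D186320)) (tt N113662 D216917))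
theorem Q83783 : ∀ i, i < 83783 → P i := stepQ 83782 Q83782 (allL N83782 (tt N81647 (iv1 F289101)) (tt N49354 (iv0 D186321)) (tt N81644 (iv2 F369375)) (tt N112699 (iv3 F482231)) (tt N84455 F369376) (tt N113663 D216918) (tt N112362 (iv6 F480748)) (tt N81645 F369377))
theorem Q83784 : ∀ i, i < 83784 → P i := stepQ 83783 Q83783 (allL N83783 (tt N49354 (iv1 D186322)) (tt N81647 F289098) (tt N81645 F369374) (tt N113664 D216919) (tt N84456 F369372) (tt N113665 D216920) (tt N86790 (iv6 F377213)) (tt N81644 (iv7 F369373)))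
theorem Q83785 : ∀ i, i < 83785 → P i := stepQ 83784 Q83784 (allL N83784 (tt N81645 (iv1 F289102)) (tt N81644 F289103) (tt N81647 F289099) (tt N113662 (iv3 F486530)) (tt N84443 (iv4 F369288)) (tt N113658 (iv5 F486516)) (tt N81652 F289100) (tt N49354 (iv7 D186323)))
theorem Q83786 : ∀ i, i < 83786 → P i := stepQ 83785 Q83785 (allL N83785 (tt N49367 F345027) (tt N51428 F345028) (tt N51269 (iv2 F345029)) (tt N51402 F362414) (tt N93193 (iv4 F399890)) (tt N49355 (iv5 D186327)) (tt N93192 F399886) (tt N51426 F362415))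
theorem Q83787 : ∀ i, i < 83787 → P i := stepQ 83786 Q83786 (allL N83786 (tt N83951 (iv1 F367587)) (tt N83950 F367585) (tt N51398 F366991) (tt N49360 F289142) (tt N91214 (iv4 F392292)) (tt N49358 (iv5 D186360)) (tt N87647 (iv6 F379989)) (tt N83946 (iv7 F367579)))
theorem Q83788 : ∀ i, i < 83788 → P i := stepQ 83787 Q83787 (allL N83787 (tt N113666 D216921) (tt N113667 D216922) (tt N86901 (iv2 F377640)) (tt N113668 D216923) (tt N49360 (iv4 D186369)) (tt N113669 D216924) (tt N96774 F413869) (tt N84764 (iv7 F370534)))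
theorem Q83789 : ∀ i, i < 83789 → P i := stepQ 83788 Q83788 (allL N83788 (tt N97258 F416109) (tt N111080 (iv0 F474571)) (tt N86902 (iv2 F377642)) (tt N87647 (iv3 F379988)) (tt N96774 (iv4 F413866)) (tt N70681 (iv5 F345004)) (tt N49360 (iv6 D186370)) (tt N60174 F362431))
theorem Q83790 : ∀ i, i < 83790 → P i := stepQ 83789 Q83789 (allL N83789 (tt N113667 (iv1 F486547)) (tt N113666 F486545) (tt N84764 (iv2 F370532)) (tt N113670 D216925) (tt N49361 (iv4 D186378)) (tt N113671 D216926) (tt N60171 F367081) (tt N86901 (iv7 F377641)))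
theorem Q83791 : ∀ i, i < 83791 → P i := stepQ 83790 Q83790 (allL N83790 (tt N86908 (iv1 F377668)) (tt N86907 F377664) (tt N49365 F289170) (tt N112452 F481163) (tt N49362 (iv4 D186384)) (tt N113672 D216927) (tt N96930 (iv6 F414661)) (tt N86903 (iv7 F377646)))
theorem Q83792 : ∀ i, i < 83792 → P i := stepQ 83791 Q83791 (allL N83791 (tt N113673 D216928) (tt N93989 (iv0 F402729)) (tt N49366 F289171) (tt N86883 (iv3 F377581)) (tt N96930 (iv4 F414660)) (tt N71256 (iv5 F367396)) (tt N49362 (iv6 D186385)) (tt N113674 D216929))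
theorem Q83793 : ∀ i, i < 83793 → P i := stepQ 83792 Q83792 (allL N83792 (tt N83948 (iv1 F376696)) (tt N76473 (iv0 F375295)) (tt N51410 (iv2 F366994)) (tt N49363 (iv3 D186387)) (tt N69600 (iv4 F376742)) (tt N54741 F366992) (tt N113675 D216930) (tt N86905 (iv7 F377656)))
theorem Q83794 : ∀ i, i < 83794 → P i := stepQ 83793 Q83793 (allL N83793 (tt N87539 (iv1 F379697)) (tt N87543 F379709) (tt N86906 (iv2 F377660)) (tt N69601 F376737) (tt N49363 (iv4 D186388)) (tt N113676 D216931) (tt N95431 F408167) (tt N74162 (iv7 F359562)))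
theorem Q83795 : ∀ i, i < 83795 → P i := stepQ 83794 Q83794 (allL N83794 (tt N70470 F359557) (tt N70469 F359558) (tt N70472 F359555) (tt N113675 (iv3 F486580)) (tt N95431 (iv4 F408165)) (tt N61732 (iv5 F359554)) (tt N49363 (iv6 D186390)) (tt N61731 F359556))
theorem Q83796 : ∀ i, i < 83796 → P i := stepQ 83795 Q83795 (allL N83795 (tt N86903 (iv1 F377648)) (tt N49365 (iv0 D186396)) (tt N86908 F377670) (tt N113677 D216932) (tt N113678 D216933) (tt N113679 D216934) (tt N108740 (iv6 F463767)) (tt N86907 F377667))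
theorem Q83797 : ∀ i, i < 83797 → P i := stepQ 83796 Q83796 (allL N83796 (tt N108552 F463052) (tt N108543 (iv0 F463023)) (tt N108550 F463046) (tt N49365 (iv3 D186398)) (tt N49371 F289174) (tt N113680 D216935) (tt N60231 F367385) (tt N81642 F289175))
theorem Q83798 : ∀ i, i < 83798 → P i := stepQ 83797 Q83797 (allL N83797 (tt N81180 F376739) (tt N113681 D216936) (tt N113672 (iv2 F486560)) (tt N113680 (iv3 F486600)) (tt N113682 D216937) (tt N49365 (iv5 D186399)) (tt N113683 D216938) (tt N86909 (iv7 F377672)))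
theorem Q83799 : ∀ i, i < 83799 → P i := stepQ 83798 Q83798 (allL N83798 (tt N96933 F452512) (tt N96909 (iv0 F414564)) (tt N96930 F414659) (tt N60231 F367384) (tt N49366 F289176) (tt N60230 (iv5 F367386)) (tt N49365 (iv6 D186400)) (tt N96931 (iv7 F414658)))
theorem Q83800 : ∀ i, i < 83800 → P i := stepQ 83799 Q83799 (allL N83799 (tt N113674 (iv1 F486578)) (tt N49366 (iv0 D186401)) (tt N113673 F486568) (tt N68130 (iv3 F367388)) (tt N68080 F367387) (tt N109846 (iv5 F468882)) (tt N108278 (iv6 F461837)) (tt N93989 (iv7 F402728)))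
theorem Q83801 : ∀ i, i < 83801 → P i := stepQ 83800 Q83800 (allL N83800 (tt N49366 (iv1 D186402)) (tt N113674 F486577) (tt N93989 (iv2 F402726)) (tt N51418 F377002) (tt N104190 (iv4 F444605)) (tt N104030 (iv5 F443873)) (tt N104031 (iv6 F443877)) (tt N113673 (iv7 F486570)))
theorem Q83802 : ∀ i, i < 83802 → P i := stepQ 83801 Q83801 (allL N83801 (tt N93989 F402730) (tt N113673 F486571) (tt N113674 (iv2 F486572)) (tt N49375 F289177) (tt N96931 (iv4 F414657)) (tt N89872 (iv5 F387815)) (tt N86911 (iv6 F377677)) (tt N49366 (iv7 D186403)))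
theorem Q83803 : ∀ i, i < 83803 → P i := stepQ 83802 Q83802 (allL N83802 (tt N51426 (iv1 F344369)) (tt N51269 (iv0 F291015)) (tt N49367 (iv2 D186405)) (tt N83720 F289178) (tt N109014 (iv4 F464928)) (tt N51441 (iv5 F291008)) (tt N108795 (iv6 F463982)) (tt N51428 (iv7 F291021)))
theorem Q83804 : ∀ i, i < 83804 → P i := stepQ 83803 Q83803 (allL N83803 (tt N87550 (iv1 F379737)) (tt N104922 F447958) (tt N109014 (iv2 F464927)) (tt N88473 (iv3 F383188)) (tt N49367 (iv4 D186406)) (tt N97961 (iv5 F418976)) (tt N109015 (iv6 F464936)) (tt N74486 (iv7 F326240)))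
theorem Q83805 : ∀ i, i < 83805 → P i := stepQ 83804 Q83804 (allL N83804 (tt N51429 (iv1 F366053)) (tt N93193 (iv0 F399894)) (tt N108795 (iv2 F463979)) (tt N49368 F289185) (tt N109015 (iv4 F464935)) (tt N66612 (iv5 F364868)) (tt N49367 (iv6 D186407)) (tt N74777 (iv7 F366051)))
theorem Q83806 : ∀ i, i < 83806 → P i := stepQ 83805 Q83805 (allL N83805 (tt N83725 (iv1 F289191)) (tt N49368 (iv0 D186408)) (tt N81657 F365430) (tt N97283 F416201) (tt N74184 (iv4 F365429)) (tt N103898 (iv5 F443267)) (tt N113684 D216939) (tt N81660 F365431))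
theorem Q83807 : ∀ i, i < 83807 → P i := stepQ 83806 Q83806 (allL N83806 (tt N49368 (iv1 D186409)) (tt N83725 F289186) (tt N81660 (iv2 F365432)) (tt N70469 F367061) (tt N80663 (iv4 F364461)) (tt N70605 (iv5 F367060)) (tt N97269 (iv6 F444740)) (tt N81657 (iv7 F365433)))
theorem Q83808 : ∀ i, i < 83808 → P i := stepQ 83807 Q83807 (allL N83807 (tt N81660 (iv1 F364450)) (tt N81657 (iv0 F365434)) (tt N83725 F289189) (tt N74777 F366052) (tt N85463 (iv4 F372714)) (tt N84947 (iv5 F371154)) (tt N74775 (iv6 F324137)) (tt N49368 (iv7 D186411)))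
theorem Q83809 : ∀ i, i < 83809 → P i := stepQ 83808 Q83808 (allL N83808 (tt N83722 (iv1 F289200)) (tt N83721 F289198) (tt N49369 (iv2 D186414)) (tt N51428 (iv3 F291019)) (tt N86535 (iv4 F376450)) (tt N50505 F289196) (tt N74790 F355757) (tt N83720 F289197))
theorem Q83810 : ∀ i, i < 83810 → P i := stepQ 83809 Q83809 (allL N83809 (tt N86530 (iv1 F376443)) (tt N86433 (iv0 F376203)) (tt N86535 F376451) (tt N87650 (iv3 F379992)) (tt N49369 (iv4 D186415)) (tt N113685 D216940) (tt N76402 (iv6 F355689)) (tt N83723 F289201))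
theorem Q83811 : ∀ i, i < 83811 → P i := stepQ 83810 Q83810 (allL N83810 (tt N76259 F349278) (tt N108791 F463959) (tt N74790 (iv2 F355731)) (tt N49370 F289202) (tt N76402 F355688) (tt N74789 F355695) (tt N49369 (iv6 D186416)) (tt N97273 (iv7 F416157)))
theorem Q83812 : ∀ i, i < 83812 → P i := stepQ 83811 Q83811 (allL N83811 (tt N81641 (iv1 F289211)) (tt N49371 (iv0 D186421)) (tt N81591 F362556) (tt N49996 F341813) (tt N113567 (iv4 F486064)) (tt N55466 (iv5 F341814)) (tt N49995 (iv6 F341815)) (tt N81587 (iv7 F362548)))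
theorem Q83813 : ∀ i, i < 83813 → P i := stepQ 83812 Q83812 (allL N83812 (tt N49371 (iv1 D186422)) (tt N81641 F289216) (tt N81587 (iv2 F362552)) (tt N97200 (iv3 F415861)) (tt N87554 (iv4 F399904)) (tt N78659 F362553) (tt N74113 (iv6 F362555)) (tt N81591 (iv7 F362554)))
theorem Q83814 : ∀ i, i < 83814 → P i := stepQ 83813 Q83813 (allL N83813 (tt N81591 (iv1 F382068)) (tt N81587 (iv0 F382065)) (tt N49371 (iv2 D186423)) (tt N62661 (iv3 F350529)) (tt N108550 (iv4 F463044)) (tt N79845 F289213) (tt N113686 D216941) (tt N81641 F289214))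
theorem Q83815 : ∀ i, i < 83815 → P i := stepQ 83814 Q83814 (allL N83814 (tt N52589 F382165) (tt N112727 (iv0 F482385)) (tt N113686 (iv2 F486625)) (tt N49372 F289218) (tt N60231 (iv4 F367383)) (tt N91317 (iv5 F392702)) (tt N49371 (iv6 D186424)) (tt N113687 D216942))
theorem Q83816 : ∀ i, i < 83816 → P i := stepQ 83815 Q83815 (allL N83815 (tt N81652 (iv1 F289225)) (tt N49372 (iv0 D186425)) (tt N81649 (iv2 F367382)) (tt N113688 D216943) (tt N84461 (iv4 F369403)) (tt N83888 F367381) (tt N89254 (iv6 F385805)) (tt N81650 (iv7 F367398)))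
theorem Q83817 : ∀ i, i < 83817 → P i := stepQ 83816 Q83816 (allL N83816 (tt N49372 (iv1 D186426)) (tt N81652 F289219) (tt N81650 F367399) (tt N87093 (iv3 F378353)) (tt N84462 (iv4 F369399)) (tt N84401 (iv5 F369170)) (tt N113689 D216944) (tt N81649 F367397))
theorem Q83818 : ∀ i, i < 83818 → P i := stepQ 83817 Q83817 (allL N83817 (tt N84267 F391881) (tt N113690 D216945) (tt N81651 F289220) (tt N91317 F392706) (tt N84264 (iv4 F368734)) (tt N49372 (iv5 D186427)) (tt N79847 F289221) (tt N113691 D216946))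
theorem Q83819 : ∀ i, i < 83819 → P i := stepQ 83818 Q83818 (allL N83818 (tt N81650 (iv1 F289226)) (tt N81649 F289227) (tt N81652 F289222) (tt N113687 (iv3 F486633)) (tt N49375 F289223) (tt N113691 (iv5 F486658)) (tt N81647 F289224) (tt N49372 (iv7 D186428)))
theorem Q83820 : ∀ i, i < 83820 → P i := stepQ 83819 Q83819 (allL N83819 (tt N92858 (iv1 F398544)) (tt N113692 D216947) (tt N86892 (iv2 F377611)) (tt N104919 (iv3 F447938)) (tt N113693 D216948) (tt N49373 (iv5 D186432)) (tt N113694 D216949) (tt N86896 (iv7 F377624)))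
theorem Q83821 : ∀ i, i < 83821 → P i := stepQ 83820 Q83820 (allL N83820 (tt N88808 F447995) (tt N76454 (iv0 F374376)) (tt N113695 D216950) (tt N49374 (iv3 D186435)) (tt N113696 D216951) (tt N109681 (iv5 F468077)) (tt N105019 F468079) (tt N86891 F377612))
theorem Q83822 : ∀ i, i < 83822 → P i := stepQ 83821 Q83821 (allL N83821 (tt N113692 (iv1 F486662)) (tt N92858 (iv0 F398543)) (tt N86896 (iv2 F377623)) (tt N109681 F468078) (tt N113697 D216952) (tt N49374 (iv5 D186437)) (tt N50426 (iv6 F367257)) (tt N86892 F377613))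
theorem Q83823 : ∀ i, i < 83823 → P i := stepQ 83822 Q83822 (allL N83822 (tt N113698 D216953) (tt N113684 F486618) (tt N86897 (iv2 F377628)) (tt N105019 (iv3 F468080)) (tt N112415 (iv4 F481006)) (tt N113699 D216954) (tt N49374 (iv6 D186438)) (tt N113700 D216955))
theorem Q83824 : ∀ i, i < 83824 → P i := stepQ 83823 Q83823 (allL N83823 (tt N49376 (iv1 D186440)) (tt N52625 F289236) (tt N49559 F289240) (tt N51450 (iv3 F289239)) (tt N52395 (iv4 F289238)) (tt N113411 (iv5 F485370)) (tt N112398 (iv6 F480932)) (tt N52760 F289237))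
theorem Q83825 : ∀ i, i < 83825 → P i := stepQ 83824 Q83824 (allL N83824 (tt N75142 F381222) (tt N113701 D216956) (tt N87345 (iv2 F379083)) (tt N49378 F289241) (tt N88966 F384614) (tt N49376 (iv5 D186441)) (tt N94133 (iv6 F403368)) (tt N85561 (iv7 F373069)))
theorem Q83826 : ∀ i, i < 83826 → P i := stepQ 83825 Q83825 (allL N83825 (tt N113076 (iv1 F483868)) (tt N83912 (iv0 F367472)) (tt N85920 (iv2 F374472)) (tt N87251 (iv3 F378874)) (tt N84897 (iv4 F371024)) (tt N49377 (iv5 D186443)) (tt N76459 (iv6 F316653)) (tt N85919 (iv7 F374465)))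
theorem Q83827 : ∀ i, i < 83827 → P i := stepQ 83826 Q83826 (allL N83826 (tt N113702 D216957) (tt N113083 (iv0 F483901)) (tt N85565 (iv2 F373079)) (tt N111166 (iv3 F475039)) (tt N49378 (iv4 D186444)) (tt N109084 (iv5 F465255)) (tt N94005 F402793) (tt N85562 (iv7 F373071)))
theorem Q83828 : ∀ i, i < 83828 → P i := stepQ 83827 Q83827 (allL N83827 (tt N49380 (iv1 D186448)) (tt N51520 F289259) (tt N82647 F344264) (tt N49576 (iv3 F289260)) (tt N49482 (iv4 F289261)) (tt N71849 (iv5 F344343)) (tt N113703 D216958) (tt N49580 (iv7 F344262)))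
theorem Q83829 : ∀ i, i < 83829 → P i := stepQ 83828 Q83828 (allL N83828 (tt N113046 F483711) (tt N92145 (iv0 F395951)) (tt N86467 (iv2 F376316)) (tt N49382 F289262) (tt N85975 (iv4 F374693)) (tt N49380 (iv5 D186449)) (tt N85974 (iv6 F374691)) (tt N107052 (iv7 F456786)))
theorem Q83830 : ∀ i, i < 83830 → P i := stepQ 83829 Q83829 (allL N83829 (tt N49681 F289291) (tt N87031 (iv0 F378114)) (tt N49393 F289289) (tt N100158 (iv3 F427761)) (tt N109045 (iv4 F465083)) (tt N49383 (iv5 D186456)) (tt N111946 (iv6 F478811)) (tt N49397 F289290))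
theorem Q83831 : ∀ i, i < 83831 → P i := stepQ 83830 Q83830 (allL N83830 (tt N49534 (iv1 F289297)) (tt N82729 (iv0 F289296)) (tt N49394 F289294) (tt N110504 (iv3 F471883)) (tt N88520 (iv4 F383378)) (tt N52727 F289295) (tt N49383 (iv6 D186457)) (tt N83015 (iv7 F289300)))
theorem Q83832 : ∀ i, i < 83832 → P i := stepQ 83831 Q83831 (allL N83831 (tt N87031 F378115) (tt N49681 F289307) (tt N49397 F289305) (tt N74343 (iv3 F356602)) (tt N79076 (iv4 F356613)) (tt N49384 (iv5 D186459)) (tt N76368 F356612) (tt N49393 F289306))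
theorem Q83833 : ∀ i, i < 83833 → P i := stepQ 83832 Q83832 (allL N83832 (tt N76518 F351905) (tt N76516 F351911) (tt N78330 (iv2 F351913)) (tt N63918 (iv3 F351920)) (tt N64362 (iv4 F351906)) (tt N89150 (iv5 F385354)) (tt N49388 (iv6 D186472)) (tt N76482 F351912))
theorem Q83834 : ∀ i, i < 83834 → P i := stepQ 83833 Q83833 (allL N83833 (tt N75672 (iv1 F356583)) (tt N49391 (iv0 D186482)) (tt N87308 (iv2 F379026)) (tt N49411 F344214) (tt N52425 F344215) (tt N90646 (iv5 F390386)) (tt N87222 (iv6 F378807)) (tt N49542 (iv7 F344216)))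
theorem Q83835 : ∀ i, i < 83835 → P i := stepQ 83834 Q83834 (allL N83834 (tt N75578 (iv1 F356605)) (tt N62998 F356806) (tt N63067 (iv2 F356587)) (tt N49393 F289349) (tt N62741 (iv4 F346300)) (tt N49391 (iv5 D186484)) (tt N113704 D216959) (tt N74343 (iv7 F356603)))
theorem Q83836 : ∀ i, i < 83836 → P i := stepQ 83835 Q83835 (allL N83835 (tt N96849 F415888) (tt N96848 (iv0 F414240)) (tt N87366 (iv2 F379134)) (tt N49394 F289350) (tt N84511 (iv4 F369578)) (tt N83033 (iv5 F289351)) (tt N49391 (iv6 D186485)) (tt N113705 D216960))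
theorem Q83837 : ∀ i, i < 83837 → P i := stepQ 83836 Q83836 (allL N83836 (tt N112314 (iv1 F480500)) (tt N84349 (iv0 F369023)) (tt N88519 (iv2 F383371)) (tt N87253 (iv3 F378887)) (tt N60953 (iv4 F336819)) (tt N49392 (iv5 D186487)) (tt N109728 F468318) (tt N101099 F431669))
theorem Q83838 : ∀ i, i < 83838 → P i := stepQ 83837 Q83837 (allL N83837 (tt N88597 F383553) (tt N84351 (iv0 F369027)) (tt N88520 (iv2 F383376)) (tt N87254 (iv3 F378892)) (tt N49394 F289354) (tt N113185 (iv5 F484369)) (tt N49392 (iv6 D186488)) (tt N88600 F383558))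
theorem Q83839 : ∀ i, i < 83839 → P i := stepQ 83838 Q83838 (allL N83838 (tt N49397 (iv1 F289357)) (tt N49393 (iv0 D186489)) (tt N49681 (iv2 F289356)) (tt N49620 F289358) (tt N81407 (iv4 F336807)) (tt N50636 F289355) (tt N111298 (iv6 F475692)) (tt N87031 (iv7 F378113)))
theorem Q83840 : ∀ i, i < 83840 → P i := stepQ 83839 Q83839 (allL N83839 (tt N84713 (iv1 F370306)) (tt N100322 (iv0 F428420)) (tt N109045 (iv2 F465081)) (tt N74869 F357771) (tt N49393 (iv4 D186490)) (tt N98728 (iv5 F422044)) (tt N111945 (iv6 F478804)) (tt N79076 F356614))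
theorem Q83841 : ∀ i, i < 83841 → P i := stepQ 83840 Q83840 (allL N83840 (tt N76383 F341562) (tt N100767 (iv0 F430371)) (tt N111946 (iv2 F478808)) (tt N113704 (iv3 F486727)) (tt N111945 (iv4 F478803)) (tt N83035 F289359) (tt N49393 (iv6 D186491)) (tt N110317 (iv7 F471012)))
theorem Q83842 : ∀ i, i < 83842 → P i := stepQ 83841 Q83841 (allL N83841 (tt N82729 (iv1 F289369)) (tt N49534 F289370) (tt N83015 F289366) (tt N113705 (iv3 F486734)) (tt N88600 (iv4 F383557)) (tt N52726 F289367) (tt N82929 F289368) (tt N49394 (iv7 D186493)))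
theorem Q83843 : ∀ i, i < 83843 → P i := stepQ 83842 Q83842 (allL N83842 (tt N106611 (iv1 F455047)) (tt N91419 (iv0 F393058)) (tt N85911 (iv2 F374428)) (tt N53676 F367142) (tt N49398 F289386) (tt N89385 (iv5 F386319)) (tt N49396 (iv6 D186500)) (tt N85913 (iv7 F374439)))
theorem Q83844 : ∀ i, i < 83844 → P i := stepQ 83843 Q83843 (allL N83843 (tt N100322 F428419) (tt N84713 (iv0 F370305)) (tt N79076 (iv2 F349056)) (tt N92767 (iv3 F398136)) (tt N49397 (iv4 D186501)) (tt N60952 F349055) (tt N64208 (iv6 F349059)) (tt N109045 (iv7 F465085)))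
theorem Q83845 : ∀ i, i < 83845 → P i := stepQ 83844 Q83844 (allL N83844 (tt N73850 (iv1 F341553)) (tt N73849 (iv0 F355734)) (tt N73852 (iv2 F335426)) (tt N72697 F341551) (tt N74443 F341543) (tt N73416 F341552) (tt N49400 (iv6 D186510)) (tt N73801 (iv7 F341550)))
theorem Q83846 : ∀ i, i < 83846 → P i := stepQ 83845 Q83845 (allL N83845 (tt N76340 (iv1 F357209)) (tt N76339 F357215) (tt N76342 F357207) (tt N49420 F289402) (tt N61522 F357208) (tt N113602 (iv5 F486251)) (tt N49401 (iv6 D186516)) (tt N63296 (iv7 F357206)))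
theorem Q83847 : ∀ i, i < 83847 → P i := stepQ 83846 Q83846 (allL N83846 (tt N49738 (iv1 F289456)) (tt N49737 F289457) (tt N49657 F289453) (tt N63296 F357188) (tt N54575 F289454) (tt N89969 (iv5 F388137)) (tt N49404 (iv6 D186534)) (tt N49420 F289455))
theorem Q83848 : ∀ i, i < 83848 → P i := stepQ 83847 Q83847 (allL N83847 (tt N49702 (iv1 F289465)) (tt N49701 F289466) (tt N49407 F289462) (tt N49669 F289463) (tt N113706 D216961) (tt N49406 (iv5 D186542)) (tt N62906 (iv6 F346067)) (tt N49697 F289464))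
theorem Q83849 : ∀ i, i < 83849 → P i := stepQ 83848 Q83848 (allL N83848 (tt N49584 F356792) (tt N71859 F356793) (tt N49408 F289467) (tt N49670 F289468) (tt N82712 F289469) (tt N53984 (iv5 F356797)) (tt N49406 (iv6 D186543)) (tt N86246 (iv7 F375568)))
theorem Q83850 : ∀ i, i < 83850 → P i := stepQ 83849 Q83849 (allL N83849 (tt N49697 (iv1 F289471)) (tt N49407 (iv0 D186544)) (tt N49702 (iv2 F344223)) (tt N100491 (iv3 F429151)) (tt N62767 (iv4 F344206)) (tt N53398 F344202) (tt N113707 D216962) (tt N49701 (iv7 F356787)))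
theorem Q83851 : ∀ i, i < 83851 → P i := stepQ 83850 Q83850 (allL N83850 (tt N49407 (iv1 D186545)) (tt N49697 F289472) (tt N49701 (iv2 F356783)) (tt N81320 (iv3 F357758)) (tt N62769 (iv4 F346001)) (tt N50548 F346006) (tt N62928 F346004) (tt N49702 F346005))
theorem Q83852 : ∀ i, i < 83852 → P i := stepQ 83851 Q83851 (allL N83851 (tt N74806 F346800) (tt N111941 (iv0 F478786)) (tt N113706 (iv2 F486740)) (tt N66682 F337129) (tt N49407 (iv4 D186546)) (tt N101692 (iv5 F433890)) (tt N62959 (iv6 F346068)) (tt N49703 F289473))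
theorem Q83853 : ∀ i, i < 83853 → P i := stepQ 83852 Q83852 (allL N83852 (tt N86246 F375570) (tt N49408 (iv0 D186548)) (tt N49584 (iv2 F346012)) (tt N113703 (iv3 F486720)) (tt N54528 (iv4 F357598)) (tt N88404 (iv5 F382895)) (tt N49576 F346010) (tt N71859 (iv7 F346014)))
theorem Q83854 : ∀ i, i < 83854 → P i := stepQ 83853 Q83853 (allL N83853 (tt N49408 (iv1 D186549)) (tt N86246 (iv0 F375569)) (tt N71859 (iv2 F357616)) (tt N83391 (iv3 F357618)) (tt N54529 F357615) (tt N88405 (iv5 F382903)) (tt N86243 (iv6 F375543)) (tt N49584 (iv7 F357617)))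
theorem Q83855 : ∀ i, i < 83855 → P i := stepQ 83854 Q83854 (allL N83854 (tt N75226 F337133) (tt N51724 F346797) (tt N66725 F337128) (tt N49409 (iv3 D186551)) (tt N66682 (iv4 F337127)) (tt N53414 F289480) (tt N66681 F337130) (tt N49708 F289481))
theorem Q83856 : ∀ i, i < 83856 → P i := stepQ 83855 Q83855 (allL N83855 (tt N58645 F362117) (tt N84368 (iv0 F369057)) (tt N49689 F289482) (tt N66681 (iv3 F362113)) (tt N49410 F289483) (tt N113708 D216963) (tt N49409 (iv6 D186552)) (tt N66714 (iv7 F362116)))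
theorem Q83857 : ∀ i, i < 83857 → P i := stepQ 83856 Q83856 (allL N83856 (tt N49693 (iv1 F289489)) (tt N49410 (iv0 D186553)) (tt N49690 F368294) (tt N78338 (iv3 F350725)) (tt N96955 (iv4 F414763)) (tt N90612 (iv5 F390269)) (tt N54487 F289484) (tt N49691 (iv7 F368295)))
theorem Q83858 : ∀ i, i < 83858 → P i := stepQ 83857 Q83857 (allL N83857 (tt N49410 (iv1 D186554)) (tt N49693 F289485) (tt N49691 (iv2 F368297)) (tt N100767 F430373) (tt N100770 (iv4 F430386)) (tt N90611 (iv5 F390264)) (tt N113709 D216964) (tt N49690 F368296))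
theorem Q83859 : ∀ i, i < 83859 → P i := stepQ 83858 Q83858 (allL N83858 (tt N49691 (iv1 F289490)) (tt N49690 F289491) (tt N49693 F289486) (tt N62905 (iv3 F362114)) (tt N66714 F362115) (tt N54622 F289487) (tt N49713 F289488) (tt N49410 (iv7 D186555)))
theorem Q83860 : ∀ i, i < 83860 → P i := stepQ 83859 Q83859 (allL N83859 (tt N51915 (iv1 F289501)) (tt N51948 (iv0 F289500)) (tt N49667 (iv2 F364383)) (tt N49887 F289499) (tt N49411 (iv4 D186562)) (tt N113710 D216965) (tt N84581 (iv6 F369758)) (tt N49544 (iv7 F364381)))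
theorem Q83861 : ∀ i, i < 83861 → P i := stepQ 83860 Q83860 (allL N83860 (tt N49674 (iv1 F289505)) (tt N49673 F289506) (tt N49413 F289502) (tt N49697 F289503) (tt N113711 D216966) (tt N49412 (iv5 D186565)) (tt N96222 (iv6 F411573)) (tt N49669 F289504))
theorem Q83862 : ∀ i, i < 83862 → P i := stepQ 83861 Q83861 (allL N83861 (tt N49669 (iv1 F289509)) (tt N49413 (iv0 D186567)) (tt N49674 (iv2 F362407)) (tt N63959 (iv3 F362412)) (tt N85368 (iv4 F372372)) (tt N50523 F362409) (tt N63956 F362411) (tt N49673 (iv7 F362408)))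
theorem Q83863 : ∀ i, i < 83863 → P i := stepQ 83862 Q83862 (allL N83862 (tt N49413 (iv1 D186568)) (tt N49669 F289510) (tt N49673 F362404) (tt N75578 (iv3 F362406)) (tt N85367 (iv4 F372363)) (tt N53265 (iv5 F362403)) (tt N75645 F362413) (tt N49674 F362405))
theorem Q83864 : ∀ i, i < 83864 → P i := stepQ 83863 Q83863 (allL N83863 (tt N113712 D216967) (tt N108449 (iv0 F462630)) (tt N113711 (iv2 F486770)) (tt N79984 (iv3 F347694)) (tt N49413 (iv4 D186569)) (tt N50360 F347695) (tt N79982 F347690) (tt N49675 F289511))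
theorem Q83865 : ∀ i, i < 83865 → P i := stepQ 83864 Q83864 (allL N83864 (tt N84046 F367908) (tt N51711 (iv0 F367282)) (tt N49709 F367278) (tt N69499 F367279) (tt N49415 F367280) (tt N69496 F367281) (tt N49414 (iv6 D186574)) (tt N84044 (iv7 F367901)))
theorem Q83866 : ∀ i, i < 83866 → P i := stepQ 83865 Q83865 (allL N83865 (tt N49713 (iv1 F367286)) (tt N49415 (iv0 D186575)) (tt N49710 (iv2 F367283)) (tt N76371 F367284) (tt N111809 (iv4 F478084)) (tt N89975 (iv5 F388161)) (tt N110304 (iv6 F470942)) (tt N49711 F367285))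
theorem Q83867 : ∀ i, i < 83867 → P i := stepQ 83866 Q83866 (allL N83866 (tt N49711 (iv1 F367289)) (tt N49710 F367290) (tt N49713 F367287) (tt N96217 (iv3 F411548)) (tt N84044 F367903) (tt N86241 (iv5 F375536)) (tt N49693 F367288) (tt N49415 (iv7 D186576)))
theorem Q83868 : ∀ i, i < 83868 → P i := stepQ 83867 Q83867 (allL N83867 (tt N91026 F391645) (tt N91028 (iv0 F391654)) (tt N49719 F367291) (tt N87192 (iv3 F378655)) (tt N49418 F367292) (tt N106868 (iv5 F456074)) (tt N49417 (iv6 D186577)) (tt N95469 (iv7 F408299)))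
theorem Q83869 : ∀ i, i < 83869 → P i := stepQ 83868 Q83868 (allL N83868 (tt N49723 (iv1 F367300)) (tt N49418 (iv0 D186578)) (tt N49720 F367304) (tt N69796 F367311) (tt N105290 (iv4 F449583)) (tt N69853 (iv5 F367303)) (tt N77149 F367312) (tt N49721 F367302))
theorem Q83870 : ∀ i, i < 83870 → P i := stepQ 83869 Q83869 (allL N83869 (tt N49418 (iv1 D186579)) (tt N49723 F367293) (tt N49721 F367295) (tt N98552 (iv3 F421302)) (tt N105289 (iv4 F449576)) (tt N70054 (iv5 F367294)) (tt N109134 (iv6 F465497)) (tt N49720 (iv7 F367306)))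
theorem Q83871 : ∀ i, i < 83871 → P i := stepQ 83870 Q83870 (allL N83870 (tt N49721 (iv1 F367301)) (tt N49720 F367307) (tt N49723 F367296) (tt N70960 F367297) (tt N95469 (iv4 F408298)) (tt N70959 F367298) (tt N49727 F367299) (tt N49418 (iv7 D186580)))
theorem Q83872 : ∀ i, i < 83872 → P i := stepQ 83871 Q83871 (allL N83871 (tt N105290 (iv1 F449581)) (tt N105289 F449578) (tt N49729 F367313) (tt N91455 (iv3 F393202)) (tt N52868 F367314) (tt N113713 D216968) (tt N49419 (iv6 D186581)) (tt N96899 (iv7 F414510)))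
theorem Q83873 : ∀ i, i < 83873 → P i := stepQ 83872 Q83872 (allL N83872 (tt N49657 (iv1 F367315)) (tt N49420 (iv0 D186582)) (tt N49737 F378674) (tt N91539 (iv3 F393553)) (tt N87195 F378672) (tt N113714 D216969) (tt N85605 (iv6 F373191)) (tt N49738 F378675))
theorem Q83874 : ∀ i, i < 83874 → P i := stepQ 83873 Q83873 (allL N83873 (tt N49420 (iv1 D186583)) (tt N49657 F367316) (tt N49738 F378676) (tt N96231 (iv3 F411615)) (tt N87259 (iv4 F378921)) (tt N113715 D216970) (tt N96229 F411609) (tt N49737 F378677))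
theorem Q83875 : ∀ i, i < 83875 → P i := stepQ 83874 Q83874 (allL N83874 (tt N91032 (iv1 F391671)) (tt N53055 (iv0 F367373)) (tt N86713 (iv2 F376874)) (tt N49421 (iv3 D186584)) (tt N49429 F367317) (tt N50891 F367318) (tt N50444 F367319) (tt N49808 F367320))
theorem Q83876 : ∀ i, i < 83876 → P i := stepQ 83875 Q83875 (allL N83875 (tt N51846 F367325) (tt N51845 (iv0 F367326)) (tt N49864 F367321) (tt N49423 (iv3 D186585)) (tt N51831 F367322) (tt N98542 (iv5 F421251)) (tt N53072 F367323) (tt N49486 F367324))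
theorem Q83877 : ∀ i, i < 83877 → P i := stepQ 83876 Q83876 (allL N83876 (tt N86231 F375490) (tt N49424 (iv0 D186586)) (tt N49501 (iv2 F367329)) (tt N82990 F367327) (tt N85742 (iv4 F373762)) (tt N88420 (iv5 F382970)) (tt N49491 F367328) (tt N86232 (iv7 F375495)))
theorem Q83878 : ∀ i, i < 83878 → P i := stepQ 83877 Q83877 (allL N83877 (tt N53176 F367333) (tt N53687 (iv0 F367334)) (tt N53685 F367330) (tt N49428 F367331) (tt N112322 (iv4 F480545)) (tt N49424 (iv5 D186587)) (tt N90804 (iv6 F390921)) (tt N53499 F367332))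
theorem Q83879 : ∀ i, i < 83879 → P i := stepQ 83878 Q83878 (allL N83878 (tt N96955 F414767) (tt N100770 (iv0 F430389)) (tt N49785 F367338) (tt N66698 F367339) (tt N49426 F367340) (tt N113716 D216971) (tt N49425 (iv6 D186588)) (tt N113717 D216972))
theorem Q83880 : ∀ i, i < 83880 → P i := stepQ 83879 Q83879 (allL N83879 (tt N49789 F367343) (tt N49426 (iv0 D186589)) (tt N49786 (iv2 F367342)) (tt N99990 (iv3 F427074)) (tt N84208 (iv4 F368517)) (tt N113718 D216973) (tt N54712 F367341) (tt N49787 (iv7 F367344)))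
theorem Q83881 : ∀ i, i < 83881 → P i := stepQ 83880 Q83880 (allL N83880 (tt N49426 (iv1 D186590)) (tt N49789 F367345) (tt N49787 (iv2 F367347)) (tt N113719 D216974) (tt N84209 F368522) (tt N91141 (iv5 F392062)) (tt N113720 D216975) (tt N49786 F367346))
theorem Q83882 : ∀ i, i < 83882 → P i := stepQ 83881 Q83881 (allL N83881 (tt N107327 (iv1 F457977)) (tt N113721 D216976) (tt N49788 F367348) (tt N90804 (iv3 F390920)) (tt N54627 (iv4 F367350)) (tt N49426 (iv5 D186591)) (tt N49428 F367349) (tt N90864 (iv7 F391079)))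
theorem Q83883 : ∀ i, i < 83883 → P i := stepQ 83882 Q83882 (allL N83882 (tt N49787 (iv1 F367354)) (tt N49786 F367355) (tt N49789 F367351) (tt N63033 F367352) (tt N113717 (iv4 F486803)) (tt N90864 (iv5 F391077)) (tt N49820 F367353) (tt N49426 (iv7 D186592)))
theorem Q83884 : ∀ i, i < 83884 → P i := stepQ 83883 Q83883 (allL N83883 (tt N52861 (iv1 F368190)) (tt N89635 (iv0 F387032)) (tt N105320 (iv2 F449696)) (tt N49427 (iv3 D186593)) (tt N51432 F367356) (tt N84740 (iv5 F370436)) (tt N50432 F367357) (tt N49521 F367358))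
theorem Q83885 : ∀ i, i < 83885 → P i := stepQ 83884 Q83884 (allL N83884 (tt N49824 (iv1 F367363)) (tt N49823 F367362) (tt N49429 (iv2 D186594)) (tt N49797 F367359) (tt N86713 (iv4 F376875)) (tt N53682 F367364) (tt N50465 F367360) (tt N49825 F367361))
theorem Q83886 : ∀ i, i < 83886 → P i := stepQ 83885 Q83885 (allL N83885 (tt N53434 F367369) (tt N50246 (iv0 F367370)) (tt N53682 F367366) (tt N49430 F367367) (tt N110861 (iv4 F473488)) (tt N49429 (iv5 D186595)) (tt N110859 (iv6 F473479)) (tt N49826 F367368))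
theorem Q83887 : ∀ i, i < 83887 → P i := stepQ 83886 Q83886 (allL N83886 (tt N90707 (iv1 F390582)) (tt N90709 (iv0 F390589)) (tt N49800 F367374) (tt N110859 (iv3 F473474)) (tt N53420 F367375) (tt N50467 F367376) (tt N49430 (iv6 D186596)) (tt N113722 D216977))
theorem Q83888 : ∀ i, i < 83888 → P i := stepQ 83887 Q83887 (allL N83887 (tt N91089 F391882) (tt N91091 F391891) (tt N113723 D216978) (tt N49431 (iv3 D186597)) (tt N104327 (iv4 F445268)) (tt N53419 F367377) (tt N104326 (iv6 F445266)) (tt N49784 F367378))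
theorem Q83889 : ∀ i, i < 83889 → P i := stepQ 83888 Q83888 (allL N83888 (tt N111809 (iv1 F478088)) (tt N88078 (iv0 F381712)) (tt N49816 F367379) (tt N104326 (iv3 F445263)) (tt N49432 F367380) (tt N83815 (iv5 F367381)) (tt N49431 (iv6 D186598)) (tt N96194 (iv7 F411436)))
theorem Q83890 : ∀ i, i < 83890 → P i := stepQ 83889 Q83889 (allL N83889 (tt N49820 (iv1 F367401)) (tt N49432 (iv0 D186599)) (tt N49817 F367403) (tt N78216 F367400) (tt N84238 (iv4 F368641)) (tt N59212 (iv5 F380326)) (tt N104325 F445261) (tt N49818 (iv7 F367402)))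
theorem Q83891 : ∀ i, i < 83891 → P i := stepQ 83890 Q83890 (allL N83890 (tt N49432 (iv1 D186600)) (tt N49820 F367404) (tt N49818 F367407) (tt N109225 (iv3 F465850)) (tt N49549 F367408) (tt N59213 (iv5 F380321)) (tt N49548 (iv6 F367406)) (tt N49817 F367405))
theorem Q83892 : ∀ i, i < 83892 → P i := stepQ 83891 Q83891 (allL N83891 (tt N90725 (iv1 F390654)) (tt N90727 F390661) (tt N49827 F367409) (tt N101616 (iv3 F433568)) (tt N53422 F367410) (tt N49834 F367411) (tt N49434 (iv6 D186601)) (tt N113724 D216979))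
theorem Q83893 : ∀ i, i < 83893 → P i := stepQ 83892 Q83892 (allL N83892 (tt N53010 F367415) (tt N49527 (iv0 F367416)) (tt N52851 F367412) (tt N72043 F367413) (tt N102456 (iv4 F437287)) (tt N49435 (iv5 D186602)) (tt N102463 (iv6 F437315)) (tt N52982 F367414))
theorem Q83894 : ∀ i, i < 83894 → P i := stepQ 83893 Q83893 (allL N83893 (tt N49462 F367421) (tt N53121 F367422) (tt N52847 F367417) (tt N80822 F367418) (tt N66972 F367419) (tt N105733 (iv5 F451465)) (tt N49436 (iv6 D186603)) (tt N53120 F367420))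
theorem Q83895 : ∀ i, i < 83895 → P i := stepQ 83894 Q83894 (allL N83894 (tt N49441 F367428) (tt N49437 (iv0 D186604)) (tt N49438 F367426) (tt N53069 (iv3 F367425)) (tt N51291 F367423) (tt N113725 D216980) (tt N53155 F367424) (tt N49439 F367427))
theorem Q83896 : ∀ i, i < 83896 → P i := stepQ 83895 Q83895 (allL N83895 (tt N49437 (iv1 D186605)) (tt N49441 F367429) (tt N49439 F367433) (tt N52904 (iv3 F367431)) (tt N51283 (iv4 F367432)) (tt N113726 D216981) (tt N52989 (iv6 F371271)) (tt N49438 F367430))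
theorem Q83897 : ∀ i, i < 83897 → P i := stepQ 83896 Q83896 (allL N83896 (tt N113727 D216982) (tt N89341 (iv0 F386194)) (tt N49440 F367434) (tt N52872 F367435) (tt N112959 (iv4 F483386)) (tt N49437 (iv5 D186606)) (tt N89395 (iv6 F386359)) (tt N113728 D216983))
theorem Q83898 : ∀ i, i < 83898 → P i := stepQ 83897 Q83897 (allL N83897 (tt N49439 (iv1 F367440)) (tt N49438 F367441) (tt N49441 F367436) (tt N52873 F367437) (tt N50751 F367438) (tt N113728 (iv5 F486871)) (tt N49769 F367439) (tt N49437 (iv7 D186607)))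
theorem Q83899 : ∀ i, i < 83899 → P i := stepQ 83898 Q83898 (allL N83898 (tt N113551 (iv1 F485998)) (tt N84977 (iv0 F371246)) (tt N113725 (iv2 F486853)) (tt N112883 (iv3 F483131)) (tt N113729 D216984) (tt N49438 (iv5 D186608)) (tt N113730 D216985) (tt N113726 (iv7 F486860)))
theorem Q83900 : ∀ i, i < 83900 → P i := stepQ 83899 Q83899 (allL N83899 (tt N53149 F369093) (tt N49795 F369094) (tt N53155 F367442) (tt N88989 (iv3 F384688)) (tt N111297 (iv4 F475687)) (tt N54653 (iv5 F367443)) (tt N49438 (iv6 D186609)) (tt N53154 (iv7 F369096)))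
theorem Q83901 : ∀ i, i < 83901 → P i := stepQ 83900 Q83900 (allL N83900 (tt N84977 (iv1 F371245)) (tt N113551 (iv0 F485997)) (tt N113726 (iv2 F486858)) (tt N82831 F367444) (tt N107587 (iv4 F458862)) (tt N49439 (iv5 D186610)) (tt N107594 (iv6 F458870)) (tt N113725 (iv7 F486855)))
theorem Q83902 : ∀ i, i < 83902 → P i := stepQ 83901 Q83901 (allL N83901 (tt N50432 (iv1 F372244)) (tt N52984 (iv0 F368970)) (tt N52989 F371270) (tt N82832 F367445) (tt N111320 (iv4 F475805)) (tt N53785 F368969) (tt N49439 (iv6 D186611)) (tt N52990 (iv7 F371269)))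
theorem Q83903 : ∀ i, i < 83903 → P i := stepQ 83902 Q83902 (allL N83902 (tt N113728 (iv1 F486873)) (tt N49440 (iv0 D186612)) (tt N113727 F486864) (tt N113731 D216986) (tt N113732 D216987) (tt N84751 F370476) (tt N113733 D216988) (tt N89341 (iv7 F386193)))
theorem Q83904 : ∀ i, i < 83904 → P i := stepQ 83903 Q83903 (allL N83903 (tt N49440 (iv1 D186613)) (tt N113728 F486872) (tt N89341 (iv2 F386191)) (tt N82834 F372296) (tt N113734 D216989) (tt N85339 (iv5 F372295)) (tt N112988 F483443) (tt N113727 (iv7 F486865)))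
theorem Q83905 : ∀ i, i < 83905 → P i := stepQ 83904 Q83904 (allL N83904 (tt N112956 (iv1 F483379)) (tt N83338 F367446) (tt N112959 F483387) (tt N113735 D216990) (tt N49440 (iv4 D186614)) (tt N113736 D216991) (tt N89403 (iv6 F386373)) (tt N112958 F483385))
theorem Q83906 : ∀ i, i < 83906 → P i := stepQ 83905 Q83905 (allL N83905 (tt N89341 (iv1 F386195)) (tt N113727 F486867) (tt N113728 (iv2 F486868)) (tt N49443 F367447) (tt N112958 (iv4 F483382)) (tt N49441 F367448) (tt N113737 D216992) (tt N49440 (iv7 D186615)))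
theorem Q83907 : ∀ i, i < 83907 → P i := stepQ 83906 Q83906 (allL N83906 (tt N113738 D216993) (tt N113739 D216994) (tt N113740 D216995) (tt N49442 (iv3 D186616)) (tt N113735 (iv4 F486890)) (tt N85967 (iv5 F374655)) (tt N89416 (iv6 F386417)) (tt N113741 D216996))
theorem Q83908 : ∀ i, i < 83908 → P i := stepQ 83907 Q83907 (allL N83907 (tt N50963 (iv1 F367452)) (tt N50563 F367453) (tt N52899 F367449) (tt N113741 (iv3 F486903)) (tt N49443 F367450) (tt N50191 F367451) (tt N112921 (iv6 F483283)) (tt N49442 (iv7 D186617)))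
theorem Q83909 : ∀ i, i < 83909 → P i := stepQ 83908 Q83908 (allL N83908 (tt N113742 D216997) (tt N100986 (iv0 F431164)) (tt N52900 F367454) (tt N113737 (iv3 F486897)) (tt N112921 F483281) (tt N49772 F367455) (tt N49443 (iv6 D186618)) (tt N89419 (iv7 F386427)))
theorem Q83910 : ∀ i, i < 83910 → P i := stepQ 83909 Q83909 (allL N83909 (tt N49821 F367460) (tt N53138 (iv0 F367462)) (tt N49874 F367456) (tt N55074 F367457) (tt N83222 F367458) (tt N53613 (iv5 F367461)) (tt N49445 (iv6 D186619)) (tt N53142 F367459))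
theorem Q83911 : ∀ i, i < 83911 → P i := stepQ 83910 Q83910 (allL N83910 (tt N113743 D216998) (tt N113646 (iv0 F486477)) (tt N82858 F367463) (tt N49451 F367464) (tt N98335 (iv4 F420536)) (tt N49450 (iv5 D186620)) (tt N106360 (iv6 F454139)) (tt N84757 (iv7 F370518)))
theorem Q83912 : ∀ i, i < 83912 → P i := stepQ 83911 Q83911 (allL N83911 (tt N58288 F367468) (tt N57928 F367469) (tt N58285 F367465) (tt N93386 (iv3 F400605)) (tt N49451 (iv4 D186621)) (tt N59329 F367466) (tt N93384 (iv6 F400600)) (tt N58286 F367467))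
theorem Q83913 : ∀ i, i < 83913 → P i := stepQ 83912 Q83912 (allL N83912 (tt N83825 F367472) (tt N88985 (iv0 F384666)) (tt N82862 F367470) (tt N49454 (iv3 D186622)) (tt N109658 (iv4 F467967)) (tt N50060 F367471) (tt N107405 (iv6 F458234)) (tt N86273 (iv7 F375638)))
theorem Q83914 : ∀ i, i < 83914 → P i := stepQ 83913 Q83913 (allL N83913 (tt N95672 (iv1 F409081)) (tt N95688 F409149) (tt N86272 (iv2 F375632)) (tt N107405 (iv3 F458233)) (tt N82447 F367474) (tt N62411 F367475) (tt N49454 (iv6 D186623)) (tt N95215 (iv7 F407449)))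
theorem Q83915 : ∀ i, i < 83915 → P i := stepQ 83914 Q83914 (allL N83914 (tt N81203 F383604) (tt N101105 (iv0 F431694)) (tt N49457 F367476) (tt N52934 F367477) (tt N90231 (iv4 F389004)) (tt N113744 D216999) (tt N49456 (iv6 D186624)) (tt N108440 (iv7 F462573)))
theorem Q83916 : ∀ i, i < 83916 → P i := stepQ 83915 Q83915 (allL N83915 (tt N49457 (iv1 D186625)) (tt N108440 F462572) (tt N101105 (iv2 F431690)) (tt N81197 (iv3 F367480)) (tt N80911 F367479) (tt N113745 D217000) (tt N80946 F367481) (tt N81203 F367478))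
theorem Q83917 : ∀ i, i < 83917 → P i := stepQ 83916 Q83916 (allL N83916 (tt N70544 F367484) (tt N112068 (iv0 F479339)) (tt N113744 (iv2 F486916)) (tt N49458 F367482) (tt N111377 (iv4 F476082)) (tt N49457 (iv5 D186626)) (tt N50220 F367483) (tt N113746 D217001))
theorem Q83918 : ∀ i, i < 83918 → P i := stepQ 83917 Q83917 (allL N83917 (tt N101105 (iv1 F431696)) (tt N81203 (iv0 F367487)) (tt N108440 F462571) (tt N49459 F367485) (tt N90244 (iv4 F389077)) (tt N113746 (iv5 F486932)) (tt N52929 F367486) (tt N49457 (iv7 D186627)))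
theorem Q83919 : ∀ i, i < 83919 → P i := stepQ 83918 Q83918 (allL N83918 (tt N52948 (iv1 F367492)) (tt N49458 (iv0 D186628)) (tt N52945 (iv2 F367490)) (tt N101630 (iv3 F433618)) (tt N53390 F367489) (tt N53755 F367488) (tt N113747 D217002) (tt N52946 F367491))
theorem Q83920 : ∀ i, i < 83920 → P i := stepQ 83919 Q83919 (allL N83919 (tt N52946 (iv1 F367496)) (tt N52945 F367497) (tt N52948 F367493) (tt N113746 (iv3 F486931)) (tt N89215 (iv4 F385633)) (tt N49459 F367494) (tt N54659 F367495) (tt N49458 (iv7 D186629)))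
theorem Q83921 : ∀ i, i < 83921 → P i := stepQ 83920 Q83920 (allL N83920 (tt N109509 (iv1 F467304)) (tt N109484 (iv0 F467205)) (tt N82955 F367498) (tt N49461 F367499) (tt N113748 D217003) (tt N49460 (iv5 D186630)) (tt N53174 F367500) (tt N109498 (iv7 F467280)))
theorem Q83922 : ∀ i, i < 83922 → P i := stepQ 83921 Q83921 (allL N83921 (tt N81383 (iv1 F367504)) (tt N81387 F367503) (tt N52931 F367501) (tt N94918 (iv3 F406332)) (tt N49461 (iv4 D186631)) (tt N94917 (iv5 F406325)) (tt N53175 F367502) (tt N90618 (iv7 F390295)))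
theorem Q83923 : ∀ i, i < 83923 → P i := stepQ 83922 Q83922 (allL N83922 (tt N89786 F387563) (tt N89785 (iv0 F387556)) (tt N53117 F367505) (tt N109785 (iv3 F468599)) (tt N105593 (iv4 F450892)) (tt N53763 F367506) (tt N49463 (iv6 D186632)) (tt N85446 (iv7 F372649)))
theorem Q83924 : ∀ i, i < 83924 → P i := stepQ 83923 Q83923 (allL N83923 (tt N103842 (iv1 F443055)) (tt N101844 F434627) (tt N109493 (iv2 F467255)) (tt N49466 F367507) (tt N103746 (iv4 F442654)) (tt N49465 (iv5 D186633)) (tt N85442 (iv6 F372647)) (tt N53113 F367508))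
theorem Q83925 : ∀ i, i < 83925 → P i := stepQ 83924 Q83924 (allL N83924 (tt N68401 F367511) (tt N68400 (iv0 F367510)) (tt N109494 (iv2 F467261)) (tt N49467 F367509) (tt N103011 (iv4 F439659)) (tt N113749 D217004) (tt N49465 (iv6 D186634)) (tt N94124 (iv7 F403323)))
theorem Q83926 : ∀ i, i < 83926 → P i := stepQ 83925 Q83925 (allL N83925 (tt N53543 F367513) (tt N53541 F367514) (tt N53130 F367512) (tt N113749 (iv3 F486947)) (tt N92667 (iv4 F397812)) (tt N49467 (iv5 D186635)) (tt N85443 (iv6 F372648)) (tt N88558 (iv7 F383493)))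
theorem Q83927 : ∀ i, i < 83927 → P i := stepQ 83926 Q83926 (allL N83926 (tt N113750 D217005) (tt N113751 D217006) (tt N53134 F367515) (tt N105735 (iv3 F451471)) (tt N86276 (iv4 F375647)) (tt N54827 F367516) (tt N49468 (iv6 D186636)) (tt N113752 D217007))
theorem Q83928 : ∀ i, i < 83928 → P i := stepQ 83927 Q83927 (allL N83927 (tt N82630 F367954) (tt N101842 (iv0 F434615)) (tt N105732 (iv2 F451457)) (tt N49469 (iv3 D186637)) (tt N104582 (iv4 F446397)) (tt N88999 (iv5 F384744)) (tt N113753 D217008) (tt N53132 F367517))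
theorem Q83929 : ∀ i, i < 83929 → P i := stepQ 83928 Q83928 (allL N83928 (tt N89573 F386791) (tt N85584 (iv0 F384772)) (tt N53136 F367518) (tt N113753 (iv3 F486966)) (tt N86278 (iv4 F375657)) (tt N89002 (iv5 F384771)) (tt N49469 (iv6 D186638)) (tt N113754 D217009))
theorem Q83930 : ∀ i, i < 83930 → P i := stepQ 83929 Q83929 (allL N83929 (tt N49477 F367522) (tt N53157 (iv0 F367523)) (tt N51445 F367519) (tt N82852 F367520) (tt N113755 D217010) (tt N49470 (iv5 D186639)) (tt N105602 (iv6 F450936)) (tt N52870 F367521))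
theorem Q83931 : ∀ i, i < 83931 → P i := stepQ 83930 Q83930 (allL N83930 (tt N113756 D217011) (tt N113757 D217012) (tt N113534 (iv2 F485925)) (tt N53140 F367524) (tt N49472 (iv4 D186640)) (tt N113758 D217013) (tt N113759 D217014) (tt N53140 F367525))
theorem Q83932 : ∀ i, i < 83932 → P i := stepQ 83931 Q83931 (allL N83931 (tt N109200 F465768) (tt N106474 (iv0 F454597)) (tt N106984 (iv2 F456518)) (tt N49474 F367526) (tt N113759 (iv4 F486991)) (tt N89278 (iv5 F385897)) (tt N49472 (iv6 D186641)) (tt N113760 D217015))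
theorem Q83933 : ∀ i, i < 83933 → P i := stepQ 83932 Q83932 (allL N83932 (tt N49473 (iv1 D186642)) (tt N90967 F391410) (tt N51465 F367528) (tt N82712 (iv3 F367527)) (tt N87225 (iv4 F378814)) (tt N53508 F367529) (tt N52871 F367530) (tt N90974 (iv7 F391431)))
theorem Q83934 : ∀ i, i < 83934 → P i := stepQ 83933 Q83933 (allL N83933 (tt N53156 (iv1 F367537)) (tt N49474 (iv0 D186643)) (tt N51177 (iv2 F368003)) (tt N101849 (iv3 F434652)) (tt N50861 F380061) (tt N106470 (iv5 F454588)) (tt N105427 (iv6 F450215)) (tt N51181 (iv7 F367998)))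
theorem Q83935 : ∀ i, i < 83935 → P i := stepQ 83934 Q83934 (allL N83934 (tt N49474 (iv1 D186644)) (tt N53156 F367531) (tt N51181 (iv2 F367995)) (tt N112758 (iv3 F482513)) (tt N50862 F380069) (tt N113747 (iv5 F486939)) (tt N53115 (iv6 F367532)) (tt N51177 (iv7 F368004)))
theorem Q83936 : ∀ i, i < 83936 → P i := stepQ 83935 Q83935 (allL N83935 (tt N51181 (iv1 F367994)) (tt N51177 (iv0 F368001)) (tt N53156 F367534) (tt N113760 (iv3 F486995)) (tt N53145 F367535) (tt N89281 (iv5 F385901)) (tt N53145 F367536) (tt N49474 (iv7 D186645)))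
theorem Q83937 : ∀ i, i < 83937 → P i := stepQ 83936 Q83936 (allL N83936 (tt N53147 (iv1 F367547)) (tt N52848 F367546) (tt N49475 (iv2 D186646)) (tt N53157 F367543) (tt N113761 D217016) (tt N50055 F367544) (tt N99759 (iv6 F426096)) (tt N53162 F367545))
theorem Q83938 : ∀ i, i < 83938 → P i := stepQ 83937 Q83937 (allL N83937 (tt N105565 (iv1 F450751)) (tt N84111 (iv0 F368147)) (tt N113761 (iv2 F486999)) (tt N53163 F367548) (tt N49475 (iv4 D186647)) (tt N113762 D217017) (tt N113763 D217018) (tt N53163 F367549))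
theorem Q83939 : ∀ i, i < 83939 → P i := stepQ 83938 Q83938 (allL N83938 (tt N109111 (iv1 F465388)) (tt N96439 F412526) (tt N99759 (iv2 F426094)) (tt N49476 F367550) (tt N113763 (iv4 F487007)) (tt N91018 (iv5 F391586)) (tt N49475 (iv6 D186648)) (tt N109109 (iv7 F465380)))
theorem Q83940 : ∀ i, i < 83940 → P i := stepQ 83939 Q83939 (allL N83939 (tt N53160 (iv1 F367556)) (tt N53159 F367557) (tt N53161 F367552) (tt N109109 (iv3 F465379)) (tt N53168 F367553) (tt N87062 (iv5 F378245)) (tt N53168 F367554) (tt N49476 (iv7 D186651)))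
theorem Q83941 : ∀ i, i < 83941 → P i := stepQ 83940 Q83940 (allL N83940 (tt N52870 (iv1 F367562)) (tt N51445 F367561) (tt N49477 (iv2 D186652)) (tt N53162 F367558) (tt N113764 D217019) (tt N50057 F367559) (tt N109122 (iv6 F465433)) (tt N53157 F367560))
theorem Q83942 : ∀ i, i < 83942 → P i := stepQ 83941 Q83941 (allL N83941 (tt N104727 (iv1 F447010)) (tt N113765 D217020) (tt N113764 (iv2 F487009)) (tt N53158 F367563) (tt N49477 (iv4 D186653)) (tt N113766 D217021) (tt N109107 F465368) (tt N53158 F367564))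
theorem Q83943 : ∀ i, i < 83943 → P i := stepQ 83942 Q83942 (allL N83942 (tt N109120 (iv1 F465420)) (tt N109119 F465434) (tt N109122 (iv2 F465430)) (tt N49478 F367565) (tt N109107 (iv4 F465366)) (tt N53773 F367566) (tt N49477 (iv6 D186654)) (tt N99761 (iv7 F426106)))
theorem Q83944 : ∀ i, i < 83944 → P i := stepQ 83943 Q83943 (allL N83943 (tt N53168 (iv1 F367572)) (tt N49478 (iv0 D186655)) (tt N53165 F378686) (tt N95672 (iv3 F409077)) (tt N50597 F378246) (tt N96680 (iv5 F413423)) (tt N90964 (iv6 F391400)) (tt N53166 (iv7 F378685)))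
theorem Q83945 : ∀ i, i < 83945 → P i := stepQ 83944 Q83944 (allL N83944 (tt N49478 (iv1 D186656)) (tt N53168 F367567) (tt N53166 (iv2 F378687)) (tt N73260 (iv3 F378689)) (tt N50598 F378008) (tt N113767 D217022) (tt N113750 (iv6 F486959)) (tt N53165 F378688))
theorem Q83946 : ∀ i, i < 83946 → P i := stepQ 83945 Q83945 (allL N83945 (tt N53166 (iv1 F367573)) (tt N53165 F367574) (tt N53168 F367568) (tt N99761 (iv3 F426105)) (tt N53161 F367569) (tt N53779 F367570) (tt N53161 F367571) (tt N49478 (iv7 D186657)))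
theorem Q83947 : ∀ i, i < 83947 → P i := stepQ 83946 Q83946 (allL N83946 (tt N86660 (iv1 F376708)) (tt N86659 F376705) (tt N49483 F367576) (tt N50068 F367577) (tt N86840 (iv4 F377389)) (tt N49480 (iv5 D186658)) (tt N57700 F367578) (tt N83786 F367579))
theorem Q83948 : ∀ i, i < 83948 → P i := stepQ 83947 Q83947 (allL N83947 (tt N53839 (iv1 F367582)) (tt N50444 (iv0 F367581)) (tt N85819 F374101) (tt N86761 (iv3 F377092)) (tt N91679 (iv4 F394008)) (tt N86179 (iv5 F375290)) (tt N49481 (iv6 D186660)) (tt N85818 (iv7 F374104)))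
theorem Q83949 : ∀ i, i < 83949 → P i := stepQ 83948 Q83948 (allL N83948 (tt N86453 (iv1 F376259)) (tt N83792 F376696) (tt N86657 (iv2 F376690)) (tt N53054 F367583) (tt N105841 (iv4 F451977)) (tt N49482 (iv5 D186661)) (tt N109754 (iv6 F468460)) (tt N86658 (iv7 F376700)))
theorem Q83950 : ∀ i, i < 83950 → P i := stepQ 83949 Q83949 (allL N83949 (tt N53836 F376697) (tt N85784 (iv0 F374686)) (tt N85785 F373930) (tt N53055 F367584) (tt N113703 (iv4 F486721)) (tt N85973 F374683) (tt N49482 (iv6 D186662)) (tt N85786 (iv7 F373931)))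
theorem Q83951 : ∀ i, i < 83951 → P i := stepQ 83950 Q83950 (allL N83950 (tt N83786 (iv1 F367585)) (tt N49483 (iv0 D186663)) (tt N86660 F376711) (tt N97176 (iv3 F415765)) (tt N87575 (iv4 F379790)) (tt N54746 F367586) (tt N100782 (iv6 F430447)) (tt N86659 F376707))
theorem Q83952 : ∀ i, i < 83952 → P i := stepQ 83951 Q83951 (allL N83951 (tt N49483 (iv1 D186664)) (tt N83786 F367587) (tt N86659 F376706) (tt N53057 (iv3 F367589)) (tt N87574 (iv4 F379787)) (tt N54747 F367588) (tt N113768 D217023) (tt N86660 (iv7 F376709)))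
theorem Q83953 : ∀ i, i < 83953 → P i := stepQ 83952 Q83952 (allL N83952 (tt N86839 (iv1 F377388)) (tt N54870 F367592) (tt N86840 F377390) (tt N85754 (iv3 F377165)) (tt N49483 (iv4 D186665)) (tt N68440 F367591) (tt N78285 F367590) (tt N86661 (iv7 F376714)))
theorem Q83954 : ∀ i, i < 83954 → P i := stepQ 83953 Q83953 (allL N83953 (tt N51313 F367594) (tt N51315 F367595) (tt N84929 (iv2 F371111)) (tt N113769 D217024) (tt N49484 (iv4 D186666)) (tt N113770 D217025) (tt N49485 F367593) (tt N93122 (iv7 F399580)))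
theorem Q83955 : ∀ i, i < 83955 → P i := stepQ 83954 Q83954 (allL N83954 (tt N113771 D217026) (tt N113772 D217027) (tt N113773 D217028) (tt N49485 (iv3 D186667)) (tt N85754 F377166) (tt N86589 (iv5 F376546)) (tt N113769 (iv6 F487037)) (tt N86663 (iv7 F376720)))
theorem Q83956 : ∀ i, i < 83956 → P i := stepQ 83955 Q83955 (allL N83955 (tt N49864 (iv1 F367597)) (tt N49486 (iv0 D186668)) (tt N51845 F367599) (tt N49768 (iv3 F367598)) (tt N51948 F367596) (tt N85369 (iv5 F372377)) (tt N82994 F378212) (tt N51846 F367600))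
theorem Q83957 : ∀ i, i < 83957 → P i := stepQ 83956 Q83956 (allL N83956 (tt N49486 (iv1 D186669)) (tt N49864 F367601) (tt N51846 F367605) (tt N82843 (iv3 F367603)) (tt N51915 (iv4 F367604)) (tt N111255 (iv5 F475465)) (tt N82892 (iv6 F374432)) (tt N51845 F367602))
theorem Q83958 : ∀ i, i < 83958 → P i := stepQ 83957 Q83957 (allL N83957 (tt N82720 F367609) (tt N113497 (iv0 F485780)) (tt N49837 F367606) (tt N52907 F367607) (tt N113774 D217029) (tt N49488 (iv5 D186670)) (tt N113775 D217030) (tt N53075 F367608))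
theorem Q83959 : ∀ i, i < 83959 → P i := stepQ 83958 Q83958 (allL N83958 (tt N50464 (iv1 F367616)) (tt N49499 (iv0 F367615)) (tt N49838 F367610) (tt N50435 F367611) (tt N53839 F367612) (tt N53718 F367614) (tt N49488 (iv6 D186671)) (tt N50465 F367613))
theorem Q83960 : ∀ i, i < 83960 → P i := stepQ 83959 Q83959 (allL N83959 (tt N49489 (iv1 D186672)) (tt N53078 F367617) (tt N52896 (iv2 F367620)) (tt N52908 (iv3 F367621)) (tt N113776 D217031) (tt N81879 F367619) (tt N112896 F483179) (tt N53076 F367618))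
theorem Q83961 : ∀ i, i < 83961 → P i := stepQ 83960 Q83960 (allL N83960 (tt N113777 D217032) (tt N112955 F483377) (tt N53077 F367622) (tt N113778 D217033) (tt N49489 (iv4 D186673)) (tt N89840 (iv5 F387698)) (tt N83687 F367623) (tt N111284 (iv7 F475626)))
theorem Q83962 : ∀ i, i < 83962 → P i := stepQ 83961 Q83961 (allL N83961 (tt N49492 (iv1 D186674)) (tt N49505 F367624) (tt N49503 F367627) (tt N83003 F367628) (tt N94130 (iv4 F403352)) (tt N52302 (iv5 F367626)) (tt N92138 F395920) (tt N49502 F367625))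
theorem Q83963 : ∀ i, i < 83963 → P i := stepQ 83962 Q83962 (allL N83962 (tt N83674 (iv1 F367633)) (tt N75751 (iv0 F367634)) (tt N49504 F367629) (tt N61707 F367630) (tt N49492 (iv4 D186675)) (tt N109736 (iv5 F468352)) (tt N50938 F367631) (tt N61704 F367632))
theorem Q83964 : ∀ i, i < 83964 → P i := stepQ 83963 Q83963 (allL N83963 (tt N101749 (iv1 F434162)) (tt N77307 (iv0 F367638)) (tt N75891 F367635) (tt N64347 F367637) (tt N49494 (iv4 D186676)) (tt N113779 D217034) (tt N101114 (iv6 F431747)) (tt N77141 F367636))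
theorem Q83965 : ∀ i, i < 83965 → P i := stepQ 83964 Q83964 (allL N83964 (tt N101006 F431234) (tt N97937 (iv0 F418869)) (tt N82971 F367639) (tt N110261 (iv3 F470695)) (tt N53662 (iv4 F367641)) (tt N49494 (iv5 D186677)) (tt N73270 F367640) (tt N101089 (iv7 F431621)))
theorem Q83966 : ∀ i, i < 83966 → P i := stepQ 83965 Q83965 (allL N83965 (tt N82992 F367646) (tt N82991 F367647) (tt N51692 F367643) (tt N49498 F367644) (tt N108781 (iv4 F463899)) (tt N49497 (iv5 D186678)) (tt N85472 F372735) (tt N82989 F367645))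
theorem Q83967 : ∀ i, i < 83967 → P i := stepQ 83966 Q83966 (allL N83966 (tt N108373 (iv1 F462311)) (tt N70759 (iv0 F391772)) (tt N82982 F367652) (tt N70596 (iv3 F391773)) (tt N49498 (iv4 D186679)) (tt N113780 D217035) (tt N113781 D217036) (tt N91081 (iv7 F391857)))
theorem Q83968 : ∀ i, i < 83968 → P i := stepQ 83967 Q83967 (allL N83967 (tt N73266 F367655) (tt N113782 D217037) (tt N82983 F367653) (tt N85472 (iv3 F372733)) (tt N113781 (iv4 F487079)) (tt N50510 F367654) (tt N49498 (iv6 D186680)) (tt N85837 (iv7 F374178)))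
theorem Q83969 : ∀ i, i < 83969 → P i := stepQ 83968 Q83968 (allL N83968 (tt N70759 (iv1 F391774)) (tt N108373 F462309) (tt N91081 (iv2 F391856)) (tt N92816 (iv3 F398357)) (tt N49500 (iv4 D186681)) (tt N68438 F367657) (tt N92812 (iv6 F398341)) (tt N82982 F367656))
theorem Q83970 : ∀ i, i < 83970 → P i := stepQ 83969 Q83969 (allL N83969 (tt N98565 (iv1 F421346)) (tt N101138 (iv0 F431881)) (tt N91082 (iv2 F391858)) (tt N51694 F367658) (tt N92812 F398344) (tt N91151 (iv5 F392099)) (tt N49500 (iv6 D186682)) (tt N113783 D217038))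
theorem Q83971 : ∀ i, i < 83971 → P i := stepQ 83970 Q83970 (allL N83970 (tt N82988 (iv1 F367662)) (tt N82822 (iv0 F367664)) (tt N52307 F367659) (tt N49502 (iv3 D186683)) (tt N55398 F367665) (tt N52306 F367660) (tt N55397 (iv6 F367663)) (tt N83003 F367661))
theorem Q83972 : ∀ i, i < 83972 → P i := stepQ 83971 Q83971 (allL N83971 (tt N108788 (iv1 F463936)) (tt N108787 F463932) (tt N82998 F367666) (tt N105796 (iv3 F451754)) (tt N49502 (iv4 D186684)) (tt N94131 (iv5 F403360)) (tt N105794 (iv6 F451750)) (tt N94130 (iv7 F403353)))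
theorem Q83973 : ∀ i, i < 83973 → P i := stepQ 83972 Q83972 (allL N83972 (tt N69925 F367670) (tt N69919 (iv0 F380871)) (tt N69922 (iv2 F367671)) (tt N55397 F367668) (tt N105794 (iv4 F451746)) (tt N113605 (iv5 F486268)) (tt N49502 (iv6 D186685)) (tt N69923 (iv7 F367669)))
theorem Q83974 : ∀ i, i < 83974 → P i := stepQ 83973 Q83973 (allL N83973 (tt N61704 (iv1 F367675)) (tt N49504 (iv0 D186686)) (tt N83674 (iv2 F367674)) (tt N78921 (iv3 F367677)) (tt N113046 (iv4 F483707)) (tt N93993 (iv5 F402743)) (tt N92144 (iv6 F395945)) (tt N75751 F367676))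
theorem Q83975 : ∀ i, i < 83975 → P i := stepQ 83974 Q83974 (allL N83974 (tt N109735 (iv1 F468345)) (tt N94008 (iv0 F402802)) (tt N109736 (iv2 F468349)) (tt N86834 (iv3 F377368)) (tt N68439 (iv4 F392295)) (tt N49504 (iv5 D186687)) (tt N51327 F367678) (tt N98003 (iv7 F419134)))
theorem Q83976 : ∀ i, i < 83976 → P i := stepQ 83975 Q83975 (allL N83975 (tt N101012 F431268) (tt N89156 F385381) (tt N82957 F367679) (tt N74501 F367680) (tt N49506 (iv4 D186688)) (tt N74497 (iv5 F367682)) (tt N101180 F432080) (tt N52964 F367681))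
theorem Q83977 : ∀ i, i < 83977 → P i := stepQ 83976 Q83976 (allL N83976 (tt N101756 F434207) (tt N101134 (iv0 F431853)) (tt N82958 F367683) (tt N49507 F367684) (tt N113784 D217039) (tt N49506 (iv5 D186689)) (tt N113785 D217040) (tt N52965 F367685))
theorem Q83978 : ∀ i, i < 83978 → P i := stepQ 83977 Q83977 (allL N83977 (tt N49507 (iv1 D186690)) (tt N49509 F367687) (tt N52957 (iv2 F367691)) (tt N97937 (iv3 F418865)) (tt N97666 F417849) (tt N53743 (iv5 F367689)) (tt N53006 F367690) (tt N52956 F367688))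
theorem Q83979 : ∀ i, i < 83979 → P i := stepQ 83978 Q83978 (allL N83978 (tt N65130 F367694) (tt N90413 (iv0 F389561)) (tt N52958 F367692) (tt N60769 F383700) (tt N49507 (iv4 D186691)) (tt N90427 (iv5 F389603)) (tt N97389 (iv6 F416667)) (tt N52969 F367693))
theorem Q83980 : ∀ i, i < 83980 → P i := stepQ 83979 Q83979 (allL N83979 (tt N73222 F367697) (tt N74409 (iv0 F367698)) (tt N52959 F367695) (tt N113785 (iv3 F487099)) (tt N97389 (iv4 F416666)) (tt N53586 F367696) (tt N49507 (iv6 D186692)) (tt N104267 (iv7 F445030)))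
theorem Q83981 : ∀ i, i < 83981 → P i := stepQ 83980 Q83980 (allL N83980 (tt N90413 (iv1 F389562)) (tt N65130 F367701) (tt N52969 F367699) (tt N113786 D217041) (tt N49509 (iv4 D186693)) (tt N90428 (iv5 F389612)) (tt N104266 (iv6 F445026)) (tt N52958 F367700))
theorem Q83982 : ∀ i, i < 83982 → P i := stepQ 83981 Q83981 (allL N83981 (tt N82961 (iv1 F367706)) (tt N72114 (iv0 F367705)) (tt N71934 F367703) (tt N49510 (iv3 D186694)) (tt N103700 (iv4 F442526)) (tt N89720 (iv5 F387296)) (tt N70976 (iv6 F367704)) (tt N52975 F367702))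
theorem Q83983 : ∀ i, i < 83983 → P i := stepQ 83982 Q83982 (allL N83982 (tt N71002 (iv1 F399729)) (tt N97716 F418042) (tt N52974 F367707) (tt N70976 F367708) (tt N71641 F367711) (tt N53461 F367709) (tt N49510 (iv6 D186695)) (tt N54787 (iv7 F367710)))
theorem Q83984 : ∀ i, i < 83984 → P i := stepQ 83983 Q83983 (allL N83983 (tt N102463 F437319) (tt N103788 F442819) (tt N103787 F442812) (tt N49511 (iv3 D186696)) (tt N102486 (iv4 F437407)) (tt N89042 (iv5 F384934)) (tt N113787 D217042) (tt N52971 F367713))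
theorem Q83985 : ∀ i, i < 83985 → P i := stepQ 83984 Q83984 (allL N83984 (tt N69940 (iv1 F383863)) (tt N69947 F383862) (tt N52977 F367714) (tt N113787 (iv3 F487108)) (tt N90423 (iv4 F389594)) (tt N89045 (iv5 F384946)) (tt N49511 (iv6 D186697)) (tt N69945 F383841))
theorem Q83986 : ∀ i, i < 83986 → P i := stepQ 83985 Q83985 (allL N83985 (tt N92109 F395761) (tt N97562 (iv0 F417391)) (tt N67363 F367715) (tt N49512 (iv3 D186698)) (tt N50958 F367716) (tt N65617 (iv5 F367718)) (tt N49532 F367717) (tt N97746 (iv7 F418135)))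
theorem Q83987 : ∀ i, i < 83987 → P i := stepQ 83986 Q83986 (allL N83986 (tt N81805 F367723) (tt N103367 F441311) (tt N52980 F367719) (tt N65617 F367720) (tt N111092 (iv4 F474623)) (tt N49512 (iv5 D186699)) (tt N65616 F367721) (tt N80740 F367722))
theorem Q83988 : ∀ i, i < 83988 → P i := stepQ 83987 Q83987 (allL N83987 (tt N102543 (iv1 F437580)) (tt N103771 F442752) (tt N82962 F367724) (tt N113788 D217043) (tt N49514 (iv4 D186700)) (tt N103780 (iv5 F442783)) (tt N113789 D217044) (tt N52999 F367725))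
theorem Q83989 : ∀ i, i < 83989 → P i := stepQ 83988 Q83988 (allL N83988 (tt N113790 D217045) (tt N106420 (iv0 F454352)) (tt N82963 F367726) (tt N49517 F367727) (tt N113789 (iv4 F487119)) (tt N89060 (iv5 F385011)) (tt N49514 (iv6 D186701)) (tt N113791 D217046))
theorem Q83990 : ∀ i, i < 83990 → P i := stepQ 83989 Q83989 (allL N83989 (tt N113056 F483769) (tt N56403 (iv0 F367729)) (tt N113792 D217047) (tt N49516 (iv3 D186702)) (tt N113788 (iv4 F487114)) (tt N84019 (iv5 F367820)) (tt N87913 (iv6 F381096)) (tt N53003 F367728))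
theorem Q83991 : ∀ i, i < 83991 → P i := stepQ 83990 Q83990 (allL N83990 (tt N88794 (iv1 F384183)) (tt N88798 (iv0 F384181)) (tt N52992 F367730) (tt N87913 F381094) (tt N49517 F367731) (tt N101883 (iv5 F434804)) (tt N49516 (iv6 D186703)) (tt N111010 (iv7 F474229)))
theorem Q83992 : ∀ i, i < 83992 → P i := stepQ 83991 Q83991 (allL N83991 (tt N52995 (iv1 F367743)) (tt N49517 (iv0 D186704)) (tt N52993 F367737) (tt N67232 (iv3 F367735)) (tt N67279 F367732) (tt N73220 F367734) (tt N73222 F367733) (tt N52994 F367736))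
theorem Q83993 : ∀ i, i < 83993 → P i := stepQ 83992 Q83992 (allL N83992 (tt N49517 (iv1 D186705)) (tt N52995 F367738) (tt N52994 (iv2 F367741)) (tt N113782 F487088) (tt N67273 F367740) (tt N112831 (iv5 F482841)) (tt N67229 (iv6 F367742)) (tt N52993 F367739))
theorem Q83994 : ∀ i, i < 83994 → P i := stepQ 83993 Q83993 (allL N83993 (tt N52994 (iv1 F367746)) (tt N52993 F367747) (tt N52995 F367744) (tt N113791 (iv3 F487125)) (tt N111010 (iv4 F474231)) (tt N89062 (iv5 F385019)) (tt N53008 F367745) (tt N49517 (iv7 D186706)))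
theorem Q83995 : ∀ i, i < 83995 → P i := stepQ 83994 Q83994 (allL N83994 (tt N49527 F367751) (tt N53010 (iv0 F367752)) (tt N52982 F367748) (tt N82988 F367749) (tt N102539 (iv4 F437567)) (tt N49518 (iv5 D186707)) (tt N102538 (iv6 F437564)) (tt N52851 F367750))
theorem Q83996 : ∀ i, i < 83996 → P i := stepQ 83995 Q83995 (allL N83995 (tt N52986 (iv1 F367758)) (tt N52985 F367757) (tt N49520 F367754) (tt N52997 F367755) (tt N113793 D217048) (tt N49519 (iv5 D186708)) (tt N113794 D217049) (tt N52983 F367756))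
theorem Q83997 : ∀ i, i < 83997 → P i := stepQ 83996 Q83996 (allL N83996 (tt N89635 F387034) (tt N52861 (iv0 F368189)) (tt N49521 F367760) (tt N52998 F367761) (tt N51427 F367762) (tt N89338 (iv5 F386178)) (tt N49519 (iv6 D186709)) (tt N105320 (iv7 F449700)))
theorem Q83998 : ∀ i, i < 83998 → P i := stepQ 83997 Q83997 (allL N83997 (tt N52983 (iv1 F367763)) (tt N49520 (iv0 D186710)) (tt N52986 (iv2 F367769)) (tt N105107 (iv3 F448822)) (tt N113795 D217050) (tt N87841 (iv5 F380803)) (tt N105105 F448816) (tt N52985 F367768))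
theorem Q83999 : ∀ i, i < 83999 → P i := stepQ 83998 Q83998 (allL N83998 (tt N49520 (iv1 D186711)) (tt N52983 F367764) (tt N52985 F367766) (tt N82992 (iv3 F367765)) (tt N109154 (iv4 F465603)) (tt N84988 F371292) (tt N96158 (iv6 F411280)) (tt N52986 (iv7 F367767)))
theorem Q84000 : ∀ i, i < 84000 → P i := stepQ 83999 Q83999 (allL N83999 (tt N95107 (iv1 F407078)) (tt N82770 F367771) (tt N113793 (iv2 F487137)) (tt N113796 D217051) (tt N49520 (iv4 D186712)) (tt N102483 F437391) (tt N113797 D217052) (tt N52987 F367770))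
theorem Q84001 : ∀ i, i < 84001 → P i := stepQ 84000 Q84000 (allL N84000 (tt N113798 D217053) (tt N113799 D217054) (tt N113794 (iv2 F487143)) (tt N49523 F367772) (tt N113797 (iv4 F487154)) (tt N91128 (iv5 F392027)) (tt N49520 (iv6 D186713)) (tt N113800 D217055))
theorem Q84002 : ∀ i, i < 84002 → P i := stepQ 84001 Q84001 (allL N84001 (tt N105320 (iv1 F449702)) (tt N49521 (iv0 D186714)) (tt N89635 (iv2 F387029)) (tt N113163 (iv3 F484274)) (tt N104818 (iv4 F447437)) (tt N53495 (iv5 F375477)) (tt N86229 F375475) (tt N52861 (iv7 F375476)))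
theorem Q84003 : ∀ i, i < 84003 → P i := stepQ 84002 Q84002 (allL N84002 (tt N49521 (iv1 D186715)) (tt N105320 (iv0 F449701)) (tt N52861 F367775) (tt N82994 (iv3 F378213)) (tt N86787 (iv4 F377200)) (tt N53496 F367773) (tt N49768 (iv6 F367774)) (tt N89635 (iv7 F387031)))
theorem Q84004 : ∀ i, i < 84004 → P i := stepQ 84003 Q84003 (allL N84003 (tt N113801 D217056) (tt N113802 D217057) (tt N113803 D217058) (tt N49522 (iv3 D186716)) (tt N113796 (iv4 F487151)) (tt N84010 (iv5 F367789)) (tt N104360 F445426) (tt N52991 F367776))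
theorem Q84005 : ∀ i, i < 84005 → P i := stepQ 84004 Q84004 (allL N84004 (tt N87686 (iv1 F384025)) (tt N87689 (iv0 F383725)) (tt N53004 F367777) (tt N104360 (iv3 F445427)) (tt N49523 F367778) (tt N104562 (iv5 F446277)) (tt N49522 (iv6 D186717)) (tt N113804 D217059))
theorem Q84006 : ∀ i, i < 84006 → P i := stepQ 84005 Q84005 (allL N84005 (tt N53008 (iv1 F367782)) (tt N49523 (iv0 D186718)) (tt N53005 (iv2 F383713)) (tt N98565 (iv3 F421344)) (tt N88749 (iv4 F384009)) (tt N113207 (iv5 F484486)) (tt N113805 D217060) (tt N53006 F383712))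
theorem Q84007 : ∀ i, i < 84007 → P i := stepQ 84006 Q84006 (allL N84006 (tt N49523 (iv1 D186719)) (tt N53008 F367779) (tt N53006 F383710) (tt N101005 (iv3 F431222)) (tt N103488 (iv4 F441834)) (tt N105303 (iv5 F449631)) (tt N52957 (iv6 F383707)) (tt N53005 (iv7 F383711)))
theorem Q84008 : ∀ i, i < 84008 → P i := stepQ 84007 Q84007 (allL N84007 (tt N53006 (iv1 F367783)) (tt N53005 F367784) (tt N53008 F367780) (tt N113800 (iv3 F487158)) (tt N113804 (iv4 F487184)) (tt N91133 (iv5 F392047)) (tt N52995 F367781) (tt N49523 (iv7 D186720)))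
theorem Q84009 : ∀ i, i < 84009 → P i := stepQ 84008 Q84008 (allL N84008 (tt N109156 (iv1 F465618)) (tt N113806 D217061) (tt N82965 F367785) (tt N113807 D217062) (tt N49524 (iv4 D186721)) (tt N69020 F384122) (tt N113808 D217063) (tt N53020 F367786))
theorem Q84010 : ∀ i, i < 84010 → P i := stepQ 84009 Q84009 (allL N84009 (tt N113809 D217064) (tt N69956 (iv0 F380824)) (tt N82966 F367787) (tt N49526 F367788) (tt N113808 (iv4 F487207)) (tt N113555 (iv5 F486013)) (tt N49524 (iv6 D186722)) (tt N113810 D217065))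
theorem Q84011 : ∀ i, i < 84011 → P i := stepQ 84010 Q84010 (allL N84010 (tt N103262 F440859) (tt N103264 F440869) (tt N103263 F440862) (tt N49525 (iv3 D186723)) (tt N113807 (iv4 F487201)) (tt N84003 F367789) (tt N68755 F367798) (tt N53022 F367790))
theorem Q84012 : ∀ i, i < 84012 → P i := stepQ 84011 Q84011 (allL N84011 (tt N103364 F441292) (tt N113811 D217066) (tt N53015 F367791) (tt N68755 (iv3 F367797)) (tt N49526 F367792) (tt N87682 (iv5 F384029)) (tt N49525 (iv6 D186724)) (tt N113812 D217067))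
theorem Q84013 : ∀ i, i < 84013 → P i := stepQ 84012 Q84012 (allL N84012 (tt N53019 (iv1 F367804)) (tt N49526 (iv0 D186725)) (tt N53016 F377969) (tt N68691 (iv3 F367794)) (tt N68709 (iv4 F367795)) (tt N113813 D217068) (tt N69947 F367793) (tt N53017 (iv7 F377968)))
theorem Q84014 : ∀ i, i < 84014 → P i := stepQ 84013 Q84013 (allL N84013 (tt N49526 (iv1 D186726)) (tt N53019 F367799) (tt N53017 (iv2 F377964)) (tt N69919 F367807) (tt N68702 F367808) (tt N113814 D217069) (tt N68686 F367809) (tt N53016 F377970))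
theorem Q84015 : ∀ i, i < 84015 → P i := stepQ 84014 Q84014 (allL N84014 (tt N89410 F386393) (tt N113815 D217070) (tt N53018 F367800) (tt N113555 (iv3 F486012)) (tt N113816 D217071) (tt N49526 (iv5 D186727)) (tt N49832 F367801) (tt N113817 D217072))
theorem Q84016 : ∀ i, i < 84016 → P i := stepQ 84015 Q84015 (allL N84015 (tt N53017 (iv1 F367805)) (tt N53016 F367810) (tt N53019 F367802) (tt N113810 (iv3 F487221)) (tt N113812 (iv4 F487236)) (tt N113817 (iv5 F487262)) (tt N53026 F367803) (tt N49526 (iv7 D186728)))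
theorem Q84017 : ∀ i, i < 84017 → P i := stepQ 84016 Q84016 (allL N84016 (tt N52851 (iv1 F367815)) (tt N52982 F367814) (tt N49527 (iv2 D186729)) (tt N52311 F367811) (tt N102587 (iv4 F437804)) (tt N52309 F367812) (tt N113818 D217073) (tt N53010 F367813))
theorem Q84018 : ∀ i, i < 84018 → P i := stepQ 84017 Q84017 (allL N84017 (tt N102484 (iv1 F437398)) (tt N82801 F367817) (tt N102587 F437805) (tt N113819 D217074) (tt N49527 (iv4 D186730)) (tt N102920 (iv5 F439272)) (tt N113820 D217075) (tt N53011 F367816))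
theorem Q84019 : ∀ i, i < 84019 → P i := stepQ 84018 Q84018 (allL N84018 (tt N72034 F384098) (tt N113821 D217076) (tt N113818 (iv2 F487266)) (tt N49529 F367818) (tt N113820 (iv4 F487279)) (tt N53596 F367819) (tt N49527 (iv6 D186731)) (tt N97713 (iv7 F418033)))
theorem Q84020 : ∀ i, i < 84020 → P i := stepQ 84019 Q84019 (allL N84019 (tt N113822 D217077) (tt N97515 (iv0 F417208)) (tt N92631 (iv2 F397688)) (tt N49528 (iv3 D186732)) (tt N113819 (iv4 F487273)) (tt N83989 F367820) (tt N56230 (iv6 F367825)) (tt N53014 F367821))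
theorem Q84021 : ∀ i, i < 84021 → P i := stepQ 84020 Q84020 (allL N84020 (tt N97544 (iv1 F417330)) (tt N71643 F384097) (tt N53023 F367822) (tt N56230 F367824) (tt N49529 F367823) (tt N95789 (iv5 F409660)) (tt N49528 (iv6 D186733)) (tt N92626 (iv7 F397675)))
theorem Q84022 : ∀ i, i < 84022 → P i := stepQ 84021 Q84021 (allL N84021 (tt N113052 (iv1 F483740)) (tt N113051 (iv0 F483738)) (tt N113053 (iv2 F483747)) (tt N49530 (iv3 D186735)) (tt N55601 F367832) (tt N84026 (iv5 F367848)) (tt N103445 F441674) (tt N53029 F367833))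
theorem Q84023 : ∀ i, i < 84023 → P i := stepQ 84022 Q84022 (allL N84022 (tt N68709 F367837) (tt N68702 (iv0 F367838)) (tt N53028 F367834) (tt N103445 F441673) (tt N49597 F367835) (tt N88725 (iv5 F384020)) (tt N49530 (iv6 D186736)) (tt N68707 F367836))
theorem Q84024 : ∀ i, i < 84024 → P i := stepQ 84023 Q84023 (allL N84023 (tt N107081 F456891) (tt N103916 (iv0 F443360)) (tt N107060 (iv2 F456815)) (tt N49531 (iv3 D186737)) (tt N113332 (iv4 F485073)) (tt N52157 F367839) (tt N92171 (iv6 F396079)) (tt N53027 F367840))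
theorem Q84025 : ∀ i, i < 84025 → P i := stepQ 84024 Q84024 (allL N84024 (tt N88788 (iv1 F384149)) (tt N88787 F384145) (tt N83013 F367841) (tt N70282 F367843) (tt N49533 (iv4 D186738)) (tt N90143 F388673) (tt N113161 (iv6 F484267)) (tt N53037 F367842))
theorem Q84026 : ∀ i, i < 84026 → P i := stepQ 84025 Q84025 (allL N84025 (tt N113182 F484357) (tt N113186 (iv0 F484376)) (tt N83014 F367844) (tt N49536 F367845) (tt N113161 (iv4 F484266)) (tt N83339 F367846) (tt N49533 (iv6 D186739)) (tt N113158 (iv7 F484258)))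
theorem Q84027 : ∀ i, i < 84027 → P i := stepQ 84026 Q84026 (allL N84026 (tt N82809 (iv1 F367852)) (tt N82808 F367853) (tt N82811 (iv2 F367850)) (tt N49535 (iv3 D186740)) (tt N70282 F367847) (tt N84021 F367848) (tt N82391 (iv6 F367851)) (tt N53041 F367849))
theorem Q84028 : ∀ i, i < 84028 → P i := stepQ 84027 Q84027 (allL N84027 (tt N88749 (iv1 F384018)) (tt N103488 (iv0 F441837)) (tt N52170 F367854) (tt N82391 F367855) (tt N49536 F367856) (tt N113823 D217078) (tt N49535 (iv6 D186741)) (tt N82388 F367857))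
theorem Q84029 : ∀ i, i < 84029 → P i := stepQ 84028 Q84028 (allL N84028 (tt N52174 (iv1 F367864)) (tt N49536 (iv0 D186742)) (tt N52171 F367867) (tt N76758 (iv3 F421421)) (tt N88725 (iv4 F384024)) (tt N112335 (iv5 F480624)) (tt N106556 (iv6 F454845)) (tt N52172 F367866))
theorem Q84030 : ∀ i, i < 84030 → P i := stepQ 84029 Q84029 (allL N84029 (tt N49536 (iv1 D186743)) (tt N52174 F367858) (tt N52172 F367860) (tt N98576 (iv3 F421413)) (tt N88726 (iv4 F384039)) (tt N54439 (iv5 F367859)) (tt N54258 F368067) (tt N52171 (iv7 F367868)))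
theorem Q84031 : ∀ i, i < 84031 → P i := stepQ 84030 Q84030 (allL N84030 (tt N52172 (iv1 F367865)) (tt N52171 F367869) (tt N52174 F367861) (tt N113158 (iv3 F484256)) (tt N82388 F367862) (tt N90814 (iv5 F390952)) (tt N53045 F367863) (tt N49536 (iv7 D186744)))
theorem Q84032 : ∀ i, i < 84032 → P i := stepQ 84031 Q84031 (allL N84031 (tt N79954 F378765) (tt N88095 (iv0 F381788)) (tt N75945 F367870) (tt N84156 (iv3 F368383)) (tt N64401 F367871) (tt N111490 (iv5 F476581)) (tt N49537 (iv6 D186745)) (tt N110337 (iv7 F471114)))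
theorem Q84033 : ∀ i, i < 84033 → P i := stepQ 84032 Q84032 (allL N84032 (tt N88157 F393742) (tt N88116 (iv0 F480210)) (tt N87858 (iv2 F380876)) (tt N112061 (iv3 F479307)) (tt N113824 D217079) (tt N49538 (iv5 D186746)) (tt N111490 (iv6 F476582)) (tt N113825 D217080))
theorem Q84034 : ∀ i, i < 84034 → P i := stepQ 84033 Q84033 (allL N84033 (tt N82830 (iv1 F367875)) (tt N82827 F367876) (tt N84581 (iv2 F369757)) (tt N49667 F367872) (tt N49541 F367873) (tt N113825 (iv5 F487310)) (tt N49667 F367874) (tt N49538 (iv7 D186747)))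
theorem Q84035 : ∀ i, i < 84035 → P i := stepQ 84034 Q84034 (allL N84034 (tt N53918 F367878) (tt N84421 F369234) (tt N49741 F367877) (tt N109410 F466827) (tt N84290 (iv4 F368816)) (tt N49539 (iv5 D186748)) (tt N112384 (iv6 F480847)) (tt N90734 (iv7 F390685)))
theorem Q84036 : ∀ i, i < 84036 → P i := stepQ 84035 Q84035 (allL N84035 (tt N90813 (iv1 F390945)) (tt N49540 (iv0 D186749)) (tt N49750 (iv2 F367879)) (tt N85503 (iv3 F372869)) (tt N54540 F368860) (tt N84873 F370955) (tt N113826 D217081) (tt N89894 (iv7 F387894)))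
theorem Q84037 : ∀ i, i < 84037 → P i := stepQ 84036 Q84036 (allL N84036 (tt N113827 D217082) (tt N113828 D217083) (tt N112063 (iv2 F479314)) (tt N100878 (iv3 F430849)) (tt N49540 (iv4 D186750)) (tt N113829 D217084) (tt N88485 (iv6 F383241)) (tt N89415 (iv7 F386416)))
theorem Q84038 : ∀ i, i < 84038 → P i := stepQ 84037 Q84037 (allL N84037 (tt N89894 (iv1 F387896)) (tt N49750 (iv0 F367882)) (tt N90813 F390948) (tt N82678 F367880) (tt N89415 (iv4 F386414)) (tt N49541 F367881) (tt N89414 F386411) (tt N49540 (iv7 D186751)))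
theorem Q84039 : ∀ i, i < 84039 → P i := stepQ 84038 Q84038 (allL N84038 (tt N109095 F465317) (tt N89177 (iv0 F385457)) (tt N63922 F367883) (tt N49545 F367884) (tt N98399 (iv4 F420787)) (tt N49542 (iv5 D186752)) (tt N61044 F367885) (tt N90646 (iv7 F390387)))
theorem Q84040 : ∀ i, i < 84040 → P i := stepQ 84039 Q84039 (allL N84039 (tt N101235 F432341) (tt N111291 (iv0 F475664)) (tt N84156 (iv2 F368382)) (tt N51736 F367886) (tt N79107 F367887) (tt N113830 D217085) (tt N49543 (iv6 D186753)) (tt N113831 D217086))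
theorem Q84041 : ∀ i, i < 84041 → P i := stepQ 84040 Q84040 (allL N84040 (tt N49667 (iv1 F367890)) (tt N49544 (iv0 D186754)) (tt N51948 (iv2 F367889)) (tt N49895 (iv3 F367892)) (tt N51845 F367888) (tt N113832 D217087) (tt N112048 (iv6 F479254)) (tt N51915 F367891))
theorem Q84042 : ∀ i, i < 84042 → P i := stepQ 84041 Q84041 (allL N84041 (tt N113833 D217088) (tt N111301 (iv0 F475711)) (tt N112061 (iv2 F479306)) (tt N51737 F367893) (tt N113834 D217089) (tt N49544 (iv5 D186755)) (tt N113830 (iv6 F487334)) (tt N113710 (iv7 F486767)))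
theorem Q84043 : ∀ i, i < 84043 → P i := stepQ 84042 Q84042 (allL N84042 (tt N71130 (iv1 F367937)) (tt N63974 (iv0 F367898)) (tt N49553 F367894) (tt N54273 F367895) (tt N113835 D217090) (tt N49546 (iv5 D186756)) (tt N49547 F367896) (tt N81429 F367897))
theorem Q84044 : ∀ i, i < 84044 → P i := stepQ 84043 Q84043 (allL N84043 (tt N86287 (iv1 F375696)) (tt N86286 F375693) (tt N49563 F367899) (tt N113237 (iv3 F484653)) (tt N49547 (iv4 D186757)) (tt N60928 F367900) (tt N113835 (iv6 F487356)) (tt N86281 (iv7 F375672)))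
theorem Q84045 : ∀ i, i < 84045 → P i := stepQ 84044 Q84044 (allL N84044 (tt N49549 (iv1 D186758)) (tt N84238 F368644) (tt N84240 (iv2 F368649)) (tt N79962 (iv3 F367902)) (tt N83866 (iv4 F367903)) (tt N86895 (iv5 F377619)) (tt N84211 (iv6 F368526)) (tt N83864 F367901))
theorem Q84046 : ∀ i, i < 84046 → P i := stepQ 84045 Q84045 (allL N84045 (tt N111071 F474528) (tt N113836 D217091) (tt N87061 (iv2 F378236)) (tt N52218 F367904) (tt N86806 (iv4 F377260)) (tt N49549 (iv5 D186759)) (tt N49550 F367905) (tt N86805 (iv7 F377256)))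
theorem Q84047 : ∀ i, i < 84047 → P i := stepQ 84046 Q84046 (allL N84046 (tt N84240 (iv1 F368655)) (tt N83864 (iv0 F367908)) (tt N84238 F368642) (tt N52219 F367906) (tt N49817 F367907) (tt N86805 F377257) (tt N86990 (iv6 F377977)) (tt N49549 (iv7 D186760)))
theorem Q84048 : ∀ i, i < 84048 → P i := stepQ 84047 Q84047 (allL N84047 (tt N86801 (iv1 F377245)) (tt N86800 (iv0 F377244)) (tt N86802 (iv2 F377247)) (tt N56431 F367909) (tt N49550 (iv4 D186761)) (tt N60930 (iv5 F367916)) (tt N86806 (iv6 F377261)) (tt N56428 F367910))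
theorem Q84049 : ∀ i, i < 84049 → P i := stepQ 84048 Q84048 (allL N84048 (tt N54437 F368372) (tt N112336 F480632) (tt N53860 F367917) (tt N110983 (iv3 F474078)) (tt N113453 (iv4 F485556)) (tt N49551 (iv5 D186762)) (tt N53255 F367918) (tt N112327 (iv7 F480577)))
theorem Q84050 : ∀ i, i < 84050 → P i := stepQ 84049 Q84049 (allL N84049 (tt N81431 (iv1 F367924)) (tt N81430 F367923) (tt N80528 F367919) (tt N69086 F367920) (tt N61913 F367922) (tt N49552 (iv5 D186763)) (tt N113837 D217092) (tt N71173 F367921))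
theorem Q84051 : ∀ i, i < 84051 → P i := stepQ 84050 Q84050 (allL N84050 (tt N54344 (iv1 F367930)) (tt N54334 (iv0 F367929)) (tt N54341 F367925) (tt N68398 F367926) (tt N65402 F367927) (tt N111951 (iv5 F478836)) (tt N49552 (iv6 D186764)) (tt N54342 F367928))
theorem Q84052 : ∀ i, i < 84052 → P i := stepQ 84051 Q84051 (allL N84051 (tt N81429 (iv1 F367939)) (tt N49553 (iv0 D186765)) (tt N71130 (iv2 F367934)) (tt N63899 F367933) (tt N54508 F367932) (tt N63898 F367931) (tt N91692 (iv6 F394062)) (tt N63974 (iv7 F367936)))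
theorem Q84053 : ∀ i, i < 84053 → P i := stepQ 84052 Q84052 (allL N84052 (tt N49553 (iv1 D186766)) (tt N81429 F367940) (tt N63974 F367943) (tt N68907 (iv3 F367945)) (tt N68911 F367944) (tt N63972 (iv5 F367942)) (tt N113838 D217093) (tt N71130 F367941))
theorem Q84054 : ∀ i, i < 84054 → P i := stepQ 84053 Q84053 (allL N84053 (tt N113089 (iv1 F483933)) (tt N71293 (iv0 F367948)) (tt N113835 (iv2 F487354)) (tt N85424 (iv3 F372592)) (tt N49553 (iv4 D186767)) (tt N71283 F367947) (tt N49563 F367946) (tt N113839 D217094))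
theorem Q84055 : ∀ i, i < 84055 → P i := stepQ 84054 Q84054 (allL N84054 (tt N63974 (iv1 F367952)) (tt N71130 F367953) (tt N81429 F367949) (tt N49570 F367950) (tt N113839 (iv4 F487376)) (tt N49554 F367951) (tt N86291 (iv6 F375716)) (tt N49553 (iv7 D186768)))
theorem Q84056 : ∀ i, i < 84056 → P i := stepQ 84055 Q84055 (allL N84055 (tt N108492 F462821) (tt N88274 (iv0 F384401)) (tt N86237 (iv2 F375509)) (tt N90786 (iv3 F390861)) (tt N49558 F367955) (tt N90785 F390857) (tt N49556 (iv6 D186769)) (tt N86235 (iv7 F375502)))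
theorem Q84057 : ∀ i, i < 84057 → P i := stepQ 84056 Q84056 (allL N84056 (tt N113840 D217095) (tt N113841 D217096) (tt N85468 (iv2 F372723)) (tt N54061 F367956) (tt N49557 (iv4 D186770)) (tt N85993 F374782) (tt N113842 D217097) (tt N85465 (iv7 F372718)))
theorem Q84058 : ∀ i, i < 84058 → P i := stepQ 84057 Q84057 (allL N84057 (tt N86330 F375854) (tt N85929 (iv0 F380067)) (tt N85469 (iv2 F372726)) (tt N70314 F367957) (tt N113842 (iv4 F487395)) (tt N72178 F367958) (tt N49557 (iv6 D186771)) (tt N86329 F390212))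
theorem Q84059 : ∀ i, i < 84059 → P i := stepQ 84058 Q84058 (allL N84058 (tt N113843 D217098) (tt N84880 F379868) (tt N113411 (iv2 F485369)) (tt N49560 F367959) (tt N113535 (iv4 F485929)) (tt N49559 (iv5 D186772)) (tt N99984 F427058) (tt N85467 (iv7 F372722)))
theorem Q84060 : ∀ i, i < 84060 → P i := stepQ 84059 Q84059 (allL N84059 (tt N113841 (iv1 F487388)) (tt N113840 F487384) (tt N85465 (iv2 F372717)) (tt N70079 (iv3 F367961)) (tt N49560 (iv4 D186773)) (tt N70075 F367960) (tt N113844 D217099) (tt N85468 (iv7 F372724)))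
theorem Q84061 : ∀ i, i < 84061 → P i := stepQ 84060 Q84060 (allL N84060 (tt N86347 F426721) (tt N113845 D217100) (tt N85466 (iv2 F372719)) (tt N99984 (iv3 F427059)) (tt N113844 (iv4 F487409)) (tt N71175 F367962) (tt N49560 (iv6 D186774)) (tt N113846 D217101))
theorem Q84062 : ∀ i, i < 84062 → P i := stepQ 84061 Q84061 (allL N84061 (tt N50577 (iv1 F367967)) (tt N52759 (iv0 F367968)) (tt N52765 (iv2 F367966)) (tt N49561 (iv3 D186775)) (tt N59450 F367965) (tt N50521 F367963) (tt N63958 F367969) (tt N52766 F367964))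
theorem Q84063 : ∀ i, i < 84063 → P i := stepQ 84062 Q84062 (allL N84062 (tt N101067 F431522) (tt N113847 D217102) (tt N86285 (iv2 F375689)) (tt N87666 F380038) (tt N49561 (iv4 D186776)) (tt N87665 (iv5 F380044)) (tt N72419 F367974) (tt N86283 (iv7 F375683)))
theorem Q84064 : ∀ i, i < 84064 → P i := stepQ 84063 Q84063 (allL N84063 (tt N113848 D217103) (tt N85572 (iv0 F426174)) (tt N75141 F367970) (tt N63958 F367971) (tt N72419 (iv4 F367973)) (tt N63956 F367972) (tt N49561 (iv6 D186777)) (tt N105036 (iv7 F448495)))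
theorem Q84065 : ∀ i, i < 84065 → P i := stepQ 84064 Q84064 (allL N84064 (tt N87345 (iv1 F379085)) (tt N85561 F379086) (tt N113701 (iv2 F486708)) (tt N49562 (iv3 D186778)) (tt N113849 D217104) (tt N50524 F367975) (tt N113850 D217105) (tt N75142 F367976))
theorem Q84066 : ∀ i, i < 84066 → P i := stepQ 84065 Q84065 (allL N84065 (tt N113847 (iv1 F487425)) (tt N101067 F431523) (tt N86283 (iv2 F375681)) (tt N101923 F434958) (tt N49562 (iv4 D186779)) (tt N105462 F450352) (tt N113851 D217106) (tt N86285 (iv7 F375691)))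
theorem Q84067 : ∀ i, i < 84067 → P i := stepQ 84066 Q84066 (allL N84066 (tt N50601 F373113) (tt N113248 (iv0 F484703)) (tt N86284 (iv2 F375685)) (tt N113850 (iv3 F487444)) (tt N113851 (iv4 F487451)) (tt N113852 D217107) (tt N49562 (iv6 D186780)) (tt N113853 D217108))
theorem Q84068 : ∀ i, i < 84068 → P i := stepQ 84067 Q84067 (allL N84067 (tt N49563 (iv1 D186781)) (tt N86281 (iv0 F375673)) (tt N86286 F375694) (tt N71303 F372637) (tt N85418 (iv4 F372556)) (tt N113854 D217109) (tt N113249 (iv6 F487471)) (tt N86287 (iv7 F375697)))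
theorem Q84069 : ∀ i, i < 84069 → P i := stepQ 84068 Q84068 (allL N84068 (tt N84945 F371152) (tt N72052 (iv0 F367980)) (tt N60928 F367977) (tt N85423 (iv3 F372590)) (tt N60924 (iv4 F367979)) (tt N49563 (iv5 D186782)) (tt N60923 F367978) (tt N86288 (iv7 F375701)))
theorem Q84070 : ∀ i, i < 84070 → P i := stepQ 84069 Q84069 (allL N84069 (tt N49564 (iv1 D186783)) (tt N49566 F367981) (tt N54285 (iv2 F367985)) (tt N81431 F367987) (tt N70414 F367984) (tt N53945 F367983) (tt N51174 (iv6 F367986)) (tt N54284 F367982))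
theorem Q84071 : ∀ i, i < 84071 → P i := stepQ 84070 Q84070 (allL N84070 (tt N112282 (iv1 F480343)) (tt N51183 (iv0 F367991)) (tt N54286 F367988) (tt N96485 (iv3 F412717)) (tt N49564 (iv4 D186784)) (tt N67330 F367990) (tt N113855 D217110) (tt N54289 F367989))
theorem Q84072 : ∀ i, i < 84072 → P i := stepQ 84071 Q84071 (allL N84071 (tt N85406 F372508) (tt N85402 (iv0 F372500)) (tt N54287 F368006) (tt N109702 (iv3 F468192)) (tt N113855 (iv4 F487475)) (tt N54048 F368007) (tt N49564 (iv6 D186785)) (tt N85521 (iv7 F372925)))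
theorem Q84073 : ∀ i, i < 84073 → P i := stepQ 84072 Q84072 (allL N84072 (tt N51183 F368011) (tt N112282 (iv0 F480342)) (tt N54289 F368008) (tt N113856 D217111) (tt N49566 (iv4 D186786)) (tt N67327 F368009) (tt N50537 (iv6 F368012)) (tt N54286 F368010))
theorem Q84074 : ∀ i, i < 84074 → P i := stepQ 84073 Q84073 (allL N84073 (tt N53936 F368018) (tt N53934 F368017) (tt N54291 F368014) (tt N83290 F368015) (tt N113857 D217112) (tt N49567 (iv5 D186787)) (tt N85518 (iv6 F372920)) (tt N54367 F368016))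
theorem Q84075 : ∀ i, i < 84075 → P i := stepQ 84074 Q84074 (allL N84074 (tt N50608 F373150) (tt N113858 D217113) (tt N54292 F368019) (tt N76486 F368020) (tt N85559 (iv4 F373065)) (tt N54609 F368021) (tt N49568 (iv6 D186788)) (tt N111145 (iv7 F474916)))
theorem Q84076 : ∀ i, i < 84076 → P i := stepQ 84075 Q84075 (allL N84075 (tt N86267 F375629) (tt N85571 (iv0 F385620)) (tt N54294 F368022) (tt N83291 F368023) (tt N71632 F368024) (tt N89073 (iv5 F385046)) (tt N49569 (iv6 D186789)) (tt N113859 D217114))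
theorem Q84077 : ∀ i, i < 84077 → P i := stepQ 84076 Q84076 (allL N84076 (tt N113604 (iv1 F486261)) (tt N113603 F486257) (tt N49746 F368025) (tt N90734 F390689) (tt N101275 (iv4 F432496)) (tt N49572 (iv5 D186790)) (tt N113860 D217115) (tt N109410 (iv7 F466824)))
theorem Q84078 : ∀ i, i < 84078 → P i := stepQ 84077 Q84077 (allL N84077 (tt N86243 (iv1 F375547)) (tt N49582 (iv0 F368031)) (tt N49747 F368026) (tt N83223 F368027) (tt N55074 F368028) (tt N54011 F368030) (tt N49572 (iv6 D186791)) (tt N71135 F368029))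
theorem Q84079 : ∀ i, i < 84079 → P i := stepQ 84078 Q84078 (allL N84078 (tt N49573 (iv1 D186792)) (tt N85516 F372914) (tt N49753 F372874) (tt N89894 (iv3 F387893)) (tt N99784 (iv4 F426202)) (tt N85504 (iv5 F372879)) (tt N113861 D217116) (tt N85503 F372875))
theorem Q84080 : ∀ i, i < 84080 → P i := stepQ 84079 Q84079 (allL N84079 (tt N83512 F368032) (tt N113476 (iv0 F485667)) (tt N109414 (iv2 F466847)) (tt N100814 (iv3 F430599)) (tt N49573 (iv4 D186793)) (tt N99791 (iv5 F426234)) (tt N90053 (iv6 F388423)) (tt N109098 (iv7 F465329)))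
theorem Q84081 : ∀ i, i < 84081 → P i := stepQ 84080 Q84080 (allL N84080 (tt N49753 (iv1 F368035)) (tt N85503 (iv0 F372872)) (tt N85516 F372913) (tt N82660 F368033) (tt N109098 (iv4 F465330)) (tt N49574 F368034) (tt N113862 D217117) (tt N49573 (iv7 D186794)))
theorem Q84082 : ∀ i, i < 84082 → P i := stepQ 84081 Q84081 (allL N84081 (tt N49588 (iv1 F368038)) (tt N49577 (iv0 D186795)) (tt N49585 (iv2 F368037)) (tt N70357 (iv3 F368040)) (tt N104777 (iv4 F447213)) (tt N50546 F368036) (tt N91790 (iv6 F394429)) (tt N49586 F368039))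
theorem Q84083 : ∀ i, i < 84083 → P i := stepQ 84082 Q84082 (allL N84082 (tt N73883 F368043) (tt N105899 F452255) (tt N113037 (iv2 F483663)) (tt N49581 F368041) (tt N91084 F391859) (tt N49580 (iv5 D186796)) (tt N113863 D217118) (tt N71849 F368042))
theorem Q84084 : ∀ i, i < 84084 → P i := stepQ 84083 Q84083 (allL N84083 (tt N86474 F376332) (tt N113864 D217119) (tt N91679 (iv2 F394007)) (tt N49582 F368044) (tt N85819 F374098) (tt N89135 (iv5 F385307)) (tt N49580 (iv6 D186797)) (tt N90085 (iv7 F388523)))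
theorem Q84085 : ∀ i, i < 84085 → P i := stepQ 84084 Q84084 (allL N84084 (tt N103619 (iv1 F442265)) (tt N87668 (iv0 F388391)) (tt N71853 F368045) (tt N113863 (iv3 F487515)) (tt N102784 (iv4 F438639)) (tt N90040 (iv5 F388389)) (tt N49581 (iv6 D186798)) (tt N104123 (iv7 F444296)))
theorem Q84086 : ∀ i, i < 84086 → P i := stepQ 84085 Q84085 (allL N84085 (tt N76758 F438634) (tt N76765 (iv0 F390999)) (tt N71850 F368046) (tt N113036 (iv3 F483659)) (tt N102783 (iv4 F438631)) (tt N90826 (iv5 F390997)) (tt N49583 (iv6 D186799)) (tt N106595 (iv7 F454991)))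
theorem Q84087 : ∀ i, i < 84087 → P i := stepQ 84086 Q84086 (allL N84086 (tt N107052 F456788) (tt N86467 (iv0 F376317)) (tt N113046 (iv2 F483706)) (tt N49585 (iv3 D186800)) (tt N83674 F368047) (tt N54503 F368048) (tt N105331 (iv6 F449743)) (tt N92145 F395955))
theorem Q84088 : ∀ i, i < 84088 → P i := stepQ 84087 Q84087 (allL N84087 (tt N82628 F368051) (tt N104774 (iv0 F447203)) (tt N104775 (iv2 F447205)) (tt N64142 F368052) (tt N49586 (iv4 D186801)) (tt N64141 F368050) (tt N66320 F368049) (tt N104777 (iv7 F447215)))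
theorem Q84089 : ∀ i, i < 84089 → P i := stepQ 84088 Q84088 (allL N84088 (tt N67910 F368057) (tt N97725 (iv0 F418081)) (tt N109279 (iv2 F466156)) (tt N49587 (iv3 D186802)) (tt N49600 F368053) (tt N75210 F368054) (tt N70482 F368055) (tt N67440 F368056))
theorem Q84090 : ∀ i, i < 84090 → P i := stepQ 84089 Q84089 (allL N84089 (tt N49592 (iv1 F368059)) (tt N49589 (iv0 D186803)) (tt N54257 (iv2 F368060)) (tt N64673 F374926) (tt N88650 (iv4 F383715)) (tt N53937 F368058) (tt N84961 (iv6 F374927)) (tt N54258 (iv7 F368061)))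
theorem Q84091 : ∀ i, i < 84091 → P i := stepQ 84090 Q84090 (allL N84090 (tt N49589 (iv1 D186804)) (tt N49592 F368062) (tt N54258 (iv2 F368066)) (tt N103582 (iv3 F442118)) (tt N88651 (iv4 F383720)) (tt N54037 F368064) (tt N52172 (iv6 F368065)) (tt N54257 F368063))
theorem Q84092 : ∀ i, i < 84092 → P i := stepQ 84091 Q84091 (allL N84091 (tt N113865 D217120) (tt N107649 (iv0 F459070)) (tt N64691 F368068) (tt N49592 F368069) (tt N108348 (iv4 F462184)) (tt N49591 (iv5 D186805)) (tt N73844 F368070) (tt N54255 F368071))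
theorem Q84093 : ∀ i, i < 84093 → P i := stepQ 84092 Q84092 (allL N84092 (tt N53326 (iv1 F368074)) (tt N94147 (iv0 F403426)) (tt N83298 F368072) (tt N49594 (iv3 D186806)) (tt N87832 (iv4 F380747)) (tt N89104 (iv5 F385170)) (tt N87831 F380745) (tt N54263 F368073))
theorem Q84094 : ∀ i, i < 84094 → P i := stepQ 84093 Q84093 (allL N84093 (tt N54267 (iv1 F368080)) (tt N54266 F368081) (tt N54270 F368075) (tt N67427 F368076) (tt N49596 F368077) (tt N80117 F368078) (tt N67425 F368079) (tt N49595 (iv7 D186807)))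
theorem Q84095 : ∀ i, i < 84095 → P i := stepQ 84094 Q84094 (allL N84094 (tt N88804 (iv1 F384209)) (tt N49597 (iv0 D186808)) (tt N88803 F384201) (tt N50923 F384004) (tt N88747 F384005) (tt N84282 F384006) (tt N90149 (iv6 F388695)) (tt N84322 F384007))
theorem Q84096 : ∀ i, i < 84096 → P i := stepQ 84095 Q84095 (allL N84095 (tt N84322 (iv1 F368892)) (tt N88803 F384204) (tt N88804 (iv2 F384205)) (tt N55605 F368082) (tt N68707 F368083) (tt N91803 (iv5 F394484)) (tt N82777 F368084) (tt N49597 (iv7 D186809)))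
theorem Q84097 : ∀ i, i < 84097 → P i := stepQ 84096 Q84096 (allL N84096 (tt N113866 D217121) (tt N105414 (iv0 F450150)) (tt N73828 F368085) (tt N113332 (iv3 F485072)) (tt N49598 (iv4 D186810)) (tt N112872 (iv5 F483073)) (tt N73796 F368086) (tt N88801 (iv7 F384196)))
theorem Q84098 : ∀ i, i < 84098 → P i := stepQ 84097 Q84097 (allL N84097 (tt N49600 (iv1 D186811)) (tt N67437 F368090) (tt N67369 (iv2 F368089)) (tt N92777 F398179) (tt N67913 F368088) (tt N111938 (iv5 F478767)) (tt N92775 (iv6 F398180)) (tt N67443 F368087))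
theorem Q84099 : ∀ i, i < 84099 → P i := stepQ 84098 Q84098 (allL N84098 (tt N67443 (iv1 F368094)) (tt N67369 F368093) (tt N49600 (iv2 D186812)) (tt N102379 (iv3 F436984)) (tt N109279 (iv4 F466158)) (tt N70812 (iv5 F368095)) (tt N67436 F368091) (tt N67437 F368092))
theorem Q84100 : ∀ i, i < 84100 → P i := stepQ 84099 Q84099 (allL N84099 (tt N66004 F368100) (tt N103418 F441539) (tt N70812 F368096) (tt N49601 F368097) (tt N70809 (iv4 F368101)) (tt N49600 (iv5 D186813)) (tt N70803 F368098) (tt N67444 F368099))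
theorem Q84101 : ∀ i, i < 84101 → P i := stepQ 84100 Q84100 (allL N84100 (tt N49604 (iv1 D186814)) (tt N49616 F368102) (tt N49612 F368107) (tt N49624 (iv3 F368105)) (tt N50025 F368104) (tt N96212 (iv5 F411516)) (tt N53840 (iv6 F368106)) (tt N49617 F368103))
theorem Q84102 : ∀ i, i < 84102 → P i := stepQ 84101 Q84101 (allL N84101 (tt N49612 (iv1 F368112)) (tt N49617 F368113) (tt N49616 F368108) (tt N85783 (iv3 F373918)) (tt N61411 F368109) (tt N81317 F368110) (tt N82620 F368111) (tt N49604 (iv7 D186815)))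
theorem Q84103 : ∀ i, i < 84103 → P i := stepQ 84102 Q84102 (allL N84102 (tt N86304 (iv1 F375765)) (tt N83243 F368118) (tt N49608 F368114) (tt N52759 F368115) (tt N88972 (iv4 F384627)) (tt N49605 (iv5 D186816)) (tt N64292 F368116) (tt N70355 F368117))
theorem Q84104 : ∀ i, i < 84104 → P i := stepQ 84103 Q84103 (allL N84103 (tt N53146 F368121) (tt N51279 (iv0 F368122)) (tt N51242 F368119) (tt N82645 F368120) (tt N49606 (iv4 D186817)) (tt N113867 D217122) (tt N111305 F475735) (tt N86299 (iv7 F375746)))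
theorem Q84105 : ∀ i, i < 84105 → P i := stepQ 84104 Q84104 (allL N84104 (tt N85527 (iv1 F372945)) (tt N51452 (iv0 F368126)) (tt N85528 F372949) (tt N84864 F370902) (tt N113868 D217123) (tt N49606 (iv5 D186818)) (tt N113869 D217124) (tt N85508 (iv7 F372887)))
theorem Q84106 : ∀ i, i < 84106 → P i := stepQ 84105 Q84105 (allL N84105 (tt N53840 (iv1 F368125)) (tt N53843 (iv0 F368124)) (tt N86252 (iv2 F375588)) (tt N49706 F368123) (tt N111305 (iv4 F475732)) (tt N86363 (iv5 F375950)) (tt N49606 (iv6 D186819)) (tt N86242 (iv7 F375540)))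
theorem Q84107 : ∀ i, i < 84107 → P i := stepQ 84106 Q84106 (allL N84106 (tt N51479 F368130) (tt N53169 (iv0 F368131)) (tt N53053 F368127) (tt N49607 (iv3 D186820)) (tt N50483 F368128) (tt N113870 D217125) (tt N113871 D217126) (tt N53050 F368129))
theorem Q84108 : ∀ i, i < 84108 → P i := stepQ 84107 Q84107 (allL N84107 (tt N51452 F368132) (tt N85527 F372946) (tt N85508 F372888) (tt N113870 (iv3 F487551)) (tt N113872 D217127) (tt N49607 (iv5 D186821)) (tt N113873 D217128) (tt N85528 F372950))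
theorem Q84109 : ∀ i, i < 84109 → P i := stepQ 84108 Q84108 (allL N84108 (tt N51461 F372947) (tt N82662 F371145) (tt N71862 F368133) (tt N113871 (iv3 F487557)) (tt N86765 (iv4 F377104)) (tt N71861 F368134) (tt N49607 (iv6 D186822)) (tt N82667 (iv7 F368135)))
theorem Q84110 : ∀ i, i < 84110 → P i := stepQ 84109 Q84109 (allL N84109 (tt N70355 (iv1 F368136)) (tt N49608 (iv0 D186823)) (tt N86304 F375768) (tt N50547 (iv3 F368138)) (tt N113874 D217129) (tt N50545 F368137) (tt N113875 D217130) (tt N83243 (iv7 F368139)))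
theorem Q84111 : ∀ i, i < 84111 → P i := stepQ 84110 Q84110 (allL N84110 (tt N49608 (iv1 D186824)) (tt N70355 F368140) (tt N83243 (iv2 F368145)) (tt N73265 (iv3 F368142)) (tt N59543 F368143) (tt N50564 F368141) (tt N59542 F368144) (tt N86304 (iv7 F375766)))
theorem Q84112 : ∀ i, i < 84112 → P i := stepQ 84111 Q84111 (allL N84111 (tt N83937 F368147) (tt N88970 (iv0 F384625)) (tt N88972 F384628) (tt N113876 D217131) (tt N49608 (iv4 D186825)) (tt N113877 D217132) (tt N83286 F368146) (tt N86305 (iv7 F375769)))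
theorem Q84113 : ∀ i, i < 84113 → P i := stepQ 84112 Q84112 (allL N84112 (tt N113878 D217133) (tt N113879 D217134) (tt N86086 F376997) (tt N49609 (iv3 D186826)) (tt N113876 (iv4 F487578)) (tt N85539 (iv5 F373001)) (tt N83294 F368148) (tt N86306 (iv7 F375772)))
theorem Q84114 : ∀ i, i < 84114 → P i := stepQ 84113 Q84113 (allL N84113 (tt N96213 (iv1 F411520)) (tt N63959 (iv0 F372666)) (tt N96214 (iv2 F411527)) (tt N49611 F368149) (tt N101284 (iv4 F432523)) (tt N49610 (iv5 D186827)) (tt N83413 F368150) (tt N49625 F368151))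
theorem Q84115 : ∀ i, i < 84115 → P i := stepQ 84114 Q84114 (allL N84114 (tt N84471 (iv1 F369432)) (tt N84473 (iv0 F369440)) (tt N49621 F368152) (tt N60103 F368156) (tt N49611 (iv4 D186828)) (tt N55453 F368155) (tt N83422 F368153) (tt N49627 F368154))
theorem Q84116 : ∀ i, i < 84116 → P i := stepQ 84115 Q84115 (allL N84115 (tt N81320 (iv1 F368175)) (tt N81321 F368161) (tt N96212 (iv2 F411513)) (tt N49613 F368158) (tt N88663 (iv4 F383781)) (tt N49612 (iv5 D186829)) (tt N81346 F368159) (tt N49618 F368160))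
theorem Q84117 : ∀ i, i < 84117 → P i := stepQ 84116 Q84116 (allL N84116 (tt N84473 (iv1 F369441)) (tt N84471 (iv0 F369431)) (tt N49627 F368162) (tt N88664 (iv3 F383784)) (tt N49613 (iv4 D186830)) (tt N55456 F368163) (tt N77187 F368164) (tt N49621 F368165))
theorem Q84118 : ∀ i, i < 84118 → P i := stepQ 84117 Q84117 (allL N84117 (tt N64760 F368170) (tt N49628 F368171) (tt N81317 F368166) (tt N49695 F368167) (tt N81285 F368168) (tt N49616 (iv5 D186831)) (tt N101293 (iv6 F432567)) (tt N64475 F368169))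
theorem Q84119 : ∀ i, i < 84119 → P i := stepQ 84118 Q84118 (allL N84118 (tt N81321 F368174) (tt N81320 F368173) (tt N49618 F368172) (tt N96214 (iv3 F411528)) (tt N100791 (iv4 F430488)) (tt N49617 (iv5 D186832)) (tt N113880 D217135) (tt N96212 (iv7 F411519)))
theorem Q84120 : ∀ i, i < 84120 → P i := stepQ 84119 Q84119 (allL N84119 (tt N82649 (iv1 F368181)) (tt N83391 (iv0 F368180)) (tt N49619 F368176) (tt N83407 F368177) (tt N50070 F368178) (tt N83049 F368179) (tt N49617 (iv6 D186833)) (tt N83384 F368182))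
theorem Q84121 : ∀ i, i < 84121 → P i := stepQ 84120 Q84120 (allL N84120 (tt N96212 (iv1 F411518)) (tt N49618 (iv0 D186834)) (tt N81321 (iv2 F368185)) (tt N49702 (iv3 F368186)) (tt N81287 F368183) (tt N54016 F368184) (tt N113881 D217136) (tt N81320 F368187))
theorem Q84122 : ∀ i, i < 84122 → P i := stepQ 84121 Q84121 (allL N84121 (tt N49618 (iv1 D186835)) (tt N96212 (iv0 F411517)) (tt N81320 F368194) (tt N72816 (iv3 F368193)) (tt N81286 F368192) (tt N54177 F368195) (tt N72814 F368196) (tt N81321 F368191))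
theorem Q84123 : ∀ i, i < 84123 → P i := stepQ 84122 Q84122 (allL N84122 (tt N62904 F369513) (tt N113882 D217137) (tt N113880 (iv2 F487594)) (tt N49622 F368197) (tt N97089 (iv4 F415430)) (tt N83051 F368198) (tt N49618 (iv6 D186836)) (tt N110324 (iv7 F471055)))
theorem Q84124 : ∀ i, i < 84124 → P i := stepQ 84123 Q84123 (allL N84123 (tt N110311 (iv1 F470985)) (tt N101213 (iv0 F432226)) (tt N50656 F368199) (tt N111298 (iv3 F475697)) (tt N109266 F466076) (tt N50638 F368200) (tt N49620 (iv6 D186837)) (tt N101246 (iv7 F432386)))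
theorem Q84125 : ∀ i, i < 84125 → P i := stepQ 84124 Q84124 (allL N84124 (tt N49621 (iv1 D186838)) (tt N49627 F368201) (tt N84473 (iv2 F369435)) (tt N109257 (iv3 F466032)) (tt N51680 F368203) (tt N51672 F368202) (tt N76112 (iv6 F368204)) (tt N84471 (iv7 F369429)))
theorem Q84126 : ∀ i, i < 84126 → P i := stepQ 84125 Q84125 (allL N84125 (tt N108441 F462582) (tt N82743 (iv0 F369512)) (tt N83422 F368206) (tt N111921 F478662) (tt N49622 F368207) (tt N104396 (iv5 F445580)) (tt N49621 (iv6 D186839)) (tt N103112 (iv7 F440129)))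
theorem Q84127 : ∀ i, i < 84127 → P i := stepQ 84126 Q84126 (allL N84126 (tt N96214 (iv1 F411532)) (tt N49625 (iv0 D186840)) (tt N63959 (iv2 F368210)) (tt N62998 (iv3 F368211)) (tt N100945 (iv4 F431064)) (tt N82774 F368208) (tt N62997 F368209) (tt N96213 (iv7 F411521)))
theorem Q84128 : ∀ i, i < 84128 → P i := stepQ 84127 Q84127 (allL N84127 (tt N49625 (iv1 D186841)) (tt N96214 F411531) (tt N96213 (iv2 F411525)) (tt N49673 (iv3 F368216)) (tt N104328 (iv4 F445275)) (tt N53470 F368213) (tt N69901 (iv6 F368215)) (tt N63959 F368212))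
theorem Q84129 : ∀ i, i < 84129 → P i := stepQ 84128 Q84128 (allL N84128 (tt N81317 (iv1 F368221)) (tt N64475 F368220) (tt N49628 (iv2 D186842)) (tt N63923 F368217) (tt N88528 (iv4 F383407)) (tt N85666 (iv5 F373438)) (tt N69730 F368218) (tt N64760 F368219))
theorem Q84130 : ∀ i, i < 84130 → P i := stepQ 84129 Q84129 (allL N84129 (tt N49630 (iv1 D186843)) (tt N69733 F368222) (tt N69797 (iv2 F368225)) (tt N49721 (iv3 F368226)) (tt N97523 (iv4 F417245)) (tt N58050 F368224) (tt N77355 (iv6 F368227)) (tt N69796 F368223))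
theorem Q84131 : ∀ i, i < 84131 → P i := stepQ 84130 Q84130 (allL N84130 (tt N69797 (iv1 F368232)) (tt N69796 F368233) (tt N69733 F368228) (tt N69825 F368229) (tt N80907 F368230) (tt N69732 F368231) (tt N90310 (iv6 F389315)) (tt N49630 (iv7 D186844)))
theorem Q84132 : ∀ i, i < 84132 → P i := stepQ 84131 Q84131 (allL N84131 (tt N90310 (iv1 F389317)) (tt N49633 (iv0 D186845)) (tt N90309 F389310) (tt N49725 F368235) (tt N75018 F368234) (tt N78340 (iv5 F368237)) (tt N96206 (iv6 F411492)) (tt N64718 (iv7 F368236)))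
theorem Q84133 : ∀ i, i < 84133 → P i := stepQ 84132 Q84132 (allL N84132 (tt N49633 (iv1 D186846)) (tt N90310 F389316) (tt N64718 (iv2 F368242)) (tt N73849 (iv3 F368243)) (tt N75016 F368241) (tt N78341 F368244) (tt N64698 F368245) (tt N90309 (iv7 F389311)))
theorem Q84134 : ∀ i, i < 84134 → P i := stepQ 84133 Q84133 (allL N84133 (tt N64718 (iv1 F368252)) (tt N90309 F389312) (tt N90310 (iv2 F389313)) (tt N64789 F368249) (tt N75345 F368250) (tt N90212 (iv5 F388918)) (tt N69733 F368251) (tt N49633 (iv7 D186847)))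
theorem Q84135 : ∀ i, i < 84135 → P i := stepQ 84134 Q84134 (allL N84134 (tt N91548 F393605) (tt N49635 (iv0 D186848)) (tt N109796 F468653) (tt N63547 (iv3 F368254)) (tt N87189 (iv4 F378643)) (tt N100338 (iv5 F428474)) (tt N63248 F368253) (tt N82063 F368255))
theorem Q84136 : ∀ i, i < 84136 → P i := stepQ 84135 Q84135 (allL N84135 (tt N49635 (iv1 D186849)) (tt N91548 (iv0 F393604)) (tt N82063 F368258) (tt N65156 (iv3 F368257)) (tt N87190 F378646) (tt N65154 F368256) (tt N95470 (iv6 F408303)) (tt N109796 (iv7 F468655)))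
theorem Q84137 : ∀ i, i < 84137 → P i := stepQ 84136 Q84136 (allL N84136 (tt N79770 (iv1 F368263)) (tt N81802 F368264) (tt N100738 (iv2 F430240)) (tt N49636 F368259) (tt N76878 F368261) (tt N49635 (iv5 D186850)) (tt N66878 F368260) (tt N78591 F368262))
theorem Q84138 : ∀ i, i < 84138 → P i := stepQ 84137 Q84137 (allL N84137 (tt N82063 (iv1 F368268)) (tt N109796 F468654) (tt N91548 (iv2 F393599)) (tt N49637 F368265) (tt N49734 F368266) (tt N78591 F368267) (tt N96961 F414803) (tt N49635 (iv7 D186851)))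
theorem Q84139 : ∀ i, i < 84139 → P i := stepQ 84138 Q84138 (allL N84138 (tt N81219 F368272) (tt N100135 (iv0 F427629)) (tt N68495 F368269) (tt N64136 F368270) (tt N101813 (iv4 F434463)) (tt N49640 (iv5 D186852)) (tt N80633 F368271) (tt N102851 (iv7 F438947)))
theorem Q84140 : ∀ i, i < 84140 → P i := stepQ 84139 Q84139 (allL N84139 (tt N49642 (iv1 D186853)) (tt N80968 F368273) (tt N80969 F368278) (tt N69319 (iv3 F368276)) (tt N53757 (iv4 F368275)) (tt N54350 F368279) (tt N80965 (iv6 F368277)) (tt N53752 F368274))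
theorem Q84141 : ∀ i, i < 84141 → P i := stepQ 84140 Q84140 (allL N84140 (tt N52781 F368284) (tt N80708 F368285) (tt N77607 F368280) (tt N67020 F368281) (tt N81425 F368286) (tt N49642 (iv5 D186854)) (tt N67018 F368282) (tt N80706 F368283))
theorem Q84142 : ∀ i, i < 84142 → P i := stepQ 84141 Q84141 (allL N84141 (tt N62895 (iv1 F368291)) (tt N49643 (iv0 D186855)) (tt N54487 (iv2 F368289)) (tt N73908 (iv3 F368290)) (tt N80253 F368288) (tt N53403 F368287) (tt N49690 (iv6 F368293)) (tt N54485 F368292))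
theorem Q84143 : ∀ i, i < 84143 → P i := stepQ 84142 Q84142 (allL N84142 (tt N49643 (iv1 D186856)) (tt N62895 F368302) (tt N54485 F368306) (tt N76918 (iv3 F368305)) (tt N88177 (iv4 F382032)) (tt N53402 F368304) (tt N113883 D217138) (tt N54487 F368303))
theorem Q84144 : ∀ i, i < 84144 → P i := stepQ 84143 Q84143 (allL N84143 (tt N54485 (iv1 F368310)) (tt N54487 F368311) (tt N62895 F368307) (tt N62936 F368308) (tt N58643 F368309) (tt N89223 (iv5 F385666)) (tt N85574 F373093) (tt N49643 (iv7 D186857)))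
theorem Q84145 : ∀ i, i < 84145 → P i := stepQ 84144 Q84144 (allL N84144 (tt N57687 (iv1 F368315)) (tt N49646 (iv0 D186858)) (tt N76107 (iv2 F368314)) (tt N89648 (iv3 F387085)) (tt N72348 F368313) (tt N54280 F368312) (tt N109476 (iv6 F467166)) (tt N76066 F368316))
theorem Q84146 : ∀ i, i < 84146 → P i := stepQ 84145 Q84145 (allL N84145 (tt N65241 F368320) (tt N90429 (iv0 F389620)) (tt N76108 F368317) (tt N49650 F368318) (tt N57852 F368319) (tt N49646 (iv5 D186859)) (tt N108293 F461928) (tt N90433 (iv7 F389636)))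
theorem Q84147 : ∀ i, i < 84147 → P i := stepQ 84146 Q84146 (allL N84146 (tt N53126 F368326) (tt N53114 F368327) (tt N80716 F368323) (tt N65312 F368324) (tt N103237 (iv4 F440709)) (tt N49647 (iv5 D186860)) (tt N90396 (iv6 F389506)) (tt N79886 F368325))
theorem Q84148 : ∀ i, i < 84148 → P i := stepQ 84147 Q84147 (allL N84147 (tt N53561 (iv1 F368333)) (tt N81080 F368334) (tt N81079 F368328) (tt N79375 F368329) (tt N49651 F368330) (tt N79886 F368331) (tt N80968 F368332) (tt N49647 (iv7 D186861)))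
theorem Q84149 : ∀ i, i < 84149 → P i := stepQ 84148 Q84148 (allL N84148 (tt N85574 (iv1 F373090)) (tt N49648 (iv0 D186862)) (tt N85576 (iv2 F373097)) (tt N63940 (iv3 F368336)) (tt N77793 F368335) (tt N50609 (iv5 F368338)) (tt N91016 (iv6 F391574)) (tt N49685 (iv7 F368337)))
theorem Q84150 : ∀ i, i < 84150 → P i := stepQ 84149 Q84149 (allL N84149 (tt N113855 F487479) (tt N113884 D217139) (tt N90446 (iv2 F389674)) (tt N108293 F461927) (tt N89785 (iv4 F387554)) (tt N49648 (iv5 D186863)) (tt N49650 F368339) (tt N86327 (iv7 F375842)))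
theorem Q84151 : ∀ i, i < 84151 → P i := stepQ 84150 Q84150 (allL N84150 (tt N49685 (iv1 F368343)) (tt N85576 F373100) (tt N85574 F373092) (tt N62897 F368340) (tt N51714 F368341) (tt N86327 (iv5 F375841)) (tt N62895 F368342) (tt N49648 (iv7 D186864)))
theorem Q84152 : ∀ i, i < 84152 → P i := stepQ 84151 Q84151 (allL N84151 (tt N87261 (iv1 F378933)) (tt N49653 (iv0 D186865)) (tt N64715 (iv2 F368345)) (tt N78968 F368346) (tt N87400 (iv4 F379248)) (tt N90712 (iv5 F390606)) (tt N49726 F368344) (tt N78988 (iv7 F368347)))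
theorem Q84153 : ∀ i, i < 84153 → P i := stepQ 84152 Q84152 (allL N84152 (tt N49653 (iv1 D186866)) (tt N87261 F378932) (tt N78988 (iv2 F368349)) (tt N64699 (iv3 F368350)) (tt N87358 (iv4 F379118)) (tt N107701 (iv5 F459298)) (tt N113885 D217140) (tt N64715 F368348))
theorem Q84154 : ∀ i, i < 84154 → P i := stepQ 84153 Q84153 (allL N84153 (tt N78988 (iv1 F368353)) (tt N64715 F368354) (tt N87261 (iv2 F378928)) (tt N64791 F368351) (tt N87204 (iv4 F378755)) (tt N55329 F368352) (tt N77344 (iv6 F368362)) (tt N49653 (iv7 D186867)))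
theorem Q84155 : ∀ i, i < 84155 → P i := stepQ 84154 Q84154 (allL N84154 (tt N49654 (iv1 D186868)) (tt N77344 F368359) (tt N77149 (iv2 F368356)) (tt N64181 F368357) (tt N98129 (iv4 F419589)) (tt N54621 F368363) (tt N49720 F368358) (tt N77345 F368355))
theorem Q84156 : ∀ i, i < 84156 → P i := stepQ 84155 Q84155 (allL N84155 (tt N77149 (iv1 F368380)) (tt N77345 F368381) (tt N77344 F368378) (tt N99929 (iv3 F426865)) (tt N52459 F368379) (tt N99927 F426856) (tt N87261 (iv6 F378931)) (tt N49654 (iv7 D186869)))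
theorem Q84157 : ∀ i, i < 84157 → P i := stepQ 84156 Q84156 (allL N84156 (tt N87400 F379250) (tt N87358 F379119) (tt N84039 F368382) (tt N84031 F368383) (tt N79390 F368384) (tt N113886 D217141) (tt N49655 (iv6 D186870)) (tt N113887 D217142))
theorem Q84158 : ∀ i, i < 84158 → P i := stepQ 84157 Q84157 (allL N84157 (tt N49728 (iv1 F368389)) (tt N54574 F368390) (tt N54575 F368385) (tt N52499 F368386) (tt N49657 F368387) (tt N54551 F368776) (tt N49656 (iv6 D186871)) (tt N49736 F368388))
theorem Q84159 : ∀ i, i < 84159 → P i := stepQ 84158 Q84158 (allL N84158 (tt N113611 (iv1 F486298)) (tt N113610 F486293) (tt N89969 (iv2 F388136)) (tt N64707 F368391) (tt N113888 D217143) (tt N49657 (iv5 D186872)) (tt N49658 F368392) (tt N49739 F368393))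
theorem Q84160 : ∀ i, i < 84160 → P i := stepQ 84159 Q84159 (allL N84159 (tt N89414 (iv1 F386410)) (tt N89412 (iv0 F386402)) (tt N89968 (iv2 F388132)) (tt N113611 F486300) (tt N49658 (iv4 D186873)) (tt N111102 (iv5 F474674)) (tt N113888 (iv6 F487644)) (tt N49666 F368394))
theorem Q84161 : ∀ i, i < 84161 → P i := stepQ 84160 Q84160 (allL N84160 (tt N80508 F368396) (tt N90510 (iv0 F389892)) (tt N88479 (iv2 F383220)) (tt N49660 F368395) (tt N89613 (iv4 F386948)) (tt N49659 (iv5 D186874)) (tt N113889 D217144) (tt N88482 (iv7 F383230)))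
theorem Q84162 : ∀ i, i < 84162 → P i := stepQ 84161 Q84161 (allL N84161 (tt N80598 F384813) (tt N89932 F388035) (tt N88480 (iv2 F383222)) (tt N49661 F368397) (tt N110132 (iv4 F470109)) (tt N81386 (iv5 F368398)) (tt N49659 (iv6 D186875)) (tt N89930 F388031))
theorem Q84163 : ∀ i, i < 84163 → P i := stepQ 84162 Q84162 (allL N84162 (tt N92667 (iv1 F397814)) (tt N113890 D217145) (tt N89963 (iv2 F388115)) (tt N110146 F470170) (tt N49660 (iv4 D186876)) (tt N98183 F419890) (tt N113891 D217146) (tt N89965 (iv7 F388123)))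
theorem Q84164 : ∀ i, i < 84164 → P i := stepQ 84163 Q84163 (allL N84163 (tt N113892 D217147) (tt N113002 (iv0 F483510)) (tt N89964 (iv2 F388118)) (tt N113889 (iv3 F487646)) (tt N113891 (iv4 F487656)) (tt N81388 F368400) (tt N49660 (iv6 D186877)) (tt N113893 D217148))
theorem Q84165 : ∀ i, i < 84165 → P i := stepQ 84164 Q84164 (allL N84164 (tt N113890 (iv1 F487650)) (tt N92667 (iv0 F397813)) (tt N89965 (iv2 F388120)) (tt N108428 (iv3 F462518)) (tt N49662 (iv4 D186878)) (tt N84734 F370411) (tt N113894 D217149) (tt N89963 (iv7 F388116)))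
theorem Q84166 : ∀ i, i < 84166 → P i := stepQ 84165 Q84165 (allL N84165 (tt N91803 (iv1 F394487)) (tt N84974 (iv0 F371233)) (tt N89614 F386953) (tt N106851 (iv3 F455988)) (tt N113894 (iv4 F487672)) (tt N90412 (iv5 F389555)) (tt N49662 (iv6 D186879)) (tt N91802 (iv7 F394482)))
theorem Q84167 : ∀ i, i < 84167 → P i := stepQ 84166 Q84166 (allL N84166 (tt N63927 (iv1 F368403)) (tt N88477 (iv0 F383213)) (tt N88484 F383239) (tt N49664 (iv3 D186880)) (tt N113895 D217150) (tt N54344 F368401) (tt N113896 D217151) (tt N54343 F368402))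
theorem Q84168 : ∀ i, i < 84168 → P i := stepQ 84167 Q84167 (allL N84167 (tt N88568 (iv1 F383512)) (tt N53547 F368405) (tt N88565 F383503) (tt N76962 (iv3 F368857)) (tt N49664 (iv4 D186881)) (tt N76951 (iv5 F368859)) (tt N76952 F368856) (tt N54368 F368404))
theorem Q84169 : ∀ i, i < 84169 → P i := stepQ 84168 Q84168 (allL N84168 (tt N113897 D217152) (tt N113895 (iv0 F487678)) (tt N89610 (iv2 F386945)) (tt N113896 (iv3 F487680)) (tt N76952 (iv4 F368858)) (tt N89031 F384879) (tt N49664 (iv6 D186882)) (tt N89606 (iv7 F386937)))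
theorem Q84170 : ∀ i, i < 84170 → P i := stepQ 84169 Q84169 (allL N84169 (tt N53547 F368407) (tt N88568 F383511) (tt N54368 F368406) (tt N88840 (iv3 F384299)) (tt N49665 (iv4 D186883)) (tt N92837 (iv5 F398443)) (tt N88829 (iv6 F384292)) (tt N88565 (iv7 F383505)))
theorem Q84171 : ∀ i, i < 84171 → P i := stepQ 84170 Q84170 (allL N84170 (tt N54537 F368411) (tt N54540 F368862) (tt N54365 F368408) (tt N71456 F368409) (tt N88829 (iv4 F384288)) (tt N53370 F368410) (tt N49665 (iv6 D186884)) (tt N88828 (iv7 F384285)))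
theorem Q84172 : ∀ i, i < 84172 → P i := stepQ 84171 Q84171 (allL N84171 (tt N89968 (iv1 F388135)) (tt N49666 (iv0 D186885)) (tt N89412 (iv2 F386400)) (tt N63929 F368414) (tt N52892 F368412) (tt N61042 (iv5 F368413)) (tt N63927 F368415) (tt N89414 (iv7 F386407)))
theorem Q84173 : ∀ i, i < 84173 → P i := stepQ 84172 Q84172 (allL N84172 (tt N49666 (iv1 D186886)) (tt N89968 F388134) (tt N89414 (iv2 F386406)) (tt N99781 (iv3 F426189)) (tt N52893 F368416) (tt N90647 F390394) (tt N90813 F390949) (tt N89412 (iv7 F386401)))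
theorem Q84174 : ∀ i, i < 84174 → P i := stepQ 84173 Q84173 (allL N84173 (tt N89969 F388140) (tt N49739 F371234) (tt N113610 F486294) (tt N49666 (iv3 D186887)) (tt N82657 F368418) (tt N110305 (iv5 F470947)) (tt N49758 F368419) (tt N113611 (iv7 F486299)))
theorem Q84175 : ∀ i, i < 84175 → P i := stepQ 84174 Q84174 (allL N84174 (tt N106843 F455952) (tt N85809 (iv0 F374050)) (tt N89967 (iv2 F388128)) (tt N110305 (iv3 F470946)) (tt N84735 F370417) (tt N49666 (iv5 D186888)) (tt N98086 (iv6 F419396)) (tt N111102 (iv7 F474676)))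
theorem Q84176 : ∀ i, i < 84176 → P i := stepQ 84175 Q84175 (allL N84175 (tt N111301 (iv1 F475712)) (tt N113833 F487348) (tt N113710 (iv2 F486765)) (tt N113825 (iv3 F487308)) (tt N113898 D217153) (tt N49667 (iv5 D186889)) (tt N113899 D217154) (tt N112061 (iv7 F479308)))
theorem Q84177 : ∀ i, i < 84177 → P i := stepQ 84176 Q84176 (allL N84176 (tt N92230 (iv1 F396380)) (tt N96231 (iv0 F411619)) (tt N90647 (iv2 F390391)) (tt N63930 F368420) (tt N56324 F368421) (tt N89414 (iv5 F386408)) (tt N49668 (iv6 D186890)) (tt N61042 F368422))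
theorem Q84178 : ∀ i, i < 84178 → P i := stepQ 84177 Q84177 (allL N84177 (tt N108449 F462632) (tt N113712 F486781) (tt N49675 F368423) (tt N108803 (iv3 F464025)) (tt N49669 (iv4 D186891)) (tt N50119 F368424) (tt N49878 (iv6 F368425)) (tt N113711 (iv7 F486773)))
theorem Q84179 : ∀ i, i < 84179 → P i := stepQ 84178 Q84178 (allL N84178 (tt N50028 F368429) (tt N50022 F368431) (tt N49676 F368426) (tt N62906 F368427) (tt N49878 F368428) (tt N52735 (iv5 F368430)) (tt N49669 (iv6 D186892)) (tt N54618 F368432))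
theorem Q84180 : ∀ i, i < 84180 → P i := stepQ 84179 Q84179 (allL N84179 (tt N49670 (iv1 D186893)) (tt N49680 F368433) (tt N49678 (iv2 F368435)) (tt N83412 (iv3 F368436)) (tt N112049 (iv4 F479258)) (tt N85478 (iv5 F372763)) (tt N87673 (iv6 F380102)) (tt N49677 F368434))
theorem Q84181 : ∀ i, i < 84181 → P i := stepQ 84180 Q84180 (allL N84180 (tt N53255 F368441) (tt N53866 F368440) (tt N49679 F368437) (tt N53984 F368438) (tt N52736 (iv4 F368443)) (tt N49670 (iv5 D186894)) (tt N52735 F368439) (tt N53864 F368442))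
theorem Q84182 : ∀ i, i < 84182 → P i := stepQ 84181 Q84181 (allL N84181 (tt N49678 (iv1 F368447)) (tt N49677 F368448) (tt N49680 F368444) (tt N86246 (iv3 F375566)) (tt N52707 F368445) (tt N53864 F368446) (tt N85909 (iv6 F374420)) (tt N49670 (iv7 D186895)))
theorem Q84183 : ∀ i, i < 84183 → P i := stepQ 84182 Q84182 (allL N84182 (tt N49671 (iv1 D186896)) (tt N87234 (iv0 F378838)) (tt N87235 F378842) (tt N91761 (iv3 F394337)) (tt N113900 D217155) (tt N54450 F368449) (tt N81187 (iv6 F368450)) (tt N87236 (iv7 F378845)))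
theorem Q84184 : ∀ i, i < 84184 → P i := stepQ 84183 Q84183 (allL N84183 (tt N113901 D217156) (tt N113902 D217157) (tt N87266 (iv2 F378941)) (tt N112255 (iv3 F480237)) (tt N49671 (iv4 D186897)) (tt N113903 D217158) (tt N113904 D217159) (tt N87237 (iv7 F378849)))
theorem Q84185 : ∀ i, i < 84185 → P i := stepQ 84184 Q84184 (allL N84184 (tt N81184 F368453) (tt N113905 D217160) (tt N87267 (iv2 F378944)) (tt N52474 F368451) (tt N113904 (iv4 F487708)) (tt N79641 F368452) (tt N49671 (iv6 D186898)) (tt N111501 (iv7 F476621)))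
theorem Q84186 : ∀ i, i < 84186 → P i := stepQ 84185 Q84185 (allL N84185 (tt N49672 (iv1 D186899)) (tt N52707 F368454) (tt N49967 F368457) (tt N84562 (iv3 F369698)) (tt N113019 (iv4 F483586)) (tt N87799 (iv5 F380555)) (tt N83221 (iv6 F368456)) (tt N52702 F368455))
theorem Q84187 : ∀ i, i < 84187 → P i := stepQ 84186 Q84186 (allL N84186 (tt N85370 (iv1 F372385)) (tt N84391 F372369) (tt N85367 F372368) (tt N109076 (iv3 F465238)) (tt N49673 (iv4 D186900)) (tt N109075 (iv5 F465234)) (tt N98115 (iv6 F419517)) (tt N85368 (iv7 F372371)))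
theorem Q84188 : ∀ i, i < 84188 → P i := stepQ 84187 Q84187 (allL N84187 (tt N112363 (iv1 F480756)) (tt N101202 (iv0 F432178)) (tt N75645 F368458) (tt N69901 F368459) (tt N98115 F419518) (tt N101052 (iv5 F431462)) (tt N49673 (iv6 D186901)) (tt N101337 (iv7 F432695)))
theorem Q84189 : ∀ i, i < 84189 → P i := stepQ 84188 Q84188 (allL N84188 (tt N113711 (iv1 F486776)) (tt N49675 (iv0 D186902)) (tt N108449 (iv2 F462631)) (tt N86110 F420993) (tt N84470 F369427) (tt N113906 D217161) (tt N61477 F368460) (tt N113712 (iv7 F486782)))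
theorem Q84190 : ∀ i, i < 84190 → P i := stepQ 84189 Q84189 (allL N84189 (tt N49675 (iv1 D186903)) (tt N113711 (iv0 F486775)) (tt N113712 F486780) (tt N75953 (iv3 F368465)) (tt N84397 (iv4 F369144)) (tt N113907 D217162) (tt N98353 (iv6 F420613)) (tt N108449 (iv7 F462629)))
theorem Q84191 : ∀ i, i < 84191 → P i := stepQ 84190 Q84190 (allL N84190 (tt N61487 (iv1 F368466)) (tt N76388 F368467) (tt N98259 (iv2 F420216)) (tt N49675 (iv3 D186904)) (tt N49688 F368461) (tt N50350 F368462) (tt N50353 F368463) (tt N79984 F368464))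
theorem Q84192 : ∀ i, i < 84192 → P i := stepQ 84191 Q84191 (allL N84191 (tt N50022 (iv1 F368472)) (tt N50028 F368473) (tt N54618 F368468) (tt N49693 F368469) (tt N49879 F368470) (tt N49694 F368471) (tt N96217 (iv6 F411551)) (tt N49676 (iv7 D186905)))
theorem Q84193 : ∀ i, i < 84193 → P i := stepQ 84192 Q84192 (allL N84192 (tt N87366 F392569) (tt N113705 F486738) (tt N96848 (iv2 F414238)) (tt N49678 (iv3 D186906)) (tt N96799 (iv4 F414005)) (tt N90806 (iv5 F390930)) (tt N100334 F428461) (tt N96849 (iv7 F414244)))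
theorem Q84194 : ∀ i, i < 84194 → P i := stepQ 84193 Q84193 (allL N84193 (tt N112048 (iv1 F479249)) (tt N88299 (iv0 F382496)) (tt N112049 (iv2 F479256)) (tt N84593 F369807) (tt N49678 (iv4 D186907)) (tt N91830 (iv5 F394581)) (tt N90783 F390850) (tt N87873 F380925))
theorem Q84195 : ∀ i, i < 84195 → P i := stepQ 84194 Q84194 (allL N84194 (tt N53046 F372445) (tt N83223 F372446) (tt N87673 F380103) (tt N100334 (iv3 F428457)) (tt N90783 (iv4 F390848)) (tt N85385 (iv5 F372444)) (tt N49678 (iv6 D186908)) (tt N86293 (iv7 F375722)))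
theorem Q84196 : ∀ i, i < 84196 → P i := stepQ 84195 Q84195 (allL N84195 (tt N49679 (iv1 D186909)) (tt N53864 F368474) (tt N53866 (iv2 F368478)) (tt N77973 (iv3 F368477)) (tt N89351 F386223) (tt N50535 F368476) (tt N71485 (iv6 F368479)) (tt N53255 F368475))
theorem Q84197 : ∀ i, i < 84197 → P i := stepQ 84196 Q84196 (allL N84196 (tt N75697 F368486) (tt N81408 F368487) (tt N81407 F368483) (tt N111319 (iv3 F475797)) (tt N49681 (iv4 D186910)) (tt N61550 F368485) (tt N51281 (iv6 F368489)) (tt N63307 F368484))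
theorem Q84198 : ∀ i, i < 84198 → P i := stepQ 84197 Q84197 (allL N84197 (tt N75640 F374092) (tt N111265 (iv0 F475523)) (tt N111298 (iv2 F475691)) (tt N49683 F368490) (tt N51281 F368491) (tt N53823 F368492) (tt N49681 (iv6 D186911)) (tt N111300 (iv7 F475702)))
theorem Q84199 : ∀ i, i < 84199 → P i := stepQ 84198 Q84198 (allL N84198 (tt N54561 (iv1 F378434)) (tt N54566 (iv0 F378433)) (tt N113908 D217163) (tt N49682 (iv3 D186912)) (tt N111319 (iv4 F475798)) (tt N86351 (iv5 F375894)) (tt N88222 (iv6 F382244)) (tt N90660 (iv7 F390446)))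
theorem Q84200 : ∀ i, i < 84200 → P i := stepQ 84199 Q84199 (allL N84199 (tt N113909 D217164) (tt N105255 F449411) (tt N90650 (iv2 F390405)) (tt N88222 F382241) (tt N49683 F368493) (tt N113910 D217165) (tt N49682 (iv6 D186913)) (tt N113911 D217166))
theorem Q84201 : ∀ i, i < 84201 → P i := stepQ 84200 Q84200 (allL N84200 (tt N91016 (iv1 F391577)) (tt N49683 (iv0 D186914)) (tt N91014 (iv2 F432175)) (tt N113912 D217167) (tt N113913 D217168) (tt N113914 D217169) (tt N113915 D217170) (tt N91015 F432174))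
theorem Q84202 : ∀ i, i < 84202 → P i := stepQ 84201 Q84201 (allL N84201 (tt N49683 (iv1 D186915)) (tt N91016 F391576) (tt N91015 F432172) (tt N101202 (iv3 F432176)) (tt N111768 (iv4 F477872)) (tt N113916 D217171) (tt N101201 (iv6 F432171)) (tt N91014 (iv7 F432173)))
theorem Q84203 : ∀ i, i < 84203 → P i := stepQ 84202 Q84202 (allL N84202 (tt N91015 (iv1 F391568)) (tt N91014 F391575) (tt N91016 (iv2 F391571)) (tt N111300 F475706) (tt N113911 (iv4 F487744)) (tt N53826 F368494) (tt N85576 (iv6 F373099)) (tt N49683 (iv7 D186916)))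
theorem Q84204 : ∀ i, i < 84204 → P i := stepQ 84203 Q84203 (allL N84203 (tt N66731 F368498) (tt N66729 F368500) (tt N78188 (iv2 F368501)) (tt N49686 (iv3 D186917)) (tt N74697 F368495) (tt N54688 F368496) (tt N66713 (iv6 F368499)) (tt N51656 F368497))
theorem Q84205 : ∀ i, i < 84205 → P i := stepQ 84204 Q84204 (allL N84204 (tt N113913 F487757) (tt N111768 (iv0 F477874)) (tt N84356 (iv2 F369043)) (tt N66713 F368502) (tt N54732 F368503) (tt N88053 (iv5 F381600)) (tt N49686 (iv6 D186918)) (tt N87794 (iv7 F380531)))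
theorem Q84206 : ∀ i, i < 84206 → P i := stepQ 84205 Q84205 (allL N84205 (tt N96874 F414379) (tt N109491 (iv0 F467247)) (tt N87796 (iv2 F380539)) (tt N49687 (iv3 D186919)) (tt N100792 (iv4 F430493)) (tt N54697 F368504) (tt N87795 (iv6 F380538)) (tt N84355 (iv7 F369041)))
theorem Q84207 : ∀ i, i < 84207 → P i := stepQ 84206 Q84206 (allL N84206 (tt N51708 F368507) (tt N51714 (iv0 F368508)) (tt N51654 F368505) (tt N87795 (iv3 F380533)) (tt N54728 F368506) (tt N95139 (iv5 F407203)) (tt N49687 (iv6 D186920)) (tt N51712 F368509))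
theorem Q84208 : ∀ i, i < 84208 → P i := stepQ 84207 Q84207 (allL N84207 (tt N85775 (iv1 F373885)) (tt N85770 (iv0 F373865)) (tt N66723 F368510) (tt N49689 F368511) (tt N50353 F368512) (tt N108568 (iv5 F463083)) (tt N49688 (iv6 D186921)) (tt N111775 (iv7 F477916)))
theorem Q84209 : ∀ i, i < 84209 → P i := stepQ 84208 Q84208 (allL N84208 (tt N66714 F368518) (tt N49689 (iv0 D186922)) (tt N58645 (iv2 F368515)) (tt N51722 (iv3 F368516)) (tt N83879 F368517) (tt N80258 F368514) (tt N51719 F368513) (tt N84368 (iv7 F369056)))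
theorem Q84210 : ∀ i, i < 84210 → P i := stepQ 84209 Q84209 (allL N84209 (tt N49689 (iv1 D186923)) (tt N66714 F368519) (tt N84368 (iv2 F369055)) (tt N58652 (iv3 F368521)) (tt N83880 (iv4 F368522)) (tt N88039 (iv5 F381550)) (tt N96872 (iv6 F414369)) (tt N58645 F368520))
theorem Q84211 : ∀ i, i < 84211 → P i := stepQ 84210 Q84210 (allL N84210 (tt N87277 F394657) (tt N113917 D217172) (tt N113708 (iv2 F486754)) (tt N108568 (iv3 F463082)) (tt N91655 (iv4 F393919)) (tt N49689 (iv5 D186924)) (tt N54534 F368523) (tt N113918 D217173))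
theorem Q84212 : ∀ i, i < 84212 → P i := stepQ 84211 Q84211 (allL N84211 (tt N84368 (iv1 F369059)) (tt N58645 F368527) (tt N66714 F368524) (tt N111775 (iv3 F477912)) (tt N49693 F368525) (tt N113918 (iv5 F487784)) (tt N84044 F368526) (tt N49689 (iv7 D186925)))
theorem Q84213 : ∀ i, i < 84213 → P i := stepQ 84212 Q84212 (allL N84212 (tt N110317 F471013) (tt N111946 (iv0 F478813)) (tt N76383 F368528) (tt N49690 (iv3 D186926)) (tt N61490 (iv4 F368530)) (tt N77396 (iv5 F368531)) (tt N73908 F368529) (tt N100767 (iv7 F430370)))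
theorem Q84214 : ∀ i, i < 84214 → P i := stepQ 84213 Q84213 (allL N84213 (tt N113717 (iv1 F486806)) (tt N49785 (iv0 F368535)) (tt N96955 (iv2 F414762)) (tt N61492 F368532) (tt N49690 (iv4 D186927)) (tt N80252 (iv5 F368534)) (tt N80253 F368533) (tt N100770 (iv7 F430388)))
theorem Q84215 : ∀ i, i < 84215 → P i := stepQ 84214 Q84214 (allL N84214 (tt N81377 F368537) (tt N85489 (iv0 F372805)) (tt N90612 F390270) (tt N77396 F368536) (tt N77398 (iv4 F368538)) (tt N49690 (iv5 D186928)) (tt N90790 F390881) (tt N90611 F390266))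
theorem Q84216 : ∀ i, i < 84216 → P i := stepQ 84215 Q84215 (allL N84215 (tt N49785 F368539) (tt N113717 F486805) (tt N100770 F430391) (tt N113919 D217174) (tt N49691 (iv4 D186929)) (tt N111492 (iv5 F476588)) (tt N91091 (iv6 F391889)) (tt N96955 (iv7 F414765)))
theorem Q84217 : ∀ i, i < 84217 → P i := stepQ 84216 Q84216 (allL N84216 (tt N110305 F470949) (tt N113915 (iv0 F487768)) (tt N113709 (iv2 F486760)) (tt N110309 F470970) (tt N91091 F391890) (tt N113920 D217175) (tt N49691 (iv6 D186930)) (tt N113883 (iv7 F487618)))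
theorem Q84218 : ∀ i, i < 84218 → P i := stepQ 84217 Q84217 (allL N84217 (tt N54622 F368543) (tt N49692 (iv0 D186931)) (tt N54620 (iv2 F368544)) (tt N110245 F470615) (tt N110246 (iv4 F470617)) (tt N77345 F368540) (tt N113921 D217176) (tt N54621 (iv7 F368542)))
theorem Q84219 : ∀ i, i < 84219 → P i := stepQ 84218 Q84218 (allL N84218 (tt N49692 (iv1 D186932)) (tt N54622 F368547) (tt N54621 F368550) (tt N77150 F368551) (tt N110367 (iv4 F471259)) (tt N77149 (iv5 F368549)) (tt N112333 (iv6 F480610)) (tt N54620 F368548))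
theorem Q84220 : ∀ i, i < 84220 → P i := stepQ 84219 Q84219 (allL N84219 (tt N72473 (iv1 F393908)) (tt N113922 D217177) (tt N54619 F368552) (tt N54611 F368553) (tt N49692 (iv4 D186933)) (tt N96218 (iv5 F411555)) (tt N49694 F368554) (tt N54612 (iv7 F368555)))
theorem Q84221 : ∀ i, i < 84221 → P i := stepQ 84220 Q84220 (allL N84220 (tt N54621 (iv1 F368561)) (tt N54620 F368562) (tt N54622 F368556) (tt N49694 F368557) (tt N54612 F368558) (tt N49693 F368559) (tt N54611 F368560) (tt N49692 (iv7 D186934)))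
theorem Q84222 : ∀ i, i < 84222 → P i := stepQ 84221 Q84221 (allL N84221 (tt N91539 F393556) (tt N109093 (iv0 F465304)) (tt N99790 (iv2 F426225)) (tt N101293 (iv3 F432565)) (tt N72685 F368570) (tt N113862 (iv5 F487512)) (tt N49695 (iv6 D186935)) (tt N101291 (iv7 F432559)))
theorem Q84223 : ∀ i, i < 84223 → P i := stepQ 84222 Q84222 (allL N84222 (tt N82714 F368575) (tt N82713 F368574) (tt N49700 F368571) (tt N52882 F368572) (tt N110154 (iv4 F470203)) (tt N49696 (iv5 D186936)) (tt N106402 (iv6 F454307)) (tt N82711 F368573))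
theorem Q84224 : ∀ i, i < 84224 → P i := stepQ 84223 Q84223 (allL N84223 (tt N111941 F478788) (tt N74806 F368577) (tt N49703 F368576) (tt N74820 F368578) (tt N49697 (iv4 D186937)) (tt N92583 (iv5 F397485)) (tt N75810 (iv6 F368579)) (tt N113706 (iv7 F486744)))
theorem Q84225 : ∀ i, i < 84225 → P i := stepQ 84224 Q84224 (allL N84224 (tt N81347 F368583) (tt N75591 (iv0 F368584)) (tt N49704 F368580) (tt N96222 (iv3 F411570)) (tt N75810 F368581) (tt N59085 (iv5 F368585)) (tt N49697 (iv6 D186938)) (tt N62958 F368582))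
theorem Q84226 : ∀ i, i < 84226 → P i := stepQ 84225 Q84225 (allL N84225 (tt N53236 F368590) (tt N53235 F368591) (tt N49707 F368587) (tt N53908 F368588) (tt N59087 (iv4 F368592)) (tt N49698 (iv5 D186939)) (tt N59085 F368589) (tt N86245 (iv7 F375561)))
theorem Q84227 : ∀ i, i < 84227 → P i := stepQ 84226 Q84226 (allL N84226 (tt N52904 F368604) (tt N52903 (iv0 F368605)) (tt N52906 F368600) (tt N49699 (iv3 D186940)) (tt N52906 F368601) (tt N110140 (iv5 F470143)) (tt N82844 F368602) (tt N52902 F368603))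
theorem Q84228 : ∀ i, i < 84228 → P i := stepQ 84227 Q84227 (allL N84227 (tt N113923 D217178) (tt N113924 D217179) (tt N110154 (iv2 F470202)) (tt N105269 (iv3 F449479)) (tt N49700 (iv4 D186941)) (tt N105265 (iv5 F449468)) (tt N105267 (iv6 F449472)) (tt N82715 F368606))
theorem Q84229 : ∀ i, i < 84229 → P i := stepQ 84228 Q84228 (allL N84228 (tt N106400 (iv1 F454298)) (tt N106399 (iv0 F454294)) (tt N106402 (iv2 F454304)) (tt N77068 F368607) (tt N105267 F449473) (tt N91671 (iv5 F393977)) (tt N49700 (iv6 D186942)) (tt N105990 (iv7 F452649)))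
theorem Q84230 : ∀ i, i < 84230 → P i := stepQ 84229 Q84229 (allL N84229 (tt N113912 F487753) (tt N70077 (iv0 F368610)) (tt N113707 (iv2 F486747)) (tt N113881 (iv3 F487602)) (tt N82563 F368608) (tt N54018 F368609) (tt N49702 (iv6 D186943)) (tt N113925 D217180))
theorem Q84231 : ∀ i, i < 84231 → P i := stepQ 84230 Q84230 (allL N84230 (tt N113706 (iv1 F486746)) (tt N49703 (iv0 D186944)) (tt N111941 (iv2 F478783)) (tt N66761 (iv3 F368612)) (tt N84469 F369423) (tt N74767 F368611) (tt N66683 (iv6 F368614)) (tt N74806 (iv7 F368613)))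
theorem Q84232 : ∀ i, i < 84232 → P i := stepQ 84231 Q84231 (allL N84231 (tt N49703 (iv1 D186945)) (tt N113706 (iv0 F486745)) (tt N74806 (iv2 F369013)) (tt N100999 (iv3 F431198)) (tt N84347 (iv4 F369008)) (tt N64748 F369009) (tt N113926 D217181) (tt N111941 F478789))
theorem Q84233 : ∀ i, i < 84233 → P i := stepQ 84232 Q84232 (allL N84232 (tt N102947 (iv1 F439383)) (tt N102948 (iv0 F439387)) (tt N92583 (iv2 F397483)) (tt N54968 F368615) (tt N109097 (iv4 F465325)) (tt N49703 (iv5 D186946)) (tt N92581 F397478) (tt N101692 (iv7 F433892)))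
theorem Q84234 : ∀ i, i < 84234 → P i := stepQ 84233 Q84233 (allL N84233 (tt N78174 F368619) (tt N80016 F368620) (tt N59085 F368616) (tt N49712 F368617) (tt N59083 (iv4 F368621)) (tt N49704 (iv5 D186947)) (tt N49707 F368618) (tt N59080 F368622))
theorem Q84235 : ∀ i, i < 84235 → P i := stepQ 84234 Q84234 (allL N84234 (tt N75591 (iv1 F368628)) (tt N81347 F368629) (tt N62958 F368623) (tt N49713 F368624) (tt N51999 F368625) (tt N59080 F368626) (tt N62905 F368627) (tt N49704 (iv7 D186948)))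
theorem Q84236 : ∀ i, i < 84236 → P i := stepQ 84235 Q84235 (allL N84235 (tt N49707 (iv1 D186949)) (tt N86245 (iv0 F375563)) (tt N53235 (iv2 F368632)) (tt N54084 (iv3 F368633)) (tt N103172 (iv4 F440399)) (tt N53230 F368631) (tt N106042 (iv6 F452860)) (tt N53236 F368630))
theorem Q84237 : ∀ i, i < 84237 → P i := stepQ 84236 Q84236 (allL N84236 (tt N90047 (iv1 F388412)) (tt N89381 (iv0 F386298)) (tt N59087 F368634) (tt N85117 (iv3 F371681)) (tt N49707 (iv4 D186950)) (tt N85116 (iv5 F371678)) (tt N59083 F368635) (tt N86248 (iv7 F375581)))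
theorem Q84238 : ∀ i, i < 84238 → P i := stepQ 84237 Q84237 (allL N84237 (tt N49708 (iv1 D186951)) (tt N66725 F368636) (tt N75226 (iv2 F368639)) (tt N80202 (iv3 F368640)) (tt N62775 F368638) (tt N89239 (iv5 F385732)) (tt N87751 (iv6 F380367)) (tt N51724 F368637))
theorem Q84239 : ∀ i, i < 84239 → P i := stepQ 84238 Q84238 (allL N84238 (tt N84044 (iv1 F368644)) (tt N49709 (iv0 D186952)) (tt N84046 (iv2 F368642)) (tt N95874 (iv3 F410042)) (tt N83889 F368641) (tt N95873 F410039) (tt N87792 (iv6 F380519)) (tt N51711 F368643))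
theorem Q84240 : ∀ i, i < 84240 → P i := stepQ 84239 Q84239 (allL N84239 (tt N81585 F369401) (tt N78658 (iv0 F368647)) (tt N69496 F368645) (tt N87738 (iv3 F380292)) (tt N51578 (iv4 F377606)) (tt N49709 (iv5 D186953)) (tt N54515 F368646) (tt N81584 (iv7 F368648)))
theorem Q84241 : ∀ i, i < 84241 → P i := stepQ 84240 Q84240 (allL N84240 (tt N51711 (iv1 F368654)) (tt N84046 F368655) (tt N84044 F368649) (tt N51648 F368650) (tt N49713 F368651) (tt N81584 F368652) (tt N66714 F368653) (tt N49709 (iv7 D186954)))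
theorem Q84242 : ∀ i, i < 84242 → P i := stepQ 84241 Q84241 (allL N84241 (tt N96194 (iv1 F411438)) (tt N49816 (iv0 F368657)) (tt N111809 (iv2 F478082)) (tt N87888 F380976) (tt N49710 (iv4 D186955)) (tt N86812 F377278) (tt N105253 (iv6 F449403)) (tt N88078 F381714))
theorem Q84243 : ∀ i, i < 84243 → P i := stepQ 84242 Q84242 (allL N84242 (tt N89974 (iv1 F388158)) (tt N86271 F388162) (tt N89975 (iv2 F388159)) (tt N69778 F368658) (tt N57805 F368659) (tt N49710 (iv5 D186956)) (tt N89979 (iv6 F388175)) (tt N89077 F385063))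
theorem Q84244 : ∀ i, i < 84244 → P i := stepQ 84243 Q84243 (allL N84243 (tt N86241 (iv1 F375538)) (tt N49712 (iv0 D186957)) (tt N86239 F375524) (tt N59299 (iv3 F368661)) (tt N57742 F368660) (tt N113885 (iv5 F487630)) (tt N93266 (iv6 F400200)) (tt N86240 (iv7 F375527)))
theorem Q84245 : ∀ i, i < 84245 → P i := stepQ 84244 Q84244 (allL N84244 (tt N49712 (iv1 D186958)) (tt N86241 F375537) (tt N86240 (iv2 F375531)) (tt N112709 (iv3 F482292)) (tt N57741 (iv4 F368662)) (tt N90685 (iv5 F390519)) (tt N90550 (iv6 F390062)) (tt N86239 F375525))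
theorem Q84246 : ∀ i, i < 84246 → P i := stepQ 84245 Q84245 (allL N84245 (tt N86240 (iv1 F375526)) (tt N86239 F375533) (tt N86241 (iv2 F375534)) (tt N59080 F368663) (tt N94534 (iv4 F404873)) (tt N49713 F368664) (tt N86251 (iv6 F375585)) (tt N49712 (iv7 D186959)))
theorem Q84247 : ∀ i, i < 84247 → P i := stepQ 84246 Q84246 (allL N84246 (tt N90648 (iv1 F390395)) (tt N61267 (iv0 F368668)) (tt N49716 F368665) (tt N61501 F368667) (tt N49715 (iv4 D186960)) (tt N113927 D217182) (tt N81529 F368675) (tt N61507 F368666))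
theorem Q84248 : ∀ i, i < 84248 → P i := stepQ 84247 Q84247 (allL N84247 (tt N84724 F370358) (tt N58959 F370359) (tt N49717 F368669) (tt N71805 F368670) (tt N81529 (iv4 F368674)) (tt N69788 (iv5 F368672)) (tt N49715 (iv6 D186961)) (tt N71780 F368671))
theorem Q84249 : ∀ i, i < 84249 → P i := stepQ 84248 Q84248 (allL N84248 (tt N61507 (iv1 F368677)) (tt N49716 (iv0 D186962)) (tt N90648 (iv2 F390399)) (tt N61513 (iv3 F368680)) (tt N76950 F368676) (tt N50358 (iv5 F368679)) (tt N92228 F396368) (tt N61267 (iv7 F368678)))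
theorem Q84250 : ∀ i, i < 84250 → P i := stepQ 84249 Q84249 (allL N84249 (tt N49716 (iv1 D186963)) (tt N61507 F368683) (tt N61267 F368686) (tt N66908 (iv3 F368685)) (tt N76947 F368684) (tt N50359 (iv5 F368688)) (tt N50288 F368687) (tt N90648 (iv7 F390396)))
theorem Q84251 : ∀ i, i < 84251 → P i := stepQ 84250 Q84250 (allL N84250 (tt N85230 (iv1 F421111)) (tt N98308 (iv0 F420464)) (tt N113927 (iv2 F487831)) (tt N98327 F420518) (tt N94876 F449982) (tt N49716 (iv5 D186964)) (tt N110266 (iv6 F470728)) (tt N85263 F372057))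
theorem Q84252 : ∀ i, i < 84252 → P i := stepQ 84251 Q84251 (allL N84251 (tt N51494 F368698) (tt N81531 F368699) (tt N81529 F368689) (tt N97787 (iv3 F418303)) (tt N49717 F368690) (tt N97786 F418301) (tt N49716 (iv6 D186965)) (tt N81530 (iv7 F368691)))
theorem Q84253 : ∀ i, i < 84253 → P i := stepQ 84252 Q84252 (allL N84252 (tt N71780 F368695) (tt N49717 (iv0 D186966)) (tt N84724 (iv2 F370353)) (tt N58048 (iv3 F368693)) (tt N50784 (iv4 F368694)) (tt N58047 (iv5 F368697)) (tt N50783 F368692) (tt N58959 F368696))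
theorem Q84254 : ∀ i, i < 84254 → P i := stepQ 84253 Q84253 (allL N84253 (tt N64670 F368703) (tt N69790 F368704) (tt N69788 F368700) (tt N49722 F368701) (tt N97933 (iv4 F418852)) (tt N49717 (iv5 D186967)) (tt N52167 F368702) (tt N69789 F368705))
theorem Q84255 : ∀ i, i < 84255 → P i := stepQ 84254 Q84254 (allL N84254 (tt N58959 (iv1 F370360)) (tt N84724 (iv0 F370357)) (tt N71780 F368706) (tt N49723 F368707) (tt N81530 F368708) (tt N69789 F368709) (tt N71777 F368710) (tt N49717 (iv7 D186968)))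
theorem Q84256 : ∀ i, i < 84256 → P i := stepQ 84255 Q84255 (allL N84255 (tt N95469 (iv1 F408301)) (tt N49719 (iv0 D186969)) (tt N91026 (iv2 F391639)) (tt N52420 (iv3 F368712)) (tt N69937 F368711) (tt N113928 D217183) (tt N52418 F368713) (tt N91028 (iv7 F391653)))
theorem Q84257 : ∀ i, i < 84257 → P i := stepQ 84256 Q84256 (allL N84256 (tt N49719 (iv1 D186970)) (tt N95469 F408300) (tt N91028 (iv2 F391650)) (tt N95471 (iv3 F408306)) (tt N69935 (iv4 F368714)) (tt N113929 D217184) (tt N102951 (iv6 F439405)) (tt N91026 (iv7 F391641)))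
theorem Q84258 : ∀ i, i < 84258 → P i := stepQ 84257 Q84257 (allL N84257 (tt N91028 F391655) (tt N91026 (iv0 F391643)) (tt N95469 (iv2 F408296)) (tt N102959 (iv3 F439445)) (tt N49723 F368715) (tt N106878 (iv5 F456103)) (tt N59718 F368716) (tt N49719 (iv7 D186971)))
theorem Q84259 : ∀ i, i < 84259 → P i := stepQ 84258 Q84258 (allL N84258 (tt N73845 F368721) (tt N109689 (iv0 F468123)) (tt N77358 F368717) (tt N49720 (iv3 D186972)) (tt N64182 (iv4 F368719)) (tt N104335 (iv5 F445309)) (tt N64181 F368718) (tt N98552 (iv7 F421300)))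
theorem Q84260 : ∀ i, i < 84260 → P i := stepQ 84259 Q84259 (allL N84259 (tt N96899 F414512) (tt N49729 F368720) (tt N105290 (iv2 F449585)) (tt N98131 (iv3 F419599)) (tt N49720 (iv4 D186973)) (tt N113930 D217185) (tt N98129 F419592) (tt N105289 F449579))
theorem Q84261 : ∀ i, i < 84261 → P i := stepQ 84260 Q84260 (allL N84260 (tt N49729 F368722) (tt N96899 (iv0 F414511)) (tt N105289 (iv2 F449580)) (tt N77806 (iv3 F368727)) (tt N49721 (iv4 D186974)) (tt N112055 (iv5 F479275)) (tt N77805 F368726) (tt N105290 (iv7 F449582)))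
theorem Q84262 : ∀ i, i < 84262 → P i := stepQ 84261 Q84261 (allL N84261 (tt N85602 F387222) (tt N85605 F387223) (tt N109134 (iv2 F465496)) (tt N77355 F368723) (tt N77805 (iv4 F368725)) (tt N113855 (iv5 F487476)) (tt N49721 (iv6 D186975)) (tt N77347 F368724))
theorem Q84263 : ∀ i, i < 84263 → P i := stepQ 84262 Q84262 (allL N84262 (tt N88666 F383794) (tt N110857 (iv0 F473465)) (tt N87660 (iv2 F380019)) (tt N104061 (iv3 F443986)) (tt N49722 (iv4 D186976)) (tt N111669 (iv5 F477395)) (tt N52168 F368728) (tt N113931 D217186))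
theorem Q84264 : ∀ i, i < 84264 → P i := stepQ 84263 Q84263 (allL N84263 (tt N87661 (iv1 F380023)) (tt N54262 (iv0 F368733)) (tt N70959 F368729) (tt N69789 F368730) (tt N113931 (iv4 F487843)) (tt N49723 F368731) (tt N70957 F368732) (tt N49722 (iv7 D186977)))
theorem Q84265 : ∀ i, i < 84265 → P i := stepQ 84264 Q84264 (allL N84264 (tt N96229 F411612) (tt N109094 (iv0 F465310)) (tt N90685 (iv2 F390517)) (tt N96206 (iv3 F411489)) (tt N83817 F368734) (tt N86240 F375529) (tt N49725 (iv6 D186978)) (tt N113885 (iv7 F487631)))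
theorem Q84266 : ∀ i, i < 84266 → P i := stepQ 84265 Q84265 (allL N84265 (tt N73852 (iv1 F368745)) (tt N73801 (iv0 F368744)) (tt N73849 F368735) (tt N49726 (iv3 D186979)) (tt N76399 (iv4 F368738)) (tt N90581 (iv5 F390165)) (tt N78968 F368736) (tt N73850 F368737))
theorem Q84267 : ∀ i, i < 84267 → P i := stepQ 84266 Q84266 (allL N84266 (tt N49730 F368741) (tt N58667 F368742) (tt N90686 (iv2 F390520)) (tt N77804 F368743) (tt N49726 (iv4 D186980)) (tt N54852 F368739) (tt N87400 (iv6 F379249)) (tt N54851 F368740))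
theorem Q84268 : ∀ i, i < 84268 → P i := stepQ 84267 Q84267 (allL N84267 (tt N112467 F481209) (tt N83817 (iv0 F391881)) (tt N109536 (iv2 F467422)) (tt N49729 F368746) (tt N59285 F368747) (tt N113932 D217187) (tt N49728 (iv6 D186981)) (tt N96186 (iv7 F411392)))
theorem Q84269 : ∀ i, i < 84269 → P i := stepQ 84268 Q84268 (allL N84268 (tt N111798 (iv1 F478026)) (tt N111765 (iv0 F477860)) (tt N113713 (iv2 F486784)) (tt N113932 (iv3 F487849)) (tt N113933 D217188) (tt N49729 (iv5 D186982)) (tt N54784 F368748) (tt N105291 (iv7 F449590)))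
theorem Q84270 : ∀ i, i < 84270 → P i := stepQ 84269 Q84269 (allL N84269 (tt N111721 (iv1 F477660)) (tt N87357 (iv0 F461880)) (tt N78374 F368749) (tt N91554 (iv3 F393621)) (tt N74833 F368750) (tt N108285 (iv5 F461877)) (tt N49731 (iv6 D186983)) (tt N78371 (iv7 F368751)))
theorem Q84271 : ∀ i, i < 84271 → P i := stepQ 84270 Q84270 (allL N84270 (tt N53424 F368757) (tt N53423 F368758) (tt N49733 F368752) (tt N54557 F368753) (tt N61376 F368756) (tt N49732 (iv5 D186984)) (tt N54938 F368754) (tt N53425 F368755))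
theorem Q84272 : ∀ i, i < 84272 → P i := stepQ 84271 Q84271 (allL N84271 (tt N54422 (iv1 F368765)) (tt N49735 (iv0 D186985)) (tt N54576 (iv2 F385849)) (tt N74188 (iv3 F368767)) (tt N54657 (iv4 F368768)) (tt N113934 D217189) (tt N112120 F479587) (tt N54577 F385851))
theorem Q84273 : ∀ i, i < 84273 → P i := stepQ 84272 Q84272 (allL N84272 (tt N49735 (iv1 D186986)) (tt N54422 F368759) (tt N54577 F385848) (tt N54916 (iv3 F372067)) (tt N54658 (iv4 F372065)) (tt N87101 (iv5 F378375)) (tt N71621 F372069) (tt N54576 (iv7 F385846)))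
theorem Q84274 : ∀ i, i < 84274 → P i := stepQ 84273 Q84273 (allL N84273 (tt N54577 (iv1 F368766)) (tt N54576 F368769) (tt N54422 F368760) (tt N63380 F368761) (tt N53395 F368762) (tt N83112 F368763) (tt N53394 F368764) (tt N49735 (iv7 D186987)))
theorem Q84275 : ∀ i, i < 84275 → P i := stepQ 84274 Q84274 (allL N84274 (tt N53419 (iv1 F368778)) (tt N54552 F368774) (tt N54420 F368770) (tt N103998 (iv3 F443711)) (tt N89956 (iv4 F388098)) (tt N49736 (iv5 D186988)) (tt N53393 F368771) (tt N54551 (iv7 F368772)))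
theorem Q84276 : ∀ i, i < 84276 → P i := stepQ 84275 Q84275 (allL N84275 (tt N61042 F369000) (tt N90647 F396169) (tt N92230 (iv2 F396376)) (tt N49737 (iv3 D186990)) (tt N92229 F396374) (tt N113857 (iv5 F487488)) (tt N99774 F426178) (tt N96231 (iv7 F411618)))
theorem Q84277 : ∀ i, i < 84277 → P i := stepQ 84276 Q84276 (allL N84276 (tt N113935 D217190) (tt N113936 D217191) (tt N113714 (iv2 F486788)) (tt N113857 F487491) (tt N113937 D217192) (tt N49737 (iv5 D186991)) (tt N113938 D217193) (tt N113715 (iv7 F486793)))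
theorem Q84278 : ∀ i, i < 84278 → P i := stepQ 84277 Q84277 (allL N84277 (tt N109134 F465499) (tt N77347 (iv0 F368788)) (tt N85605 F378678) (tt N99774 (iv3 F426172)) (tt N89917 (iv4 F387991)) (tt N50598 F368787) (tt N49737 (iv6 D186992)) (tt N85602 F378699))
theorem Q84279 : ∀ i, i < 84279 → P i := stepQ 84278 Q84278 (allL N84278 (tt N113936 (iv1 F487868)) (tt N113935 F487864) (tt N113715 (iv2 F486791)) (tt N99942 (iv3 F426899)) (tt N113939 D217194) (tt N49738 (iv5 D186994)) (tt N113940 D217195) (tt N113714 (iv7 F486789)))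
theorem Q84280 : ∀ i, i < 84280 → P i := stepQ 84279 Q84279 (allL N84279 (tt N113885 F487632) (tt N90685 (iv0 F411394)) (tt N96229 (iv2 F411608)) (tt N80013 F368790) (tt N89915 (iv4 F387990)) (tt N113941 D217196) (tt N49738 (iv6 D186995)) (tt N109094 (iv7 F465309)))
theorem Q84281 : ∀ i, i < 84281 → P i := stepQ 84280 Q84280 (allL N84280 (tt N49739 (iv1 D186997)) (tt N89969 F388139) (tt N113611 F486302) (tt N113942 D217197) (tt N113943 D217198) (tt N113915 (iv5 F487769)) (tt N113944 D217199) (tt N113610 F486297))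
theorem Q84282 : ∀ i, i < 84282 → P i := stepQ 84281 Q84281 (allL N84281 (tt N113945 D217200) (tt N113946 D217201) (tt N91798 (iv2 F394469)) (tt N113947 D217202) (tt N49739 (iv4 D186998)) (tt N113842 (iv5 F487396)) (tt N49740 F368791) (tt N113888 (iv7 F487645)))
theorem Q84283 : ∀ i, i < 84283 → P i := stepQ 84282 Q84282 (allL N84282 (tt N106892 F456163) (tt N113948 D217203) (tt N113949 D217204) (tt N49740 (iv3 D186999)) (tt N82704 F368792) (tt N84094 (iv5 F384006)) (tt N113947 (iv6 F487909)) (tt N49758 F368793))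
theorem Q84284 : ∀ i, i < 84284 → P i := stepQ 84283 Q84283 (allL N84283 (tt N90734 (iv1 F390688)) (tt N49741 (iv0 D187000)) (tt N53918 (iv2 F368795)) (tt N82681 (iv3 F368796)) (tt N84424 (iv4 F369236)) (tt N53880 F368794) (tt N113950 D217205) (tt N84421 F369233))
theorem Q84285 : ∀ i, i < 84285 → P i := stepQ 84284 Q84284 (allL N84284 (tt N49741 (iv1 D187001)) (tt N90734 (iv0 F390687)) (tt N84421 (iv2 F369230)) (tt N113951 D217206) (tt N83700 F368802) (tt N53919 (iv5 F368798)) (tt N83699 (iv6 F368801)) (tt N53918 F368797))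
theorem Q84286 : ∀ i, i < 84286 → P i := stepQ 84285 Q84285 (allL N84285 (tt N113952 D217207) (tt N113953 D217208) (tt N112384 (iv2 F480845)) (tt N49745 F368799) (tt N90732 (iv4 F390679)) (tt N53413 F368800) (tt N49741 (iv6 D187003)) (tt N113954 D217209))
theorem Q84287 : ∀ i, i < 84287 → P i := stepQ 84286 Q84286 (allL N84286 (tt N82614 F368806) (tt N77049 (iv0 F368805)) (tt N82668 F368803) (tt N49743 (iv3 D187004)) (tt N110093 (iv4 F469949)) (tt N50520 F368804) (tt N113955 D217210) (tt N84973 (iv7 F371228)))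
theorem Q84288 : ∀ i, i < 84288 → P i := stepQ 84287 Q84287 (allL N84287 (tt N49839 F368809) (tt N49833 F368810) (tt N53660 F368807) (tt N100075 (iv3 F427445)) (tt N49743 (iv4 D187005)) (tt N50917 F368808) (tt N100072 (iv6 F427438)) (tt N84962 (iv7 F371186)))
theorem Q84289 : ∀ i, i < 84289 → P i := stepQ 84288 Q84288 (allL N84288 (tt N113940 F487884) (tt N113956 D217211) (tt N53658 F368811) (tt N113955 (iv3 F487952)) (tt N100072 F427439) (tt N53200 F368812) (tt N49743 (iv6 D187006)) (tt N113957 D217212))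
theorem Q84290 : ∀ i, i < 84290 → P i := stepQ 84289 Q84289 (allL N84289 (tt N49744 (iv1 D187007)) (tt N49748 F368813) (tt N84420 (iv2 F369225)) (tt N113958 D217213) (tt N50210 F368815) (tt N50197 F368814) (tt N88756 (iv6 F384061)) (tt N84418 (iv7 F369217)))
theorem Q84291 : ∀ i, i < 84291 → P i := stepQ 84290 Q84290 (allL N84290 (tt N54544 (iv1 F368825)) (tt N49745 (iv0 D187008)) (tt N54541 (iv2 F368829)) (tt N111834 (iv3 F478211)) (tt N84034 F368816) (tt N89200 (iv5 F385554)) (tt N113892 (iv6 F487662)) (tt N54542 (iv7 F368833)))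
theorem Q84292 : ∀ i, i < 84292 → P i := stepQ 84291 Q84291 (allL N84291 (tt N49745 (iv1 D187009)) (tt N54544 F368818) (tt N54542 F368832) (tt N82676 (iv3 F368940)) (tt N83693 (iv4 F368820)) (tt N89199 (iv5 F385547)) (tt N113936 F487872) (tt N54541 (iv7 F368831)))
theorem Q84293 : ∀ i, i < 84293 → P i := stepQ 84292 Q84292 (allL N84292 (tt N54542 (iv1 F368826)) (tt N54541 (iv0 F368828)) (tt N54544 F368822) (tt N113954 (iv3 F487947)) (tt N82717 F368823) (tt N53418 F368824) (tt N113609 (iv6 F486288)) (tt N49745 (iv7 D187010)))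
theorem Q84294 : ∀ i, i < 84294 → P i := stepQ 84293 Q84293 (allL N84293 (tt N109410 (iv1 F466826)) (tt N49746 (iv0 D187011)) (tt N113604 F486265) (tt N113959 D217214) (tt N113923 (iv4 F487805)) (tt N50555 F368835) (tt N105332 (iv6 F449744)) (tt N113603 (iv7 F486259)))
theorem Q84295 : ∀ i, i < 84295 → P i := stepQ 84294 Q84294 (allL N84294 (tt N49746 (iv1 D187012)) (tt N109410 (iv0 F466825)) (tt N113603 (iv2 F486260)) (tt N82663 F368837) (tt N113924 (iv4 F487814)) (tt N50556 (iv5 F368836)) (tt N113960 D217215) (tt N113604 (iv7 F486262)))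
theorem Q84296 : ∀ i, i < 84296 → P i := stepQ 84295 Q84295 (allL N84295 (tt N101271 (iv1 F432474)) (tt N101276 F432501) (tt N101275 (iv2 F432494)) (tt N109709 F468228) (tt N49746 (iv4 D187013)) (tt N78683 F368838) (tt N113961 D217216) (tt N101274 F432488))
theorem Q84297 : ∀ i, i < 84297 → P i := stepQ 84296 Q84296 (allL N84296 (tt N113962 D217217) (tt N113963 D217218) (tt N113860 (iv2 F487503)) (tt N49749 F368839) (tt N113961 (iv4 F487978)) (tt N71143 F368840) (tt N49746 (iv6 D187014)) (tt N71142 F368841))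
theorem Q84298 : ∀ i, i < 84298 → P i := stepQ 84297 Q84297 (allL N84297 (tt N100955 F448097) (tt N110141 (iv0 F470152)) (tt N113964 D217219) (tt N49748 (iv3 D187015)) (tt N109709 (iv4 F468229)) (tt N69923 F368842) (tt N107992 (iv6 F460630)) (tt N113605 (iv7 F486270)))
theorem Q84299 : ∀ i, i < 84299 → P i := stepQ 84298 Q84298 (allL N84298 (tt N113965 D217220) (tt N113966 D217221) (tt N113607 (iv2 F486276)) (tt N107992 (iv3 F460629)) (tt N49749 F368843) (tt N107991 (iv5 F460628)) (tt N49748 (iv6 D187016)) (tt N113967 D217222))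
theorem Q84300 : ∀ i, i < 84300 → P i := stepQ 84299 Q84299 (allL N84299 (tt N113609 (iv1 F486290)) (tt N49749 (iv0 D187017)) (tt N113608 F486282) (tt N82684 (iv3 F388616)) (tt N113968 D217223) (tt N90125 F388615) (tt N113969 D217224) (tt N90124 (iv7 F388617)))
theorem Q84301 : ∀ i, i < 84301 → P i := stepQ 84300 Q84300 (allL N84300 (tt N49749 (iv1 D187018)) (tt N113609 F486289) (tt N90124 (iv2 F388608)) (tt N88836 (iv3 F471039)) (tt N113970 D217225) (tt N89110 (iv5 F385196)) (tt N89202 (iv6 F385563)) (tt N113608 (iv7 F486283)))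
theorem Q84302 : ∀ i, i < 84302 → P i := stepQ 84301 Q84301 (allL N84301 (tt N90124 F388611) (tt N113608 F486284) (tt N113609 (iv2 F486285)) (tt N71142 F368844) (tt N113967 (iv4 F488003)) (tt N71139 F368845) (tt N54544 F368846) (tt N49749 (iv7 D187019)))
theorem Q84303 : ∀ i, i < 84303 → P i := stepQ 84302 Q84302 (allL N84302 (tt N54365 F368850) (tt N88828 (iv0 F384284)) (tt N54540 (iv2 F368849)) (tt N113971 D217226) (tt N49750 (iv4 D187020)) (tt N53417 F368848) (tt N85522 (iv6 F372926)) (tt N54537 F368847))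
theorem Q84304 : ∀ i, i < 84304 → P i := stepQ 84303 Q84303 (allL N84303 (tt N113972 D217227) (tt N85449 (iv0 F372653)) (tt N113826 (iv2 F487313)) (tt N49752 F368866) (tt N85522 F372928) (tt N84875 (iv5 F370960)) (tt N49750 (iv6 D187021)) (tt N113973 D217228))
theorem Q84305 : ∀ i, i < 84305 → P i := stepQ 84304 Q84304 (allL N84304 (tt N110168 F470268) (tt N113974 D217229) (tt N113508 (iv2 F485828)) (tt N49751 (iv3 D187022)) (tt N113971 (iv4 F488019)) (tt N86027 (iv5 F374947)) (tt N113072 F483849) (tt N86026 F374945))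
theorem Q84306 : ∀ i, i < 84306 → P i := stepQ 84305 Q84305 (allL N84305 (tt N113067 F483823) (tt N113975 D217230) (tt N85524 (iv2 F372934)) (tt N113072 F483848) (tt N49752 F368867) (tt N113976 D217231) (tt N49751 (iv6 D187023)) (tt N113505 (iv7 F485816)))
theorem Q84307 : ∀ i, i < 84307 → P i := stepQ 84306 Q84306 (allL N84306 (tt N85525 (iv1 F372940)) (tt N49752 (iv0 D187024)) (tt N85522 F372927) (tt N113977 D217232) (tt N113826 (iv4 F487314)) (tt N113978 D217233) (tt N54540 F368868) (tt N85523 (iv7 F372931)))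
theorem Q84308 : ∀ i, i < 84308 → P i := stepQ 84307 Q84307 (allL N84307 (tt N49752 (iv1 D187025)) (tt N85525 F372939) (tt N85523 F372932) (tt N82693 (iv3 F398386)) (tt N113973 (iv4 F488029)) (tt N85559 (iv5 F373066)) (tt N113948 (iv6 F487914)) (tt N85522 F372929))
theorem Q84309 : ∀ i, i < 84309 → P i := stepQ 84308 Q84308 (allL N84308 (tt N85523 (iv1 F372930)) (tt N85522 F372933) (tt N85525 (iv2 F372936)) (tt N113973 (iv3 F488028)) (tt N113505 F485818) (tt N84878 (iv5 F370974)) (tt N90824 (iv6 F390991)) (tt N49752 (iv7 D187026)))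
theorem Q84310 : ∀ i, i < 84310 → P i := stepQ 84309 Q84309 (allL N84309 (tt N99783 (iv1 F426195)) (tt N99782 F426194) (tt N99784 (iv2 F426200)) (tt N109675 (iv3 F468051)) (tt N49753 (iv4 D187028)) (tt N64749 F368869) (tt N107371 (iv6 F458135)) (tt N85517 (iv7 F372917)))
theorem Q84311 : ∀ i, i < 84311 → P i := stepQ 84310 Q84310 (allL N84310 (tt N113979 D217234) (tt N113980 D217235) (tt N113861 (iv2 F487508)) (tt N49755 F368870) (tt N107371 (iv4 F458136)) (tt N88407 (iv5 F382913)) (tt N49753 (iv6 D187029)) (tt N113981 D217236))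
theorem Q84312 : ∀ i, i < 84312 → P i := stepQ 84311 Q84311 (allL N84311 (tt N69924 F391855) (tt N113982 D217237) (tt N113983 D217238) (tt N49754 (iv3 D187030)) (tt N109675 (iv4 F468052)) (tt N50266 F368871) (tt N113984 D217239) (tt N85526 (iv7 F372942)))
theorem Q84313 : ∀ i, i < 84313 → P i := stepQ 84312 Q84312 (allL N84312 (tt N112099 (iv1 F479484)) (tt N113985 D217240) (tt N86028 (iv2 F374948)) (tt N113984 (iv3 F488062)) (tt N49755 F368872) (tt N106728 (iv5 F455439)) (tt N49754 (iv6 D187031)) (tt N113986 D217241))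
theorem Q84314 : ∀ i, i < 84314 → P i := stepQ 84313 Q84313 (allL N84313 (tt N49755 (iv1 D187033)) (tt N90824 F390992) (tt N90823 (iv2 F390986)) (tt N113987 D217242) (tt N107104 (iv4 F456992)) (tt N90625 (iv5 F390316)) (tt N113897 (iv6 F487684)) (tt N90822 F390979))
theorem Q84315 : ∀ i, i < 84315 → P i := stepQ 84314 Q84314 (allL N84314 (tt N90823 (iv1 F390982)) (tt N90822 F390980) (tt N90824 (iv2 F390989)) (tt N113981 (iv3 F488051)) (tt N113986 (iv4 F488069)) (tt N88409 (iv5 F382918)) (tt N85525 (iv6 F372938)) (tt N49755 (iv7 D187034)))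
theorem Q84316 : ∀ i, i < 84316 → P i := stepQ 84315 Q84315 (allL N84315 (tt N69875 (iv1 F368877)) (tt N69743 (iv0 F368876)) (tt N69872 F368875) (tt N49756 (iv3 D187035)) (tt N105245 (iv4 F449369)) (tt N69818 F368873) (tt N105552 (iv6 F450707)) (tt N69873 F368874))
theorem Q84317 : ∀ i, i < 84317 → P i := stepQ 84316 Q84316 (allL N84316 (tt N113826 F487315) (tt N113973 F488030) (tt N85449 (iv2 F372651)) (tt N105552 (iv3 F450706)) (tt N50214 F368878) (tt N105549 (iv5 F450690)) (tt N49756 (iv6 D187036)) (tt N113972 F488027))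
theorem Q84318 : ∀ i, i < 84318 → P i := stepQ 84317 Q84317 (allL N84317 (tt N113988 D217243) (tt N106206 (iv0 F454297)) (tt N113989 D217244) (tt N49757 (iv3 D187037)) (tt N106399 F454296) (tt N50201 F368879) (tt N113990 D217245) (tt N85451 (iv7 F372660)))
theorem Q84319 : ∀ i, i < 84319 → P i := stepQ 84318 Q84318 (allL N84318 (tt N113069 F483834) (tt N107104 (iv0 F456993)) (tt N71473 F368880) (tt N113990 (iv3 F488088)) (tt N52897 F368881) (tt N70930 F368882) (tt N49757 (iv6 D187038)) (tt N113991 D217246))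
theorem Q84320 : ∀ i, i < 84320 → P i := stepQ 84319 Q84319 (allL N84319 (tt N113949 (iv1 F487921)) (tt N49758 (iv0 D187039)) (tt N113948 F487916) (tt N113992 D217247) (tt N113993 D217248) (tt N103316 F441112) (tt N85523 F441114) (tt N106892 (iv7 F456161)))
theorem Q84321 : ∀ i, i < 84321 → P i := stepQ 84320 Q84320 (allL N84320 (tt N49758 (iv1 D187040)) (tt N113949 F487922) (tt N106892 (iv2 F456159)) (tt N113994 D217249) (tt N90811 F390942) (tt N71626 (iv5 F368890)) (tt N54537 F368891) (tt N113948 (iv7 F487911)))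
theorem Q84322 : ∀ i, i < 84322 → P i := stepQ 84321 Q84321 (allL N84321 (tt N113948 F487915) (tt N106892 (iv0 F456162)) (tt N49758 (iv2 D187041)) (tt N70063 F368883) (tt N82702 F368884) (tt N70057 (iv5 F368885)) (tt N113610 (iv6 F486292)) (tt N113949 (iv7 F487920)))
theorem Q84323 : ∀ i, i < 84323 → P i := stepQ 84322 Q84322 (allL N84322 (tt N53048 F368889) (tt N84095 F368892) (tt N70057 F368886) (tt N49759 F368887) (tt N113811 (iv4 F487229)) (tt N49758 (iv5 D187042)) (tt N70055 (iv6 F368888)) (tt N84094 (iv7 F384007)))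
theorem Q84324 : ∀ i, i < 84324 → P i := stepQ 84323 Q84323 (allL N84323 (tt N58047 F368896) (tt N58958 (iv0 F368901)) (tt N55405 F368893) (tt N70055 F368894) (tt N50206 F368895) (tt N98086 (iv5 F419394)) (tt N49759 (iv6 D187043)) (tt N58957 (iv7 F368900)))
theorem Q84325 : ∀ i, i < 84325 → P i := stepQ 84324 Q84324 (allL N84324 (tt N52511 F368903) (tt N52507 (iv0 F368905)) (tt N87222 (iv2 F378805)) (tt N49760 (iv3 D187044)) (tt N52475 F368904) (tt N113995 D217250) (tt N87308 (iv6 F379028)) (tt N52757 F368902))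
theorem Q84326 : ∀ i, i < 84326 → P i := stepQ 84325 Q84325 (allL N84325 (tt N82694 F368909) (tt N54647 F368910) (tt N82678 F368906) (tt N113995 (iv3 F488108)) (tt N100993 (iv4 F431180)) (tt N49760 (iv5 D187045)) (tt N64759 F368907) (tt N52758 F368908))
theorem Q84327 : ∀ i, i < 84327 → P i := stepQ 84326 Q84326 (allL N84326 (tt N82679 (iv1 F368912)) (tt N49761 (iv0 D187046)) (tt N82681 (iv2 F368913)) (tt N113996 D217251) (tt N113997 D217252) (tt N54640 F368911) (tt N105139 F448960) (tt N82680 (iv7 F368914)))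
theorem Q84328 : ∀ i, i < 84328 → P i := stepQ 84327 Q84327 (allL N84327 (tt N49761 (iv1 D187047)) (tt N82679 F368915) (tt N82680 (iv2 F368918)) (tt N84421 (iv3 F369231)) (tt N113998 D217253) (tt N54641 F368917) (tt N80516 (iv6 F368919)) (tt N82681 F368916))
theorem Q84329 : ∀ i, i < 84329 → P i := stepQ 84328 Q84328 (allL N84328 (tt N89393 (iv1 F386351)) (tt N101288 F432542) (tt N112035 (iv2 F479186)) (tt N113999 D217254) (tt N49761 (iv4 D187048)) (tt N100989 (iv5 F431170)) (tt N114000 D217255) (tt N82682 F368920))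
theorem Q84330 : ∀ i, i < 84330 → P i := stepQ 84329 Q84329 (allL N84329 (tt N114001 D217256) (tt N114002 D217257) (tt N112036 (iv2 F479189)) (tt N49764 F368921) (tt N114000 (iv4 F488136)) (tt N54213 F368922) (tt N49761 (iv6 D187049)) (tt N114003 D217258))
theorem Q84331 : ∀ i, i < 84331 → P i := stepQ 84330 Q84330 (allL N84330 (tt N91681 F394023) (tt N49762 (iv0 D187050)) (tt N52764 (iv2 F368923)) (tt N112398 (iv3 F480929)) (tt N80550 F368924) (tt N90209 (iv5 F388907)) (tt N51450 F368925) (tt N72620 F368926))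
theorem Q84332 : ∀ i, i < 84332 → P i := stepQ 84331 Q84331 (allL N84331 (tt N113384 F485293) (tt N113387 (iv0 F485304)) (tt N114004 D217259) (tt N49763 (iv3 D187051)) (tt N113999 (iv4 F488131)) (tt N83052 F368927) (tt N80517 (iv6 F368929)) (tt N64336 F368928))
theorem Q84333 : ∀ i, i < 84333 → P i := stepQ 84332 Q84332 (allL N84332 (tt N55604 F368934) (tt N105177 (iv0 F449118)) (tt N82674 F368930) (tt N80517 F368931) (tt N49764 F368932) (tt N104107 (iv5 F444207)) (tt N49763 (iv6 D187052)) (tt N76873 F368933))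
theorem Q84334 : ∀ i, i < 84334 → P i := stepQ 84333 Q84333 (allL N84333 (tt N82677 (iv1 F368944)) (tt N49764 (iv0 D187053)) (tt N82675 (iv2 F368937)) (tt N54541 (iv3 F368939)) (tt N83504 F368935) (tt N90256 F389130) (tt N82672 F368936) (tt N82676 (iv7 F368938)))
theorem Q84335 : ∀ i, i < 84335 → P i := stepQ 84334 Q84334 (allL N84334 (tt N49764 (iv1 D187054)) (tt N82677 F368941) (tt N82676 (iv2 F368943)) (tt N111827 (iv3 F478175)) (tt N113007 (iv4 F483535)) (tt N90255 (iv5 F389125)) (tt N110992 (iv6 F474127)) (tt N82675 F368942))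
theorem Q84336 : ∀ i, i < 84336 → P i := stepQ 84335 Q84335 (allL N84335 (tt N82676 (iv1 F368949)) (tt N82675 F368950) (tt N82677 F368945) (tt N114003 (iv3 F488147)) (tt N76873 F368946) (tt N54219 F368947) (tt N76872 F368948) (tt N49764 (iv7 D187055)))
theorem Q84337 : ∀ i, i < 84337 → P i := stepQ 84336 Q84336 (allL N84336 (tt N83412 (iv1 F368957)) (tt N80550 F368956) (tt N49765 (iv2 D187056)) (tt N83384 F368951) (tt N49797 F368952) (tt N83047 F368953) (tt N72605 F368954) (tt N83407 F368955))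
theorem Q84338 : ∀ i, i < 84338 → P i := stepQ 84337 Q84337 (allL N84337 (tt N49780 F368961) (tt N81323 F368962) (tt N52860 F368958) (tt N85369 (iv3 F372375)) (tt N81288 F368960) (tt N49768 (iv5 D187057)) (tt N85371 (iv6 F372387)) (tt N52862 F368959))
theorem Q84339 : ∀ i, i < 84339 → P i := stepQ 84338 Q84338 (allL N84338 (tt N52865 F368967) (tt N52864 F368968) (tt N49770 F368963) (tt N82953 F368964) (tt N64228 F368965) (tt N49769 (iv5 D187058)) (tt N111836 (iv6 F478221)) (tt N52852 F368966))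
theorem Q84340 : ∀ i, i < 84340 → P i := stepQ 84339 Q84339 (allL N84339 (tt N52852 (iv1 F368975)) (tt N49770 (iv0 D187059)) (tt N52865 (iv2 F368976)) (tt N76299 F368973) (tt N81315 F368972) (tt N54724 F368971) (tt N106993 (iv6 F456558)) (tt N52864 (iv7 F368977)))
theorem Q84341 : ∀ i, i < 84341 → P i := stepQ 84340 Q84340 (allL N84340 (tt N49770 (iv1 D187060)) (tt N52852 F368978) (tt N52864 (iv2 F368982)) (tt N98543 (iv3 F421259)) (tt N81314 F368981) (tt N54725 F368980) (tt N78695 (iv6 F391591)) (tt N52865 F368979))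
theorem Q84342 : ∀ i, i < 84342 → P i := stepQ 84341 Q84341 (allL N84341 (tt N68514 F368986) (tt N78721 F368987) (tt N64228 F368983) (tt N75211 F368988) (tt N49770 (iv4 D187061)) (tt N64227 F368984) (tt N96980 F414905) (tt N52866 F368985))
theorem Q84343 : ∀ i, i < 84343 → P i := stepQ 84342 Q84342 (allL N84342 (tt N96973 F414874) (tt N97101 (iv0 F415478)) (tt N111836 (iv2 F478219)) (tt N49772 F368989) (tt N96980 (iv4 F414907)) (tt N113737 (iv5 F486899)) (tt N49770 (iv6 D187062)) (tt N111087 (iv7 F474595)))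
theorem Q84344 : ∀ i, i < 84344 → P i := stepQ 84343 Q84343 (allL N84343 (tt N58509 F368994) (tt N75920 (iv0 F368995)) (tt N83153 F368990) (tt N49771 (iv3 D187063)) (tt N75211 F368991) (tt N53510 F368992) (tt N114005 D217260) (tt N52869 F368993))
theorem Q84345 : ∀ i, i < 84345 → P i := stepQ 84344 Q84344 (allL N84344 (tt N53887 (iv1 F368999)) (tt N53886 F369001) (tt N53889 F368996) (tt N114005 (iv3 F488159)) (tt N49772 F368997) (tt N114006 D217261) (tt N49771 (iv6 D187064)) (tt N51851 F368998))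
theorem Q84346 : ∀ i, i < 84346 → P i := stepQ 84345 Q84345 (allL N84345 (tt N53885 F369003) (tt N49772 (iv0 D187065)) (tt N90947 (iv2 F391346)) (tt N92599 F397571) (tt N54574 F369002) (tt N114007 D217262) (tt N75121 F373128) (tt N91013 (iv7 F391564)))
theorem Q84347 : ∀ i, i < 84347 → P i := stepQ 84346 Q84346 (allL N84346 (tt N91013 (iv1 F391563)) (tt N90947 F391341) (tt N53885 F369004) (tt N111087 (iv3 F474593)) (tt N51851 F369005) (tt N89419 (iv5 F386426)) (tt N51850 F369006) (tt N49772 (iv7 D187066)))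
theorem Q84348 : ∀ i, i < 84348 → P i := stepQ 84347 Q84347 (allL N84347 (tt N82845 (iv1 F369012)) (tt N49865 (iv0 F369010)) (tt N83090 F369014) (tt N49773 (iv3 D187067)) (tt N84231 F369008) (tt N54681 F369007) (tt N105258 (iv6 F449419)) (tt N87034 (iv7 F378122)))
theorem Q84349 : ∀ i, i < 84349 → P i := stepQ 84348 Q84348 (allL N84348 (tt N69741 F369017) (tt N69867 F369019) (tt N69866 F369015) (tt N75653 F369018) (tt N49773 (iv4 D187068)) (tt N101278 (iv5 F432508)) (tt N96209 (iv6 F411505)) (tt N69865 F369016))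
theorem Q84350 : ∀ i, i < 84350 → P i := stepQ 84349 Q84349 (allL N84349 (tt N83836 F369023) (tt N81324 F383375) (tt N114008 D217263) (tt N49774 (iv3 D187069)) (tt N109361 (iv4 F466572)) (tt N54682 F369021) (tt N63298 F369022) (tt N91023 (iv7 F391623)))
theorem Q84351 : ∀ i, i < 84351 → P i := stepQ 84350 Q84350 (allL N84350 (tt N113720 (iv1 F486828)) (tt N109413 (iv0 F466845)) (tt N73936 F369024) (tt N49775 (iv3 D187070)) (tt N49784 F369025) (tt N100986 (iv5 F431160)) (tt N91020 F391605) (tt N104327 (iv7 F445270)))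
theorem Q84352 : ∀ i, i < 84352 → P i := stepQ 84351 Q84351 (allL N84351 (tt N83837 F369027) (tt N113163 (iv0 F484278)) (tt N113479 (iv2 F485679)) (tt N49778 (iv3 D187071)) (tt N113479 (iv4 F485683)) (tt N91119 (iv5 F392013)) (tt N107493 (iv6 F458516)) (tt N52919 F369026))
theorem Q84353 : ∀ i, i < 84353 → P i := stepQ 84352 Q84352 (allL N84352 (tt N52862 (iv1 F369033)) (tt N52860 F369031) (tt N49780 (iv2 D187072)) (tt N72332 F369028) (tt N64230 F369032) (tt N53783 F369029) (tt N100009 (iv6 F427175)) (tt N81323 F369030))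
theorem Q84354 : ∀ i, i < 84354 → P i := stepQ 84353 Q84353 (allL N84353 (tt N79403 F369036) (tt N79402 F369037) (tt N64230 F369035) (tt N110907 (iv3 F473726)) (tt N49780 (iv4 D187073)) (tt N104230 (iv5 F444817)) (tt N104590 (iv6 F446436)) (tt N91017 (iv7 F391579)))
theorem Q84355 : ∀ i, i < 84355 → P i := stepQ 84354 Q84354 (allL N84354 (tt N109114 (iv1 F465401)) (tt N109113 F465400) (tt N100009 (iv2 F427173)) (tt N49782 F369038) (tt N104590 (iv4 F446438)) (tt N53786 F369039) (tt N49780 (iv6 D187074)) (tt N109110 (iv7 F465386)))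
theorem Q84356 : ∀ i, i < 84356 → P i := stepQ 84355 Q84355 (allL N84355 (tt N111858 F478343) (tt N75900 (iv0 F369042)) (tt N110906 (iv2 F473719)) (tt N49781 (iv3 D187075)) (tt N110907 (iv4 F473727)) (tt N54474 F369040) (tt N114009 D217264) (tt N84205 F369041))
theorem Q84357 : ∀ i, i < 84357 → P i := stepQ 84356 Q84356 (allL N84356 (tt N114010 D217265) (tt N114011 D217266) (tt N84204 F369043) (tt N114009 (iv3 F488179)) (tt N49782 F369044) (tt N87263 (iv5 F378937)) (tt N49781 (iv6 D187076)) (tt N87064 (iv7 F378253)))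
theorem Q84358 : ∀ i, i < 84358 → P i := stepQ 84357 Q84357 (allL N84357 (tt N91022 (iv1 F391620)) (tt N49782 (iv0 D187077)) (tt N91020 (iv2 F391606)) (tt N73938 (iv3 F391345)) (tt N113909 (iv4 F487733)) (tt N114012 D217267) (tt N73936 F391344) (tt N91021 (iv7 F391609)))
theorem Q84359 : ∀ i, i < 84359 → P i := stepQ 84358 Q84358 (allL N84358 (tt N91021 (iv1 F391608)) (tt N91020 F391613) (tt N91022 (iv2 F391614)) (tt N109110 (iv3 F465384)) (tt N87064 (iv4 F378252)) (tt N53792 F369045) (tt N87062 F378249) (tt N49782 (iv7 D187078)))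
theorem Q84360 : ∀ i, i < 84360 → P i := stepQ 84359 Q84359 (allL N84359 (tt N113723 (iv1 F486845)) (tt N49784 (iv0 D187079)) (tt N91091 (iv2 F391886)) (tt N66535 F369046) (tt N113709 (iv4 F486762)) (tt N66534 (iv5 F369047)) (tt N100770 (iv6 F430387)) (tt N91089 (iv7 F391880)))
theorem Q84361 : ∀ i, i < 84361 → P i := stepQ 84360 Q84360 (allL N84360 (tt N49784 (iv1 D187080)) (tt N113723 F486846) (tt N91089 (iv2 F391878)) (tt N88180 (iv3 F382046)) (tt N113883 (iv4 F487617)) (tt N89287 (iv5 F385931)) (tt N88177 (iv6 F382036)) (tt N91091 (iv7 F391888)))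
theorem Q84362 : ∀ i, i < 84362 → P i := stepQ 84361 Q84361 (allL N84361 (tt N91091 (iv1 F391892)) (tt N91089 F391883) (tt N49784 (iv2 D187081)) (tt N73933 F369048) (tt N73936 F369049) (tt N54552 F369050) (tt N113909 (iv6 F487735)) (tt N113723 (iv7 F486844)))
theorem Q84363 : ∀ i, i < 84363 → P i := stepQ 84362 Q84362 (allL N84362 (tt N113911 (iv1 F487747)) (tt N90650 (iv0 F390407)) (tt N113909 F487736) (tt N49785 F369051) (tt N91020 (iv4 F391604)) (tt N114013 D217268) (tt N49784 (iv6 D187082)) (tt N105255 (iv7 F449410)))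
theorem Q84364 : ∀ i, i < 84364 → P i := stepQ 84363 Q84363 (allL N84363 (tt N111781 (iv1 F477943)) (tt N114014 D217269) (tt N113716 (iv2 F486797)) (tt N114013 (iv3 F488199)) (tt N114015 D217270) (tt N49785 (iv5 D187083)) (tt N54555 F369052) (tt N114016 D217271))
theorem Q84365 : ∀ i, i < 84365 → P i := stepQ 84364 Q84364 (allL N84364 (tt N100770 (iv1 F430390)) (tt N96955 (iv0 F414766)) (tt N113717 (iv2 F486801)) (tt N105255 (iv3 F449408)) (tt N49789 F369054) (tt N114016 (iv5 F488207)) (tt N96194 (iv6 F411435)) (tt N49785 (iv7 D187084)))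
theorem Q84366 : ∀ i, i < 84366 → P i := stepQ 84365 Q84365 (allL N84365 (tt N81357 F408974) (tt N85371 (iv0 F372388)) (tt N114017 D217272) (tt N49786 (iv3 D187085)) (tt N95636 (iv4 F408969)) (tt N114018 D217273) (tt N95635 (iv6 F408966)) (tt N113719 (iv7 F486816)))
theorem Q84367 : ∀ i, i < 84367 → P i := stepQ 84366 Q84366 (allL N84366 (tt N81397 F386447) (tt N114019 D217274) (tt N113718 (iv2 F486807)) (tt N114018 (iv3 F488217)) (tt N114020 D217275) (tt N49786 (iv5 D187086)) (tt N114021 D217276) (tt N91141 F392063))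
theorem Q84368 : ∀ i, i < 84368 → P i := stepQ 84367 Q84367 (allL N84367 (tt N101698 (iv1 F433928)) (tt N62972 (iv0 F369058)) (tt N109099 (iv2 F465332)) (tt N49787 (iv3 D187087)) (tt N99840 F426472) (tt N113542 (iv5 F485952)) (tt N99839 (iv6 F426473)) (tt N99990 (iv7 F427076)))
theorem Q84369 : ∀ i, i < 84369 → P i := stepQ 84368 Q84368 (allL N84368 (tt N83855 F369057) (tt N84211 F369059) (tt N84209 F369055) (tt N87075 (iv3 F378290)) (tt N49787 (iv4 D187088)) (tt N87289 (iv5 F378992)) (tt N109241 (iv6 F465947)) (tt N84208 F369056))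
theorem Q84370 : ∀ i, i < 84370 → P i := stepQ 84369 Q84369 (allL N84369 (tt N114019 (iv1 F488221)) (tt N81397 (iv0 F369060)) (tt N91141 (iv2 F392061)) (tt N113542 (iv3 F485951)) (tt N114022 D217277) (tt N49787 (iv5 D187089)) (tt N88423 (iv6 F382985)) (tt N113718 (iv7 F486809)))
theorem Q84371 : ∀ i, i < 84371 → P i := stepQ 84370 Q84370 (allL N84370 (tt N104327 F445272) (tt N73936 (iv0 F426475)) (tt N113720 (iv2 F486823)) (tt N99839 F426474) (tt N109241 (iv4 F465945)) (tt N114023 D217278) (tt N49787 (iv6 D187090)) (tt N109413 (iv7 F466844)))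
theorem Q84372 : ∀ i, i < 84372 → P i := stepQ 84371 Q84371 (allL N84371 (tt N90864 (iv1 F391083)) (tt N49788 (iv0 D187091)) (tt N107327 (iv2 F457974)) (tt N90850 (iv3 F391048)) (tt N90840 (iv4 F391019)) (tt N88036 F391025) (tt N85845 F374191) (tt N113721 (iv7 F486830)))
theorem Q84373 : ∀ i, i < 84373 → P i := stepQ 84372 Q84372 (allL N84372 (tt N49788 (iv1 D187092)) (tt N90864 F391082) (tt N113721 F486832) (tt N114024 D217279) (tt N90839 (iv4 F391016)) (tt N87969 (iv5 F381328)) (tt N105252 (iv6 F449397)) (tt N107327 (iv7 F457975)))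
theorem Q84374 : ∀ i, i < 84374 → P i := stepQ 84373 Q84373 (allL N84373 (tt N110246 F470620) (tt N110367 F471263) (tt N54627 F369061) (tt N112688 (iv3 F482183)) (tt N49788 (iv4 D187093)) (tt N97298 (iv5 F416277)) (tt N49792 F369062) (tt N110366 (iv7 F471253)))
theorem Q84375 : ∀ i, i < 84375 → P i := stepQ 84374 Q84374 (allL N84374 (tt N113721 (iv1 F486829)) (tt N107327 F457978) (tt N90864 F391080) (tt N96197 (iv3 F411450)) (tt N110366 (iv4 F471254)) (tt N49789 F369063) (tt N89896 F387907) (tt N49788 (iv7 D187094)))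
theorem Q84376 : ∀ i, i < 84376 → P i := stepQ 84375 Q84375 (allL N84375 (tt N51914 F369068) (tt N88276 F382437) (tt N96896 (iv2 F414492)) (tt N49892 F369064) (tt N49790 (iv4 D187095)) (tt N55542 F369067) (tt N50627 F369065) (tt N49918 F369066))
theorem Q84377 : ∀ i, i < 84377 → P i := stepQ 84376 Q84376 (allL N84376 (tt N112617 (iv1 F481861)) (tt N114025 D217280) (tt N53503 F369069) (tt N83530 F369070) (tt N90841 (iv4 F391027)) (tt N53432 F369071) (tt N49791 (iv6 D187096)) (tt N112344 (iv7 F480674)))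
theorem Q84378 : ∀ i, i < 84378 → P i := stepQ 84377 Q84377 (allL N84377 (tt N114026 D217281) (tt N109199 (iv0 F465790)) (tt N112317 (iv2 F480516)) (tt N49792 (iv3 D187097)) (tt N112555 (iv4 F481634)) (tt N109265 (iv5 F466074)) (tt N112688 (iv6 F482184)) (tt N54623 F369072))
theorem Q84379 : ∀ i, i < 84379 → P i := stepQ 84378 Q84378 (allL N84378 (tt N49880 F369076) (tt N50789 F369077) (tt N54626 F369073) (tt N109265 (iv3 F466071)) (tt N50463 F369075) (tt N49792 (iv5 D187098)) (tt N97297 F416272) (tt N50462 F369074))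
theorem Q84380 : ∀ i, i < 84380 → P i := stepQ 84379 Q84379 (allL N84379 (tt N89086 (iv1 F385104)) (tt N89899 F387911) (tt N53500 F369078) (tt N72544 F369079) (tt N54624 F369080) (tt N53600 F369081) (tt N49793 (iv6 D187099)) (tt N89896 (iv7 F387905)))
theorem Q84381 : ∀ i, i < 84381 → P i := stepQ 84380 Q84380 (allL N84380 (tt N49794 (iv1 D187100)) (tt N51447 F369082) (tt N53171 (iv2 F369085)) (tt N114027 D217282) (tt N88962 (iv4 F384606)) (tt N53317 F369084) (tt N53040 (iv6 F369086)) (tt N53172 F369083))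
theorem Q84382 : ∀ i, i < 84382 → P i := stepQ 84381 Q84381 (allL N84381 (tt N49795 (iv1 D187102)) (tt N53149 F369090) (tt N53154 F369095) (tt N111441 (iv3 F476379)) (tt N86835 (iv4 F377374)) (tt N54654 (iv5 F369091)) (tt N52990 F371268) (tt N53155 F369092))
theorem Q84383 : ∀ i, i < 84383 → P i := stepQ 84382 Q84382 (allL N84382 (tt N53155 (iv1 F369097)) (tt N53154 F369089) (tt N49795 (iv2 D187103)) (tt N90967 (iv3 F391405)) (tt N84767 (iv4 F370544)) (tt N89282 (iv5 F385908)) (tt N86230 (iv6 F375481)) (tt N53149 F369088))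
theorem Q84384 : ∀ i, i < 84384 → P i := stepQ 84383 Q84383 (allL N84383 (tt N50434 F369102) (tt N50433 (iv0 F369103)) (tt N49799 F369098) (tt N50465 F369099) (tt N72605 F369100) (tt N89382 (iv5 F386302)) (tt N49797 (iv6 D187104)) (tt N50435 F369101))
theorem Q84385 : ∀ i, i < 84385 → P i := stepQ 84384 Q84384 (allL N84384 (tt N114028 D217283) (tt N83274 F369105) (tt N101613 (iv2 F433548)) (tt N54547 F369104) (tt N49798 (iv4 D187105)) (tt N109506 (iv5 F467298)) (tt N106167 (iv6 F453418)) (tt N101615 (iv7 F433564)))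
theorem Q84386 : ∀ i, i < 84386 → P i := stepQ 84385 Q84385 (allL N84385 (tt N53202 F369109) (tt N53204 F369110) (tt N89382 F386303) (tt N49801 F369106) (tt N94666 (iv4 F405445)) (tt N49799 (iv5 D187106)) (tt N78734 F369107) (tt N50436 F369108))
theorem Q84387 : ∀ i, i < 84387 → P i := stepQ 84386 Q84386 (allL N84386 (tt N113722 (iv1 F486839)) (tt N49800 (iv0 D187107)) (tt N90707 (iv2 F390579)) (tt N114029 D217284) (tt N60161 F377500) (tt N114030 D217285) (tt N91117 F392006) (tt N90709 (iv7 F390588)))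
theorem Q84388 : ∀ i, i < 84388 → P i := stepQ 84387 Q84387 (allL N84387 (tt N49800 (iv1 D187108)) (tt N113722 F486838) (tt N90709 (iv2 F390587)) (tt N101909 (iv3 F434904)) (tt N60162 F377224) (tt N89834 (iv5 F387685)) (tt N106714 (iv6 F455368)) (tt N90707 (iv7 F390581)))
theorem Q84389 : ∀ i, i < 84389 → P i := stepQ 84388 Q84388 (allL N84388 (tt N53754 F369114) (tt N91101 (iv0 F391924)) (tt N50467 F369111) (tt N78734 F369112) (tt N91697 (iv4 F394079)) (tt N49800 (iv5 D187109)) (tt N49801 F369113) (tt N105988 (iv7 F452642)))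
theorem Q84390 : ∀ i, i < 84390 → P i := stepQ 84389 Q84389 (allL N84389 (tt N90709 (iv1 F390590)) (tt N90707 F390597) (tt N113722 (iv2 F486833)) (tt N104461 F445864) (tt N54550 F369115) (tt N105988 (iv5 F452640)) (tt N113724 (iv6 F486850)) (tt N49800 (iv7 D187110)))
theorem Q84391 : ∀ i, i < 84391 → P i := stepQ 84390 Q84390 (allL N84390 (tt N50789 F369119) (tt N49880 F369120) (tt N50462 F369116) (tt N109728 F468317) (tt N49803 (iv4 D187111)) (tt N52737 F369117) (tt N87253 (iv6 F378889)) (tt N54626 F369118))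
theorem Q84392 : ∀ i, i < 84392 → P i := stepQ 84391 Q84391 (allL N84391 (tt N84186 (iv1 F372369)) (tt N74462 F370846) (tt N50460 F369121) (tt N60959 F369122) (tt N87253 (iv4 F378888)) (tt N50139 F369123) (tt N49803 (iv6 D187112)) (tt N78925 F369124))
theorem Q84393 : ∀ i, i < 84393 → P i := stepQ 84392 Q84392 (allL N84392 (tt N53835 (iv1 F369127)) (tt N49806 (iv0 D187113)) (tt N53834 (iv2 F369128)) (tt N89599 (iv3 F386910)) (tt N72825 F369126) (tt N78809 F369125) (tt N91032 (iv6 F391669)) (tt N53052 (iv7 F369129)))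
theorem Q84394 : ∀ i, i < 84394 → P i := stepQ 84393 Q84393 (allL N84393 (tt N49806 (iv1 D187114)) (tt N53835 F369130) (tt N53052 F369134) (tt N85819 (iv3 F374099)) (tt N72822 F369132) (tt N85933 (iv5 F374497)) (tt N50484 (iv6 F369133)) (tt N53834 F369131))
theorem Q84395 : ∀ i, i < 84395 → P i := stepQ 84394 Q84394 (allL N84394 (tt N86713 F376880) (tt N49808 (iv0 D187115)) (tt N53055 (iv2 F369138)) (tt N86767 (iv3 F377111)) (tt N113871 (iv4 F487558)) (tt N85949 (iv5 F374568)) (tt N50483 F369139) (tt N91032 (iv7 F391670)))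
theorem Q84396 : ∀ i, i < 84396 → P i := stepQ 84395 Q84395 (allL N84395 (tt N49808 (iv1 D187116)) (tt N86713 F376879) (tt N91032 (iv2 F391668)) (tt N85786 F373932) (tt N71856 (iv4 F369135)) (tt N85950 F374577) (tt N53834 (iv6 F369136)) (tt N53055 F369137))
theorem Q84397 : ∀ i, i < 84397 → P i := stepQ 84396 Q84396 (allL N84396 (tt N53055 (iv1 F369143)) (tt N91032 (iv0 F391672)) (tt N49808 (iv2 D187117)) (tt N50070 F369140) (tt N49825 F369141) (tt N85005 (iv5 F371347)) (tt N50020 F369142) (tt N86713 (iv7 F376878)))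
theorem Q84398 : ∀ i, i < 84398 → P i := stepQ 84397 Q84397 (allL N84397 (tt N85369 F372378) (tt N111255 F475468) (tt N87033 (iv2 F378117)) (tt N49810 (iv3 D187118)) (tt N84189 F369144) (tt N85832 F374166) (tt N99446 (iv6 F424618)) (tt N91113 (iv7 F391988)))
theorem Q84399 : ∀ i, i < 84399 → P i := stepQ 84398 Q84398 (allL N84398 (tt N82893 (iv1 F369150)) (tt N82892 F369151) (tt N55071 F369145) (tt N49813 (iv3 D187119)) (tt N53925 F369149) (tt N72593 F369146) (tt N80940 F369147) (tt N53098 F369148))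
theorem Q84400 : ∀ i, i < 84400 → P i := stepQ 84399 Q84399 (allL N84399 (tt N51332 F369155) (tt N51331 F369156) (tt N51015 F369152) (tt N89597 (iv3 F386899)) (tt N49813 (iv4 D187120)) (tt N51014 F369153) (tt N91056 (iv6 F391787)) (tt N51326 F369154))
theorem Q84401 : ∀ i, i < 84401 → P i := stepQ 84400 Q84400 (allL N84400 (tt N56031 (iv1 F369162)) (tt N80103 F369161) (tt N49815 (iv2 D187121)) (tt N113723 (iv3 F486840)) (tt N73898 F369158) (tt N54546 F369159) (tt N51740 (iv6 F369163)) (tt N73933 F369160))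
theorem Q84402 : ∀ i, i < 84402 → P i := stepQ 84401 Q84401 (allL N84401 (tt N88078 (iv1 F381713)) (tt N111809 F478087) (tt N96194 (iv2 F411432)) (tt N51741 F369168) (tt N49820 F369169) (tt N83816 F369170) (tt N113717 (iv6 F486804)) (tt N49816 (iv7 D187122)))
theorem Q84403 : ∀ i, i < 84403 → P i := stepQ 84402 Q84402 (allL N84402 (tt N77259 F369174) (tt N109133 (iv0 F465494)) (tt N81353 F369171) (tt N49817 (iv3 D187123)) (tt N78679 F369172) (tt N96258 (iv5 F411772)) (tt N78678 F369173) (tt N109225 (iv7 F465853)))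
theorem Q84404 : ∀ i, i < 84404 → P i := stepQ 84403 Q84403 (allL N84403 (tt N86823 F377309) (tt N51282 F369183) (tt N51260 F369175) (tt N51346 (iv3 F369177)) (tt N49823 (iv4 D187124)) (tt N85015 (iv5 F371382)) (tt N50492 F369176) (tt N91056 (iv7 F391788)))
theorem Q84405 : ∀ i, i < 84405 → P i := stepQ 84404 Q84404 (allL N84404 (tt N51282 F369182) (tt N86823 (iv0 F377307)) (tt N91056 (iv2 F391785)) (tt N50764 F369178) (tt N49824 (iv4 D187125)) (tt N55409 F369181) (tt N51015 F369179) (tt N51260 F369180))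
theorem Q84406 : ∀ i, i < 84406 → P i := stepQ 84405 Q84405 (allL N84405 (tt N50246 F369187) (tt N53434 (iv0 F369188)) (tt N49826 F369184) (tt N53513 F369185) (tt N114031 D217286) (tt N49825 (iv5 D187126)) (tt N114032 D217287) (tt N53682 F369186))
theorem Q84407 : ∀ i, i < 84407 → P i := stepQ 84406 Q84406 (allL N84406 (tt N114033 D217288) (tt N72171 (iv0 F369190)) (tt N114031 (iv2 F488283)) (tt N54553 F369189) (tt N49826 (iv4 D187127)) (tt N114034 D217289) (tt N110868 F473530) (tt N110861 F473492))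
theorem Q84408 : ∀ i, i < 84408 → P i := stepQ 84407 Q84407 (allL N84407 (tt N114035 D217290) (tt N114036 D217291) (tt N114032 (iv2 F488289)) (tt N49827 F369191) (tt N110868 (iv4 F473526)) (tt N113613 (iv5 F486308)) (tt N49826 (iv6 D187128)) (tt N114037 D217292))
theorem Q84409 : ∀ i, i < 84409 → P i := stepQ 84408 Q84408 (allL N84408 (tt N113724 (iv1 F486852)) (tt N49827 (iv0 D187129)) (tt N90725 (iv2 F390655)) (tt N102751 (iv3 F438488)) (tt N89244 F390656) (tt N113828 (iv5 F487325)) (tt N102749 F438481) (tt N90727 (iv7 F390659)))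
theorem Q84410 : ∀ i, i < 84410 → P i := stepQ 84409 Q84409 (allL N84409 (tt N49827 (iv1 D187130)) (tt N113724 F486851) (tt N90727 (iv2 F390658)) (tt N114038 D217293) (tt N89245 (iv4 F385936)) (tt N113827 (iv5 F487316)) (tt N114039 D217294) (tt N90725 (iv7 F390653)))
theorem Q84411 : ∀ i, i < 84411 → P i := stepQ 84410 Q84410 (allL N84410 (tt N90727 (iv1 F390660)) (tt N90725 (iv0 F390657)) (tt N113724 (iv2 F486847)) (tt N114037 (iv3 F488309)) (tt N54556 F369192) (tt N89951 (iv5 F388086)) (tt N113722 (iv6 F486837)) (tt N49827 (iv7 D187131)))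
theorem Q84412 : ∀ i, i < 84412 → P i := stepQ 84411 Q84411 (allL N84411 (tt N53831 (iv1 F369196)) (tt N49828 (iv0 D187132)) (tt N51582 (iv2 F369195)) (tt N53835 F369193) (tt N91500 (iv4 F393393)) (tt N51079 F369198) (tt N51590 F369194) (tt N53832 F369197))
theorem Q84413 : ∀ i, i < 84413 → P i := stepQ 84412 Q84412 (allL N84412 (tt N51582 (iv1 F369204)) (tt N53832 F369203) (tt N49828 (iv2 D187133)) (tt N74194 F369199) (tt N85326 (iv4 F372246)) (tt N76706 F369200) (tt N70017 F369201) (tt N53831 F369202))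
theorem Q84414 : ∀ i, i < 84414 → P i := stepQ 84413 Q84413 (allL N84413 (tt N52907 (iv1 F369206)) (tt N49830 (iv0 D187134)) (tt N53532 (iv2 F369207)) (tt N82713 (iv3 F369208)) (tt N112954 (iv4 F483368)) (tt N53517 F369205) (tt N78118 (iv6 F369209)) (tt N84978 (iv7 F371250)))
theorem Q84415 : ∀ i, i < 84415 → P i := stepQ 84414 Q84414 (allL N84414 (tt N49830 (iv1 D187135)) (tt N52907 F369210) (tt N84978 (iv2 F371247)) (tt N100871 (iv3 F430833)) (tt N100873 (iv4 F430838)) (tt N53533 (iv5 F369212)) (tt N69877 F369213) (tt N53532 F369211))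
theorem Q84416 : ∀ i, i < 84416 → P i := stepQ 84415 Q84415 (allL N84415 (tt N113997 (iv1 F488125)) (tt N113998 (iv0 F488129)) (tt N100854 (iv2 F430788)) (tt N111966 (iv3 F478887)) (tt N49830 (iv4 D187136)) (tt N100991 F431177) (tt N114040 D217295) (tt N100856 (iv7 F430794)))
theorem Q84417 : ∀ i, i < 84417 → P i := stepQ 84416 Q84416 (allL N84416 (tt N114041 D217296) (tt N114042 D217297) (tt N100855 (iv2 F430790)) (tt N49834 F369214) (tt N114040 (iv4 F488318)) (tt N101616 (iv5 F433569)) (tt N49830 (iv6 D187137)) (tt N114043 D217298))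
theorem Q84418 : ∀ i, i < 84418 → P i := stepQ 84417 Q84417 (allL N84417 (tt N113726 (iv1 F486862)) (tt N113725 (iv0 F486856)) (tt N113551 (iv2 F485994)) (tt N49831 (iv3 D187138)) (tt N112934 (iv4 F483308)) (tt N50441 F369215) (tt N114044 D217299) (tt N84977 (iv7 F371244)))
theorem Q84419 : ∀ i, i < 84419 → P i := stepQ 84418 Q84418 (allL N84418 (tt N83694 F369219) (tt N83692 F369220) (tt N53623 F369216) (tt N114045 D217300) (tt N49831 (iv4 D187139)) (tt N50264 F369218) (tt N113060 (iv6 F483789)) (tt N84289 F369217))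
theorem Q84420 : ∀ i, i < 84420 → P i := stepQ 84419 Q84419 (allL N84419 (tt N114046 D217301) (tt N107393 (iv0 F458196)) (tt N53621 F369223) (tt N114044 (iv3 F488331)) (tt N113060 (iv4 F483788)) (tt N50443 F369224) (tt N49831 (iv6 D187140)) (tt N114047 D217302))
theorem Q84421 : ∀ i, i < 84421 → P i := stepQ 84420 Q84420 (allL N84420 (tt N83692 F369228) (tt N83694 F369229) (tt N84289 F369225) (tt N114048 D217303) (tt N49832 (iv4 D187141)) (tt N50265 F369226) (tt N113816 (iv6 F487256)) (tt N53623 F369227))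
theorem Q84422 : ∀ i, i < 84422 → P i := stepQ 84421 Q84421 (allL N84421 (tt N84034 (iv1 F369234)) (tt N83693 F369235) (tt N84284 F369230) (tt N84327 F369231) (tt N49834 F369232) (tt N84876 (iv5 F370961)) (tt N49833 (iv6 D187142)) (tt N84283 (iv7 F369233)))
theorem Q84423 : ∀ i, i < 84423 → P i := stepQ 84422 Q84422 (allL N84422 (tt N89951 (iv1 F388088)) (tt N49834 (iv0 D187143)) (tt N113062 (iv2 F483798)) (tt N114049 D217304) (tt N88824 (iv4 F384269)) (tt N91005 (iv5 F391543)) (tt N114050 D217305) (tt N91004 F391541))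
theorem Q84424 : ∀ i, i < 84424 → P i := stepQ 84423 Q84423 (allL N84423 (tt N49834 (iv1 D187144)) (tt N89951 (iv0 F388087)) (tt N91004 (iv2 F391537)) (tt N76999 F463704) (tt N88825 (iv4 F384274)) (tt N89291 (iv5 F385952)) (tt N114051 D217306) (tt N113062 (iv7 F483800)))
theorem Q84425 : ∀ i, i < 84425 → P i := stepQ 84424 Q84424 (allL N84424 (tt N91004 (iv1 F391540)) (tt N113062 (iv0 F483802)) (tt N89951 (iv2 F388083)) (tt N114043 (iv3 F488328)) (tt N84283 F369236) (tt N113724 (iv5 F486849)) (tt N113617 (iv6 F486324)) (tt N49834 (iv7 D187145)))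
theorem Q84426 : ∀ i, i < 84426 → P i := stepQ 84425 Q84425 (allL N84425 (tt N49835 (iv1 D187146)) (tt N85764 (iv0 F373836)) (tt N84918 (iv2 F371086)) (tt N114052 D217307) (tt N84643 (iv4 F369981)) (tt N78903 F369983) (tt N51576 F369984) (tt N84922 (iv7 F371097)))
theorem Q84427 : ∀ i, i < 84427 → P i := stepQ 84426 Q84426 (allL N84426 (tt N84922 (iv1 F371099)) (tt N84918 F371090) (tt N49835 (iv2 D187147)) (tt N70017 F369237) (tt N74195 F369238) (tt N70016 (iv5 F369240)) (tt N74194 F369239) (tt N85764 (iv7 F373835)))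
theorem Q84428 : ∀ i, i < 84428 → P i := stepQ 84427 Q84427 (allL N84427 (tt N50173 F369245) (tt N50175 F369244) (tt N70016 F369242) (tt N49836 F369243) (tt N114053 D217308) (tt N49835 (iv5 D187148)) (tt N92625 F397673) (tt N85964 (iv7 F374646)))
theorem Q84429 : ∀ i, i < 84429 → P i := stepQ 84428 Q84428 (allL N84428 (tt N85960 F374629) (tt N114054 D217309) (tt N85966 (iv2 F374652)) (tt N92625 (iv3 F397674)) (tt N91796 (iv4 F394465)) (tt N85935 (iv5 F374506)) (tt N49836 (iv6 D187149)) (tt N114055 D217310))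
theorem Q84430 : ∀ i, i < 84430 → P i := stepQ 84429 Q84429 (allL N84429 (tt N53075 (iv1 F369249)) (tt N49837 (iv0 D187150)) (tt N82720 (iv2 F369248)) (tt N54543 F369247) (tt N110176 (iv4 F470284)) (tt N50512 F369246) (tt N113605 (iv6 F486269)) (tt N113497 (iv7 F485779)))
theorem Q84431 : ∀ i, i < 84431 → P i := stepQ 84430 Q84430 (allL N84430 (tt N114056 D217311) (tt N114057 D217312) (tt N113774 (iv2 F487044)) (tt N106396 F454282) (tt N49837 (iv4 D187151)) (tt N106379 (iv5 F454283)) (tt N114058 D217313) (tt N113612 (iv7 F486304)))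
theorem Q84432 : ∀ i, i < 84432 → P i := stepQ 84431 Q84431 (allL N84431 (tt N114059 D217314) (tt N114060 D217315) (tt N113775 (iv2 F487048)) (tt N49840 F369250) (tt N114058 (iv4 F488389)) (tt N107471 (iv5 F458442)) (tt N49837 (iv6 D187152)) (tt N114061 D217316))
theorem Q84433 : ∀ i, i < 84433 → P i := stepQ 84432 Q84432 (allL N84432 (tt N53694 F369254) (tt N50319 (iv0 F369255)) (tt N53718 F369251) (tt N49841 F369252) (tt N114062 D217317) (tt N49838 (iv5 D187153)) (tt N107471 F458439) (tt N50466 F369253))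
theorem Q84434 : ∀ i, i < 84434 → P i := stepQ 84433 Q84433 (allL N84433 (tt N114063 D217318) (tt N114064 D217319) (tt N111964 (iv2 F478876)) (tt N49839 (iv3 D187154)) (tt N106396 (iv4 F454281)) (tt N91795 (iv5 F394462)) (tt N114065 D217320) (tt N113614 (iv7 F486312)))
theorem Q84435 : ∀ i, i < 84435 → P i := stepQ 84434 Q84434 (allL N84434 (tt N113968 F488010) (tt N113970 F488017) (tt N113615 (iv2 F486313)) (tt N114065 (iv3 F488409)) (tt N49840 F369256) (tt N89950 (iv5 F388082)) (tt N49839 (iv6 D187155)) (tt N89949 F388080))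
theorem Q84436 : ∀ i, i < 84436 → P i := stepQ 84435 Q84435 (allL N84435 (tt N113617 (iv1 F486326)) (tt N49840 (iv0 D187156)) (tt N113616 F486318) (tt N105830 (iv3 F451914)) (tt N114066 D217321) (tt N89758 (iv5 F387449)) (tt N86402 F376114) (tt N89757 F387447))
theorem Q84437 : ∀ i, i < 84437 → P i := stepQ 84436 Q84436 (allL N84436 (tt N49840 (iv1 D187157)) (tt N113617 F486325) (tt N89757 (iv2 F387442)) (tt N114067 D217322) (tt N114068 D217323) (tt N89048 (iv5 F384958)) (tt N88919 (iv6 F384536)) (tt N113616 (iv7 F486319)))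
theorem Q84438 : ∀ i, i < 84438 → P i := stepQ 84437 Q84437 (allL N84437 (tt N107309 F457906) (tt N109876 (iv0 F469043)) (tt N50437 F369257) (tt N107471 (iv3 F458441)) (tt N91699 (iv4 F394086)) (tt N49840 (iv5 D187158)) (tt N49841 F369258) (tt N114069 D217324))
theorem Q84439 : ∀ i, i < 84439 → P i := stepQ 84438 Q84438 (allL N84438 (tt N89757 (iv1 F387446)) (tt N113616 F486320) (tt N113617 (iv2 F486321)) (tt N114061 (iv3 F488396)) (tt N89949 (iv4 F388081)) (tt N114069 (iv5 F488430)) (tt N89951 (iv6 F388084)) (tt N49840 (iv7 D187159)))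
theorem Q84440 : ∀ i, i < 84440 → P i := stepQ 84439 Q84439 (allL N84439 (tt N51247 F369261) (tt N51243 (iv0 F369262)) (tt N85762 (iv2 F373818)) (tt N49843 (iv3 D187160)) (tt N85762 (iv4 F373820)) (tt N83741 F369259) (tt N85762 (iv6 F373822)) (tt N50011 F369260))
theorem Q84441 : ∀ i, i < 84441 → P i := stepQ 84440 Q84440 (allL N84440 (tt N66632 F369266) (tt N50013 (iv0 F369267)) (tt N49846 F369263) (tt N51585 F369264) (tt N52645 F369265) (tt N85940 (iv5 F374525)) (tt N49844 (iv6 D187161)) (tt N97906 (iv7 F418749)))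
theorem Q84442 : ∀ i, i < 84442 → P i := stepQ 84441 Q84441 (allL N84441 (tt N51595 (iv1 F369285)) (tt N49847 (iv0 D187162)) (tt N51592 (iv2 F369269)) (tt N104215 (iv3 F444743)) (tt N81581 (iv4 F369283)) (tt N68196 F369268) (tt N104214 F444737) (tt N51593 (iv7 F369270)))
theorem Q84443 : ∀ i, i < 84443 → P i := stepQ 84442 Q84442 (allL N84442 (tt N49847 (iv1 D187163)) (tt N51595 F369271) (tt N51593 F369275) (tt N68209 F369276) (tt N81582 F369277) (tt N60775 (iv5 F369274)) (tt N60259 (iv6 F369273)) (tt N51592 F369272))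
theorem Q84444 : ∀ i, i < 84444 → P i := stepQ 84443 Q84443 (allL N84443 (tt N51593 (iv1 F369290)) (tt N51592 F369291) (tt N51595 F369286) (tt N60274 F369287) (tt N83784 F369288) (tt N67947 F369292) (tt N51581 F369289) (tt N49847 (iv7 D187164)))
theorem Q84445 : ∀ i, i < 84445 → P i := stepQ 84444 Q84444 (allL N84444 (tt N85491 (iv1 F372815)) (tt N89180 F385475) (tt N54867 F369296) (tt N92011 (iv3 F395346)) (tt N49848 (iv4 D187165)) (tt N105899 (iv5 F452253)) (tt N79001 F369297) (tt N54865 F369298))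
theorem Q84446 : ∀ i, i < 84446 → P i := stepQ 84445 Q84445 (allL N84445 (tt N51522 F369304) (tt N49854 (iv0 F369308)) (tt N51525 F369300) (tt N52112 F369301) (tt N52123 F369306) (tt N49848 (iv5 D187166)) (tt N79002 F369302) (tt N51524 F369303))
theorem Q84447 : ∀ i, i < 84447 → P i := stepQ 84446 Q84446 (allL N84446 (tt N82764 F369313) (tt N52745 (iv0 F369312)) (tt N113580 (iv2 F486122)) (tt N49849 (iv3 D187167)) (tt N53597 F369309) (tt N108809 (iv5 F464055)) (tt N50250 F369310) (tt N54866 F369311))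
theorem Q84448 : ∀ i, i < 84448 → P i := stepQ 84447 Q84447 (allL N84447 (tt N49854 F369316) (tt N51522 F369317) (tt N51524 F369314) (tt N108809 (iv3 F464053)) (tt N109701 (iv4 F468186)) (tt N49849 (iv5 D187168)) (tt N114070 D217325) (tt N51525 F369315))
theorem Q84449 : ∀ i, i < 84449 → P i := stepQ 84448 Q84448 (allL N84448 (tt N52747 F369320) (tt N83240 (iv0 F370483)) (tt N85831 (iv2 F374156)) (tt N49851 (iv3 D187169)) (tt N50054 F369321) (tt N114071 D217326) (tt N53493 F369318) (tt N54875 F369319))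
theorem Q84450 : ∀ i, i < 84450 → P i := stepQ 84449 Q84449 (allL N84449 (tt N51534 (iv1 F369326)) (tt N49856 F369325) (tt N51537 F369322) (tt N114071 (iv3 F488441)) (tt N86673 (iv4 F376759)) (tt N49851 (iv5 D187170)) (tt N60931 F369323) (tt N51536 F369324))
theorem Q84451 : ∀ i, i < 84451 → P i := stepQ 84450 Q84450 (allL N84450 (tt N49856 F369330) (tt N51534 F369331) (tt N51536 F369327) (tt N76400 F369328) (tt N86674 (iv4 F376766)) (tt N49852 (iv5 D187171)) (tt N56413 F369332) (tt N51537 F369329))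
theorem Q84452 : ∀ i, i < 84452 → P i := stepQ 84451 Q84451 (allL N84451 (tt N50354 F369337) (tt N50345 (iv0 F369339)) (tt N50351 F369333) (tt N78969 F369334) (tt N55492 F369335) (tt N64201 F369338) (tt N49852 (iv6 D187172)) (tt N50352 F369336))
theorem Q84453 : ∀ i, i < 84453 → P i := stepQ 84452 Q84452 (allL N84452 (tt N51525 (iv1 F369344)) (tt N51524 F369343) (tt N49854 (iv2 D187173)) (tt N51534 F369340) (tt N76418 (iv4 F369345)) (tt N50714 F369341) (tt N86529 (iv6 F376438)) (tt N51522 F369342))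
theorem Q84454 : ∀ i, i < 84454 → P i := stepQ 84453 Q84453 (allL N84453 (tt N76417 (iv1 F369352)) (tt N69600 (iv0 F376740)) (tt N76418 F369346) (tt N78534 F369347) (tt N49854 (iv4 D187174)) (tt N91213 (iv5 F392285)) (tt N76414 (iv6 F369351)) (tt N51526 F369348))
theorem Q84455 : ∀ i, i < 84455 → P i := stepQ 84454 Q84454 (allL N84454 (tt N97173 (iv1 F415755)) (tt N78283 (iv0 F369357)) (tt N86529 (iv2 F376436)) (tt N49855 F369353) (tt N76414 F369354) (tt N83625 F369355) (tt N49854 (iv6 D187175)) (tt N76412 F369356))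
theorem Q84456 : ∀ i, i < 84456 → P i := stepQ 84455 Q84455 (allL N84455 (tt N51545 (iv1 F369369)) (tt N49855 (iv0 D187176)) (tt N51543 F369364) (tt N114072 D217327) (tt N83782 (iv4 F369376)) (tt N78631 F369362) (tt N81461 F369361) (tt N51544 (iv7 F369363)))
theorem Q84457 : ∀ i, i < 84457 → P i := stepQ 84456 Q84456 (allL N84456 (tt N49855 (iv1 D187177)) (tt N51545 F369365) (tt N51544 F369368) (tt N86437 (iv3 F376213)) (tt N83783 (iv4 F369372)) (tt N85061 (iv5 F371500)) (tt N51506 (iv6 F369367)) (tt N51543 F369366))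
theorem Q84458 : ∀ i, i < 84458 → P i := stepQ 84457 Q84457 (allL N84457 (tt N51544 (iv1 F369385)) (tt N51543 F369386) (tt N51545 F369380) (tt N76412 F369381) (tt N78540 F369382) (tt N83627 F369383) (tt N51532 F369384) (tt N49855 (iv7 D187178)))
theorem Q84459 : ∀ i, i < 84459 → P i := stepQ 84458 Q84458 (allL N84458 (tt N51537 (iv1 F369391)) (tt N51536 F369390) (tt N49856 (iv2 D187179)) (tt N51522 F369387) (tt N88300 (iv4 F382500)) (tt N50717 F369388) (tt N76415 (iv6 F369392)) (tt N51534 F369389))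
theorem Q84460 : ∀ i, i < 84460 → P i := stepQ 84459 Q84459 (allL N84459 (tt N88301 (iv1 F382508)) (tt N79679 F376285) (tt N88300 F382503) (tt N88304 F382521) (tt N49856 (iv4 D187180)) (tt N80208 F369394) (tt N104351 (iv6 F445379)) (tt N51538 F369393))
theorem Q84461 : ∀ i, i < 84461 → P i := stepQ 84460 Q84460 (allL N84460 (tt N93116 F399555) (tt N114073 D217328) (tt N76415 F369395) (tt N49857 F369396) (tt N104351 (iv4 F445377)) (tt N50375 F369397) (tt N49856 (iv6 D187181)) (tt N95897 (iv7 F410144)))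
theorem Q84462 : ∀ i, i < 84462 → P i := stepQ 84461 Q84461 (allL N84461 (tt N51532 (iv1 F369407)) (tt N49857 (iv0 D187182)) (tt N51530 (iv2 F369402)) (tt N86149 (iv3 F376999)) (tt N83815 F369403) (tt N85093 F371610) (tt N86085 (iv6 F375074)) (tt N51531 (iv7 F369404)))
theorem Q84463 : ∀ i, i < 84463 → P i := stepQ 84462 Q84462 (allL N84462 (tt N49857 (iv1 D187183)) (tt N51532 F369398) (tt N51531 F369405) (tt N87615 (iv3 F379891)) (tt N83816 F369399) (tt N85092 (iv5 F371603)) (tt N87614 F379887) (tt N51530 (iv7 F369400)))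
theorem Q84464 : ∀ i, i < 84464 → P i := stepQ 84463 Q84463 (allL N84463 (tt N51531 (iv1 F369411)) (tt N51530 F369412) (tt N51532 F369408) (tt N95897 (iv3 F410141)) (tt N104929 (iv4 F447990)) (tt N50381 F369409) (tt N51545 F369410) (tt N49857 (iv7 D187184)))
theorem Q84465 : ∀ i, i < 84465 → P i := stepQ 84464 Q84464 (allL N84464 (tt N98281 F420309) (tt N114070 (iv0 F488438)) (tt N114074 D217329) (tt N49858 (iv3 D187185)) (tt N105846 (iv4 F452006)) (tt N105837 (iv5 F451956)) (tt N114075 D217330) (tt N111267 F475535))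
theorem Q84466 : ∀ i, i < 84466 → P i := stepQ 84465 Q84465 (allL N84465 (tt N114076 D217331) (tt N105709 (iv0 F451360)) (tt N108782 (iv2 F463904)) (tt N105837 F451961) (tt N85472 (iv4 F372734)) (tt N49858 (iv5 D187186)) (tt N108781 (iv6 F463903)) (tt N112468 (iv7 F481213)))
theorem Q84467 : ∀ i, i < 84467 → P i := stepQ 84466 Q84466 (allL N84466 (tt N87614 F379889) (tt N114077 D217332) (tt N86653 F376667) (tt N114075 (iv3 F488465)) (tt N87646 (iv4 F379986)) (tt N86450 F376248) (tt N49858 (iv6 D187187)) (tt N86650 (iv7 F376670)))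
theorem Q84468 : ∀ i, i < 84468 → P i := stepQ 84467 Q84467 (allL N84467 (tt N105709 F451361) (tt N114076 F488474) (tt N112468 (iv2 F481210)) (tt N55827 F369413) (tt N114078 D217333) (tt N49859 (iv5 D187188)) (tt N55822 F369414) (tt N108782 (iv7 F463908)))
theorem Q84469 : ∀ i, i < 84469 → P i := stepQ 84468 Q84468 (allL N84468 (tt N110054 F469756) (tt N84487 F369514) (tt N49869 F369415) (tt N101698 (iv3 F433925)) (tt N69268 F369416) (tt N82740 F369417) (tt N49861 (iv6 D187189)) (tt N77262 F369418))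
theorem Q84470 : ∀ i, i < 84470 → P i := stepQ 84469 Q84469 (allL N84469 (tt N49865 (iv1 D187190)) (tt N82845 F369421) (tt N87034 (iv2 F378120)) (tt N114008 (iv3 F488172)) (tt N84230 (iv4 F369423)) (tt N55369 (iv5 F369424)) (tt N62924 F369425) (tt N83090 F369422))
theorem Q84471 : ∀ i, i < 84471 → P i := stepQ 84470 Q84470 (allL N84470 (tt N111255 F475467) (tt N85369 F372379) (tt N91113 (iv2 F391986)) (tt N49867 (iv3 D187191)) (tt N84188 (iv4 F369427)) (tt N52289 F369426) (tt N98468 (iv6 F421008)) (tt N87033 (iv7 F378119)))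
theorem Q84472 : ∀ i, i < 84472 → P i := stepQ 84471 Q84471 (allL N84471 (tt N84116 F369431) (tt N84114 F369432) (tt N83127 F369428) (tt N112377 (iv3 F480804)) (tt N49867 (iv4 D187192)) (tt N52282 F369430) (tt N112376 (iv6 F480802)) (tt N84124 F369429))
theorem Q84473 : ∀ i, i < 84473 → P i := stepQ 84472 Q84472 (allL N84472 (tt N109123 F465437) (tt N77226 (iv0 F380688)) (tt N83125 F369433) (tt N98468 F421009) (tt N112376 (iv4 F480798)) (tt N55079 F369434) (tt N49867 (iv6 D187193)) (tt N109294 (iv7 F466236)))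
theorem Q84474 : ∀ i, i < 84474 → P i := stepQ 84473 Q84473 (allL N84473 (tt N84114 F369440) (tt N84116 F369441) (tt N84124 F369435) (tt N75594 F369436) (tt N49868 (iv4 D187194)) (tt N52285 F369437) (tt N75593 F369438) (tt N83127 F369439))
theorem Q84475 : ∀ i, i < 84475 → P i := stepQ 84474 Q84474 (allL N84474 (tt N77262 F369445) (tt N49869 (iv0 D187195)) (tt N110054 (iv2 F469751)) (tt N49882 F369442) (tt N82748 F369443) (tt N113371 (iv5 F485226)) (tt N62931 F369444) (tt N84487 (iv7 F369510)))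
theorem Q84476 : ∀ i, i < 84476 → P i := stepQ 84475 Q84475 (allL N84475 (tt N49869 (iv1 D187196)) (tt N77262 F369446) (tt N84487 (iv2 F369515)) (tt N107179 (iv3 F457370)) (tt N113030 (iv4 F483620)) (tt N86930 (iv5 F377749)) (tt N109556 (iv6 F467502)) (tt N110054 (iv7 F469754)))
theorem Q84477 : ∀ i, i < 84477 → P i := stepQ 84476 Q84476 (allL N84476 (tt N88416 F422330) (tt N88415 (iv0 F382947)) (tt N82740 F369447) (tt N62977 F369448) (tt N83056 (iv4 F369450)) (tt N49869 (iv5 D187197)) (tt N49870 F369449) (tt N83311 (iv7 F369451)))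
theorem Q84478 : ∀ i, i < 84478 → P i := stepQ 84477 Q84477 (allL N84477 (tt N84487 F369511) (tt N110054 (iv0 F469755)) (tt N77262 F369453) (tt N62909 F369454) (tt N69143 F369455) (tt N83311 F369456) (tt N65181 F369457) (tt N49869 (iv7 D187198)))
theorem Q84479 : ∀ i, i < 84479 → P i := stepQ 84478 Q84478 (allL N84478 (tt N49871 (iv1 D187199)) (tt N84569 F369725) (tt N84568 F369717) (tt N112394 F480906) (tt N60829 (iv4 F369459)) (tt N86969 (iv5 F377890)) (tt N52688 F369460) (tt N79019 F369458))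
theorem Q84480 : ∀ i, i < 84480 → P i := stepQ 84479 Q84479 (allL N84479 (tt N79019 (iv1 F369463)) (tt N84568 F369718) (tt N49871 (iv2 D187200)) (tt N80130 F369461) (tt N79011 F369462) (tt N80129 (iv5 F369464)) (tt N85622 (iv6 F373241)) (tt N84569 (iv7 F369723)))
theorem Q84481 : ∀ i, i < 84481 → P i := stepQ 84480 Q84480 (allL N84480 (tt N51637 (iv1 F369468)) (tt N51640 F369467) (tt N80129 F369465) (tt N49872 F369466) (tt N108958 (iv4 F464665)) (tt N49871 (iv5 D187201)) (tt N108936 (iv6 F464568)) (tt N84570 (iv7 F369730)))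
theorem Q84482 : ∀ i, i < 84482 → P i := stepQ 84481 Q84481 (allL N84481 (tt N81353 F369471) (tt N109225 (iv0 F465854)) (tt N109133 (iv2 F465489)) (tt N49876 F369469) (tt N101174 (iv4 F432053)) (tt N114079 D217334) (tt N49873 (iv6 D187202)) (tt N77259 (iv7 F369470)))
theorem Q84483 : ∀ i, i < 84483 → P i := stepQ 84482 Q84482 (allL N84482 (tt N53608 F369476) (tt N53192 F369475) (tt N53613 F369472) (tt N49877 F369473) (tt N114080 D217335) (tt N49874 (iv5 D187203)) (tt N114079 (iv6 F488490)) (tt N53612 F369474))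
theorem Q84484 : ∀ i, i < 84484 → P i := stepQ 84483 Q84483 (allL N84483 (tt N65326 F369481) (tt N82185 F369480) (tt N55076 F369477) (tt N114079 (iv3 F488488)) (tt N82191 (iv4 F369482)) (tt N49876 (iv5 D187204)) (tt N49877 F369478) (tt N77261 F369479))
theorem Q84485 : ∀ i, i < 84485 → P i := stepQ 84484 Q84484 (allL N84484 (tt N62785 F369490) (tt N63056 (iv0 F369494)) (tt N66720 (iv2 F369493)) (tt N49878 (iv3 D187205)) (tt N66719 F369491) (tt N50117 F369488) (tt N108803 (iv6 F464026)) (tt N54835 F369489))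
theorem Q84486 : ∀ i, i < 84486 → P i := stepQ 84485 Q84485 (allL N84485 (tt N51292 (iv1 F369502)) (tt N51294 (iv0 F369501)) (tt N79986 F369498) (tt N49879 (iv3 D187206)) (tt N111775 (iv4 F477911)) (tt N50354 F369495) (tt N61087 (iv6 F369497)) (tt N50353 F369496))
theorem Q84487 : ∀ i, i < 84487 → P i := stepQ 84486 Q84486 (allL N84486 (tt N78882 F369507) (tt N114081 D217336) (tt N51371 F369503) (tt N61087 F369504) (tt N96217 F411552) (tt N51265 F369505) (tt N49879 (iv6 D187207)) (tt N79982 F369506))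
theorem Q84488 : ∀ i, i < 84488 → P i := stepQ 84487 Q84487 (allL N84487 (tt N84468 (iv1 F369514)) (tt N84477 (iv0 F369511)) (tt N84475 F369515) (tt N49880 (iv3 D187208)) (tt N82743 F369508) (tt N83342 F369509) (tt N110272 F470764) (tt N84474 F369510))
theorem Q84489 : ∀ i, i < 84489 → P i := stepQ 84488 Q84488 (allL N84488 (tt N88567 (iv1 F383509)) (tt N114082 D217337) (tt N84734 (iv2 F370408)) (tt N110272 (iv3 F470766)) (tt N49881 F369518) (tt N89965 (iv5 F388124)) (tt N49880 (iv6 D187209)) (tt N98183 (iv7 F419889)))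
theorem Q84490 : ∀ i, i < 84490 → P i := stepQ 84489 Q84489 (allL N84489 (tt N84737 (iv1 F370426)) (tt N49881 (iv0 D187210)) (tt N84735 F370414) (tt N74867 (iv3 F369520)) (tt N89967 (iv4 F388130)) (tt N67936 F369519) (tt N81462 (iv6 F369521)) (tt N84736 (iv7 F370419)))
theorem Q84491 : ∀ i, i < 84491 → P i := stepQ 84490 Q84490 (allL N84490 (tt N84736 (iv1 F370418)) (tt N84735 F370423) (tt N84737 (iv2 F370424)) (tt N80885 F369522) (tt N98183 (iv4 F419888)) (tt N86013 (iv5 F374876)) (tt N84493 (iv6 F369538)) (tt N49881 (iv7 D187211)))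
theorem Q84492 : ∀ i, i < 84492 → P i := stepQ 84491 Q84491 (allL N84491 (tt N50039 F369526) (tt N50049 F369527) (tt N54596 F369523) (tt N113371 (iv3 F485224)) (tt N50047 F369524) (tt N49882 (iv5 D187212)) (tt N111200 (iv6 F475199)) (tt N54594 F369525))
theorem Q84493 : ∀ i, i < 84493 → P i := stepQ 84492 Q84492 (allL N84492 (tt N61148 F369533) (tt N61128 (iv0 F369531)) (tt N61145 F369528) (tt N62931 F369529) (tt N49883 F369530) (tt N71917 (iv5 F369534)) (tt N49882 (iv6 D187213)) (tt N61146 (iv7 F369535)))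
theorem Q84494 : ∀ i, i < 84494 → P i := stepQ 84493 Q84493 (allL N84493 (tt N55798 (iv1 F369539)) (tt N85829 F374150) (tt N85830 (iv2 F374151)) (tt N61274 F369536) (tt N61146 F369537) (tt N91453 (iv5 F393192)) (tt N84490 F369538) (tt N49883 (iv7 D187214)))
theorem Q84495 : ∀ i, i < 84495 → P i := stepQ 84494 Q84494 (allL N84494 (tt N87950 (iv1 F381271)) (tt N87953 (iv0 F381274)) (tt N52544 F369540) (tt N49886 F369541) (tt N52536 F369542) (tt N87960 (iv5 F381291)) (tt N49884 (iv6 D187215)) (tt N114083 D217338))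
theorem Q84496 : ∀ i, i < 84496 → P i := stepQ 84495 Q84495 (allL N84495 (tt N114084 D217339) (tt N111567 (iv0 F476958)) (tt N87364 (iv2 F379123)) (tt N49885 (iv3 D187216)) (tt N87352 (iv4 F379104)) (tt N51734 F369543) (tt N87354 (iv6 F379113)) (tt N51842 F369544))
theorem Q84497 : ∀ i, i < 84497 → P i := stepQ 84496 Q84496 (allL N84496 (tt N111520 F476702) (tt N88164 (iv0 F381971)) (tt N84577 (iv2 F369749)) (tt N87354 (iv3 F379112)) (tt N49886 F369545) (tt N114085 D217340) (tt N49885 (iv6 D187217)) (tt N114086 D217341))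
theorem Q84498 : ∀ i, i < 84498 → P i := stepQ 84497 Q84497 (allL N84497 (tt N84580 (iv1 F369756)) (tt N49886 (iv0 D187218)) (tt N84578 F393938) (tt N114087 D217342) (tt N91661 (iv4 F393933)) (tt N114088 D217343) (tt N111892 (iv6 F478532)) (tt N84579 F393936))
theorem Q84499 : ∀ i, i < 84499 → P i := stepQ 84498 Q84498 (allL N84498 (tt N49886 (iv1 D187219)) (tt N84580 F369755) (tt N84579 (iv2 F393937)) (tt N111903 F478566) (tt N87214 F393940) (tt N111902 (iv5 F478564)) (tt N87213 F393941) (tt N84578 (iv7 F393939)))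
theorem Q84500 : ∀ i, i < 84500 → P i := stepQ 84499 Q84499 (allL N84499 (tt N84579 (iv1 F369751)) (tt N84578 F369754) (tt N84580 (iv2 F369752)) (tt N114083 (iv3 F488513)) (tt N114086 (iv4 F488534)) (tt N87981 (iv5 F381364)) (tt N51824 F369546) (tt N49886 (iv7 D187220)))
theorem Q84501 : ∀ i, i < 84501 → P i := stepQ 84500 Q84500 (allL N84500 (tt N52409 F369549) (tt N79017 (iv0 F369550)) (tt N84582 (iv2 F369763)) (tt N52425 F369547) (tt N49887 (iv4 D187221)) (tt N114089 D217344) (tt N84582 (iv6 F369764)) (tt N51735 F369548))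
theorem Q84502 : ∀ i, i < 84502 → P i := stepQ 84501 Q84501 (allL N84501 (tt N51964 F369552) (tt N51931 (iv0 F369553)) (tt N84583 (iv2 F369768)) (tt N113710 (iv3 F486766)) (tt N114090 D217345) (tt N49887 (iv5 D187222)) (tt N114091 D217346) (tt N51737 F369551))
theorem Q84503 : ∀ i, i < 84503 → P i := stepQ 84502 Q84502 (allL N84502 (tt N51892 (iv1 F369555)) (tt N49888 (iv0 D187223)) (tt N84585 F369778) (tt N114092 D217347) (tt N114093 D217348) (tt N54914 F369554) (tt N114094 D217349) (tt N84584 F369775))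
theorem Q84504 : ∀ i, i < 84504 → P i := stepQ 84503 Q84503 (allL N84503 (tt N49888 (iv1 D187224)) (tt N51892 F369556) (tt N84584 F369774) (tt N111455 F476435) (tt N114095 D217350) (tt N55363 (iv5 F369557)) (tt N114096 D217351) (tt N84585 (iv7 F369777)))
theorem Q84505 : ∀ i, i < 84505 → P i := stepQ 84504 Q84504 (allL N84504 (tt N114097 D217352) (tt N114098 D217353) (tt N88023 (iv2 F381500)) (tt N114099 D217354) (tt N49888 (iv4 D187225)) (tt N114100 D217355) (tt N107087 F456911) (tt N84586 (iv7 F369780)))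
theorem Q84506 : ∀ i, i < 84506 → P i := stepQ 84505 Q84505 (allL N84505 (tt N107080 (iv1 F456886)) (tt N106412 F454335) (tt N88024 (iv2 F381502)) (tt N49891 F369558) (tt N107087 (iv4 F456909)) (tt N85717 F373644) (tt N49888 (iv6 D187226)) (tt N111650 (iv7 F477306)))
theorem Q84507 : ∀ i, i < 84507 → P i := stepQ 84506 Q84506 (allL N84506 (tt N81151 F369560) (tt N91894 (iv0 F394847)) (tt N114101 D217356) (tt N49890 (iv3 D187227)) (tt N114099 (iv4 F488555)) (tt N79850 F369559) (tt N114102 D217357) (tt N84589 (iv7 F369789)))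
theorem Q84508 : ∀ i, i < 84508 → P i := stepQ 84507 Q84507 (allL N84507 (tt N49909 F369563) (tt N84617 F369881) (tt N49914 F369561) (tt N114102 (iv3 F488567)) (tt N49891 F369562) (tt N111665 (iv5 F477375)) (tt N49890 (iv6 D187228)) (tt N84616 (iv7 F369875)))
theorem Q84509 : ∀ i, i < 84509 → P i := stepQ 84508 Q84508 (allL N84508 (tt N49917 (iv1 F369567)) (tt N49891 (iv0 D187229)) (tt N49915 (iv2 F369566)) (tt N104044 (iv3 F443911)) (tt N55511 F369569) (tt N79342 F369564) (tt N49911 F369565) (tt N49916 F369568))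
theorem Q84510 : ∀ i, i < 84510 → P i := stepQ 84509 Q84509 (allL N84509 (tt N84613 (iv1 F369865)) (tt N49904 (iv0 F369573)) (tt N51917 F369570) (tt N51951 F369571) (tt N108745 (iv4 F463784)) (tt N49894 (iv5 D187230)) (tt N114103 D217358) (tt N51913 F369572))
theorem Q84511 : ∀ i, i < 84511 → P i := stepQ 84510 Q84510 (allL N84510 (tt N49904 F369576) (tt N84613 F369866) (tt N51913 F369574) (tt N113832 (iv3 F487341)) (tt N99727 (iv4 F425926)) (tt N49895 (iv5 D187231)) (tt N114104 D217359) (tt N51917 F369575))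
theorem Q84512 : ∀ i, i < 84512 → P i := stepQ 84511 Q84511 (allL N84511 (tt N49918 (iv1 F369581)) (tt N96896 (iv0 F414498)) (tt N51914 F369577) (tt N112048 F479252) (tt N83835 F369578) (tt N54947 F369579) (tt N49895 (iv6 D187232)) (tt N88276 (iv7 F382435)))
theorem Q84513 : ∀ i, i < 84513 → P i := stepQ 84512 Q84512 (allL N84512 (tt N51920 F369584) (tt N51919 F369585) (tt N49897 F369582) (tt N84597 (iv3 F369823)) (tt N108627 (iv4 F463275)) (tt N49896 (iv5 D187233)) (tt N114105 D217360) (tt N51904 F369583))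
theorem Q84514 : ∀ i, i < 84514 → P i := stepQ 84513 Q84513 (allL N84513 (tt N51904 (iv1 F369590)) (tt N49897 (iv0 D187234)) (tt N51920 (iv2 F369591)) (tt N51953 F369588) (tt N107242 (iv4 F457612)) (tt N55153 F369589) (tt N114084 (iv6 F488521)) (tt N51919 (iv7 F369592)))
theorem Q84515 : ∀ i, i < 84515 → P i := stepQ 84514 Q84514 (allL N84514 (tt N49897 (iv1 D187235)) (tt N51904 F369593) (tt N51919 (iv2 F369596)) (tt N113833 F487350) (tt N107243 (iv4 F457614)) (tt N55498 F369595) (tt N104836 (iv6 F447529)) (tt N51920 F369594))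
theorem Q84516 : ∀ i, i < 84516 → P i := stepQ 84515 Q84515 (allL N84515 (tt N87329 (iv1 F379051)) (tt N107239 (iv0 F457598)) (tt N108627 (iv2 F463274)) (tt N97119 (iv3 F415528)) (tt N49897 (iv4 D187236)) (tt N95518 (iv5 F408449)) (tt N114106 D217361) (tt N51921 F369597))
theorem Q84517 : ∀ i, i < 84517 → P i := stepQ 84516 Q84516 (allL N84516 (tt N114107 D217362) (tt N114108 D217363) (tt N114105 (iv2 F488579)) (tt N49899 F369598) (tt N114106 (iv4 F488582)) (tt N88124 (iv5 F381850)) (tt N49897 (iv6 D187237)) (tt N114109 D217364))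
theorem Q84518 : ∀ i, i < 84518 → P i := stepQ 84517 Q84517 (allL N84517 (tt N111311 (iv1 F475760)) (tt N114110 D217365) (tt N108531 (iv2 F462968)) (tt N49898 (iv3 D187238)) (tt N97119 (iv4 F415530)) (tt N54961 F369599) (tt N108505 (iv6 F462883)) (tt N51934 F369600))
theorem Q84519 : ∀ i, i < 84519 → P i := stepQ 84518 Q84518 (allL N84518 (tt N111499 F476614) (tt N88054 (iv0 F381607)) (tt N84603 (iv2 F369839)) (tt N108505 (iv3 F462882)) (tt N49899 F369601) (tt N108504 F462880) (tt N49898 (iv6 D187239)) (tt N114111 D217366))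
theorem Q84520 : ∀ i, i < 84520 → P i := stepQ 84519 Q84519 (allL N84519 (tt N84606 (iv1 F369846)) (tt N49899 (iv0 D187240)) (tt N84604 (iv2 F378790)) (tt N114112 D217367) (tt N111520 (iv4 F476699)) (tt N114113 D217368) (tt N111519 F476697) (tt N84605 F378789))
theorem Q84521 : ∀ i, i < 84521 → P i := stepQ 84520 Q84520 (allL N84520 (tt N49899 (iv1 D187241)) (tt N84606 F369845) (tt N84605 F378787) (tt N88152 (iv3 F440253)) (tt N88164 (iv4 F381970)) (tt N114114 D217369) (tt N67030 (iv6 F369792)) (tt N84604 (iv7 F378788)))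
theorem Q84522 : ∀ i, i < 84522 → P i := stepQ 84521 Q84521 (allL N84521 (tt N84605 (iv1 F369841)) (tt N84604 F369844) (tt N84606 (iv2 F369842)) (tt N114109 (iv3 F488586)) (tt N114111 (iv4 F488595)) (tt N88136 (iv5 F381890)) (tt N51930 F369602) (tt N49899 (iv7 D187242)))
theorem Q84523 : ∀ i, i < 84523 → P i := stepQ 84522 Q84522 (allL N84522 (tt N88087 F381752) (tt N88085 (iv0 F381742)) (tt N88105 F381805) (tt N49900 (iv3 D187243)) (tt N112220 (iv4 F480111)) (tt N53611 F369603) (tt N114115 D217370) (tt N55390 F369604))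
theorem Q84524 : ∀ i, i < 84524 → P i := stepQ 84523 Q84523 (allL N84523 (tt N52433 F369608) (tt N52429 F369609) (tt N54206 F369605) (tt N108185 F461433) (tt N49900 (iv4 D187244)) (tt N54109 F369607) (tt N114116 D217371) (tt N54215 F369606))
theorem Q84525 : ∀ i, i < 84525 → P i := stepQ 84524 Q84524 (allL N84524 (tt N114117 D217372) (tt N114118 D217373) (tt N55025 F369610) (tt N114115 (iv3 F488602)) (tt N114116 (iv4 F488611)) (tt N54924 F369611) (tt N49900 (iv6 D187245)) (tt N114119 D217374))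
theorem Q84526 : ∀ i, i < 84526 → P i := stepQ 84525 Q84525 (allL N84525 (tt N51949 (iv1 F369615)) (tt N51951 (iv0 F369614)) (tt N111303 F475724) (tt N49901 (iv3 D187246)) (tt N111769 (iv4 F477876)) (tt N54829 F369612) (tt N108617 (iv6 F463246)) (tt N55020 F369613))
theorem Q84527 : ∀ i, i < 84527 → P i := stepQ 84526 Q84526 (allL N84526 (tt N52429 F369619) (tt N52433 F369620) (tt N54215 F369616) (tt N112307 (iv3 F480467)) (tt N49901 (iv4 D187247)) (tt N54112 F369617) (tt N114120 D217375) (tt N54206 F369618))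
theorem Q84528 : ∀ i, i < 84528 → P i := stepQ 84527 Q84527 (allL N84527 (tt N88129 F381867) (tt N114121 D217376) (tt N52080 F369621) (tt N108617 (iv3 F463245)) (tt N114120 (iv4 F488630)) (tt N51770 F369622) (tt N49901 (iv6 D187248)) (tt N114122 D217377))
theorem Q84529 : ∀ i, i < 84529 → P i := stepQ 84528 Q84528 (allL N84528 (tt N51893 (iv1 F369625)) (tt N49902 (iv0 D187249)) (tt N54221 (iv2 F369626)) (tt N114123 D217378) (tt N51873 F369624) (tt N54114 F369623) (tt N114124 D217379) (tt N54224 (iv7 F369627)))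
theorem Q84530 : ∀ i, i < 84530 → P i := stepQ 84529 Q84529 (allL N84529 (tt N49902 (iv1 D187250)) (tt N51893 F369628) (tt N54224 (iv2 F369632)) (tt N64994 F369633) (tt N51874 F369631) (tt N54115 F369630) (tt N64993 (iv6 F369634)) (tt N54221 F369629))
theorem Q84531 : ∀ i, i < 84531 → P i := stepQ 84530 Q84530 (allL N84530 (tt N111407 F476217) (tt N58014 (iv0 F381514)) (tt N88026 (iv2 F381507)) (tt N108237 (iv3 F461628)) (tt N49903 F369635) (tt N96330 (iv5 F412068)) (tt N49902 (iv6 D187251)) (tt N114125 D217380))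
theorem Q84532 : ∀ i, i < 84532 → P i := stepQ 84531 Q84531 (allL N84531 (tt N88029 (iv1 F381525)) (tt N49903 (iv0 D187252)) (tt N88027 F381511) (tt N101592 (iv3 F433472)) (tt N64959 F381513) (tt N91901 (iv5 F394869)) (tt N84627 F378104) (tt N88028 (iv7 F381516)))
theorem Q84533 : ∀ i, i < 84533 → P i := stepQ 84532 Q84532 (allL N84532 (tt N49903 (iv1 D187253)) (tt N88029 F381524) (tt N88028 F381518) (tt N114126 D217381) (tt N111385 (iv4 F476109)) (tt N55480 (iv5 F369636)) (tt N114127 D217382) (tt N88027 F381512))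
theorem Q84534 : ∀ i, i < 84534 → P i := stepQ 84533 Q84533 (allL N84533 (tt N88028 (iv1 F381515)) (tt N88027 F381521) (tt N88029 (iv2 F381522)) (tt N49917 F369637) (tt N114125 (iv4 F488657)) (tt N84653 (iv5 F370051)) (tt N84612 (iv6 F369861)) (tt N49903 (iv7 D187254)))
theorem Q84535 : ∀ i, i < 84535 → P i := stepQ 84534 Q84534 (allL N84534 (tt N51917 (iv1 F369640)) (tt N51913 F369639) (tt N49904 (iv2 D187255)) (tt N84618 (iv3 F369883)) (tt N84535 (iv4 F369645)) (tt N55491 F369638) (tt N76251 (iv6 F369642)) (tt N84613 (iv7 F369864)))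
theorem Q84536 : ∀ i, i < 84536 → P i := stepQ 84535 Q84535 (allL N84535 (tt N107240 (iv1 F457600)) (tt N74158 (iv0 F369647)) (tt N76251 F369643) (tt N49906 F369644) (tt N84534 F369645) (tt N63494 F369646) (tt N49904 (iv6 D187256)) (tt N107229 (iv7 F457554)))
theorem Q84537 : ∀ i, i < 84537 → P i := stepQ 84536 Q84536 (allL N84536 (tt N102110 (iv1 F435780)) (tt N99669 (iv0 F425670)) (tt N108528 F462958) (tt N49905 (iv3 D187257)) (tt N94444 (iv4 F404500)) (tt N55561 F369648) (tt N114128 D217383) (tt N84615 (iv7 F369871)))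
theorem Q84538 : ∀ i, i < 84538 → P i := stepQ 84537 Q84537 (allL N84537 (tt N111897 (iv1 F478550)) (tt N111896 F478548) (tt N84620 (iv2 F369889)) (tt N114128 (iv3 F488668)) (tt N49906 F369649) (tt N114129 D217384) (tt N49905 (iv6 D187258)) (tt N111895 (iv7 F478546)))
theorem Q84539 : ∀ i, i < 84539 → P i := stepQ 84538 Q84538 (allL N84538 (tt N84623 (iv1 F369901)) (tt N49906 (iv0 D187259)) (tt N84621 F402396) (tt N114130 D217385) (tt N114131 D217386) (tt N114132 D217387) (tt N114131 F488682) (tt N84622 F402394))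
theorem Q84540 : ∀ i, i < 84540 → P i := stepQ 84539 Q84539 (allL N84539 (tt N49906 (iv1 D187260)) (tt N84623 F369900) (tt N84622 (iv2 F402393)) (tt N114118 (iv3 F488621)) (tt N114133 D217388) (tt N74039 (iv5 F369650)) (tt N114134 D217389) (tt N84621 (iv7 F402395)))
theorem Q84541 : ∀ i, i < 84541 → P i := stepQ 84540 Q84540 (allL N84540 (tt N84622 (iv1 F369893)) (tt N84621 F369899) (tt N84623 (iv2 F369894)) (tt N107229 (iv3 F457552)) (tt N111895 (iv4 F478545)) (tt N91484 (iv5 F393324)) (tt N84617 (iv6 F369880)) (tt N49906 (iv7 D187261)))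
theorem Q84542 : ∀ i, i < 84542 → P i := stepQ 84541 Q84541 (allL N84541 (tt N84596 F369821) (tt N84594 (iv0 F369812)) (tt N49907 (iv2 D187262)) (tt N84613 (iv3 F369862)) (tt N114135 D217390) (tt N55493 F369651) (tt N114136 D217391) (tt N84618 (iv7 F369885)))
theorem Q84543 : ∀ i, i < 84543 → P i := stepQ 84542 Q84542 (allL N84542 (tt N114137 D217392) (tt N114138 D217393) (tt N114135 (iv2 F488690)) (tt N79326 F369652) (tt N49907 (iv4 D187263)) (tt N112268 (iv5 F480289)) (tt N79325 (iv6 F369653)) (tt N84619 (iv7 F369888)))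
theorem Q84544 : ∀ i, i < 84544 → P i := stepQ 84543 Q84543 (allL N84543 (tt N114139 D217394) (tt N114140 D217395) (tt N114136 (iv2 F488696)) (tt N49909 F369654) (tt N79325 F369655) (tt N83589 F369656) (tt N49907 (iv6 D187264)) (tt N93903 (iv7 F402357)))
theorem Q84545 : ∀ i, i < 84545 → P i := stepQ 84544 Q84544 (allL N84544 (tt N84617 (iv1 F369882)) (tt N49909 (iv0 D187265)) (tt N84616 F369874) (tt N88129 (iv3 F381865)) (tt N49917 F369657) (tt N97641 (iv5 F417735)) (tt N51925 F369658) (tt N49914 (iv7 F369659)))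
theorem Q84546 : ∀ i, i < 84546 → P i := stepQ 84545 Q84545 (allL N84545 (tt N114141 D217396) (tt N91191 (iv0 F392212)) (tt N114142 D217397) (tt N49910 (iv3 D187266)) (tt N114143 D217398) (tt N55486 F369660) (tt N114144 D217399) (tt N84624 (iv7 F369904)))
theorem Q84547 : ∀ i, i < 84547 → P i := stepQ 84546 Q84546 (allL N84546 (tt N114131 F488681) (tt N114133 (iv0 F488685)) (tt N84626 (iv2 F369908)) (tt N114144 (iv3 F488734)) (tt N55508 F369661) (tt N114145 D217400) (tt N49910 (iv6 D187267)) (tt N111684 (iv7 F477470)))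
theorem Q84548 : ∀ i, i < 84548 → P i := stepQ 84547 Q84547 (allL N84547 (tt N110967 (iv1 F474008)) (tt N97835 F418452) (tt N69464 F369664) (tt N49911 (iv3 D187268)) (tt N60248 (iv4 F369663)) (tt N55488 F369662) (tt N104044 (iv6 F443912)) (tt N84625 (iv7 F369907)))
theorem Q84549 : ∀ i, i < 84549 → P i := stepQ 84548 Q84548 (allL N84548 (tt N84629 (iv1 F369915)) (tt N49912 (iv0 D187269)) (tt N84628 (iv2 F378095)) (tt N95662 (iv3 F409036)) (tt N76176 F369665) (tt N55461 (iv5 F369666)) (tt N114146 D217401) (tt N84627 F378099))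
theorem Q84550 : ∀ i, i < 84550 → P i := stepQ 84549 Q84549 (allL N84549 (tt N49912 (iv1 D187270)) (tt N84629 F369918) (tt N84627 F378098) (tt N97139 F415633) (tt N108157 (iv4 F461330)) (tt N55462 (iv5 F369919)) (tt N88027 (iv6 F381510)) (tt N84628 (iv7 F378097)))
theorem Q84551 : ∀ i, i < 84551 → P i := stepQ 84550 Q84550 (allL N84550 (tt N84628 (iv1 F369916)) (tt N84627 F369911) (tt N49912 (iv2 D187271)) (tt N114101 (iv3 F488560)) (tt N108230 (iv4 F461588)) (tt N95499 (iv5 F408370)) (tt N114121 F488635) (tt N84629 (iv7 F369914)))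
theorem Q84552 : ∀ i, i < 84552 → P i := stepQ 84551 Q84551 (allL N84551 (tt N59782 (iv1 F369670)) (tt N80364 F369669) (tt N95499 F408373) (tt N49913 F369667) (tt N79530 F369668) (tt N49912 (iv5 D187272)) (tt N79665 (iv6 F369672)) (tt N84630 (iv7 F369923)))
theorem Q84553 : ∀ i, i < 84553 → P i := stepQ 84552 Q84552 (allL N84552 (tt N52080 F379329) (tt N114122 F488643) (tt N114121 (iv2 F488637)) (tt N49914 F369673) (tt N108237 (iv4 F461629)) (tt N87535 (iv5 F379686)) (tt N49912 (iv6 D187273)) (tt N88129 (iv7 F381866)))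
theorem Q84554 : ∀ i, i < 84554 → P i := stepQ 84553 Q84553 (allL N84553 (tt N91184 F392197) (tt N111630 (iv0 F477222)) (tt N79849 F369674) (tt N79665 F369675) (tt N54960 F369676) (tt N52652 (iv5 F369677)) (tt N49913 (iv6 D187274)) (tt N87457 (iv7 F379392)))
theorem Q84555 : ∀ i, i < 84555 → P i := stepQ 84554 Q84554 (allL N84554 (tt N85678 F373501) (tt N111637 (iv0 F477254)) (tt N111665 F477377) (tt N87535 (iv3 F379685)) (tt N80236 F369682) (tt N49914 (iv5 D187275)) (tt N52652 F369681) (tt N97641 (iv7 F417734)))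
theorem Q84556 : ∀ i, i < 84556 → P i := stepQ 84555 Q84555 (allL N84555 (tt N96803 (iv1 F414027)) (tt N114104 (iv0 F488577)) (tt N58664 (iv2 F369685)) (tt N49915 (iv3 D187276)) (tt N114147 D217402) (tt N58606 F369683) (tt N84624 (iv6 F369903)) (tt N58661 F369684))
theorem Q84557 : ∀ i, i < 84557 → P i := stepQ 84556 Q84556 (allL N84556 (tt N79308 F369687) (tt N111625 (iv0 F477205)) (tt N111626 F477209) (tt N49916 (iv3 D187277)) (tt N104045 (iv4 F443916)) (tt N79259 F369686) (tt N114148 D217403) (tt N104044 F443914))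
theorem Q84558 : ∀ i, i < 84558 → P i := stepQ 84557 Q84557 (allL N84557 (tt N87232 (iv1 F378829)) (tt N88051 F381594) (tt N91913 (iv2 F394936)) (tt N114149 D217404) (tt N49916 (iv4 D187278)) (tt N83579 F369689) (tt N91667 (iv6 F393955)) (tt N55511 F369688))
theorem Q84559 : ∀ i, i < 84559 → P i := stepQ 84558 Q84558 (allL N84558 (tt N114133 (iv1 F488686)) (tt N114131 (iv0 F488683)) (tt N111684 (iv2 F477467)) (tt N114148 (iv3 F488749)) (tt N91667 (iv4 F393953)) (tt N114150 D217405) (tt N49916 (iv6 D187279)) (tt N84626 (iv7 F369910)))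
theorem Q84560 : ∀ i, i < 84560 → P i := stepQ 84559 Q84559 (allL N84559 (tt N88276 F382436) (tt N51914 F369694) (tt N49918 (iv2 D187280)) (tt N52058 F369690) (tt N52998 F369691) (tt N72673 F369692) (tt N51764 F369693) (tt N96896 (iv7 F414496)))
theorem Q84561 : ∀ i, i < 84561 → P i := stepQ 84560 Q84560 (allL N84560 (tt N49919 (iv1 D187281)) (tt N52058 F369695) (tt N52061 (iv2 F369697)) (tt N84646 (iv3 F370010)) (tt N86829 (iv4 F377336)) (tt N91505 (iv5 F393407)) (tt N84641 F369972) (tt N52062 F369696))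
theorem Q84562 : ∀ i, i < 84562 → P i := stepQ 84561 Q84561 (allL N84561 (tt N49920 (iv1 D187282)) (tt N84645 F370006) (tt N84643 (iv2 F369998)) (tt N114151 D217406) (tt N84918 (iv4 F371089)) (tt N55425 (iv5 F369999)) (tt N52115 (iv6 F370000)) (tt N84644 F369997))
theorem Q84563 : ∀ i, i < 84563 → P i := stepQ 84562 Q84562 (allL N84562 (tt N84644 (iv1 F369996)) (tt N84643 F369982) (tt N49920 (iv2 D187283)) (tt N84185 F369698) (tt N86830 (iv4 F377343)) (tt N91804 (iv5 F394488)) (tt N74198 F369699) (tt N84645 (iv7 F370004)))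
theorem Q84564 : ∀ i, i < 84564 → P i := stepQ 84563 Q84563 (allL N84563 (tt N52203 (iv1 F369703)) (tt N52206 F369702) (tt N91804 F394489) (tt N49921 F369700) (tt N103375 (iv4 F441340)) (tt N49920 (iv5 D187284)) (tt N97623 (iv6 F417646)) (tt N83522 F369701))
theorem Q84565 : ∀ i, i < 84565 → P i := stepQ 84564 Q84564 (allL N84564 (tt N84647 F370018) (tt N84646 F370007) (tt N49922 (iv2 D187285)) (tt N84650 (iv3 F370034)) (tt N90967 (iv4 F391407)) (tt N55550 F369704) (tt N84640 (iv6 F369966)) (tt N84648 (iv7 F370023)))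
theorem Q84566 : ∀ i, i < 84566 → P i := stepQ 84565 Q84565 (allL N84565 (tt N64247 F369707) (tt N80167 (iv0 F369709)) (tt N80168 F369708) (tt N49923 (iv3 D187286)) (tt N82012 F369705) (tt N84589 (iv5 F369788)) (tt N87458 (iv6 F379396)) (tt N79850 F369706))
theorem Q84567 : ∀ i, i < 84567 → P i := stepQ 84566 Q84566 (allL N84566 (tt N49924 (iv1 D187287)) (tt N87077 F378302) (tt N87080 (iv2 F378310)) (tt N96800 (iv3 F414012)) (tt N52227 (iv4 F369711)) (tt N104866 (iv5 F447702)) (tt N91826 (iv6 F394566)) (tt N52226 F369710))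
theorem Q84568 : ∀ i, i < 84568 → P i := stepQ 84567 Q84567 (allL N84567 (tt N87080 (iv1 F378313)) (tt N52226 (iv0 F369714)) (tt N87077 F378300) (tt N58404 F369712) (tt N52564 F369713) (tt N85672 (iv5 F373464)) (tt N84653 (iv6 F370052)) (tt N49924 (iv7 D187288)))
theorem Q84569 : ∀ i, i < 84569 → P i := stepQ 84568 Q84568 (allL N84568 (tt N84479 (iv1 F369718)) (tt N49925 (iv0 D187289)) (tt N84478 (iv2 F369717)) (tt N84643 (iv3 F369980)) (tt N66632 F369716) (tt N51641 F369715) (tt N84654 (iv6 F370059)) (tt N51795 F369719))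
theorem Q84570 : ∀ i, i < 84570 → P i := stepQ 84569 Q84569 (allL N84569 (tt N84478 (iv1 F369725)) (tt N51795 F369724) (tt N49925 (iv2 D187290)) (tt N52140 F369720) (tt N51346 F369721) (tt N52783 (iv5 F369726)) (tt N51344 F369722) (tt N84479 F369723))
theorem Q84571 : ∀ i, i < 84571 → P i := stepQ 84570 Q84570 (allL N84570 (tt N85946 (iv1 F374552)) (tt N82373 (iv0 F369731)) (tt N52783 F369728) (tt N49926 F369729) (tt N86938 (iv4 F377779)) (tt N49925 (iv5 D187291)) (tt N52786 (iv6 F369732)) (tt N84480 F369730))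
theorem Q84572 : ∀ i, i < 84572 → P i := stepQ 84571 Q84571 (allL N84571 (tt N87301 (iv1 F379013)) (tt N55293 (iv0 F369735)) (tt N52431 F369733) (tt N87310 (iv3 F379034)) (tt N90756 (iv4 F390740)) (tt N49928 (iv5 D187292)) (tt N111503 (iv6 F476632)) (tt N52460 F369734))
theorem Q84573 : ∀ i, i < 84573 → P i := stepQ 84572 Q84572 (allL N84572 (tt N52438 F369739) (tt N52461 (iv0 F369740)) (tt N49930 F369736) (tt N79025 F369737) (tt N88165 (iv4 F381972)) (tt N49929 (iv5 D187293)) (tt N88161 (iv6 F381960)) (tt N52456 F369738))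
theorem Q84574 : ∀ i, i < 84574 → P i := stepQ 84573 Q84573 (allL N84573 (tt N52456 (iv1 F369743)) (tt N49930 (iv0 D187294)) (tt N52438 (iv2 F369742)) (tt N87328 (iv3 F379049)) (tt N114152 D217407) (tt N51716 F369741) (tt N114153 D217408) (tt N52461 F369744))
theorem Q84575 : ∀ i, i < 84575 → P i := stepQ 84574 Q84574 (allL N84574 (tt N114154 D217409) (tt N114155 D217410) (tt N88165 F381974) (tt N99648 F425572) (tt N49930 (iv4 D187295)) (tt N95395 (iv5 F408104)) (tt N88169 (iv6 F381988)) (tt N52462 F369745))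
theorem Q84576 : ∀ i, i < 84576 → P i := stepQ 84575 Q84575 (allL N84575 (tt N114156 D217411) (tt N114157 D217412) (tt N88161 (iv2 F381958)) (tt N49932 F369746) (tt N88169 (iv4 F381987)) (tt N87275 (iv5 F378954)) (tt N49930 (iv6 D187296)) (tt N114158 D217413))
theorem Q84577 : ∀ i, i < 84577 → P i := stepQ 84576 Q84576 (allL N84576 (tt N110965 (iv1 F473996)) (tt N74155 (iv0 F394885)) (tt N108533 (iv2 F462975)) (tt N49931 (iv3 D187297)) (tt N99648 (iv4 F425571)) (tt N52237 F369747) (tt N99671 (iv6 F425679)) (tt N52484 F369748))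
theorem Q84578 : ∀ i, i < 84578 → P i := stepQ 84577 Q84577 (allL N84577 (tt N91600 F393749) (tt N87383 (iv0 F379182)) (tt N84496 F369749) (tt N99671 (iv3 F425678)) (tt N49932 F369750) (tt N99670 F425676) (tt N49931 (iv6 D187298)) (tt N108530 (iv7 F462965)))
theorem Q84579 : ∀ i, i < 84579 → P i := stepQ 84578 Q84578 (allL N84578 (tt N84499 (iv1 F369754)) (tt N49932 (iv0 D187299)) (tt N84497 (iv2 F393938)) (tt N114159 D217414) (tt N111499 (iv4 F476612)) (tt N114160 D217415) (tt N111498 F476610) (tt N84498 F393939))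
theorem Q84580 : ∀ i, i < 84580 → P i := stepQ 84579 Q84579 (allL N84579 (tt N49932 (iv1 D187300)) (tt N84499 F369751) (tt N84498 F393937) (tt N114161 D217416) (tt N88054 (iv4 F381606)) (tt N114162 D217417) (tt N87384 (iv6 F379188)) (tt N84497 (iv7 F393936)))
theorem Q84581 : ∀ i, i < 84581 → P i := stepQ 84580 Q84580 (allL N84580 (tt N84498 (iv1 F369755)) (tt N84497 F369756) (tt N84499 F369752) (tt N114158 (iv3 F488792)) (tt N108530 F462967) (tt N87300 (iv5 F379011)) (tt N52472 F369753) (tt N49932 (iv7 D187301)))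
theorem Q84582 : ∀ i, i < 84582 → P i := stepQ 84581 Q84581 (allL N84581 (tt N52510 F369762) (tt N52537 (iv0 F369761)) (tt N84033 F369757) (tt N49933 (iv3 D187302)) (tt N80678 F369760) (tt N114163 D217418) (tt N83859 F369758) (tt N52321 F369759))
theorem Q84583 : ∀ i, i < 84583 → P i := stepQ 84582 Q84582 (allL N84582 (tt N51796 F369766) (tt N85767 (iv0 F373852)) (tt N84500 F369763) (tt N51825 F369767) (tt N49933 (iv4 D187303)) (tt N114164 D217419) (tt N84500 F369764) (tt N52322 F369765))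
theorem Q84584 : ∀ i, i < 84584 → P i := stepQ 84583 Q84583 (allL N84583 (tt N52551 F369770) (tt N52526 (iv0 F369771)) (tt N84501 F369768) (tt N114163 (iv3 F488806)) (tt N114165 D217420) (tt N49933 (iv5 D187304)) (tt N114166 D217421) (tt N52323 F369769))
theorem Q84585 : ∀ i, i < 84585 → P i := stepQ 84584 Q84584 (allL N84584 (tt N52446 (iv1 F369773)) (tt N49934 (iv0 D187305)) (tt N84503 (iv2 F369774)) (tt N90645 (iv3 F390385)) (tt N114167 D217422) (tt N55437 F369772) (tt N114168 D217423) (tt N84502 (iv7 F369775)))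
theorem Q84586 : ∀ i, i < 84586 → P i := stepQ 84585 Q84585 (allL N84585 (tt N49934 (iv1 D187306)) (tt N52446 F369776) (tt N84502 (iv2 F369778)) (tt N89945 (iv3 F388068)) (tt N114169 D217424) (tt N55118 (iv5 F369779)) (tt N114170 D217425) (tt N84503 F369777))
theorem Q84587 : ∀ i, i < 84587 → P i := stepQ 84586 Q84586 (allL N84586 (tt N114171 D217426) (tt N108861 (iv0 F488839)) (tt N87338 (iv2 F379064)) (tt N114172 D217428) (tt N49934 (iv4 D187307)) (tt N114173 D217429) (tt N114174 D217430) (tt N84504 F369780))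
theorem Q84588 : ∀ i, i < 84588 → P i := stepQ 84587 Q84587 (allL N84587 (tt N114175 D217431) (tt N114176 D217432) (tt N87339 (iv2 F379065)) (tt N49937 F369781) (tt N114174 (iv4 F488845)) (tt N91352 (iv5 F392837)) (tt N49934 (iv6 D187308)) (tt N114177 D217433))
theorem Q84589 : ∀ i, i < 84589 → P i := stepQ 84588 Q84588 (allL N84588 (tt N50639 (iv1 F369785)) (tt N49935 (iv0 D187309)) (tt N83149 (iv2 F369784)) (tt N81537 (iv3 F369787)) (tt N114178 D217434) (tt N54915 F369783) (tt N81536 F369782) (tt N52330 F369786))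
theorem Q84590 : ∀ i, i < 84590 → P i := stepQ 84589 Q84589 (allL N84589 (tt N91986 F395260) (tt N91988 (iv0 F395270)) (tt N111852 (iv2 F478310)) (tt N49936 (iv3 D187310)) (tt N114172 (iv4 F488837)) (tt N84565 F369788) (tt N87379 F379166) (tt N84506 F369789))
theorem Q84591 : ∀ i, i < 84591 → P i := stepQ 84590 Q84590 (allL N84590 (tt N49961 (iv1 F369793)) (tt N49937 (iv0 D187311)) (tt N49958 F369935) (tt N114179 D217435) (tt N66715 F369791) (tt N67028 F369790) (tt N113568 (iv6 F486070)) (tt N49959 F369933))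
theorem Q84592 : ∀ i, i < 84592 → P i := stepQ 84591 Q84591 (allL N84591 (tt N49937 (iv1 D187312)) (tt N49961 F369794) (tt N49959 (iv2 F369932)) (tt N114180 D217436) (tt N66724 F369795) (tt N54986 (iv5 F369797)) (tt N66707 (iv6 F369796)) (tt N49958 (iv7 F369934)))
theorem Q84593 : ∀ i, i < 84593 → P i := stepQ 84592 Q84592 (allL N84592 (tt N49959 (iv1 F369802)) (tt N49958 F369803) (tt N49961 F369799) (tt N114177 (iv3 F488852)) (tt N52547 F369800) (tt N91354 (iv5 F392845)) (tt N79660 F369801) (tt N49937 (iv7 D187313)))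
theorem Q84594 : ∀ i, i < 84594 → P i := stepQ 84593 Q84593 (allL N84593 (tt N49938 (iv1 D187314)) (tt N81554 F369804) (tt N81536 F369809) (tt N84193 (iv3 F369807)) (tt N112070 (iv4 F479346)) (tt N55435 F369806) (tt N83149 (iv6 F369808)) (tt N52334 F369805))
theorem Q84595 : ∀ i, i < 84595 → P i := stepQ 84594 Q84594 (allL N84594 (tt N84541 F369812) (tt N49950 F369813) (tt N52540 F369810) (tt N111487 (iv3 F476570)) (tt N114181 D217437) (tt N49939 (iv5 D187315)) (tt N114182 D217438) (tt N52538 F369811))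
theorem Q84596 : ∀ i, i < 84596 → P i := stepQ 84595 Q84595 (allL N84595 (tt N86390 (iv1 F376053)) (tt N49963 (iv0 F369816)) (tt N52541 F369814) (tt N113064 (iv3 F483809)) (tt N79042 F369815) (tt N85267 (iv5 F372086)) (tt N49939 (iv6 D187316)) (tt N86389 (iv7 F376043)))
theorem Q84597 : ∀ i, i < 84597 → P i := stepQ 84596 Q84596 (allL N84596 (tt N49950 F369820) (tt N84541 (iv0 F369821)) (tt N52538 F369817) (tt N52508 F369818) (tt N114183 D217439) (tt N49940 (iv5 D187317)) (tt N111485 (iv6 F476563)) (tt N52540 F369819))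
theorem Q84598 : ∀ i, i < 84598 → P i := stepQ 84597 Q84597 (allL N84597 (tt N52543 F369825) (tt N52542 F369826) (tt N49942 F369822) (tt N84512 F369823) (tt N114083 (iv4 F488514)) (tt N49941 (iv5 D187318)) (tt N87958 (iv6 F381285)) (tt N52536 F369824))
theorem Q84599 : ∀ i, i < 84599 → P i := stepQ 84598 Q84598 (allL N84598 (tt N52536 (iv1 F369828)) (tt N49942 (iv0 D187319)) (tt N52543 (iv2 F369829)) (tt N114184 D217440) (tt N110966 (iv4 F473999)) (tt N54954 F369827) (tt N110965 (iv6 F473997)) (tt N52542 (iv7 F369830)))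
theorem Q84600 : ∀ i, i < 84600 → P i := stepQ 84599 Q84599 (allL N84599 (tt N49942 (iv1 D187320)) (tt N52536 F369831) (tt N52542 (iv2 F369834)) (tt N52514 F370216) (tt N114185 D217441) (tt N55492 F369833) (tt N114186 D217442) (tt N52543 F369832))
theorem Q84601 : ∀ i, i < 84601 → P i := stepQ 84600 Q84600 (allL N84600 (tt N87953 (iv1 F381275)) (tt N87950 (iv0 F381270)) (tt N114083 (iv2 F488512)) (tt N114187 D217443) (tt N49942 (iv4 D187321)) (tt N87406 (iv5 F379254)) (tt N111315 (iv6 F475778)) (tt N52544 F369835))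
theorem Q84602 : ∀ i, i < 84602 → P i := stepQ 84601 Q84601 (allL N84601 (tt N114188 D217444) (tt N114189 D217445) (tt N87958 (iv2 F381284)) (tt N49944 F369836) (tt N111315 (iv4 F475776)) (tt N87419 (iv5 F379286)) (tt N49942 (iv6 D187322)) (tt N111312 (iv7 F475764)))
theorem Q84603 : ∀ i, i < 84603 → P i := stepQ 84602 Q84602 (allL N84602 (tt N114153 (iv1 F488773)) (tt N114190 D217446) (tt N114191 D217447) (tt N49943 (iv3 D187323)) (tt N114187 (iv4 F488901)) (tt N55160 F369837) (tt N111884 F478487) (tt N52552 F369838))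
theorem Q84604 : ∀ i, i < 84604 → P i := stepQ 84603 Q84603 (allL N84603 (tt N91661 F393935) (tt N87214 (iv0 F378777)) (tt N84518 F369839) (tt N111884 (iv3 F478488)) (tt N49944 F369840) (tt N114192 D217448) (tt N49943 (iv6 D187324)) (tt N114193 D217449))
theorem Q84605 : ∀ i, i < 84605 → P i := stepQ 84604 Q84604 (allL N84604 (tt N84521 (iv1 F369844)) (tt N49944 (iv0 D187325)) (tt N84519 F378790) (tt N87447 F399905) (tt N91600 F393751) (tt N114194 D217450) (tt N88316 (iv6 F382562)) (tt N84520 F378788))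
theorem Q84606 : ∀ i, i < 84606 → P i := stepQ 84605 Q84605 (allL N84605 (tt N49944 (iv1 D187326)) (tt N84521 F369841) (tt N84520 (iv2 F378787)) (tt N114195 D217451) (tt N87383 (iv4 F379181)) (tt N114196 D217452) (tt N87217 F378786) (tt N84519 (iv7 F378789)))
theorem Q84607 : ∀ i, i < 84607 → P i := stepQ 84606 Q84606 (allL N84606 (tt N84520 (iv1 F369845)) (tt N84519 F369846) (tt N84521 F369842) (tt N111312 (iv3 F475762)) (tt N114193 (iv4 F488932)) (tt N87434 (iv5 F379322)) (tt N52550 F369843) (tt N49944 (iv7 D187327)))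
theorem Q84608 : ∀ i, i < 84608 → P i := stepQ 84607 Q84607 (allL N84607 (tt N103078 (iv1 F439976)) (tt N101603 (iv0 F436686)) (tt N73604 F369850) (tt N49945 (iv3 D187328)) (tt N49955 F369847) (tt N73579 (iv5 F369849)) (tt N87422 (iv6 F379297)) (tt N73608 F369848))
theorem Q84609 : ∀ i, i < 84609 → P i := stepQ 84608 Q84608 (allL N84608 (tt N52443 F369855) (tt N52453 F369856) (tt N54181 F369851) (tt N73579 F369852) (tt N52450 F369853) (tt N49945 (iv5 D187329)) (tt N114197 D217453) (tt N54179 F369854))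
theorem Q84610 : ∀ i, i < 84610 → P i := stepQ 84609 Q84609 (allL N84609 (tt N114198 D217454) (tt N93920 (iv0 F402435)) (tt N87341 (iv2 F379067)) (tt N87422 (iv3 F379296)) (tt N49946 F369857) (tt N114199 D217455) (tt N49945 (iv6 D187330)) (tt N114200 D217456))
theorem Q84611 : ∀ i, i < 84611 → P i := stepQ 84610 Q84610 (allL N84610 (tt N87344 (iv1 F379082)) (tt N49946 (iv0 D187331)) (tt N87342 (iv2 F379073)) (tt N110951 (iv3 F473933)) (tt N114201 D217457) (tt N91566 (iv5 F393676)) (tt N113058 (iv6 F483779)) (tt N87343 (iv7 F379075)))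
theorem Q84612 : ∀ i, i < 84612 → P i := stepQ 84611 Q84611 (allL N84611 (tt N49946 (iv1 D187332)) (tt N87344 F379081) (tt N87343 (iv2 F379077)) (tt N74110 F369859) (tt N108968 F464713) (tt N74109 (iv5 F369858)) (tt N87421 (iv6 F379294)) (tt N87342 F379072))
theorem Q84613 : ∀ i, i < 84613 → P i := stepQ 84612 Q84612 (allL N84612 (tt N87343 (iv1 F379074)) (tt N87342 F379078) (tt N87344 (iv2 F379080)) (tt N49961 F369860) (tt N114200 (iv4 F488956)) (tt N85629 (iv5 F373272)) (tt N84533 F369861) (tt N49946 (iv7 D187333)))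
theorem Q84614 : ∀ i, i < 84614 → P i := stepQ 84613 Q84613 (allL N84613 (tt N84510 (iv1 F369866)) (tt N84509 F369865) (tt N49947 (iv2 D187334)) (tt N84541 F369862) (tt N107229 (iv4 F457553)) (tt N55499 F369863) (tt N114202 D217458) (tt N84534 F369864))
theorem Q84615 : ∀ i, i < 84615 → P i := stepQ 84614 Q84614 (allL N84614 (tt N114203 D217459) (tt N112457 (iv0 F481177)) (tt N114202 (iv2 F488963)) (tt N49949 F369867) (tt N107236 (iv4 F457584)) (tt N52657 F369868) (tt N49947 (iv6 D187335)) (tt N114204 D217460))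
theorem Q84616 : ∀ i, i < 84616 → P i := stepQ 84615 Q84615 (allL N84615 (tt N74073 (iv1 F404496)) (tt N114205 D217461) (tt N97131 (iv2 F415598)) (tt N49948 (iv3 D187336)) (tt N57660 F369869) (tt N55475 F369870) (tt N111467 (iv6 F476474)) (tt N84536 F369871))
theorem Q84617 : ∀ i, i < 84617 → P i := stepQ 84616 Q84616 (allL N84616 (tt N80265 (iv1 F369876)) (tt N49949 (iv0 D187337)) (tt N84544 (iv2 F369874)) (tt N114206 D217462) (tt N79660 F369872) (tt N88211 (iv5 F382195)) (tt N52547 F369873) (tt N84507 F369875))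
theorem Q84618 : ∀ i, i < 84618 → P i := stepQ 84617 Q84617 (allL N84617 (tt N84507 (iv1 F369881)) (tt N84544 F369882) (tt N80265 F369877) (tt N114204 (iv3 F488970)) (tt N80264 F369878) (tt N52661 F369879) (tt N84540 F369880) (tt N49949 (iv7 D187338)))
theorem Q84619 : ∀ i, i < 84619 → P i := stepQ 84618 Q84618 (allL N84618 (tt N52540 (iv1 F369887)) (tt N52538 F369886) (tt N49950 (iv2 D187339)) (tt N84534 F369883) (tt N114128 (iv4 F488669)) (tt N55238 F369884) (tt N94444 F404504) (tt N84541 F369885))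
theorem Q84620 : ∀ i, i < 84620 → P i := stepQ 84619 Q84619 (allL N84619 (tt N87948 (iv1 F381269)) (tt N87944 (iv0 F381259)) (tt N114128 (iv2 F488667)) (tt N111507 (iv3 F476643)) (tt N49950 (iv4 D187340)) (tt N114207 D217463) (tt N108528 F462960) (tt N84542 F369888))
theorem Q84621 : ∀ i, i < 84621 → P i := stepQ 84620 Q84620 (allL N84620 (tt N114208 D217464) (tt N114209 D217465) (tt N84537 F369889) (tt N80269 F369890) (tt N49952 F369891) (tt N114210 D217466) (tt N49951 (iv6 D187341)) (tt N80266 F369892))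
theorem Q84622 : ∀ i, i < 84622 → P i := stepQ 84621 Q84621 (allL N84621 (tt N84540 (iv1 F369899)) (tt N49952 (iv0 D187342)) (tt N84538 (iv2 F402396)) (tt N91385 F440193) (tt N114211 D217467) (tt N103127 (iv5 F440192)) (tt N114211 F489018) (tt N84539 F402395))
theorem Q84623 : ∀ i, i < 84623 → P i := stepQ 84622 Q84622 (allL N84622 (tt N49952 (iv1 D187343)) (tt N84540 F369893) (tt N84539 F402393) (tt N114212 D217468) (tt N114213 D217469) (tt N93910 (iv5 F402392)) (tt N114214 D217470) (tt N84538 (iv7 F402394)))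
theorem Q84624 : ∀ i, i < 84624 → P i := stepQ 84623 Q84623 (allL N84623 (tt N84539 (iv1 F369900)) (tt N84538 F369901) (tt N84540 F369894) (tt N60132 F369895) (tt N80266 F369896) (tt N55248 F369897) (tt N80265 F369898) (tt N49952 (iv7 D187344)))
theorem Q84625 : ∀ i, i < 84625 → P i := stepQ 84624 Q84624 (allL N84624 (tt N114215 D217471) (tt N111565 (iv0 F476950)) (tt N95664 (iv2 F409042)) (tt N49953 (iv3 D187345)) (tt N114216 D217472) (tt N55481 F369902) (tt N84555 F369903) (tt N84545 F369904))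
theorem Q84626 : ∀ i, i < 84626 → P i := stepQ 84625 Q84625 (allL N84625 (tt N104903 (iv1 F447862)) (tt N104902 F447860) (tt N104904 (iv2 F447867)) (tt N49954 (iv3 D187346)) (tt N74104 F369905) (tt N55479 F369906) (tt N114217 D217473) (tt N84547 F369907))
theorem Q84627 : ∀ i, i < 84627 → P i := stepQ 84626 Q84626 (allL N84626 (tt N114211 F489019) (tt N114213 (iv0 F489024)) (tt N84546 F369908) (tt N114217 (iv3 F489042)) (tt N55298 F369909) (tt N114127 (iv5 F488666)) (tt N49954 (iv6 D187347)) (tt N84558 F369910))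
theorem Q84628 : ∀ i, i < 84628 → P i := stepQ 84627 Q84627 (allL N84627 (tt N84550 (iv1 F369911)) (tt N49955 (iv0 D187348)) (tt N84549 (iv2 F378098)) (tt N106812 F455786) (tt N100120 (iv4 F427556)) (tt N87029 F378103) (tt N84531 (iv6 F378104)) (tt N84548 (iv7 F378099)))
theorem Q84629 : ∀ i, i < 84629 → P i := stepQ 84628 Q84628 (allL N84628 (tt N49955 (iv1 D187349)) (tt N84550 F369916) (tt N84548 F378095) (tt N108527 (iv3 F462955)) (tt N103076 (iv4 F439972)) (tt N87028 (iv5 F378090)) (tt N114150 (iv6 F488754)) (tt N84549 F378097))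
theorem Q84630 : ∀ i, i < 84630 → P i := stepQ 84629 Q84629 (allL N84629 (tt N84549 (iv1 F369918)) (tt N84548 F369915) (tt N49955 (iv2 D187350)) (tt N111852 (iv3 F478311)) (tt N73604 F369912) (tt N74401 (iv5 F369917)) (tt N52519 F369913) (tt N84550 F369914))
theorem Q84631 : ∀ i, i < 84631 → P i := stepQ 84630 Q84630 (allL N84630 (tt N58523 (iv1 F369926)) (tt N76169 (iv0 F369925)) (tt N74401 F369920) (tt N49956 F369921) (tt N74395 F369924) (tt N49955 (iv5 D187351)) (tt N51976 F369922) (tt N84551 F369923))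
theorem Q84632 : ∀ i, i < 84632 → P i := stepQ 84631 Q84631 (allL N84631 (tt N49957 (iv1 D187352)) (tt N52547 F369927) (tt N66707 (iv2 F369930)) (tt N111782 F477948) (tt N87239 (iv4 F378853)) (tt N52025 F369929) (tt N49959 F369931) (tt N52024 F369928))
theorem Q84633 : ∀ i, i < 84633 → P i := stepQ 84632 Q84632 (allL N84632 (tt N106101 F453113) (tt N87371 (iv0 F453199)) (tt N114218 D217474) (tt N49958 (iv3 D187353)) (tt N114219 D217475) (tt N103960 F443534) (tt N114220 D217476) (tt N114180 (iv7 F488869)))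
theorem Q84634 : ∀ i, i < 84634 → P i := stepQ 84633 Q84633 (allL N84633 (tt N52467 (iv1 F369940)) (tt N52464 F369939) (tt N66715 F369936) (tt N114221 D217477) (tt N49958 (iv4 D187354)) (tt N66679 F369938) (tt N114222 D217478) (tt N66724 F369937))
theorem Q84635 : ∀ i, i < 84635 → P i := stepQ 84634 Q84634 (allL N84634 (tt N66920 (iv1 F369946)) (tt N67031 (iv0 F369945)) (tt N67028 F369941) (tt N103960 (iv3 F443531)) (tt N82150 F369943) (tt N49958 (iv5 D187355)) (tt N82148 (iv6 F369944)) (tt N54986 F369942))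
theorem Q84636 : ∀ i, i < 84636 → P i := stepQ 84635 Q84635 (allL N84635 (tt N114214 F489029) (tt N114223 D217479) (tt N113568 (iv2 F486068)) (tt N114220 (iv3 F489053)) (tt N114222 (iv4 F489066)) (tt N86770 F377121) (tt N49958 (iv6 D187356)) (tt N109323 (iv7 F466388)))
theorem Q84637 : ∀ i, i < 84637 → P i := stepQ 84636 Q84636 (allL N84636 (tt N114182 F488877) (tt N114224 D217480) (tt N114225 D217481) (tt N49959 (iv3 D187357)) (tt N108506 (iv4 F462884)) (tt N54567 (iv5 F378408)) (tt N111782 (iv6 F477949)) (tt N114179 (iv7 F488863)))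
theorem Q84638 : ∀ i, i < 84638 → P i := stepQ 84637 Q84637 (allL N84637 (tt N52464 (iv1 F369951)) (tt N52467 F369950) (tt N66724 F369947) (tt N113708 (iv3 F486755)) (tt N49959 (iv4 D187358)) (tt N66681 F369949) (tt N87239 F378854) (tt N66715 F369948))
theorem Q84639 : ∀ i, i < 84639 → P i := stepQ 84638 Q84638 (allL N84638 (tt N67031 F369955) (tt N66920 F369954) (tt N54986 F369952) (tt N54567 F378407) (tt N110044 (iv4 F469699)) (tt N49959 (iv5 D187359)) (tt N54564 (iv6 F378405)) (tt N67028 F369953))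
theorem Q84640 : ∀ i, i < 84640 → P i := stepQ 84639 Q84639 (allL N84639 (tt N52628 (iv1 F369960)) (tt N49962 (iv0 D187360)) (tt N52634 (iv2 F369959)) (tt N74050 (iv3 F369962)) (tt N109041 (iv4 F465060)) (tt N65621 F369957) (tt N65622 F369958) (tt N52633 F369961))
theorem Q84641 : ∀ i, i < 84641 → P i := stepQ 84640 Q84640 (allL N84640 (tt N52634 (iv1 F369969)) (tt N52633 F369968) (tt N49962 (iv2 D187361)) (tt N86390 (iv3 F376049)) (tt N83177 F369964) (tt N55027 F369965) (tt N84564 F369966) (tt N52628 F369967))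
theorem Q84642 : ∀ i, i < 84642 → P i := stepQ 84641 Q84641 (allL N84641 (tt N49963 (iv1 D187362)) (tt N86390 F376054) (tt N86389 F376041) (tt N74172 (iv3 F369971)) (tt N86132 (iv4 F375193)) (tt N85268 F372096) (tt N84560 (iv6 F369972)) (tt N52541 F369970))
theorem Q84643 : ∀ i, i < 84643 → P i := stepQ 84642 Q84642 (allL N84642 (tt N52541 F369977) (tt N86389 F376042) (tt N49963 (iv2 D187363)) (tt N52628 F369973) (tt N51572 F369974) (tt N55036 F369975) (tt N50677 F369976) (tt N86390 (iv7 F376052)))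
theorem Q84644 : ∀ i, i < 84644 → P i := stepQ 84643 Q84643 (allL N84643 (tt N84562 (iv1 F369982)) (tt N49966 (iv0 D187364)) (tt N84561 F369998) (tt N84568 F369980) (tt N84425 F369981) (tt N52207 F369979) (tt N85621 (iv6 F373235)) (tt N52408 (iv7 F369987)))
theorem Q84645 : ∀ i, i < 84645 → P i := stepQ 84644 Q84644 (allL N84644 (tt N49966 (iv1 D187365)) (tt N84562 F369996) (tt N52408 (iv2 F369995)) (tt N112395 F480912) (tt N50733 (iv4 F369993)) (tt N52208 F369992) (tt N50731 F369994) (tt N84561 (iv7 F369997)))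
theorem Q84646 : ∀ i, i < 84646 → P i := stepQ 84645 Q84645 (allL N84645 (tt N84561 (iv1 F370006)) (tt N52408 F370005) (tt N49966 (iv2 D187366)) (tt N52702 F370001) (tt N51535 F370002) (tt N87722 (iv5 F380257)) (tt N49984 F370003) (tt N84562 F370004))
theorem Q84647 : ∀ i, i < 84647 → P i := stepQ 84646 Q84646 (allL N84646 (tt N84564 (iv1 F370007)) (tt N49968 (iv0 D187367)) (tt N81556 F370009) (tt N84560 F370010) (tt N112396 (iv4 F480916)) (tt N55155 F370012) (tt N74172 (iv6 F370008)) (tt N52509 F370011))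
theorem Q84648 : ∀ i, i < 84648 → P i := stepQ 84647 Q84647 (allL N84647 (tt N49968 (iv1 D187368)) (tt N84564 (iv0 F370018)) (tt N52509 F370016) (tt N79246 (iv3 F370014)) (tt N112397 (iv4 F480923)) (tt N55156 (iv5 F370015)) (tt N52495 F370017) (tt N81556 F370013))
theorem Q84649 : ∀ i, i < 84649 → P i := stepQ 84648 Q84648 (allL N84648 (tt N81556 (iv1 F370025)) (tt N52509 F370024) (tt N49968 (iv2 D187369)) (tt N52645 F370019) (tt N71955 F370020) (tt N55464 F370021) (tt N50675 F370022) (tt N84564 F370023))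
theorem Q84650 : ∀ i, i < 84650 → P i := stepQ 84649 Q84649 (allL N84649 (tt N49969 (iv1 D187370)) (tt N52645 (iv0 F370033)) (tt N52648 F370030) (tt N65622 F370031) (tt N79012 F370028) (tt N55534 F370032) (tt N74050 (iv6 F370029)) (tt N52649 F370027))
theorem Q84651 : ∀ i, i < 84651 → P i := stepQ 84650 Q84650 (allL N84650 (tt N52649 (iv1 F370038)) (tt N52648 F370037) (tt N49969 (iv2 D187371)) (tt N84564 F370034) (tt N97906 (iv4 F418744)) (tt N55472 F370035) (tt N86390 (iv6 F376051)) (tt N52645 F370036))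
theorem Q84652 : ∀ i, i < 84652 → P i := stepQ 84651 Q84651 (allL N84651 (tt N91305 (iv1 F392644)) (tt N49971 (iv0 D187372)) (tt N81572 (iv2 F370040)) (tt N79250 (iv3 F370042)) (tt N78656 F370039) (tt N100549 (iv5 F429431)) (tt N93163 F399743) (tt N81576 (iv7 F370041)))
theorem Q84653 : ∀ i, i < 84653 → P i := stepQ 84652 Q84652 (allL N84652 (tt N49971 (iv1 D187373)) (tt N91305 F392643) (tt N81576 F370049) (tt N114226 D217482) (tt N78655 (iv4 F370048)) (tt N114227 D217483) (tt N111630 (iv6 F477221)) (tt N81572 F370047))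
theorem Q84654 : ∀ i, i < 84654 → P i := stepQ 84653 Q84653 (allL N84653 (tt N81576 F370053) (tt N81572 F370054) (tt N91305 (iv2 F392638)) (tt N64133 F370050) (tt N85712 (iv4 F373618)) (tt N84533 F370051) (tt N84567 F370052) (tt N49971 (iv7 D187374)))
theorem Q84655 : ∀ i, i < 84655 → P i := stepQ 84654 Q84654 (allL N84654 (tt N52683 (iv1 F370061)) (tt N49972 (iv0 D187375)) (tt N52688 (iv2 F370060)) (tt N85621 (iv3 F373233)) (tt N51408 F370058) (tt N56938 F370057) (tt N84568 F370059) (tt N52687 F370062))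
theorem Q84656 : ∀ i, i < 84656 → P i := stepQ 84655 Q84655 (allL N84655 (tt N69444 F370068) (tt N103983 F443647) (tt N83226 F370063) (tt N60548 F370064) (tt N55044 F370065) (tt N80929 F370066) (tt N49973 (iv6 D187376)) (tt N71577 F370067))
theorem Q84657 : ∀ i, i < 84657 → P i := stepQ 84656 Q84656 (allL N84656 (tt N51785 F370074) (tt N82603 (iv0 F370075)) (tt N49977 F370071) (tt N82596 F370072) (tt N86580 (iv4 F376533)) (tt N49976 (iv5 D187377)) (tt N96224 (iv6 F411579)) (tt N83574 F370073))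
theorem Q84658 : ∀ i, i < 84658 → P i := stepQ 84657 Q84657 (allL N84657 (tt N114228 D217484) (tt N51376 (iv0 F376584)) (tt N86580 (iv2 F376532)) (tt N88326 (iv3 F382601)) (tt N49977 (iv4 D187378)) (tt N86435 F376207) (tt N114229 D217485) (tt N83575 F370076))
theorem Q84659 : ∀ i, i < 84659 → P i := stepQ 84658 Q84658 (allL N84658 (tt N112692 (iv1 F482195)) (tt N103982 (iv0 F443642)) (tt N96224 (iv2 F411578)) (tt N49978 F370077) (tt N114229 (iv4 F489104)) (tt N89922 (iv5 F388004)) (tt N49977 (iv6 D187379)) (tt N96221 (iv7 F411568)))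
theorem Q84660 : ∀ i, i < 84660 → P i := stepQ 84659 Q84659 (allL N84659 (tt N82601 (iv1 F370085)) (tt N49978 (iv0 D187380)) (tt N82599 F377487) (tt N51559 (iv3 F370079)) (tt N56557 F370080) (tt N97172 (iv5 F415745)) (tt N51558 F370078) (tt N82600 (iv7 F377488)))
theorem Q84661 : ∀ i, i < 84661 → P i := stepQ 84660 Q84660 (allL N84660 (tt N49978 (iv1 D187381)) (tt N82601 F370081) (tt N82600 (iv2 F377490)) (tt N114230 D217486) (tt N56552 (iv4 F370082)) (tt N101926 (iv5 F434972)) (tt N104411 F445651) (tt N82599 F377489))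
theorem Q84662 : ∀ i, i < 84662 → P i := stepQ 84661 Q84661 (allL N84661 (tt N82600 (iv1 F370086)) (tt N82599 F370087) (tt N82601 F370083) (tt N96221 (iv3 F411567)) (tt N88327 (iv4 F382603)) (tt N91495 (iv5 F393372)) (tt N83579 F370084) (tt N49978 (iv7 D187382)))
theorem Q84663 : ∀ i, i < 84663 → P i := stepQ 84662 Q84662 (allL N84662 (tt N81658 (iv1 F370092)) (tt N81661 (iv0 F370093)) (tt N50522 (iv2 F370091)) (tt N49979 (iv3 D187383)) (tt N50150 F370090) (tt N87877 (iv5 F380937)) (tt N54460 F370088) (tt N50525 F370089))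
theorem Q84664 : ∀ i, i < 84664 → P i := stepQ 84663 Q84663 (allL N84663 (tt N91415 F393038) (tt N84676 (iv0 F370174)) (tt N82818 F370094) (tt N83518 F370096) (tt N49979 (iv4 D187384)) (tt N114231 D217487) (tt N91832 (iv6 F394604)) (tt N82816 F370095))
theorem Q84665 : ∀ i, i < 84665 → P i := stepQ 84664 Q84664 (allL N84664 (tt N81548 (iv1 F370103)) (tt N83587 (iv0 F370102)) (tt N53907 (iv2 F370101)) (tt N49980 (iv3 D187385)) (tt N53409 F370100) (tt N87880 (iv5 F380944)) (tt N53876 F370098) (tt N82817 F370099))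
theorem Q84666 : ∀ i, i < 84666 → P i := stepQ 84665 Q84665 (allL N84665 (tt N84676 (iv1 F370175)) (tt N91415 (iv0 F393037)) (tt N82816 F370105) (tt N52239 F370108) (tt N49980 (iv4 D187386)) (tt N114232 D217488) (tt N54910 F370106) (tt N82818 F370107))
theorem Q84667 : ∀ i, i < 84667 → P i := stepQ 84666 Q84666 (allL N84666 (tt N114233 D217489) (tt N114234 D217490) (tt N72324 F370116) (tt N52661 F370117) (tt N49981 (iv4 D187387)) (tt N114204 (iv5 F488972)) (tt N72315 (iv6 F370119)) (tt N52657 F370118))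
theorem Q84668 : ∀ i, i < 84668 → P i := stepQ 84667 Q84667 (allL N84667 (tt N101818 (iv1 F434495)) (tt N101814 (iv0 F434471)) (tt N72323 F370120) (tt N49982 F370121) (tt N72315 F370122) (tt N81553 F370123) (tt N49981 (iv6 D187388)) (tt N109805 (iv7 F468707)))
theorem Q84669 : ∀ i, i < 84669 → P i := stepQ 84668 Q84668 (allL N84668 (tt N50003 (iv1 F370127)) (tt N49982 (iv0 D187389)) (tt N50001 (iv2 F370125)) (tt N97355 (iv3 F416464)) (tt N69233 F370124) (tt N104251 (iv5 F444937)) (tt N87605 (iv6 F379865)) (tt N50002 (iv7 F370126)))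
theorem Q84670 : ∀ i, i < 84670 → P i := stepQ 84669 Q84669 (allL N84669 (tt N49982 (iv1 D187390)) (tt N50003 F370131) (tt N50002 (iv2 F370133)) (tt N114235 D217491) (tt N69257 (iv4 F370134)) (tt N104252 (iv5 F444946)) (tt N85678 (iv6 F373499)) (tt N50001 F370132))
theorem Q84671 : ∀ i, i < 84671 → P i := stepQ 84670 Q84670 (allL N84670 (tt N50002 (iv1 F370138)) (tt N50001 F370139) (tt N50003 F370135) (tt N109805 (iv3 F468704)) (tt N68781 F370136) (tt N87820 (iv5 F380660)) (tt N82820 F370137) (tt N49982 (iv7 D187391)))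
theorem Q84672 : ∀ i, i < 84672 → P i := stepQ 84671 Q84671 (allL N84671 (tt N51748 F370141) (tt N51745 (iv0 F370142)) (tt N86569 (iv2 F376499)) (tt N49983 (iv3 D187392)) (tt N86569 (iv4 F376500)) (tt N112874 (iv5 F483083)) (tt N86569 (iv6 F376501)) (tt N52399 F370140))
theorem Q84673 : ∀ i, i < 84673 → P i := stepQ 84672 Q84672 (allL N84672 (tt N52685 F370148) (tt N52684 F370147) (tt N49985 F370143) (tt N52701 F370144) (tt N71598 F370145) (tt N49984 (iv5 D187393)) (tt N71598 (iv6 F370151)) (tt N52682 F370146))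
theorem Q84674 : ∀ i, i < 84674 → P i := stepQ 84673 Q84673 (allL N84673 (tt N49985 (iv1 D187394)) (tt N52682 F370152) (tt N52684 (iv2 F370156)) (tt N114236 D217492) (tt N62661 F370155) (tt N49988 F370154) (tt N114237 D217493) (tt N52685 F370153))
theorem Q84675 : ∀ i, i < 84675 → P i := stepQ 84674 Q84674 (allL N84674 (tt N71596 F370160) (tt N71595 F370161) (tt N71598 F370157) (tt N49986 F370158) (tt N49985 (iv4 D187395)) (tt N111064 (iv5 F474488)) (tt N49985 (iv6 F370162)) (tt N52686 F370159))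
theorem Q84676 : ∀ i, i < 84676 → P i := stepQ 84675 Q84675 (allL N84675 (tt N55385 F370167) (tt N50347 (iv0 F370168)) (tt N55384 F370163) (tt N55505 F370164) (tt N79978 F370165) (tt N52412 (iv5 F370169)) (tt N49987 (iv6 D187396)) (tt N51638 F370166))
theorem Q84677 : ∀ i, i < 84677 → P i := stepQ 84676 Q84676 (allL N84676 (tt N84663 F370174) (tt N84665 F370175) (tt N83730 F370170) (tt N49988 (iv3 D187397)) (tt N83730 F370171) (tt N114236 (iv5 F489147)) (tt N51639 F370172) (tt N82595 F370173))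
theorem Q84678 : ∀ i, i < 84678 → P i := stepQ 84677 Q84677 (allL N84677 (tt N82597 F370179) (tt N51787 F370180) (tt N49990 F370176) (tt N83574 F370177) (tt N114238 D217494) (tt N49989 (iv5 D187398)) (tt N74101 F370181) (tt N82596 F370178))
theorem Q84679 : ∀ i, i < 84679 → P i := stepQ 84678 Q84678 (allL N84678 (tt N103970 F443580) (tt N82476 F370184) (tt N114238 (iv2 F489157)) (tt N78510 F370182) (tt N49990 (iv4 D187399)) (tt N111112 (iv5 F474721)) (tt N74065 F425641) (tt N82598 F370183))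
theorem Q84680 : ∀ i, i < 84680 → P i := stepQ 84679 Q84679 (allL N84679 (tt N62619 F370187) (tt N74103 F370188) (tt N74101 F370185) (tt N49991 F370186) (tt N74065 F425640) (tt N91912 (iv5 F394935)) (tt N49990 (iv6 D187400)) (tt N74100 F415640))
theorem Q84681 : ∀ i, i < 84681 → P i := stepQ 84680 Q84680 (allL N84680 (tt N83579 (iv1 F370199)) (tt N49991 (iv0 D187401)) (tt N83577 F370193) (tt N74347 (iv3 F370191)) (tt N79737 F370189) (tt N111495 (iv5 F476597)) (tt N74344 F370190) (tt N83578 (iv7 F370192)))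
theorem Q84682 : ∀ i, i < 84682 → P i := stepQ 84681 Q84681 (allL N84681 (tt N49991 (iv1 D187402)) (tt N83579 F370195) (tt N83578 (iv2 F370198)) (tt N104984 (iv3 F448267)) (tt N79736 F370197) (tt N111498 (iv5 F476608)) (tt N114239 D217495) (tt N83577 F370196))
theorem Q84683 : ∀ i, i < 84683 → P i := stepQ 84682 Q84682 (allL N84682 (tt N83578 (iv1 F370202)) (tt N83577 F370203) (tt N83579 F370200) (tt N74100 F415639) (tt N88324 (iv4 F382596)) (tt N91913 (iv5 F394938)) (tt N82601 F370201) (tt N49991 (iv7 D187403)))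
theorem Q84684 : ∀ i, i < 84684 → P i := stepQ 84683 Q84683 (allL N84683 (tt N84879 (iv1 F370978)) (tt N84871 (iv0 F370940)) (tt N83581 F370204) (tt N84886 (iv3 F371002)) (tt N49992 (iv4 D187404)) (tt N113843 (iv5 F487400)) (tt N89940 F388060) (tt N83580 F370205))
theorem Q84685 : ∀ i, i < 84685 → P i := stepQ 84684 Q84684 (allL N84684 (tt N52627 F370210) (tt N49995 (iv0 F370211)) (tt N52630 F370207) (tt N74047 F370208) (tt N112444 (iv4 F481133)) (tt N49992 (iv5 D187405)) (tt N112851 (iv6 F482962)) (tt N52629 F370209))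
theorem Q84686 : ∀ i, i < 84686 → P i := stepQ 84685 Q84685 (allL N84685 (tt N55389 (iv1 F370220)) (tt N53611 (iv0 F370219)) (tt N55388 (iv2 F370217)) (tt N55492 F370213) (tt N89940 (iv4 F388059)) (tt N52514 (iv5 F370215)) (tt N49992 (iv6 D187406)) (tt N54945 F370214))
theorem Q84687 : ∀ i, i < 84687 → P i := stepQ 84686 Q84686 (allL N84686 (tt N50522 F370227) (tt N50525 F370226) (tt N81661 F370221) (tt N49993 (iv3 D187407)) (tt N83118 F370222) (tt N80663 (iv5 F370225)) (tt N53856 F370223) (tt N81658 F370224))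
theorem Q84688 : ∀ i, i < 84688 → P i := stepQ 84687 Q84687 (allL N84687 (tt N49995 F370231) (tt N52627 (iv0 F370232)) (tt N52629 F370228) (tt N80663 F370229) (tt N114240 D217496) (tt N49993 (iv5 D187408)) (tt N95296 (iv6 F407767)) (tt N52630 F370230))
theorem Q84689 : ∀ i, i < 84689 → P i := stepQ 84688 Q84688 (allL N84688 (tt N52630 (iv1 F370238)) (tt N52629 F370237) (tt N49995 (iv2 D187409)) (tt N52644 F370233) (tt N114241 D217497) (tt N50675 F370234) (tt N81591 F370235) (tt N52627 F370236))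
theorem Q84690 : ∀ i, i < 84690 → P i := stepQ 84689 Q84689 (allL N84689 (tt N85716 F373638) (tt N114242 D217498) (tt N114241 (iv2 F489170)) (tt N111526 (iv3 F476740)) (tt N49995 (iv4 D187410)) (tt N114243 D217499) (tt N113567 (iv6 F486065)) (tt N52631 F370239))
theorem Q84691 : ∀ i, i < 84691 → P i := stepQ 84690 Q84690 (allL N84690 (tt N52654 (iv1 F370250)) (tt N49996 (iv0 D187411)) (tt N52652 (iv2 F370241)) (tt N78673 (iv3 F370242)) (tt N111660 (iv4 F477351)) (tt N79849 F370240) (tt N111665 (iv6 F477381)) (tt N52653 (iv7 F370245)))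
theorem Q84692 : ∀ i, i < 84692 → P i := stepQ 84691 Q84691 (allL N84691 (tt N49996 (iv1 D187412)) (tt N52654 F370246) (tt N52653 (iv2 F370249)) (tt N87135 (iv3 F378494)) (tt N111661 (iv4 F477359)) (tt N87457 (iv5 F379391)) (tt N52595 (iv6 F370248)) (tt N52652 F370247))
theorem Q84693 : ∀ i, i < 84693 → P i := stepQ 84692 Q84692 (allL N84692 (tt N52653 (iv1 F370255)) (tt N52652 F370256) (tt N52654 F370251) (tt N81587 F370252) (tt N111527 (iv4 F476746)) (tt N55471 F370253) (tt N52641 F370254) (tt N49996 (iv7 D187413)))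
theorem Q84694 : ∀ i, i < 84694 → P i := stepQ 84693 Q84693 (allL N84693 (tt N52641 (iv1 F370262)) (tt N49998 (iv0 D187414)) (tt N52638 F379936) (tt N74043 F379934) (tt N111657 (iv4 F477334)) (tt N91323 (iv5 F392734)) (tt N91592 (iv6 F393726)) (tt N52639 (iv7 F379935)))
theorem Q84695 : ∀ i, i < 84695 → P i := stepQ 84694 Q84694 (allL N84694 (tt N49998 (iv1 D187415)) (tt N52641 F370257) (tt N52639 (iv2 F379937)) (tt N114244 D217500) (tt N111658 (iv4 F477341)) (tt N91322 (iv5 F392729)) (tt N114245 D217501) (tt N52638 F379938))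
theorem Q84696 : ∀ i, i < 84696 → P i := stepQ 84695 Q84695 (allL N84695 (tt N52639 (iv1 F370263)) (tt N52638 F370264) (tt N52641 F370258) (tt N60283 F370259) (tt N111653 (iv4 F477318)) (tt N55043 F370260) (tt N52654 F370261) (tt N49998 (iv7 D187416)))
theorem Q84697 : ∀ i, i < 84697 → P i := stepQ 84696 Q84696 (allL N84696 (tt N83603 (iv1 F370265)) (tt N49999 (iv0 D187417)) (tt N83602 F373474) (tt N97007 (iv3 F414999)) (tt N69606 (iv4 F373808)) (tt N85673 F373472) (tt N103285 (iv6 F440987)) (tt N83601 (iv7 F373473)))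
theorem Q84698 : ∀ i, i < 84698 → P i := stepQ 84697 Q84697 (allL N84697 (tt N49999 (iv1 D187418)) (tt N83603 F370266) (tt N83601 (iv2 F373475)) (tt N102054 (iv3 F435533)) (tt N69607 F370267) (tt N85674 F373480) (tt N114246 D217502) (tt N83602 F373476))
theorem Q84699 : ∀ i, i < 84699 → P i := stepQ 84698 Q84698 (allL N84698 (tt N95294 F409397) (tt N95296 (iv0 F409395)) (tt N96781 (iv2 F413903)) (tt N50001 (iv3 D187419)) (tt N111723 (iv4 F477670)) (tt N95740 F409394) (tt N114247 D217503) (tt N114235 (iv7 F489141)))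
theorem Q84700 : ∀ i, i < 84700 → P i := stepQ 84699 Q84699 (allL N84699 (tt N69314 F370269) (tt N68808 (iv0 F370270)) (tt N104251 (iv2 F444942)) (tt N95740 (iv3 F409390)) (tt N69289 F370268) (tt N50001 (iv5 D187420)) (tt N96738 (iv6 F413696)) (tt N104252 (iv7 F444945)))
theorem Q84701 : ∀ i, i < 84701 → P i := stepQ 84700 Q84700 (allL N84700 (tt N114245 F489192) (tt N114248 D217504) (tt N87605 (iv2 F379864)) (tt N114247 (iv3 F489199)) (tt N68766 F370271) (tt N87155 F378560) (tt N50001 (iv6 D187421)) (tt N87602 (iv7 F379860)))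
theorem Q84702 : ∀ i, i < 84702 → P i := stepQ 84701 Q84701 (allL N84701 (tt N111738 F477743) (tt N114249 D217505) (tt N114250 D217506) (tt N50002 (iv3 D187422)) (tt N114251 D217507) (tt N103396 (iv5 F441431)) (tt N114252 D217508) (tt N97355 F416468))
theorem Q84703 : ∀ i, i < 84703 → P i := stepQ 84702 Q84702 (allL N84702 (tt N68808 F370273) (tt N69314 F370274) (tt N104252 (iv2 F444949)) (tt N103396 (iv3 F441428)) (tt N69263 F370272) (tt N50002 (iv5 D187423)) (tt N91525 (iv6 F393482)) (tt N104251 (iv7 F444943)))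
theorem Q84704 : ∀ i, i < 84704 → P i := stepQ 84703 Q84703 (allL N84703 (tt N97641 (iv1 F417737)) (tt N111665 F477378) (tt N85678 (iv2 F373498)) (tt N114252 (iv3 F489230)) (tt N69284 F370275) (tt N100721 (iv5 F430178)) (tt N50002 (iv6 D187424)) (tt N111637 (iv7 F477252)))
theorem Q84705 : ∀ i, i < 84705 → P i := stepQ 84704 Q84704 (allL N84704 (tt N82750 F370279) (tt N91209 (iv0 F392271)) (tt N112873 (iv2 F483076)) (tt N50004 (iv3 D187425)) (tt N52240 F370278) (tt N70359 F370276) (tt N90889 (iv6 F391180)) (tt N82772 F370277))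
theorem Q84706 : ∀ i, i < 84706 → P i := stepQ 84705 Q84705 (allL N84705 (tt N50008 (iv1 D187426)) (tt N83747 F370280) (tt N51443 (iv2 F370283)) (tt N85286 (iv3 F372176)) (tt N56438 (iv4 F370284)) (tt N51442 F370282) (tt N56437 F370285) (tt N83726 F370281))
theorem Q84707 : ∀ i, i < 84707 → P i := stepQ 84706 Q84706 (allL N84706 (tt N104187 (iv1 F444592)) (tt N68144 (iv0 F370293)) (tt N85797 (iv2 F373989)) (tt N68137 F390841) (tt N50008 (iv4 D187427)) (tt N70792 F370288) (tt N78291 F370286) (tt N70791 F370287))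
theorem Q84708 : ∀ i, i < 84708 → P i := stepQ 84707 Q84707 (allL N84707 (tt N50014 (iv1 D187428)) (tt N85765 (iv0 F373841)) (tt N84729 (iv2 F370382)) (tt N50019 F370296) (tt N50759 (iv4 F370295)) (tt N92191 (iv5 F396173)) (tt N84729 (iv6 F370384)) (tt N51237 F370294))
theorem Q84709 : ∀ i, i < 84709 → P i := stepQ 84708 Q84708 (allL N84708 (tt N89599 F386912) (tt N86761 (iv0 F377094)) (tt N85773 (iv2 F373877)) (tt N50015 F370297) (tt N85773 (iv4 F373879)) (tt N103018 (iv5 F439692)) (tt N50014 (iv6 D187429)) (tt N86682 (iv7 F376784)))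
theorem Q84710 : ∀ i, i < 84710 → P i := stepQ 84709 Q84709 (allL N84709 (tt N78998 F370300) (tt N78995 F370299) (tt N85812 (iv2 F374061)) (tt N82620 F370301) (tt N50019 (iv4 D187430)) (tt N113363 (iv5 F485183)) (tt N85783 (iv6 F373920)) (tt N53049 F370298))
theorem Q84711 : ∀ i, i < 84711 → P i := stepQ 84710 Q84710 (allL N84710 (tt N85816 (iv1 F374087)) (tt N85815 F374083) (tt N50021 F370302) (tt N50069 F370303) (tt N111281 (iv4 F475612)) (tt N50020 (iv5 D187431)) (tt N109016 (iv6 F464941)) (tt N85814 (iv7 F374076)))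
theorem Q84712 : ∀ i, i < 84712 → P i := stepQ 84711 Q84711 (allL N84711 (tt N85814 (iv1 F374079)) (tt N50021 (iv0 D187432)) (tt N85816 F374093) (tt N100018 (iv3 F427219)) (tt N108416 (iv4 F462483)) (tt N84940 F371141) (tt N103103 (iv6 F440086)) (tt N85815 F374085))
theorem Q84713 : ∀ i, i < 84713 → P i := stepQ 84712 Q84712 (allL N84712 (tt N114253 D217509) (tt N105094 (iv0 F448763)) (tt N111281 (iv2 F475611)) (tt N91024 (iv3 F391628)) (tt N50021 (iv4 D187433)) (tt N111272 (iv5 F475561)) (tt N91023 F391626) (tt N85817 (iv7 F374094)))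
theorem Q84714 : ∀ i, i < 84714 → P i := stepQ 84713 Q84713 (allL N84713 (tt N83843 F370305) (tt N83839 F370306) (tt N109016 (iv2 F464939)) (tt N50023 F370304) (tt N91023 (iv4 F391624)) (tt N85007 (iv5 F371352)) (tt N50021 (iv6 D187434)) (tt N109361 (iv7 F466573)))
theorem Q84715 : ∀ i, i < 84715 → P i := stepQ 84714 Q84714 (allL N84714 (tt N83413 F370307) (tt N59296 F370310) (tt N96209 F411503) (tt N50022 (iv3 D187435)) (tt N91024 (iv4 F391629)) (tt N64775 (iv5 F370308)) (tt N69866 F370311) (tt N85820 (iv7 F374107)))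
theorem Q84716 : ∀ i, i < 84716 → P i := stepQ 84715 Q84715 (allL N84715 (tt N89967 F388131) (tt N111102 (iv0 F474677)) (tt N85809 (iv2 F374048)) (tt N69866 F370316) (tt N50023 F370317) (tt N89409 (iv5 F386390)) (tt N50022 (iv6 D187436)) (tt N106843 (iv7 F455949)))
theorem Q84717 : ∀ i, i < 84717 → P i := stepQ 84716 Q84716 (allL N84716 (tt N61153 (iv1 F370321)) (tt N50023 (iv0 D187437)) (tt N85810 F374055) (tt N69534 (iv3 F370320)) (tt N89417 (iv4 F386419)) (tt N67944 F370319) (tt N61136 F370318) (tt N85811 (iv7 F374058)))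
theorem Q84718 : ∀ i, i < 84718 → P i := stepQ 84717 Q84717 (allL N84717 (tt N50023 (iv1 D187438)) (tt N61153 F370322) (tt N85811 F374060) (tt N56275 (iv3 F370324)) (tt N114254 D217510) (tt N56274 F370323) (tt N111234 (iv6 F475352)) (tt N85810 F374056))
theorem Q84719 : ∀ i, i < 84719 → P i := stepQ 84718 Q84718 (allL N84718 (tt N85811 (iv1 F374057)) (tt N85810 F374054) (tt N61153 F370325) (tt N109361 (iv3 F466571)) (tt N106843 (iv4 F455948)) (tt N85009 (iv5 F371363)) (tt N61129 F370326) (tt N50023 (iv7 D187439)))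
theorem Q84720 : ∀ i, i < 84720 → P i := stepQ 84719 Q84719 (allL N84719 (tt N50026 (iv1 D187440)) (tt N50069 F370327) (tt N51084 (iv2 F370329)) (tt N85769 (iv3 F373862)) (tt N98404 (iv4 F420815)) (tt N51078 F370328) (tt N99741 (iv6 F426004)) (tt N85805 (iv7 F374026)))
theorem Q84721 : ∀ i, i < 84721 → P i := stepQ 84720 Q84720 (allL N84720 (tt N101178 F432070) (tt N113704 (iv0 F486731)) (tt N111359 (iv2 F475996)) (tt N50028 (iv3 D187441)) (tt N101695 (iv4 F433909)) (tt N90816 (iv5 F390959)) (tt N63004 F370330) (tt N85808 (iv7 F374047)))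
theorem Q84722 : ∀ i, i < 84722 → P i := stepQ 84721 Q84721 (allL N84721 (tt N103019 (iv1 F439700)) (tt N96625 (iv0 F413231)) (tt N51067 F370331) (tt N63462 F370332) (tt N59513 F370335) (tt N50029 (iv5 D187442)) (tt N50030 F370333) (tt N61152 F370334))
theorem Q84723 : ∀ i, i < 84723 → P i := stepQ 84722 Q84722 (allL N84722 (tt N75134 (iv1 F370344)) (tt N75133 F370345) (tt N62757 F370340) (tt N64772 F370341) (tt N50033 F370342) (tt N100607 (iv5 F429682)) (tt N50032 (iv6 D187443)) (tt N75135 F370343))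
theorem Q84724 : ∀ i, i < 84724 → P i := stepQ 84723 Q84723 (allL N84723 (tt N74991 F370350) (tt N75118 F370352) (tt N64773 F370346) (tt N50035 (iv3 D187444)) (tt N74425 F370347) (tt N53501 F370348) (tt N75139 (iv6 F370351)) (tt N62758 F370349))
theorem Q84725 : ∀ i, i < 84725 → P i := stepQ 84724 Q84724 (allL N84724 (tt N84254 F370357) (tt N84247 (iv0 F370358)) (tt N84252 F370353) (tt N75139 F370354) (tt N50036 F370355) (tt N91792 (iv5 F394444)) (tt N50035 (iv6 D187445)) (tt N75137 F370356))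
theorem Q84726 : ∀ i, i < 84726 → P i := stepQ 84725 Q84725 (allL N84725 (tt N85823 (iv1 F374127)) (tt N50036 (iv0 D187446)) (tt N69524 (iv2 F370363)) (tt N61564 F370362) (tt N114255 D217511) (tt N69523 F370361) (tt N98111 F419499) (tt N61559 F370364))
theorem Q84727 : ∀ i, i < 84727 → P i := stepQ 84726 Q84726 (allL N84726 (tt N65172 F370368) (tt N63660 (iv0 F370369)) (tt N76957 (iv2 F370371)) (tt N50038 (iv3 D187447)) (tt N67007 F370365) (tt N52738 F370366) (tt N80908 (iv6 F370370)) (tt N54836 F370367))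
theorem Q84728 : ∀ i, i < 84728 → P i := stepQ 84727 Q84727 (allL N84727 (tt N114255 (iv1 F489253)) (tt N104070 (iv0 F444032)) (tt N54632 F370372) (tt N80908 F370373) (tt N51494 F370374) (tt N112342 (iv5 F480661)) (tt N50038 (iv6 D187448)) (tt N81520 (iv7 F370375)))
theorem Q84729 : ∀ i, i < 84729 → P i := stepQ 84728 Q84728 (allL N84728 (tt N113378 (iv1 F485266)) (tt N113548 F485981) (tt N54815 F370376) (tt N64535 F370377) (tt N52743 F370378) (tt N64533 F370379) (tt N50039 (iv6 D187449)) (tt N77421 (iv7 F370381)))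
theorem Q84730 : ∀ i, i < 84730 → P i := stepQ 84729 Q84729 (allL N84729 (tt N50734 F370386) (tt N61021 (iv0 F370388)) (tt N84707 F370382) (tt N50747 F370387) (tt N50041 (iv4 D187450)) (tt N56304 F370383) (tt N84707 F370384) (tt N51467 F370385))
theorem Q84731 : ∀ i, i < 84731 → P i := stepQ 84730 Q84730 (allL N84730 (tt N50081 (iv1 F370391)) (tt N50042 (iv0 D187451)) (tt N75609 (iv2 F370392)) (tt N104242 (iv3 F444886)) (tt N62557 F370390) (tt N50810 F370389) (tt N62556 (iv6 F370393)) (tt N85793 (iv7 F373967)))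
theorem Q84732 : ∀ i, i < 84732 → P i := stepQ 84731 Q84731 (allL N84731 (tt N50042 (iv1 D187452)) (tt N50081 F370394) (tt N85793 (iv2 F373969)) (tt N100658 (iv3 F429882)) (tt N75264 F370396) (tt N83618 (iv5 F370397)) (tt N75263 F370398) (tt N75609 F370395))
theorem Q84733 : ∀ i, i < 84733 → P i := stepQ 84732 Q84732 (allL N84732 (tt N50043 (iv1 D187453)) (tt N53829 F370399) (tt N85795 (iv2 F373980)) (tt N112941 (iv3 F483323)) (tt N114256 D217512) (tt N83617 F370402) (tt N53653 (iv6 F370401)) (tt N51475 F370400))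
theorem Q84734 : ∀ i, i < 84734 → P i := stepQ 84733 Q84733 (allL N84733 (tt N63036 F370405) (tt N63033 F370406) (tt N107179 F457366) (tt N50044 (iv3 D187454)) (tt N80100 F370403) (tt N87694 (iv5 F380154)) (tt N73935 (iv6 F370407)) (tt N73900 F370404))
theorem Q84735 : ∀ i, i < 84735 → P i := stepQ 84734 Q84734 (allL N84734 (tt N89417 (iv1 F386420)) (tt N114254 (iv0 F489245)) (tt N84488 F370408) (tt N73935 F370409) (tt N50045 F370410) (tt N84164 (iv5 F370411)) (tt N50044 (iv6 D187455)) (tt N109554 (iv7 F467492)))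
theorem Q84736 : ∀ i, i < 84736 → P i := stepQ 84735 Q84735 (allL N84735 (tt N84490 (iv1 F370423)) (tt N50045 (iv0 D187456)) (tt N84489 (iv2 F370414)) (tt N80031 (iv3 F370415)) (tt N84174 (iv4 F370417)) (tt N69181 F370412) (tt N80030 F370413) (tt N78613 (iv7 F370416)))
theorem Q84737 : ∀ i, i < 84737 → P i := stepQ 84736 Q84736 (allL N84736 (tt N50045 (iv1 D187457)) (tt N84490 F370418) (tt N78613 F370421) (tt N99797 F426266) (tt N99936 (iv4 F426887)) (tt N69216 (iv5 F370420)) (tt N81465 F370422) (tt N84489 F370419))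
theorem Q84738 : ∀ i, i < 84738 → P i := stepQ 84737 Q84737 (allL N84737 (tt N78613 (iv1 F370425)) (tt N84489 F370426) (tt N84490 F370424) (tt N98771 F422252) (tt N109554 (iv4 F467490)) (tt N85069 (iv5 F371524)) (tt N85830 (iv6 F374153)) (tt N50045 (iv7 D187458)))
theorem Q84739 : ∀ i, i < 84739 → P i := stepQ 84738 Q84738 (allL N84738 (tt N52722 F370430) (tt N52725 (iv0 F370431)) (tt N54642 F370427) (tt N50047 F370428) (tt N113369 (iv4 F485212)) (tt N50046 (iv5 D187459)) (tt N113317 (iv6 F484994)) (tt N54593 F370429))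
theorem Q84740 : ∀ i, i < 84740 → P i := stepQ 84739 Q84739 (allL N84739 (tt N54435 F370434) (tt N112330 F480598) (tt N54056 F370432) (tt N113317 (iv3 F484993)) (tt N111200 (iv4 F475198)) (tt N53277 F370433) (tt N50047 (iv6 D187460)) (tt N112329 (iv7 F480591)))
theorem Q84741 : ∀ i, i < 84741 → P i := stepQ 84740 Q84740 (allL N84740 (tt N53491 (iv1 F386154)) (tt N53494 (iv0 F370438)) (tt N83533 F370435) (tt N50048 (iv3 D187461)) (tt N109830 (iv4 F468822)) (tt N83883 F370436) (tt N109815 (iv6 F468758)) (tt N54809 F370437))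
theorem Q84742 : ∀ i, i < 84742 → P i := stepQ 84741 Q84741 (allL N84741 (tt N112112 F479541) (tt N112348 F480690) (tt N53799 F370439) (tt N109815 (iv3 F468756)) (tt N90817 (iv4 F390961)) (tt N53222 F370440) (tt N50048 (iv6 D187462)) (tt N106585 (iv7 F454952)))
theorem Q84743 : ∀ i, i < 84743 → P i := stepQ 84742 Q84742 (allL N84742 (tt N114018 (iv1 F488220)) (tt N114257 D217513) (tt N114258 D217514) (tt N50049 (iv3 D187463)) (tt N109973 (iv4 F469434)) (tt N85827 (iv5 F374138)) (tt N109871 F469016) (tt N54814 F370441))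
theorem Q84744 : ∀ i, i < 84744 → P i := stepQ 84743 Q84743 (allL N84743 (tt N113213 F484513) (tt N114259 D217515) (tt N54825 F370442) (tt N109871 (iv3 F469011)) (tt N50050 F370443) (tt N109870 F469009) (tt N50049 (iv6 D187464)) (tt N114260 D217516))
theorem Q84745 : ∀ i, i < 84745 → P i := stepQ 84744 Q84744 (allL N84744 (tt N54828 (iv1 F370450)) (tt N50050 (iv0 D187465)) (tt N54826 F370453) (tt N114261 D217517) (tt N90808 (iv4 F390935)) (tt N113752 (iv5 F486954)) (tt N90807 F390934) (tt N54827 F370452))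
theorem Q84746 : ∀ i, i < 84746 → P i := stepQ 84745 Q84745 (allL N84745 (tt N50050 (iv1 D187466)) (tt N54828 F370444) (tt N54827 F370446) (tt N83544 (iv3 F384548)) (tt N90833 (iv4 F391007)) (tt N53134 (iv5 F370445)) (tt N89468 F386603) (tt N54826 (iv7 F370454)))
theorem Q84747 : ∀ i, i < 84747 → P i := stepQ 84746 Q84746 (allL N84746 (tt N54827 (iv1 F370451)) (tt N54826 F370455) (tt N54828 F370447) (tt N112551 (iv3 F481619)) (tt N114260 (iv4 F489278)) (tt N50067 F370448) (tt N54819 F370449) (tt N50050 (iv7 D187467)))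
theorem Q84748 : ∀ i, i < 84748 → P i := stepQ 84747 Q84747 (allL N84747 (tt N84754 (iv1 F370495)) (tt N51229 (iv0 F370458)) (tt N50159 F370456) (tt N85435 F372634) (tt N50051 (iv4 D187468)) (tt N113743 (iv5 F486910)) (tt N89387 (iv6 F386326)) (tt N50156 F370457))
theorem Q84749 : ∀ i, i < 84749 → P i := stepQ 84748 Q84748 (allL N84748 (tt N83719 (iv1 F370462)) (tt N50542 (iv0 F370463)) (tt N85143 (iv2 F371728)) (tt N50052 (iv3 D187469)) (tt N50939 F370461) (tt N86320 (iv5 F375817)) (tt N50937 F370459) (tt N50158 F370460))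
theorem Q84750 : ∀ i, i < 84750 → P i := stepQ 84749 Q84749 (allL N84749 (tt N51229 (iv1 F370468)) (tt N84754 F370496) (tt N50156 F370464) (tt N50791 F370467) (tt N50052 (iv4 D187470)) (tt N113646 (iv5 F486474)) (tt N52724 F370465) (tt N50159 F370466))
theorem Q84751 : ∀ i, i < 84751 → P i := stepQ 84750 Q84750 (allL N84750 (tt N83240 F370471) (tt N52747 F370472) (tt N54875 F370469) (tt N50325 F370470) (tt N50053 (iv4 D187471)) (tt N86533 (iv5 F376447)) (tt N78980 (iv6 F370473)) (tt N85831 (iv7 F374159)))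
theorem Q84752 : ∀ i, i < 84752 → P i := stepQ 84751 Q84751 (allL N84751 (tt N84976 (iv1 F371242)) (tt N50441 (iv0 F370477)) (tt N84975 (iv2 F371236)) (tt N84889 (iv3 F371009)) (tt N78980 F370474) (tt N83902 (iv5 F370476)) (tt N50053 (iv6 D187472)) (tt N53492 F370475))
theorem Q84753 : ∀ i, i < 84753 → P i := stepQ 84752 Q84752 (allL N84752 (tt N50683 F370482) (tt N50507 (iv0 F370481)) (tt N83118 F370478) (tt N50054 (iv3 D187473)) (tt N81661 F370479) (tt N87638 (iv5 F379968)) (tt N51702 F370480) (tt N83119 (iv7 F370484)))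
theorem Q84754 : ∀ i, i < 84754 → P i := stepQ 84753 Q84753 (allL N84753 (tt N82751 F370490) (tt N53356 (iv0 F370491)) (tt N51689 F370487) (tt N50059 (iv3 D187474)) (tt N51689 F370488) (tt N70361 F370489) (tt N89389 (iv6 F386335)) (tt N86395 (iv7 F376084)))
theorem Q84755 : ∀ i, i < 84755 → P i := stepQ 84754 Q84754 (allL N84754 (tt N84749 (iv1 F370496)) (tt N84747 F370495) (tt N50060 (iv2 D187475)) (tt N50684 F370492) (tt N50060 F370497) (tt N82862 F370493) (tt N83077 F370494) (tt N84881 (iv7 F370991)))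
theorem Q84756 : ∀ i, i < 84756 → P i := stepQ 84755 Q84755 (allL N84755 (tt N70197 F370501) (tt N70423 F370503) (tt N50064 F370498) (tt N85834 (iv3 F374173)) (tt N57780 F370499) (tt N112518 (iv5 F481470)) (tt N50061 (iv6 D187476)) (tt N70424 (iv7 F370507)))
theorem Q84757 : ∀ i, i < 84757 → P i := stepQ 84756 Q84756 (allL N84756 (tt N70420 F375644) (tt N65364 (iv0 F370514)) (tt N82273 F370511) (tt N71195 F370512) (tt N95200 (iv4 F407382)) (tt N54667 F370513) (tt N50062 (iv6 D187477)) (tt N82274 (iv7 F370515)))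
theorem Q84758 : ∀ i, i < 84758 → P i := stepQ 84757 Q84757 (allL N84757 (tt N84882 (iv1 F370993)) (tt N84888 F428037) (tt N113074 (iv2 F483855)) (tt N50063 (iv3 D187478)) (tt N100217 (iv4 F428036)) (tt N51126 F370517) (tt N91070 F391815) (tt N83910 F370518))
theorem Q84759 : ∀ i, i < 84759 → P i := stepQ 84758 Q84758 (allL N84758 (tt N70423 (iv1 F370523)) (tt N70197 F370524) (tt N70424 F370519) (tt N50067 F370520) (tt N57779 F370521) (tt N112551 (iv5 F481621)) (tt N82247 F370522) (tt N50064 (iv7 D187479)))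
theorem Q84760 : ∀ i, i < 84760 → P i := stepQ 84759 Q84759 (allL N84759 (tt N100222 F428055) (tt N88955 (iv0 F450146)) (tt N114262 D217518) (tt N50065 (iv3 D187480)) (tt N110547 (iv4 F472085)) (tt N114263 D217519) (tt N88917 (iv6 F384531)) (tt N85844 (iv7 F374188)))
theorem Q84761 : ∀ i, i < 84761 → P i := stepQ 84760 Q84760 (allL N84760 (tt N114264 D217520) (tt N114265 D217521) (tt N85843 (iv2 F374186)) (tt N114263 (iv3 F489292)) (tt N114266 D217522) (tt N50065 (iv5 D187481)) (tt N114267 D217523) (tt N85845 (iv7 F374190)))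
theorem Q84762 : ∀ i, i < 84762 → P i := stepQ 84761 Q84761 (allL N84761 (tt N83545 F370531) (tt N114268 D217524) (tt N75113 (iv2 F370530)) (tt N50066 (iv3 D187482)) (tt N98684 F421844) (tt N114269 D217525) (tt N62752 F370528) (tt N85842 (iv7 F374185)))
theorem Q84763 : ∀ i, i < 84763 → P i := stepQ 84762 Q84762 (allL N84762 (tt N114265 (iv1 F489298)) (tt N114264 F489295) (tt N85845 (iv2 F374189)) (tt N114269 (iv3 F489312)) (tt N107325 F457980) (tt N50066 (iv5 D187483)) (tt N107327 (iv6 F457979)) (tt N85843 (iv7 F374187)))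
theorem Q84764 : ∀ i, i < 84764 → P i := stepQ 84763 Q84763 (allL N84763 (tt N70421 F370529) (tt N86335 F378243) (tt N85846 (iv2 F374192)) (tt N62752 (iv3 F370526)) (tt N86403 (iv4 F376116)) (tt N62751 (iv5 F370527)) (tt N50066 (iv6 D187484)) (tt N75123 F370525))
theorem Q84765 : ∀ i, i < 84765 → P i := stepQ 84764 Q84764 (allL N84764 (tt N114270 D217526) (tt N114271 D217527) (tt N83789 F370532) (tt N104934 (iv3 F448012)) (tt N50068 (iv4 D187485)) (tt N114272 D217528) (tt N68453 F370533) (tt N83787 F370534))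
theorem Q84766 : ∀ i, i < 84766 → P i := stepQ 84765 Q84765 (allL N84765 (tt N63747 (iv1 F370536)) (tt N109276 F466139) (tt N85798 (iv2 F373994)) (tt N109325 (iv3 F466392)) (tt N50073 (iv4 D187486)) (tt N112193 (iv5 F479991)) (tt N94108 F403244) (tt N76657 F370535))
theorem Q84767 : ∀ i, i < 84767 → P i := stepQ 84766 Q84766 (allL N84766 (tt N69534 F370540) (tt N76665 F370541) (tt N76667 F370537) (tt N50076 F370538) (tt N94108 (iv4 F403242)) (tt N84956 (iv5 F371178)) (tt N50073 (iv6 D187487)) (tt N76572 F370539))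
theorem Q84768 : ∀ i, i < 84768 → P i := stepQ 84767 Q84767 (allL N84767 (tt N50074 (iv1 D187488)) (tt N51590 F370542) (tt N51094 (iv2 F370545)) (tt N97906 (iv3 F418745)) (tt N84382 F370544) (tt N85961 F374632) (tt N53838 F370546) (tt N51585 F370543))
theorem Q84769 : ∀ i, i < 84769 → P i := stepQ 84768 Q84768 (allL N84768 (tt N104761 F447152) (tt N104762 (iv0 F447157)) (tt N104572 (iv2 F446336)) (tt N50075 (iv3 D187489)) (tt N109325 (iv4 F466393)) (tt N68241 F370547) (tt N80884 F370548) (tt N85787 (iv7 F373935)))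
theorem Q84770 : ∀ i, i < 84770 → P i := stepQ 84769 Q84769 (allL N84769 (tt N50076 (iv1 D187490)) (tt N80883 F370549) (tt N81403 (iv2 F370555)) (tt N70015 (iv3 F370552)) (tt N75484 (iv4 F370551)) (tt N70014 (iv5 F370553)) (tt N75476 F370554) (tt N81404 F370550))
theorem Q84771 : ∀ i, i < 84771 → P i := stepQ 84770 Q84770 (allL N84770 (tt N53201 (iv1 F370558)) (tt N50082 (iv0 D187491)) (tt N53653 (iv2 F370557)) (tt N105325 (iv3 F449722)) (tt N114273 D217529) (tt N50102 F370556) (tt N85795 F373979) (tt N51471 F370559))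
theorem Q84772 : ∀ i, i < 84772 → P i := stepQ 84771 Q84771 (allL N84771 (tt N63041 F370562) (tt N70067 (iv0 F370565)) (tt N73957 F370564) (tt N50083 (iv3 D187492)) (tt N99359 (iv4 F424266)) (tt N68231 F370560) (tt N62554 (iv6 F370563)) (tt N75617 F370561))
theorem Q84773 : ∀ i, i < 84773 → P i := stepQ 84772 Q84772 (allL N84772 (tt N75274 F370569) (tt N92640 (iv0 F397723)) (tt N61286 F370566) (tt N62554 F370567) (tt N50084 F370568) (tt N79280 (iv5 F370570)) (tt N50083 (iv6 D187493)) (tt N61287 F370571))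
theorem Q84774 : ∀ i, i < 84774 → P i := stepQ 84773 Q84773 (allL N84773 (tt N54170 (iv1 F370575)) (tt N50086 (iv0 D187494)) (tt N50270 (iv2 F370574)) (tt N50243 (iv3 F370577)) (tt N50218 F370572) (tt N98738 (iv5 F422096)) (tt N79005 F370573) (tt N50250 F370576))
theorem Q84775 : ∀ i, i < 84775 → P i := stepQ 84774 Q84774 (allL N84774 (tt N103313 (iv1 F441097)) (tt N97908 (iv0 F418753)) (tt N85848 (iv2 F374197)) (tt N92783 (iv3 F398204)) (tt N50090 (iv4 D187495)) (tt N92781 (iv5 F398195)) (tt N97874 (iv6 F418619)) (tt N92780 (iv7 F398193)))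
theorem Q84776 : ∀ i, i < 84776 → P i := stepQ 84775 Q84775 (allL N84775 (tt N85076 (iv1 F371552)) (tt N50093 (iv0 D187496)) (tt N56294 (iv2 F370581)) (tt N56095 F370579) (tt N85710 (iv4 F373612)) (tt N56094 F370578) (tt N75598 F370580) (tt N61455 (iv7 F370582)))
theorem Q84777 : ∀ i, i < 84777 → P i := stepQ 84776 Q84776 (allL N84776 (tt N50093 (iv1 D187497)) (tt N85076 F371551) (tt N61455 (iv2 F370585)) (tt N61228 (iv3 F370586)) (tt N82874 (iv4 F370588)) (tt N56295 F370584) (tt N82873 (iv6 F370587)) (tt N56294 F370583))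
theorem Q84778 : ∀ i, i < 84778 → P i := stepQ 84777 Q84777 (allL N84777 (tt N56297 F370590) (tt N86739 F377044) (tt N85075 (iv2 F371541)) (tt N110208 (iv3 F470441)) (tt N50093 (iv4 D187498)) (tt N90893 (iv5 F391194)) (tt N50104 F370589) (tt N50574 (iv7 F370591)))
theorem Q84779 : ∀ i, i < 84779 → P i := stepQ 84778 Q84778 (allL N84778 (tt N61455 (iv1 F370597)) (tt N56294 F370598) (tt N85076 (iv2 F371546)) (tt N50110 F370593) (tt N50574 F370594) (tt N50094 F370595) (tt N50573 F370596) (tt N50093 (iv7 D187499)))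
theorem Q84780 : ∀ i, i < 84780 → P i := stepQ 84779 Q84779 (allL N84779 (tt N54014 (iv1 F370602)) (tt N50095 (iv0 D187500)) (tt N53780 (iv2 F370601)) (tt N50114 F370600) (tt N53214 F370599) (tt N83250 (iv5 F370605)) (tt N53590 (iv6 F370604)) (tt N50241 F370603))
theorem Q84781 : ∀ i, i < 84781 → P i := stepQ 84780 Q84780 (allL N84780 (tt N113305 (iv1 F484940)) (tt N86093 (iv0 F383918)) (tt N83239 F370606) (tt N50097 F370607) (tt N88701 (iv4 F383915)) (tt N50095 (iv5 D187501)) (tt N113091 (iv6 F483942)) (tt N83246 F370608))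
theorem Q84782 : ∀ i, i < 84782 → P i := stepQ 84781 Q84781 (allL N84781 (tt N50099 (iv1 F370612)) (tt N50096 (iv0 D187502)) (tt N79044 (iv2 F370611)) (tt N50842 F370610) (tt N79044 F370609) (tt N85701 (iv5 F373579)) (tt N79044 (iv6 F370614)) (tt N50875 F370613))
theorem Q84783 : ∀ i, i < 84783 → P i := stepQ 84782 Q84782 (allL N84782 (tt N103018 (iv1 F439694)) (tt N85288 F374209) (tt N85850 (iv2 F374203)) (tt N53666 F370615) (tt N88456 (iv4 F383125)) (tt N50096 (iv5 D187503)) (tt N88455 (iv6 F383122)) (tt N85853 (iv7 F374220)))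
theorem Q84784 : ∀ i, i < 84784 → P i := stepQ 84783 Q84783 (allL N84783 (tt N76283 (iv1 F376457)) (tt N98318 (iv0 F420481)) (tt N109562 (iv2 F467533)) (tt N50100 F370616) (tt N77664 F370618) (tt N50098 (iv5 D187504)) (tt N77663 (iv6 F370617)) (tt N85849 (iv7 F374201)))
theorem Q84785 : ∀ i, i < 84785 → P i := stepQ 84784 Q84784 (allL N84784 (tt N78980 (iv1 F370623)) (tt N86016 F374901) (tt N83333 F370619) (tt N50101 F370620) (tt N54088 F370621) (tt N109397 (iv5 F466753)) (tt N50098 (iv6 D187505)) (tt N83335 F370622))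
theorem Q84786 : ∀ i, i < 84786 → P i := stepQ 84785 Q84785 (allL N84785 (tt N85288 F372186) (tt N103018 (iv0 F439693)) (tt N85853 (iv2 F374219)) (tt N76351 F370624) (tt N110379 (iv4 F471310)) (tt N50099 (iv5 D187506)) (tt N103039 (iv6 F439785)) (tt N85850 (iv7 F374205)))
theorem Q84787 : ∀ i, i < 84787 → P i := stepQ 84786 Q84786 (allL N84786 (tt N61014 (iv1 F370626)) (tt N109400 F466774) (tt N85854 (iv2 F374223)) (tt N84940 (iv3 F371139)) (tt N50101 F370625) (tt N100018 (iv5 F427221)) (tt N50099 (iv6 D187507)) (tt N109399 (iv7 F466767)))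
theorem Q84788 : ∀ i, i < 84788 → P i := stepQ 84787 Q84787 (allL N84787 (tt N108232 (iv1 F461603)) (tt N66952 (iv0 F370629)) (tt N85856 (iv2 F374231)) (tt N77663 F370627) (tt N113094 (iv4 F483951)) (tt N77196 F370628) (tt N50100 (iv6 D187508)) (tt N108448 (iv7 F462622)))
theorem Q84789 : ∀ i, i < 84789 → P i := stepQ 84788 Q84788 (allL N84788 (tt N83250 F373595) (tt N79027 (iv0 F370631)) (tt N114274 D217530) (tt N50102 (iv3 D187509)) (tt N53781 F370630) (tt N105325 (iv5 F449724)) (tt N104311 F445182) (tt N85859 (iv7 F374240)))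
theorem Q84790 : ∀ i, i < 84790 → P i := stepQ 84789 Q84789 (allL N84789 (tt N86123 F429613) (tt N105926 (iv0 F452379)) (tt N85858 (iv2 F374239)) (tt N104311 (iv3 F445184)) (tt N110269 (iv4 F470748)) (tt N105324 (iv5 F449717)) (tt N50102 (iv6 D187510)) (tt N114275 D217531))
theorem Q84791 : ∀ i, i < 84791 → P i := stepQ 84790 Q84790 (allL N84790 (tt N61389 F376139) (tt N108836 F464187) (tt N108835 (iv2 F464181)) (tt N50103 (iv3 D187511)) (tt N114276 D217532) (tt N86408 F376138) (tt N114277 D217533) (tt N85857 (iv7 F374237)))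
theorem Q84792 : ∀ i, i < 84792 → P i := stepQ 84791 Q84791 (allL N84791 (tt N105395 F450046) (tt N86146 F412727) (tt N85860 (iv2 F374243)) (tt N114277 (iv3 F489347)) (tt N104388 (iv4 F445543)) (tt N86412 (iv5 F376145)) (tt N50103 (iv6 D187512)) (tt N105482 (iv7 F450427)))
theorem Q84793 : ∀ i, i < 84793 → P i := stepQ 84792 Q84792 (allL N84792 (tt N50569 (iv1 F370633)) (tt N50104 (iv0 D187513)) (tt N83382 (iv2 F370641)) (tt N50538 F370916) (tt N89621 (iv4 F386990)) (tt N77352 F370632) (tt N77354 (iv6 F370634)) (tt N83381 (iv7 F370643)))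
theorem Q84794 : ∀ i, i < 84794 → P i := stepQ 84793 Q84793 (allL N84793 (tt N50104 (iv1 D187514)) (tt N50569 F370635) (tt N83381 F370642) (tt N78814 (iv3 F370639)) (tt N109616 (iv4 F467756)) (tt N113442 (iv5 F485512)) (tt N96487 (iv6 F412725)) (tt N83382 F370640))
theorem Q84795 : ∀ i, i < 84795 → P i := stepQ 84794 Q84794 (allL N84794 (tt N94659 (iv1 F405407)) (tt N57778 (iv0 F370644)) (tt N94657 F405396) (tt N50104 (iv3 D187515)) (tt N50128 F370636) (tt N83372 F370637) (tt N110208 (iv6 F470442)) (tt N83371 F370638))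
theorem Q84796 : ∀ i, i < 84796 → P i := stepQ 84795 Q84795 (allL N84795 (tt N61089 F370648) (tt N61132 F370649) (tt N50304 F370645) (tt N60726 F370646) (tt N110431 (iv4 F471554)) (tt N50106 (iv5 D187516)) (tt N104765 (iv6 F447166)) (tt N50300 F370647))
theorem Q84797 : ∀ i, i < 84797 → P i := stepQ 84796 Q84796 (allL N84796 (tt N61126 F370652) (tt N93322 F400398) (tt N50305 F370650) (tt N114278 D217534) (tt N50107 (iv4 D187517)) (tt N93529 F401049) (tt N93802 (iv6 F401958)) (tt N50301 F370651))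
theorem Q84798 : ∀ i, i < 84798 → P i := stepQ 84797 Q84797 (allL N84797 (tt N89859 (iv1 F387756)) (tt N50331 (iv0 F370655)) (tt N50306 F370653) (tt N78763 F370654) (tt N93802 F401960) (tt N92160 (iv5 F396022)) (tt N50107 (iv6 D187518)) (tt N89858 (iv7 F387749)))
theorem Q84799 : ∀ i, i < 84799 → P i := stepQ 84798 Q84798 (allL N84798 (tt N61299 F370658) (tt N61298 F370659) (tt N50309 F370656) (tt N113258 F484738) (tt N50108 (iv4 D187519)) (tt N98200 (iv5 F419954)) (tt N114279 D217535) (tt N50307 F370657))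
theorem Q84800 : ∀ i, i < 84800 → P i := stepQ 84799 Q84799 (allL N84799 (tt N112764 (iv1 F482548)) (tt N114280 D217536) (tt N50310 F370660) (tt N94000 (iv3 F402769)) (tt N114279 (iv4 F489358)) (tt N51310 F370661) (tt N50108 (iv6 D187520)) (tt N114281 D217537))
theorem Q84801 : ∀ i, i < 84801 → P i := stepQ 84800 Q84800 (allL N84800 (tt N50313 (iv1 F370667)) (tt N50109 (iv0 D187521)) (tt N50311 (iv2 F370664)) (tt N50633 (iv3 F370666)) (tt N61124 F370663) (tt N55283 F370662) (tt N95178 (iv6 F407323)) (tt N50312 F370665))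
theorem Q84802 : ∀ i, i < 84802 → P i := stepQ 84801 Q84801 (allL N84801 (tt N50312 (iv1 F370670)) (tt N50311 F370671) (tt N50313 F370668) (tt N95246 F407574) (tt N50110 F370669) (tt N102316 (iv5 F436698)) (tt N114282 D217538) (tt N50109 (iv7 D187522)))
theorem Q84803 : ∀ i, i < 84803 → P i := stepQ 84802 Q84802 (allL N84802 (tt N50396 (iv1 F370675)) (tt N50395 F370676) (tt N50314 F370672) (tt N50573 F370673) (tt N114282 (iv4 F489378)) (tt N85082 (iv5 F371574)) (tt N50110 (iv6 D187523)) (tt N50130 F370674))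
theorem Q84804 : ∀ i, i < 84804 → P i := stepQ 84803 Q84803 (allL N84803 (tt N50111 (iv1 D187524)) (tt N50344 F370677) (tt N50348 (iv2 F370681)) (tt N63270 (iv3 F370680)) (tt N59107 F370679) (tt N85219 (iv5 F371942)) (tt N92166 F396054) (tt N50349 F370678))
theorem Q84805 : ∀ i, i < 84805 → P i := stepQ 84804 Q84804 (allL N84804 (tt N98287 (iv1 F420339)) (tt N98286 (iv0 F420337)) (tt N107220 (iv2 F457502)) (tt N50113 F370682) (tt N93562 (iv4 F401141)) (tt N51375 F370683) (tt N50111 (iv6 D187525)) (tt N98260 (iv7 F420224)))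
theorem Q84806 : ∀ i, i < 84806 → P i := stepQ 84805 Q84805 (allL N84805 (tt N85314 (iv1 F387430)) (tt N85317 F387428) (tt N50336 F370684) (tt N95126 (iv3 F407140)) (tt N50113 F370685) (tt N114283 D217539) (tt N50112 (iv6 D187526)) (tt N114284 D217540))
theorem Q84807 : ∀ i, i < 84807 → P i := stepQ 84806 Q84806 (allL N84806 (tt N50340 (iv1 F370690)) (tt N50113 (iv0 D187527)) (tt N50337 F376941) (tt N85869 (iv3 F376991)) (tt N114285 D217541) (tt N86497 F376390) (tt N86826 (iv6 F377324)) (tt N50338 F376942))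
theorem Q84808 : ∀ i, i < 84808 → P i := stepQ 84807 Q84807 (allL N84807 (tt N50113 (iv1 D187528)) (tt N50340 F370686) (tt N50338 F376935) (tt N52773 F376936) (tt N80531 F376937) (tt N86496 (iv5 F376388)) (tt N52775 F376938) (tt N50337 F376939))
theorem Q84809 : ∀ i, i < 84809 → P i := stepQ 84808 Q84808 (allL N84808 (tt N50338 (iv1 F370691)) (tt N50337 F370692) (tt N50340 F370687) (tt N98260 (iv3 F420221)) (tt N114284 (iv4 F489389)) (tt N51380 F370688) (tt N50360 F370689) (tt N50113 (iv7 D187529)))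
theorem Q84810 : ∀ i, i < 84810 → P i := stepQ 84809 Q84809 (allL N84809 (tt N50123 F370696) (tt N50361 (iv0 F370697)) (tt N50316 F370693) (tt N83250 F370694) (tt N84891 F374791) (tt N50114 (iv5 D187530)) (tt N84890 (iv6 F374798)) (tt N50242 F370695))
theorem Q84811 : ∀ i, i < 84811 → P i := stepQ 84810 Q84810 (allL N84810 (tt N50321 (iv1 F370703)) (tt N50320 F370701) (tt N50116 F370698) (tt N50344 F370699) (tt N114286 D217542) (tt N50115 (iv5 D187531)) (tt N61509 (iv6 F370702)) (tt N50317 F370700))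
theorem Q84812 : ∀ i, i < 84812 → P i := stepQ 84811 Q84811 (allL N84811 (tt N50317 (iv1 F370704)) (tt N50116 (iv0 D187532)) (tt N50321 F370711) (tt N85863 F374258) (tt N114287 D217543) (tt N85200 (iv5 F371871)) (tt N97985 F419063) (tt N50320 F370709))
theorem Q84813 : ∀ i, i < 84813 → P i := stepQ 84812 Q84812 (allL N84812 (tt N50116 (iv1 D187533)) (tt N50317 F370705) (tt N50320 (iv2 F370708)) (tt N113305 (iv3 F484941)) (tt N114288 D217544) (tt N51286 F370706) (tt N63303 (iv6 F370707)) (tt N50321 (iv7 F370710)))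
theorem Q84814 : ∀ i, i < 84814 → P i := stepQ 84813 Q84813 (allL N84813 (tt N114289 D217545) (tt N114290 D217546) (tt N114286 (iv2 F489400)) (tt N106308 (iv3 F453965)) (tt N50116 (iv4 D187534)) (tt N114291 D217547) (tt N106307 F453962) (tt N50322 F370713))
theorem Q84815 : ∀ i, i < 84815 → P i := stepQ 84814 Q84814 (allL N84814 (tt N61512 (iv1 F370717)) (tt N61503 (iv0 F370716)) (tt N61509 F370714) (tt N50119 F370715) (tt N106307 (iv4 F453959)) (tt N108803 (iv5 F464023)) (tt N50116 (iv6 D187535)) (tt N61510 (iv7 F370718)))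
theorem Q84816 : ∀ i, i < 84816 → P i := stepQ 84815 Q84815 (allL N84815 (tt N90156 (iv1 F420154)) (tt N90160 (iv0 F409203)) (tt N95124 (iv2 F407133)) (tt N50118 (iv3 D187536)) (tt N106308 (iv4 F453966)) (tt N89777 (iv5 F387514)) (tt N106266 F453803) (tt N50334 F370719))
theorem Q84817 : ∀ i, i < 84817 → P i := stepQ 84816 Q84816 (allL N84816 (tt N85364 (iv1 F372350)) (tt N85366 (iv0 F372361)) (tt N50357 F370720) (tt N106266 (iv3 F453805)) (tt N50119 F370721) (tt N87237 (iv5 F378850)) (tt N50118 (iv6 D187537)) (tt N113903 (iv7 F487704)))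
theorem Q84818 : ∀ i, i < 84818 → P i := stepQ 84817 Q84817 (allL N84817 (tt N50360 (iv1 F370724)) (tt N50119 (iv0 D187538)) (tt N50358 (iv2 F370722)) (tt N108232 (iv3 F461599)) (tt N87273 F378949) (tt N90648 (iv5 F390397)) (tt N93787 (iv6 F401883)) (tt N50359 F370723))
theorem Q84819 : ∀ i, i < 84819 → P i := stepQ 84818 Q84818 (allL N84818 (tt N50359 (iv1 F370728)) (tt N50358 F370729) (tt N50360 F370725) (tt N61510 F370726) (tt N113903 (iv4 F487703)) (tt N113711 (iv5 F486774)) (tt N50340 F370727) (tt N50119 (iv7 D187539)))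
theorem Q84820 : ∀ i, i < 84820 → P i := stepQ 84819 Q84819 (allL N84819 (tt N111006 F474209) (tt N97991 (iv0 F419085)) (tt N108837 (iv2 F464189)) (tt N50122 F370730) (tt N56787 F370731) (tt N74842 (iv5 F370734)) (tt N50120 (iv6 D187540)) (tt N57943 (iv7 F370736)))
theorem Q84821 : ∀ i, i < 84821 → P i := stepQ 84820 Q84820 (allL N84820 (tt N50371 (iv1 F370743)) (tt N50122 (iv0 D187541)) (tt N50369 F412184) (tt N85878 F412185) (tt N114292 D217548) (tt N104119 (iv5 F444272)) (tt N114280 F489366) (tt N50370 F412186))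
theorem Q84822 : ∀ i, i < 84822 → P i := stepQ 84821 Q84821 (allL N84821 (tt N50122 (iv1 D187542)) (tt N50371 F370737) (tt N50370 F412187) (tt N105926 (iv3 F452375)) (tt N105644 (iv4 F451082)) (tt N104118 (iv5 F444263)) (tt N105924 (iv6 F452368)) (tt N50369 F412188))
theorem Q84823 : ∀ i, i < 84823 → P i := stepQ 84822 Q84822 (allL N84822 (tt N50370 (iv1 F370744)) (tt N50369 F370745) (tt N50371 F370738) (tt N57943 F370739) (tt N56781 F370740) (tt N83634 F370741) (tt N50381 F370742) (tt N50122 (iv7 D187543)))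
theorem Q84824 : ∀ i, i < 84824 → P i := stepQ 84823 Q84823 (allL N84823 (tt N50242 (iv1 F370750)) (tt N50316 F370749) (tt N50123 (iv2 D187544)) (tt N50372 F370746) (tt N76507 F370752) (tt N51523 F370747) (tt N76416 (iv6 F370751)) (tt N50361 F370748))
theorem Q84825 : ∀ i, i < 84825 → P i := stepQ 84824 Q84824 (allL N84824 (tt N53671 F370755) (tt N114293 D217549) (tt N76507 F370753) (tt N82254 (iv3 F370756)) (tt N50123 (iv4 D187545)) (tt N114294 D217550) (tt N69648 (iv6 F370757)) (tt N50362 F370754))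
theorem Q84826 : ∀ i, i < 84826 → P i := stepQ 84825 Q84825 (allL N84825 (tt N109666 (iv1 F468014)) (tt N100207 (iv0 F427996)) (tt N76416 F370758) (tt N50125 F370759) (tt N69648 F370760) (tt N51527 F370761) (tt N50123 (iv6 D187546)) (tt N76411 (iv7 F370762)))
theorem Q84827 : ∀ i, i < 84827 → P i := stepQ 84826 Q84826 (allL N84826 (tt N103051 F439856) (tt N85511 F372899) (tt N82260 F370763) (tt N50124 (iv3 D187547)) (tt N82254 F370764) (tt N54068 F370765) (tt N82253 (iv6 F370767)) (tt N50367 F370766))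
theorem Q84828 : ∀ i, i < 84828 → P i := stepQ 84827 Q84827 (allL N84827 (tt N89875 (iv1 F387837)) (tt N89878 (iv0 F387835)) (tt N50378 F370768) (tt N82253 F370769) (tt N50125 F370770) (tt N94617 (iv5 F405233)) (tt N50124 (iv6 D187548)) (tt N114295 D217551))
theorem Q84829 : ∀ i, i < 84829 → P i := stepQ 84828 Q84828 (allL N84828 (tt N50381 (iv1 F370777)) (tt N50125 (iv0 D187549)) (tt N50379 F371966) (tt N105395 (iv3 F450043)) (tt N57731 F370771) (tt N114296 D217552) (tt N113907 (iv6 F487725)) (tt N50380 F371967))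
theorem Q84830 : ∀ i, i < 84830 → P i := stepQ 84829 Q84829 (allL N84829 (tt N50125 (iv1 D187550)) (tt N50381 F370772) (tt N50380 (iv2 F371969)) (tt N85884 (iv3 F413492)) (tt N94595 F405116) (tt N91226 (iv5 F392345)) (tt N61289 (iv6 F371975)) (tt N50379 (iv7 F371970)))
theorem Q84831 : ∀ i, i < 84831 → P i := stepQ 84830 Q84830 (allL N84830 (tt N50380 (iv1 F370778)) (tt N50379 F370779) (tt N50381 F370773) (tt N76411 F370774) (tt N114295 (iv4 F489446)) (tt N51532 F370775) (tt N50371 F370776) (tt N50125 (iv7 D187551)))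
theorem Q84832 : ∀ i, i < 84832 → P i := stepQ 84831 Q84831 (allL N84831 (tt N89821 (iv1 F387634)) (tt N55264 (iv0 F370782)) (tt N73001 (iv2 F370784)) (tt N50126 (iv3 D187552)) (tt N83131 (iv4 F394226)) (tt N53226 F370780) (tt N62199 F370783) (tt N50384 F370781))
theorem Q84833 : ∀ i, i < 84833 → P i := stepQ 84832 Q84832 (allL N84832 (tt N114292 (iv1 F489431)) (tt N105644 (iv0 F451081)) (tt N50383 F370785) (tt N62199 F370786) (tt N53851 F370787) (tt N57106 F370788) (tt N50126 (iv6 D187553)) (tt N73002 (iv7 F370789)))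
theorem Q84834 : ∀ i, i < 84834 → P i := stepQ 84833 Q84833 (allL N84833 (tt N89826 F387660) (tt N61207 (iv0 F370792)) (tt N98342 (iv2 F420560)) (tt N50127 (iv3 D187554)) (tt N114297 D217553) (tt N53816 F370790) (tt N114298 D217554) (tt N50382 F370791))
theorem Q84835 : ∀ i, i < 84835 → P i := stepQ 84834 Q84834 (allL N84834 (tt N57731 F374449) (tt N94595 (iv0 F405115)) (tt N50386 F370793) (tt N114298 (iv3 F489462)) (tt N51580 F370794) (tt N57742 F370795) (tt N50127 (iv6 D187555)) (tt N94596 (iv7 F405118)))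
theorem Q84836 : ∀ i, i < 84836 → P i := stepQ 84835 Q84835 (allL N84835 (tt N114299 D217555) (tt N114300 D217556) (tt N50394 F370796) (tt N57928 F370797) (tt N50130 F370798) (tt N57927 F370799) (tt N50129 (iv6 D187556)) (tt N114282 (iv7 F489380)))
theorem Q84837 : ∀ i, i < 84837 → P i := stepQ 84836 Q84836 (allL N84836 (tt N50314 (iv1 F370801)) (tt N50130 (iv0 D187557)) (tt N50395 F376973) (tt N61319 (iv3 F370802)) (tt N82405 F370800) (tt N113878 (iv5 F487584)) (tt N114301 D217557) (tt N50396 F376974))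
theorem Q84838 : ∀ i, i < 84838 → P i := stepQ 84837 Q84837 (allL N84837 (tt N50130 (iv1 D187558)) (tt N50314 F370804) (tt N50396 F376976) (tt N98494 (iv3 F421117)) (tt N111034 (iv4 F474357)) (tt N113879 F487590) (tt N98492 (iv6 F421109)) (tt N50395 F376977))
theorem Q84839 : ∀ i, i < 84839 → P i := stepQ 84838 Q84838 (allL N84838 (tt N114302 D217558) (tt N114303 D217559) (tt N50407 F370805) (tt N76701 F370806) (tt N80580 F370807) (tt N85896 (iv5 F374349)) (tt N50131 (iv6 D187559)) (tt N76693 F370808))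
theorem Q84840 : ∀ i, i < 84840 → P i := stepQ 84839 Q84839 (allL N84839 (tt N53844 F370811) (tt N53847 (iv0 F370812)) (tt N50446 F370809) (tt N86178 (iv3 F375284)) (tt N114304 D217560) (tt N50132 (iv5 D187560)) (tt N114305 D217561) (tt N50221 F370810))
theorem Q84841 : ∀ i, i < 84841 → P i := stepQ 84840 Q84840 (allL N84840 (tt N50450 F370816) (tt N50449 (iv0 F370817)) (tt N50134 F370813) (tt N50410 F370814) (tt N104134 (iv4 F444358)) (tt N50133 (iv5 D187561)) (tt N92972 (iv6 F398973)) (tt N50447 F370815))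
theorem Q84842 : ∀ i, i < 84842 → P i := stepQ 84841 Q84841 (allL N84841 (tt N58276 F370819) (tt N50389 (iv0 F370820)) (tt N110190 F470353) (tt N50135 (iv3 D187562)) (tt N101764 (iv4 F434243)) (tt N91696 (iv5 F394075)) (tt N101763 F434241) (tt N50456 F370818))
theorem Q84843 : ∀ i, i < 84843 → P i := stepQ 84842 Q84842 (allL N84842 (tt N114285 F489399) (tt N80531 (iv0 F377005)) (tt N50425 F370821) (tt N101763 (iv3 F434236)) (tt N50136 F370822) (tt N114306 D217562) (tt N50135 (iv6 D187563)) (tt N110258 (iv7 F470676)))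
theorem Q84844 : ∀ i, i < 84844 → P i := stepQ 84843 Q84843 (allL N84843 (tt N50429 (iv1 F370826)) (tt N50136 (iv0 D187564)) (tt N50426 F376846) (tt N114307 D217563) (tt N85159 F376852) (tt N92997 (iv5 F399063)) (tt N86896 F377626) (tt N50427 F376847))
theorem Q84845 : ∀ i, i < 84845 → P i := stepQ 84844 Q84844 (allL N84844 (tt N50136 (iv1 D187565)) (tt N50429 F370823) (tt N50427 F376843) (tt N114308 D217564) (tt N85160 (iv4 F376851)) (tt N86701 (iv5 F376829)) (tt N114309 D217565) (tt N50426 F376844))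
theorem Q84846 : ∀ i, i < 84846 → P i := stepQ 84845 Q84845 (allL N84845 (tt N50427 (iv1 F370827)) (tt N50426 F370828) (tt N50429 F370824) (tt N94125 F403331) (tt N110258 (iv4 F470673)) (tt N86726 (iv5 F376918)) (tt N50461 F370825) (tt N50136 (iv7 D187566)))
theorem Q84847 : ∀ i, i < 84847 → P i := stepQ 84846 Q84846 (allL N84846 (tt N50410 (iv1 F370829)) (tt N50137 (iv0 D187567)) (tt N50413 (iv2 F370834)) (tt N85903 F374390) (tt N111167 (iv4 F475043)) (tt N85377 F372401) (tt N92863 F398564) (tt N50412 F370835))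
theorem Q84848 : ∀ i, i < 84848 → P i := stepQ 84847 Q84847 (allL N84847 (tt N50137 (iv1 D187568)) (tt N50410 F370830) (tt N50412 (iv2 F370832)) (tt N114310 D217566) (tt N111168 (iv4 F475052)) (tt N50737 F370831) (tt N98203 (iv6 F419979)) (tt N50413 (iv7 F370833)))
theorem Q84849 : ∀ i, i < 84849 → P i := stepQ 84848 Q84848 (allL N84848 (tt N86094 (iv1 F375105)) (tt N86096 (iv0 F375112)) (tt N98617 (iv2 F421598)) (tt N114311 D217567) (tt N50137 (iv4 D187569)) (tt N114312 D217568) (tt N61535 F370836) (tt N50414 F370837))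
theorem Q84850 : ∀ i, i < 84850 → P i := stepQ 84849 Q84849 (allL N84849 (tt N89827 (iv1 F387667)) (tt N66798 (iv0 F370839)) (tt N98223 F420052) (tt N50138 (iv3 D187570)) (tt N114311 (iv4 F489534)) (tt N91698 (iv5 F394082)) (tt N114313 D217569) (tt N50424 F370838))
theorem Q84851 : ∀ i, i < 84851 → P i := stepQ 84850 Q84850 (allL N84850 (tt N87273 F388943) (tt N98309 (iv0 F420448)) (tt N50457 F370840) (tt N114313 (iv3 F489543)) (tt N50139 F370841) (tt N114314 D217570) (tt N50138 (iv6 D187571)) (tt N111217 (iv7 F475265)))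
theorem Q84852 : ∀ i, i < 84852 → P i := stepQ 84851 Q84851 (allL N84851 (tt N50461 (iv1 F370843)) (tt N50139 (iv0 D187572)) (tt N50458 (iv2 F370842)) (tt N100165 (iv3 F427785)) (tt N85184 (iv4 F371836)) (tt N61556 (iv5 F370845)) (tt N107761 (iv6 F459611)) (tt N50459 F370844))
theorem Q84853 : ∀ i, i < 84853 → P i := stepQ 84852 Q84852 (allL N84852 (tt N50635 (iv1 F370849)) (tt N50141 (iv0 D187573)) (tt N53821 (iv2 F370850)) (tt N76630 F370847) (tt N98447 (iv4 F420940)) (tt N53039 F370848) (tt N88838 (iv6 F384297)) (tt N53820 (iv7 F370851)))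
theorem Q84854 : ∀ i, i < 84854 → P i := stepQ 84853 Q84853 (allL N84853 (tt N50141 (iv1 D187574)) (tt N50635 F370852) (tt N53820 F370855) (tt N114315 D217571) (tt N101470 (iv4 F433059)) (tt N53040 (iv5 F370854)) (tt N101469 F433057) (tt N53821 F370853))
theorem Q84855 : ∀ i, i < 84855 → P i := stepQ 84854 Q84854 (allL N84854 (tt N114316 D217572) (tt N106373 F454201) (tt N83146 F370856) (tt N110415 (iv3 F471465)) (tt N50141 (iv4 D187575)) (tt N110414 (iv5 F471463)) (tt N114317 D217573) (tt N53822 F370857))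
theorem Q84856 : ∀ i, i < 84856 → P i := stepQ 84855 Q84855 (allL N84855 (tt N107955 F460467) (tt N107952 (iv0 F460449)) (tt N83147 F370858) (tt N50143 F370859) (tt N114317 (iv4 F489563)) (tt N50165 F370860) (tt N50141 (iv6 D187576)) (tt N114318 D217574))
theorem Q84857 : ∀ i, i < 84857 → P i := stepQ 84856 Q84856 (allL N84856 (tt N50456 F370864) (tt N110190 F470354) (tt N58276 F370861) (tt N50142 (iv3 D187577)) (tt N110415 (iv4 F471466)) (tt N50390 F370862) (tt N58271 (iv6 F370866)) (tt N50389 F370863))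
theorem Q84858 : ∀ i, i < 84858 → P i := stepQ 84857 Q84857 (allL N84857 (tt N58246 (iv1 F370872)) (tt N58245 F370874) (tt N50479 F370867) (tt N58271 F370868) (tt N50143 F370869) (tt N57926 (iv5 F370870)) (tt N50142 (iv6 D187578)) (tt N58239 F370871))
theorem Q84859 : ∀ i, i < 84859 → P i := stepQ 84858 Q84858 (allL N84858 (tt N50482 (iv1 F370882)) (tt N50143 (iv0 D187579)) (tt N50480 F380053) (tt N114319 D217575) (tt N89780 (iv4 F387523)) (tt N90449 (iv5 F389685)) (tt N87669 F380052) (tt N50481 F380054))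
theorem Q84860 : ∀ i, i < 84860 → P i := stepQ 84859 Q84859 (allL N84859 (tt N50143 (iv1 D187580)) (tt N50482 F370876) (tt N50481 F380055) (tt N105037 (iv3 F448499)) (tt N89781 (iv4 F387529)) (tt N51179 (iv5 F370877)) (tt N105033 (iv6 F448481)) (tt N50480 F380056))
theorem Q84861 : ∀ i, i < 84861 → P i := stepQ 84860 Q84860 (allL N84860 (tt N50481 (iv1 F370883)) (tt N50480 F370884) (tt N50482 F370878) (tt N114318 (iv3 F489569)) (tt N58239 F370879) (tt N50168 F370880) (tt N53826 F370881) (tt N50143 (iv7 D187581)))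
theorem Q84862 : ∀ i, i < 84862 → P i := stepQ 84861 Q84861 (allL N84861 (tt N50158 F370886) (tt N85143 F371733) (tt N83719 (iv2 F370888)) (tt N50144 (iv3 D187582)) (tt N50504 F370887) (tt N86301 (iv5 F375754)) (tt N91047 (iv6 F391748)) (tt N50542 F370885))
theorem Q84863 : ∀ i, i < 84863 → P i := stepQ 84862 Q84862 (allL N84862 (tt N50552 F370892) (tt N50551 F370893) (tt N50147 F370889) (tt N50527 F370890) (tt N111025 (iv4 F474317)) (tt N50146 (iv5 D187583)) (tt N113318 (iv6 F484999)) (tt N50549 F370891))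
theorem Q84864 : ∀ i, i < 84864 → P i := stepQ 84863 Q84863 (allL N84863 (tt N50549 (iv1 F370895)) (tt N50147 (iv0 D187584)) (tt N50552 (iv2 F370896)) (tt N88809 (iv3 F384218)) (tt N111041 (iv4 F474393)) (tt N50488 F370894) (tt N105952 (iv6 F452478)) (tt N50551 (iv7 F370897)))
theorem Q84865 : ∀ i, i < 84865 → P i := stepQ 84864 Q84864 (allL N84864 (tt N50147 (iv1 D187585)) (tt N50549 F370898) (tt N50551 (iv2 F370901)) (tt N84104 (iv3 F370902)) (tt N114320 D217576) (tt N50489 F370900) (tt N114321 D217577) (tt N50552 F370899))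
theorem Q84866 : ∀ i, i < 84866 → P i := stepQ 84865 Q84865 (allL N84865 (tt N82860 F370906) (tt N78439 F370907) (tt N111025 (iv2 F474315)) (tt N51232 F370903) (tt N50147 (iv4 D187586)) (tt N58210 F370905) (tt N112774 (iv6 F482597)) (tt N50553 F370904))
theorem Q84867 : ∀ i, i < 84867 → P i := stepQ 84866 Q84866 (allL N84866 (tt N105698 F451304) (tt N110213 (iv0 F470459)) (tt N113318 (iv2 F484997)) (tt N50148 F370908) (tt N112774 (iv4 F482596)) (tt N54605 F370909) (tt N50147 (iv6 D187587)) (tt N114322 D217578))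
theorem Q84868 : ∀ i, i < 84868 → P i := stepQ 84867 Q84867 (allL N84867 (tt N50540 (iv1 F370922)) (tt N50148 (iv0 D187588)) (tt N50537 (iv2 F370911)) (tt N83381 (iv3 F370912)) (tt N54290 (iv4 F370913)) (tt N114323 D217579) (tt N54289 F370910) (tt N50538 (iv7 F370915)))
theorem Q84869 : ∀ i, i < 84869 → P i := stepQ 84868 Q84868 (allL N84868 (tt N50148 (iv1 D187589)) (tt N50540 F370918) (tt N50538 (iv2 F370920)) (tt N78819 F370921) (tt N84877 F370971) (tt N113921 (iv5 F487796)) (tt N113884 (iv6 F487626)) (tt N50537 F370919))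
theorem Q84870 : ∀ i, i < 84870 → P i := stepQ 84869 Q84869 (allL N84869 (tt N50538 (iv1 F370927)) (tt N50537 F370928) (tt N50540 F370923) (tt N114322 (iv3 F489597)) (tt N51235 F370924) (tt N54610 F370925) (tt N50562 F370926) (tt N50148 (iv7 D187590)))
theorem Q84871 : ∀ i, i < 84871 → P i := stepQ 84870 Q84870 (allL N84870 (tt N81661 F370933) (tt N81658 F370934) (tt N50525 F370929) (tt N53907 F370930) (tt N50149 (iv4 D187591)) (tt N112434 (iv5 F481090)) (tt N53260 F370931) (tt N50522 F370932))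
theorem Q84872 : ∀ i, i < 84872 → P i := stepQ 84871 Q84871 (allL N84871 (tt N84683 F370940) (tt N50155 F370941) (tt N83373 F370935) (tt N50150 (iv3 D187592)) (tt N83518 F370936) (tt N75142 F370937) (tt N54459 F370938) (tt N50524 F370939))
theorem Q84873 : ∀ i, i < 84873 → P i := stepQ 84872 Q84872 (allL N84872 (tt N50532 F370948) (tt N50531 F370947) (tt N50152 F370944) (tt N50549 F370945) (tt N114324 D217580) (tt N50151 (iv5 D187593)) (tt N114325 D217581) (tt N50527 F370946))
theorem Q84874 : ∀ i, i < 84874 → P i := stepQ 84873 Q84873 (allL N84873 (tt N53919 F370953) (tt N53880 (iv0 F370954)) (tt N50153 F370949) (tt N50550 F370950) (tt N55292 F370951) (tt N84035 (iv5 F370955)) (tt N50151 (iv6 D187594)) (tt N53863 F370952))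
theorem Q84875 : ∀ i, i < 84875 → P i := stepQ 84874 Q84874 (allL N84874 (tt N82890 F370958) (tt N107051 (iv0 F456782)) (tt N114324 (iv2 F489607)) (tt N50798 F370956) (tt N50152 (iv4 D187595)) (tt N114326 D217582) (tt N114327 D217583) (tt N50533 F370957))
theorem Q84876 : ∀ i, i < 84876 → P i := stepQ 84875 Q84875 (allL N84875 (tt N111973 F478923) (tt N114328 D217584) (tt N114325 (iv2 F489614)) (tt N50154 F370959) (tt N114327 (iv4 F489628)) (tt N84303 F370960) (tt N50152 (iv6 D187596)) (tt N114329 D217585))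
theorem Q84877 : ∀ i, i < 84877 → P i := stepQ 84876 Q84876 (allL N84876 (tt N53863 (iv1 F370964)) (tt N50153 (iv0 D187597)) (tt N53919 (iv2 F370963)) (tt N54641 (iv3 F370966)) (tt N114330 D217586) (tt N84421 F370961) (tt N53408 F370962) (tt N53880 F370965))
theorem Q84878 : ∀ i, i < 84878 → P i := stepQ 84877 Q84877 (allL N84877 (tt N50154 (iv1 D187598)) (tt N50562 F370967) (tt N50560 (iv2 F370969)) (tt N56297 (iv3 F370970)) (tt N84868 (iv4 F370971)) (tt N113969 (iv5 F488013)) (tt N90450 (iv6 F389692)) (tt N50559 F370968))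
theorem Q84879 : ∀ i, i < 84879 → P i := stepQ 84878 Q84878 (allL N84878 (tt N50560 (iv1 F370976)) (tt N50559 F370977) (tt N50562 F370972) (tt N114329 (iv3 F489636)) (tt N50802 F370973) (tt N84308 F370974) (tt N50540 F370975) (tt N50154 (iv7 D187599)))
theorem Q84880 : ∀ i, i < 84880 → P i := stepQ 84879 Q84879 (allL N84879 (tt N50155 (iv1 D187600)) (tt N84683 F370978) (tt N50524 F370981) (tt N50570 (iv3 F370980)) (tt N83519 F370983) (tt N113701 (iv5 F486706)) (tt N53467 F370982) (tt N83373 F370979))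
theorem Q84881 : ∀ i, i < 84881 → P i := stepQ 84880 Q84880 (allL N84880 (tt N84058 (iv1 F379868)) (tt N88444 (iv0 F383074)) (tt N113563 (iv2 F486044)) (tt N50157 F370986) (tt N113757 (iv4 F486981)) (tt N50155 (iv5 D187601)) (tt N109210 (iv6 F465798)) (tt N86319 (iv7 F375816)))
theorem Q84882 : ∀ i, i < 84882 → P i := stepQ 84881 Q84881 (allL N84881 (tt N50159 (iv1 F370990)) (tt N50156 (iv0 D187602)) (tt N51229 (iv2 F370989)) (tt N82749 F370988) (tt N51229 F370987) (tt N113076 (iv5 F483865)) (tt N90946 (iv6 F391332)) (tt N84754 F370991))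
theorem Q84883 : ∀ i, i < 84883 → P i := stepQ 84882 Q84882 (allL N84882 (tt N82858 (iv1 F370994)) (tt N84757 F370993) (tt N113646 (iv2 F486472)) (tt N82888 F370992) (tt N85921 (iv4 F374477)) (tt N50156 (iv5 D187603)) (tt N63319 (iv6 F375785)) (tt N113743 (iv7 F486914)))
theorem Q84884 : ∀ i, i < 84884 → P i := stepQ 84883 Q84883 (allL N84883 (tt N98335 (iv1 F420538)) (tt N85258 F421122) (tt N63317 (iv2 F374796)) (tt N78390 F374803) (tt N50157 (iv4 D187604)) (tt N74520 F374805) (tt N63282 (iv6 F374802)) (tt N85124 F374801))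
theorem Q84885 : ∀ i, i < 84885 → P i := stepQ 84884 Q84884 (allL N84884 (tt N78814 (iv1 F374812)) (tt N78819 (iv0 F374811)) (tt N63316 F374794) (tt N109210 (iv3 F465797)) (tt N63282 F374804) (tt N83029 F370995) (tt N50157 (iv6 D187605)) (tt N63318 (iv7 F374810)))
theorem Q84886 : ∀ i, i < 84886 → P i := stepQ 84885 Q84885 (allL N84885 (tt N85143 F371732) (tt N50158 (iv0 D187606)) (tt N50542 (iv2 F370997)) (tt N50564 F370998) (tt N50503 F370996) (tt N73265 (iv5 F371001)) (tt N53295 F370999) (tt N83719 F371000))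
theorem Q84887 : ∀ i, i < 84887 → P i := stepQ 84886 Q84886 (allL N84886 (tt N50542 (iv1 F371005)) (tt N83719 F371004) (tt N50158 (iv2 D187607)) (tt N84683 F371002) (tt N83681 F371003) (tt N89705 F387258) (tt N111276 (iv6 F475590)) (tt N85143 (iv7 F371731)))
theorem Q84888 : ∀ i, i < 84888 → P i := stepQ 84887 Q84887 (allL N84887 (tt N88806 (iv1 F384214)) (tt N88809 (iv0 F384220)) (tt N89705 (iv2 F387257)) (tt N50160 F371006) (tt N113311 (iv4 F484961)) (tt N50158 (iv5 D187608)) (tt N89656 (iv6 F387122)) (tt N86320 (iv7 F375818)))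
theorem Q84889 : ∀ i, i < 84889 → P i := stepQ 84888 Q84888 (allL N84888 (tt N84757 (iv1 F428037)) (tt N82858 F371008) (tt N113743 F486912) (tt N53150 F371007) (tt N85922 (iv4 F374478)) (tt N50159 (iv5 D187609)) (tt N85195 (iv6 F374809)) (tt N113646 (iv7 F486476)))
theorem Q84890 : ∀ i, i < 84890 → P i := stepQ 84889 Q84889 (allL N84889 (tt N89389 (iv1 F386337)) (tt N83509 (iv0 F371012)) (tt N89387 F386324) (tt N84751 F371009) (tt N50161 F371010) (tt N113731 (iv5 F486878)) (tt N50159 (iv6 D187610)) (tt N83022 F371011))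
theorem Q84891 : ∀ i, i < 84891 → P i := stepQ 84890 Q84890 (allL N84890 (tt N85258 (iv1 F421123)) (tt N98335 (iv0 F420537)) (tt N85124 (iv2 F374799)) (tt N113099 (iv3 F483963)) (tt N50160 (iv4 D187611)) (tt N114331 D217587) (tt N84809 F374798) (tt N63317 (iv7 F374797)))
theorem Q84892 : ∀ i, i < 84892 → P i := stepQ 84891 Q84891 (allL N84891 (tt N76462 F371013) (tt N114332 D217588) (tt N85123 (iv2 F374790)) (tt N89656 F387121) (tt N84809 (iv4 F374791)) (tt N112884 (iv5 F483135)) (tt N50160 (iv6 D187612)) (tt N85011 F374789))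
theorem Q84893 : ∀ i, i < 84893 → P i := stepQ 84892 Q84892 (allL N84892 (tt N85542 (iv1 F373010)) (tt N85541 F373005) (tt N50164 F371014) (tt N74952 F371015) (tt N50162 (iv4 D187613)) (tt N113122 (iv5 F484071)) (tt N74951 (iv6 F371016)) (tt N85543 (iv7 F373008)))
theorem Q84894 : ∀ i, i < 84894 → P i := stepQ 84893 Q84893 (allL N84893 (tt N107634 F459029) (tt N100213 (iv0 F428020)) (tt N50165 F371017) (tt N50576 F371018) (tt N74951 F371019) (tt N83147 F371020) (tt N50162 (iv6 D187614)) (tt N114333 D217589))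
theorem Q84895 : ∀ i, i < 84895 → P i := stepQ 84894 Q84894 (allL N84894 (tt N73265 (iv1 F371022)) (tt N86301 F375757) (tt N86528 (iv2 F376434)) (tt N50163 (iv3 D187615)) (tt N88882 (iv4 F384418)) (tt N53169 F371021) (tt N114334 D217590) (tt N85564 (iv7 F373077)))
theorem Q84896 : ∀ i, i < 84896 → P i := stepQ 84895 Q84895 (allL N84895 (tt N113083 (iv1 F483902)) (tt N113702 F486714) (tt N85562 (iv2 F373070)) (tt N114335 D217591) (tt N50163 (iv4 D187616)) (tt N109081 (iv5 F465251)) (tt N85140 F448743) (tt N85565 (iv7 F373080)))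
theorem Q84897 : ∀ i, i < 84897 → P i := stepQ 84896 Q84896 (allL N84896 (tt N86296 F448745) (tt N105475 (iv0 F450409)) (tt N85563 (iv2 F373072)) (tt N114334 (iv3 F489668)) (tt N85140 (iv4 F448742)) (tt N105089 (iv5 F448740)) (tt N50163 (iv6 D187617)) (tt N94146 (iv7 F403421)))
theorem Q84898 : ∀ i, i < 84898 → P i := stepQ 84897 Q84897 (allL N84897 (tt N85543 (iv1 F373009)) (tt N50164 (iv0 D187618)) (tt N85542 F374469) (tt N114336 D217592) (tt N83825 F371024) (tt N74953 F371023) (tt N104009 (iv6 F443774)) (tt N85541 (iv7 F374468)))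
theorem Q84899 : ∀ i, i < 84899 → P i := stepQ 84898 Q84898 (allL N84898 (tt N50164 (iv1 D187619)) (tt N85543 F373011) (tt N85541 (iv2 F374470)) (tt N114337 D217593) (tt N88985 (iv4 F384667)) (tt N74954 (iv5 F373012)) (tt N105415 (iv6 F450155)) (tt N85542 F374471))
theorem Q84900 : ∀ i, i < 84900 → P i := stepQ 84899 Q84899 (allL N84899 (tt N92593 F397543) (tt N85275 (iv0 F372142)) (tt N113122 (iv2 F484069)) (tt N51448 F371025) (tt N113126 (iv4 F484095)) (tt N50164 (iv5 D187620)) (tt N114338 D217594) (tt N82930 F371026))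
theorem Q84901 : ∀ i, i < 84901 → P i := stepQ 84900 Q84900 (allL N84900 (tt N114339 D217595) (tt N63349 (iv0 F397544)) (tt N74951 F371027) (tt N85547 (iv3 F373029)) (tt N50165 F371028) (tt N114340 D217596) (tt N50164 (iv6 D187621)) (tt N114341 D217597))
theorem Q84902 : ∀ i, i < 84902 → P i := stepQ 84901 Q84901 (allL N84901 (tt N114333 (iv1 F489666)) (tt N50165 (iv0 D187622)) (tt N107634 F459031) (tt N114342 D217598) (tt N98501 (iv4 F421140)) (tt N72367 (iv5 F375825)) (tt N72371 F375824) (tt N100213 (iv7 F428018)))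
theorem Q84903 : ∀ i, i < 84903 → P i := stepQ 84902 Q84902 (allL N84902 (tt N50165 (iv1 D187623)) (tt N114333 F489665) (tt N100213 (iv2 F428016)) (tt N73263 (iv3 F372990)) (tt N76806 F372991) (tt N114343 D217599) (tt N76805 (iv6 F372992)) (tt N107634 (iv7 F459027)))
theorem Q84904 : ∀ i, i < 84904 → P i := stepQ 84903 Q84903 (allL N84903 (tt N100213 (iv1 F428021)) (tt N107634 (iv0 F459028)) (tt N114333 (iv2 F489660)) (tt N50168 F371029) (tt N114341 (iv4 F489705)) (tt N114318 (iv5 F489571)) (tt N85568 (iv6 F373085)) (tt N50165 (iv7 D187624)))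
theorem Q84905 : ∀ i, i < 84905 → P i := stepQ 84904 Q84904 (allL N84904 (tt N114344 D217600) (tt N86302 (iv0 F388362)) (tt N71185 F371032) (tt N50166 (iv3 D187626)) (tt N72834 (iv4 F371031)) (tt N70845 F371034) (tt N70848 (iv6 F371035)) (tt N50605 F371033))
theorem Q84906 : ∀ i, i < 84906 → P i := stepQ 84905 Q84905 (allL N84905 (tt N58324 (iv1 F373140)) (tt N54048 (iv0 F371046)) (tt N50603 F371042) (tt N70845 F371043) (tt N94963 (iv4 F406525)) (tt N50166 (iv5 D187628)) (tt N70843 F371045) (tt N50607 F371044))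
theorem Q84907 : ∀ i, i < 84907 → P i := stepQ 84906 Q84906 (allL N84906 (tt N86298 F375742) (tt N90579 (iv0 F390160)) (tt N50604 F371047) (tt N70848 F371048) (tt N88930 (iv4 F384555)) (tt N70844 F371049) (tt N50166 (iv6 D187629)) (tt N90656 (iv7 F390422)))
theorem Q84908 : ∀ i, i < 84908 → P i := stepQ 84907 Q84907 (allL N84907 (tt N86284 (iv1 F375688)) (tt N113853 F487463) (tt N113248 (iv2 F484699)) (tt N50167 (iv3 D187630)) (tt N89681 (iv4 F387207)) (tt N114345 D217601) (tt N89680 F387204) (tt N50601 F371054))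
theorem Q84909 : ∀ i, i < 84909 → P i := stepQ 84908 Q84908 (allL N84908 (tt N54048 F371059) (tt N58324 F373141) (tt N50607 F371057) (tt N114345 (iv3 F489731)) (tt N95678 (iv4 F409108)) (tt N50167 (iv5 D187632)) (tt N54054 (iv6 F371060)) (tt N50603 F371058))
theorem Q84910 : ∀ i, i < 84910 → P i := stepQ 84909 Q84909 (allL N84909 (tt N111145 F474919) (tt N54292 (iv0 F371062)) (tt N50608 F371061) (tt N89680 (iv3 F387202)) (tt N88969 (iv4 F384622)) (tt N114346 D217602) (tt N50167 (iv6 D187633)) (tt N113858 (iv7 F487493)))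
theorem Q84911 : ∀ i, i < 84911 → P i := stepQ 84910 Q84910 (allL N84910 (tt N93336 (iv1 F400465)) (tt N68319 F371994) (tt N53851 F371063) (tt N92638 (iv3 F397715)) (tt N50383 F371064) (tt N85951 (iv5 F374583)) (tt N50169 (iv6 D187634)) (tt N114347 D217603))
theorem Q84912 : ∀ i, i < 84912 → P i := stepQ 84911 Q84911 (allL N84911 (tt N83647 F371068) (tt N50803 (iv0 F371069)) (tt N83611 F371065) (tt N50171 (iv3 D187635)) (tt N83611 F371066) (tt N114348 D217604) (tt N92192 F396180) (tt N50174 F371067))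
theorem Q84913 : ∀ i, i < 84913 → P i := stepQ 84912 Q84912 (allL N84912 (tt N85964 (iv1 F374648)) (tt N70016 (iv0 F371073)) (tt N50173 F371070) (tt N114348 (iv3 F489752)) (tt N113575 (iv4 F486094)) (tt N50171 (iv5 D187636)) (tt N66070 F371071) (tt N50175 F371072))
theorem Q84914 : ∀ i, i < 84914 → P i := stepQ 84913 Q84913 (allL N84913 (tt N50175 (iv1 F371074)) (tt N50173 (iv0 D187637)) (tt N85964 (iv2 F374644)) (tt N61689 F371077) (tt N67801 (iv4 F371078)) (tt N85764 (iv5 F373834)) (tt N70037 (iv6 F371076)) (tt N70016 F371075))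
theorem Q84915 : ∀ i, i < 84915 → P i := stepQ 84914 Q84914 (allL N84914 (tt N83668 F371080) (tt N103784 (iv0 F442798)) (tt N113575 F486096) (tt N70583 (iv3 F371081)) (tt N50173 (iv4 D187638)) (tt N103782 (iv5 F442788)) (tt N70582 F371079) (tt N105758 (iv7 F451559)))
theorem Q84916 : ∀ i, i < 84916 → P i := stepQ 84915 Q84915 (allL N84915 (tt N91031 F391667) (tt N114349 D217605) (tt N85944 (iv2 F374539)) (tt N50175 F371082) (tt N103277 (iv4 F440943)) (tt N50174 (iv5 D187639)) (tt N102933 (iv6 F439318)) (tt N114348 (iv7 F489755)))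
theorem Q84917 : ∀ i, i < 84917 → P i := stepQ 84916 Q84916 (allL N84916 (tt N103784 F442800) (tt N83668 F371083) (tt N105758 (iv2 F451557)) (tt N103286 (iv3 F440991)) (tt N50175 (iv4 D187640)) (tt N103763 F442727) (tt N109434 (iv6 F466937)) (tt N113575 (iv7 F486098)))
theorem Q84918 : ∀ i, i < 84918 → P i := stepQ 84917 Q84917 (allL N84917 (tt N83660 F371084) (tt N75718 (iv0 F371085)) (tt N85055 F371474) (tt N114350 D217606) (tt N50176 (iv4 D187641)) (tt N114350 (iv5 F489764)) (tt N114351 D217607) (tt N85056 (iv7 F371476)))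
theorem Q84919 : ∀ i, i < 84919 → P i := stepQ 84918 Q84918 (allL N84918 (tt N84426 (iv1 F371090)) (tt N51274 (iv0 F371091)) (tt N84425 F371086) (tt N60829 F371087) (tt N84561 F371089) (tt N50176 (iv5 D187642)) (tt N85377 F372400) (tt N50733 F371088))
theorem Q84920 : ∀ i, i < 84920 → P i := stepQ 84919 Q84919 (allL N84919 (tt N69528 F374649) (tt N111235 F475359) (tt N111223 (iv2 F475290)) (tt N60830 F371092) (tt N114351 (iv4 F489768)) (tt N92863 F398565) (tt N50176 (iv6 D187643)) (tt N111221 (iv7 F475284)))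
theorem Q84921 : ∀ i, i < 84921 → P i := stepQ 84920 Q84920 (allL N84920 (tt N56247 F386958) (tt N102939 F439349) (tt N60831 F371093) (tt N50177 (iv3 D187644)) (tt N114352 D217608) (tt N114353 D217609) (tt N110287 (iv6 F470855)) (tt N102940 (iv7 F439354)))
theorem Q84922 : ∀ i, i < 84922 → P i := stepQ 84921 Q84921 (allL N84921 (tt N75718 F371094) (tt N83660 F371095) (tt N85056 F371478) (tt N114354 D217610) (tt N50177 (iv4 D187645)) (tt N114355 D217611) (tt N114356 D217612) (tt N85055 F371475))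
theorem Q84923 : ∀ i, i < 84923 → P i := stepQ 84922 Q84922 (allL N84922 (tt N51274 F371101) (tt N84426 F371099) (tt N50733 F371096) (tt N114353 (iv3 F489778)) (tt N52408 F371098) (tt N50177 (iv5 D187646)) (tt N50728 F371100) (tt N84425 F371097))
theorem Q84924 : ∀ i, i < 84924 → P i := stepQ 84923 Q84923 (allL N84923 (tt N79974 (iv1 F398473)) (tt N79975 F398474) (tt N92651 F397769) (tt N110287 (iv3 F470851)) (tt N114356 (iv4 F489790)) (tt N110286 (iv5 F470849)) (tt N50177 (iv6 D187647)) (tt N92650 (iv7 F397770)))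
theorem Q84925 : ∀ i, i < 84925 → P i := stepQ 84924 Q84924 (allL N84924 (tt N68872 (iv1 F371103)) (tt N50178 (iv0 D187648)) (tt N109436 (iv2 F466951)) (tt N114357 D217613) (tt N50274 F371102) (tt N114358 D217614) (tt N103492 (iv6 F446966)) (tt N109437 (iv7 F466956)))
theorem Q84926 : ∀ i, i < 84926 → P i := stepQ 84925 Q84925 (allL N84925 (tt N50178 (iv1 D187649)) (tt N68872 F371104) (tt N109437 (iv2 F466955)) (tt N114359 D217615) (tt N50275 F371105) (tt N114360 D217616) (tt N114361 D217617) (tt N109436 (iv7 F466952)))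
theorem Q84927 : ∀ i, i < 84927 → P i := stepQ 84926 Q84926 (allL N84926 (tt N103677 (iv1 F442452)) (tt N103676 F442458) (tt N103679 (iv2 F442454)) (tt N50178 (iv3 D187650)) (tt N50201 F371106) (tt N104750 (iv5 F447104)) (tt N71952 F371107) (tt N103674 (iv7 F442450)))
theorem Q84928 : ∀ i, i < 84928 → P i := stepQ 84927 Q84927 (allL N84927 (tt N114362 D217618) (tt N114363 D217619) (tt N109439 (iv2 F466963)) (tt N104750 (iv3 F447102)) (tt N102901 (iv4 F439187)) (tt N50178 (iv5 D187651)) (tt N104749 (iv6 F447100)) (tt N114364 D217620))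
theorem Q84929 : ∀ i, i < 84929 → P i := stepQ 84928 Q84928 (allL N84928 (tt N109437 (iv1 F466958)) (tt N109436 (iv0 F466953)) (tt N68872 F371108) (tt N103674 (iv3 F442448)) (tt N50179 F371109) (tt N114364 (iv5 F489817)) (tt N68870 F371110) (tt N50178 (iv7 D187652)))
theorem Q84930 : ∀ i, i < 84930 → P i := stepQ 84929 Q84929 (allL N84929 (tt N68135 F371113) (tt N86043 (iv0 F374987)) (tt N83953 F371111) (tt N114365 D217621) (tt N50180 (iv4 D187653)) (tt N114366 D217622) (tt N50723 F371112) (tt N86502 (iv7 F376397)))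
theorem Q84931 : ∀ i, i < 84931 → P i := stepQ 84930 Q84930 (allL N84930 (tt N70014 F371117) (tt N92621 (iv0 F397665)) (tt N75056 F371114) (tt N74876 F371115) (tt N90634 (iv4 F390329)) (tt N61064 F371116) (tt N50181 (iv6 D187654)) (tt N81401 (iv7 F371118)))
theorem Q84932 : ∀ i, i < 84932 → P i := stepQ 84931 Q84931 (allL N84931 (tt N114055 (iv1 F488383)) (tt N85966 (iv0 F374654)) (tt N85960 (iv2 F374627)) (tt N60728 F371119) (tt N97998 (iv4 F419107)) (tt N61160 F371120) (tt N50182 (iv6 D187655)) (tt N114054 (iv7 F488372)))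
theorem Q84933 : ∀ i, i < 84933 → P i := stepQ 84932 Q84932 (allL N84932 (tt N98725 F422028) (tt N104082 F444089) (tt N75070 F371122) (tt N86588 (iv3 F376544)) (tt N72001 F371123) (tt N51436 F371124) (tt N50183 (iv6 D187656)) (tt N104069 (iv7 F444026)))
theorem Q84934 : ∀ i, i < 84934 → P i := stepQ 84933 Q84933 (allL N84933 (tt N75099 F371162) (tt N50193 F371163) (tt N85970 (iv2 F374666)) (tt N102939 (iv3 F439346)) (tt N65199 (iv4 F371127)) (tt N50184 (iv5 D187657)) (tt N70622 F371125) (tt N56050 F371126))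
theorem Q84935 : ∀ i, i < 84935 → P i := stepQ 84934 Q84934 (allL N84934 (tt N85973 (iv1 F374681)) (tt N85972 F374678) (tt N50186 F371128) (tt N50222 F371129) (tt N110423 (iv4 F471510)) (tt N50185 (iv5 D187658)) (tt N114367 D217623) (tt N85971 (iv7 F374674)))
theorem Q84936 : ∀ i, i < 84936 → P i := stepQ 84935 Q84935 (allL N84935 (tt N85434 (iv1 F372626)) (tt N85433 F372623) (tt N50187 F371130) (tt N50223 F371131) (tt N81879 F371132) (tt N85821 (iv5 F374115)) (tt N50185 (iv6 D187659)) (tt N85432 (iv7 F372614)))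
theorem Q84937 : ∀ i, i < 84937 → P i := stepQ 84936 Q84936 (allL N84936 (tt N85971 (iv1 F374675)) (tt N50186 (iv0 D187660)) (tt N85973 (iv2 F374684)) (tt N114349 F489758) (tt N70373 F371133) (tt N85785 (iv5 F373928)) (tt N105770 F451630) (tt N85972 F374680))
theorem Q84938 : ∀ i, i < 84938 → P i := stepQ 84937 Q84937 (allL N84937 (tt N50186 (iv1 D187661)) (tt N85971 (iv0 F374676)) (tt N85972 F374679) (tt N85950 F374575) (tt N70374 F371134) (tt N85786 (iv5 F374080)) (tt N97978 (iv6 F419043)) (tt N85973 (iv7 F374682)))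
theorem Q84939 : ∀ i, i < 84939 → P i := stepQ 84938 Q84938 (allL N84938 (tt N113574 (iv1 F486091)) (tt N83662 F371135) (tt N110423 (iv2 F471508)) (tt N94147 (iv3 F403424)) (tt N50186 (iv4 D187662)) (tt N94145 F403420) (tt N105088 (iv6 F448735)) (tt N85974 (iv7 F374687)))
theorem Q84940 : ∀ i, i < 84940 → P i := stepQ 84939 Q84939 (allL N84939 (tt N70362 F371137) (tt N70366 (iv0 F371138)) (tt N114367 (iv2 F489826)) (tt N50189 F371136) (tt N105088 (iv4 F448734)) (tt N85822 (iv5 F374121)) (tt N50186 (iv6 D187663)) (tt N105682 (iv7 F451226)))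
theorem Q84941 : ∀ i, i < 84941 → P i := stepQ 84940 Q84940 (allL N84940 (tt N85432 F372615) (tt N50187 (iv0 D187664)) (tt N85434 (iv2 F372629)) (tt N84786 F371139) (tt N90185 (iv4 F388816)) (tt N84711 (iv5 F371141)) (tt N50402 (iv6 F371140)) (tt N85433 F372625))
theorem Q84942 : ∀ i, i < 84942 → P i := stepQ 84941 Q84941 (allL N84941 (tt N50187 (iv1 D187665)) (tt N85432 F372617) (tt N85433 F372624) (tt N54757 F372619) (tt N85515 (iv4 F372911)) (tt N75621 (iv5 F372618)) (tt N85431 (iv6 F372620)) (tt N85434 (iv7 F372627)))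
theorem Q84943 : ∀ i, i < 84943 → P i := stepQ 84942 Q84942 (allL N84942 (tt N50190 (iv1 D187666)) (tt N50222 F371142) (tt N51591 F371144) (tt N85940 F374528) (tt N114368 D217624) (tt N51585 (iv5 F371143)) (tt N69369 F371146) (tt N85961 (iv7 F374631)))
theorem Q84944 : ∀ i, i < 84944 → P i := stepQ 84943 Q84943 (allL N84943 (tt N69098 F422069) (tt N114369 D217625) (tt N113577 (iv2 F486106)) (tt N114370 D217626) (tt N50190 (iv4 D187667)) (tt N114371 D217627) (tt N102921 (iv6 F439275)) (tt N85962 (iv7 F374635)))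
theorem Q84945 : ∀ i, i < 84945 → P i := stepQ 84944 Q84944 (allL N84944 (tt N88742 F487233) (tt N88737 (iv0 F442751)) (tt N88740 F384000) (tt N50191 (iv3 D187668)) (tt N114370 (iv4 F489843)) (tt N113741 (iv5 F486904)) (tt N107045 (iv6 F456758)) (tt N85967 (iv7 F374656)))
theorem Q84946 : ∀ i, i < 84946 → P i := stepQ 84945 Q84945 (allL N84945 (tt N98001 (iv1 F419127)) (tt N84068 (iv0 F371152)) (tt N85977 (iv2 F374703)) (tt N107045 (iv3 F456757)) (tt N50192 F371151) (tt N82890 (iv5 F371153)) (tt N50191 (iv6 D187669)) (tt N98000 (iv7 F419117)))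
theorem Q84947 : ∀ i, i < 84947 → P i := stepQ 84946 Q84946 (allL N84946 (tt N85979 (iv1 F374721)) (tt N50192 (iv0 D187670)) (tt N85978 (iv2 F374718)) (tt N75739 F374719) (tt N90406 (iv4 F389541)) (tt N104003 (iv5 F443743)) (tt N90405 F389539) (tt N75736 F374720))
theorem Q84948 : ∀ i, i < 84948 → P i := stepQ 84947 Q84947 (allL N84947 (tt N75736 (iv1 F371156)) (tt N85978 F374713) (tt N85979 (iv2 F374709)) (tt N102913 F439241) (tt N98000 F419119) (tt N83807 F371154) (tt N70012 F371155) (tt N50192 (iv7 D187671)))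
theorem Q84949 : ∀ i, i < 84949 → P i := stepQ 84948 Q84948 (allL N84948 (tt N85970 (iv1 F374671)) (tt N56050 F371160) (tt N50193 (iv2 D187673)) (tt N50224 F371158) (tt N110425 (iv4 F471522)) (tt N86912 (iv5 F377680)) (tt N109712 (iv6 F468235)) (tt N75099 F371159))
theorem Q84950 : ∀ i, i < 84950 → P i := stepQ 84949 Q84949 (allL N84949 (tt N110424 (iv1 F471518)) (tt N50942 (iv0 F371164)) (tt N110425 (iv2 F471524)) (tt N107649 (iv3 F459069)) (tt N50193 (iv4 D187674)) (tt N107648 (iv5 F459067)) (tt N106544 F454829) (tt N85983 (iv7 F374743)))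
theorem Q84951 : ∀ i, i < 84951 → P i := stepQ 84950 Q84950 (allL N84950 (tt N111326 F475838) (tt N85026 (iv0 F371405)) (tt N109712 (iv2 F468233)) (tt N50195 F371165) (tt N106544 (iv4 F454828)) (tt N76184 F371166) (tt N50193 (iv6 D187675)) (tt N114372 D217628))
theorem Q84952 : ∀ i, i < 84952 → P i := stepQ 84951 Q84951 (allL N84951 (tt N105450 F450319) (tt N71986 (iv0 F371167)) (tt N105451 F450323) (tt N50194 (iv3 D187676)) (tt N107649 (iv4 F459071)) (tt N89538 (iv5 F386732)) (tt N100959 (iv6 F431098)) (tt N85041 (iv7 F371443)))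
theorem Q84953 : ∀ i, i < 84953 → P i := stepQ 84952 Q84952 (allL N84952 (tt N77204 (iv1 F371171)) (tt N77216 (iv0 F371170)) (tt N77214 F371168) (tt N100959 (iv3 F431097)) (tt N50195 F371169) (tt N88502 (iv5 F383301)) (tt N50194 (iv6 D187677)) (tt N77213 (iv7 F374736)))
theorem Q84954 : ∀ i, i < 84954 → P i := stepQ 84953 Q84953 (allL N84953 (tt N50195 (iv1 D187678)) (tt N85982 F374741) (tt N85981 F374731) (tt N111235 (iv3 F475356)) (tt N90392 F389491) (tt N114373 D217629) (tt N104173 (iv6 F444532)) (tt N85980 F374728))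
theorem Q84955 : ∀ i, i < 84955 → P i := stepQ 84954 Q84954 (allL N84954 (tt N85981 (iv1 F374729)) (tt N85980 F374737) (tt N85982 (iv2 F374738)) (tt N114372 (iv3 F489853)) (tt N77213 F374735) (tt N89866 (iv5 F387793)) (tt N85987 (iv6 F374755)) (tt N50195 (iv7 D187679)))
theorem Q84956 : ∀ i, i < 84956 → P i := stepQ 84955 Q84955 (allL N84955 (tt N97946 (iv1 F418915)) (tt N67787 (iv0 F371174)) (tt N75100 F371172) (tt N114374 D217630) (tt N50196 (iv4 D187680)) (tt N114375 D217631) (tt N114376 D217632) (tt N75097 F371173))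
theorem Q84957 : ∀ i, i < 84957 → P i := stepQ 84956 Q84956 (allL N84956 (tt N76619 F371179) (tt N56338 F371180) (tt N75101 F371176) (tt N50198 F371177) (tt N114376 (iv4 F489866)) (tt N84766 F371178) (tt N50196 (iv6 D187681)) (tt N92659 F397797))
theorem Q84958 : ∀ i, i < 84958 → P i := stepQ 84957 Q84957 (allL N84957 (tt N114377 D217633) (tt N114378 D217634) (tt N114379 D217635) (tt N50197 (iv3 D187682)) (tt N114374 (iv4 F489860)) (tt N113958 (iv5 F487964)) (tt N114380 D217636) (tt N85040 (iv7 F371442)))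
theorem Q84959 : ∀ i, i < 84959 → P i := stepQ 84958 Q84958 (allL N84958 (tt N92236 (iv1 F396402)) (tt N98574 (iv0 F421377)) (tt N85042 (iv2 F371446)) (tt N114380 (iv3 F489880)) (tt N50198 F371181) (tt N54443 (iv5 F371182)) (tt N50197 (iv6 D187683)) (tt N98577 (iv7 F421422)))
theorem Q84960 : ∀ i, i < 84960 → P i := stepQ 84959 Q84959 (allL N84959 (tt N85987 (iv1 F374763)) (tt N50198 (iv0 D187684)) (tt N85985 (iv2 F374759)) (tt N79974 F374760) (tt N114381 D217637) (tt N76615 (iv5 F374762)) (tt N105782 (iv6 F451692)) (tt N85986 F374761))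
theorem Q84961 : ∀ i, i < 84961 → P i := stepQ 84960 Q84960 (allL N84960 (tt N50198 (iv1 D187685)) (tt N85987 F374757) (tt N85986 F374751) (tt N98726 (iv3 F422030)) (tt N105118 (iv4 F448879)) (tt N76616 F371183) (tt N98725 F422027) (tt N85985 (iv7 F374758)))
theorem Q84962 : ∀ i, i < 84962 → P i := stepQ 84961 Q84961 (allL N84961 (tt N103316 F441113) (tt N71626 (iv0 F374929)) (tt N90412 (iv2 F389553)) (tt N50199 (iv3 D187686)) (tt N114382 D217638) (tt N89614 (iv5 F386951)) (tt N84089 F374927) (tt N85989 (iv7 F374768)))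
theorem Q84963 : ∀ i, i < 84963 → P i := stepQ 84962 Q84962 (allL N84962 (tt N83699 F371187) (tt N83701 F371188) (tt N55417 F371184) (tt N106852 (iv3 F455994)) (tt N50208 F371185) (tt N50200 (iv5 D187687)) (tt N114383 D217639) (tt N84287 F371186))
theorem Q84964 : ∀ i, i < 84964 → P i := stepQ 84963 Q84963 (allL N84963 (tt N114381 (iv1 F489892)) (tt N105118 (iv0 F448881)) (tt N85990 (iv2 F374769)) (tt N106853 (iv3 F455999)) (tt N50263 F371189) (tt N81383 (iv5 F371190)) (tt N50200 (iv6 D187688)) (tt N90624 (iv7 F390304)))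
theorem Q84965 : ∀ i, i < 84965 → P i := stepQ 84964 Q84964 (allL N84964 (tt N70259 (iv1 F371196)) (tt N50201 (iv0 D187689)) (tt N114384 D217640) (tt N114385 D217641) (tt N114386 D217642) (tt N114387 D217643) (tt N101015 (iv6 F431279)) (tt N114388 D217644))
theorem Q84966 : ∀ i, i < 84966 → P i := stepQ 84965 Q84965 (allL N84965 (tt N50201 (iv1 D187690)) (tt N70259 F371193) (tt N114388 (iv2 F489917)) (tt N108346 (iv3 F489929)) (tt N114389 D217646) (tt N114390 D217647) (tt N114391 D217648) (tt N114384 F489902))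
theorem Q84967 : ∀ i, i < 84967 → P i := stepQ 84966 Q84966 (allL N84966 (tt N114384 F489915) (tt N114388 F489920) (tt N50201 (iv2 D187691)) (tt N70261 F371191) (tt N103679 (iv4 F442456)) (tt N113989 (iv5 F488083)) (tt N104643 (iv6 F446662)) (tt N70259 (iv7 F371192)))
theorem Q84968 : ∀ i, i < 84968 → P i := stepQ 84967 Q84967 (allL N84967 (tt N114388 (iv1 F489921)) (tt N114384 F489916) (tt N70259 F371194) (tt N50202 F371195) (tt N103674 (iv4 F442449)) (tt N85451 (iv5 F372659)) (tt N70257 (iv6 F371197)) (tt N50201 (iv7 D187692)))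
theorem Q84969 : ∀ i, i < 84969 → P i := stepQ 84968 Q84968 (allL N84968 (tt N70263 (iv1 F371202)) (tt N70262 (iv0 F371203)) (tt N69360 F371198) (tt N70257 F371199) (tt N50203 F371200) (tt N105548 (iv5 F450684)) (tt N50202 (iv6 D187693)) (tt N70264 F371201))
theorem Q84970 : ∀ i, i < 84970 → P i := stepQ 84969 Q84969 (allL N84969 (tt N97550 (iv1 F417349)) (tt N97537 (iv0 F417303)) (tt N68777 F371204) (tt N113811 F487230) (tt N50204 (iv4 D187694)) (tt N114392 D217649) (tt N61745 F371205) (tt N85991 (iv7 F374773)))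
theorem Q84971 : ∀ i, i < 84971 → P i := stepQ 84970 Q84970 (allL N84970 (tt N55408 (iv1 F371211)) (tt N50206 (iv0 D187695)) (tt N55406 (iv2 F371208)) (tt N55757 (iv3 F371209)) (tt N112342 (iv4 F480660)) (tt N76037 F371206) (tt N55754 F371207) (tt N55407 (iv7 F371210)))
theorem Q84972 : ∀ i, i < 84972 → P i := stepQ 84971 Q84971 (allL N84971 (tt N50206 (iv1 D187696)) (tt N55408 F371212) (tt N55407 F371217) (tt N70754 (iv3 F371215)) (tt N69915 (iv4 F371214)) (tt N81462 (iv5 F371216)) (tt N67935 F371218) (tt N55406 F371213))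
theorem Q84973 : ∀ i, i < 84973 → P i := stepQ 84972 Q84972 (allL N84972 (tt N55407 (iv1 F371224)) (tt N55406 F371225) (tt N55408 F371219) (tt N61747 F371220) (tt N58957 F371221) (tt N81531 F371222) (tt N60929 F371223) (tt N50206 (iv7 D187697)))
theorem Q84974 : ∀ i, i < 84974 → P i := stepQ 84973 Q84973 (allL N84973 (tt N83685 F371229) (tt N83687 (iv0 F371230)) (tt N83498 F371226) (tt N50208 F371227) (tt N114393 D217650) (tt N50207 (iv5 D187698)) (tt N114394 D217651) (tt N84286 F371228))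
theorem Q84975 : ∀ i, i < 84975 → P i := stepQ 84974 Q84974 (allL N84974 (tt N84165 F371233) (tt N91800 (iv0 F394479)) (tt N55418 F371231) (tt N114394 (iv3 F489944)) (tt N114383 (iv4 F489900)) (tt N53048 F371232) (tt N50208 (iv6 D187699)) (tt N114395 D217652))
theorem Q84976 : ∀ i, i < 84976 → P i := stepQ 84975 Q84975 (allL N84975 (tt N50209 (iv1 D187700)) (tt N83561 F371237) (tt N84751 F371236) (tt N83501 (iv3 F372519)) (tt N85180 (iv4 F371830)) (tt N113727 (iv5 F486863)) (tt N50792 (iv6 F371235)) (tt N85339 (iv7 F372291)))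
theorem Q84977 : ∀ i, i < 84977 → P i := stepQ 84976 Q84976 (allL N84976 (tt N85339 (iv1 F372290)) (tt N84751 F371242) (tt N50209 (iv2 D187701)) (tt N82792 F371238) (tt N83322 F371239) (tt N113020 (iv5 F483593)) (tt N82791 F371240) (tt N83561 F371241))
theorem Q84978 : ∀ i, i < 84978 → P i := stepQ 84977 Q84977 (allL N84977 (tt N83898 F371246) (tt N83900 F371245) (tt N113020 (iv2 F483592)) (tt N50210 F371243) (tt N114396 D217653) (tt N50209 (iv5 D187702)) (tt N88741 (iv6 F383992)) (tt N84417 F371244))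
theorem Q84979 : ∀ i, i < 84979 → P i := stepQ 84978 Q84978 (allL N84978 (tt N64314 F371252) (tt N64316 F371251) (tt N84414 F371247) (tt N83508 F371248) (tt N101288 (iv4 F432540)) (tt N50211 (iv5 D187703)) (tt N70457 F371249) (tt N84413 F371250))
theorem Q84980 : ∀ i, i < 84980 → P i := stepQ 84979 Q84979 (allL N84979 (tt N100993 (iv1 F431183)) (tt N88486 (iv0 F383244)) (tt N100858 (iv2 F430798)) (tt N105245 F449371) (tt N50213 (iv4 D187704)) (tt N101280 (iv5 F432511)) (tt N112776 (iv6 F482604)) (tt N91127 (iv7 F392024)))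
theorem Q84981 : ∀ i, i < 84981 → P i := stepQ 84980 Q84980 (allL N84980 (tt N85450 (iv1 F372658)) (tt N50214 (iv0 D187705)) (tt N85447 F375652) (tt N114397 D217654) (tt N114398 D217655) (tt N114399 D217656) (tt N113827 (iv6 F487321)) (tt N85448 F375650))
theorem Q84982 : ∀ i, i < 84982 → P i := stepQ 84981 Q84981 (allL N84981 (tt N50214 (iv1 D187706)) (tt N85450 F372657) (tt N85448 (iv2 F375649)) (tt N114400 D217657) (tt N112986 F483436) (tt N85427 (iv5 F372599)) (tt N112984 (iv6 F483437)) (tt N85447 (iv7 F375651)))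
theorem Q84983 : ∀ i, i < 84983 → P i := stepQ 84982 Q84982 (allL N84982 (tt N85448 (iv1 F372650)) (tt N85447 F372656) (tt N85450 (iv2 F372654)) (tt N112739 (iv3 F482454)) (tt N113972 (iv4 F488025)) (tt N51235 F371253) (tt N91147 (iv6 F392073)) (tt N50214 (iv7 D187707)))
theorem Q84984 : ∀ i, i < 84984 → P i := stepQ 84983 Q84983 (allL N84983 (tt N53624 (iv1 F371257)) (tt N53196 (iv0 F371256)) (tt N53485 F371254) (tt N88380 (iv3 F382819)) (tt N114401 D217658) (tt N50215 (iv5 D187708)) (tt N88516 (iv6 F383360)) (tt N53591 F371255))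
theorem Q84985 : ∀ i, i < 84985 → P i := stepQ 84984 Q84984 (allL N84984 (tt N53221 F371261) (tt N53801 F371262) (tt N53483 F371258) (tt N83071 F371259) (tt N85859 (iv4 F374241)) (tt N50216 (iv5 D187709)) (tt N88518 (iv6 F383368)) (tt N53781 F371260))
theorem Q84986 : ∀ i, i < 84986 → P i := stepQ 84985 Q84985 (allL N84985 (tt N54654 (iv1 F371267)) (tt N54653 F371266) (tt N50220 F371263) (tt N53505 F371264) (tt N90320 (iv4 F389336)) (tt N50217 (iv5 D187710)) (tt N113744 (iv6 F486918)) (tt N54652 F371265))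
theorem Q84987 : ∀ i, i < 84987 → P i := stepQ 84986 Q84986 (allL N84986 (tt N54685 F371275) (tt N53442 (iv0 F371276)) (tt N54651 F371272) (tt N71863 F371273) (tt N93714 F401644) (tt N50218 (iv5 D187711)) (tt N71976 (iv6 F371277)) (tt N54650 F371274))
theorem Q84988 : ∀ i, i < 84988 → P i := stepQ 84987 Q84987 (allL N84987 (tt N53442 F371281) (tt N54685 F371287) (tt N54650 F371278) (tt N71999 F371279) (tt N59194 F371283) (tt N50219 (iv5 D187712)) (tt N59193 (iv6 F371282)) (tt N54651 F371280))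
theorem Q84989 : ∀ i, i < 84989 → P i := stepQ 84988 Q84988 (allL N84988 (tt N53012 F371291) (tt N52309 F371293) (tt N53597 F371288) (tt N52305 F371289) (tt N113580 (iv4 F486124)) (tt N83998 (iv5 F371292)) (tt N50219 (iv6 D187713)) (tt N53598 F371290))
theorem Q84990 : ∀ i, i < 84990 → P i := stepQ 84989 Q84989 (allL N84989 (tt N54652 (iv1 F371296)) (tt N50220 (iv0 D187714)) (tt N54654 (iv2 F371295)) (tt N100177 F427864) (tt N103349 (iv4 F441220)) (tt N53154 F371298) (tt N103348 F441213) (tt N54653 F371297))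
theorem Q84991 : ∀ i, i < 84991 → P i := stepQ 84990 Q84990 (allL N84990 (tt N90318 (iv1 F389334)) (tt N90221 (iv0 F388973)) (tt N90320 F389337) (tt N90706 (iv3 F390575)) (tt N50220 (iv4 D187715)) (tt N114402 D217659) (tt N111377 F476085) (tt N54655 F371299))
theorem Q84992 : ∀ i, i < 84992 → P i := stepQ 84991 Q84991 (allL N84991 (tt N50446 (iv1 F371302)) (tt N50221 (iv0 D187716)) (tt N53847 (iv2 F371301)) (tt N85938 F374518) (tt N106331 (iv4 F454063)) (tt N53838 F371300) (tt N105800 (iv6 F451779)) (tt N53844 F371303))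
theorem Q84993 : ∀ i, i < 84993 → P i := stepQ 84992 Q84992 (allL N84992 (tt N114403 D217660) (tt N114404 D217661) (tt N85934 (iv2 F374501)) (tt N114405 D217662) (tt N50221 (iv4 D187717)) (tt N114406 D217663) (tt N63474 F371304) (tt N114304 (iv7 F489498)))
theorem Q84994 : ∀ i, i < 84994 → P i := stepQ 84993 Q84993 (allL N84993 (tt N114369 (iv1 F489837)) (tt N69098 (iv0 F422068)) (tt N85962 (iv2 F374634)) (tt N114407 D217664) (tt N50222 (iv4 D187718)) (tt N114408 D217665) (tt N61673 (iv6 F371313)) (tt N113577 (iv7 F486107)))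
theorem Q84995 : ∀ i, i < 84995 → P i := stepQ 84994 Q84994 (allL N84994 (tt N92634 F397707) (tt N66207 (iv0 F371306)) (tt N85963 (iv2 F374637)) (tt N114367 (iv3 F489827)) (tt N61673 F371307) (tt N74451 F371305) (tt N50222 (iv6 D187719)) (tt N74450 (iv7 F371314)))
theorem Q84996 : ∀ i, i < 84996 → P i := stepQ 84995 Q84995 (allL N84995 (tt N67787 F371317) (tt N97946 F418914) (tt N75097 F371315) (tt N114409 D217666) (tt N50224 (iv4 D187720)) (tt N114410 D217667) (tt N114411 D217668) (tt N75100 F371316))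
theorem Q84997 : ∀ i, i < 84997 → P i := stepQ 84996 Q84996 (allL N84996 (tt N114412 D217669) (tt N105671 (iv0 F451184)) (tt N75098 F371318) (tt N109712 (iv3 F468234)) (tt N114411 (iv4 F490015)) (tt N86213 (iv5 F375395)) (tt N50224 (iv6 D187721)) (tt N109861 (iv7 F468967)))
theorem Q84998 : ∀ i, i < 84998 → P i := stepQ 84997 Q84997 (allL N84997 (tt N68993 (iv1 F371319)) (tt N50225 (iv0 D187722)) (tt N75094 F426335) (tt N114413 D217670) (tt N99811 (iv4 F426334)) (tt N114414 D217671) (tt N114415 D217672) (tt N75095 F426336))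
theorem Q84999 : ∀ i, i < 84999 → P i := stepQ 84998 Q84998 (allL N84998 (tt N50225 (iv1 D187723)) (tt N68993 F371320) (tt N75095 (iv2 F426339)) (tt N114416 D217673) (tt N104817 (iv4 F447429)) (tt N114417 D217674) (tt N114418 D217675) (tt N75094 (iv7 F426340)))
theorem Q85000 : ∀ i, i < 85000 → P i := stepQ 84999 Q84999 (allL N84999 (tt N104653 (iv1 F446703)) (tt N104652 F446711) (tt N104655 (iv2 F446715)) (tt N50225 (iv3 D187724)) (tt N50238 F371321) (tt N114419 D217676) (tt N67762 F371322) (tt N67624 F371323))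
theorem Q85001 : ∀ i, i < 85001 → P i := stepQ 85000 Q85000 (allL N85000 (tt N98680 F437916) (tt N114420 D217677) (tt N75096 F371324) (tt N114419 (iv3 F490060)) (tt N114421 D217678) (tt N50225 (iv5 D187725)) (tt N114422 D217679) (tt N103510 (iv7 F441888)))
theorem Q85002 : ∀ i, i < 85002 → P i := stepQ 85001 Q85001 (allL N85001 (tt N71771 F371328) (tt N71774 F371329) (tt N60781 F371325) (tt N73414 F371330) (tt N50227 (iv4 D187726)) (tt N71463 F371327) (tt N73414 (iv6 F371331)) (tt N60778 F371326))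
theorem Q85003 : ∀ i, i < 85003 → P i := stepQ 85002 Q85002 (allL N85002 (tt N91041 F391722) (tt N85951 (iv0 F374584)) (tt N60782 F371332) (tt N62787 F371333) (tt N73414 F371334) (tt N93321 (iv5 F400390)) (tt N50227 (iv6 D187727)) (tt N74879 F371335))
theorem Q85004 : ∀ i, i < 85004 → P i := stepQ 85003 Q85003 (allL N85003 (tt N50232 (iv1 D187728)) (tt N85955 F374603) (tt N85954 F374596) (tt N105671 (iv3 F451181)) (tt N104578 (iv4 F446374)) (tt N104766 (iv5 F447170)) (tt N104076 (iv6 F444055)) (tt N69533 F371336))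
theorem Q85005 : ∀ i, i < 85005 → P i := stepQ 85004 Q85004 (allL N85004 (tt N85954 (iv1 F374594)) (tt N69533 (iv0 F371340)) (tt N85955 (iv2 F374599)) (tt N69386 F371337) (tt N68951 F371338) (tt N86203 (iv5 F375359)) (tt N78605 F371339) (tt N50232 (iv7 D187729)))
theorem Q85006 : ∀ i, i < 85006 → P i := stepQ 85005 Q85005 (allL N85005 (tt N66657 (iv1 F371349)) (tt N70731 F371348) (tt N50233 (iv2 D187730)) (tt N62872 F371346) (tt N85025 (iv4 F371401)) (tt N84396 F371347) (tt N98547 (iv6 F421287)) (tt N85953 (iv7 F374591)))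
theorem Q85007 : ∀ i, i < 85007 → P i := stepQ 85006 Q85006 (allL N85006 (tt N62809 F371350) (tt N85028 F371410) (tt N85025 F371402) (tt N85955 (iv3 F374600)) (tt N50233 (iv4 D187731)) (tt N114423 D217680) (tt N98548 F421283) (tt N85024 F371399))
theorem Q85008 : ∀ i, i < 85008 → P i := stepQ 85007 Q85007 (allL N85007 (tt N76302 (iv1 F371353)) (tt N76304 (iv0 F372616)) (tt N98547 F421285) (tt N50235 F371351) (tt N98548 (iv4 F421281)) (tt N84713 F371352) (tt N50233 (iv6 D187732)) (tt N98548 (iv7 F421284)))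
theorem Q85009 : ∀ i, i < 85009 → P i := stepQ 85008 Q85008 (allL N85008 (tt N78605 (iv1 F371358)) (tt N50235 (iv0 D187733)) (tt N56327 (iv2 F371356)) (tt N76619 F371357) (tt N80721 F371355) (tt N56325 F371354) (tt N69365 F371359) (tt N85956 (iv7 F374606)))
theorem Q85010 : ∀ i, i < 85010 → P i := stepQ 85009 Q85009 (allL N85009 (tt N85956 (iv1 F374605)) (tt N56327 (iv0 F371364)) (tt N78605 F371361) (tt N98548 F421282) (tt N78547 F371362) (tt N84718 F371363) (tt N85955 (iv6 F374602)) (tt N50235 (iv7 D187734)))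
theorem Q85011 : ∀ i, i < 85011 → P i := stepQ 85010 Q85010 (allL N85010 (tt N114274 (iv1 F489340)) (tt N85859 (iv0 F374242)) (tt N79027 F371365) (tt N50242 F371366) (tt N76713 F371369) (tt N50241 (iv5 D187735)) (tt N61372 F371367) (tt N83250 F371368))
theorem Q85012 : ∀ i, i < 85012 → P i := stepQ 85011 Q85011 (allL N85011 (tt N85519 (iv1 F374793)) (tt N89623 (iv0 F386995)) (tt N85995 (iv2 F374785)) (tt N53729 F371372) (tt N50242 (iv4 D187736)) (tt N114424 D217681) (tt N79000 F371371) (tt N84891 (iv7 F374789)))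
theorem Q85013 : ∀ i, i < 85013 → P i := stepQ 85012 Q85012 (allL N85012 (tt N55396 F371375) (tt N91794 F394461) (tt N50248 F371373) (tt N98738 (iv3 F422095)) (tt N97979 (iv4 F419045)) (tt N50243 (iv5 D187737)) (tt N98737 (iv6 F422093)) (tt N50251 F371374))
theorem Q85014 : ∀ i, i < 85014 → P i := stepQ 85013 Q85013 (allL N85013 (tt N91794 (iv1 F394460)) (tt N55396 (iv0 F371379)) (tt N50251 F371376) (tt N50272 F371377) (tt N97980 F419055) (tt N50244 (iv5 D187738)) (tt N109052 (iv6 F465117)) (tt N50248 F371378))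
theorem Q85015 : ∀ i, i < 85015 → P i := stepQ 85014 Q85014 (allL N85014 (tt N113325 (iv1 F485030)) (tt N89186 (iv0 F385490)) (tt N53683 F371380) (tt N85918 (iv3 F374458)) (tt N50246 (iv4 D187739)) (tt N85926 (iv5 F374485)) (tt N89998 (iv6 F388250)) (tt N54759 F371381))
theorem Q85016 : ∀ i, i < 85016 → P i := stepQ 85015 Q85015 (allL N85015 (tt N50251 (iv1 F371384)) (tt N50248 (iv0 D187740)) (tt N55396 (iv2 F371383)) (tt N86017 (iv3 F374906)) (tt N105789 (iv4 F451723)) (tt N84403 F371382) (tt N104046 (iv6 F443920)) (tt N91794 (iv7 F394459)))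
theorem Q85017 : ∀ i, i < 85017 → P i := stepQ 85016 Q85016 (allL N85016 (tt N98732 F422070) (tt N98741 (iv0 F422105)) (tt N98742 (iv2 F422107)) (tt N50251 F371385) (tt N114425 D217682) (tt N50250 (iv5 D187741)) (tt N98748 (iv6 F422137)) (tt N98738 F422097))
theorem Q85018 : ∀ i, i < 85018 → P i := stepQ 85017 Q85017 (allL N85017 (tt N91799 (iv1 F396077)) (tt N55742 (iv0 F371386)) (tt N109052 F465118) (tt N98748 (iv3 F422136)) (tt N97983 (iv4 F419061)) (tt N114070 (iv5 F488436)) (tt N50251 (iv6 D187743)) (tt N98744 (iv7 F422120)))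
theorem Q85019 : ∀ i, i < 85019 → P i := stepQ 85018 Q85018 (allL N85018 (tt N91029 (iv1 F391658)) (tt N89615 (iv0 F386957)) (tt N85020 (iv2 F386962)) (tt N104054 F443945) (tt N50252 (iv4 D187744)) (tt N85133 (iv5 F386959)) (tt N62810 F386961) (tt N98546 (iv7 F421279)))
theorem Q85020 : ∀ i, i < 85020 → P i := stepQ 85019 Q85019 (allL N85019 (tt N91056 F391790) (tt N51260 F371388) (tt N86823 (iv2 F377305)) (tt N86829 F377340) (tt N106901 (iv4 F456210)) (tt N50252 (iv5 D187745)) (tt N85200 (iv6 F371872)) (tt N51282 F371387))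
theorem Q85021 : ∀ i, i < 85021 → P i := stepQ 85020 Q85020 (allL N85020 (tt N105881 F452165) (tt N102955 (iv0 F439425)) (tt N85018 F386962) (tt N98676 (iv3 F421814)) (tt N62810 (iv4 F386963)) (tt N97985 F419064) (tt N50252 (iv6 D187746)) (tt N85022 F386964))
theorem Q85022 : ∀ i, i < 85022 → P i := stepQ 85021 Q85021 (allL N85021 (tt N60867 (iv1 F371391)) (tt N68305 (iv0 F371390)) (tt N104817 F447431) (tt N50253 (iv3 D187747)) (tt N75095 F371389) (tt N111297 (iv5 F475688)) (tt N98752 (iv6 F422158)) (tt N99811 (iv7 F426333)))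
theorem Q85023 : ∀ i, i < 85023 → P i := stepQ 85022 Q85022 (allL N85022 (tt N89615 (iv1 F386956)) (tt N91029 (iv0 F391657)) (tt N98546 (iv2 F421277)) (tt N111171 (iv3 F475067)) (tt N50253 (iv4 D187748)) (tt N100204 (iv5 F427983)) (tt N92246 F396456) (tt N85020 (iv7 F386964)))
theorem Q85024 : ∀ i, i < 85024 → P i := stepQ 85023 Q85023 (allL N85023 (tt N61543 (iv1 F371395)) (tt N55831 (iv0 F371394)) (tt N61550 F371392) (tt N98752 (iv3 F422154)) (tt N92246 (iv4 F396454)) (tt N81407 F371393) (tt N50253 (iv6 D187749)) (tt N61549 (iv7 F371396)))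
theorem Q85025 : ∀ i, i < 85025 → P i := stepQ 85024 Q85024 (allL N85024 (tt N98754 F422166) (tt N50254 (iv0 D187750)) (tt N99810 F426327) (tt N50892 (iv3 F371398)) (tt N50891 F371397) (tt N114426 D217683) (tt N50891 F371400) (tt N85006 (iv7 F371399)))
theorem Q85026 : ∀ i, i < 85026 → P i := stepQ 85025 Q85025 (allL N85025 (tt N50254 (iv1 D187751)) (tt N98754 F422167) (tt N85006 (iv2 F371402)) (tt N68175 (iv3 F371403)) (tt N85005 F371401) (tt N114427 D217684) (tt N105866 (iv6 F452078)) (tt N99810 (iv7 F426329)))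
theorem Q85027 : ∀ i, i < 85027 → P i := stepQ 85026 Q85026 (allL N85026 (tt N84950 F371405) (tt N109079 (iv0 F465250)) (tt N114428 D217685) (tt N50254 (iv3 D187752)) (tt N50266 F371404) (tt N109678 (iv5 F468062)) (tt N99800 (iv6 F426281)) (tt N114429 D217686))
theorem Q85028 : ∀ i, i < 85028 → P i := stepQ 85027 Q85027 (allL N85027 (tt N105790 (iv1 F451732)) (tt N105798 F451768) (tt N85923 (iv2 F374479)) (tt N109678 (iv3 F468060)) (tt N82928 F371407) (tt N50254 (iv5 D187753)) (tt N82927 F371406) (tt N105797 F451762))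
theorem Q85029 : ∀ i, i < 85029 → P i := stepQ 85028 Q85028 (allL N85028 (tt N85006 (iv1 F371410)) (tt N99810 F426328) (tt N98754 (iv2 F422163)) (tt N114429 (iv3 F490109)) (tt N50255 F371408) (tt N105797 (iv5 F451760)) (tt N61676 F371409) (tt N50254 (iv7 D187754)))
theorem Q85030 : ∀ i, i < 85030 → P i := stepQ 85029 Q85029 (allL N85029 (tt N60877 F371415) (tt N60871 (iv0 F371416)) (tt N60859 F371411) (tt N50257 F371412) (tt N114430 D217687) (tt N50256 (iv5 D187755)) (tt N70823 F371413) (tt N60846 F371414))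
theorem Q85031 : ∀ i, i < 85031 → P i := stepQ 85030 Q85030 (allL N85030 (tt N86129 F375188) (tt N55401 (iv0 F371420)) (tt N60848 F371417) (tt N83632 F371418) (tt N70934 F371419) (tt N96620 (iv5 F413213)) (tt N50258 (iv6 D187756)) (tt N86127 (iv7 F375179)))
theorem Q85032 : ∀ i, i < 85032 → P i := stepQ 85031 Q85031 (allL N85031 (tt N56241 F371424) (tt N56245 (iv0 F371425)) (tt N60860 F371421) (tt N50259 (iv3 D187757)) (tt N106887 (iv4 F456138)) (tt N56238 F371422) (tt N114431 D217688) (tt N60850 F371423))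
theorem Q85033 : ∀ i, i < 85033 → P i := stepQ 85032 Q85032 (allL N85032 (tt N61584 F371429) (tt N108781 F463902) (tt N60849 F371426) (tt N114431 (iv3 F490122)) (tt N52151 F371427) (tt N51359 F371428) (tt N50259 (iv6 D187758)) (tt N87676 (iv7 F380121)))
theorem Q85034 : ∀ i, i < 85034 → P i := stepQ 85033 Q85033 (allL N85033 (tt N91052 F391768) (tt N91080 F391852) (tt N91078 (iv2 F391845)) (tt N50260 (iv3 D187759)) (tt N99800 (iv4 F426279)) (tt N106727 (iv5 F455433)) (tt N50266 F371430) (tt N91077 F391840))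
theorem Q85035 : ∀ i, i < 85035 → P i := stepQ 85034 Q85034 (allL N85034 (tt N114432 D217689) (tt N113142 (iv0 F484164)) (tt N86007 (iv2 F374855)) (tt N114382 (iv3 F489894)) (tt N50261 (iv4 D187760)) (tt N114433 D217690) (tt N114434 D217691) (tt N86021 (iv7 F374932)))
theorem Q85036 : ∀ i, i < 85036 → P i := stepQ 85035 Q85035 (allL N85035 (tt N104945 F448067) (tt N104948 F448090) (tt N86008 (iv2 F374857)) (tt N50262 F371431) (tt N114434 (iv4 F490141)) (tt N89857 (iv5 F387747)) (tt N50261 (iv6 D187761)) (tt N104946 F448071))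
theorem Q85037 : ∀ i, i < 85037 → P i := stepQ 85036 Q85036 (allL N85036 (tt N50262 (iv1 D187763)) (tt N86020 F374917) (tt N86019 (iv2 F374924)) (tt N102955 F439427) (tt N110261 (iv4 F470696)) (tt N85261 (iv5 F372054)) (tt N102953 (iv6 F439428)) (tt N86018 F374925))
theorem Q85038 : ∀ i, i < 85038 → P i := stepQ 85037 Q85037 (allL N85037 (tt N86019 (iv1 F374909)) (tt N86018 F374916) (tt N86020 (iv2 F374912)) (tt N104946 (iv3 F448068)) (tt N90402 F389524) (tt N89859 (iv5 F387753)) (tt N61582 F371432) (tt N50262 (iv7 D187764)))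
theorem Q85039 : ∀ i, i < 85039 → P i := stepQ 85038 Q85038 (allL N85038 (tt N61582 (iv1 F371437)) (tt N50263 (iv0 D187765)) (tt N55822 (iv2 F371434)) (tt N61543 F371435) (tt N114435 D217692) (tt N55821 F371433) (tt N112468 (iv6 F481212)) (tt N61578 F371436))
theorem Q85040 : ∀ i, i < 85040 → P i := stepQ 85039 Q85039 (allL N85039 (tt N61578 (iv1 F371440)) (tt N55822 F371441) (tt N61582 F371438) (tt N86013 (iv3 F374874)) (tt N90624 (iv4 F390303)) (tt N80885 F371439) (tt N86020 (iv6 F374915)) (tt N50263 (iv7 D187766)))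
theorem Q85041 : ∀ i, i < 85041 → P i := stepQ 85040 Q85040 (allL N85040 (tt N114436 D217693) (tt N106977 (iv0 F470719)) (tt N114437 D217694) (tt N50264 (iv3 D187767)) (tt N109183 (iv4 F465693)) (tt N114045 (iv5 F488333)) (tt N110264 (iv6 F470714)) (tt N84957 F371442))
theorem Q85042 : ∀ i, i < 85042 → P i := stepQ 85041 Q85041 (allL N85041 (tt N71403 F371444) (tt N70248 (iv0 F371445)) (tt N106996 F456576) (tt N50265 (iv3 D187768)) (tt N90411 F389552) (tt N114048 (iv5 F488349)) (tt N113175 (iv6 F484330)) (tt N84951 F371443))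
theorem Q85043 : ∀ i, i < 85043 → P i := stepQ 85042 Q85042 (allL N85042 (tt N114435 (iv1 F490151)) (tt N61583 (iv0 F371448)) (tt N84958 F371446) (tt N113175 (iv3 F484329)) (tt N50916 F371447) (tt N81389 F371449) (tt N50265 (iv6 D187769)) (tt N90628 (iv7 F390321)))
theorem Q85044 : ∀ i, i < 85044 → P i := stepQ 85043 Q85043 (allL N85043 (tt N114438 D217695) (tt N50266 (iv0 D187770)) (tt N114439 D217696) (tt N70251 F371450) (tt N104058 (iv4 F443962)) (tt N112786 (iv5 F482623)) (tt N101006 (iv6 F431231)) (tt N104104 (iv7 F444194)))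
theorem Q85045 : ∀ i, i < 85045 → P i := stepQ 85044 Q85044 (allL N85044 (tt N50266 (iv1 D187771)) (tt N114438 F490169) (tt N104104 F448193) (tt N113805 (iv3 F487190)) (tt N98566 (iv4 F448192)) (tt N109673 (iv5 F468046)) (tt N98565 F448194) (tt N114439 (iv7 F490175)))
theorem Q85046 : ∀ i, i < 85046 → P i := stepQ 85045 Q85045 (allL N85045 (tt N114439 (iv1 F490176)) (tt N104104 (iv0 F444195)) (tt N50266 (iv2 D187772)) (tt N86025 (iv3 F374942)) (tt N114428 (iv4 F490102)) (tt N113983 (iv5 F488058)) (tt N91078 (iv6 F391846)) (tt N114438 (iv7 F490170)))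
theorem Q85047 : ∀ i, i < 85047 → P i := stepQ 85046 Q85046 (allL N85046 (tt N104104 F444196) (tt N114439 F490177) (tt N114438 F490168) (tt N50267 F371451) (tt N114429 (iv4 F490110)) (tt N85526 (iv5 F372941)) (tt N94583 (iv6 F405056)) (tt N50266 (iv7 D187773)))
theorem Q85048 : ∀ i, i < 85048 → P i := stepQ 85047 Q85047 (allL N85047 (tt N69192 (iv1 F371453)) (tt N103893 (iv0 F443249)) (tt N86029 (iv2 F374950)) (tt N94583 F405053) (tt N50268 F371452) (tt N101399 (iv5 F432852)) (tt N50267 (iv6 D187774)) (tt N103896 (iv7 F443256)))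
theorem Q85049 : ∀ i, i < 85049 → P i := stepQ 85048 Q85048 (allL N85048 (tt N55710 (iv1 F371456)) (tt N50268 (iv0 D187775)) (tt N86030 F374955) (tt N68301 (iv3 F371458)) (tt N70263 F371455) (tt N69178 F371454) (tt N114440 D217697) (tt N70810 F371457))
theorem Q85050 : ∀ i, i < 85050 → P i := stepQ 85049 Q85049 (allL N85049 (tt N111322 (iv1 F475817)) (tt N103406 (iv0 F441475)) (tt N79030 F371459) (tt N114441 D217698) (tt N50269 (iv4 D187776)) (tt N114442 D217699) (tt N61619 F371460) (tt N86087 (iv7 F375076)))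
theorem Q85051 : ∀ i, i < 85051 → P i := stepQ 85050 Q85050 (allL N85050 (tt N67801 F371463) (tt N114053 (iv0 F488369)) (tt N66122 F371461) (tt N114443 D217700) (tt N50271 (iv4 D187777)) (tt N114362 (iv5 F489802)) (tt N66120 F371462) (tt N113581 (iv7 F486132)))
theorem Q85052 : ∀ i, i < 85052 → P i := stepQ 85051 Q85051 (allL N85051 (tt N114053 (iv1 F488370)) (tt N67801 F371465) (tt N113581 (iv2 F486129)) (tt N97809 F418383) (tt N50272 (iv4 D187778)) (tt N114363 (iv5 F489810)) (tt N104748 F447098) (tt N66122 F371464))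
theorem Q85053 : ∀ i, i < 85053 → P i := stepQ 85052 Q85052 (allL N85052 (tt N68305 F371467) (tt N60867 (iv0 F371468)) (tt N99811 (iv2 F426331)) (tt N50274 (iv3 D187779)) (tt N75094 F371466) (tt N86835 (iv5 F377372)) (tt N114444 D217701) (tt N104817 (iv7 F447433)))
theorem Q85054 : ∀ i, i < 85054 → P i := stepQ 85053 Q85053 (allL N85053 (tt N78948 F371469) (tt N109425 F466898) (tt N98676 (iv2 F421813)) (tt N114444 (iv3 F490199)) (tt N103492 F446965) (tt N78788 F371470) (tt N50274 (iv6 D187780)) (tt N98673 (iv7 F421809)))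
theorem Q85055 : ∀ i, i < 85055 → P i := stepQ 85054 Q85054 (allL N85054 (tt N100775 F430415) (tt N100776 F430420) (tt N109438 (iv2 F466959)) (tt N61550 F371472) (tt N114361 (iv4 F489799)) (tt N111319 (iv5 F475799)) (tt N50275 (iv6 D187781)) (tt N114445 D217702))
theorem Q85056 : ∀ i, i < 85056 → P i := stepQ 85055 Q85055 (allL N85055 (tt N109435 (iv1 F466950)) (tt N50276 (iv0 D187782)) (tt N84917 (iv2 F371474)) (tt N114446 D217703) (tt N78903 F371473) (tt N104498 (iv5 F446029)) (tt N114447 D217704) (tt N84921 (iv7 F371475)))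
theorem Q85057 : ∀ i, i < 85057 → P i := stepQ 85056 Q85056 (allL N85056 (tt N50276 (iv1 D187783)) (tt N109435 F466949) (tt N84921 (iv2 F371478)) (tt N104497 (iv3 F446027)) (tt N66634 F371477) (tt N104497 (iv5 F446025)) (tt N114448 D217705) (tt N84917 F371476))
theorem Q85058 : ∀ i, i < 85058 → P i := stepQ 85057 Q85057 (allL N85057 (tt N104112 (iv1 F444242)) (tt N104508 F446072) (tt N104509 (iv2 F446074)) (tt N50276 (iv3 D187784)) (tt N50287 F371479) (tt N67555 F371482) (tt N78904 F371480) (tt N67710 F371481))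
theorem Q85059 : ∀ i, i < 85059 → P i := stepQ 85058 Q85058 (allL N85058 (tt N103484 F441821) (tt N70583 (iv0 F371484)) (tt N67791 F374829) (tt N67555 F371483) (tt N114449 D217706) (tt N50276 (iv5 D187785)) (tt N106149 F453355) (tt N113582 (iv7 F486139)))
theorem Q85060 : ∀ i, i < 85060 → P i := stepQ 85059 Q85059 (allL N85059 (tt N69216 F371490) (tt N69181 (iv0 F371491)) (tt N78612 F371485) (tt N60845 F371486) (tt N66485 F371487) (tt N61264 F371488) (tt N50277 (iv6 D187786)) (tt N78611 F371489))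
theorem Q85061 : ∀ i, i < 85061 → P i := stepQ 85060 Q85060 (allL N85060 (tt N60871 F371496) (tt N60877 F371497) (tt N60846 F371493) (tt N50279 F371494) (tt N97543 (iv4 F417322)) (tt N50278 (iv5 D187787)) (tt N97542 F417320) (tt N60859 F371495))
theorem Q85062 : ∀ i, i < 85062 → P i := stepQ 85061 Q85061 (allL N85061 (tt N68255 (iv1 F371502)) (tt N68253 (iv0 F371501)) (tt N86005 (iv2 F374848)) (tt N60849 F371498) (tt N71742 F371499) (tt N84456 F371500) (tt N50280 (iv6 D187788)) (tt N86836 (iv7 F377377)))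
theorem Q85063 : ∀ i, i < 85063 → P i := stepQ 85062 Q85062 (allL N85062 (tt N56245 F371507) (tt N56241 (iv0 F371508)) (tt N60850 F371503) (tt N50281 (iv3 D187789)) (tt N114450 D217707) (tt N56284 F371504) (tt N68178 F371505) (tt N60860 F371506))
theorem Q85064 : ∀ i, i < 85064 → P i := stepQ 85063 Q85063 (allL N85063 (tt N50282 (iv1 D187790)) (tt N86010 F374868) (tt N86009 F374862) (tt N109425 (iv3 F466895)) (tt N68242 (iv4 F371513)) (tt N114451 D217708) (tt N68345 (iv6 F371514)) (tt N68240 F371512))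
theorem Q85065 : ∀ i, i < 85065 → P i := stepQ 85064 Q85064 (allL N85064 (tt N86009 (iv1 F374860)) (tt N68240 F374864) (tt N86010 (iv2 F374865)) (tt N86020 (iv3 F374913)) (tt N104577 (iv4 F446366)) (tt N86047 (iv5 F375000)) (tt N86013 (iv6 F374877)) (tt N50282 (iv7 D187791)))
theorem Q85066 : ∀ i, i < 85066 → P i := stepQ 85065 Q85065 (allL N85065 (tt N113142 F484165) (tt N114432 F490131) (tt N86021 (iv2 F374931)) (tt N104559 (iv3 F446257)) (tt N50283 (iv4 D187792)) (tt N114452 D217709) (tt N98570 F421362) (tt N86007 (iv7 F374856)))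
theorem Q85067 : ∀ i, i < 85067 → P i := stepQ 85066 Q85066 (allL N85066 (tt N61434 (iv1 F371517)) (tt N101758 (iv0 F434214)) (tt N86022 (iv2 F374933)) (tt N50284 F371515) (tt N98570 (iv4 F421360)) (tt N77242 F371516) (tt N50283 (iv6 D187793)) (tt N108322 (iv7 F462053)))
theorem Q85068 : ∀ i, i < 85068 → P i := stepQ 85067 Q85067 (allL N85067 (tt N86013 (iv1 F374886)) (tt N50284 (iv0 D187794)) (tt N86011 (iv2 F374883)) (tt N100775 (iv3 F430414)) (tt N80319 F374884) (tt N98289 (iv5 F420345)) (tt N104853 (iv6 F447634)) (tt N86012 F374885))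
theorem Q85069 : ∀ i, i < 85069 → P i := stepQ 85068 Q85068 (allL N85068 (tt N50284 (iv1 D187795)) (tt N86013 F374879) (tt N86012 F374872) (tt N55818 F371520) (tt N68257 F371518) (tt N55816 (iv5 F371519)) (tt N68255 (iv6 F371521)) (tt N86011 (iv7 F374880)))
theorem Q85070 : ∀ i, i < 85070 → P i := stepQ 85069 Q85069 (allL N85069 (tt N86012 (iv1 F374870)) (tt N86011 F374878) (tt N86013 (iv2 F374873)) (tt N108322 F462055) (tt N80955 F371523) (tt N84737 F371524) (tt N86010 (iv6 F374867)) (tt N50284 (iv7 D187796)))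
theorem Q85071 : ∀ i, i < 85071 → P i := stepQ 85070 Q85070 (allL N85070 (tt N104507 F446068) (tt N50287 (iv0 D187797)) (tt N104849 (iv2 F447604)) (tt N67591 F381032) (tt N103752 (iv4 F442673)) (tt N114453 D217710) (tt N104570 (iv6 F446324)) (tt N104848 F447594))
theorem Q85072 : ∀ i, i < 85072 → P i := stepQ 85071 Q85071 (allL N85071 (tt N50287 (iv1 D187798)) (tt N104507 (iv0 F446067)) (tt N104848 F447592) (tt N76771 F371526) (tt N103751 (iv4 F442672)) (tt N81322 F371527) (tt N76767 (iv6 F371525)) (tt N104849 (iv7 F447601)))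
theorem Q85073 : ∀ i, i < 85073 → P i := stepQ 85072 Q85072 (allL N85072 (tt N104849 (iv1 F447600)) (tt N104848 F447591) (tt N50287 (iv2 D187799)) (tt N86015 (iv3 F374890)) (tt N104509 (iv4 F446076)) (tt N111760 (iv5 F477830)) (tt N66388 F371530) (tt N104507 (iv7 F446066)))
theorem Q85074 : ∀ i, i < 85074 → P i := stepQ 85073 Q85073 (allL N85073 (tt N61294 F371535) (tt N61266 F371534) (tt N61458 F371531) (tt N61229 F371532) (tt N92826 (iv4 F398396)) (tt N50290 (iv5 D187800)) (tt N105542 F450658) (tt N76222 F371533))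
theorem Q85075 : ∀ i, i < 85075 → P i := stepQ 85074 Q85074 (allL N85074 (tt N61266 F371540) (tt N61294 F371539) (tt N76222 F371536) (tt N60905 F371537) (tt N92827 (iv4 F398401)) (tt N50291 (iv5 D187801)) (tt N114454 D217711) (tt N61458 F371538))
theorem Q85076 : ∀ i, i < 85076 → P i := stepQ 85075 Q85075 (allL N85075 (tt N85535 (iv1 F372972)) (tt N83289 F371543) (tt N84777 F371541) (tt N114455 D217712) (tt N50292 (iv4 D187802)) (tt N82691 (iv5 F371544)) (tt N50813 F371542) (tt N51454 (iv7 F371545)))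
theorem Q85077 : ∀ i, i < 85077 → P i := stepQ 85076 Q85076 (allL N85076 (tt N84776 (iv1 F371551)) (tt N84775 F371552) (tt N84778 F371546) (tt N50297 F371547) (tt N51454 F371548) (tt N50293 F371549) (tt N51453 F371550) (tt N50292 (iv7 D187803)))
theorem Q85078 : ∀ i, i < 85078 → P i := stepQ 85077 Q85077 (allL N85077 (tt N98136 (iv1 F419635)) (tt N98170 (iv0 F419822)) (tt N50973 F371553) (tt N50822 F371554) (tt N50294 (iv4 D187804)) (tt N53249 (iv5 F371556)) (tt N114456 D217713) (tt N50970 F371555))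
theorem Q85079 : ∀ i, i < 85079 → P i := stepQ 85078 Q85078 (allL N85078 (tt N114457 D217714) (tt N50991 (iv0 F371560)) (tt N50974 F371557) (tt N76181 F371558) (tt N114456 (iv4 F490265)) (tt N69204 F371559) (tt N50294 (iv6 D187805)) (tt N113588 (iv7 F486173)))
theorem Q85080 : ∀ i, i < 85080 → P i := stepQ 85079 Q85079 (allL N85079 (tt N61165 F371564) (tt N61162 F371565) (tt N50977 F371561) (tt N50828 F371562) (tt N50295 (iv4 D187806)) (tt N57770 (iv5 F371566)) (tt N114458 D217715) (tt N50975 F371563))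
theorem Q85081 : ∀ i, i < 85081 → P i := stepQ 85080 Q85080 (allL N85080 (tt N91219 F392309) (tt N91221 (iv0 F392316)) (tt N50978 F371567) (tt N76284 F371568) (tt N114458 (iv4 F490275)) (tt N51508 F371569) (tt N50295 (iv6 D187807)) (tt N114459 D217716))
theorem Q85082 : ∀ i, i < 85082 → P i := stepQ 85081 Q85081 (allL N85081 (tt N110442 (iv1 F471600)) (tt N110441 F471599) (tt N77128 F371570) (tt N50296 (iv3 D187808)) (tt N114455 (iv4 F490258)) (tt N109343 (iv5 F466481)) (tt N50832 F371571) (tt N98197 (iv7 F419936)))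
theorem Q85083 : ∀ i, i < 85083 → P i := stepQ 85082 Q85082 (allL N85082 (tt N51050 (iv1 F371576)) (tt N51049 F371579) (tt N50981 F371572) (tt N51453 F371573) (tt N98198 (iv4 F419940)) (tt N84802 F371574) (tt N50297 (iv6 D187809)) (tt N50835 F371575))
theorem Q85084 : ∀ i, i < 85084 → P i := stepQ 85083 Q85083 (allL N85083 (tt N63348 F371582) (tt N63342 F371583) (tt N76496 F371580) (tt N94467 (iv3 F404587)) (tt N50298 (iv4 D187810)) (tt N102882 (iv5 F439083)) (tt N57474 (iv6 F371584)) (tt N78762 F371581))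
theorem Q85085 : ∀ i, i < 85085 → P i := stepQ 85084 Q85084 (allL N85084 (tt N98659 (iv1 F421769)) (tt N89162 (iv0 F385403)) (tt N57274 F371585) (tt N50302 F371586) (tt N57474 F371587) (tt N57268 F371588) (tt N50298 (iv6 D187811)) (tt N57472 (iv7 F371589)))
theorem Q85086 : ∀ i, i < 85086 → P i := stepQ 85085 Q85085 (allL N85085 (tt N77488 F371591) (tt N61271 F371592) (tt N92984 (iv2 F399016)) (tt N96631 (iv3 F413246)) (tt N50300 (iv4 D187812)) (tt N77040 F371590) (tt N100631 (iv6 F429764)) (tt N110431 (iv7 F471555)))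
theorem Q85087 : ∀ i, i < 85087 → P i := stepQ 85086 Q85086 (allL N85086 (tt N86703 F376832) (tt N86700 F376848) (tt N92982 (iv2 F399011)) (tt N76679 F371593) (tt N100631 (iv4 F429766)) (tt N92978 (iv5 F399001)) (tt N50300 (iv6 D187813)) (tt N101048 (iv7 F431443)))
theorem Q85088 : ∀ i, i < 85088 → P i := stepQ 85087 Q85087 (allL N85087 (tt N50305 (iv1 F371595)) (tt N50301 (iv0 D187814)) (tt N93322 (iv2 F400393)) (tt N114460 D217717) (tt N60824 F371594) (tt N93461 (iv5 F400793)) (tt N72932 (iv6 F371640)) (tt N61126 (iv7 F371596)))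
theorem Q85089 : ∀ i, i < 85089 → P i := stepQ 85088 Q85088 (allL N85088 (tt N50301 (iv1 D187815)) (tt N50305 F371597) (tt N61126 (iv2 F371599)) (tt N59107 (iv3 F371600)) (tt N55772 F371598) (tt N93429 (iv5 F400716)) (tt N85366 (iv6 F372359)) (tt N93322 (iv7 F400397)))
theorem Q85090 : ∀ i, i < 85090 → P i := stepQ 85089 Q85089 (allL N85089 (tt N83120 F373398) (tt N114461 D217718) (tt N114462 D217719) (tt N50301 (iv3 D187816)) (tt N94467 (iv4 F404588)) (tt N114463 D217720) (tt N90442 F389658) (tt N114278 (iv7 F489353)))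
theorem Q85091 : ∀ i, i < 85091 → P i := stepQ 85090 Q85090 (allL N85090 (tt N93564 (iv1 F401152)) (tt N59102 (iv0 F371601)) (tt N93563 F401148) (tt N114463 (iv3 F490307)) (tt N77039 F371621) (tt N50301 (iv5 D187817)) (tt N89981 (iv6 F388189)) (tt N93529 (iv7 F401048)))
theorem Q85092 : ∀ i, i < 85092 → P i := stepQ 85091 Q85091 (allL N85091 (tt N89748 F387414) (tt N112014 (iv0 F479082)) (tt N109644 (iv2 F467899)) (tt N90442 (iv3 F389656)) (tt N50302 F371602) (tt N89982 (iv5 F388188)) (tt N50301 (iv6 D187818)) (tt N114464 D217721))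
theorem Q85093 : ∀ i, i < 85093 → P i := stepQ 85092 Q85092 (allL N85092 (tt N109645 (iv1 F467907)) (tt N50302 (iv0 D187819)) (tt N86826 (iv2 F377321)) (tt N70338 F371606) (tt N57814 (iv4 F371604)) (tt N84462 F371603) (tt N50337 (iv6 F371605)) (tt N86825 (iv7 F377317)))
theorem Q85094 : ∀ i, i < 85094 → P i := stepQ 85093 Q85093 (allL N85093 (tt N50302 (iv1 D187820)) (tt N109645 F467906) (tt N86825 (iv2 F377314)) (tt N86040 F377000) (tt N94513 (iv4 F404783)) (tt N84461 (iv5 F371610)) (tt N112016 (iv6 F479092)) (tt N86826 (iv7 F377323)))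
theorem Q85095 : ∀ i, i < 85095 → P i := stepQ 85094 Q85094 (allL N85094 (tt N114296 (iv1 F489455)) (tt N91226 (iv0 F392348)) (tt N51514 F371607) (tt N57268 F371608) (tt N95873 (iv4 F410037)) (tt N50302 (iv5 D187821)) (tt N50303 F371609) (tt N76421 (iv7 F371611)))
theorem Q85096 : ∀ i, i < 85096 → P i := stepQ 85095 Q85095 (allL N85095 (tt N86825 (iv1 F377320)) (tt N86826 F377326) (tt N109645 (iv2 F467902)) (tt N57472 F371612) (tt N114464 (iv4 F490313)) (tt N76421 F371613) (tt N89858 F387750) (tt N50302 (iv7 D187822)))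
theorem Q85097 : ∀ i, i < 85097 → P i := stepQ 85096 Q85096 (allL N85096 (tt N78517 F371616) (tt N76470 F371617) (tt N51513 F371614) (tt N95875 (iv3 F410048)) (tt N50303 (iv4 D187823)) (tt N114465 D217722) (tt N95873 F410040) (tt N51511 F371615))
theorem Q85098 : ∀ i, i < 85098 → P i := stepQ 85097 Q85097 (allL N85097 (tt N61271 F371619) (tt N77488 F371620) (tt N110431 (iv2 F471552)) (tt N114466 D217723) (tt N50304 (iv4 D187824)) (tt N77039 F371618) (tt N114467 D217724) (tt N92984 (iv7 F399017)))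
theorem Q85099 : ∀ i, i < 85099 → P i := stepQ 85098 Q85098 (allL N85098 (tt N114468 D217725) (tt N51070 (iv0 F371624)) (tt N104765 (iv2 F447164)) (tt N55702 F371622) (tt N114467 (iv4 F490330)) (tt N55699 F371623) (tt N50304 (iv6 D187825)) (tt N104764 (iv7 F447161)))
theorem Q85100 : ∀ i, i < 85100 → P i := stepQ 85099 Q85099 (allL N85099 (tt N93300 F400308) (tt N70121 (iv0 F371626)) (tt N93297 F400304) (tt N50305 (iv3 D187826)) (tt N73517 F371625) (tt N103156 (iv5 F440337)) (tt N73515 (iv6 F371627)) (tt N93298 F400303))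
theorem Q85101 : ∀ i, i < 85101 → P i := stepQ 85100 Q85100 (allL N85100 (tt N96104 F411070) (tt N85305 (iv0 F372226)) (tt N93802 (iv2 F401957)) (tt N73515 F371629) (tt N50306 F371630) (tt N56393 F371648) (tt N50305 (iv6 D187828)) (tt N95066 (iv7 F406935)))
theorem Q85102 : ∀ i, i < 85102 → P i := stepQ 85101 Q85101 (allL N85101 (tt N89858 (iv1 F387748)) (tt N50306 (iv0 D187829)) (tt N89859 (iv2 F387752)) (tt N86047 F375001) (tt N114469 D217726) (tt N86020 F374918) (tt N89855 (iv6 F387740)) (tt N50331 F374919))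
theorem Q85103 : ∀ i, i < 85103 → P i := stepQ 85102 Q85102 (allL N85102 (tt N50331 (iv1 F371631)) (tt N89859 F387755) (tt N89858 F387751) (tt N92167 (iv3 F396058)) (tt N95066 F406939) (tt N92163 (iv5 F396040)) (tt N109645 (iv6 F467905)) (tt N50306 (iv7 D187830)))
theorem Q85104 : ∀ i, i < 85104 → P i := stepQ 85103 Q85103 (allL N85103 (tt N50307 (iv1 D187831)) (tt N50309 F371632) (tt N61299 (iv2 F371635)) (tt N59103 (iv3 F371636)) (tt N50742 F371634) (tt N59102 F371638) (tt N50366 (iv6 F371637)) (tt N61298 F371633))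
theorem Q85105 : ∀ i, i < 85105 → P i := stepQ 85104 Q85104 (allL N85104 (tt N83267 F371641) (tt N113259 F484746) (tt N107730 (iv2 F459431)) (tt N50307 (iv3 D187832)) (tt N100173 (iv4 F427835)) (tt N114470 D217727) (tt N107728 F459424) (tt N113258 (iv7 F484736)))
theorem Q85106 : ∀ i, i < 85106 → P i := stepQ 85105 Q85105 (allL N85105 (tt N98164 (iv1 F419793)) (tt N74215 (iv0 F371643)) (tt N56872 F371642) (tt N114470 (iv3 F490345)) (tt N98202 (iv4 F419971)) (tt N50307 (iv5 D187833)) (tt N56868 (iv6 F371644)) (tt N98200 (iv7 F419957)))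
theorem Q85107 : ∀ i, i < 85107 → P i := stepQ 85106 Q85106 (allL N85106 (tt N105431 (iv1 F450236)) (tt N105430 F450233) (tt N58016 F371651) (tt N107728 (iv3 F459419)) (tt N50308 F371652) (tt N58144 F371653) (tt N50307 (iv6 D187834)) (tt N105429 (iv7 F450226)))
theorem Q85108 : ∀ i, i < 85108 → P i := stepQ 85107 Q85107 (allL N85107 (tt N61291 (iv1 F371659)) (tt N50308 (iv0 D187835)) (tt N61289 F371664) (tt N73587 (iv3 F371662)) (tt N94597 (iv4 F405124)) (tt N73586 (iv5 F371663)) (tt N50380 (iv6 F371974)) (tt N61290 F371661))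
theorem Q85109 : ∀ i, i < 85109 → P i := stepQ 85108 Q85108 (allL N85108 (tt N50308 (iv1 D187836)) (tt N61291 F371654) (tt N61290 (iv2 F371656)) (tt N86053 F413278) (tt N95236 (iv4 F407536)) (tt N61478 F371655) (tt N113906 (iv6 F487717)) (tt N61289 (iv7 F371665)))
theorem Q85110 : ∀ i, i < 85110 → P i := stepQ 85109 Q85109 (allL N85109 (tt N61290 (iv1 F371660)) (tt N61289 F371666) (tt N61291 F371657) (tt N100172 (iv3 F427831)) (tt N105429 (iv4 F450225)) (tt N61275 F371658) (tt N114281 (iv6 F489373)) (tt N50308 (iv7 D187837)))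
theorem Q85111 : ∀ i, i < 85111 → P i := stepQ 85110 Q85110 (allL N85110 (tt N105382 (iv1 F449986)) (tt N100830 F430683) (tt N107732 (iv2 F459442)) (tt N50309 (iv3 D187838)) (tt N61325 F371667) (tt N103161 (iv5 F440347)) (tt N105373 (iv6 F449939)) (tt N58017 F371668))
theorem Q85112 : ∀ i, i < 85112 → P i := stepQ 85111 Q85111 (allL N85111 (tt N74215 (iv1 F371670)) (tt N98164 (iv0 F419792)) (tt N98200 (iv2 F419953)) (tt N103161 (iv3 F440348)) (tt N98173 (iv4 F419845)) (tt N50309 (iv5 D187839)) (tt N112646 (iv6 F481977)) (tt N56872 F371669))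
theorem Q85113 : ∀ i, i < 85113 → P i := stepQ 85112 Q85112 (allL N85112 (tt N114471 D217728) (tt N114472 D217729) (tt N114279 (iv2 F489356)) (tt N105373 F449943) (tt N50310 F371671) (tt N114473 D217730) (tt N50309 (iv6 D187840)) (tt N105432 (iv7 F450246)))
theorem Q85114 : ∀ i, i < 85114 → P i := stepQ 85113 Q85113 (allL N85113 (tt N114281 (iv1 F489375)) (tt N50310 (iv0 D187841)) (tt N112764 (iv2 F482543)) (tt N86058 F379478) (tt N112763 (iv4 F482541)) (tt N51378 F371796) (tt N114474 D217731) (tt N114280 (iv7 F489363)))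
theorem Q85115 : ∀ i, i < 85115 → P i := stepQ 85114 Q85114 (allL N85114 (tt N50310 (iv1 D187842)) (tt N114281 F489374) (tt N114280 (iv2 F489367)) (tt N63945 F413460) (tt N63981 F413461) (tt N51379 F413462) (tt N50369 F413463) (tt N112764 (iv7 F482545)))
theorem Q85116 : ∀ i, i < 85116 → P i := stepQ 85115 Q85115 (allL N85115 (tt N114280 (iv1 F489362)) (tt N112764 (iv0 F482547)) (tt N114281 (iv2 F489369)) (tt N61315 F371672) (tt N105432 (iv4 F450244)) (tt N91243 (iv5 F392389)) (tt N61291 F371673) (tt N50310 (iv7 D187843)))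
theorem Q85117 : ∀ i, i < 85117 → P i := stepQ 85116 Q85116 (allL N85116 (tt N83140 (iv1 F371679)) (tt N83139 (iv0 F371677)) (tt N83142 F371674) (tt N50311 (iv3 D187844)) (tt N61664 F371675) (tt N84236 F371678) (tt N114475 D217732) (tt N83141 F371676))
theorem Q85118 : ∀ i, i < 85118 → P i := stepQ 85117 Q85117 (allL N85117 (tt N109632 (iv1 F467850)) (tt N67084 (iv0 F371683)) (tt N55283 F371680) (tt N84236 F371681) (tt N57770 F371682) (tt N50311 (iv5 D187845)) (tt N57769 (iv6 F371684)) (tt N109631 (iv7 F467845)))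
theorem Q85119 : ∀ i, i < 85119 → P i := stepQ 85118 Q85118 (allL N85118 (tt N94597 F405125) (tt N95236 F407537) (tt N95178 (iv2 F407321)) (tt N114475 (iv3 F490372)) (tt N61663 F371685) (tt N82444 F371686) (tt N50311 (iv6 D187846)) (tt N95208 (iv7 F407427)))
theorem Q85120 : ∀ i, i < 85120 → P i := stepQ 85119 Q85119 (allL N85119 (tt N67084 (iv1 F371689)) (tt N109632 F467851) (tt N109631 F467843) (tt N55143 F371687) (tt N98640 (iv4 F421693)) (tt N50312 (iv5 D187847)) (tt N114476 D217733) (tt N55283 F371688))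
theorem Q85121 : ∀ i, i < 85121 → P i := stepQ 85120 Q85120 (allL N85120 (tt N112763 (iv1 F482540)) (tt N63981 (iv0 F371691)) (tt N111183 (iv2 F475120)) (tt N55355 F371690) (tt N111182 (iv4 F475116)) (tt N86143 (iv5 F394205)) (tt N50312 (iv6 D187848)) (tt N112762 (iv7 F482535)))
theorem Q85122 : ∀ i, i < 85122 → P i := stepQ 85121 Q85121 (allL N85121 (tt N114300 (iv1 F489473)) (tt N114299 F489470) (tt N114282 (iv2 F489376)) (tt N109629 (iv3 F467827)) (tt N50314 F371692) (tt N111980 (iv5 F478954)) (tt N50313 (iv6 D187849)) (tt N50394 F371693))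
theorem Q85123 : ∀ i, i < 85123 → P i := stepQ 85122 Q85122 (allL N85122 (tt N89135 (iv1 F385305)) (tt N89134 (iv0 F385304)) (tt N89136 (iv2 F385311)) (tt N61364 F371694) (tt N85439 F372642) (tt N50315 (iv5 D187850)) (tt N72754 F371695) (tt N85994 (iv7 F374784)))
theorem Q85124 : ∀ i, i < 85124 → P i := stepQ 85123 Q85123 (allL N85123 (tt N89623 F386996) (tt N85519 (iv0 F372922)) (tt N84891 F374790) (tt N114477 D217734) (tt N50316 (iv4 D187851)) (tt N113600 (iv5 F486241)) (tt N51169 (iv6 F374813)) (tt N85995 (iv7 F374787)))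
theorem Q85125 : ∀ i, i < 85125 → P i := stepQ 85124 Q85124 (allL N85124 (tt N100217 (iv1 F428032)) (tt N98494 (iv0 F421119)) (tt N84890 F374799) (tt N86088 (iv3 F375077)) (tt N51169 (iv4 F374800)) (tt N86062 (iv5 F375039)) (tt N50316 (iv6 D187852)) (tt N84883 (iv7 F374801)))
theorem Q85126 : ∀ i, i < 85126 → P i := stepQ 85125 Q85125 (allL N85125 (tt N114290 (iv1 F489416)) (tt N114289 F489413) (tt N50322 F371696) (tt N70249 F371697) (tt N50317 (iv4 D187853)) (tt N114478 D217735) (tt N70247 (iv6 F371698)) (tt N114286 (iv7 F489403)))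
theorem Q85127 : ∀ i, i < 85127 → P i := stepQ 85126 Q85126 (allL N85126 (tt N114479 D217736) (tt N114480 D217737) (tt N50323 F371699) (tt N107220 (iv3 F457503)) (tt N70247 F371700) (tt N109746 (iv5 F468414)) (tt N50317 (iv6 D187854)) (tt N105588 (iv7 F450861)))
theorem Q85128 : ∀ i, i < 85128 → P i := stepQ 85127 Q85127 (allL N85127 (tt N50319 (iv1 D187855)) (tt N53694 F371701) (tt N50466 F371704) (tt N89382 F386304) (tt N114481 D217738) (tt N50465 (iv5 F371703)) (tt N105584 F450838) (tt N53718 F371702))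
theorem Q85129 : ∀ i, i < 85129 → P i := stepQ 85128 Q85128 (allL N85128 (tt N114482 D217739) (tt N105582 (iv0 F450831)) (tt N53719 F371705) (tt N104100 F444180) (tt N50319 (iv4 D187856)) (tt N112777 (iv5 F482605)) (tt N73880 (iv6 F372581)) (tt N53721 F371706))
theorem Q85130 : ∀ i, i < 85130 → P i := stepQ 85129 Q85129 (allL N85129 (tt N114483 D217740) (tt N62407 (iv0 F371710)) (tt N53720 F371707) (tt N55358 F371708) (tt N73880 F372580) (tt N53107 F371709) (tt N50319 (iv6 D187857)) (tt N114484 D217741))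
theorem Q85131 : ∀ i, i < 85131 → P i := stepQ 85130 Q85130 (allL N85130 (tt N89619 (iv1 F386985)) (tt N89617 (iv0 F386981)) (tt N114288 (iv2 F489408)) (tt N99767 (iv3 F426138)) (tt N50320 (iv4 D187858)) (tt N114485 D217742) (tt N99766 (iv6 F426134)) (tt N114287 (iv7 F489407)))
theorem Q85132 : ∀ i, i < 85132 → P i := stepQ 85131 Q85131 (allL N85131 (tt N98321 F420496) (tt N114486 D217743) (tt N63303 F371711) (tt N86097 (iv3 F375114)) (tt N99766 F426133) (tt N63278 F371712) (tt N50320 (iv6 D187859)) (tt N63306 (iv7 F371713)))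
theorem Q85133 : ∀ i, i < 85133 → P i := stepQ 85132 Q85132 (allL N85132 (tt N89617 (iv1 F386980)) (tt N89619 (iv0 F386986)) (tt N114287 (iv2 F489406)) (tt N113309 (iv3 F484954)) (tt N50321 (iv4 D187860)) (tt N114487 D217744) (tt N109773 F468548) (tt N114288 (iv7 F489410)))
theorem Q85134 : ∀ i, i < 85134 → P i := stepQ 85133 Q85133 (allL N85133 (tt N78763 F371853) (tt N97986 F419073) (tt N97985 (iv2 F419065)) (tt N98450 F431374) (tt N109773 (iv4 F468547)) (tt N85018 F386959) (tt N50321 (iv6 D187861)) (tt N97984 (iv7 F419074)))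
theorem Q85135 : ∀ i, i < 85135 → P i := stepQ 85134 Q85134 (allL N85134 (tt N114286 (iv1 F489405)) (tt N50322 (iv0 D187862)) (tt N114290 F489419) (tt N114488 D217745) (tt N51065 F371714) (tt N114489 D217746) (tt N114490 D217747) (tt N114289 F489415))
theorem Q85136 : ∀ i, i < 85136 → P i := stepQ 85135 Q85135 (allL N85135 (tt N50322 (iv1 D187863)) (tt N114286 (iv0 F489404)) (tt N114289 F489414) (tt N114491 D217748) (tt N85351 (iv4 F372325)) (tt N114492 D217749) (tt N114034 (iv6 F488304)) (tt N114290 (iv7 F489417)))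
theorem Q85137 : ∀ i, i < 85137 → P i := stepQ 85136 Q85136 (allL N85136 (tt N98224 F420055) (tt N114493 D217750) (tt N104098 (iv2 F444170)) (tt N50322 (iv3 D187864)) (tt N50334 F371715) (tt N113503 F485809) (tt N104096 F444162) (tt N106308 (iv7 F453968)))
theorem Q85138 : ∀ i, i < 85138 → P i := stepQ 85137 Q85137 (allL N85137 (tt N114494 D217751) (tt N114495 D217752) (tt N114478 (iv2 F490382)) (tt N113503 (iv3 F485810)) (tt N114496 D217753) (tt N50322 (iv5 D187865)) (tt N88574 F450320) (tt N114291 (iv7 F489422)))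
theorem Q85139 : ∀ i, i < 85139 → P i := stepQ 85138 Q85138 (allL N85138 (tt N104207 F444696) (tt N105412 F450141) (tt N70247 F371716) (tt N104096 (iv3 F444157)) (tt N50323 F371717) (tt N70246 (iv5 F371718)) (tt N50322 (iv6 D187866)) (tt N105411 (iv7 F450134)))
theorem Q85140 : ∀ i, i < 85140 → P i := stepQ 85139 Q85139 (allL N85139 (tt N105588 (iv1 F450863)) (tt N50323 (iv0 D187867)) (tt N114479 F490392) (tt N93117 (iv3 F399560)) (tt N109770 (iv4 F468531)) (tt N76439 F371719) (tt N98659 (iv6 F421763)) (tt N114480 (iv7 F490395)))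
theorem Q85141 : ∀ i, i < 85141 → P i := stepQ 85140 Q85140 (allL N85140 (tt N50323 (iv1 D187868)) (tt N105588 (iv0 F450862)) (tt N114480 F490399) (tt N114497 D217754) (tt N84896 F448742) (tt N76438 (iv5 F371723)) (tt N84895 (iv6 F448743)) (tt N114479 F490393))
theorem Q85142 : ∀ i, i < 85142 → P i := stepQ 85141 Q85141 (allL N85141 (tt N94019 F402841) (tt N109722 (iv0 F468290)) (tt N109746 (iv2 F468411)) (tt N50339 F371720) (tt N79092 F371722) (tt N50323 (iv5 D187869)) (tt N50326 F371721) (tt N79091 (iv7 F371724)))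
theorem Q85143 : ∀ i, i < 85143 → P i := stepQ 85142 Q85142 (allL N85142 (tt N114480 (iv1 F490394)) (tt N114479 F490391) (tt N105588 (iv2 F450858)) (tt N50340 F371725) (tt N105411 (iv4 F450130)) (tt N79091 F371726) (tt N61510 F371727) (tt N50323 (iv7 D187870)))
theorem Q85144 : ∀ i, i < 85144 → P i := stepQ 85143 Q85143 (allL N85143 (tt N84861 (iv1 F371733)) (tt N84885 (iv0 F371732)) (tt N84748 F371728) (tt N83580 F371729) (tt N50324 (iv4 D187871)) (tt N114498 D217755) (tt N83619 F371730) (tt N84886 F371731))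
theorem Q85145 : ∀ i, i < 85145 → P i := stepQ 85144 Q85144 (allL N85144 (tt N53058 F371736) (tt N109754 F468461) (tt N109745 (iv2 F468405)) (tt N86463 F376304) (tt N50326 (iv4 D187872)) (tt N114499 D217756) (tt N79092 F371734) (tt N51364 F371735))
theorem Q85146 : ∀ i, i < 85146 → P i := stepQ 85145 Q85145 (allL N85145 (tt N83380 F371737) (tt N77400 (iv0 F374208)) (tt N86067 (iv2 F375045)) (tt N112844 (iv3 F482919)) (tt N50327 (iv4 D187873)) (tt N110343 F471131) (tt N50584 F371743) (tt N89856 (iv7 F387743)))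
theorem Q85147 : ∀ i, i < 85147 → P i := stepQ 85146 Q85146 (allL N85146 (tt N99591 (iv1 F425314)) (tt N107907 (iv0 F460216)) (tt N73158 F371738) (tt N50329 F371739) (tt N50584 (iv4 F371742)) (tt N62239 F371740) (tt N50327 (iv6 D187874)) (tt N73154 (iv7 F371741)))
theorem Q85148 : ∀ i, i < 85148 → P i := stepQ 85147 Q85147 (allL N85147 (tt N89855 (iv1 F387742)) (tt N50329 (iv0 D187875)) (tt N89853 F387728) (tt N61610 (iv3 F371746)) (tt N57991 F371744) (tt N61607 F371745) (tt N86175 (iv6 F375268)) (tt N89854 (iv7 F387732)))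
theorem Q85149 : ∀ i, i < 85149 → P i := stepQ 85148 Q85148 (allL N85148 (tt N50329 (iv1 D187876)) (tt N89855 F387741) (tt N89854 F387737) (tt N114486 F490431) (tt N95064 (iv4 F406911)) (tt N79067 (iv5 F371747)) (tt N98313 F420461) (tt N89853 F387730))
theorem Q85150 : ∀ i, i < 85150 → P i := stepQ 85149 Q85149 (allL N85149 (tt N91696 F394077) (tt N114500 D217757) (tt N114501 D217758) (tt N50330 (iv3 D187877)) (tt N86073 (iv4 F375054)) (tt N55264 F371748) (tt N55226 (iv6 F371749)) (tt N89822 (iv7 F387638)))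
theorem Q85151 : ∀ i, i < 85151 → P i := stepQ 85150 Q85150 (allL N85150 (tt N111220 F475280) (tt N110187 (iv0 F470328)) (tt N89820 (iv2 F387629)) (tt N55226 F371750) (tt N50331 F371751) (tt N55225 F371752) (tt N50330 (iv6 D187878)) (tt N114469 (iv7 F490343)))
theorem Q85152 : ∀ i, i < 85152 → P i := stepQ 85151 Q85151 (allL N85151 (tt N57991 (iv1 F371755)) (tt N95064 F406915) (tt N85300 (iv2 F372212)) (tt N88983 (iv3 F384653)) (tt N53833 F371753) (tt N70200 F371754) (tt N50332 (iv6 D187880)) (tt N95035 (iv7 F406746)))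
theorem Q85153 : ∀ i, i < 85153 → P i := stepQ 85152 Q85152 (allL N85152 (tt N93802 F401959) (tt N95066 F406940) (tt N85305 (iv2 F372223)) (tt N57093 F371756) (tt N53837 F371757) (tt N78239 F371758) (tt N50333 (iv6 D187881)) (tt N96104 (iv7 F411069)))
theorem Q85154 : ∀ i, i < 85154 → P i := stepQ 85153 Q85153 (allL N85153 (tt N95124 (iv1 F407136)) (tt N50334 (iv0 D187882)) (tt N90160 (iv2 F420152)) (tt N97833 (iv3 F420158)) (tt N114502 D217759) (tt N90158 F420157) (tt N95041 (iv6 F420159)) (tt N90156 (iv7 F420153)))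
theorem Q85155 : ∀ i, i < 85155 → P i := stepQ 85154 Q85154 (allL N85154 (tt N50334 (iv1 D187883)) (tt N95124 F407135) (tt N90156 F420149) (tt N95701 F420150) (tt N114503 D217760) (tt N90154 (iv5 F420148)) (tt N114504 D217761) (tt N90160 F420151))
theorem Q85156 : ∀ i, i < 85156 → P i := stepQ 85155 Q85155 (allL N85155 (tt N90160 (iv1 F409204)) (tt N90156 F420155) (tt N50334 (iv2 D187884)) (tt N94721 (iv3 F405667)) (tt N104098 (iv4 F444172)) (tt N95121 (iv5 F429732)) (tt N104097 (iv6 F444169)) (tt N95124 (iv7 F407134)))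
theorem Q85157 : ∀ i, i < 85157 → P i := stepQ 85156 Q85156 (allL N85156 (tt N95114 F407106) (tt N95122 F407126) (tt N95121 (iv2 F429731)) (tt N50335 F371759) (tt N103651 (iv4 F442366)) (tt N50334 (iv5 D187885)) (tt N103650 F442362) (tt N89777 (iv7 F387515)))
theorem Q85158 : ∀ i, i < 85158 → P i := stepQ 85157 Q85157 (allL N85157 (tt N105695 (iv1 F451297)) (tt N85557 (iv0 F405145)) (tt N104097 (iv2 F444163)) (tt N50336 F371760) (tt N104096 (iv4 F444161)) (tt N114505 D217762) (tt N50334 (iv6 D187886)) (tt N105603 (iv7 F450941)))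
theorem Q85159 : ∀ i, i < 85159 → P i := stepQ 85158 Q85158 (allL N85158 (tt N89749 F387417) (tt N114506 D217763) (tt N54524 F371761) (tt N103650 (iv3 F442360)) (tt N50477 F371762) (tt N86208 (iv5 F375371)) (tt N50335 (iv6 D187887)) (tt N71138 (iv7 F371763)))
theorem Q85160 : ∀ i, i < 85160 → P i := stepQ 85159 Q85159 (allL N85159 (tt N114284 (iv1 F489392)) (tt N50336 (iv0 D187888)) (tt N85314 (iv2 F376853)) (tt N89749 (iv3 F387415)) (tt N84843 (iv4 F376852)) (tt N85882 F375380) (tt N89748 F387413) (tt N85317 F376856))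
theorem Q85161 : ∀ i, i < 85161 → P i := stepQ 85160 Q85160 (allL N85160 (tt N50336 (iv1 D187889)) (tt N114284 F489391) (tt N85317 (iv2 F376857)) (tt N109650 (iv3 F467930)) (tt N84844 F376851) (tt N86142 (iv5 F375383)) (tt N111019 (iv6 F474286)) (tt N85314 (iv7 F376855)))
theorem Q85162 : ∀ i, i < 85162 → P i := stepQ 85161 Q85161 (allL N85161 (tt N114507 D217764) (tt N111159 (iv0 F474998)) (tt N114283 (iv2 F489383)) (tt N114505 (iv3 F490500)) (tt N86210 (iv4 F375386)) (tt N50336 (iv5 D187890)) (tt N86208 F375373) (tt N114508 D217765))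
theorem Q85163 : ∀ i, i < 85163 → P i := stepQ 85162 Q85162 (allL N85162 (tt N85317 (iv1 F387429)) (tt N85314 F387431) (tt N114284 (iv2 F489388)) (tt N105603 (iv3 F450939)) (tt N50340 F371764) (tt N114508 (iv5 F490514)) (tt N113903 F487707) (tt N50336 (iv7 D187891)))
theorem Q85164 : ∀ i, i < 85164 → P i := stepQ 85163 Q85163 (allL N85163 (tt N83293 F371770) (tt N83292 F371771) (tt N83296 F371768) (tt N50337 (iv3 D187893)) (tt N52774 (iv4 F371767)) (tt N86994 (iv5 F377985)) (tt N70338 F371766) (tt N52773 F371769))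
theorem Q85165 : ∀ i, i < 85165 → P i := stepQ 85164 Q85164 (allL N85164 (tt N110258 F470678) (tt N50425 (iv0 F371775)) (tt N114285 (iv2 F489393)) (tt N57815 F371772) (tt N50337 (iv4 D187894)) (tt N51040 (iv5 F371774)) (tt N57814 F371773) (tt N80531 F371776))
theorem Q85166 : ∀ i, i < 85166 → P i := stepQ 85165 Q85165 (allL N85165 (tt N69490 F371777) (tt N86498 F376391) (tt N86497 F376947) (tt N86994 (iv3 F377987)) (tt N114509 D217766) (tt N50337 (iv5 D187895)) (tt N87169 (iv6 F378613)) (tt N86496 F376940))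
theorem Q85167 : ∀ i, i < 85167 → P i := stepQ 85166 Q85166 (allL N85166 (tt N50425 F413457) (tt N110258 (iv0 F470677)) (tt N80531 F371783) (tt N114510 D217767) (tt N50338 (iv4 D187898)) (tt N96687 F413458) (tt N114511 D217768) (tt N114285 (iv7 F489396)))
theorem Q85168 : ∀ i, i < 85168 → P i := stepQ 85167 Q85167 (allL N85167 (tt N86498 (iv1 F376948)) (tt N69490 (iv0 F371784)) (tt N86496 F376944) (tt N86085 (iv3 F376989)) (tt N114512 D217769) (tt N50338 (iv5 D187899)) (tt N86149 (iv6 F375216)) (tt N86497 F376943))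
theorem Q85169 : ∀ i, i < 85169 → P i := stepQ 85168 Q85168 (allL N85168 (tt N86172 F375261) (tt N86175 F375271) (tt N52775 F371785) (tt N86086 (iv3 F376990)) (tt N114511 (iv4 F490524)) (tt N114513 D217770) (tt N50338 (iv6 D187900)) (tt N112016 (iv7 F479095)))
theorem Q85170 : ∀ i, i < 85170 → P i := stepQ 85169 Q85169 (allL N85169 (tt N51380 (iv1 F371793)) (tt N50339 (iv0 D187901)) (tt N51378 F399775) (tt N114514 D217771) (tt N114515 D217772) (tt N112764 (iv5 F482546)) (tt N112067 (iv6 F479335)) (tt N51379 F399776))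
theorem Q85171 : ∀ i, i < 85171 → P i := stepQ 85170 Q85170 (allL N85170 (tt N50339 (iv1 D187902)) (tt N51380 F371786) (tt N51379 F399772) (tt N54873 F399773) (tt N114516 D217773) (tt N114280 F489365) (tt N104017 (iv6 F447618)) (tt N51378 F399774))
theorem Q85172 : ∀ i, i < 85172 → P i := stepQ 85171 Q85171 (allL N85171 (tt N114517 D217774) (tt N114518 D217775) (tt N51377 F371787) (tt N114519 D217776) (tt N50339 (iv4 D187903)) (tt N86559 (iv5 F376928)) (tt N50341 F371788) (tt N114520 D217777))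
theorem Q85173 : ∀ i, i < 85173 → P i := stepQ 85172 Q85172 (allL N85172 (tt N51379 (iv1 F371794)) (tt N51378 F371795) (tt N51380 F371789) (tt N79091 F371790) (tt N114520 (iv4 F490568)) (tt N50340 F371791) (tt N51372 F371792) (tt N50339 (iv7 D187904)))
theorem Q85174 : ∀ i, i < 85174 → P i := stepQ 85173 Q85173 (allL N85173 (tt N113557 (iv1 F486023)) (tt N51357 (iv0 F376306)) (tt N86720 (iv2 F376890)) (tt N50341 (iv3 D187905)) (tt N86463 (iv4 F376305)) (tt N86432 (iv5 F376200)) (tt N114519 (iv6 F490564)) (tt N51367 F371797))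
theorem Q85175 : ∀ i, i < 85175 → P i := stepQ 85174 Q85174 (allL N85174 (tt N55384 F371802) (tt N51638 (iv0 F371803)) (tt N50347 F371798) (tt N55084 F371799) (tt N50345 F371800) (tt N87943 (iv5 F381254)) (tt N50343 (iv6 D187906)) (tt N55385 F371801))
theorem Q85176 : ∀ i, i < 85176 → P i := stepQ 85175 Q85175 (allL N85175 (tt N51294 F371806) (tt N51292 (iv0 F371807)) (tt N50353 F371804) (tt N66720 F371805) (tt N66723 F371808) (tt N50345 (iv5 D187907)) (tt N98259 (iv6 F420218)) (tt N79986 F371809))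
theorem Q85177 : ∀ i, i < 85177 → P i := stepQ 85176 Q85176 (allL N85176 (tt N50352 (iv1 F371815)) (tt N50351 F371816) (tt N50354 F371810) (tt N54834 F371811) (tt N55385 F371812) (tt N79986 F371813) (tt N54887 F371814) (tt N50345 (iv7 D187908)))
theorem Q85178 : ∀ i, i < 85178 → P i := stepQ 85177 Q85177 (allL N85177 (tt N50347 (iv1 D187909)) (tt N55385 F371818) (tt N51638 F371822) (tt N112817 (iv3 F482758)) (tt N50878 (iv4 F371820)) (tt N52413 F371823) (tt N50876 (iv6 F371821)) (tt N55384 F371819))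
theorem Q85179 : ∀ i, i < 85179 → P i := stepQ 85178 Q85178 (allL N85178 (tt N85774 (iv1 F373883)) (tt N85768 (iv0 F373856)) (tt N87943 F381255) (tt N51873 F371824) (tt N114521 D217778) (tt N50347 (iv5 D187910)) (tt N97224 (iv6 F415971)) (tt N55386 F371825))
theorem Q85180 : ∀ i, i < 85180 → P i := stepQ 85179 Q85179 (allL N85179 (tt N85849 F374202) (tt N109562 (iv0 F467537)) (tt N76283 F371826) (tt N50348 (iv3 D187911)) (tt N110982 (iv4 F474073)) (tt N89634 F387028) (tt N97955 F418958) (tt N98318 (iv7 F420482)))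
theorem Q85181 : ∀ i, i < 85181 → P i := stepQ 85180 Q85180 (allL N85180 (tt N83335 F371831) (tt N83333 (iv0 F372526)) (tt N78980 F371827) (tt N50351 (iv3 D187912)) (tt N84975 F371830) (tt N78978 F371828) (tt N54875 F371829) (tt N86016 (iv7 F374900)))
theorem Q85182 : ∀ i, i < 85182 → P i := stepQ 85181 Q85181 (allL N85181 (tt N95701 (iv1 F409207)) (tt N95692 F409163) (tt N95125 (iv2 F407137)) (tt N50356 F371832) (tt N114522 D217779) (tt N50355 (iv5 D187914)) (tt N114523 D217780) (tt N89779 (iv7 F387521)))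
theorem Q85183 : ∀ i, i < 85183 → P i := stepQ 85182 Q85182 (allL N85182 (tt N70129 F406882) (tt N93311 F406883) (tt N93309 F400346) (tt N50357 F371833) (tt N57051 F371834) (tt N114524 D217781) (tt N50355 (iv6 D187915)) (tt N93308 F402324))
theorem Q85184 : ∀ i, i < 85184 → P i := stepQ 85183 Q85183 (allL N85183 (tt N114525 D217782) (tt N114526 D217783) (tt N89778 (iv2 F387517)) (tt N114523 (iv3 F490585)) (tt N50475 F371835) (tt N114527 D217784) (tt N50356 (iv6 D187916)) (tt N114528 D217785))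
theorem Q85185 : ∀ i, i < 85185 → P i := stepQ 85184 Q85184 (allL N85184 (tt N113903 F487706) (tt N50357 (iv0 D187917)) (tt N85364 (iv2 F372349)) (tt N97829 (iv3 F418441)) (tt N84851 F371836) (tt N113834 (iv5 F487352)) (tt N72931 F371837) (tt N85366 (iv7 F372360)))
theorem Q85186 : ∀ i, i < 85186 → P i := stepQ 85185 Q85185 (allL N85185 (tt N50357 (iv1 D187918)) (tt N113903 (iv0 F487705)) (tt N85366 (iv2 F372358)) (tt N114526 F490605) (tt N61046 (iv4 F372354)) (tt N113898 (iv5 F487687)) (tt N61126 (iv6 F372355)) (tt N85364 F372353))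
theorem Q85187 : ∀ i, i < 85187 → P i := stepQ 85186 Q85186 (allL N85186 (tt N113902 (iv1 F487698)) (tt N113901 F487697) (tt N87237 (iv2 F378848)) (tt N114524 (iv3 F490593)) (tt N87234 (iv4 F378836)) (tt N50357 (iv5 D187919)) (tt N114527 (iv6 F490609)) (tt N87266 (iv7 F378943)))
theorem Q85188 : ∀ i, i < 85188 → P i := stepQ 85187 Q85187 (allL N85187 (tt N85366 (iv1 F372362)) (tt N85364 (iv0 F372351)) (tt N113903 (iv2 F487701)) (tt N93308 F402323) (tt N50360 F371838) (tt N87266 (iv5 F378942)) (tt N114284 (iv6 F489390)) (tt N50357 (iv7 D187920)))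
theorem Q85189 : ∀ i, i < 85189 → P i := stepQ 85188 Q85188 (allL N85188 (tt N111217 F475267) (tt N50457 F393118) (tt N87273 (iv2 F378948)) (tt N114529 D217786) (tt N50358 (iv4 D187921)) (tt N87258 (iv5 F378919)) (tt N93768 F401837) (tt N98309 (iv7 F420447)))
theorem Q85190 : ∀ i, i < 85190 → P i := stepQ 85189 Q85189 (allL N85189 (tt N98313 (iv1 F420460)) (tt N72933 (iv0 F371840)) (tt N93787 (iv2 F401881)) (tt N86108 (iv3 F375134)) (tt N93768 (iv4 F401834)) (tt N83665 F371839) (tt N50358 (iv6 D187922)) (tt N93766 F401823))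
theorem Q85191 : ∀ i, i < 85191 → P i := stepQ 85190 Q85190 (allL N85190 (tt N85856 F374235) (tt N108448 (iv0 F462624)) (tt N66952 F371841) (tt N50359 (iv3 D187923)) (tt N113326 (iv4 F485039)) (tt N66908 F371842) (tt N92797 (iv6 F398271)) (tt N108232 (iv7 F461601)))
theorem Q85192 : ∀ i, i < 85192 → P i := stepQ 85191 Q85191 (allL N85191 (tt N50457 F393119) (tt N111217 (iv0 F475266)) (tt N98309 (iv2 F420445)) (tt N108169 (iv3 F461377)) (tt N50359 (iv4 D187924)) (tt N87274 (iv5 F378952)) (tt N98298 (iv6 F420390)) (tt N87273 (iv7 F378950)))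
theorem Q85193 : ∀ i, i < 85193 → P i := stepQ 85192 Q85192 (allL N85192 (tt N114293 (iv1 F489432)) (tt N53671 (iv0 F371845)) (tt N50362 F371843) (tt N82250 (iv3 F371846)) (tt N50361 (iv4 D187925)) (tt N114530 D217787) (tt N114531 D217788) (tt N76507 F371844))
theorem Q85194 : ∀ i, i < 85194 → P i := stepQ 85193 Q85193 (allL N85193 (tt N51529 (iv1 F371852)) (tt N51528 (iv0 F371851)) (tt N50363 F371847) (tt N79016 F371848) (tt N53725 F371850) (tt N50361 (iv5 D187926)) (tt N113031 (iv6 F483629)) (tt N51523 F371849))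
theorem Q85195 : ∀ i, i < 85195 → P i := stepQ 85194 Q85194 (allL N85194 (tt N114532 D217789) (tt N114533 D217790) (tt N50364 F371855) (tt N108837 (iv3 F464190)) (tt N114531 (iv4 F490629)) (tt N109062 F465166) (tt N50361 (iv6 D187927)) (tt N114534 D217791))
theorem Q85196 : ∀ i, i < 85196 → P i := stepQ 85195 Q85195 (allL N85195 (tt N76507 (iv1 F371857)) (tt N50362 (iv0 D187928)) (tt N114293 (iv2 F489436)) (tt N88953 (iv3 F384592)) (tt N51056 F371856) (tt N114494 (iv5 F490450)) (tt N84888 F374809) (tt N53671 (iv7 F371858)))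
theorem Q85197 : ∀ i, i < 85197 → P i := stepQ 85196 Q85196 (allL N85196 (tt N50362 (iv1 D187929)) (tt N76507 F371859) (tt N53671 F371861) (tt N114535 D217792) (tt N53663 (iv4 F371860)) (tt N114495 (iv5 F490457)) (tt N79098 F371862) (tt N114293 (iv7 F489433)))
theorem Q85198 : ∀ i, i < 85198 → P i := stepQ 85197 Q85197 (allL N85197 (tt N82262 F371866) (tt N82261 F371867) (tt N82264 F371863) (tt N50362 (iv3 D187930)) (tt N50367 F371864) (tt N114536 D217793) (tt N105367 (iv6 F449907)) (tt N82254 F371865))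
theorem Q85199 : ∀ i, i < 85199 → P i := stepQ 85198 Q85198 (allL N85198 (tt N114537 D217794) (tt N114538 D217795) (tt N114530 (iv2 F490620)) (tt N114536 (iv3 F490656)) (tt N85440 (iv4 F372645)) (tt N50362 (iv5 D187931)) (tt N85441 (iv6 F372646)) (tt N114294 (iv7 F489442)))
theorem Q85200 : ∀ i, i < 85200 → P i := stepQ 85199 Q85199 (allL N85199 (tt N114539 D217796) (tt N91071 (iv0 F451787)) (tt N114531 (iv2 F490627)) (tt N105367 (iv3 F449906)) (tt N50364 F371869) (tt N114540 D217797) (tt N50362 (iv6 D187932)) (tt N76508 F371870))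
theorem Q85201 : ∀ i, i < 85201 → P i := stepQ 85200 Q85200 (allL N85200 (tt N51523 (iv1 F371874)) (tt N50363 (iv0 D187933)) (tt N51529 (iv2 F371873)) (tt N86132 F375195) (tt N113864 (iv4 F487520)) (tt N84811 F371871) (tt N85019 F371872) (tt N51528 F371875))
theorem Q85202 : ∀ i, i < 85202 → P i := stepQ 85201 Q85201 (allL N85201 (tt N114534 (iv1 F490651)) (tt N50364 (iv0 D187934)) (tt N114532 F490637) (tt N111154 (iv3 F474963)) (tt N109766 (iv4 F468512)) (tt N91079 F452072) (tt N100228 (iv6 F452074)) (tt N114533 (iv7 F490641)))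
theorem Q85203 : ∀ i, i < 85203 → P i := stepQ 85202 Q85202 (allL N85202 (tt N50364 (iv1 D187935)) (tt N114534 F490650) (tt N114533 F490643) (tt N102527 (iv3 F437511)) (tt N107486 (iv4 F458489)) (tt N102526 (iv5 F437507)) (tt N97981 (iv6 F419060)) (tt N114532 F490639))
theorem Q85204 : ∀ i, i < 85204 → P i := stepQ 85203 Q85203 (allL N85203 (tt N114533 (iv1 F490640)) (tt N114532 (iv0 F490638)) (tt N114534 (iv2 F490645)) (tt N50371 F371876) (tt N76508 F371877) (tt N71498 F371878) (tt N76411 F371879) (tt N50364 (iv7 D187936)))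
theorem Q85205 : ∀ i, i < 85205 → P i := stepQ 85204 Q85204 (allL N85204 (tt N82260 (iv1 F371880)) (tt N50367 (iv0 D187937)) (tt N85511 (iv2 F372893)) (tt N98251 F420181) (tt N85501 (iv4 F372862)) (tt N95114 (iv5 F407105)) (tt N85500 F372860) (tt N103051 (iv7 F439853)))
theorem Q85206 : ∀ i, i < 85206 → P i := stepQ 85205 Q85205 (allL N85205 (tt N50367 (iv1 D187938)) (tt N82260 F371881) (tt N103051 (iv2 F439851)) (tt N57779 (iv3 F371882)) (tt N85514 (iv4 F372907)) (tt N95122 (iv5 F407125)) (tt N113259 (iv6 F484743)) (tt N85511 F372903))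
theorem Q85207 : ∀ i, i < 85207 → P i := stepQ 85206 Q85206 (allL N85206 (tt N56781 (iv1 F371886)) (tt N50368 (iv0 D187939)) (tt N56779 (iv2 F371884)) (tt N90163 (iv3 F388735)) (tt N89881 (iv4 F387846)) (tt N62170 F371883) (tt N114472 F490356) (tt N56780 (iv7 F371885)))
theorem Q85208 : ∀ i, i < 85208 → P i := stepQ 85207 Q85207 (allL N85207 (tt N50368 (iv1 D187940)) (tt N56781 F371887) (tt N56780 (iv2 F371890)) (tt N61190 (iv3 F371891)) (tt N89882 (iv4 F387852)) (tt N62169 F371889) (tt N96099 (iv6 F411051)) (tt N56779 F371888))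
theorem Q85209 : ∀ i, i < 85209 → P i := stepQ 85208 Q85208 (allL N85208 (tt N56780 (iv1 F371896)) (tt N56779 F371897) (tt N56781 F371892) (tt N58338 F371893) (tt N50371 F371894) (tt N56768 F371895) (tt N114295 (iv6 F489448)) (tt N50368 (iv7 D187941)))
theorem Q85210 : ∀ i, i < 85210 → P i := stepQ 85209 Q85209 (allL N85209 (tt N114275 F489345) (tt N85858 (iv0 F376613)) (tt N86123 F375176) (tt N50369 (iv3 D187943)) (tt N63942 F371901) (tt N97529 (iv5 F417273)) (tt N63945 (iv6 F371902)) (tt N105926 (iv7 F452378)))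
theorem Q85211 : ∀ i, i < 85211 → P i := stepQ 85210 Q85210 (allL N85210 (tt N73002 (iv1 F371997)) (tt N50383 F371990) (tt N114292 (iv2 F489425)) (tt N63961 F371900) (tt N50369 (iv4 D187944)) (tt N72955 F371899) (tt N63981 (iv6 F371903)) (tt N105644 (iv7 F451080)))
theorem Q85212 : ∀ i, i < 85212 → P i := stepQ 85211 Q85211 (allL N85211 (tt N69545 F371904) (tt N102780 (iv0 F438614)) (tt N104119 F444274) (tt N97529 (iv3 F417275)) (tt N92911 (iv4 F398743)) (tt N50369 (iv5 D187945)) (tt N114541 D217798) (tt N104118 (iv7 F444268)))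
theorem Q85213 : ∀ i, i < 85213 → P i := stepQ 85212 Q85212 (allL N85212 (tt N50383 (iv1 F371912)) (tt N73002 F371911) (tt N105644 F451083) (tt N106932 F456335) (tt N50370 (iv4 D187949)) (tt N72986 F371910) (tt N114542 D217799) (tt N114292 (iv7 F489429)))
theorem Q85214 : ∀ i, i < 85214 → P i := stepQ 85213 Q85213 (allL N85213 (tt N102780 (iv1 F438615)) (tt N69545 F371913) (tt N104118 (iv2 F444269)) (tt N86125 (iv3 F375172)) (tt N92918 (iv4 F398759)) (tt N50370 (iv5 D187950)) (tt N69390 F371914) (tt N104119 (iv7 F444271)))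
theorem Q85215 : ∀ i, i < 85215 → P i := stepQ 85214 Q85214 (allL N85214 (tt N114543 D217800) (tt N114301 (iv0 F489482)) (tt N105924 (iv2 F452366)) (tt N86126 (iv3 F375178)) (tt N114542 (iv4 F490689)) (tt N92162 (iv5 F396031)) (tt N50370 (iv6 D187951)) (tt N114474 (iv7 F490368)))
theorem Q85216 : ∀ i, i < 85216 → P i := stepQ 85215 Q85215 (allL N85215 (tt N57202 F371919) (tt N57205 F371920) (tt N50373 F371915) (tt N77120 F371916) (tt N50372 (iv4 D187952)) (tt N56847 F371918) (tt N82246 (iv6 F371921)) (tt N56846 F371917))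
theorem Q85217 : ∀ i, i < 85217 → P i := stepQ 85216 Q85216 (allL N85216 (tt N51503 F371928) (tt N74192 F371929) (tt N50374 F371924) (tt N51523 F371925) (tt N52683 F371926) (tt N50372 (iv5 D187953)) (tt N50717 F371930) (tt N79016 F371927))
theorem Q85218 : ∀ i, i < 85218 → P i := stepQ 85217 Q85217 (allL N85217 (tt N92964 F398941) (tt N61310 (iv0 F371935)) (tt N50375 F371931) (tt N76416 F371932) (tt N82246 F371933) (tt N76415 F371934) (tt N50372 (iv6 D187954)) (tt N111003 (iv7 F474187)))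
theorem Q85219 : ∀ i, i < 85219 → P i := stepQ 85218 Q85218 (allL N85218 (tt N105626 F451016) (tt N98215 (iv0 F420020)) (tt N82246 F371936) (tt N57950 F371937) (tt N50375 F371938) (tt N96395 (iv5 F412324)) (tt N50373 (iv6 D187955)) (tt N57944 F371939))
theorem Q85220 : ∀ i, i < 85220 → P i := stepQ 85219 Q85219 (allL N85219 (tt N50374 (iv1 D187956)) (tt N79016 F371940) (tt N74192 F371945) (tt N86114 (iv3 F375152)) (tt N74050 F371943) (tt N84803 F371942) (tt N79012 (iv6 F371944)) (tt N51503 F371941))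
theorem Q85221 : ∀ i, i < 85221 → P i := stepQ 85220 Q85220 (allL N85220 (tt N111003 (iv1 F474186)) (tt N50375 (iv0 D187957)) (tt N92964 (iv2 F398943)) (tt N106324 F454030) (tt N96103 (iv4 F411067)) (tt N56604 F398944) (tt N96102 F411065) (tt N61310 F398945))
theorem Q85222 : ∀ i, i < 85222 → P i := stepQ 85221 Q85221 (allL N85221 (tt N61310 (iv1 F371949)) (tt N92964 F398942) (tt N111003 (iv2 F474192)) (tt N50381 F371946) (tt N57944 F371947) (tt N95897 (iv5 F410143)) (tt N57943 F371948) (tt N50375 (iv7 D187958)))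
theorem Q85223 : ∀ i, i < 85223 → P i := stepQ 85222 Q85222 (allL N85222 (tt N58107 (iv1 F371955)) (tt N57887 (iv0 F371954)) (tt N58105 F371950) (tt N50378 F371951) (tt N57950 F371952) (tt N94625 (iv5 F405282)) (tt N50376 (iv6 D187959)) (tt N56791 F371953))
theorem Q85224 : ∀ i, i < 85224 → P i := stepQ 85223 Q85223 (allL N85223 (tt N89833 (iv1 F388741)) (tt N89835 (iv0 F387687)) (tt N54069 F371956) (tt N94563 (iv3 F404976)) (tt N50473 F371957) (tt N93326 F400411) (tt N50377 (iv6 D187960)) (tt N94541 (iv7 F404894)))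
theorem Q85225 : ∀ i, i < 85225 → P i := stepQ 85224 Q85224 (allL N85224 (tt N114295 (iv1 F489450)) (tt N50378 (iv0 D187961)) (tt N89875 (iv2 F387824)) (tt N98252 (iv3 F420187)) (tt N86898 F377638) (tt N114544 D217801) (tt N114545 D217802) (tt N89878 (iv7 F387834)))
theorem Q85226 : ∀ i, i < 85226 → P i := stepQ 85225 Q85225 (allL N85225 (tt N50378 (iv1 D187962)) (tt N114295 F489449) (tt N89878 (iv2 F387833)) (tt N53762 F377631) (tt N86899 F377630) (tt N107150 (iv5 F457205)) (tt N105431 (iv6 F450241)) (tt N89875 (iv7 F387826)))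
theorem Q85227 : ∀ i, i < 85227 → P i := stepQ 85226 Q85226 (allL N85226 (tt N97144 F415662) (tt N57768 (iv0 F377633)) (tt N94617 (iv2 F405236)) (tt N94625 F405283) (tt N59288 F377632) (tt N50378 (iv5 D187963)) (tt N93326 F400412) (tt N96192 (iv7 F411423)))
theorem Q85228 : ∀ i, i < 85228 → P i := stepQ 85227 Q85227 (allL N85227 (tt N89878 (iv1 F387836)) (tt N89875 (iv0 F387827)) (tt N114295 (iv2 F489444)) (tt N56791 F371958) (tt N50381 F371959) (tt N96192 (iv5 F411424)) (tt N56781 F371960) (tt N50378 (iv7 D187964)))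
theorem Q85229 : ∀ i, i < 85229 → P i := stepQ 85228 Q85228 (allL N85228 (tt N94596 (iv1 F405117)) (tt N50386 F371973) (tt N57731 (iv2 F371964)) (tt N78067 F371963) (tt N50379 (iv4 D187967)) (tt N57730 (iv5 F371965)) (tt N114546 D217803) (tt N94595 (iv7 F405113)))
theorem Q85230 : ∀ i, i < 85230 → P i := stepQ 85229 Q85229 (allL N85229 (tt N76421 (iv1 F377262)) (tt N51514 (iv0 F371962)) (tt N114296 (iv2 F489451)) (tt N86144 (iv3 F376567)) (tt N113932 (iv4 F487852)) (tt N50379 (iv5 D187968)) (tt N114547 D217804) (tt N91226 F392346))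
theorem Q85231 : ∀ i, i < 85231 → P i := stepQ 85230 Q85230 (allL N85230 (tt N98492 F421110) (tt N84250 F421111) (tt N113907 (iv2 F487720)) (tt N86145 (iv3 F376568)) (tt N114546 (iv4 F490708)) (tt N113712 (iv5 F486777)) (tt N50379 (iv6 D187969)) (tt N113906 (iv7 F487718)))
theorem Q85232 : ∀ i, i < 85232 → P i := stepQ 85231 Q85231 (allL N85231 (tt N51514 F371976) (tt N76421 (iv0 F371977)) (tt N91226 (iv2 F392344)) (tt N105483 (iv3 F450429)) (tt N114548 D217805) (tt N50380 (iv5 D187970)) (tt N51551 (iv6 F371978)) (tt N114296 (iv7 F489454)))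
theorem Q85233 : ∀ i, i < 85233 → P i := stepQ 85232 Q85232 (allL N85232 (tt N98342 (iv1 F420557)) (tt N50382 (iv0 D187971)) (tt N61207 (iv2 F371979)) (tt N89829 (iv3 F387671)) (tt N90106 (iv4 F388574)) (tt N98229 (iv5 F420067)) (tt N114549 D217806) (tt N89826 F387662))
theorem Q85234 : ∀ i, i < 85234 → P i := stepQ 85233 Q85233 (allL N85233 (tt N61207 (iv1 F387663)) (tt N89826 F387661) (tt N50382 (iv2 D187972)) (tt N73001 F371980) (tt N114550 D217807) (tt N53815 F371981) (tt N72999 (iv6 F371982)) (tt N98342 (iv7 F420558)))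
theorem Q85235 : ∀ i, i < 85235 → P i := stepQ 85234 Q85234 (allL N85234 (tt N114551 D217808) (tt N114552 D217809) (tt N114550 (iv2 F490726)) (tt N111322 (iv3 F475814)) (tt N50382 (iv4 D187973)) (tt N109173 (iv5 F490732)) (tt N114553 D217810) (tt N114297 (iv7 F489458)))
theorem Q85236 : ∀ i, i < 85236 → P i := stepQ 85235 Q85235 (allL N85235 (tt N114554 D217811) (tt N98329 (iv0 F420522)) (tt N72999 F371983) (tt N50383 F371984) (tt N114553 (iv4 F490743)) (tt N73476 (iv5 F371985)) (tt N50382 (iv6 D187974)) (tt N114555 D217812))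
theorem Q85237 : ∀ i, i < 85237 → P i := stepQ 85236 Q85236 (allL N85236 (tt N57098 F371989) (tt N57110 F371991) (tt N57106 F371986) (tt N73476 F371987) (tt N73731 (iv4 F371993)) (tt N50383 (iv5 D187976)) (tt N53767 F371988) (tt N57105 F371992))
theorem Q85238 : ∀ i, i < 85238 → P i := stepQ 85237 Q85237 (allL N85237 (tt N105644 F451084) (tt N114292 (iv0 F489430)) (tt N73002 F371995) (tt N114555 (iv3 F490753)) (tt N114347 (iv4 F489746)) (tt N57105 F371996) (tt N94596 F405120) (tt N50383 (iv7 D187977)))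
theorem Q85239 : ∀ i, i < 85239 → P i := stepQ 85238 Q85238 (allL N85238 (tt N73001 (iv1 F372001)) (tt N50384 (iv0 D187978)) (tt N55264 (iv2 F372000)) (tt N73022 F371998) (tt N53479 (iv4 F372004)) (tt N114501 (iv5 F490490)) (tt N53478 (iv6 F372002)) (tt N89821 (iv7 F387633)))
theorem Q85240 : ∀ i, i < 85240 → P i := stepQ 85239 Q85239 (allL N85239 (tt N55264 (iv1 F372008)) (tt N89821 F387635) (tt N50384 (iv2 D187979)) (tt N98342 F420559) (tt N83132 F372014) (tt N77129 F372005) (tt N95256 (iv6 F407593)) (tt N73001 F372006))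
theorem Q85241 : ∀ i, i < 85241 → P i := stepQ 85240 Q85240 (allL N85240 (tt N55359 F372011) (tt N83133 F372012) (tt N83132 (iv2 F372013)) (tt N53845 F372010) (tt N50384 (iv4 D187980)) (tt N110360 (iv5 F471226)) (tt N105973 (iv6 F452575)) (tt N83131 F394227))
theorem Q85242 : ∀ i, i < 85242 → P i := stepQ 85241 Q85241 (allL N85241 (tt N95258 (iv1 F407611)) (tt N89763 (iv0 F387461)) (tt N95256 F407594) (tt N50386 F372015) (tt N105973 (iv4 F452571)) (tt N71228 F372016) (tt N50384 (iv6 D187981)) (tt N73004 F372017))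
theorem Q85243 : ∀ i, i < 85243 → P i := stepQ 85242 Q85242 (allL N85242 (tt N94595 (iv1 F405114)) (tt N57731 (iv0 F372022)) (tt N94596 (iv2 F405121)) (tt N73004 F372018) (tt N53850 F372019) (tt N57741 F372020) (tt N73002 F372021) (tt N50386 (iv7 D187982)))
theorem Q85244 : ∀ i, i < 85244 → P i := stepQ 85243 Q85243 (allL N85243 (tt N66899 F372028) (tt N77535 (iv0 F372025)) (tt N110219 (iv2 F470481)) (tt N59335 F372023) (tt N50387 (iv4 D187983)) (tt N77516 (iv5 F372027)) (tt N59333 F372024) (tt N89038 (iv7 F384917)))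
theorem Q85245 : ∀ i, i < 85245 → P i := stepQ 85244 Q85244 (allL N85244 (tt N77535 F389229) (tt N66899 (iv0 F372031)) (tt N89038 (iv2 F384918)) (tt N114556 D217813) (tt N50388 (iv4 D187984)) (tt N77515 (iv5 F372033)) (tt N107162 (iv6 F457267)) (tt N110219 (iv7 F470483)))
theorem Q85246 : ∀ i, i < 85246 → P i := stepQ 85245 Q85245 (allL N85245 (tt N50389 (iv1 D187985)) (tt N58276 F372034) (tt N50456 (iv2 F372035)) (tt N98223 (iv3 F420053)) (tt N113253 (iv4 F484717)) (tt N114500 (iv5 F490484)) (tt N85658 (iv6 F373429)) (tt N110190 (iv7 F470355)))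
theorem Q85247 : ∀ i, i < 85247 → P i := stepQ 85246 Q85246 (allL N85246 (tt N64745 F373379) (tt N85663 (iv0 F391162)) (tt N110189 (iv2 F470345)) (tt N53822 F372036) (tt N50389 (iv4 D187986)) (tt N83470 (iv5 F373376)) (tt N85649 F373375) (tt N110415 (iv7 F471468)))
theorem Q85248 : ∀ i, i < 85248 → P i := stepQ 85247 Q85247 (allL N85247 (tt N110221 (iv1 F470494)) (tt N110220 F470490) (tt N58279 F372037) (tt N50394 F372038) (tt N86163 (iv4 F375256)) (tt N58272 F372039) (tt N50390 (iv6 D187987)) (tt N109629 (iv7 F467829)))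
theorem Q85249 : ∀ i, i < 85249 → P i := stepQ 85248 Q85248 (allL N85248 (tt N98229 (iv1 F420068)) (tt N66794 (iv0 F372041)) (tt N98228 F439803) (tt N50391 (iv3 D187988)) (tt N114557 D217814) (tt N50424 F372040) (tt N105605 F450952) (tt N91698 (iv7 F394083)))
theorem Q85250 : ∀ i, i < 85250 → P i := stepQ 85249 Q85249 (allL N85249 (tt N96707 (iv1 F413548)) (tt N112830 (iv0 F482838)) (tt N91697 (iv2 F394078)) (tt N105605 F450951) (tt N50467 F372042) (tt N86082 (iv5 F376994)) (tt N50391 (iv6 D187989)) (tt N112832 (iv7 F482847)))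
theorem Q85251 : ∀ i, i < 85251 → P i := stepQ 85250 Q85250 (allL N85250 (tt N114501 (iv1 F490493)) (tt N89822 (iv0 F387639)) (tt N114500 F490486) (tt N50392 (iv3 D187990)) (tt N110482 (iv4 F471788)) (tt N50456 F372043) (tt N114558 D217815) (tt N91696 (iv7 F394076)))
theorem Q85252 : ∀ i, i < 85252 → P i := stepQ 85251 Q85251 (allL N85251 (tt N108092 F461078) (tt N108098 F461098) (tt N91699 (iv2 F394085)) (tt N114558 (iv3 F490771)) (tt N50437 F372044) (tt N114559 D217816) (tt N50392 (iv6 D187991)) (tt N108096 F461093))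
theorem Q85253 : ∀ i, i < 85253 → P i := stepQ 85252 Q85252 (allL N85252 (tt N58247 (iv1 F372049)) (tt N50393 (iv0 D187992)) (tt N91700 F411217) (tt N96135 (iv3 F411191)) (tt N53790 F400454) (tt N93332 F400444) (tt N110204 (iv6 F470420)) (tt N91701 (iv7 F411219)))
theorem Q85254 : ∀ i, i < 85254 → P i := stepQ 85253 Q85253 (allL N85253 (tt N50393 (iv1 D187993)) (tt N58247 F372045) (tt N91701 (iv2 F411221)) (tt N101773 (iv3 F434277)) (tt N53791 F372227) (tt N108210 (iv5 F461510)) (tt N101771 (iv6 F434274)) (tt N91700 F411220))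
theorem Q85255 : ∀ i, i < 85255 → P i := stepQ 85254 Q85254 (allL N85254 (tt N91701 (iv1 F394091)) (tt N91700 F394089) (tt N58247 F372046) (tt N110025 (iv3 F469608)) (tt N53826 F372047) (tt N110024 (iv5 F469605)) (tt N58239 F372048) (tt N50393 (iv7 D187994)))
theorem Q85256 : ∀ i, i < 85256 → P i := stepQ 85255 Q85255 (allL N85255 (tt N114282 (iv1 F489382)) (tt N50394 (iv0 D187995)) (tt N114299 (iv2 F489472)) (tt N114560 D217817) (tt N114302 (iv4 F489485)) (tt N114561 D217818) (tt N114562 D217819) (tt N114300 (iv7 F489474)))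
theorem Q85257 : ∀ i, i < 85257 → P i := stepQ 85256 Q85256 (allL N85256 (tt N50394 (iv1 D187996)) (tt N114282 F489381) (tt N114300 F489477) (tt N111023 (iv3 F474303)) (tt N114303 (iv4 F489493)) (tt N111022 (iv5 F474301)) (tt N114563 D217820) (tt N114299 F489471))
theorem Q85258 : ∀ i, i < 85258 → P i := stepQ 85257 Q85257 (allL N85257 (tt N114564 D217821) (tt N96627 (iv0 F413238)) (tt N57927 F372050) (tt N58272 F372051) (tt N110595 (iv4 F472302)) (tt N50394 (iv5 D187997)) (tt N57926 F372052) (tt N111980 (iv7 F478953)))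
theorem Q85259 : ∀ i, i < 85259 → P i := stepQ 85258 Q85258 (allL N85258 (tt N84883 (iv1 F421122)) (tt N84890 F421123) (tt N100217 (iv2 F428035)) (tt N50395 (iv3 D187999)) (tt N113074 (iv4 F483858)) (tt N114565 D217822) (tt N114566 D217823) (tt N98494 F421121))
theorem Q85260 : ∀ i, i < 85260 → P i := stepQ 85259 Q85259 (allL N85259 (tt N109887 F469082) (tt N85276 F376982) (tt N82405 F376979) (tt N85510 (iv3 F376980)) (tt N50395 (iv4 D188000)) (tt N82404 (iv5 F376981)) (tt N114567 D217824) (tt N111034 (iv7 F474355)))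
theorem Q85261 : ∀ i, i < 85261 → P i := stepQ 85260 Q85260 (allL N85260 (tt N86306 F376962) (tt N86086 (iv0 F375075)) (tt N113878 F487585) (tt N114565 (iv3 F490796)) (tt N114568 D217825) (tt N50395 (iv5 D188001)) (tt N114569 D217826) (tt N113879 (iv7 F487589)))
theorem Q85262 : ∀ i, i < 85262 → P i := stepQ 85261 Q85261 (allL N85261 (tt N105924 (iv1 F452370)) (tt N114474 (iv0 F490369)) (tt N114301 (iv2 F489478)) (tt N114566 (iv3 F490800)) (tt N114567 (iv4 F490803)) (tt N85036 F372054) (tt N50395 (iv6 D188002)) (tt N114543 (iv7 F490697)))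
theorem Q85263 : ∀ i, i < 85263 → P i := stepQ 85262 Q85262 (allL N85262 (tt N86086 (iv1 F376998)) (tt N86306 (iv0 F376969)) (tt N113879 (iv2 F487592)) (tt N111004 (iv3 F474194)) (tt N114570 D217827) (tt N50396 (iv5 D188006)) (tt N86070 (iv6 F375051)) (tt N113878 F487587))
theorem Q85264 : ∀ i, i < 85264 → P i := stepQ 85263 Q85263 (allL N85263 (tt N113906 (iv1 F487719)) (tt N113907 (iv0 F487724)) (tt N98492 (iv2 F421107)) (tt N100780 (iv3 F430437)) (tt N107846 (iv4 F459972)) (tt N54462 F372056) (tt N50396 (iv6 D188007)) (tt N84250 (iv7 F372057)))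
theorem Q85265 : ∀ i, i < 85265 → P i := stepQ 85264 Q85264 (allL N85264 (tt N53263 F372062) (tt N53260 (iv0 F372063)) (tt N83112 F372058) (tt N50397 (iv3 D188008)) (tt N53716 F372059) (tt N54422 (iv5 F372064)) (tt N53905 F372060) (tt N53852 F372061))
theorem Q85266 : ∀ i, i < 85266 → P i := stepQ 85265 Q85265 (allL N85265 (tt N55036 F372074) (tt N54925 F372075) (tt N55011 F372070) (tt N54422 F372071) (tt N90014 (iv4 F388297)) (tt N50397 (iv5 D188009)) (tt N54417 F372072) (tt N54573 F372073))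
theorem Q85267 : ∀ i, i < 85267 → P i := stepQ 85266 Q85266 (allL N85266 (tt N55015 F372080) (tt N55014 F372085) (tt N50399 F372077) (tt N54996 F372078) (tt N70235 (iv4 F372082)) (tt N50398 (iv5 D188010)) (tt N70233 F372081) (tt N55012 F372079))
theorem Q85268 : ∀ i, i < 85268 → P i := stepQ 85267 Q85267 (allL N85267 (tt N55012 (iv1 F372087)) (tt N50399 (iv0 D188011)) (tt N55015 (iv2 F372088)) (tt N106283 (iv3 F453891)) (tt N77512 F372089) (tt N84595 F372086) (tt N114571 D217828) (tt N55014 (iv7 F372090)))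
theorem Q85269 : ∀ i, i < 85269 → P i := stepQ 85268 Q85268 (allL N85268 (tt N50399 (iv1 D188012)) (tt N55012 F372093) (tt N55014 (iv2 F372098)) (tt N63195 (iv3 F372095)) (tt N75519 F372097) (tt N84641 (iv5 F372096)) (tt N96790 (iv6 F413959)) (tt N55015 F372094))
theorem Q85270 : ∀ i, i < 85270 → P i := stepQ 85269 Q85269 (allL N85269 (tt N114572 D217829) (tt N72301 (iv0 F375089)) (tt N70235 F372099) (tt N89601 F386917) (tt N50399 (iv4 D188013)) (tt N114573 D217830) (tt N70231 (iv6 F372101)) (tt N55016 F372100))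
theorem Q85271 : ∀ i, i < 85271 → P i := stepQ 85270 Q85270 (allL N85270 (tt N97333 (iv1 F416388)) (tt N74177 (iv0 F372106)) (tt N70233 F372102) (tt N50401 F372103) (tt N70231 F372104) (tt N52084 F372105) (tt N50399 (iv6 D188014)) (tt N70228 (iv7 F372107)))
theorem Q85272 : ∀ i, i < 85272 → P i := stepQ 85271 Q85271 (allL N85271 (tt N77522 F372110) (tt N77526 F372111) (tt N103184 (iv2 F440465)) (tt N50400 (iv3 D188015)) (tt N89601 F386918) (tt N86376 (iv5 F376001)) (tt N57790 F372108) (tt N55021 F372109))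
theorem Q85273 : ∀ i, i < 85273 → P i := stepQ 85272 Q85272 (allL N85272 (tt N55010 (iv1 F372116)) (tt N50401 (iv0 D188016)) (tt N55008 (iv2 F372113)) (tt N59115 (iv3 F372115)) (tt N57387 F372112) (tt N87483 F379498) (tt N66447 F372118) (tt N55009 F372114))
theorem Q85274 : ∀ i, i < 85274 → P i := stepQ 85273 Q85273 (allL N85273 (tt N55009 (iv1 F372126)) (tt N55008 F372127) (tt N55010 F372121) (tt N70228 F372122) (tt N65332 F372123) (tt N52089 F372124) (tt N55026 F372125) (tt N50401 (iv7 D188017)))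
theorem Q85275 : ∀ i, i < 85275 → P i := stepQ 85274 Q85274 (allL N85274 (tt N85933 (iv1 F374495)) (tt N78809 F372134) (tt N50405 F372130) (tt N76708 F372131) (tt N63766 F372132) (tt N50404 (iv5 D188018)) (tt N113125 (iv6 F484089)) (tt N76702 F372133))
theorem Q85276 : ∀ i, i < 85276 → P i := stepQ 85275 Q85275 (allL N85275 (tt N84899 F372142) (tt N113126 F484100) (tt N113125 F484090) (tt N50407 F372135) (tt N74520 F372136) (tt N85922 F374806) (tt N50405 (iv6 D188019)) (tt N111190 (iv7 F475159)))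
theorem Q85277 : ∀ i, i < 85277 → P i := stepQ 85276 Q85276 (allL N85276 (tt N85259 (iv1 F376982)) (tt N78451 (iv0 F376970)) (tt N80580 F372137) (tt N66809 F372138) (tt N50407 F372139) (tt N78424 F372140) (tt N50406 (iv6 D188020)) (tt N80577 (iv7 F372141)))
theorem Q85278 : ∀ i, i < 85278 → P i := stepQ 85277 Q85277 (allL N85277 (tt N76693 (iv1 F372152)) (tt N50407 (iv0 D188021)) (tt N114302 (iv2 F489489)) (tt N105805 (iv3 F451805)) (tt N114299 (iv4 F489466)) (tt N114574 D217831) (tt N105803 F451799) (tt N114303 (iv7 F489492)))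
theorem Q85279 : ∀ i, i < 85279 → P i := stepQ 85278 Q85278 (allL N85278 (tt N50407 (iv1 D188022)) (tt N76693 F372145) (tt N114303 (iv2 F489496)) (tt N78855 F372147) (tt N114300 F489475) (tt N114575 D217832) (tt N78852 (iv6 F372146)) (tt N114302 (iv7 F489490)))
theorem Q85280 : ∀ i, i < 85280 → P i := stepQ 85279 Q85279 (allL N85279 (tt N114303 (iv1 F489491)) (tt N114302 F489487) (tt N76693 F372148) (tt N111190 (iv3 F475156)) (tt N80577 F372149) (tt N61163 F372150) (tt N61662 F372151) (tt N50407 (iv7 D188023)))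
theorem Q85281 : ∀ i, i < 85281 → P i := stepQ 85280 Q85280 (allL N85280 (tt N54912 F372157) (tt N54910 (iv0 F372158)) (tt N74205 F372153) (tt N50408 (iv3 D188024)) (tt N74205 F372154) (tt N74204 (iv5 F372159)) (tt N74205 F372155) (tt N52192 F372156))
theorem Q85282 : ∀ i, i < 85282 → P i := stepQ 85281 Q85281 (allL N85281 (tt N52116 F372164) (tt N53924 (iv0 F372165)) (tt N55272 F372160) (tt N74204 F372161) (tt N99332 (iv4 F424135)) (tt N50408 (iv5 D188025)) (tt N74208 F372162) (tt N52193 F372163))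
theorem Q85283 : ∀ i, i < 85283 → P i := stepQ 85282 Q85282 (allL N85282 (tt N51025 F372167) (tt N78773 F372166) (tt N98631 F421657) (tt N90103 (iv3 F388568)) (tt N50409 (iv4 D188026)) (tt N90102 (iv5 F388567)) (tt N114576 D217833) (tt N85939 (iv7 F374522)))
theorem Q85284 : ∀ i, i < 85284 → P i := stepQ 85283 Q85283 (allL N85283 (tt N98588 (iv1 F421471)) (tt N78855 (iv0 F372172)) (tt N83560 F372168) (tt N61211 F372169) (tt N114576 (iv4 F490840)) (tt N61211 F372170) (tt N50409 (iv6 D188027)) (tt N61206 F372171))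
theorem Q85285 : ∀ i, i < 85285 → P i := stepQ 85284 Q85284 (allL N85284 (tt N86096 (iv1 F375113)) (tt N86094 (iv0 F375104)) (tt N50414 F372173) (tt N98056 F419299) (tt N50410 (iv4 D188028)) (tt N114577 D217834) (tt N104442 F445792) (tt N98617 F421600))
theorem Q85286 : ∀ i, i < 85286 → P i := stepQ 85285 Q85285 (allL N85285 (tt N87506 F379602) (tt N92999 (iv0 F399072)) (tt N50415 F372174) (tt N92972 (iv3 F398972)) (tt N104442 (iv4 F445787)) (tt N68737 F372182) (tt N50410 (iv6 D188029)) (tt N92831 (iv7 F398414)))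
theorem Q85287 : ∀ i, i < 85287 → P i := stepQ 85286 Q85286 (allL N85286 (tt N50726 F372178) (tt N51401 (iv0 F372179)) (tt N50417 F372175) (tt N84705 F372176) (tt N68738 F372180) (tt N50411 (iv5 D188030)) (tt N68737 (iv6 F372181)) (tt N78931 F372177))
theorem Q85288 : ∀ i, i < 85288 → P i := stepQ 85287 Q85287 (allL N85287 (tt N51005 F372183) (tt N61635 (iv0 F372184)) (tt N111168 F475053) (tt N90111 F388580) (tt N50412 (iv4 D188031)) (tt N98665 (iv5 F421792)) (tt N98206 (iv6 F419987)) (tt N111167 F475047))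
theorem Q85289 : ∀ i, i < 85289 → P i := stepQ 85288 Q85288 (allL N85288 (tt N84782 (iv1 F374209)) (tt N84785 (iv0 F372186)) (tt N86186 (iv2 F375313)) (tt N50413 (iv3 D188032)) (tt N114578 D217835) (tt N86889 (iv5 F377594)) (tt N111222 (iv6 F475287)) (tt N114310 (iv7 F489530)))
theorem Q85290 : ∀ i, i < 85290 → P i := stepQ 85289 Q85289 (allL N85289 (tt N61635 F372185) (tt N51005 (iv0 F373238)) (tt N111167 (iv2 F475048)) (tt N103723 F442585) (tt N50413 (iv4 D188033)) (tt N98666 (iv5 F421793)) (tt N111170 F475064) (tt N111168 (iv7 F475050)))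
theorem Q85291 : ∀ i, i < 85291 → P i := stepQ 85290 Q85290 (allL N85290 (tt N98617 F421601) (tt N50414 (iv0 D188035)) (tt N86096 (iv2 F375110)) (tt N90033 (iv3 F388356)) (tt N85862 F374251) (tt N114579 D217836) (tt N109168 F465658) (tt N86094 (iv7 F375103)))
theorem Q85292 : ∀ i, i < 85292 → P i := stepQ 85291 Q85291 (allL N85291 (tt N50414 (iv1 D188036)) (tt N98617 F421602) (tt N86094 (iv2 F375101)) (tt N109175 (iv3 F465675)) (tt N85863 (iv4 F374259)) (tt N114580 D217837) (tt N98675 (iv6 F421812)) (tt N86096 (iv7 F375111)))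
theorem Q85293 : ∀ i, i < 85293 → P i := stepQ 85292 Q85292 (allL N85292 (tt N103742 F442643) (tt N114422 F490080) (tt N98682 (iv2 F421837)) (tt N50414 (iv3 D188037)) (tt N50424 F372187) (tt N114581 D217838) (tt N114582 D217839) (tt N114311 (iv7 F489536)))
theorem Q85294 : ∀ i, i < 85294 → P i := stepQ 85293 Q85293 (allL N85293 (tt N114583 D217840) (tt N114442 (iv0 F490191)) (tt N114577 (iv2 F490843)) (tt N114581 (iv3 F490861)) (tt N96390 (iv4 F412359)) (tt N50414 (iv5 D188038)) (tt N96389 F412360) (tt N114312 (iv7 F489540)))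
theorem Q85295 : ∀ i, i < 85295 → P i := stepQ 85294 Q85294 (allL N85294 (tt N55844 F372190) (tt N104441 (iv0 F445784)) (tt N104442 F445789) (tt N114582 (iv3 F490863)) (tt N50415 F372188) (tt N67671 (iv5 F372198)) (tt N50414 (iv6 D188039)) (tt N98620 (iv7 F421617)))
theorem Q85296 : ∀ i, i < 85296 → P i := stepQ 85295 Q85295 (allL N85295 (tt N92831 F398416) (tt N50415 (iv0 D188040)) (tt N87506 (iv2 F379597)) (tt N86189 F375326) (tt N114584 D217841) (tt N56656 F372189) (tt N92859 (iv6 F398545)) (tt N92999 (iv7 F399071)))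
theorem Q85297 : ∀ i, i < 85297 → P i := stepQ 85296 Q85296 (allL N85296 (tt N50415 (iv1 D188041)) (tt N92831 (iv0 F398415)) (tt N92999 (iv2 F399070)) (tt N82634 (iv3 F372191)) (tt N103719 (iv4 F442571)) (tt N56655 F372192) (tt N82643 F372193) (tt N87506 (iv7 F379600)))
theorem Q85298 : ∀ i, i < 85298 → P i := stepQ 85297 Q85297 (allL N85297 (tt N110979 (iv1 F474053)) (tt N92975 F398990) (tt N68737 F372194) (tt N50428 F372195) (tt N68733 (iv4 F372199)) (tt N50415 (iv5 D188042)) (tt N50417 F372196) (tt N78927 F372197))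
theorem Q85299 : ∀ i, i < 85299 → P i := stepQ 85298 Q85298 (allL N85298 (tt N50417 (iv1 D188043)) (tt N78931 F372200) (tt N51401 F372204) (tt N83597 (iv3 F372203)) (tt N83604 F372205) (tt N50727 F372202) (tt N83596 F372206) (tt N50726 F372201))
theorem Q85300 : ∀ i, i < 85300 → P i := stepQ 85299 Q85299 (allL N85299 (tt N68711 F372209) (tt N68825 F372211) (tt N68738 F372207) (tt N97705 F417988) (tt N50417 (iv4 D188044)) (tt N83779 F372210) (tt N68733 F372208) (tt N86708 (iv7 F376865)))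
theorem Q85301 : ∀ i, i < 85301 → P i := stepQ 85300 Q85300 (allL N85300 (tt N94824 (iv1 F406066)) (tt N58163 (iv0 F372216)) (tt N85151 F372212) (tt N61236 F372213) (tt N50420 F372214) (tt N58142 F372215) (tt N50419 (iv6 D188045)) (tt N94825 F406070))
theorem Q85302 : ∀ i, i < 85302 → P i := stepQ 85301 Q85301 (allL N85301 (tt N89862 (iv1 F387776)) (tt N50420 (iv0 D188046)) (tt N89860 F387764) (tt N100319 F428414) (tt N107742 (iv4 F459502)) (tt N74943 F387476) (tt N114585 D217842) (tt N89861 (iv7 F387768)))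
theorem Q85303 : ∀ i, i < 85303 → P i := stepQ 85302 Q85302 (allL N85302 (tt N50420 (iv1 D188047)) (tt N89862 F387775) (tt N89861 F387770) (tt N98205 F419985) (tt N112842 (iv4 F482908)) (tt N74944 F372217) (tt N104958 (iv6 F448139)) (tt N89860 F387765))
theorem Q85304 : ∀ i, i < 85304 → P i := stepQ 85303 Q85303 (allL N85303 (tt N89861 (iv1 F387767)) (tt N89860 F387766) (tt N89862 (iv2 F387771)) (tt N62821 F372218) (tt N94825 (iv4 F406069)) (tt N63015 F372219) (tt N89866 (iv6 F387794)) (tt N50420 (iv7 D188048)))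
theorem Q85305 : ∀ i, i < 85305 → P i := stepQ 85304 Q85304 (allL N85304 (tt N97794 F418331) (tt N97814 F418397) (tt N86213 (iv2 F375393)) (tt N50423 F372220) (tt N53786 F372221) (tt N75098 F372222) (tt N50421 (iv6 D188049)) (tt N97813 (iv7 F418393)))
theorem Q85306 : ∀ i, i < 85306 → P i := stepQ 85305 Q85305 (allL N85305 (tt N85100 F372226) (tt N114586 D217843) (tt N85152 F372223) (tt N53789 F372224) (tt N50423 F372225) (tt N110938 (iv5 F473878)) (tt N50422 (iv6 D188050)) (tt N114587 D217844))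
theorem Q85307 : ∀ i, i < 85307 → P i := stepQ 85306 Q85306 (allL N85306 (tt N50423 (iv1 D188051)) (tt N89866 F387795) (tt N89865 F387790) (tt N70447 F374723) (tt N110187 (iv4 F470326)) (tt N70446 (iv5 F374722)) (tt N113692 (iv6 F486666)) (tt N89864 (iv7 F387787)))
theorem Q85308 : ∀ i, i < 85308 → P i := stepQ 85307 Q85307 (allL N85307 (tt N89865 (iv1 F387788)) (tt N89864 (iv0 F387786)) (tt N89866 (iv2 F387792)) (tt N97813 F418394) (tt N114587 (iv4 F490888)) (tt N85982 (iv5 F374739)) (tt N89862 (iv6 F387774)) (tt N50423 (iv7 D188052)))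
theorem Q85309 : ∀ i, i < 85309 → P i := stepQ 85308 Q85308 (allL N85308 (tt N98223 (iv1 F420050)) (tt N50424 (iv0 D188053)) (tt N66798 (iv2 F372228)) (tt N98229 (iv3 F420066)) (tt N111224 (iv4 F475300)) (tt N89829 (iv5 F387672)) (tt N102835 F438868) (tt N89827 F387666))
theorem Q85310 : ∀ i, i < 85310 → P i := stepQ 85309 Q85309 (allL N85309 (tt N66798 (iv1 F387669)) (tt N89827 F387668) (tt N50424 (iv2 D188054)) (tt N110190 (iv3 F470351)) (tt N98682 (iv4 F421838)) (tt N98228 F439804) (tt N114588 D217845) (tt N98223 (iv7 F420051)))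
theorem Q85311 : ∀ i, i < 85311 → P i := stepQ 85310 Q85310 (allL N85310 (tt N105606 F450956) (tt N114589 D217846) (tt N114588 (iv2 F490892)) (tt N50425 F372229) (tt N114582 (iv4 F490864)) (tt N114590 D217847) (tt N50424 (iv6 D188055)) (tt N114591 D217848))
theorem Q85312 : ∀ i, i < 85312 → P i := stepQ 85311 Q85311 (allL N85311 (tt N64509 F468085) (tt N114592 D217849) (tt N114306 (iv2 F489506)) (tt N114590 (iv3 F490901)) (tt N86039 F376996) (tt N50425 (iv5 D188057)) (tt N86082 (iv6 F376995)) (tt N114593 D217850))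
theorem Q85313 : ∀ i, i < 85313 → P i := stepQ 85312 Q85312 (allL N85312 (tt N80531 (iv1 F377006)) (tt N114285 (iv0 F489398)) (tt N110258 F470679) (tt N114591 (iv3 F490910)) (tt N50429 F372230) (tt N114593 (iv5 F490922)) (tt N111217 (iv6 F475264)) (tt N50425 (iv7 D188058)))
theorem Q85314 : ∀ i, i < 85314 → P i := stepQ 85313 Q85313 (allL N85313 (tt N109680 F468074) (tt N109716 (iv0 F468258)) (tt N114594 D217851) (tt N50426 (iv3 D188060)) (tt N109713 (iv4 F468237)) (tt N104208 (iv5 F444701)) (tt N109681 (iv6 F468076)) (tt N114308 (iv7 F489519)))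
theorem Q85315 : ∀ i, i < 85315 → P i := stepQ 85314 Q85314 (allL N85314 (tt N85162 (iv1 F387431)) (tt N84805 F387430) (tt N85159 F376853) (tt N114595 D217852) (tt N50426 (iv4 D188061)) (tt N51030 F376854) (tt N113697 (iv6 F486687)) (tt N85160 F376855))
theorem Q85316 : ∀ i, i < 85316 → P i := stepQ 85315 Q85315 (allL N85315 (tt N86789 (iv1 F377210)) (tt N92998 F399068) (tt N92997 F399064) (tt N104208 F444699) (tt N114596 D217853) (tt N50426 (iv5 D188062)) (tt N113699 (iv6 F486696)) (tt N86701 F376845))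
theorem Q85317 : ∀ i, i < 85317 → P i := stepQ 85316 Q85316 (allL N85316 (tt N85898 F432923) (tt N109884 F469073) (tt N114597 D217854) (tt N50427 (iv3 D188064)) (tt N106354 (iv4 F454115)) (tt N97191 (iv5 F432924)) (tt N114598 D217855) (tt N114307 (iv7 F489516)))
theorem Q85318 : ∀ i, i < 85318 → P i := stepQ 85317 Q85317 (allL N85317 (tt N84805 (iv1 F387428)) (tt N85162 F387429) (tt N85160 F376857) (tt N90716 F390621) (tt N50427 (iv4 D188065)) (tt N114599 D217856) (tt N80584 (iv6 F431915)) (tt N85159 (iv7 F376856)))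
theorem Q85319 : ∀ i, i < 85319 → P i := stepQ 85318 Q85318 (allL N85318 (tt N92998 (iv1 F399069)) (tt N86789 (iv0 F377209)) (tt N86701 (iv2 F376842)) (tt N97191 F432925) (tt N114600 D217857) (tt N50427 (iv5 D188066)) (tt N86456 (iv6 F376269)) (tt N92997 (iv7 F399062)))
theorem Q85320 : ∀ i, i < 85320 → P i := stepQ 85319 Q85319 (allL N85319 (tt N114601 D217858) (tt N114585 (iv0 F490878)) (tt N114309 (iv2 F489523)) (tt N114598 (iv3 F490942)) (tt N80584 F431916) (tt N114602 D217859) (tt N50427 (iv6 D188067)) (tt N113694 (iv7 F486676)))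
theorem Q85321 : ∀ i, i < 85321 → P i := stepQ 85320 Q85320 (allL N85320 (tt N86726 (iv1 F376921)) (tt N50428 (iv0 D188068)) (tt N86724 F447501) (tt N86538 (iv3 F376912)) (tt N86558 (iv4 F376913)) (tt N109379 (iv5 F466663)) (tt N86536 F376911) (tt N86725 F447499))
theorem Q85322 : ∀ i, i < 85322 → P i := stepQ 85321 Q85321 (allL N85321 (tt N50428 (iv1 D188069)) (tt N86726 F376920) (tt N86725 (iv2 F447498)) (tt N104838 (iv3 F447538)) (tt N86612 F387427) (tt N111184 F475127) (tt N104828 F447497) (tt N86724 (iv7 F447500)))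
theorem Q85323 : ∀ i, i < 85323 → P i := stepQ 85322 Q85322 (allL N85322 (tt N114515 (iv1 F490543)) (tt N114516 (iv0 F490549)) (tt N51384 F372233) (tt N114603 D217860) (tt N50428 (iv4 D188070)) (tt N114604 D217861) (tt N50430 F372234) (tt N114605 D217862))
theorem Q85324 : ∀ i, i < 85324 → P i := stepQ 85323 Q85323 (allL N85323 (tt N86725 (iv1 F376914)) (tt N86724 F376919) (tt N86726 (iv2 F376915)) (tt N78927 F372235) (tt N114605 (iv4 F490981)) (tt N50429 F372236) (tt N78924 F372237) (tt N50428 (iv7 D188071)))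
theorem Q85325 : ∀ i, i < 85325 → P i := stepQ 85324 Q85324 (allL N85324 (tt N114606 D217863) (tt N114607 D217864) (tt N114608 D217865) (tt N50430 (iv3 D188072)) (tt N97705 (iv4 F417992)) (tt N86454 (iv5 F376265)) (tt N114603 (iv6 F490969)) (tt N51381 F372238))
theorem Q85326 : ∀ i, i < 85326 → P i := stepQ 85325 Q85325 (allL N85325 (tt N52984 (iv1 F372240)) (tt N50432 (iv0 D188073)) (tt N52990 (iv2 F372243)) (tt N88790 (iv3 F384157)) (tt N86821 (iv4 F377302)) (tt N53784 F372242) (tt N53154 F372239) (tt N52989 F372241))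
theorem Q85327 : ∀ i, i < 85327 → P i := stepQ 85326 Q85326 (allL N85326 (tt N52990 (iv1 F372250)) (tt N52989 F372249) (tt N50432 (iv2 D188074)) (tt N82735 F372245) (tt N84412 F372246) (tt N76705 F372247) (tt N105320 (iv6 F449699)) (tt N52984 F372248))
theorem Q85328 : ∀ i, i < 85328 → P i := stepQ 85327 Q85327 (allL N85327 (tt N88789 (iv1 F384156)) (tt N88790 (iv0 F384159)) (tt N91669 (iv2 F393963)) (tt N50434 (iv3 D188075)) (tt N91669 (iv4 F393964)) (tt N72595 F372251) (tt N52911 F372252) (tt N107493 (iv7 F458517)))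
theorem Q85329 : ∀ i, i < 85329 → P i := stepQ 85328 Q85328 (allL N85328 (tt N53204 F372255) (tt N53202 F372256) (tt N50436 F372253) (tt N53718 F372254) (tt N94807 (iv4 F406030)) (tt N50435 (iv5 D188076)) (tt N73275 F372257) (tt N89382 (iv7 F386301)))
theorem Q85330 : ∀ i, i < 85330 → P i := stepQ 85329 Q85329 (allL N85329 (tt N94607 (iv1 F405174)) (tt N94605 (iv0 F405162)) (tt N94807 (iv2 F406029)) (tt N110482 F471787) (tt N50436 (iv4 D188077)) (tt N72607 F372262) (tt N96432 F412493) (tt N94666 (iv7 F405444)))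
theorem Q85331 : ∀ i, i < 85331 → P i := stepQ 85330 Q85330 (allL N85330 (tt N114069 (iv1 F488433)) (tt N50437 (iv0 D188078)) (tt N107309 (iv2 F457905)) (tt N109883 (iv3 F469066)) (tt N114609 D217866) (tt N114610 D217867) (tt N73218 F372263) (tt N109876 (iv7 F469042)))
theorem Q85332 : ∀ i, i < 85332 → P i := stepQ 85331 Q85331 (allL N85331 (tt N50437 (iv1 D188079)) (tt N114069 F488432) (tt N109876 (iv2 F469040)) (tt N106393 (iv3 F454269)) (tt N114611 D217868) (tt N114612 D217869) (tt N109874 F469033) (tt N107309 F457907))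
theorem Q85333 : ∀ i, i < 85333 → P i := stepQ 85332 Q85332 (allL N85332 (tt N109876 F469044) (tt N107309 (iv0 F457924)) (tt N114069 (iv2 F488428)) (tt N73274 F372264) (tt N108096 (iv4 F461092)) (tt N113617 (iv5 F486323)) (tt N105988 (iv6 F452641)) (tt N50437 (iv7 D188080)))
theorem Q85334 : ∀ i, i < 85334 → P i := stepQ 85333 Q85333 (allL N85333 (tt N53196 F372268) (tt N53624 F372269) (tt N53591 F372265) (tt N83196 F372266) (tt N114613 D217870) (tt N50438 (iv5 D188081)) (tt N107292 (iv6 F457835)) (tt N53485 F372267))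
theorem Q85335 : ∀ i, i < 85335 → P i := stepQ 85334 Q85334 (allL N85334 (tt N53594 (iv1 F372275)) (tt N53593 F372274) (tt N50440 F372271) (tt N53608 F372272) (tt N110626 (iv4 F472480)) (tt N50439 (iv5 D188082)) (tt N114614 D217871) (tt N53592 F372273))
theorem Q85336 : ∀ i, i < 85336 → P i := stepQ 85335 Q85335 (allL N85335 (tt N53592 (iv1 F372276)) (tt N50440 (iv0 D188083)) (tt N53594 (iv2 F372282)) (tt N108014 F460735) (tt N100462 (iv4 F429070)) (tt N86229 (iv5 F375470)) (tt N114615 D217872) (tt N53593 F372283))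
theorem Q85337 : ∀ i, i < 85337 → P i := stepQ 85336 Q85336 (allL N85336 (tt N50440 (iv1 D188084)) (tt N53592 F372277) (tt N53593 (iv2 F372279)) (tt N83199 (iv3 F372286)) (tt N78207 F372284) (tt N52863 F372278) (tt N78206 (iv6 F372280)) (tt N53594 (iv7 F372281)))
theorem Q85338 : ∀ i, i < 85338 → P i := stepQ 85337 Q85337 (allL N85337 (tt N110627 (iv1 F472490)) (tt N77999 F372288) (tt N110626 F472482) (tt N110036 (iv3 F469659)) (tt N50440 (iv4 D188085)) (tt N114616 D217873) (tt N114617 D217874) (tt N53595 F372287))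
theorem Q85339 : ∀ i, i < 85339 → P i := stepQ 85338 Q85338 (allL N85338 (tt N114618 D217875) (tt N114619 D217876) (tt N114614 (iv2 F491023)) (tt N50443 F372289) (tt N114617 (iv4 F491036)) (tt N114044 (iv5 F488332)) (tt N50440 (iv6 D188086)) (tt N114620 D217877))
theorem Q85340 : ∀ i, i < 85340 → P i := stepQ 85339 Q85339 (allL N85339 (tt N50441 (iv1 D188087)) (tt N84976 F372290) (tt N53492 (iv2 F372292)) (tt N83202 F372294) (tt N86016 (iv4 F374898)) (tt N83903 F372295) (tt N53486 (iv6 F372293)) (tt N84975 F372291))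
theorem Q85341 : ∀ i, i < 85341 → P i := stepQ 85340 Q85340 (allL N85340 (tt N89605 (iv1 F388184)) (tt N89609 (iv0 F388182)) (tt N53618 F372297) (tt N58112 F372298) (tt N50443 F372299) (tt N58111 F372300) (tt N50442 (iv6 D188088)) (tt N107757 (iv7 F459585)))
theorem Q85342 : ∀ i, i < 85342 → P i := stepQ 85341 Q85341 (allL N85341 (tt N53622 (iv1 F372306)) (tt N50443 (iv0 D188089)) (tt N53619 (iv2 F384756)) (tt N77689 F384764) (tt N111828 (iv4 F478181)) (tt N114621 D217878) (tt N90986 F391482) (tt N53620 F384755))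
theorem Q85343 : ∀ i, i < 85343 → P i := stepQ 85342 Q85342 (allL N85342 (tt N50443 (iv1 D188090)) (tt N53622 F372301) (tt N53620 F384753) (tt N64565 F372303) (tt N101872 (iv4 F434767)) (tt N88563 (iv5 F383500)) (tt N53563 (iv6 F372302)) (tt N53619 (iv7 F384754)))
theorem Q85344 : ∀ i, i < 85344 → P i := stepQ 85343 Q85343 (allL N85343 (tt N53620 (iv1 F372307)) (tt N53619 F372308) (tt N53622 F372304) (tt N114620 (iv3 F491040)) (tt N107757 (iv4 F459586)) (tt N114047 (iv5 F488344)) (tt N53604 F372305) (tt N50443 (iv7 D188091)))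
theorem Q85345 : ∀ i, i < 85345 → P i := stepQ 85344 Q85344 (allL N85344 (tt N50444 (iv1 D188092)) (tt N53839 F372313) (tt N85818 F374103) (tt N53834 (iv3 F372309)) (tt N90085 (iv4 F388524)) (tt N86180 (iv5 F375302)) (tt N85786 (iv6 F373933)) (tt N85819 F374102))
theorem Q85346 : ∀ i, i < 85346 → P i := stepQ 85345 Q85345 (allL N85345 (tt N85819 (iv1 F374096)) (tt N85818 F374095) (tt N50444 (iv2 D188093)) (tt N53842 F372310) (tt N50465 F372311) (tt N85351 (iv5 F372324)) (tt N86713 (iv6 F376877)) (tt N53839 F372312))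
theorem Q85347 : ∀ i, i < 85347 → P i := stepQ 85346 Q85346 (allL N85346 (tt N53666 F372317) (tt N53667 F372316) (tt N85351 (iv2 F372323)) (tt N50445 F372314) (tt N114289 (iv4 F489411)) (tt N50444 (iv5 D188094)) (tt N114426 (iv6 F490091)) (tt N51065 F372315))
theorem Q85348 : ∀ i, i < 85348 → P i := stepQ 85347 Q85347 (allL N85347 (tt N104765 F447169) (tt N104764 (iv0 F447162)) (tt N51070 F372318) (tt N114426 (iv3 F490090)) (tt N86076 (iv4 F375057)) (tt N50892 F372319) (tt N50445 (iv6 D188095)) (tt N114468 (iv7 F490337)))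
theorem Q85349 : ∀ i, i < 85349 → P i := stepQ 85348 Q85348 (allL N85348 (tt N114404 (iv1 F489982)) (tt N114403 F489978) (tt N114304 (iv2 F489497)) (tt N114622 D217879) (tt N50446 (iv4 D188096)) (tt N114623 D217880) (tt N114624 D217881) (tt N85934 (iv7 F374503)))
theorem Q85350 : ∀ i, i < 85350 → P i := stepQ 85349 Q85349 (allL N85349 (tt N105805 F451809) (tt N98585 (iv0 F421463)) (tt N114305 (iv2 F489500)) (tt N85896 (iv3 F374348)) (tt N114624 (iv4 F491060)) (tt N76701 F372320) (tt N50446 (iv6 D188097)) (tt N63473 F372321))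
theorem Q85351 : ∀ i, i < 85351 → P i := stepQ 85350 Q85350 (allL N85350 (tt N110982 (iv1 F474071)) (tt N76688 (iv0 F406691)) (tt N50451 F372322) (tt N98685 (iv3 F421845)) (tt N50447 (iv4 D188098)) (tt N114625 D217882) (tt N109803 (iv6 F468697)) (tt N104134 F444359))
theorem Q85352 : ∀ i, i < 85352 → P i := stepQ 85351 Q85351 (allL N85351 (tt N86177 (iv1 F375282)) (tt N86176 (iv0 F375276)) (tt N85346 F372323) (tt N50449 (iv3 D188099)) (tt N85135 F372325) (tt N85345 F372324) (tt N114626 D217883) (tt N86191 (iv7 F375332)))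
theorem Q85353 : ∀ i, i < 85353 → P i := stepQ 85352 Q85352 (allL N85352 (tt N104138 (iv1 F444381)) (tt N110516 F471942) (tt N86198 (iv2 F375347)) (tt N114627 D217884) (tt N50449 (iv4 D188100)) (tt N114628 D217885) (tt N114629 D217886) (tt N89869 (iv7 F387812)))
theorem Q85354 : ∀ i, i < 85354 → P i := stepQ 85353 Q85353 (allL N85353 (tt N70448 F372327) (tt N70447 F372328) (tt N86199 (iv2 F375350)) (tt N114626 (iv3 F491073)) (tt N114629 (iv4 F491088)) (tt N69521 F372326) (tt N50449 (iv6 D188101)) (tt N100323 (iv7 F428423)))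
theorem Q85355 : ∀ i, i < 85355 → P i := stepQ 85354 Q85354 (allL N85354 (tt N110516 F471941) (tt N104138 (iv0 F444380)) (tt N89869 (iv2 F387811)) (tt N58132 F372329) (tt N50450 (iv4 D188102)) (tt N114630 D217887) (tt N58131 F372330) (tt N86198 (iv7 F375348)))
theorem Q85356 : ∀ i, i < 85356 → P i := stepQ 85355 Q85355 (allL N85355 (tt N104134 F444360) (tt N50451 (iv0 D188103)) (tt N110982 F474076) (tt N63396 (iv3 F372332)) (tt N76283 F372331) (tt N114631 D217888) (tt N114632 D217889) (tt N76688 F372333))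
theorem Q85357 : ∀ i, i < 85357 → P i := stepQ 85356 Q85356 (allL N85356 (tt N50451 (iv1 D188104)) (tt N104134 F444361) (tt N76688 (iv2 F444362)) (tt N107947 (iv3 F460422)) (tt N98318 (iv4 F420479)) (tt N114633 D217890) (tt N98317 (iv6 F420477)) (tt N110982 (iv7 F474072)))
theorem Q85358 : ∀ i, i < 85358 → P i := stepQ 85357 Q85357 (allL N85357 (tt N83452 F372335) (tt N114634 D217891) (tt N113253 (iv2 F484716)) (tt N50451 (iv3 D188105)) (tt N50456 F372334) (tt N83493 F393083) (tt N91427 F393082) (tt N101764 (iv7 F434245)))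
theorem Q85359 : ∀ i, i < 85359 → P i := stepQ 85358 Q85358 (allL N85358 (tt N83536 F372345) (tt N114635 D217892) (tt N114625 (iv2 F491064)) (tt N83493 (iv3 F393084)) (tt N114636 D217893) (tt N50451 (iv5 D188106)) (tt N114637 D217894) (tt N110399 F471404))
theorem Q85360 : ∀ i, i < 85360 → P i := stepQ 85359 Q85359 (allL N85359 (tt N75037 (iv1 F372338)) (tt N75639 (iv0 F372343)) (tt N109803 F468693) (tt N91427 F393077) (tt N50452 F372336) (tt N77648 (iv5 F372337)) (tt N50451 (iv6 D188107)) (tt N94126 (iv7 F403336)))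
theorem Q85361 : ∀ i, i < 85361 → P i := stepQ 85360 Q85360 (allL N85360 (tt N98151 (iv1 F419724)) (tt N98142 (iv0 F419673)) (tt N98149 F419710) (tt N50460 F372339) (tt N76548 F372342) (tt N50452 (iv5 D188109)) (tt N50454 F372340) (tt N79900 F372341))
theorem Q85362 : ∀ i, i < 85362 → P i := stepQ 85361 Q85361 (allL N85361 (tt N109291 F466225) (tt N109851 F468912) (tt N109849 (iv2 F468901)) (tt N109263 F466060) (tt N50454 (iv4 D188110)) (tt N109907 (iv5 F469162)) (tt N76548 F372346) (tt N109264 (iv7 F466067)))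
theorem Q85363 : ∀ i, i < 85363 → P i := stepQ 85362 Q85362 (allL N85362 (tt N113900 (iv1 F487695)) (tt N91435 (iv0 F393117)) (tt N114314 (iv2 F489545)) (tt N108148 (iv3 F461307)) (tt N87368 (iv4 F379141)) (tt N50457 (iv5 D188114)) (tt N114559 (iv6 F490773)) (tt N114638 D217895))
theorem Q85364 : ∀ i, i < 85364 → P i := stepQ 85363 Q85363 (allL N85363 (tt N98309 (iv1 F420449)) (tt N87273 F420450) (tt N111217 (iv2 F475263)) (tt N85659 F373426) (tt N50461 F372348) (tt N114638 (iv5 F491136)) (tt N110258 (iv6 F470675)) (tt N50457 (iv7 D188115)))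
theorem Q85365 : ∀ i, i < 85365 → P i := stepQ 85364 Q85364 (allL N85364 (tt N85187 F372351) (tt N84816 F372350) (tt N85184 F372349) (tt N114609 (iv3 F491002)) (tt N50458 (iv4 D188116)) (tt N114639 D217896) (tt N56777 F372352) (tt N85185 (iv7 F372353)))
theorem Q85366 : ∀ i, i < 85366 → P i := stepQ 85365 Q85365 (allL N85365 (tt N104958 (iv1 F448142)) (tt N108140 (iv0 F461279)) (tt N107761 (iv2 F459608)) (tt N99105 (iv3 F423354)) (tt N56777 F372357) (tt N97859 (iv5 F418547)) (tt N50458 (iv6 D188117)) (tt N97858 F418543))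
theorem Q85367 : ∀ i, i < 85367 → P i := stepQ 85366 Q85366 (allL N85366 (tt N84816 F372361) (tt N85187 F372362) (tt N85185 F372358) (tt N96064 (iv3 F410874)) (tt N50459 (iv4 D188118)) (tt N114640 D217897) (tt N85088 F372359) (tt N85184 F372360))
theorem Q85368 : ∀ i, i < 85368 → P i := stepQ 85367 Q85367 (allL N85367 (tt N78925 F372366) (tt N50460 (iv0 D188119)) (tt N84186 (iv2 F372368)) (tt N74468 F372364) (tt N83862 F372363) (tt N98556 (iv5 F421322)) (tt N79918 F372365) (tt N74462 (iv7 F372367)))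
theorem Q85369 : ∀ i, i < 85369 → P i := stepQ 85368 Q85368 (allL N85368 (tt N50460 (iv1 D188120)) (tt N78925 F372370) (tt N74462 (iv2 F372373)) (tt N109665 (iv3 F468002)) (tt N83861 F372372) (tt N98555 (iv5 F421316)) (tt N74460 (iv6 F372374)) (tt N84186 F372371))
theorem Q85370 : ∀ i, i < 85370 → P i := stepQ 85369 Q85369 (allL N85369 (tt N84470 (iv1 F372379)) (tt N84397 (iv0 F372378)) (tt N87253 (iv2 F378886)) (tt N84337 F372375) (tt N50460 (iv4 D188121)) (tt N83955 F372377) (tt N50462 F372376) (tt N87255 (iv7 F378905)))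
theorem Q85371 : ∀ i, i < 85371 → P i := stepQ 85370 Q85370 (allL N85370 (tt N74462 (iv1 F372384)) (tt N84186 F372385) (tt N78925 F372380) (tt N79900 F372381) (tt N87255 (iv4 F378907)) (tt N50461 F372382) (tt N61027 F372383) (tt N50460 (iv7 D188122)))
theorem Q85372 : ∀ i, i < 85372 → P i := stepQ 85371 Q85371 (allL N85371 (tt N84365 F372388) (tt N97091 F415449) (tt N88523 (iv2 F383391)) (tt N50462 (iv3 D188123)) (tt N109263 F466061) (tt N54623 F372386) (tt N84337 F372387) (tt N109265 (iv7 F466073)))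
theorem Q85373 : ∀ i, i < 85373 → P i := stepQ 85372 Q85372 (allL N85372 (tt N114641 D217898) (tt N114642 D217899) (tt N114481 (iv2 F490401)) (tt N114557 (iv3 F490766)) (tt N50466 (iv4 D188124)) (tt N114643 D217900) (tt N114644 D217901) (tt N114062 (iv7 F488402)))
theorem Q85374 : ∀ i, i < 85374 → P i := stepQ 85373 Q85373 (allL N85373 (tt N105578 F450824) (tt N105404 (iv0 F450094)) (tt N105584 (iv2 F450839)) (tt N50467 F372391) (tt N114644 (iv4 F491166)) (tt N110859 (iv5 F473478)) (tt N50466 (iv6 D188125)) (tt N105583 (iv7 F450841)))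
theorem Q85375 : ∀ i, i < 85375 → P i := stepQ 85374 Q85374 (allL N85374 (tt N105988 (iv1 F452644)) (tt N50467 (iv0 D188126)) (tt N53754 (iv2 F372393)) (tt N104243 (iv3 F444893)) (tt N90715 F390616) (tt N91102 (iv5 F391931)) (tt N53209 F372392) (tt N91101 (iv7 F391926)))
theorem Q85376 : ∀ i, i < 85376 → P i := stepQ 85375 Q85375 (allL N85375 (tt N50467 (iv1 D188127)) (tt N105988 (iv0 F452643)) (tt N91101 (iv2 F391921)) (tt N106354 (iv3 F454112)) (tt N90716 F390622) (tt N89306 (iv5 F386010)) (tt N105257 (iv6 F449415)) (tt N53754 F372394))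
theorem Q85377 : ∀ i, i < 85377 → P i := stepQ 85376 Q85376 (allL N85376 (tt N91101 (iv1 F391925)) (tt N53754 F391927) (tt N105988 F452645) (tt N105583 F450842) (tt N112832 (iv4 F482848)) (tt N113722 (iv5 F486836)) (tt N114069 (iv6 F488431)) (tt N50467 (iv7 D188128)))
theorem Q85378 : ∀ i, i < 85378 → P i := stepQ 85377 Q85377 (allL N85377 (tt N51572 (iv1 F372398)) (tt N50468 (iv0 D188129)) (tt N51576 (iv2 F372397)) (tt N74193 F372396) (tt N52115 F372395) (tt N84846 (iv5 F372401)) (tt N84918 (iv6 F372400)) (tt N51575 F372399))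
theorem Q85379 : ∀ i, i < 85379 → P i := stepQ 85378 Q85378 (allL N85378 (tt N51576 (iv1 F372405)) (tt N51575 F372404) (tt N50468 (iv2 D188130)) (tt N53838 F372402) (tt N86390 (iv4 F376050)) (tt N85938 (iv5 F374517)) (tt N97906 (iv6 F418746)) (tt N51572 F372403))
theorem Q85380 : ∀ i, i < 85380 → P i := stepQ 85379 Q85379 (allL N85379 (tt N53852 F372410) (tt N83112 (iv0 F372411)) (tt N53263 F372406) (tt N53878 F372407) (tt N50469 (iv4 D188131)) (tt N114645 D217902) (tt N54458 F372408) (tt N53260 F372409))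
theorem Q85381 : ∀ i, i < 85381 → P i := stepQ 85380 Q85380 (allL N85380 (tt N71131 (iv1 F372416)) (tt N50474 (iv0 F372415)) (tt N53264 F372412) (tt N53469 F372413) (tt N114646 D217903) (tt N50469 (iv5 D188132)) (tt N101052 (iv6 F431463)) (tt N53261 F372414))
theorem Q85382 : ∀ i, i < 85382 → P i := stepQ 85381 Q85381 (allL N85381 (tt N55229 F372421) (tt N52713 (iv0 F372422)) (tt N53467 F372417) (tt N50470 (iv3 D188133)) (tt N52188 F372418) (tt N63470 F372423) (tt N50524 F372419) (tt N53262 F372420))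
theorem Q85383 : ∀ i, i < 85383 → P i := stepQ 85382 Q85382 (allL N85382 (tt N50474 F372427) (tt N71131 (iv0 F372428)) (tt N53261 F372424) (tt N63470 F372425) (tt N114647 D217904) (tt N50470 (iv5 D188134)) (tt N113852 (iv6 F487456)) (tt N53264 F372426))
theorem Q85384 : ∀ i, i < 85384 → P i := stepQ 85383 Q85383 (allL N85383 (tt N53267 (iv1 F372433)) (tt N53266 F372434) (tt N50472 F372429) (tt N53993 F372430) (tt N85474 F372744) (tt N50471 (iv5 D188135)) (tt N69697 F372431) (tt N53256 F372432))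
theorem Q85385 : ∀ i, i < 85385 → P i := stepQ 85384 Q85384 (allL N85384 (tt N53256 (iv1 F372437)) (tt N50472 (iv0 D188136)) (tt N53267 (iv2 F372438)) (tt N53472 F372435) (tt N114648 D217905) (tt N80682 F372436) (tt N113840 F487386) (tt N53266 (iv7 F372439)))
theorem Q85386 : ∀ i, i < 85386 → P i := stepQ 85385 Q85385 (allL N85385 (tt N50472 (iv1 D188137)) (tt N53256 F372440) (tt N53266 F372443) (tt N63474 (iv3 F372442)) (tt N111332 (iv4 F475863)) (tt N84194 F372444) (tt N114405 (iv6 F489988)) (tt N53267 F372441))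
theorem Q85387 : ∀ i, i < 85387 → P i := stepQ 85386 Q85386 (allL N85386 (tt N85461 F372703) (tt N85476 F372754) (tt N85474 (iv2 F372745)) (tt N94561 (iv3 F404969)) (tt N50472 (iv4 D188138)) (tt N90841 F391029) (tt N100607 (iv6 F429683)) (tt N53268 F372447))
theorem Q85388 : ∀ i, i < 85388 → P i := stepQ 85387 Q85387 (allL N85387 (tt N54053 (iv1 F372459)) (tt N50473 (iv0 D188139)) (tt N54070 (iv2 F372449)) (tt N112871 (iv3 F483066)) (tt N93260 (iv4 F400173)) (tt N93263 (iv5 F400187)) (tt N71206 F372448) (tt N54071 (iv7 F372451)))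
theorem Q85389 : ∀ i, i < 85389 → P i := stepQ 85388 Q85388 (allL N85388 (tt N54071 (iv1 F372464)) (tt N54070 F372465) (tt N54053 F372460) (tt N69698 F372461) (tt N94541 (iv4 F404893)) (tt N53960 F372462) (tt N53275 F372463) (tt N50473 (iv7 D188140)))
theorem Q85390 : ∀ i, i < 85390 → P i := stepQ 85389 Q85389 (allL N85389 (tt N53264 (iv1 F372471)) (tt N53261 F372470) (tt N50474 (iv2 D188141)) (tt N54011 F372467) (tt N113246 (iv4 F484689)) (tt N83223 F372468) (tt N114649 D217906) (tt N71131 F372469))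
theorem Q85391 : ∀ i, i < 85391 → P i := stepQ 85390 Q85390 (allL N85390 (tt N91423 (iv1 F393071)) (tt N89680 (iv0 F387203)) (tt N113246 F484690) (tt N114522 (iv3 F490578)) (tt N50474 (iv4 D188142)) (tt N114650 D217907) (tt N114651 D217908) (tt N91692 (iv7 F394063)))
theorem Q85392 : ∀ i, i < 85392 → P i := stepQ 85391 Q85391 (allL N85391 (tt N99377 F424348) (tt N114652 D217909) (tt N114649 (iv2 F491194)) (tt N50475 F372472) (tt N114651 (iv4 F491206)) (tt N113606 (iv5 F486274)) (tt N50474 (iv6 D188143)) (tt N114653 D217910))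
theorem Q85393 : ∀ i, i < 85393 → P i := stepQ 85392 Q85392 (allL N85392 (tt N71139 (iv1 F372476)) (tt N50475 (iv0 D188144)) (tt N91694 (iv2 F446151)) (tt N114654 D217911) (tt N108092 (iv4 F461077)) (tt N114655 D217912) (tt N107693 (iv6 F459264)) (tt N91695 F446152))
theorem Q85394 : ∀ i, i < 85394 → P i := stepQ 85393 Q85393 (allL N85393 (tt N50475 (iv1 D188145)) (tt N71139 F372473) (tt N91695 F446150) (tt N77096 F446148) (tt N108098 (iv4 F461097)) (tt N113070 (iv5 F483835)) (tt N114656 D217913) (tt N91694 (iv7 F446149)))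
theorem Q85395 : ∀ i, i < 85395 → P i := stepQ 85394 Q85394 (allL N85394 (tt N91695 (iv1 F394074)) (tt N91694 F394071) (tt N71139 F372474) (tt N114653 (iv3 F491214)) (tt N114528 (iv4 F490613)) (tt N113609 (iv5 F486287)) (tt N54525 F372475) (tt N50475 (iv7 D188146)))
theorem Q85396 : ∀ i, i < 85396 → P i := stepQ 85395 Q85395 (allL N85395 (tt N54525 (iv1 F372479)) (tt N50477 (iv0 D188147)) (tt N54043 (iv2 F372480)) (tt N83259 (iv3 F372481)) (tt N96707 (iv4 F413547)) (tt N70840 F372478) (tt N53272 F372477) (tt N54523 (iv7 F372482)))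
theorem Q85397 : ∀ i, i < 85397 → P i := stepQ 85396 Q85396 (allL N85396 (tt N50477 (iv1 D188148)) (tt N54525 F372483) (tt N54523 (iv2 F372487)) (tt N72359 (iv3 F372486)) (tt N112830 (iv4 F482836)) (tt N70841 F372485) (tt N112829 (iv6 F482833)) (tt N54043 F372484))
theorem Q85398 : ∀ i, i < 85398 → P i := stepQ 85397 Q85397 (allL N85397 (tt N50478 (iv1 D188149)) (tt N58284 F372488) (tt N58282 (iv2 F372490)) (tt N112843 F482914) (tt N105356 (iv4 F449865)) (tt N112843 (iv5 F482913)) (tt N96711 F413569) (tt N58281 F372489))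
theorem Q85399 : ∀ i, i < 85399 → P i := stepQ 85398 Q85398 (allL N85398 (tt N58239 (iv1 F372492)) (tt N50479 (iv0 D188150)) (tt N58246 (iv2 F372493)) (tt N114657 D217914) (tt N53777 F378247) (tt N93252 (iv5 F400135)) (tt N78461 F372491) (tt N58245 (iv7 F372494)))
theorem Q85400 : ∀ i, i < 85400 → P i := stepQ 85399 Q85399 (allL N85399 (tt N50479 (iv1 D188151)) (tt N58239 F372495) (tt N58245 (iv2 F372497)) (tt N114658 D217915) (tt N53778 F384643) (tt N87066 F378261) (tt N72866 (iv6 F372498)) (tt N58246 F372496))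
theorem Q85401 : ∀ i, i < 85401 → P i := stepQ 85400 Q85400 (allL N85400 (tt N101338 F432701) (tt N113852 (iv0 F487457)) (tt N113851 (iv2 F487449)) (tt N50480 (iv3 D188153)) (tt N86284 (iv4 F375686)) (tt N112356 F480725) (tt N86283 F375684) (tt N105037 (iv7 F448502)))
theorem Q85402 : ∀ i, i < 85402 → P i := stepQ 85401 Q85401 (allL N85401 (tt N89783 (iv1 F387542)) (tt N88983 (iv0 F384657)) (tt N89780 F387525) (tt N95131 (iv3 F407167)) (tt N50480 (iv4 D188154)) (tt N95517 (iv5 F408440)) (tt N82518 (iv6 F372504)) (tt N89781 (iv7 F387528)))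
theorem Q85403 : ∀ i, i < 85403 → P i := stepQ 85402 Q85402 (allL N85402 (tt N84071 F372500) (tt N90450 F389693) (tt N90449 F389688) (tt N112356 F480723) (tt N105650 (iv4 F451110)) (tt N50480 (iv5 D188155)) (tt N112282 (iv6 F480340)) (tt N51179 F380057))
theorem Q85404 : ∀ i, i < 85404 → P i := stepQ 85403 Q85403 (allL N85403 (tt N112829 (iv1 F482831)) (tt N54036 (iv0 F372502)) (tt N87669 (iv2 F380049)) (tt N86283 (iv3 F375682)) (tt N82518 F372503) (tt N53044 F372501) (tt N50480 (iv6 D188156)) (tt N87666 F380039))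
theorem Q85405 : ∀ i, i < 85405 → P i := stepQ 85404 Q85404 (allL N85404 (tt N54013 F411155) (tt N114659 D217916) (tt N96143 (iv2 F411230)) (tt N50481 (iv3 D188158)) (tt N114660 D217917) (tt N95259 F407613) (tt N96123 F411156) (tt N114319 (iv7 F489579)))
theorem Q85406 : ∀ i, i < 85406 → P i := stepQ 85405 Q85405 (allL N85405 (tt N88983 (iv1 F384656)) (tt N89783 F387541) (tt N89781 F387531) (tt N58089 (iv3 F372506)) (tt N50481 (iv4 D188159)) (tt N58087 F372507) (tt N114661 D217918) (tt N89780 F387526))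
theorem Q85407 : ∀ i, i < 85407 → P i := stepQ 85406 Q85406 (allL N85406 (tt N90450 (iv1 F389694)) (tt N84071 (iv0 F372508)) (tt N51179 F380058) (tt N95259 (iv3 F407612)) (tt N105427 (iv4 F450213)) (tt N50481 (iv5 D188160)) (tt N50861 (iv6 F372509)) (tt N90449 (iv7 F389684)))
theorem Q85408 : ∀ i, i < 85408 → P i := stepQ 85407 Q85407 (allL N85407 (tt N93268 F400215) (tt N107693 (iv0 F459262)) (tt N105033 (iv2 F448479)) (tt N96123 (iv3 F411151)) (tt N114661 (iv4 F491256)) (tt N93328 F400425) (tt N50481 (iv6 D188161)) (tt N96118 (iv7 F411131)))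
theorem Q85409 : ∀ i, i < 85409 → P i := stepQ 85408 Q85408 (allL N85408 (tt N109745 (iv1 F468409)) (tt N51364 F372511) (tt N109754 (iv2 F468456)) (tt N97193 (iv3 F415824)) (tt N50486 (iv4 D188162)) (tt N105770 (iv5 F451632)) (tt N86657 F376693) (tt N53058 F372510))
theorem Q85410 : ∀ i, i < 85410 → P i := stepQ 85409 Q85409 (allL N85409 (tt N60258 (iv1 F372512)) (tt N50487 (iv0 D188163)) (tt N83748 (iv2 F373655)) (tt N96771 F413854) (tt N85720 (iv4 F373787)) (tt N114662 D217919) (tt N108790 (iv6 F463954)) (tt N83749 (iv7 F373657)))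
theorem Q85411 : ∀ i, i < 85411 → P i := stepQ 85410 Q85410 (allL N85410 (tt N50487 (iv1 D188164)) (tt N60258 F372513) (tt N83749 F373656) (tt N60254 (iv3 F373653)) (tt N85721 F373652) (tt N87587 (iv5 F379820)) (tt N104078 (iv6 F444069)) (tt N83748 F373654))
theorem Q85412 : ∀ i, i < 85412 → P i := stepQ 85411 Q85411 (allL N85411 (tt N82889 (iv1 F372517)) (tt N82888 F372528) (tt N52135 F372514) (tt N50493 F372515) (tt N107051 (iv4 F456779)) (tt N50491 (iv5 D188165)) (tt N111847 (iv6 F478286)) (tt N53097 F372516))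
theorem Q85413 : ∀ i, i < 85413 → P i := stepQ 85412 Q85412 (allL N85412 (tt N51328 F372533) (tt N51327 F372532) (tt N51259 F372529) (tt N51345 F372530) (tt N105771 (iv4 F451636)) (tt N50492 (iv5 D188166)) (tt N68159 (iv6 F372534)) (tt N51325 F372531))
theorem Q85414 : ∀ i, i < 85414 → P i := stepQ 85413 Q85413 (allL N85413 (tt N113311 F484964) (tt N114663 D217920) (tt N53101 F372537) (tt N90145 F388675) (tt N50493 (iv4 D188167)) (tt N106588 (iv5 F454965)) (tt N114664 D217921) (tt N53099 F372538))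
theorem Q85415 : ∀ i, i < 85415 → P i := stepQ 85414 Q85414 (allL N85414 (tt N105648 F451102) (tt N112758 (iv0 F482517)) (tt N53102 F372539) (tt N111847 (iv3 F478285)) (tt N114664 (iv4 F491270)) (tt N89270 (iv5 F385867)) (tt N50493 (iv6 D188168)) (tt N112759 (iv7 F482520)))
theorem Q85416 : ∀ i, i < 85416 → P i := stepQ 85415 Q85415 (allL N85415 (tt N114663 (iv1 F491265)) (tt N113311 F484963) (tt N53099 F372540) (tt N100016 (iv3 F427207)) (tt N50494 (iv4 D188169)) (tt N105768 (iv5 F451618)) (tt N100015 F427206) (tt N53101 F372541))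
theorem Q85417 : ∀ i, i < 85417 → P i := stepQ 85416 Q85416 (allL N85416 (tt N99510 (iv1 F424931)) (tt N80397 (iv0 F372545)) (tt N53100 F372542) (tt N82637 F372543) (tt N100015 (iv4 F427204)) (tt N63768 F372544) (tt N50494 (iv6 D188170)) (tt N99515 (iv7 F424949)))
theorem Q85418 : ∀ i, i < 85418 → P i := stepQ 85417 Q85417 (allL N85417 (tt N53109 (iv1 F372548)) (tt N53108 (iv0 F372550)) (tt N50498 F372546) (tt N106299 (iv3 F453939)) (tt N50495 (iv4 D188171)) (tt N105081 (iv5 F448695)) (tt N105404 (iv6 F450091)) (tt N53079 F372547))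
theorem Q85419 : ∀ i, i < 85419 → P i := stepQ 85418 Q85418 (allL N85418 (tt N82823 (iv1 F372557)) (tt N82887 (iv0 F372558)) (tt N82640 F372553) (tt N50496 (iv3 D188172)) (tt N84067 F372556) (tt N50507 F372554) (tt N114665 D217922) (tt N53103 F372555))
theorem Q85420 : ∀ i, i < 85420 → P i := stepQ 85419 Q85419 (allL N85419 (tt N114666 D217923) (tt N106196 (iv0 F453567)) (tt N53106 F372560) (tt N106387 (iv3 F454247)) (tt N50496 (iv4 D188173)) (tt N107005 (iv5 F456620)) (tt N72759 (iv6 F372582)) (tt N53104 F372561))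
theorem Q85421 : ∀ i, i < 85421 → P i := stepQ 85420 Q85420 (allL N85420 (tt N73257 F372583) (tt N73260 F372584) (tt N53107 F372562) (tt N114665 (iv3 F491273)) (tt N72759 (iv4 F372565)) (tt N53720 F372563) (tt N50496 (iv6 D188174)) (tt N73874 F372564))
theorem Q85422 : ∀ i, i < 85422 → P i := stepQ 85421 Q85421 (allL N85421 (tt N106196 (iv1 F453568)) (tt N114666 F491281) (tt N53104 F372585) (tt N104141 (iv3 F444387)) (tt N50497 (iv4 D188175)) (tt N114667 D217924) (tt N107485 F458488) (tt N53106 F372586))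
theorem Q85423 : ∀ i, i < 85423 → P i := stepQ 85422 Q85422 (allL N85422 (tt N50498 (iv1 D188176)) (tt N53079 F372587) (tt N53108 (iv2 F372589)) (tt N112831 (iv3 F482840)) (tt N86301 (iv4 F375756)) (tt N113782 (iv5 F487086)) (tt N114483 (iv6 F490415)) (tt N53109 F372588))
theorem Q85424 : ∀ i, i < 85424 → P i := stepQ 85423 Q85423 (allL N85423 (tt N105082 (iv1 F448708)) (tt N105078 (iv0 F448680)) (tt N105081 F448699) (tt N84068 F372590) (tt N105769 (iv4 F451622)) (tt N50498 (iv5 D188177)) (tt N91073 F391825) (tt N53110 F372591))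
theorem Q85425 : ∀ i, i < 85425 → P i := stepQ 85424 Q85424 (allL N85424 (tt N105584 (iv1 F450835)) (tt N105583 F450834) (tt N105404 (iv2 F450089)) (tt N84053 F372592) (tt N50499 F372593) (tt N91074 (iv5 F391828)) (tt N50498 (iv6 D188178)) (tt N105578 (iv7 F450823)))
theorem Q85426 : ∀ i, i < 85426 → P i := stepQ 85425 Q85425 (allL N85425 (tt N105600 F450929) (tt N105602 F450937) (tt N105601 F450932) (tt N50500 (iv3 D188179)) (tt N92283 (iv4 F396570)) (tt N106975 (iv5 F456496)) (tt N114668 D217925) (tt N86277 (iv7 F375654)))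
theorem Q85427 : ∀ i, i < 85427 → P i := stepQ 85426 Q85426 (allL N85426 (tt N57713 F372596) (tt N67229 F372597) (tt N67227 F372594) (tt N106975 (iv3 F456495)) (tt N97693 (iv4 F417929)) (tt N50500 (iv5 D188180)) (tt N114669 D217926) (tt N67228 F372595))
theorem Q85428 : ∀ i, i < 85428 → P i := stepQ 85427 Q85427 (allL N85427 (tt N85595 F450897) (tt N114670 D217927) (tt N86276 (iv2 F375646)) (tt N114668 (iv3 F491290)) (tt N53134 F372598) (tt N84981 F372599) (tt N50500 (iv6 D188181)) (tt N114671 D217928))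
theorem Q85429 : ∀ i, i < 85429 → P i := stepQ 85428 Q85428 (allL N85428 (tt N105413 F450147) (tt N101400 (iv0 F432857)) (tt N114672 D217929) (tt N50501 (iv3 D188182)) (tt N105563 (iv4 F450744)) (tt N105746 (iv5 F451508)) (tt N114673 D217930) (tt N86275 (iv7 F375645)))
theorem Q85430 : ∀ i, i < 85430 → P i := stepQ 85429 Q85429 (allL N85429 (tt N67229 F372603) (tt N57713 F372602) (tt N67228 F372600) (tt N105746 (iv3 F451505)) (tt N97468 (iv4 F416981)) (tt N50501 (iv5 D188183)) (tt N89307 (iv6 F386014)) (tt N67227 F372601))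
theorem Q85431 : ∀ i, i < 85431 → P i := stepQ 85430 Q85430 (allL N85430 (tt N90962 (iv1 F391389)) (tt N90964 (iv0 F391399)) (tt N86278 (iv2 F375656)) (tt N114673 (iv3 F491310)) (tt N53136 F372604) (tt N114674 D217931) (tt N50501 (iv6 D188184)) (tt N114675 D217932))
theorem Q85432 : ∀ i, i < 85432 → P i := stepQ 85431 Q85431 (allL N85431 (tt N51421 F372608) (tt N54741 (iv0 F372609)) (tt N54746 F372605) (tt N50504 (iv3 D188185)) (tt N54503 F372606) (tt N86660 (iv5 F376710)) (tt N84941 F372620) (tt N54747 F372607))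
theorem Q85433 : ∀ i, i < 85433 → P i := stepQ 85432 Q85432 (allL N85432 (tt N84941 (iv1 F372617)) (tt N84940 (iv0 F372615)) (tt N50506 F372610) (tt N51083 F372611) (tt N50509 F372612) (tt N74791 F372613) (tt N50505 (iv6 D188186)) (tt N84935 F372614))
theorem Q85434 : ∀ i, i < 85434 → P i := stepQ 85433 Q85433 (allL N85433 (tt N84935 (iv1 F372623)) (tt N50506 (iv0 D188187)) (tt N84941 (iv2 F372624)) (tt N109399 (iv3 F466764)) (tt N83334 F372621) (tt N85815 (iv5 F374082)) (tt N54746 F372622) (tt N84940 (iv7 F372625)))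
theorem Q85435 : ∀ i, i < 85435 → P i := stepQ 85434 Q85434 (allL N85434 (tt N50506 (iv1 D188188)) (tt N84935 F372626) (tt N84940 F372629) (tt N53668 F372630) (tt N109621 (iv4 F467785)) (tt N85816 (iv5 F374089)) (tt N50868 (iv6 F372628)) (tt N84941 F372627))
theorem Q85436 : ∀ i, i < 85436 → P i := stepQ 85435 Q85435 (allL N85435 (tt N50507 (iv1 D188189)) (tt N50683 F372631) (tt N83119 F372636) (tt N84747 (iv3 F372634)) (tt N81658 (iv4 F372633)) (tt N87637 (iv5 F379962)) (tt N83201 (iv6 F372635)) (tt N83118 F372632))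
theorem Q85437 : ∀ i, i < 85437 → P i := stepQ 85436 Q85436 (allL N85436 (tt N85833 (iv1 F374171)) (tt N50510 (iv0 D188190)) (tt N85836 F379875) (tt N69752 (iv3 F379874)) (tt N88806 (iv4 F384213)) (tt N69750 F379873) (tt N114676 D217933) (tt N85835 (iv7 F379876)))
theorem Q85438 : ∀ i, i < 85438 → P i := stepQ 85437 Q85437 (allL N85437 (tt N50510 (iv1 D188191)) (tt N85833 F374170) (tt N85835 (iv2 F379878)) (tt N89061 F385015) (tt N88809 (iv4 F384221)) (tt N88895 (iv5 F384464)) (tt N114677 D217934) (tt N85836 F379877))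
theorem Q85439 : ∀ i, i < 85439 → P i := stepQ 85438 Q85438 (allL N85438 (tt N82281 (iv1 F372640)) (tt N50511 (iv0 D188192)) (tt N88860 (iv2 F384363)) (tt N114678 D217935) (tt N53297 F372638) (tt N114679 D217936) (tt N81870 F372639) (tt N89696 (iv7 F387250)))
theorem Q85440 : ∀ i, i < 85440 → P i := stepQ 85439 Q85439 (allL N85439 (tt N50511 (iv1 D188193)) (tt N82281 F372641) (tt N89696 F387248) (tt N92803 (iv3 F398296)) (tt N85122 (iv4 F372642)) (tt N114680 D217937) (tt N107605 (iv6 F458912)) (tt N88860 F384368))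
theorem Q85441 : ∀ i, i < 85441 → P i := stepQ 85440 Q85440 (allL N85440 (tt N114681 D217938) (tt N113507 (iv0 F485826)) (tt N88834 (iv2 F384294)) (tt N50517 F372643) (tt N85198 F372645) (tt N50511 (iv5 D188194)) (tt N50513 F372644) (tt N89697 (iv7 F387252)))
theorem Q85442 : ∀ i, i < 85442 → P i := stepQ 85441 Q85441 (allL N85441 (tt N114682 D217939) (tt N114683 D217940) (tt N88833 (iv2 F384293)) (tt N114684 D217941) (tt N50513 (iv4 D188195)) (tt N114685 D217942) (tt N85198 F372646) (tt N88570 (iv7 F383515)))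
theorem Q85443 : ∀ i, i < 85443 → P i := stepQ 85442 Q85442 (allL N85442 (tt N111321 F475812) (tt N88936 (iv0 F384566)) (tt N114686 D217943) (tt N50515 (iv3 D188196)) (tt N114687 D217944) (tt N114688 D217945) (tt N83923 F372647) (tt N86401 (iv7 F376110)))
theorem Q85444 : ∀ i, i < 85444 → P i := stepQ 85443 Q85443 (allL N85443 (tt N114689 D217946) (tt N114690 D217947) (tt N86400 (iv2 F376107)) (tt N114688 (iv3 F491370)) (tt N114691 D217948) (tt N50515 (iv5 D188197)) (tt N83925 F372648) (tt N86402 (iv7 F376113)))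
theorem Q85445 : ∀ i, i < 85445 → P i := stepQ 85444 Q85444 (allL N85444 (tt N88953 F384594) (tt N114692 D217949) (tt N114693 D217950) (tt N50516 (iv3 D188198)) (tt N110442 F471601) (tt N114694 D217951) (tt N114695 D217952) (tt N86399 (iv7 F376106)))
theorem Q85446 : ∀ i, i < 85446 → P i := stepQ 85445 Q85445 (allL N85445 (tt N114690 (iv1 F491376)) (tt N114689 F491373) (tt N86402 (iv2 F376112)) (tt N114694 (iv3 F491393)) (tt N114696 D217953) (tt N50516 (iv5 D188199)) (tt N113616 (iv6 F486317)) (tt N86400 (iv7 F376109)))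
theorem Q85447 : ∀ i, i < 85447 → P i := stepQ 85446 Q85446 (allL N85446 (tt N88905 (iv1 F384498)) (tt N88904 F384496) (tt N86403 (iv2 F376115)) (tt N114695 (iv3 F491395)) (tt N85846 (iv4 F374193)) (tt N89760 (iv5 F387454)) (tt N50516 (iv6 D188200)) (tt N83922 F372649))
theorem Q85448 : ∀ i, i < 85448 → P i := stepQ 85447 Q85447 (allL N85447 (tt N84982 (iv1 F372656)) (tt N50517 (iv0 D188201)) (tt N84980 (iv2 F375652)) (tt N114697 D217954) (tt N113067 (iv4 F483821)) (tt N114671 (iv5 F491306)) (tt N113066 F483819) (tt N84981 F375651))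
theorem Q85449 : ∀ i, i < 85449 → P i := stepQ 85448 Q85448 (allL N85448 (tt N50517 (iv1 D188202)) (tt N84982 F372650) (tt N84981 F375649) (tt N114698 D217955) (tt N113975 (iv4 F488036)) (tt N86276 (iv5 F375648)) (tt N114699 D217956) (tt N84980 (iv7 F375650)))
theorem Q85450 : ∀ i, i < 85450 → P i := stepQ 85449 Q85449 (allL N85449 (tt N84303 F372653) (tt N114700 D217957) (tt N84316 F372651) (tt N114701 D217958) (tt N50517 (iv4 D188203)) (tt N114702 D217959) (tt N50519 F372652) (tt N114703 D217960))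
theorem Q85451 : ∀ i, i < 85451 → P i := stepQ 85450 Q85450 (allL N85450 (tt N84981 (iv1 F372657)) (tt N84980 F372658) (tt N84982 F372654) (tt N89697 (iv3 F387251)) (tt N114703 (iv4 F491426)) (tt N50518 F372655) (tt N88573 (iv6 F383517)) (tt N50517 (iv7 D188204)))
theorem Q85452 : ∀ i, i < 85452 → P i := stepQ 85451 Q85451 (allL N85451 (tt N114704 D217961) (tt N113961 (iv0 F487981)) (tt N105188 (iv2 F449153)) (tt N50519 (iv3 D188205)) (tt N114684 (iv4 F491354)) (tt N84967 F372659) (tt N114701 (iv6 F491420)) (tt N84317 F372660))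
theorem Q85453 : ∀ i, i < 85453 → P i := stepQ 85452 Q85452 (allL N85452 (tt N50659 F372667) (tt N82773 (iv0 F372668)) (tt N82774 F372661) (tt N50523 F372662) (tt N54641 F372663) (tt N63959 F372664) (tt N50521 (iv6 D188206)) (tt N53470 F372665))
theorem Q85454 : ∀ i, i < 85454 → P i := stepQ 85453 Q85453 (allL N85453 (tt N50525 (iv1 F372672)) (tt N50522 (iv0 D188207)) (tt N81658 (iv2 F372671)) (tt N54876 (iv3 F372674)) (tt N83119 F372670) (tt N74184 F372669) (tt N91595 (iv6 F393738)) (tt N81661 F372673))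
theorem Q85455 : ∀ i, i < 85455 → P i := stepQ 85454 Q85454 (allL N85454 (tt N83587 F372678) (tt N81548 (iv0 F372680)) (tt N82817 F372675) (tt N50522 (iv3 D188208)) (tt N53408 F372676) (tt N114705 D217962) (tt N114330 (iv6 F489644)) (tt N53907 F372677))
theorem Q85456 : ∀ i, i < 85456 → P i := stepQ 85455 Q85455 (allL N85455 (tt N86809 F377274) (tt N88079 (iv0 F381717)) (tt N87877 F380939) (tt N114705 (iv3 F491436)) (tt N86801 F377246) (tt N50522 (iv5 D188209)) (tt N108609 F463234) (tt N112434 (iv7 F481093)))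
theorem Q85457 : ∀ i, i < 85457 → P i := stepQ 85456 Q85456 (allL N85456 (tt N79008 F380676) (tt N91914 F394945) (tt N54460 F372681) (tt N114330 (iv3 F489642)) (tt N50523 F372682) (tt N114706 D217963) (tt N50522 (iv6 D188210)) (tt N54458 F372683))
theorem Q85458 : ∀ i, i < 85458 → P i := stepQ 85457 Q85457 (allL N85457 (tt N83517 F372688) (tt N50689 (iv0 F372689)) (tt N83519 F372684) (tt N82816 F372685) (tt N50524 (iv4 D188211)) (tt N87610 (iv5 F379872)) (tt N52188 F372686) (tt N83518 F372687))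
theorem Q85459 : ∀ i, i < 85459 → P i := stepQ 85458 Q85458 (allL N85458 (tt N88079 (iv1 F381718)) (tt N86809 F377275) (tt N112434 (iv2 F481087)) (tt N51750 F372690) (tt N86800 (iv4 F377242)) (tt N50525 (iv5 D188212)) (tt N86867 (iv6 F377497)) (tt N87877 (iv7 F380938)))
theorem Q85460 : ∀ i, i < 85460 → P i := stepQ 85459 Q85459 (allL N85459 (tt N52139 F372693) (tt N51779 F372694) (tt N50530 F372691) (tt N88343 (iv3 F382661)) (tt N81655 F372695) (tt N50526 (iv5 D188213)) (tt N114707 D217964) (tt N52141 F372692))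
theorem Q85461 : ∀ i, i < 85461 → P i := stepQ 85460 Q85460 (allL N85460 (tt N107051 (iv1 F456781)) (tt N82890 F372697) (tt N50533 F372696) (tt N55361 (iv3 F372698)) (tt N50527 (iv4 D188214)) (tt N87038 (iv5 F378146)) (tt N55360 F372699) (tt N114324 (iv7 F489610)))
theorem Q85462 : ∀ i, i < 85462 → P i := stepQ 85461 Q85461 (allL N85461 (tt N89087 (iv1 F385108)) (tt N85386 (iv0 F372703)) (tt N50534 F372700) (tt N113318 (iv3 F484998)) (tt N55360 F372701) (tt N114708 D217965) (tt N50527 (iv6 D188215)) (tt N83128 (iv7 F372702)))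
theorem Q85463 : ∀ i, i < 85463 → P i := stepQ 85462 Q85462 (allL N85462 (tt N54589 F372708) (tt N54588 F372707) (tt N50536 F372704) (tt N53983 F372705) (tt N110383 (iv4 F471327)) (tt N50528 (iv5 D188216)) (tt N114708 (iv6 F491457)) (tt N53862 F372706))
theorem Q85464 : ∀ i, i < 85464 → P i := stepQ 85463 Q85463 (allL N85463 (tt N50530 (iv1 D188217)) (tt N52141 F372709) (tt N51779 F372713) (tt N52109 (iv3 F372712)) (tt N83807 F372714) (tt N51141 F372711) (tt N91252 F392414) (tt N52139 F372710))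
theorem Q85465 : ∀ i, i < 85465 → P i := stepQ 85464 Q85464 (allL N85464 (tt N93148 F399672) (tt N111084 F474587) (tt N114707 (iv2 F491450)) (tt N82608 F372715) (tt N58935 F372716) (tt N87017 (iv5 F378056)) (tt N50530 (iv6 D188218)) (tt N94015 (iv7 F402827)))
theorem Q85466 : ∀ i, i < 85466 → P i := stepQ 85465 Q85465 (allL N85465 (tt N105229 (iv1 F449309)) (tt N89100 F385153) (tt N84059 F372717) (tt N87671 F380093) (tt N50531 (iv4 D188219)) (tt N95905 F410184) (tt N101329 F432675) (tt N84056 F372718))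
theorem Q85467 : ∀ i, i < 85467 → P i := stepQ 85466 Q85466 (allL N85466 (tt N106484 (iv1 F454632)) (tt N86328 F375846) (tt N84060 F372719) (tt N88447 (iv3 F383087)) (tt N101329 (iv4 F432676)) (tt N54452 F372720) (tt N50531 (iv6 D188220)) (tt N106240 (iv7 F453718)))
theorem Q85468 : ∀ i, i < 85468 → P i := stepQ 85467 Q85467 (allL N85467 (tt N113563 (iv1 F486046)) (tt N86319 (iv0 F381198)) (tt N88444 (iv2 F383072)) (tt N50532 (iv3 D188221)) (tt N114709 D217966) (tt N51136 F372721) (tt N114710 D217967) (tt N84058 F372722))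
theorem Q85469 : ∀ i, i < 85469 → P i := stepQ 85468 Q85468 (allL N85468 (tt N89100 F385152) (tt N105229 (iv0 F449308)) (tt N84056 F372723) (tt N90098 (iv3 F388557)) (tt N50532 (iv4 D188222)) (tt N55414 F372725) (tt N101376 F432811) (tt N84059 F372724))
theorem Q85470 : ∀ i, i < 85470 → P i := stepQ 85469 Q85469 (allL N85469 (tt N51176 F372728) (tt N114711 D217968) (tt N84057 F372726) (tt N114710 (iv3 F491466)) (tt N101376 F432812) (tt N53923 F372727) (tt N50532 (iv6 D188223)) (tt N114712 D217969))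
theorem Q85471 : ∀ i, i < 85471 → P i := stepQ 85470 Q85470 (allL N85470 (tt N114324 (iv1 F489612)) (tt N50533 (iv0 D188224)) (tt N107051 (iv2 F456777)) (tt N109890 F469091) (tt N52135 F372729) (tt N98000 (iv5 F419118)) (tt N114713 D217970) (tt N82890 (iv7 F372730)))
theorem Q85472 : ∀ i, i < 85472 → P i := stepQ 85471 Q85471 (allL N85471 (tt N50533 (iv1 D188225)) (tt N114324 (iv0 F489611)) (tt N82890 F372732) (tt N107011 (iv3 F456639)) (tt N53097 (iv4 F372731)) (tt N85977 (iv5 F374706)) (tt N114714 D217971) (tt N107051 (iv7 F456780)))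
theorem Q85473 : ∀ i, i < 85473 → P i := stepQ 85472 Q85472 (allL N85472 (tt N113103 (iv1 F483985)) (tt N113854 (iv0 F487469)) (tt N87038 (iv2 F378144)) (tt N83967 F372733) (tt N84465 F372734) (tt N50533 (iv5 D188226)) (tt N83965 (iv6 F372735)) (tt N114326 (iv7 F489623)))
theorem Q85474 : ∀ i, i < 85474 → P i := stepQ 85473 Q85473 (allL N85473 (tt N83071 F372741) (tt N83113 (iv0 F372740)) (tt N55360 F372736) (tt N53696 F372737) (tt N50534 F372738) (tt N83165 F372739) (tt N50533 (iv6 D188227)) (tt N53723 F372742))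
theorem Q85475 : ∀ i, i < 85475 → P i := stepQ 85474 Q85474 (allL N85474 (tt N50534 (iv1 D188228)) (tt N83128 F372743) (tt N85386 F372745) (tt N75582 (iv3 F372747)) (tt N85383 (iv4 F372744)) (tt N89357 (iv5 F386236)) (tt N75580 F372746) (tt N89087 (iv7 F385106)))
theorem Q85476 : ∀ i, i < 85476 → P i := stepQ 85475 Q85475 (allL N85475 (tt N114650 (iv1 F491202)) (tt N114715 D217972) (tt N114708 (iv2 F491455)) (tt N50539 F372748) (tt N54580 F372750) (tt N50534 (iv5 D188229)) (tt N50536 F372749) (tt N114716 D217973))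
theorem Q85477 : ∀ i, i < 85477 → P i := stepQ 85476 Q85476 (allL N85476 (tt N85386 (iv1 F372754)) (tt N89087 (iv0 F385107)) (tt N83128 F372751) (tt N50540 F372752) (tt N53723 F372753) (tt N114716 (iv5 F491498)) (tt N114329 (iv6 F489639)) (tt N50534 (iv7 D188230)))
theorem Q85478 : ∀ i, i < 85478 → P i := stepQ 85477 Q85477 (allL N85477 (tt N83026 F372760) (tt N52720 (iv0 F372761)) (tt N54633 F372755) (tt N50535 (iv3 D188231)) (tt N52228 F372756) (tt N77973 F372757) (tt N53345 F372758) (tt N53253 F372759))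
theorem Q85479 : ∀ i, i < 85479 → P i := stepQ 85478 Q85478 (allL N85478 (tt N53862 (iv1 F372762)) (tt N50536 (iv0 D188232)) (tt N54589 (iv2 F372764)) (tt N54638 (iv3 F372765)) (tt N91166 (iv4 F392130)) (tt N84179 F372763) (tt N91165 F392124) (tt N54588 (iv7 F372766)))
theorem Q85480 : ∀ i, i < 85480 → P i := stepQ 85479 Q85479 (allL N85479 (tt N50536 (iv1 D188233)) (tt N53862 F372767) (tt N54588 F372770) (tt N107547 (iv3 F458726)) (tt N114717 D217974) (tt N80685 (iv5 F372769)) (tt N112324 F480558) (tt N54589 F372768))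
theorem Q85481 : ∀ i, i < 85481 → P i := stepQ 85480 Q85480 (allL N85480 (tt N110384 (iv1 F471337)) (tt N77390 (iv0 F372773)) (tt N110383 (iv2 F471330)) (tt N114718 D217975) (tt N50536 (iv4 D188234)) (tt N90000 (iv5 F388252)) (tt N54580 F372771) (tt N54590 F372772))
theorem Q85482 : ∀ i, i < 85482 → P i := stepQ 85481 Q85481 (allL N85481 (tt N63318 F372777) (tt N63316 F372778) (tt N78814 F372774) (tt N50537 (iv3 D188235)) (tt N78810 F372775) (tt N103070 (iv5 F439945)) (tt N113856 (iv6 F487483)) (tt N78819 F372776))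
theorem Q85483 : ∀ i, i < 85483 → P i := stepQ 85482 Q85482 (allL N85482 (tt N85599 F373182) (tt N114719 D217976) (tt N114323 (iv2 F489602)) (tt N103070 F439948) (tt N112993 (iv4 F483469)) (tt N50537 (iv5 D188236)) (tt N112334 F480617) (tt N113921 (iv7 F487797)))
theorem Q85484 : ∀ i, i < 85484 → P i := stepQ 85483 Q85483 (allL N85483 (tt N114719 (iv1 F491513)) (tt N85599 (iv0 F389679)) (tt N113921 (iv2 F487794)) (tt N77352 F372779) (tt N114720 D217977) (tt N50538 (iv5 D188237)) (tt N54620 (iv6 F372780)) (tt N114323 (iv7 F489605)))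
theorem Q85485 : ∀ i, i < 85485 → P i := stepQ 85484 Q85484 (allL N85484 (tt N90446 F389678) (tt N86327 (iv0 F375843)) (tt N113884 (iv2 F487625)) (tt N77354 F372781) (tt N85521 (iv4 F372924)) (tt N77347 F372782) (tt N50538 (iv6 D188238)) (tt N113855 (iv7 F487477)))
theorem Q85486 : ∀ i, i < 85486 → P i := stepQ 85485 Q85485 (allL N85485 (tt N54610 (iv1 F372795)) (tt N50539 (iv0 D188239)) (tt N54608 (iv2 F372791)) (tt N111146 (iv3 F474921)) (tt N113213 (iv4 F484509)) (tt N111145 F474917) (tt N110384 (iv6 F471335)) (tt N54609 (iv7 F372790)))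
theorem Q85487 : ∀ i, i < 85487 → P i := stepQ 85486 Q85486 (allL N85486 (tt N50539 (iv1 D188240)) (tt N54610 F372783) (tt N54609 F372786) (tt N77161 F372787) (tt N114259 (iv4 F489272)) (tt N54292 (iv5 F372785)) (tt N54428 (iv6 F372784)) (tt N54608 (iv7 F372794)))
theorem Q85488 : ∀ i, i < 85488 → P i := stepQ 85487 Q85487 (allL N85487 (tt N91165 F392127) (tt N91168 (iv0 F392136)) (tt N54607 F372796) (tt N112330 (iv3 F480594)) (tt N50539 (iv4 D188241)) (tt N114721 D217978) (tt N50541 F372797) (tt N112328 (iv7 F480584)))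
theorem Q85489 : ∀ i, i < 85489 → P i := stepQ 85488 Q85488 (allL N85488 (tt N54609 (iv1 F372801)) (tt N54608 F372802) (tt N54610 F372798) (tt N114716 (iv3 F491496)) (tt N112328 (iv4 F480582)) (tt N50540 F372799) (tt N54601 F372800) (tt N50539 (iv7 D188242)))
theorem Q85490 : ∀ i, i < 85490 → P i := stepQ 85489 Q85489 (allL N85489 (tt N84214 F372805) (tt N77361 F390272) (tt N99927 (iv2 F426854)) (tt N50541 (iv3 D188243)) (tt N114718 (iv4 F491508)) (tt N77344 F372803) (tt N112330 (iv6 F480597)) (tt N54430 F372804))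
theorem Q85491 : ∀ i, i < 85491 → P i := stepQ 85490 Q85490 (allL N85490 (tt N85564 F373078) (tt N86528 (iv0 F376435)) (tt N73265 F372806) (tt N50544 F372807) (tt N53109 F372808) (tt N50542 (iv5 D188244)) (tt N73252 (iv6 F372809)) (tt N86301 (iv7 F375755)))
theorem Q85492 : ∀ i, i < 85492 → P i := stepQ 85491 Q85491 (allL N85491 (tt N53355 F372814) (tt N84444 F372815) (tt N82766 F372810) (tt N50543 (iv3 D188245)) (tt N54747 F372811) (tt N92145 (iv5 F395950)) (tt N53234 F372812) (tt N54503 F372813))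
theorem Q85493 : ∀ i, i < 85493 → P i := stepQ 85492 Q85492 (allL N85492 (tt N82851 F372818) (tt N82868 F372820) (tt N82866 F372816) (tt N78462 F372821) (tt N50544 (iv4 D188246)) (tt N82510 F372819) (tt N108095 (iv6 F461089)) (tt N82865 F372817))
theorem Q85494 : ∀ i, i < 85494 → P i := stepQ 85493 Q85493 (allL N85493 (tt N71185 F372824) (tt N50605 F372825) (tt N86302 (iv2 F375758)) (tt N73252 F372822) (tt N108095 (iv4 F461087)) (tt N54013 F372823) (tt N50544 (iv6 D188247)) (tt N114344 (iv7 F489729)))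
theorem Q85495 : ∀ i, i < 85495 → P i := stepQ 85494 Q85494 (allL N85494 (tt N50567 (iv1 F372829)) (tt N50565 F372828) (tt N50545 (iv2 D188248)) (tt N83719 F372826) (tt N52747 F372830) (tt N86304 (iv5 F375767)) (tt N54177 F372831) (tt N50564 F372827))
theorem Q85496 : ∀ i, i < 85496 → P i := stepQ 85495 Q85495 (allL N85495 (tt N54875 F372835) (tt N85831 (iv0 F374160)) (tt N52747 F372832) (tt N82764 F372833) (tt N50545 (iv4 D188249)) (tt N100519 (iv5 F429290)) (tt N79007 (iv6 F372843)) (tt N83240 F372834))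
theorem Q85497 : ∀ i, i < 85497 → P i := stepQ 85496 Q85496 (allL N85496 (tt N54173 F372839) (tt N50658 (iv0 F372841)) (tt N54177 F372836) (tt N50548 F372837) (tt N79007 F372842) (tt N81320 F372840) (tt N50545 (iv6 D188250)) (tt N54016 F372838))
theorem Q85498 : ∀ i, i < 85498 → P i := stepQ 85497 Q85497 (allL N85497 (tt N50558 F372848) (tt N50550 (iv0 F372849)) (tt N50555 F372844) (tt N82765 F372845) (tt N50548 F372846) (tt N113604 (iv5 F486263)) (tt N50546 (iv6 D188251)) (tt N50556 F372847))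
theorem Q85499 : ∀ i, i < 85499 → P i := stepQ 85498 Q85498 (allL N85498 (tt N82868 F372852) (tt N82851 F372853) (tt N82865 F372850) (tt N110890 (iv3 F473629)) (tt N50547 (iv4 D188252)) (tt N112507 F481417) (tt N114722 D217979) (tt N82866 F372851))
theorem Q85500 : ∀ i, i < 85500 → P i := stepQ 85499 Q85499 (allL N85499 (tt N85569 F461002) (tt N114723 D217980) (tt N75570 F372854) (tt N113875 (iv3 F487575)) (tt N114722 (iv4 F491531)) (tt N62928 F372855) (tt N50547 (iv6 D188253)) (tt N114724 D217981))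
theorem Q85501 : ∀ i, i < 85501 → P i := stepQ 85500 Q85500 (allL N85500 (tt N78439 F372858) (tt N82860 F372859) (tt N50553 F372856) (tt N113319 (iv3 F485004)) (tt N50549 (iv4 D188254)) (tt N58204 F372857) (tt N85204 (iv6 F372860)) (tt N111025 (iv7 F474318)))
theorem Q85502 : ∀ i, i < 85502 → P i := stepQ 85501 Q85501 (allL N85501 (tt N89707 F387268) (tt N89709 F387274) (tt N50554 F372861) (tt N114325 (iv3 F489615)) (tt N85204 F372862) (tt N114725 D217982) (tt N50549 (iv6 D188255)) (tt N89706 (iv7 F387263)))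
theorem Q85503 : ∀ i, i < 85503 → P i := stepQ 85502 Q85502 (allL N85502 (tt N50550 (iv1 D188256)) (tt N50558 F372863) (tt N50556 F372867) (tt N109621 (iv3 F467784)) (tt N53398 F372865) (tt N113603 (iv5 F486255)) (tt N53231 (iv6 F372866)) (tt N50555 F372864))
theorem Q85504 : ∀ i, i < 85504 → P i := stepQ 85503 Q85503 (allL N85503 (tt N84080 F372872) (tt N76992 F372873) (tt N50557 F372868) (tt N84035 F372869) (tt N62764 F372870) (tt N50550 (iv5 D188257)) (tt N114725 (iv6 F491547)) (tt N84078 (iv7 F372875)))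
theorem Q85505 : ∀ i, i < 85505 → P i := stepQ 85504 Q85504 (allL N85504 (tt N50556 (iv1 F372881)) (tt N50555 F372882) (tt N50558 F372876) (tt N53863 F372877) (tt N55367 F372878) (tt N84078 F372879) (tt N52731 F372880) (tt N50550 (iv7 D188258)))
theorem Q85506 : ∀ i, i < 85506 → P i := stepQ 85505 Q85505 (allL N85505 (tt N86320 F375819) (tt N89705 (iv0 F387259)) (tt N88806 (iv2 F384211)) (tt N50551 (iv3 D188259)) (tt N85836 F374177) (tt N51154 F372883) (tt N107144 (iv6 F457188)) (tt N88809 (iv7 F384219)))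
theorem Q85507 : ∀ i, i < 85507 → P i := stepQ 85506 Q85506 (allL N85506 (tt N113080 (iv1 F483885)) (tt N89830 F387679) (tt N114320 (iv2 F489582)) (tt N80275 F372885) (tt N50551 (iv4 D188260)) (tt N80274 F372884) (tt N114726 D217983) (tt N111041 (iv7 F474392)))
theorem Q85508 : ∀ i, i < 85508 → P i := stepQ 85507 Q85507 (allL N85507 (tt N96146 F411241) (tt N51180 F375876) (tt N114321 (iv2 F489587)) (tt N107144 (iv3 F457187)) (tt N114726 (iv4 F491550)) (tt N106777 (iv5 F455637)) (tt N50551 (iv6 D188261)) (tt N106262 (iv7 F453788)))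
theorem Q85509 : ∀ i, i < 85509 → P i := stepQ 85508 Q85508 (allL N85508 (tt N86736 (iv1 F377035)) (tt N50566 F372951) (tt N84107 (iv2 F372888)) (tt N50552 (iv3 D188262)) (tt N114727 D217984) (tt N51155 F372886) (tt N106255 (iv6 F453778)) (tt N84104 F372887))
theorem Q85510 : ∀ i, i < 85510 → P i := stepQ 85509 Q85509 (allL N85509 (tt N89830 F387678) (tt N113080 (iv0 F483884)) (tt N111041 (iv2 F474390)) (tt N110220 (iv3 F470489)) (tt N50552 (iv4 D188263)) (tt N105717 (iv5 F451394)) (tt N106256 (iv6 F453779)) (tt N114320 (iv7 F489584)))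
theorem Q85511 : ∀ i, i < 85511 → P i := stepQ 85510 Q85510 (allL N85510 (tt N111025 (iv1 F474320)) (tt N50553 (iv0 D188264)) (tt N78439 (iv2 F372891)) (tt N85259 F376980) (tt N82847 F372890) (tt N78438 F372889) (tt N114728 D217985) (tt N82860 F372892))
theorem Q85512 : ∀ i, i < 85512 → P i := stepQ 85511 Q85511 (allL N85511 (tt N84826 (iv1 F372899)) (tt N70140 (iv0 F372897)) (tt N85204 F372893) (tt N57857 F372894) (tt N50554 F372895) (tt N58208 F372896) (tt N50553 (iv6 D188265)) (tt N85205 (iv7 F372903)))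
theorem Q85513 : ∀ i, i < 85513 → P i := stepQ 85512 Q85512 (allL N85512 (tt N50554 (iv1 D188266)) (tt N89706 F387264) (tt N89709 (iv2 F387271)) (tt N114729 D217986) (tt N89825 (iv4 F387656)) (tt N114730 D217987) (tt N106251 (iv6 F453772)) (tt N89707 F387267))
theorem Q85514 : ∀ i, i < 85514 → P i := stepQ 85513 Q85513 (allL N85513 (tt N106209 F453800) (tt N114731 D217988) (tt N114725 (iv2 F491545)) (tt N50561 F372904) (tt N114732 D217989) (tt N50554 (iv5 D188267)) (tt N50557 F372905) (tt N114733 D217990))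
theorem Q85515 : ∀ i, i < 85515 → P i := stepQ 85514 Q85514 (allL N85514 (tt N89709 (iv1 F387275)) (tt N89707 F387269) (tt N89706 F387262) (tt N50562 F372906) (tt N85205 F372907) (tt N114733 (iv5 F491576)) (tt N114322 (iv6 F489600)) (tt N50554 (iv7 D188268)))
theorem Q85516 : ∀ i, i < 85516 → P i := stepQ 85515 Q85515 (allL N85515 (tt N83020 F372910) (tt N111276 (iv0 F475593)) (tt N83334 F372908) (tt N50555 (iv3 D188269)) (tt N84941 F372911) (tt N113959 (iv5 F487967)) (tt N54503 F372909) (tt N109621 (iv7 F467786)))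
theorem Q85517 : ∀ i, i < 85517 → P i := stepQ 85516 Q85516 (allL N85516 (tt N84078 (iv1 F372914)) (tt N50557 (iv0 D188270)) (tt N84080 (iv2 F372913)) (tt N114734 D217991) (tt N113500 (iv4 F485794)) (tt N76993 F372912) (tt N114735 D217992) (tt N76992 F372915))
theorem Q85518 : ∀ i, i < 85518 → P i := stepQ 85517 Q85517 (allL N85517 (tt N113486 (iv1 F485725)) (tt N82842 F372919) (tt N62764 F372916) (tt N109708 (iv3 F468225)) (tt N50557 (iv4 D188271)) (tt N62747 F372918) (tt N114732 (iv6 F491572)) (tt N84309 F372917))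
theorem Q85519 : ∀ i, i < 85519 → P i := stepQ 85518 Q85518 (allL N85518 (tt N113938 F487879) (tt N114736 D217993) (tt N90451 (iv2 F389695)) (tt N113330 (iv3 F485062)) (tt N114737 D217994) (tt N50559 (iv5 D188272)) (tt N84073 F372920) (tt N113969 (iv7 F488014)))
theorem Q85520 : ∀ i, i < 85520 → P i := stepQ 85519 Q85519 (allL N85519 (tt N85123 F372922) (tt N85011 F374793) (tt N114332 (iv2 F489659)) (tt N50560 (iv3 D188273)) (tt N53669 (iv4 F372923)) (tt N114738 D217995) (tt N114739 D217996) (tt N76462 F372921))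
theorem Q85521 : ∀ i, i < 85521 → P i := stepQ 85520 Q85520 (allL N85520 (tt N114736 (iv1 F491591)) (tt N113938 (iv0 F487878)) (tt N113969 (iv2 F488011)) (tt N114738 (iv3 F491594)) (tt N114740 D217997) (tt N50560 (iv5 D188274)) (tt N113608 (iv6 F486281)) (tt N90451 (iv7 F389697)))
theorem Q85522 : ∀ i, i < 85522 → P i := stepQ 85521 Q85521 (allL N85521 (tt N90449 (iv1 F389683)) (tt N51179 F378248) (tt N90450 (iv2 F389689)) (tt N114739 (iv3 F491599)) (tt N85484 F372924) (tt N85585 (iv5 F373135)) (tt N50560 (iv6 D188275)) (tt N84071 F372925))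
theorem Q85523 : ∀ i, i < 85523 → P i := stepQ 85522 Q85522 (allL N85522 (tt N84308 (iv1 F372933)) (tt N50561 (iv0 D188276)) (tt N84306 (iv2 F372927)) (tt N90894 (iv3 F439753)) (tt N84303 (iv4 F372928)) (tt N114741 D217998) (tt N84302 F372926) (tt N84307 (iv7 F372929)))
theorem Q85524 : ∀ i, i < 85524 → P i := stepQ 85523 Q85523 (allL N85523 (tt N50561 (iv1 D188277)) (tt N84308 F372930) (tt N84307 (iv2 F372932)) (tt N114742 D217999) (tt N114700 (iv4 F491415)) (tt N86297 (iv5 F375738)) (tt N84319 (iv6 F441114)) (tt N84306 F372931))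
theorem Q85525 : ∀ i, i < 85525 → P i := stepQ 85524 Q85524 (allL N85524 (tt N114398 F489961) (tt N112986 (iv0 F483435)) (tt N84305 F372934) (tt N114743 D218000) (tt N50561 (iv4 D188278)) (tt N114744 D218001) (tt N50563 F372935) (tt N114745 D218002))
theorem Q85526 : ∀ i, i < 85526 → P i := stepQ 85525 Q85525 (allL N85525 (tt N84307 (iv1 F372939)) (tt N84306 F372940) (tt N84308 F372936) (tt N114733 (iv3 F491575)) (tt N114745 (iv4 F491630)) (tt N50562 F372937) (tt N84314 F372938) (tt N50561 (iv7 D188279)))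
theorem Q85527 : ∀ i, i < 85527 → P i := stepQ 85526 Q85526 (allL N85526 (tt N105239 F449386) (tt N105234 (iv0 F449332)) (tt N105237 F449340) (tt N50563 (iv3 D188280)) (tt N109708 (iv4 F468227)) (tt N85046 F372941) (tt N114743 (iv6 F491618)) (tt N84311 F372942))
theorem Q85528 : ∀ i, i < 85528 → P i := stepQ 85527 Q85527 (allL N85527 (tt N84107 (iv1 F372946)) (tt N84104 F372945) (tt N50566 F372943) (tt N58287 F372944) (tt N113649 (iv4 F486485)) (tt N50565 (iv5 D188281)) (tt N114746 D218003) (tt N86736 (iv7 F377034)))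
theorem Q85529 : ∀ i, i < 85529 → P i := stepQ 85528 Q85528 (allL N85528 (tt N50566 (iv1 D188283)) (tt N86736 F377036) (tt N84104 (iv2 F372949)) (tt N88806 (iv3 F384212)) (tt N114747 D218004) (tt N51160 F372948) (tt N105513 (iv6 F450526)) (tt N84107 (iv7 F372950)))
theorem Q85530 : ∀ i, i < 85530 → P i := stepQ 85529 Q85529 (allL N85529 (tt N53152 F372952) (tt N113644 (iv0 F486468)) (tt N113649 F486486) (tt N85893 (iv3 F374342)) (tt N50566 (iv4 D188284)) (tt N114748 D218005) (tt N85891 F374334) (tt N86737 (iv7 F377037)))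
theorem Q85531 : ∀ i, i < 85531 → P i := stepQ 85530 Q85530 (allL N85530 (tt N77532 F374335) (tt N114749 D218006) (tt N114746 (iv2 F491635)) (tt N50569 F372953) (tt N85891 (iv4 F374332)) (tt N83045 F372954) (tt N50566 (iv6 D188285)) (tt N85861 (iv7 F374247)))
theorem Q85532 : ∀ i, i < 85532 → P i := stepQ 85531 Q85531 (allL N85531 (tt N52759 F372958) (tt N50577 F372959) (tt N52766 F372955) (tt N113701 F486707) (tt N59451 F372956) (tt N50570 (iv5 D188286)) (tt N95686 (iv6 F409138)) (tt N52765 F372957))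
theorem Q85533 : ∀ i, i < 85533 → P i := stepQ 85532 Q85532 (allL N85532 (tt N83375 F372963) (tt N83374 F372964) (tt N50572 F372960) (tt N86736 (iv3 F377032)) (tt N58288 F372961) (tt N50571 (iv5 D188287)) (tt N110211 (iv6 F470451)) (tt N58287 F372962))
theorem Q85534 : ∀ i, i < 85534 → P i := stepQ 85533 Q85533 (allL N85533 (tt N58286 F372968) (tt N58285 F372969) (tt N58288 F372965) (tt N114282 (iv3 F489377)) (tt N50572 (iv4 D188288)) (tt N57929 F372966) (tt N95246 (iv6 F407569)) (tt N57928 F372967))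
theorem Q85535 : ∀ i, i < 85535 → P i := stepQ 85534 Q85534 (allL N85534 (tt N63978 F372971) (tt N105485 (iv0 F450437)) (tt N110211 (iv2 F470449)) (tt N50574 F372970) (tt N95246 (iv4 F407568)) (tt N90891 (iv5 F391189)) (tt N50572 (iv6 D188289)) (tt N110208 (iv7 F470443)))
theorem Q85536 : ∀ i, i < 85536 → P i := stepQ 85535 Q85535 (allL N85535 (tt N50574 (iv1 D188290)) (tt N85075 F372972) (tt N56297 (iv2 F372974)) (tt N114332 F489657) (tt N56098 F372973) (tt N114750 D218007) (tt N99360 (iv6 F424270)) (tt N86739 (iv7 F377046)))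
theorem Q85537 : ∀ i, i < 85537 → P i := stepQ 85536 Q85536 (allL N85536 (tt N50585 F372980) (tt N50576 (iv0 D188291)) (tt N50583 F372979) (tt N58298 (iv3 F372977)) (tt N73154 F372976) (tt N73006 F372975) (tt N114751 D218008) (tt N50584 (iv7 F372978)))
theorem Q85538 : ∀ i, i < 85538 → P i := stepQ 85537 Q85537 (allL N85537 (tt N50576 (iv1 D188292)) (tt N50585 F372981) (tt N50584 (iv2 F372986)) (tt N76675 (iv3 F372995)) (tt N73158 F372984) (tt N73005 F372983) (tt N86067 (iv6 F375046)) (tt N50583 F372982))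
theorem Q85539 : ∀ i, i < 85539 → P i := stepQ 85538 Q85538 (allL N85538 (tt N50584 (iv1 F372999)) (tt N50583 F373000) (tt N50585 F372996) (tt N114333 (iv3 F489661)) (tt N62383 F372997) (tt N73481 F372998) (tt N109061 (iv6 F465158)) (tt N50576 (iv7 D188293)))
theorem Q85540 : ∀ i, i < 85540 → P i := stepQ 85539 Q85539 (allL N85539 (tt N86175 (iv1 F375272)) (tt N86172 (iv0 F377003)) (tt N112016 F479093) (tt N50578 (iv3 D188294)) (tt N94517 (iv4 F404801)) (tt N84112 F373001) (tt N86825 (iv6 F377316)) (tt N52775 F373002))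
theorem Q85541 : ∀ i, i < 85541 → P i := stepQ 85540 Q85540 (allL N85540 (tt N98441 F420931) (tt N113120 (iv0 F484059)) (tt N86307 (iv2 F375773)) (tt N86825 (iv3 F377315)) (tt N50579 F373003) (tt N86824 F377312) (tt N50578 (iv6 D188295)) (tt N70338 F373004))
theorem Q85542 : ∀ i, i < 85542 → P i := stepQ 85541 Q85541 (allL N85541 (tt N84892 (iv1 F373005)) (tt N50580 (iv0 D188296)) (tt N84898 F374470) (tt N104140 F444385) (tt N85919 (iv4 F374466)) (tt N109049 (iv5 F465102)) (tt N104139 (iv6 F444386)) (tt N84897 F374468))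
theorem Q85543 : ∀ i, i < 85543 → P i := stepQ 85542 Q85542 (allL N85542 (tt N50580 (iv1 D188297)) (tt N84892 F373010) (tt N84897 (iv2 F374469)) (tt N114752 D218009) (tt N85920 (iv4 F374476)) (tt N109048 (iv5 F465096)) (tt N93994 F402748) (tt N84898 (iv7 F374471)))
theorem Q85544 : ∀ i, i < 85544 → P i := stepQ 85543 Q85543 (allL N85543 (tt N84898 (iv1 F373011)) (tt N84897 F373009) (tt N50580 (iv2 D188298)) (tt N74888 F373006) (tt N50595 F373007) (tt N113126 (iv5 F484096)) (tt N74887 (iv6 F373013)) (tt N84892 F373008))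
theorem Q85545 : ∀ i, i < 85545 → P i := stepQ 85544 Q85544 (allL N85544 (tt N100321 F428421) (tt N86192 (iv0 F375337)) (tt N74887 F373014) (tt N50581 F373015) (tt N50596 F373016) (tt N73578 F373017) (tt N50580 (iv6 D188299)) (tt N114753 D218010))
theorem Q85546 : ∀ i, i < 85546 → P i := stepQ 85545 Q85545 (allL N85545 (tt N50581 (iv1 D188300)) (tt N62383 F373018) (tt N66768 (iv2 F373021)) (tt N98203 (iv3 F419978)) (tt N82915 (iv4 F373022)) (tt N62244 F373020) (tt N114310 (iv6 F489529)) (tt N73159 F373019))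
theorem Q85547 : ∀ i, i < 85547 → P i := stepQ 85546 Q85546 (allL N85546 (tt N66768 (iv1 F373026)) (tt N73159 F373027) (tt N62383 F373023) (tt N114753 (iv3 F491674)) (tt N50585 F373024) (tt N62376 F373025) (tt N98226 F420058) (tt N50581 (iv7 D188301)))
theorem Q85548 : ∀ i, i < 85548 → P i := stepQ 85547 Q85547 (allL N85547 (tt N98227 (iv1 F420065)) (tt N92770 F398151) (tt N82917 F373028) (tt N84900 F373029) (tt N50586 F373030) (tt N99809 (iv5 F426321)) (tt N50582 (iv6 D188302)) (tt N98226 (iv7 F420057)))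
theorem Q85549 : ∀ i, i < 85549 → P i := stepQ 85548 Q85548 (allL N85548 (tt N114754 D218011) (tt N59542 F419734) (tt N114755 D218012) (tt N50583 (iv3 D188303)) (tt N114756 D218013) (tt N76676 (iv5 F373032)) (tt N106528 F454775) (tt N76675 F373031))
theorem Q85550 : ∀ i, i < 85550 → P i := stepQ 85549 Q85549 (allL N85549 (tt N107907 (iv1 F460217)) (tt N99591 (iv0 F425313)) (tt N73154 F373033) (tt N86072 (iv3 F375052)) (tt N50583 (iv4 D188304)) (tt N62242 F373035) (tt N114757 D218014) (tt N73158 F373034))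
theorem Q85551 : ∀ i, i < 85551 → P i := stepQ 85550 Q85550 (allL N85550 (tt N72994 (iv1 F373041)) (tt N62200 F373040) (tt N73006 F373036) (tt N76676 F373037) (tt N62372 F373039) (tt N50583 (iv5 D188305)) (tt N114758 D218015) (tt N73005 F373038))
theorem Q85552 : ∀ i, i < 85552 → P i := stepQ 85551 Q85551 (allL N85551 (tt N105477 F450413) (tt N114759 D218016) (tt N114751 (iv2 F491663)) (tt N106528 (iv3 F454777)) (tt N114757 (iv4 F491700)) (tt N90295 F389259) (tt N50583 (iv6 D188306)) (tt N114760 D218017))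
theorem Q85553 : ∀ i, i < 85553 → P i := stepQ 85552 Q85552 (allL N85552 (tt N62200 F373047) (tt N72994 F373046) (tt N73005 F373042) (tt N59633 F373043) (tt N62375 F373044) (tt N50584 (iv5 D188307)) (tt N76715 (iv6 F373048)) (tt N73006 F373045))
theorem Q85554 : ∀ i, i < 85554 → P i := stepQ 85553 Q85553 (allL N85553 (tt N110332 (iv1 F471089)) (tt N110345 (iv0 F471147)) (tt N109061 (iv2 F465155)) (tt N50609 F373049) (tt N98226 (iv4 F420061)) (tt N63940 (iv5 F373051)) (tt N50585 (iv6 D188308)) (tt N50586 F373050))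
theorem Q85555 : ∀ i, i < 85555 → P i := stepQ 85554 Q85554 (allL N85554 (tt N109061 (iv1 F465161)) (tt N50586 (iv0 D188309)) (tt N110345 (iv2 F471143)) (tt N109462 (iv3 F467089)) (tt N113108 (iv4 F484003)) (tt N109461 (iv5 F467087)) (tt N113327 (iv6 F485044)) (tt N110332 (iv7 F471087)))
theorem Q85556 : ∀ i, i < 85556 → P i := stepQ 85555 Q85555 (allL N85555 (tt N50586 (iv1 D188310)) (tt N109061 (iv0 F465160)) (tt N110332 (iv2 F471086)) (tt N101282 (iv3 F432514)) (tt N98311 F420454) (tt N101226 (iv5 F432288)) (tt N98310 (iv6 F420455)) (tt N110345 (iv7 F471146)))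
theorem Q85557 : ∀ i, i < 85557 → P i := stepQ 85556 Q85556 (allL N85556 (tt N64287 F373055) (tt N86303 F375763) (tt N50588 F373052) (tt N96459 (iv3 F412610)) (tt N50587 (iv4 D188311)) (tt N79812 F373054) (tt N70511 F373053) (tt N86300 (iv7 F375750)))
theorem Q85558 : ∀ i, i < 85558 → P i := stepQ 85557 Q85557 (allL N85557 (tt N85157 F405145) (tt N103591 (iv0 F442164)) (tt N70511 F373056) (tt N65009 F373057) (tt N50589 F373058) (tt N96313 (iv5 F411975)) (tt N50588 (iv6 D188312)) (tt N70489 F373059))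
theorem Q85559 : ∀ i, i < 85559 → P i := stepQ 85558 Q85558 (allL N85558 (tt N70477 (iv1 F373062)) (tt N50589 (iv0 D188313)) (tt N70488 (iv2 F373061)) (tt N114644 (iv3 F491165)) (tt N105605 (iv4 F450950)) (tt N69548 F373060) (tt N114557 (iv6 F490767)) (tt N70487 F373063))
theorem Q85560 : ∀ i, i < 85560 → P i := stepQ 85559 Q85559 (allL N85559 (tt N85573 F465501) (tt N114761 D218018) (tt N86297 (iv2 F375736)) (tt N92823 (iv3 F398384)) (tt N84074 F373065) (tt N84307 F373066) (tt N50590 (iv6 D188314)) (tt N114741 (iv7 F491608)))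
theorem Q85561 : ∀ i, i < 85561 → P i := stepQ 85560 Q85560 (allL N85560 (tt N85563 F373074) (tt N94146 F403422) (tt N105475 (iv2 F450407)) (tt N50591 (iv3 D188315)) (tt N111268 (iv4 F475540)) (tt N73840 F373067) (tt N98499 F421136) (tt N86296 (iv7 F375735)))
theorem Q85562 : ∀ i, i < 85562 → P i := stepQ 85561 Q85561 (allL N85561 (tt N84064 (iv1 F379086)) (tt N88448 F383091) (tt N88258 (iv2 F382387)) (tt N50593 (iv3 D188316)) (tt N113765 (iv4 F487015)) (tt N50855 F373068) (tt N105527 (iv6 F450590)) (tt N83824 F373069))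
theorem Q85563 : ∀ i, i < 85563 → P i := stepQ 85562 Q85562 (allL N85562 (tt N109658 F467968) (tt N114762 D218019) (tt N84895 F373070) (tt N114763 D218020) (tt N50593 (iv4 D188317)) (tt N114764 D218021) (tt N114480 F490400) (tt N83826 F373071))
theorem Q85564 : ∀ i, i < 85564 → P i := stepQ 85563 Q85563 (allL N85563 (tt N105540 F450651) (tt N85560 (iv0 F373074)) (tt N84896 F373072) (tt N105527 (iv3 F450589)) (tt N114480 (iv4 F490397)) (tt N69761 F373073) (tt N50593 (iv6 D188318)) (tt N109770 (iv7 F468533)))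
theorem Q85565 : ∀ i, i < 85565 → P i := stepQ 85564 Q85564 (allL N85564 (tt N88892 (iv1 F384449)) (tt N85490 (iv0 F373078)) (tt N86776 (iv2 F377141)) (tt N50594 (iv3 D188319)) (tt N114666 (iv4 F491278)) (tt N50857 F373076) (tt N89161 (iv6 F385399)) (tt N84894 F373077))
theorem Q85566 : ∀ i, i < 85566 → P i := stepQ 85565 Q85565 (allL N85565 (tt N114762 (iv1 F491725)) (tt N109658 F467969) (tt N83826 F373079) (tt N113106 (iv3 F483997)) (tt N50594 (iv4 D188320)) (tt N114765 D218022) (tt N89162 (iv6 F385401)) (tt N84895 F373080))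
theorem Q85567 : ∀ i, i < 85567 → P i := stepQ 85566 Q85566 (allL N85566 (tt N108061 (iv1 F460942)) (tt N99766 F426136) (tt N50596 F373081) (tt N82935 F373082) (tt N74887 F373083) (tt N99972 (iv5 F427015)) (tt N50595 (iv6 D188321)) (tt N100199 (iv7 F427956)))
theorem Q85568 : ∀ i, i < 85568 → P i := stepQ 85567 Q85567 (allL N85567 (tt N50596 (iv1 D188323)) (tt N100199 (iv0 F427957)) (tt N99766 (iv2 F426130)) (tt N99541 (iv3 F425061)) (tt N63303 F425055) (tt N99540 (iv5 F425054)) (tt N114288 (iv6 F489409)) (tt N108061 (iv7 F460939)))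
theorem Q85569 : ∀ i, i < 85569 → P i := stepQ 85568 Q85568 (allL N85568 (tt N99766 F426135) (tt N108061 F460941) (tt N100199 (iv2 F427954)) (tt N50600 F373084) (tt N114753 (iv4 F491675)) (tt N99973 (iv5 F427027)) (tt N84903 F373085) (tt N50596 (iv7 D188324)))
theorem Q85570 : ∀ i, i < 85570 → P i := stepQ 85569 Q85569 (allL N85569 (tt N99889 F426696) (tt N85499 (iv0 F461002)) (tt N108292 (iv2 F461920)) (tt N50597 (iv3 D188326)) (tt N95038 (iv4 F406758)) (tt N108072 (iv5 F461000)) (tt N114766 D218023) (tt N85604 (iv7 F378684)))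
theorem Q85571 : ∀ i, i < 85571 → P i := stepQ 85570 Q85570 (allL N85570 (tt N77347 F373087) (tt N109134 (iv0 F465498)) (tt N85602 (iv2 F378692)) (tt N108072 F460998) (tt N102950 (iv4 F439396)) (tt N50597 (iv5 D188328)) (tt N109094 (iv6 F465308)) (tt N85605 F378683))
theorem Q85572 : ∀ i, i < 85572 → P i := stepQ 85571 Q85571 (allL N85571 (tt N84075 F385620) (tt N90456 F389711) (tt N85603 (iv2 F378693)) (tt N114766 (iv3 F491748)) (tt N90964 (iv4 F391398)) (tt N51122 F373088) (tt N50597 (iv6 D188329)) (tt N90455 (iv7 F389708)))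
theorem Q85573 : ∀ i, i < 85573 → P i := stepQ 85572 Q85572 (allL N85572 (tt N84063 F426174) (tt N99775 (iv0 F426182)) (tt N109214 (iv2 F465810)) (tt N50598 (iv3 D188331)) (tt N73259 F378690) (tt N99774 (iv5 F426171)) (tt N114767 D218024) (tt N85601 (iv7 F378691)))
theorem Q85574 : ∀ i, i < 85574 → P i := stepQ 85573 Q85573 (allL N85573 (tt N113978 (iv1 F488049)) (tt N85559 (iv0 F465501)) (tt N85606 F378700) (tt N114767 (iv3 F491750)) (tt N113750 F486961) (tt N113938 (iv5 F487877)) (tt N50598 (iv6 D188333)) (tt N114768 D218025))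
theorem Q85575 : ∀ i, i < 85575 → P i := stepQ 85574 Q85574 (allL N85574 (tt N50599 (iv1 D188334)) (tt N84148 F373090) (tt N84150 (iv2 F373092)) (tt N91254 (iv3 F392418)) (tt N86999 F378004) (tt N86348 (iv5 F375884)) (tt N84143 (iv6 F373093)) (tt N77287 F373091))
theorem Q85576 : ∀ i, i < 85576 → P i := stepQ 85575 Q85575 (allL N85575 (tt N87087 F378330) (tt N89883 F387860) (tt N58243 F373094) (tt N87450 F379363) (tt N50599 (iv4 D188335)) (tt N58238 F373095) (tt N54472 F373096) (tt N87451 (iv7 F379367)))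
theorem Q85577 : ∀ i, i < 85577 → P i := stepQ 85576 Q85576 (allL N85576 (tt N84150 (iv1 F373100)) (tt N77287 F373101) (tt N84148 F373097) (tt N99973 F427025) (tt N87451 (iv4 F379369)) (tt N50600 F373098) (tt N84202 F373099) (tt N50599 (iv7 D188336)))
theorem Q85578 : ∀ i, i < 85578 → P i := stepQ 85577 Q85577 (allL N85577 (tt N113248 F484705) (tt N50601 (iv0 D188337)) (tt N113853 (iv2 F487459)) (tt N95684 F409134) (tt N105037 (iv4 F448500)) (tt N101338 F432700) (tt N105036 F448498) (tt N86284 (iv7 F409135)))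
theorem Q85579 : ∀ i, i < 85579 → P i := stepQ 85578 Q85578 (allL N85578 (tt N113853 (iv1 F487464)) (tt N86284 (iv0 F375687)) (tt N50601 (iv2 D188339)) (tt N71185 F373103) (tt N113251 (iv4 F484711)) (tt N71174 (iv5 F373104)) (tt N71177 (iv6 F373105)) (tt N113248 (iv7 F484702)))
theorem Q85580 : ∀ i, i < 85580 → P i := stepQ 85579 Q85579 (allL N85579 (tt N113250 (iv1 F484706)) (tt N113249 F484713) (tt N113251 (iv2 F484709)) (tt N89688 (iv3 F387218)) (tt N50601 (iv4 D188340)) (tt N108367 (iv5 F462280)) (tt N114769 D218026) (tt N89681 F387208))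
theorem Q85581 : ∀ i, i < 85581 → P i := stepQ 85580 Q85580 (allL N85580 (tt N114770 D218027) (tt N104770 (iv0 F447186)) (tt N71174 F373106) (tt N50603 F373107) (tt N81432 F373109) (tt N50601 (iv5 D188341)) (tt N71169 (iv6 F373108)) (tt N114345 (iv7 F489732)))
theorem Q85582 : ∀ i, i < 85582 → P i := stepQ 85581 Q85581 (allL N85581 (tt N105465 F450371) (tt N106571 F454907) (tt N71177 F373110) (tt N50604 F373111) (tt N114769 (iv4 F491761)) (tt N71170 F373112) (tt N50601 (iv6 D188342)) (tt N106570 (iv7 F454903)))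
theorem Q85583 : ∀ i, i < 85583 → P i := stepQ 85582 Q85582 (allL N85582 (tt N72805 (iv1 F373132)) (tt N72810 (iv0 F373131)) (tt N88887 (iv2 F384429)) (tt N50602 (iv3 D188343)) (tt N89688 (iv4 F387219)) (tt N73362 F373130) (tt N107122 (iv6 F457078)) (tt N88888 (iv7 F384430)))
theorem Q85584 : ∀ i, i < 85584 → P i := stepQ 85583 Q85583 (allL N85583 (tt N62751 F373114) (tt N75122 F373129) (tt N75120 (iv2 F373117)) (tt N73362 (iv3 F373115)) (tt N106808 (iv4 F455769)) (tt N50602 (iv5 D188344)) (tt N96185 (iv6 F411388)) (tt N75121 F373116))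
theorem Q85585 : ∀ i, i < 85585 → P i := stepQ 85584 Q85584 (allL N85584 (tt N83928 F384772) (tt N88931 F384773) (tt N88930 (iv2 F384552)) (tt N107122 (iv3 F457077)) (tt N50604 F373133) (tt N53638 F373134) (tt N50602 (iv6 D188345)) (tt N88929 F384856))
theorem Q85586 : ∀ i, i < 85586 → P i := stepQ 85585 Q85585 (allL N85585 (tt N50607 (iv1 F373136)) (tt N50603 (iv0 D188346)) (tt N58324 F373139) (tt N114771 D218028) (tt N58323 (iv4 F373138)) (tt N85521 F373135) (tt N114772 D218029) (tt N54048 (iv7 F373137)))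
theorem Q85587 : ∀ i, i < 85587 → P i := stepQ 85586 Q85586 (allL N85586 (tt N50603 (iv1 D188347)) (tt N50607 F373143) (tt N54048 F373147) (tt N62200 F373148) (tt N57947 (iv4 F373149)) (tt N54287 (iv5 F373145)) (tt N53274 (iv6 F373146)) (tt N58324 F373144))
theorem Q85588 : ∀ i, i < 85588 → P i := stepQ 85587 Q85587 (allL N85587 (tt N114773 D218030) (tt N89759 (iv0 F387566)) (tt N94963 (iv2 F406524)) (tt N94553 F404947) (tt N50603 (iv4 D188348)) (tt N95109 (iv5 F407082)) (tt N100628 (iv6 F429760)) (tt N95678 (iv7 F409110)))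
theorem Q85589 : ∀ i, i < 85589 → P i := stepQ 85588 Q85588 (allL N85588 (tt N71206 F373154) (tt N71205 F373155) (tt N70843 F373151) (tt N71169 F373152) (tt N100628 (iv4 F429758)) (tt N70842 F373153) (tt N50603 (iv6 D188349)) (tt N71203 F373156))
theorem Q85590 : ∀ i, i < 85590 → P i := stepQ 85589 Q85589 (allL N85589 (tt N50604 (iv1 D188350)) (tt N90656 (iv0 F390425)) (tt N90579 (iv2 F390158)) (tt N114759 F491711) (tt N90456 (iv4 F389709)) (tt N89217 (iv5 F385644)) (tt N114741 (iv6 F491607)) (tt N86298 F375743))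
theorem Q85591 : ∀ i, i < 85591 → P i := stepQ 85590 Q85590 (allL N85590 (tt N90579 F390161) (tt N86298 (iv0 F375891)) (tt N90656 (iv2 F390420)) (tt N106570 (iv3 F454901)) (tt N88929 F384857) (tt N86349 F375888) (tt N113858 F487494) (tt N50604 (iv7 D188351)))
theorem Q85592 : ∀ i, i < 85592 → P i := stepQ 85591 Q85591 (allL N85591 (tt N50605 (iv1 D188352)) (tt N71185 F373159) (tt N114344 F489727) (tt N114754 F491685) (tt N114774 D218031) (tt N114659 (iv5 F491243)) (tt N114724 (iv6 F491542)) (tt N86302 F375759))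
theorem Q85593 : ∀ i, i < 85593 → P i := stepQ 85592 Q85592 (allL N85592 (tt N86302 (iv1 F388363)) (tt N114344 F489728) (tt N50605 (iv2 D188353)) (tt N113248 (iv3 F484700)) (tt N72836 F373157) (tt N71186 (iv5 F373160)) (tt N113247 F484697) (tt N71185 F373158))
theorem Q85594 : ∀ i, i < 85594 → P i := stepQ 85593 Q85593 (allL N85593 (tt N71184 (iv1 F373167)) (tt N71183 F373168) (tt N71186 F373161) (tt N50607 F373162) (tt N67718 F373163) (tt N50605 (iv5 D188354)) (tt N71214 (iv6 F373166)) (tt N70845 F373164))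
theorem Q85595 : ∀ i, i < 85595 → P i := stepQ 85594 Q85594 (allL N85594 (tt N114775 D218032) (tt N110203 (iv0 F470416)) (tt N113247 (iv2 F484694)) (tt N50608 F373169) (tt N105364 (iv4 F449898)) (tt N114776 D218033) (tt N50605 (iv6 D188355)) (tt N106531 (iv7 F454787)))
theorem Q85596 : ∀ i, i < 85596 → P i := stepQ 85595 Q85595 (allL N85595 (tt N114399 (iv1 F489964)) (tt N85427 (iv0 F450897)) (tt N88969 (iv2 F384620)) (tt N105296 (iv3 F449613)) (tt N50608 F373170) (tt N114689 (iv5 F491372)) (tt N50606 (iv6 D188356)) (tt N114777 D218034))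
theorem Q85597 : ∀ i, i < 85597 → P i := stepQ 85596 Q85596 (allL N85596 (tt N89759 F405590) (tt N114773 F491783) (tt N95678 (iv2 F409106)) (tt N67728 F373171) (tt N50607 (iv4 D188357)) (tt N94700 (iv5 F405586)) (tt N89804 F387609) (tt N94963 (iv7 F406527)))
theorem Q85598 : ∀ i, i < 85598 → P i := stepQ 85597 Q85597 (allL N85597 (tt N54057 F373177) (tt N53277 (iv0 F373178)) (tt N54054 F373174) (tt N71214 F373175) (tt N89804 (iv4 F387608)) (tt N114778 D218035) (tt N50607 (iv6 D188358)) (tt N54055 F373176))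
theorem Q85599 : ∀ i, i < 85599 → P i := stepQ 85598 Q85598 (allL N85598 (tt N113858 (iv1 F487492)) (tt N50608 (iv0 D188359)) (tt N111145 (iv2 F474914)) (tt N83380 (iv3 F373180)) (tt N113978 (iv4 F488048)) (tt N54608 F373179) (tt N113859 (iv6 F487500)) (tt N54292 (iv7 F373181)))
theorem Q85600 : ∀ i, i < 85600 → P i := stepQ 85599 Q85599 (allL N85599 (tt N85483 F389679) (tt N85482 (iv0 F373182)) (tt N114346 (iv2 F489740)) (tt N114776 (iv3 F491793)) (tt N114779 D218036) (tt N50608 (iv5 D188360)) (tt N114778 (iv6 F491808)) (tt N90798 F390907))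
theorem Q85601 : ∀ i, i < 85601 → P i := stepQ 85600 Q85600 (allL N85600 (tt N54292 (iv1 F373183)) (tt N111145 F474918) (tt N113858 (iv2 F487495)) (tt N106531 (iv3 F454785)) (tt N114777 (iv4 F491799)) (tt N90798 (iv5 F390906)) (tt N90656 (iv6 F390426)) (tt N50608 (iv7 D188361)))
theorem Q85602 : ∀ i, i < 85602 → P i := stepQ 85601 Q85601 (allL N85601 (tt N105036 F448496) (tt N75141 F393167) (tt N113848 F487435) (tt N50610 (iv3 D188363)) (tt N72577 F373185) (tt N75133 (iv5 F373186)) (tt N114780 D218037) (tt N85572 F378691))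
theorem Q85603 : ∀ i, i < 85603 → P i := stepQ 85602 Q85602 (allL N85602 (tt N110336 (iv1 F471110)) (tt N84261 (iv0 F387222)) (tt N85570 F378692) (tt N75133 F373187) (tt N95141 (iv4 F407211)) (tt N50610 (iv5 D188364)) (tt N114781 D218038) (tt N84277 (iv7 F378699)))
theorem Q85604 : ∀ i, i < 85604 → P i := stepQ 85603 Q85603 (allL N85603 (tt N54294 F374456) (tt N113859 F487501) (tt N85571 F378693) (tt N114780 (iv3 F491816)) (tt N88979 (iv4 F384633)) (tt N85917 F374455) (tt N50610 (iv6 D188365)) (tt N86267 (iv7 F378696)))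
theorem Q85605 : ∀ i, i < 85605 → P i := stepQ 85604 Q85604 (allL N85604 (tt N75570 F393571) (tt N114724 F491543) (tt N114723 (iv2 F491538)) (tt N50611 (iv3 D188367)) (tt N58705 (iv4 F373189)) (tt N73710 (iv5 F393570)) (tt N114782 D218039) (tt N85569 F378684))
theorem Q85606 : ∀ i, i < 85606 → P i := stepQ 85605 Q85605 (allL N85605 (tt N84261 (iv1 F387223)) (tt N110336 (iv0 F471109)) (tt N84277 (iv2 F378678)) (tt N73710 F393569) (tt N95146 (iv4 F407228)) (tt N50611 (iv5 D188368)) (tt N83872 F373191) (tt N85570 (iv7 F378683)))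
theorem Q85607 : ∀ i, i < 85607 → P i := stepQ 85606 Q85606 (allL N85606 (tt N114741 (iv1 F491609)) (tt N86297 (iv0 F429735)) (tt N85573 (iv2 F378700)) (tt N114782 (iv3 F491828)) (tt N88924 (iv4 F387567)) (tt N114783 D218040) (tt N50611 (iv6 D188369)) (tt N114761 (iv7 F491719)))
theorem Q85608 : ∀ i, i < 85608 → P i := stepQ 85607 Q85607 (allL N85607 (tt N98417 (iv1 F420872)) (tt N98349 (iv0 F420611)) (tt N86214 (iv2 F375398)) (tt N50614 F373192) (tt N86212 (iv4 F375389)) (tt N110182 (iv5 F470303)) (tt N50612 (iv6 D188370)) (tt N98429 (iv7 F420895)))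
theorem Q85609 : ∀ i, i < 85609 → P i := stepQ 85608 Q85608 (allL N85608 (tt N85649 (iv1 F373370)) (tt N85648 (iv0 F373368)) (tt N85650 (iv2 F373387)) (tt N98429 F420897) (tt N73770 F373193) (tt N110026 (iv5 F469616)) (tt N85646 (iv6 F373355)) (tt N50614 (iv7 D188372)))
theorem Q85610 : ∀ i, i < 85610 → P i := stepQ 85609 Q85609 (allL N85609 (tt N80611 (iv1 F373197)) (tt N64798 F373196) (tt N50615 (iv2 D188373)) (tt N85641 (iv3 F373330)) (tt N56740 F373194) (tt N55315 F373195) (tt N64858 F373198) (tt N85647 (iv7 F373361)))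
theorem Q85611 : ∀ i, i < 85611 → P i := stepQ 85610 Q85610 (allL N85610 (tt N64507 F373203) (tt N64860 (iv0 F373204)) (tt N64858 F373200) (tt N50617 F373201) (tt N62202 F373202) (tt N90216 (iv5 F388949)) (tt N50615 (iv6 D188374)) (tt N64857 F400484))
theorem Q85612 : ∀ i, i < 85612 → P i := stepQ 85611 Q85611 (allL N85611 (tt N94531 (iv1 F404867)) (tt N57825 (iv0 F402501)) (tt N85644 (iv2 F373345)) (tt N65279 F373205) (tt N50617 F373206) (tt N70216 F373207) (tt N50616 (iv6 D188375)) (tt N94532 (iv7 F405195)))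
theorem Q85613 : ∀ i, i < 85613 → P i := stepQ 85612 Q85612 (allL N85612 (tt N50617 (iv1 D188376)) (tt N85646 F373356) (tt N85645 (iv2 F373350)) (tt N82581 F373210) (tt N114784 D218041) (tt N82580 (iv5 F373209)) (tt N113313 (iv6 F484973)) (tt N64739 F373208))
theorem Q85614 : ∀ i, i < 85614 → P i := stepQ 85613 Q85613 (allL N85613 (tt N85645 (iv1 F373347)) (tt N64739 F373352) (tt N85646 (iv2 F373353)) (tt N64857 F400485) (tt N94532 F405197) (tt N90220 (iv5 F388968)) (tt N85650 (iv6 F373390)) (tt N50617 (iv7 D188377)))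
theorem Q85615 : ∀ i, i < 85615 → P i := stepQ 85614 Q85614 (allL N85614 (tt N102320 F436716) (tt N114785 D218042) (tt N98679 (iv2 F421827)) (tt N50618 (iv3 D188378)) (tt N83097 F375606) (tt N55258 F373211) (tt N95864 (iv6 F410008)) (tt N85651 (iv7 F373393)))
theorem Q85616 : ∀ i, i < 85616 → P i := stepQ 85615 Q85615 (allL N85615 (tt N93767 F401830) (tt N98298 (iv0 F420392)) (tt N92857 (iv2 F398533)) (tt N50619 (iv3 D188379)) (tt N50967 F373212) (tt N55256 F373213) (tt N94515 F404794) (tt N85652 (iv7 F373396)))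
theorem Q85617 : ∀ i, i < 85617 → P i := stepQ 85616 Q85616 (allL N85616 (tt N113314 F484982) (tt N114784 (iv0 F491843)) (tt N71307 F373215) (tt N94515 (iv3 F404793)) (tt N55309 F373216) (tt N94592 (iv5 F405101)) (tt N50619 (iv6 D188380)) (tt N110188 (iv7 F470335)))
theorem Q85618 : ∀ i, i < 85618 → P i := stepQ 85617 Q85617 (allL N85617 (tt N113308 (iv1 F484953)) (tt N96572 (iv0 F427968)) (tt N109857 (iv2 F468945)) (tt N50621 (iv3 D188381)) (tt N98207 (iv4 F419988)) (tt N96513 F412810) (tt N114786 D218043) (tt N108145 (iv7 F461304)))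
theorem Q85619 : ∀ i, i < 85619 → P i := stepQ 85618 Q85618 (allL N85618 (tt N73162 (iv1 F373220)) (tt N73007 F373219) (tt N70281 F373217) (tt N96513 (iv3 F412809)) (tt N73138 F373218) (tt N50621 (iv5 D188382)) (tt N70276 (iv6 F373221)) (tt N86316 F375807))
theorem Q85620 : ∀ i, i < 85620 → P i := stepQ 85619 Q85619 (allL N85619 (tt N113313 (iv1 F484975)) (tt N64736 (iv0 F373226)) (tt N70283 F373222) (tt N114786 (iv3 F491851)) (tt N73115 F373223) (tt N70277 F373224) (tt N50621 (iv6 D188383)) (tt N82814 (iv7 F373225)))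
theorem Q85621 : ∀ i, i < 85621 → P i := stepQ 85620 Q85620 (allL N85620 (tt N73007 F373231) (tt N73162 F373232) (tt N86316 (iv2 F375804)) (tt N58312 F373227) (tt N73120 F373228) (tt N50622 (iv5 D188384)) (tt N82932 F373229) (tt N70281 F373230))
theorem Q85622 : ∀ i, i < 85622 → P i := stepQ 85621 Q85621 (allL N85621 (tt N52110 (iv1 F373237)) (tt N50623 (iv0 D188385)) (tt N52115 (iv2 F373236)) (tt N84654 F373233) (tt N51576 F373234) (tt N86090 (iv5 F375086)) (tt N84643 F373235) (tt N52114 F373239))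
theorem Q85623 : ∀ i, i < 85623 → P i := stepQ 85622 Q85622 (allL N85622 (tt N52115 (iv1 F373244)) (tt N52114 F373243) (tt N50623 (iv2 D188386)) (tt N53925 F373240) (tt N89597 (iv4 F386900)) (tt N53924 (iv5 F373245)) (tt N84479 F373241) (tt N52110 F373242))
theorem Q85624 : ∀ i, i < 85624 → P i := stepQ 85623 Q85623 (allL N85623 (tt N55272 F373251) (tt N52193 F373249) (tt N53924 F373246) (tt N50624 F373247) (tt N53971 F373250) (tt N50623 (iv5 D188387)) (tt N74624 (iv6 F373252)) (tt N52116 F373248))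
theorem Q85625 : ∀ i, i < 85625 → P i := stepQ 85624 Q85624 (allL N85624 (tt N111582 F477012) (tt N106712 F455363) (tt N79566 F373253) (tt N74624 F373254) (tt N55257 F373255) (tt N79565 F373256) (tt N50624 (iv6 D188388)) (tt N109309 (iv7 F466324)))
theorem Q85626 : ∀ i, i < 85626 → P i := stepQ 85625 Q85625 (allL N85625 (tt N52258 F373261) (tt N53894 F373262) (tt N53893 F373257) (tt N50626 F373258) (tt N53883 F373260) (tt N50625 (iv5 D188389)) (tt N74324 (iv6 F373263)) (tt N53882 F373259))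
theorem Q85627 : ∀ i, i < 85627 → P i := stepQ 85626 Q85626 (allL N85626 (tt N57225 (iv1 F373269)) (tt N57222 (iv0 F373268)) (tt N52127 F373264) (tt N74324 F373265) (tt N55259 F373266) (tt N51782 F373267) (tt N50626 (iv6 D188390)) (tt N96048 (iv7 F410794)))
theorem Q85628 : ∀ i, i < 85628 → P i := stepQ 85627 Q85627 (allL N85627 (tt N91584 (iv1 F393705)) (tt N50629 (iv0 D188391)) (tt N91582 (iv2 F415741)) (tt N108256 (iv3 F461725)) (tt N114787 D218044) (tt N114788 D218045) (tt N108255 F461723) (tt N91583 (iv7 F415743)))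
theorem Q85629 : ∀ i, i < 85629 → P i := stepQ 85628 Q85628 (allL N85628 (tt N50629 (iv1 D188392)) (tt N91584 F393704) (tt N91583 F415742) (tt N67351 (iv3 F415739)) (tt N104371 (iv4 F445461)) (tt N114789 D218046) (tt N102323 (iv6 F436727)) (tt N91582 F415740))
theorem Q85630 : ∀ i, i < 85630 → P i := stepQ 85629 Q85629 (allL N85629 (tt N91583 (iv1 F393701)) (tt N91582 (iv0 F393700)) (tt N91584 (iv2 F393702)) (tt N81127 F373270) (tt N81128 F373271) (tt N84612 F373272) (tt N85672 (iv6 F373465)) (tt N50629 (iv7 D188393)))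
theorem Q85631 : ∀ i, i < 85631 → P i := stepQ 85630 Q85630 (allL N85630 (tt N106327 F454044) (tt N107314 (iv0 F457929)) (tt N63468 F373273) (tt N50634 F373274) (tt N63416 F373275) (tt N83184 F373276) (tt N50632 (iv6 D188394)) (tt N78325 F373277))
theorem Q85632 : ∀ i, i < 85632 → P i := stepQ 85631 Q85631 (allL N85631 (tt N50634 (iv1 D188395)) (tt N83111 F373279) (tt N83145 (iv2 F373281)) (tt N107479 (iv3 F458460)) (tt N113320 (iv4 F485013)) (tt N66418 (iv5 F373282)) (tt N103121 (iv6 F440171)) (tt N83144 F373280))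
theorem Q85633 : ∀ i, i < 85633 → P i := stepQ 85632 Q85632 (allL N85632 (tt N83145 (iv1 F373289)) (tt N83144 F373290) (tt N83111 F373285) (tt N78325 F373286) (tt N94728 F405699) (tt N83192 F373287) (tt N55356 F373288) (tt N50634 (iv7 D188396)))
theorem Q85634 : ∀ i, i < 85634 → P i := stepQ 85633 Q85633 (allL N85633 (tt N106373 F454200) (tt N114316 F489557) (tt N53822 F373291) (tt N114790 D218047) (tt N50635 (iv4 D188397)) (tt N114791 D218048) (tt N111282 (iv6 F475619)) (tt N83146 F373292))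
theorem Q85635 : ∀ i, i < 85635 → P i := stepQ 85634 Q85634 (allL N85634 (tt N111287 F475649) (tt N109705 (iv0 F468212)) (tt N53823 F373293) (tt N50638 F373294) (tt N111282 (iv4 F475615)) (tt N111298 (iv5 F475694)) (tt N50635 (iv6 D188398)) (tt N101245 (iv7 F432380)))
theorem Q85636 : ∀ i, i < 85636 → P i := stepQ 85635 Q85635 (allL N85635 (tt N91611 (iv1 F393775)) (tt N77115 (iv0 F373297)) (tt N112201 (iv2 F480030)) (tt N50637 (iv3 D188399)) (tt N114790 (iv4 F491875)) (tt N67086 F373295) (tt N114792 D218049) (tt N83148 F373296))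
theorem Q85637 : ∀ i, i < 85637 → P i := stepQ 85636 Q85636 (allL N85636 (tt N73494 (iv1 F373301)) (tt N73493 F373302) (tt N50654 F373298) (tt N114792 (iv3 F491889)) (tt N50638 F373299) (tt N114793 D218050) (tt N50637 (iv6 D188400)) (tt N73482 F373300))
theorem Q85638 : ∀ i, i < 85638 → P i := stepQ 85637 Q85637 (allL N85637 (tt N55115 F373306) (tt N55117 (iv0 F373307)) (tt N83216 F373303) (tt N50640 F373304) (tt N99201 (iv4 F423677)) (tt N50639 (iv5 D188401)) (tt N90994 F391500) (tt N55230 F373305))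
theorem Q85639 : ∀ i, i < 85639 → P i := stepQ 85638 Q85638 (allL N85638 (tt N55215 F373311) (tt N73647 (iv0 F373312)) (tt N50664 F373308) (tt N90994 (iv3 F391501)) (tt N62346 F373309) (tt N55159 F373310) (tt N50640 (iv6 D188402)) (tt N96073 (iv7 F410915)))
theorem Q85640 : ∀ i, i < 85640 → P i := stepQ 85639 Q85639 (allL N85639 (tt N113265 (iv1 F484780)) (tt N113266 (iv0 F484784)) (tt N83269 F373313) (tt N58008 F373314) (tt N50643 F373315) (tt N58148 (iv5 F373316)) (tt N50642 (iv6 D188403)) (tt N97653 (iv7 F417787)))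
theorem Q85641 : ∀ i, i < 85641 → P i := stepQ 85640 Q85640 (allL N85640 (tt N50643 (iv1 D188404)) (tt N83263 F373320) (tt N83271 (iv2 F373329)) (tt N114794 D218051) (tt N94775 (iv4 F405881)) (tt N58997 F373322) (tt N64721 (iv6 F373323)) (tt N83270 F373321))
theorem Q85642 : ∀ i, i < 85642 → P i := stepQ 85641 Q85641 (allL N85641 (tt N83228 (iv1 F373334)) (tt N54015 F373332) (tt N50644 (iv2 D188405)) (tt N85609 F373330) (tt N50839 F373333) (tt N91500 (iv5 F393394)) (tt N101409 (iv6 F432878)) (tt N51081 F373331))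
theorem Q85643 : ∀ i, i < 85643 → P i := stepQ 85642 Q85642 (allL N85642 (tt N51080 F373339) (tt N51079 (iv0 F373341)) (tt N50839 F373335) (tt N51060 F373336) (tt N50644 (iv4 D188406)) (tt N50838 F373338) (tt N114795 D218052) (tt N51077 F373337))
theorem Q85644 : ∀ i, i < 85644 → P i := stepQ 85643 Q85643 (allL N85643 (tt N71132 F388754) (tt N101919 (iv0 F434946)) (tt N101409 (iv2 F432876)) (tt N50646 F373343) (tt N114795 (iv4 F491910)) (tt N54203 F373344) (tt N50644 (iv6 D188407)) (tt N101920 (iv7 F434947)))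
theorem Q85645 : ∀ i, i < 85645 → P i := stepQ 85644 Q85644 (allL N85644 (tt N57758 F386082) (tt N94610 (iv0 F405193)) (tt N85611 F373345) (tt N96066 (iv3 F410880)) (tt N50646 F373346) (tt N90337 (iv5 F389378)) (tt N50645 (iv6 D188408)) (tt N94612 (iv7 F405207)))
theorem Q85646 : ∀ i, i < 85646 → P i := stepQ 85645 Q85645 (allL N85645 (tt N50646 (iv1 D188409)) (tt N85613 F373347) (tt N85612 F373350) (tt N54523 F373351) (tt N106391 (iv4 F454261)) (tt N71200 (iv5 F373349)) (tt N101259 (iv6 F432436)) (tt N83259 F373348))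
theorem Q85647 : ∀ i, i < 85647 → P i := stepQ 85646 Q85646 (allL N85646 (tt N85612 (iv1 F373356)) (tt N83259 F373357) (tt N85613 F373353) (tt N101920 F434949) (tt N94612 F405211) (tt N54210 F373354) (tt N85608 F373355) (tt N50646 (iv7 D188410)))
theorem Q85648 : ∀ i, i < 85648 → P i := stepQ 85647 Q85647 (allL N85647 (tt N53469 (iv1 F373363)) (tt N53468 F373362) (tt N50647 (iv2 D188411)) (tt N51081 F373358) (tt N51085 F373359) (tt N78171 F373360) (tt N99382 F424352) (tt N85609 F373361))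
theorem Q85649 : ∀ i, i < 85649 → P i := stepQ 85648 Q85648 (allL N85648 (tt N85608 F373368) (tt N50649 (iv0 D188412)) (tt N77078 (iv2 F373365)) (tt N91694 (iv3 F394073)) (tt N77098 (iv4 F373367)) (tt N76969 F373364) (tt N94730 (iv6 F405708)) (tt N77096 (iv7 F373366)))
theorem Q85650 : ∀ i, i < 85650 → P i := stepQ 85649 Q85649 (allL N85649 (tt N50649 (iv1 D188413)) (tt N85608 F373370) (tt N77096 F373373) (tt N89844 (iv3 F387706)) (tt N76973 F373374) (tt N77079 (iv5 F373372)) (tt N85246 (iv6 F373375)) (tt N77078 F373371))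
theorem Q85651 : ∀ i, i < 85651 → P i := stepQ 85650 Q85650 (allL N85650 (tt N77096 (iv1 F373391)) (tt N77078 F373392) (tt N85608 F373387) (tt N99381 F424364) (tt N77085 F373388) (tt N76872 F373389) (tt N85613 F373390) (tt N50649 (iv7 D188414)))
theorem Q85652 : ∀ i, i < 85652 → P i := stepQ 85651 Q85651 (allL N85651 (tt N93561 F401138) (tt N114796 D218053) (tt N89071 (iv2 F385040)) (tt N50650 (iv3 D188415)) (tt N105128 (iv4 F448917)) (tt N89064 F385030) (tt N105127 F448914) (tt N85614 F373393))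
theorem Q85653 : ∀ i, i < 85653 → P i := stepQ 85652 Q85652 (allL N85652 (tt N61292 F373397) (tt N61296 (iv0 F373399)) (tt N78866 (iv2 F373400)) (tt N50651 (iv3 D188416)) (tt N61125 F373394) (tt N76978 F373395) (tt N114797 D218054) (tt N85615 F373396))
theorem Q85654 : ∀ i, i < 85654 → P i := stepQ 85653 Q85653 (allL N85653 (tt N77098 F373404) (tt N76973 (iv0 F373405)) (tt N77094 F373401) (tt N114797 (iv3 F491922)) (tt N82739 F373402) (tt N66560 F373403) (tt N50651 (iv6 D188417)) (tt N77095 (iv7 F373406)))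
theorem Q85655 : ∀ i, i < 85655 → P i := stepQ 85654 Q85654 (allL N85654 (tt N56746 (iv1 F373408)) (tt N50652 (iv0 D188418)) (tt N62349 (iv2 F373407)) (tt N72206 F373411) (tt N94721 (iv4 F405665)) (tt N77117 F373412) (tt N72204 (iv6 F373410)) (tt N62348 F373409))
theorem Q85656 : ∀ i, i < 85656 → P i := stepQ 85655 Q85655 (allL N85655 (tt N62349 (iv1 F373418)) (tt N62348 F373417) (tt N50652 (iv2 D188419)) (tt N112201 (iv3 F480031)) (tt N58284 F373414) (tt N95268 (iv5 F407644)) (tt N73445 F373415) (tt N56746 F373416))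
theorem Q85657 : ∀ i, i < 85657 → P i := stepQ 85656 Q85656 (allL N85656 (tt N95267 (iv1 F407643)) (tt N65475 F373421) (tt N95268 F407645) (tt N50653 F373419) (tt N114798 D218055) (tt N50652 (iv5 D188420)) (tt N112198 (iv6 F480015)) (tt N62350 F373420))
theorem Q85658 : ∀ i, i < 85658 → P i := stepQ 85657 Q85657 (allL N85657 (tt N112203 (iv1 F480043)) (tt N112202 F480037) (tt N81249 F373422) (tt N112198 (iv3 F480014)) (tt N55231 F373423) (tt N114799 D218056) (tt N50653 (iv6 D188421)) (tt N112204 (iv7 F480042)))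
theorem Q85659 : ∀ i, i < 85659 → P i := stepQ 85658 Q85658 (allL N85658 (tt N73482 (iv1 F373424)) (tt N50654 (iv0 D188422)) (tt N73494 (iv2 F387640)) (tt N114800 D218057) (tt N83124 (iv4 F393081)) (tt N114801 D218058) (tt N85245 F373429) (tt N73493 F387645))
theorem Q85660 : ∀ i, i < 85660 → P i := stepQ 85659 Q85659 (allL N85659 (tt N50654 (iv1 D188423)) (tt N73482 F373425) (tt N73493 F387644) (tt N85363 (iv3 F373426)) (tt N76955 (iv4 F373430)) (tt N114802 D218059) (tt N77198 F373431) (tt N73494 (iv7 F387643)))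
theorem Q85661 : ∀ i, i < 85661 → P i := stepQ 85660 Q85660 (allL N85660 (tt N114803 D218060) (tt N114804 D218061) (tt N114793 (iv2 F491895)) (tt N73521 F373432) (tt N114805 D218062) (tt N50654 (iv5 D188424)) (tt N114799 (iv6 F491936)) (tt N73495 F373433))
theorem Q85662 : ∀ i, i < 85662 → P i := stepQ 85661 Q85661 (allL N85661 (tt N101033 (iv1 F431375)) (tt N83248 (iv0 F431370)) (tt N101035 (iv2 F431387)) (tt N50655 (iv3 D188425)) (tt N60736 F391167) (tt N101024 (iv5 F431331)) (tt N60738 (iv6 F391168)) (tt N101023 F431327))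
theorem Q85663 : ∀ i, i < 85663 → P i := stepQ 85662 Q85662 (allL N85662 (tt N99589 F425303) (tt N91426 F426492) (tt N101249 (iv2 F432395)) (tt N60749 (iv3 F391166)) (tt N50655 (iv4 D188426)) (tt N114806 D218063) (tt N60751 F391165) (tt N101219 (iv7 F432258)))
theorem Q85664 : ∀ i, i < 85664 → P i := stepQ 85663 Q85663 (allL N85663 (tt N85246 F391162) (tt N95191 (iv0 F407363)) (tt N101250 (iv2 F432399)) (tt N60738 (iv3 F391163)) (tt N60751 (iv4 F391164)) (tt N90887 F391161) (tt N50655 (iv6 D188427)) (tt N101223 (iv7 F432277)))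
theorem Q85665 : ∀ i, i < 85665 → P i := stepQ 85664 Q85664 (allL N85664 (tt N101246 (iv1 F432390)) (tt N50656 (iv0 D188428)) (tt N110311 (iv2 F470980)) (tt N103811 (iv3 F442924)) (tt N114807 D218064) (tt N114808 D218065) (tt N110310 (iv6 F470977)) (tt N101213 F432391))
theorem Q85666 : ∀ i, i < 85666 → P i := stepQ 85665 Q85665 (allL N85665 (tt N101213 (iv1 F432228)) (tt N110311 F470984) (tt N101246 (iv2 F432384)) (tt N91016 (iv3 F391572)) (tt N102333 (iv4 F436775)) (tt N50657 F373434) (tt N63940 F373435) (tt N50656 (iv7 D188429)))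
theorem Q85667 : ∀ i, i < 85667 → P i := stepQ 85666 Q85666 (allL N85666 (tt N54177 (iv1 F373442)) (tt N54016 F373441) (tt N50658 (iv2 D188430)) (tt N82773 F373436) (tt N51083 F373437) (tt N84128 F373438) (tt N55600 F373439) (tt N54173 F373440))
theorem Q85668 : ∀ i, i < 85668 → P i := stepQ 85667 Q85667 (allL N85667 (tt N96564 (iv1 F413017)) (tt N96563 (iv0 F413016)) (tt N96566 (iv2 F413025)) (tt N50660 (iv3 D188431)) (tt N88206 F382175) (tt N80161 F373443) (tt N109303 F466292) (tt N60551 F373444))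
theorem Q85669 : ∀ i, i < 85669 → P i := stepQ 85668 Q85668 (allL N85668 (tt N83218 (iv1 F373449)) (tt N50661 (iv0 D188432)) (tt N52699 (iv2 F373448)) (tt N76246 F373446) (tt N85909 (iv4 F374418)) (tt N55288 F373445) (tt N52707 F373447) (tt N83219 F373450))
theorem Q85670 : ∀ i, i < 85670 → P i := stepQ 85669 Q85669 (allL N85669 (tt N67088 F373453) (tt N66736 (iv0 F373454)) (tt N67087 (iv2 F373455)) (tt N50663 (iv3 D188433)) (tt N86391 (iv4 F376056)) (tt N83148 F373451) (tt N112207 (iv6 F480059)) (tt N67086 F373452))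
theorem Q85671 : ∀ i, i < 85671 → P i := stepQ 85670 Q85670 (allL N85670 (tt N101775 (iv1 F434289)) (tt N96108 (iv0 F411096)) (tt N62346 F373456) (tt N112207 (iv3 F480056)) (tt N50664 F373457) (tt N62344 F373458) (tt N50663 (iv6 D188434)) (tt N110472 (iv7 F471741)))
theorem Q85672 : ∀ i, i < 85672 → P i := stepQ 85671 Q85671 (allL N85671 (tt N96073 (iv1 F410914)) (tt N50664 (iv0 D188435)) (tt N55215 (iv2 F373461)) (tt N73653 F373462) (tt N96082 (iv4 F410958)) (tt N92000 (iv5 F395316)) (tt N55128 F373460) (tt N73647 F373463))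
theorem Q85673 : ∀ i, i < 85673 → P i := stepQ 85672 Q85672 (allL N85672 (tt N73647 (iv1 F373466)) (tt N55215 F373467) (tt N96073 (iv2 F410918)) (tt N86394 (iv3 F376074)) (tt N110472 (iv4 F471740)) (tt N84567 F373464) (tt N85629 F373465) (tt N50664 (iv7 D188436)))
theorem Q85674 : ∀ i, i < 85674 → P i := stepQ 85673 Q85673 (allL N85673 (tt N79674 (iv1 F373469)) (tt N50666 (iv0 D188437)) (tt N79673 (iv2 F373477)) (tt N60021 F373468) (tt N91300 (iv4 F392616)) (tt N84696 (iv5 F373472)) (tt N65643 (iv6 F373470)) (tt N65502 (iv7 F373471)))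
theorem Q85675 : ∀ i, i < 85675 → P i := stepQ 85674 Q85674 (allL N85674 (tt N50666 (iv1 D188438)) (tt N79674 F373483) (tt N65502 (iv2 F373479)) (tt N65589 (iv3 F373482)) (tt N114809 D218066) (tt N84697 (iv5 F373480)) (tt N65500 F373481) (tt N79673 F373478))
theorem Q85676 : ∀ i, i < 85676 → P i := stepQ 85675 Q85675 (allL N85675 (tt N79673 (iv1 F373489)) (tt N65502 F373488) (tt N50666 (iv2 D188439)) (tt N50669 F373484) (tt N79628 F373485) (tt N85687 (iv5 F373525)) (tt N82758 F373486) (tt N79674 F373487))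
theorem Q85677 : ∀ i, i < 85677 → P i := stepQ 85676 Q85676 (allL N85676 (tt N65604 F373493) (tt N91193 (iv0 F392227)) (tt N67484 F373490) (tt N50668 (iv3 D188440)) (tt N79874 F373491) (tt N86832 F377360) (tt N65567 (iv6 F413737)) (tt N79690 F373492))
theorem Q85678 : ∀ i, i < 85678 → P i := stepQ 85677 Q85677 (allL N85677 (tt N79545 F373497) (tt N65629 (iv0 F373496)) (tt N79689 F373494) (tt N65567 F413738) (tt N79873 F373495) (tt N114810 D218067) (tt N50668 (iv6 D188441)) (tt N112657 (iv7 F482038)))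
theorem Q85679 : ∀ i, i < 85679 → P i := stepQ 85678 Q85678 (allL N85678 (tt N88211 F382197) (tt N84554 (iv0 F373501)) (tt N84703 F373498) (tt N85681 (iv3 F373504)) (tt N50670 (iv4 D188442)) (tt N114811 D218068) (tt N84669 F373499) (tt N79696 F373500))
theorem Q85680 : ∀ i, i < 85680 → P i := stepQ 85679 Q85679 (allL N85679 (tt N85690 (iv1 F373547)) (tt N50671 (iv0 D188443)) (tt N85688 F373531) (tt N68632 (iv3 F373503)) (tt N88333 (iv4 F382628)) (tt N68630 F373502) (tt N88279 (iv6 F435369)) (tt N85689 (iv7 F373534)))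
theorem Q85681 : ∀ i, i < 85681 → P i := stepQ 85680 Q85680 (allL N85680 (tt N50671 (iv1 D188444)) (tt N85690 F373546) (tt N85689 F373538) (tt N79701 (iv3 F373539)) (tt N88334 (iv4 F382631)) (tt N105391 (iv5 F450025)) (tt N79700 (iv6 F373540)) (tt N85688 F373532))
theorem Q85682 : ∀ i, i < 85682 → P i := stepQ 85681 Q85681 (allL N85681 (tt N87112 (iv1 F378381)) (tt N81643 (iv0 F445704)) (tt N87115 (iv2 F378384)) (tt N85678 F373504) (tt N50672 (iv4 D188445)) (tt N114812 D218069) (tt N114235 (iv6 F489140)) (tt N52337 F373505))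
theorem Q85683 : ∀ i, i < 85683 → P i := stepQ 85682 Q85682 (allL N85682 (tt N111725 F477683) (tt N95737 (iv0 F409377)) (tt N87116 (iv2 F378387)) (tt N50673 F373506) (tt N114235 (iv4 F489138)) (tt N87116 (iv5 F378389)) (tt N50672 (iv6 D188446)) (tt N111723 (iv7 F477669)))
theorem Q85684 : ∀ i, i < 85684 → P i := stepQ 85683 Q85683 (allL N85683 (tt N50682 (iv1 F373512)) (tt N50673 (iv0 D188447)) (tt N50680 F373560) (tt N113634 (iv3 F486403)) (tt N68769 (iv4 F373548)) (tt N114813 D218070) (tt N91779 (iv6 F394380)) (tt N50681 F373561))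
theorem Q85685 : ∀ i, i < 85685 → P i := stepQ 85684 Q85684 (allL N85684 (tt N50673 (iv1 D188448)) (tt N50682 F373507) (tt N50681 F373559) (tt N114814 D218071) (tt N68770 F373508) (tt N92007 (iv5 F395338)) (tt N114815 D218072) (tt N50680 (iv7 F373558)))
theorem Q85686 : ∀ i, i < 85686 → P i := stepQ 85685 Q85685 (allL N85685 (tt N50681 (iv1 F373513)) (tt N50680 F373514) (tt N50682 F373509) (tt N111723 F477671) (tt N69252 F373510) (tt N87131 (iv5 F378473)) (tt N52348 F373511) (tt N50673 (iv7 D188449)))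
theorem Q85687 : ∀ i, i < 85687 → P i := stepQ 85686 Q85686 (allL N85686 (tt N50678 (iv1 D188450)) (tt N52674 F373520) (tt N52672 F373517) (tt N88349 (iv3 F382686)) (tt N94018 (iv4 F402838)) (tt N80204 (iv5 F373515)) (tt N60572 (iv6 F373516)) (tt N52673 (iv7 F373518)))
theorem Q85688 : ∀ i, i < 85688 → P i := stepQ 85687 Q85687 (allL N85687 (tt N52673 (iv1 F373529)) (tt N52672 F373528) (tt N50678 (iv2 D188451)) (tt N69284 F373524) (tt N87585 (iv4 F379811)) (tt N85675 F373525) (tt N69282 F373526) (tt N52674 F373527))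
theorem Q85689 : ∀ i, i < 85689 → P i := stepQ 85688 Q85688 (allL N85688 (tt N69252 (iv1 F373541)) (tt N50679 (iv0 D188452)) (tt N85679 (iv2 F373531)) (tt N111668 (iv3 F477388)) (tt N104391 (iv4 F445556)) (tt N70269 F373530) (tt N111525 F476737) (tt N85680 (iv7 F373532)))
theorem Q85690 : ∀ i, i < 85690 → P i := stepQ 85689 Q85689 (allL N85689 (tt N50679 (iv1 D188453)) (tt N69252 F373533) (tt N85680 (iv2 F373538)) (tt N68703 F373536) (tt N104392 (iv4 F445564)) (tt N70273 (iv5 F373535)) (tt N68810 F373537) (tt N85679 F373534))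
theorem Q85691 : ∀ i, i < 85691 → P i := stepQ 85690 Q85690 (allL N85690 (tt N85680 (iv1 F373546)) (tt N85679 F373547) (tt N69252 F373542) (tt N93235 (iv3 F400069)) (tt N50682 F373543) (tt N69251 F373544) (tt N52624 F373545) (tt N50679 (iv7 D188454)))
theorem Q85692 : ∀ i, i < 85692 → P i := stepQ 85691 Q85691 (allL N85691 (tt N114816 D218073) (tt N111727 (iv0 F477694)) (tt N114817 D218074) (tt N50680 (iv3 D188456)) (tt N81634 F410094) (tt N97352 (iv5 F420812)) (tt N81633 (iv6 F410095)) (tt N114814 (iv7 F492013)))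
theorem Q85693 : ∀ i, i < 85693 → P i := stepQ 85692 Q85692 (allL N85692 (tt N56536 (iv1 F373551)) (tt N68768 F373550) (tt N68769 (iv2 F373553)) (tt N114818 D218075) (tt N50680 (iv4 D188457)) (tt N56415 F373552) (tt N102065 (iv6 F435573)) (tt N68770 (iv7 F373554)))
theorem Q85694 : ∀ i, i < 85694 → P i := stepQ 85693 Q85693 (allL N85693 (tt N114819 D218076) (tt N87524 (iv0 F379653)) (tt N114813 (iv2 F492006)) (tt N97352 F420813) (tt N114820 D218077) (tt N50680 (iv5 D188458)) (tt N114821 D218078) (tt N92007 F395339))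
theorem Q85695 : ∀ i, i < 85695 → P i := stepQ 85694 Q85694 (allL N85694 (tt N111526 (iv1 F476743)) (tt N114822 D218079) (tt N91779 F394381) (tt N81633 F410096) (tt N102065 F435574) (tt N88140 F381900) (tt N50680 (iv6 D188459)) (tt N91775 (iv7 F394384)))
theorem Q85696 : ∀ i, i < 85696 → P i := stepQ 85695 Q85695 (allL N85695 (tt N86605 F377270) (tt N114823 D218080) (tt N113635 (iv2 F486407)) (tt N50681 (iv3 D188460)) (tt N103055 (iv4 F439871)) (tt N74181 F410021) (tt N104004 (iv6 F443747)) (tt N113634 (iv7 F486404)))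
theorem Q85697 : ∀ i, i < 85697 → P i := stepQ 85696 Q85696 (allL N85696 (tt N68768 (iv1 F373567)) (tt N56536 F373564) (tt N68770 F373562) (tt N65977 (iv3 F373569)) (tt N50681 (iv4 D188461)) (tt N56414 F373568) (tt N65975 (iv6 F373570)) (tt N68769 F373563))
theorem Q85698 : ∀ i, i < 85698 → P i := stepQ 85697 Q85697 (allL N85697 (tt N87524 F399750) (tt N114819 F492046) (tt N92007 (iv2 F395337)) (tt N74181 (iv3 F410020)) (tt N93147 (iv4 F399671)) (tt N50681 (iv5 D188462)) (tt N87518 (iv6 F379631)) (tt N114813 (iv7 F492008)))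
theorem Q85699 : ∀ i, i < 85699 → P i := stepQ 85698 Q85698 (allL N85698 (tt N68809 F373572) (tt N81623 (iv0 F382586)) (tt N114815 (iv2 F492017)) (tt N104004 (iv3 F443746)) (tt N65975 F373571) (tt N111722 (iv5 F477662)) (tt N50681 (iv6 D188463)) (tt N114824 D218081))
theorem Q85700 : ∀ i, i < 85700 → P i := stepQ 85699 Q85699 (allL N85699 (tt N111041 (iv1 F474394)) (tt N114320 (iv0 F489585)) (tt N113080 (iv2 F483882)) (tt N93900 (iv3 F402342)) (tt N50686 (iv4 D188464)) (tt N112838 (iv5 F482880)) (tt N93898 F402335) (tt N89830 F387677))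
theorem Q85701 : ∀ i, i < 85701 → P i := stepQ 85700 Q85700 (allL N85700 (tt N70409 F373575) (tt N100173 (iv0 F427837)) (tt N113081 (iv2 F483887)) (tt N50688 F373573) (tt N93898 (iv4 F402336)) (tt N54502 F373574) (tt N50686 (iv6 D188465)) (tt N114825 D218082))
theorem Q85702 : ∀ i, i < 85702 → P i := stepQ 85701 Q85701 (allL N85701 (tt N109616 F467760) (tt N89621 (iv0 F386991)) (tt N83559 F373576) (tt N61217 F373577) (tt N50688 F373578) (tt N84781 F373579) (tt N50687 (iv6 D188466)) (tt N61213 F373580))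
theorem Q85703 : ∀ i, i < 85703 → P i := stepQ 85702 Q85702 (allL N85702 (tt N83552 (iv1 F373584)) (tt N50688 (iv0 D188467)) (tt N83557 (iv2 F373582)) (tt N113218 (iv3 F484537)) (tt N50812 F373581) (tt N114826 D218083) (tt N113035 (iv6 F483657)) (tt N83558 (iv7 F373583)))
theorem Q85704 : ∀ i, i < 85704 → P i := stepQ 85703 Q85703 (allL N85703 (tt N50688 (iv1 D188468)) (tt N83552 F373585) (tt N83558 (iv2 F373588)) (tt N85840 F374181) (tt N50811 F373587) (tt N114827 D218084) (tt N107647 (iv6 F459063)) (tt N83557 F373586))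
theorem Q85705 : ∀ i, i < 85705 → P i := stepQ 85704 Q85704 (allL N85704 (tt N83558 (iv1 F373593)) (tt N83557 F373594) (tt N83552 F373589) (tt N114825 (iv3 F492075)) (tt N61213 F373590) (tt N83068 F373591) (tt N61212 F373592) (tt N50688 (iv7 D188469)))
theorem Q85706 : ∀ i, i < 85706 → P i := stepQ 85705 Q85705 (allL N85705 (tt N50689 (iv1 D188470)) (tt N83517 F373596) (tt N83518 F373599) (tt N52240 F373600) (tt N83373 (iv4 F373598)) (tt N87611 (iv5 F379879)) (tt N87013 F381183) (tt N83519 F373597))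
theorem Q85707 : ∀ i, i < 85707 → P i := stepQ 85706 Q85706 (allL N85706 (tt N87930 (iv1 F381197)) (tt N87932 (iv0 F381210)) (tt N88361 (iv2 F382738)) (tt N50690 F373601) (tt N85716 (iv4 F373637)) (tt N50689 (iv5 D188471)) (tt N85715 F373635) (tt N52117 F373602))
theorem Q85708 : ∀ i, i < 85708 → P i := stepQ 85707 Q85707 (allL N85707 (tt N86423 (iv1 F376172)) (tt N69452 (iv0 F373606)) (tt N52122 F373603) (tt N85715 (iv3 F373633)) (tt N50711 F373604) (tt N51838 F373605) (tt N50690 (iv6 D188472)) (tt N51478 (iv7 F373608)))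
theorem Q85709 : ∀ i, i < 85709 → P i := stepQ 85708 Q85708 (allL N85708 (tt N114709 (iv1 F491464)) (tt N114828 D218085) (tt N88935 (iv2 F384564)) (tt N98630 (iv3 F421651)) (tt N50691 (iv4 D188473)) (tt N114829 D218086) (tt N98629 F421649) (tt N83548 F373609))
theorem Q85710 : ∀ i, i < 85710 → P i := stepQ 85709 Q85709 (allL N85709 (tt N114686 (iv1 F491366)) (tt N86401 (iv0 F376111)) (tt N88936 (iv2 F384565)) (tt N50693 F373610) (tt N98629 (iv4 F421645)) (tt N88549 (iv5 F383485)) (tt N50691 (iv6 D188474)) (tt N111321 (iv7 F475811)))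
theorem Q85711 : ∀ i, i < 85711 → P i := stepQ 85710 Q85710 (allL N85710 (tt N50693 (iv1 D188475)) (tt N61212 F373611) (tt N92803 (iv2 F398295)) (tt N114830 D218087) (tt N84775 F373612) (tt N114831 D218088) (tt N109395 (iv6 F466745)) (tt N98432 (iv7 F420903)))
theorem Q85712 : ∀ i, i < 85712 → P i := stepQ 85711 Q85711 (allL N85711 (tt N80167 (iv1 F373616)) (tt N64247 F373617) (tt N79850 F373613) (tt N95499 (iv3 F408372)) (tt N82026 F373614) (tt N114101 (iv5 F488561)) (tt N50694 (iv6 D188476)) (tt N80168 F373615))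
theorem Q85713 : ∀ i, i < 85713 → P i := stepQ 85712 Q85712 (allL N85712 (tt N111630 (iv1 F477223)) (tt N91184 F392196) (tt N87457 (iv2 F379390)) (tt N50695 (iv3 D188477)) (tt N84653 F373618) (tt N52653 F373619) (tt N52564 (iv6 F373621)) (tt N79849 F373620))
theorem Q85714 : ∀ i, i < 85714 → P i := stepQ 85713 Q85713 (allL N85713 (tt N59757 F373625) (tt N87088 (iv0 F378336)) (tt N72734 F373622) (tt N52564 F373623) (tt N60064 F373624) (tt N72718 (iv5 F373626)) (tt N50695 (iv6 D188478)) (tt N87458 (iv7 F379397)))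
theorem Q85715 : ∀ i, i < 85715 → P i := stepQ 85714 Q85714 (allL N85714 (tt N80074 F373630) (tt N79659 (iv0 F373632)) (tt N50698 F373628) (tt N111032 (iv3 F474349)) (tt N50707 F373629) (tt N114832 D218089) (tt N50696 (iv6 D188479)) (tt N80073 F373631))
theorem Q85716 : ∀ i, i < 85716 → P i := stepQ 85715 Q85715 (allL N85715 (tt N111140 (iv1 F474893)) (tt N111142 (iv0 F474903)) (tt N112436 (iv2 F481101)) (tt N85707 F373633) (tt N50697 (iv4 D188480)) (tt N87243 (iv5 F378861)) (tt N85706 (iv6 F373635)) (tt N79853 F373634))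
theorem Q85717 : ∀ i, i < 85717 → P i := stepQ 85716 Q85716 (allL N85716 (tt N88261 (iv1 F382395)) (tt N84689 (iv0 F373638)) (tt N88268 (iv2 F382742)) (tt N50699 F373636) (tt N85706 F373637) (tt N114833 D218090) (tt N50697 (iv6 D188481)) (tt N87624 (iv7 F379920)))
theorem Q85718 : ∀ i, i < 85718 → P i := stepQ 85717 Q85717 (allL N85717 (tt N80073 (iv1 F373642)) (tt N50698 (iv0 D188482)) (tt N80074 (iv2 F373643)) (tt N55173 F373640) (tt N72110 F373639) (tt N84505 (iv5 F373644)) (tt N55172 F373641) (tt N79659 (iv7 F373645)))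
theorem Q85719 : ∀ i, i < 85719 → P i := stepQ 85718 Q85718 (allL N85718 (tt N50698 (iv1 D188483)) (tt N80073 F373646) (tt N79659 F373649) (tt N91305 (iv3 F392639)) (tt N72101 (iv4 F373648)) (tt N114834 D218091) (tt N95444 (iv6 F408205)) (tt N80074 F373647))
theorem Q85720 : ∀ i, i < 85720 → P i := stepQ 85719 Q85719 (allL N85719 (tt N102972 F439514) (tt N114835 D218092) (tt N114832 (iv2 F492105)) (tt N50700 F373650) (tt N114836 D218093) (tt N50698 (iv5 D188484)) (tt N114833 (iv6 F492110)) (tt N80075 F373651))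
theorem Q85721 : ∀ i, i < 85721 → P i := stepQ 85720 Q85720 (allL N85720 (tt N85752 (iv1 F373798)) (tt N50699 (iv0 D188485)) (tt N85749 (iv2 F373786)) (tt N108576 (iv3 F463119)) (tt N85409 F373787) (tt N114837 D218094) (tt N99685 (iv6 F425742)) (tt N85750 (iv7 F373789)))
theorem Q85722 : ∀ i, i < 85722 → P i := stepQ 85721 Q85721 (allL N85721 (tt N50699 (iv1 D188486)) (tt N85752 F373797) (tt N85750 F373790) (tt N99694 (iv3 F425772)) (tt N85410 (iv4 F373652)) (tt N114838 D218095) (tt N108611 (iv6 F463240)) (tt N85749 F373784))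
theorem Q85723 : ∀ i, i < 85723 → P i := stepQ 85722 Q85722 (allL N85722 (tt N114839 D218096) (tt N114840 D218097) (tt N85751 (iv2 F373792)) (tt N114833 (iv3 F492109)) (tt N111051 (iv4 F474429)) (tt N50699 (iv5 D188487)) (tt N50700 F373658) (tt N114841 D218098))
theorem Q85724 : ∀ i, i < 85724 → P i := stepQ 85723 Q85723 (allL N85723 (tt N85750 (iv1 F373788)) (tt N85749 (iv0 F373785)) (tt N85752 (iv2 F373794)) (tt N87624 (iv3 F379919)) (tt N85741 (iv4 F373755)) (tt N114841 (iv5 F492138)) (tt N79860 F373659) (tt N50699 (iv7 D188488)))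
theorem Q85725 : ∀ i, i < 85725 → P i := stepQ 85724 Q85724 (allL N85724 (tt N80177 F395544) (tt N80190 (iv0 F373664)) (tt N75330 F373660) (tt N50703 F373661) (tt N79692 F373662) (tt N75270 F373663) (tt N50701 (iv6 D188489)) (tt N80164 (iv7 F373669)))
theorem Q85726 : ∀ i, i < 85726 → P i := stepQ 85725 Q85725 (allL N85725 (tt N81571 F373672) (tt N111652 (iv0 F477314)) (tt N106719 (iv2 F455392)) (tt N50702 (iv3 D188490)) (tt N79690 F373670) (tt N88341 (iv5 F382654)) (tt N91306 (iv6 F392646)) (tt N79874 F373671))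
theorem Q85727 : ∀ i, i < 85727 → P i := stepQ 85726 Q85726 (allL N85726 (tt N82472 F373675) (tt N82473 F373676) (tt N79880 F373673) (tt N88341 F382655) (tt N81635 F373677) (tt N50702 (iv5 D188491)) (tt N112423 (iv6 F481034)) (tt N79875 F373674))
theorem Q85728 : ∀ i, i < 85728 → P i := stepQ 85727 Q85727 (allL N85727 (tt N95381 F408064) (tt N81174 (iv0 F395546)) (tt N79881 F373678) (tt N91306 F392645) (tt N50703 F373679) (tt N114842 D218099) (tt N50702 (iv6 D188492)) (tt N80165 F373680))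
theorem Q85729 : ∀ i, i < 85729 → P i := stepQ 85728 Q85728 (allL N85728 (tt N64257 (iv1 F373686)) (tt N50704 (iv0 D188493)) (tt N58815 (iv2 F373685)) (tt N64261 F373683) (tt N55591 F373682) (tt N79776 F373681) (tt N96983 (iv6 F414920)) (tt N64258 F373687))
theorem Q85730 : ∀ i, i < 85730 → P i := stepQ 85729 Q85729 (allL N85729 (tt N58815 (iv1 F373692)) (tt N64258 F373691) (tt N50704 (iv2 D188494)) (tt N79687 F373688) (tt N101883 (iv4 F434805)) (tt N64138 F373689) (tt N58792 (iv6 F373693)) (tt N64257 F373690))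
theorem Q85731 : ∀ i, i < 85731 → P i := stepQ 85730 Q85730 (allL N85730 (tt N82473 F373700) (tt N82472 F373701) (tt N79875 F373698) (tt N103993 F443688) (tt N81636 (iv4 F373702)) (tt N50705 (iv5 D188495)) (tt N103992 (iv6 F443692)) (tt N79880 F373699))
theorem Q85732 : ∀ i, i < 85732 → P i := stepQ 85731 Q85731 (allL N85731 (tt N50706 (iv1 D188496)) (tt N79791 F373703) (tt N58804 F373707) (tt N58088 (iv3 F373705)) (tt N87088 (iv4 F378333)) (tt N71747 F373708) (tt N80043 (iv6 F373706)) (tt N79792 F373704))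
theorem Q85733 : ∀ i, i < 85733 → P i := stepQ 85732 Q85732 (allL N85732 (tt N79624 F373713) (tt N73809 F373712) (tt N79876 F373709) (tt N60395 F373710) (tt N92545 (iv4 F397323)) (tt N50706 (iv5 D188497)) (tt N79240 F373711) (tt N101863 (iv7 F434719)))
theorem Q85734 : ∀ i, i < 85734 → P i := stepQ 85733 Q85733 (allL N85733 (tt N58804 (iv1 F373718)) (tt N79792 F373719) (tt N79791 F373714) (tt N58791 F373715) (tt N59712 F373716) (tt N101863 (iv5 F434720)) (tt N64245 F373717) (tt N50706 (iv7 D188498)))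
theorem Q85735 : ∀ i, i < 85735 → P i := stepQ 85734 Q85734 (allL N85734 (tt N79785 F407806) (tt N80082 (iv0 F433342)) (tt N80081 F373720) (tt N50708 (iv3 D188499)) (tt N80066 F373723) (tt N68795 F373721) (tt N111928 (iv6 F478707)) (tt N80071 F373722))
theorem Q85736 : ∀ i, i < 85736 → P i := stepQ 85735 Q85735 (allL N85735 (tt N95414 (iv1 F408139)) (tt N95308 F407805) (tt N70084 F373729) (tt N87731 (iv3 F380276)) (tt N50708 (iv4 D188500)) (tt N114843 D218100) (tt N87729 (iv6 F380274)) (tt N80072 F373730))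
theorem Q85737 : ∀ i, i < 85737 → P i := stepQ 85736 Q85736 (allL N85736 (tt N95308 F407804) (tt N95414 F408140) (tt N80072 F373731) (tt N100713 (iv3 F430144)) (tt N50709 (iv4 D188501)) (tt N114844 D218101) (tt N59804 (iv6 F373740)) (tt N70084 F373732))
theorem Q85738 : ∀ i, i < 85738 → P i := stepQ 85737 Q85737 (allL N85737 (tt N58884 F373736) (tt N62539 (iv0 F373737)) (tt N75596 F373733) (tt N58874 F373734) (tt N59804 F373738) (tt N99579 (iv5 F425260)) (tt N50709 (iv6 D188502)) (tt N75597 F373735))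
theorem Q85739 : ∀ i, i < 85739 → P i := stepQ 85738 Q85738 (allL N85738 (tt N64131 F373749) (tt N58734 (iv0 F373750)) (tt N58670 F373744) (tt N79709 F373745) (tt N58574 F373746) (tt N79468 F373747) (tt N50710 (iv6 D188503)) (tt N79468 F373748))
theorem Q85740 : ∀ i, i < 85740 → P i := stepQ 85739 Q85739 (allL N85739 (tt N50722 (iv1 F373757)) (tt N50712 (iv0 D188504)) (tt N50720 F373805) (tt N69607 F373751) (tt N112402 (iv4 F480949)) (tt N114845 D218102) (tt N91180 (iv6 F392186)) (tt N50721 F373806))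
theorem Q85741 : ∀ i, i < 85741 → P i := stepQ 85740 Q85740 (allL N85740 (tt N50712 (iv1 D188505)) (tt N50722 F373752) (tt N50721 F373809) (tt N104210 (iv3 F444710)) (tt N112403 (iv4 F480956)) (tt N113591 (iv5 F486192)) (tt N114846 D218103) (tt N50720 F373810))
theorem Q85742 : ∀ i, i < 85742 → P i := stepQ 85741 Q85741 (allL N85741 (tt N50721 (iv1 F373758)) (tt N50720 F373759) (tt N50722 F373753) (tt N52118 F373754) (tt N85723 F373755) (tt N86430 (iv5 F376192)) (tt N51305 F373756) (tt N50712 (iv7 D188506)))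
theorem Q85743 : ∀ i, i < 85743 → P i := stepQ 85742 Q85742 (allL N85742 (tt N86543 F376462) (tt N51487 (iv0 F373764)) (tt N50715 F373760) (tt N51535 F373761) (tt N83876 F373762) (tt N83623 F373763) (tt N50714 (iv6 D188507)) (tt N113031 (iv7 F483630)))
theorem Q85744 : ∀ i, i < 85744 → P i := stepQ 85743 Q85743 (allL N85743 (tt N113031 (iv1 F483631)) (tt N50715 (iv0 D188508)) (tt N86543 (iv2 F376458)) (tt N79012 F373767) (tt N109042 (iv4 F465065)) (tt N50940 F373768) (tt N86114 (iv6 F375153)) (tt N51487 (iv7 F373769)))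
theorem Q85745 : ∀ i, i < 85745 → P i := stepQ 85744 Q85744 (allL N85744 (tt N50715 (iv1 D188509)) (tt N113031 F483632) (tt N51487 (iv2 F373771)) (tt N88522 (iv3 F383385)) (tt N110504 (iv4 F471884)) (tt N50941 F373770) (tt N51483 (iv6 F373772)) (tt N86543 (iv7 F376459)))
theorem Q85746 : ∀ i, i < 85746 → P i := stepQ 85745 Q85745 (allL N85745 (tt N51569 (iv1 F373773)) (tt N50718 (iv0 D188510)) (tt N51568 F390828) (tt N68071 F390829) (tt N114847 D218104) (tt N78485 F390830) (tt N68069 F390831) (tt N51567 F390832))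
theorem Q85747 : ∀ i, i < 85747 → P i := stepQ 85746 Q85746 (allL N85746 (tt N50718 (iv1 D188511)) (tt N51569 F373778) (tt N51567 F390833) (tt N96776 F413877) (tt N114848 D218105) (tt N78486 F390834) (tt N100731 (iv6 F430199)) (tt N51568 F390835))
theorem Q85748 : ∀ i, i < 85748 → P i := stepQ 85747 Q85747 (allL N85747 (tt N51568 (iv1 F373779)) (tt N51567 F373777) (tt N50718 (iv2 D188512)) (tt N81620 F373774) (tt N86629 (iv4 F376626)) (tt N78497 F373775) (tt N114849 D218106) (tt N51569 F373776))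
theorem Q85749 : ∀ i, i < 85749 → P i := stepQ 85748 Q85748 (allL N85748 (tt N114850 D218107) (tt N114851 D218108) (tt N114849 (iv2 F492171)) (tt N50719 F373780) (tt N86633 (iv4 F430969)) (tt N114852 D218109) (tt N50718 (iv6 D188513)) (tt N114853 D218110))
theorem Q85750 : ∀ i, i < 85750 → P i := stepQ 85749 Q85749 (allL N85749 (tt N85723 F373785) (tt N50719 (iv0 D188514)) (tt N85720 F373786) (tt N62648 (iv3 F373782)) (tt N83748 F373783) (tt N114854 D218111) (tt N62646 F373781) (tt N85721 (iv7 F373784)))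
theorem Q85751 : ∀ i, i < 85751 → P i := stepQ 85750 Q85750 (allL N85750 (tt N50719 (iv1 D188515)) (tt N85723 F373788) (tt N85721 (iv2 F373790)) (tt N112848 (iv3 F482946)) (tt N83749 (iv4 F373791)) (tt N114855 D218112) (tt N114856 D218113) (tt N85720 F373789))
theorem Q85752 : ∀ i, i < 85752 → P i := stepQ 85751 Q85751 (allL N85751 (tt N114857 D218114) (tt N112471 (iv0 F481221)) (tt N85722 F373792) (tt N114852 (iv3 F492179)) (tt N111447 (iv4 F476408)) (tt N50719 (iv5 D188516)) (tt N78447 F373793) (tt N114858 D218115))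
theorem Q85753 : ∀ i, i < 85753 → P i := stepQ 85752 Q85752 (allL N85752 (tt N85721 (iv1 F373797)) (tt N85720 F373798) (tt N85723 F373794) (tt N114853 (iv3 F492183)) (tt N50722 F373795) (tt N114858 (iv5 F492204)) (tt N51519 F373796) (tt N50719 (iv7 D188517)))
theorem Q85754 : ∀ i, i < 85754 → P i := stepQ 85753 Q85753 (allL N85753 (tt N97261 F416119) (tt N78515 (iv0 F377163)) (tt N112402 F480952) (tt N74331 F377162) (tt N50720 (iv4 D188520)) (tt N114859 D218116) (tt N74326 (iv6 F377161)) (tt N112403 (iv7 F480955)))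
theorem Q85755 : ∀ i, i < 85755 → P i := stepQ 85754 Q85754 (allL N85754 (tt N87169 F379788) (tt N86567 (iv0 F376491)) (tt N114845 (iv2 F492152)) (tt N83952 F377165) (tt N83954 (iv4 F377166)) (tt N50720 (iv5 D188521)) (tt N110978 (iv6 F474049)) (tt N113591 (iv7 F486190)))
theorem Q85756 : ∀ i, i < 85756 → P i := stepQ 85755 Q85755 (allL N85755 (tt N91228 F419733) (tt N114547 (iv0 F490715)) (tt N91180 (iv2 F392184)) (tt N76395 (iv3 F377160)) (tt N74326 F377159) (tt N86782 F377158) (tt N50720 (iv6 D188522)) (tt N91178 (iv7 F392181)))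
theorem Q85757 : ∀ i, i < 85757 → P i := stepQ 85756 Q85756 (allL N85756 (tt N69608 (iv1 F373803)) (tt N56411 (iv0 F373804)) (tt N69606 F373807) (tt N50721 (iv3 D188524)) (tt N83602 F373801) (tt N114860 D218117) (tt N103467 (iv6 F441753)) (tt N69607 (iv7 F373802)))
theorem Q85758 : ∀ i, i < 85758 → P i := stepQ 85757 Q85757 (allL N85757 (tt N78515 F373811) (tt N97261 F416120) (tt N112403 F480961) (tt N114239 (iv3 F489164)) (tt N50721 (iv4 D188525)) (tt N114861 D218118) (tt N104984 F448268) (tt N112402 F480953))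
theorem Q85759 : ∀ i, i < 85759 → P i := stepQ 85758 Q85758 (allL N85758 (tt N86567 (iv1 F379714)) (tt N87169 (iv0 F378614)) (tt N113591 (iv2 F486187)) (tt N114860 (iv3 F492211)) (tt N114862 D218119) (tt N50721 (iv5 D188526)) (tt N86548 (iv6 F376471)) (tt N114845 (iv7 F492155)))
theorem Q85760 : ∀ i, i < 85760 → P i := stepQ 85759 Q85759 (allL N85759 (tt N105710 (iv1 F451365)) (tt N91220 (iv0 F392313)) (tt N114846 (iv2 F492158)) (tt N103467 F441756) (tt N104984 (iv4 F448266)) (tt N68253 F373812) (tt N50721 (iv6 D188527)) (tt N114863 D218120))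
theorem Q85761 : ∀ i, i < 85761 → P i := stepQ 85760 Q85760 (allL N85760 (tt N114864 D218121) (tt N114865 D218122) (tt N114866 D218123) (tt N50723 (iv3 D188528)) (tt N113670 (iv4 F486554)) (tt N86663 (iv5 F376719)) (tt N114365 (iv6 F489821)) (tt N86589 (iv7 F376547)))
theorem Q85762 : ∀ i, i < 85762 → P i := stepQ 85761 Q85761 (allL N85761 (tt N88430 (iv1 F383021)) (tt N88429 (iv0 F383018)) (tt N60169 F373813) (tt N50726 F373814) (tt N83600 F373816) (tt N50724 (iv5 D188529)) (tt N56291 F373815) (tt N83597 (iv7 F373817)))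
theorem Q85763 : ∀ i, i < 85763 → P i := stepQ 85762 Q85762 (allL N85762 (tt N51473 (iv1 F373823)) (tt N51469 F373824) (tt N84439 F373818) (tt N50727 F373819) (tt N84439 F373820) (tt N83597 F373821) (tt N84439 F373822) (tt N50724 (iv7 D188530)))
theorem Q85764 : ∀ i, i < 85764 → P i := stepQ 85763 Q85763 (allL N85763 (tt N51404 F373828) (tt N51403 F373829) (tt N51273 F373825) (tt N51426 F373826) (tt N93215 (iv4 F399997)) (tt N50725 (iv5 D188531)) (tt N56480 F373830) (tt N51402 F373827))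
theorem Q85765 : ∀ i, i < 85765 → P i := stepQ 85764 Q85764 (allL N85764 (tt N84425 F373836) (tt N50733 (iv0 F373837)) (tt N51274 F373831) (tt N51427 F373832) (tt N52058 F373833) (tt N84913 F373834) (tt N50725 (iv6 D188532)) (tt N84426 F373835))
theorem Q85766 : ∀ i, i < 85766 → P i := stepQ 85765 Q85765 (allL N85765 (tt N84707 F373841) (tt N51467 (iv0 F373842)) (tt N61021 F373838) (tt N50728 (iv3 D188533)) (tt N61021 F373839) (tt N75623 F373843) (tt N114353 (iv6 F489779)) (tt N50734 F373840))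
theorem Q85767 : ∀ i, i < 85767 → P i := stepQ 85766 Q85766 (allL N85766 (tt N83643 F373847) (tt N79968 F373848) (tt N50732 F373844) (tt N75623 F373845) (tt N102990 (iv4 F439578)) (tt N50728 (iv5 D188534)) (tt N110286 (iv6 F470845)) (tt N50736 F373846))
theorem Q85768 : ∀ i, i < 85768 → P i := stepQ 85767 Q85767 (allL N85767 (tt N84582 F373852) (tt N51735 (iv0 F373853)) (tt N79017 F373849) (tt N50731 (iv3 D188535)) (tt N79017 F373850) (tt N114867 D218124) (tt N112395 (iv6 F480914)) (tt N52409 F373851))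
theorem Q85769 : ∀ i, i < 85769 → P i := stepQ 85768 Q85768 (allL N85768 (tt N85178 F373856) (tt N91761 (iv0 F394339)) (tt N52407 F373854) (tt N114867 (iv3 F492241)) (tt N114137 (iv4 F488701)) (tt N50731 (iv5 D188536)) (tt N114868 D218125) (tt N52410 F373855))
theorem Q85770 : ∀ i, i < 85770 → P i := stepQ 85769 Q85769 (allL N85769 (tt N50736 (iv1 F373859)) (tt N50732 (iv0 D188537)) (tt N83643 (iv2 F373858)) (tt N84719 F373862) (tt N88225 (iv4 F382253)) (tt N83642 F373857) (tt N79937 (iv6 F373861)) (tt N79968 F373860))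
theorem Q85771 : ∀ i, i < 85771 → P i := stepQ 85770 Q85770 (allL N85770 (tt N84207 F373865) (tt N102965 (iv0 F439478)) (tt N102990 F439579) (tt N61069 F373863) (tt N50732 (iv4 D188538)) (tt N87176 (iv5 F378624)) (tt N106884 (iv6 F456125)) (tt N79945 F373864))
theorem Q85772 : ∀ i, i < 85772 → P i := stepQ 85771 Q85771 (allL N85771 (tt N78894 F373868) (tt N79931 (iv0 F373869)) (tt N110286 (iv2 F470843)) (tt N66780 F373866) (tt N106884 (iv4 F456124)) (tt N92651 F397767) (tt N50732 (iv6 D188539)) (tt N66777 F373867))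
theorem Q85773 : ∀ i, i < 85773 → P i := stepQ 85772 Q85772 (allL N85772 (tt N75624 F373875) (tt N63059 F373874) (tt N66769 F373870) (tt N50736 F373871) (tt N73968 F373873) (tt N50734 (iv5 D188540)) (tt N62244 F373876) (tt N75623 F373872))
theorem Q85774 : ∀ i, i < 85774 → P i := stepQ 85773 Q85773 (allL N85773 (tt N114273 (iv1 F489333)) (tt N86410 (iv0 F376143)) (tt N84708 F373877) (tt N50737 F373878) (tt N84708 F373879) (tt N114310 (iv5 F489528)) (tt N50734 (iv6 D188541)) (tt N86889 (iv7 F377595)))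
theorem Q85775 : ∀ i, i < 85775 → P i := stepQ 85774 Q85774 (allL N85774 (tt N91761 (iv1 F394340)) (tt N85178 F373883) (tt N52410 F373880) (tt N79020 F373881) (tt N114138 (iv4 F488708)) (tt N50735 (iv5 D188542)) (tt N114869 D218126) (tt N52407 F373882))
theorem Q85776 : ∀ i, i < 85776 → P i := stepQ 85775 Q85775 (allL N85775 (tt N102965 F439479) (tt N84207 F373885) (tt N79945 F373884) (tt N103002 (iv3 F439633)) (tt N50736 (iv4 D188543)) (tt N87177 (iv5 F378625)) (tt N86967 (iv6 F377880)) (tt N102990 (iv7 F439577)))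
theorem Q85777 : ∀ i, i < 85777 → P i := stepQ 85776 Q85776 (allL N85776 (tt N74771 F373889) (tt N92658 F397792) (tt N73778 F373886) (tt N55768 F373887) (tt N87172 (iv4 F378617)) (tt N56460 F373888) (tt N50738 (iv6 D188544)) (tt N92656 (iv7 F397785)))
theorem Q85778 : ∀ i, i < 85778 → P i := stepQ 85777 Q85777 (allL N85777 (tt N56299 F373892) (tt N56304 (iv0 F373894)) (tt N55769 F373890) (tt N50739 (iv3 D188545)) (tt N64052 F373893) (tt N109400 (iv5 F466770)) (tt N88228 (iv6 F382272)) (tt N56303 F373891))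
theorem Q85779 : ∀ i, i < 85779 → P i := stepQ 85778 Q85778 (allL N85778 (tt N81438 F373896) (tt N78843 (iv0 F398215)) (tt N61017 F373895) (tt N88228 (iv3 F382275)) (tt N87175 (iv4 F378623)) (tt N92784 F398213) (tt N50739 (iv6 D188546)) (tt N97864 (iv7 F418577)))
theorem Q85780 : ∀ i, i < 85780 → P i := stepQ 85779 Q85779 (allL N85779 (tt N51947 (iv1 F373901)) (tt N50740 (iv0 D188547)) (tt N51944 (iv2 F373899)) (tt N51908 (iv3 F373902)) (tt N51296 F373897) (tt N114870 D218127) (tt N71732 F373898) (tt N51945 F373900))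
theorem Q85781 : ∀ i, i < 85781 → P i := stepQ 85780 Q85780 (allL N85780 (tt N114871 D218128) (tt N114872 D218129) (tt N51946 F373903) (tt N88083 (iv3 F381730)) (tt N114873 D218130) (tt N50740 (iv5 D188548)) (tt N51939 F373904) (tt N114874 D218131))
theorem Q85782 : ∀ i, i < 85782 → P i := stepQ 85781 Q85781 (allL N85781 (tt N51945 (iv1 F373908)) (tt N51944 F373909) (tt N51947 F373905) (tt N88084 (iv3 F381733)) (tt N50741 F373906) (tt N114874 (iv5 F492276)) (tt N61081 F373907) (tt N50740 (iv7 D188549)))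
theorem Q85783 : ∀ i, i < 85783 → P i := stepQ 85782 Q85782 (allL N85782 (tt N81439 F373915) (tt N78844 F373916) (tt N60998 F373910) (tt N56085 F373911) (tt N75009 F373912) (tt N51088 F373913) (tt N50745 (iv6 D188550)) (tt N74957 F373914))
theorem Q85784 : ∀ i, i < 85784 → P i := stepQ 85783 Q85783 (allL N85783 (tt N76297 F373922) (tt N77565 F373923) (tt N77566 F373917) (tt N84101 F373918) (tt N50747 (iv4 D188551)) (tt N73889 F373919) (tt N84709 F373920) (tt N77545 F373921))
theorem Q85785 : ∀ i, i < 85785 → P i := stepQ 85784 Q85784 (allL N85784 (tt N83949 F374686) (tt N89863 F387780) (tt N50750 F373924) (tt N50768 F373925) (tt N80623 F373926) (tt N75099 F373927) (tt N50748 (iv6 D188552)) (tt N86912 (iv7 F377682)))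
theorem Q85786 : ∀ i, i < 85786 → P i := stepQ 85785 Q85785 (allL N85785 (tt N86912 F377685) (tt N50750 (iv0 D188553)) (tt N83949 (iv2 F373930)) (tt N86416 (iv3 F376154)) (tt N112915 (iv4 F483265)) (tt N84936 F373928) (tt N51396 F373929) (tt N89863 (iv7 F387781)))
theorem Q85787 : ∀ i, i < 85787 → P i := stepQ 85786 Q85786 (allL N85786 (tt N50750 (iv1 D188554)) (tt N86912 F377684) (tt N89863 F387779) (tt N84395 (iv3 F373932)) (tt N106904 (iv4 F456217)) (tt N84937 F374080) (tt N85344 F373933) (tt N83949 F373931))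
theorem Q85788 : ∀ i, i < 85788 → P i := stepQ 85787 Q85787 (allL N85787 (tt N69205 (iv1 F373936)) (tt N69201 (iv0 F373937)) (tt N99633 (iv2 F425510)) (tt N50753 (iv3 D188555)) (tt N109856 (iv4 F468940)) (tt N69552 F373934) (tt N99632 (iv6 F425509)) (tt N84768 F373935))
theorem Q85789 : ∀ i, i < 85789 → P i := stepQ 85788 Q85788 (allL N85788 (tt N73725 (iv1 F373943)) (tt N73866 (iv0 F373942)) (tt N77628 F373938) (tt N50756 F373939) (tt N82237 F373940) (tt N105017 (iv5 F448396)) (tt N50754 (iv6 D188556)) (tt N81441 F373941))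
theorem Q85790 : ∀ i, i < 85790 → P i := stepQ 85789 Q85789 (allL N85789 (tt N63401 F373947) (tt N93176 F399816) (tt N51414 F373944) (tt N105017 F448397) (tt N86554 (iv4 F376481)) (tt N50756 (iv5 D188557)) (tt N51270 F373945) (tt N81443 F373946))
theorem Q85791 : ∀ i, i < 85791 → P i := stepQ 85790 Q85790 (allL N85790 (tt N61040 (iv1 F373950)) (tt N50758 (iv0 D188558)) (tt N61062 (iv2 F373949)) (tt N74949 F373948) (tt N98458 (iv4 F420960)) (tt N92199 (iv5 F396211)) (tt N91206 (iv6 F392258)) (tt N61061 F373951))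
theorem Q85792 : ∀ i, i < 85792 → P i := stepQ 85791 Q85791 (allL N85791 (tt N51283 F373956) (tt N51291 (iv0 F373957)) (tt N82659 F373952) (tt N50759 (iv3 D188559)) (tt N82620 F373953) (tt N76537 (iv5 F373958)) (tt N61411 F373954) (tt N51236 F373955))
theorem Q85793 : ∀ i, i < 85793 → P i := stepQ 85792 Q85792 (allL N85792 (tt N51298 F373965) (tt N51287 F373964) (tt N61406 F373959) (tt N76537 F373960) (tt N68416 F373963) (tt N50759 (iv5 D188560)) (tt N80386 F373961) (tt N51238 F373962))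
theorem Q85794 : ∀ i, i < 85794 → P i := stepQ 85793 Q85793 (allL N85793 (tt N50760 (iv1 D188561)) (tt N50788 F373966) (tt N84731 F373969) (tt N98319 (iv3 F420486)) (tt N87921 (iv4 F381135)) (tt N52744 (iv5 F373968)) (tt N98300 F420403) (tt N84730 F373967))
theorem Q85795 : ∀ i, i < 85795 → P i := stepQ 85794 Q85794 (allL N85794 (tt N61756 F373974) (tt N63715 (iv0 F373975)) (tt N77242 F373970) (tt N50763 F373971) (tt N73156 F373972) (tt N86022 (iv5 F374935)) (tt N50760 (iv6 D188562)) (tt N73155 F373973))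
theorem Q85796 : ∀ i, i < 85796 → P i := stepQ 85795 Q85795 (allL N85795 (tt N50761 (iv1 D188563)) (tt N50765 F373976) (tt N84732 F373980) (tt N70024 (iv3 F373978)) (tt N114875 D218132) (tt N70023 F373981) (tt N84770 (iv6 F373979)) (tt N51249 F373977))
theorem Q85797 : ∀ i, i < 85797 → P i := stepQ 85796 Q85796 (allL N85796 (tt N52798 F373987) (tt N80715 F373988) (tt N80713 F373982) (tt N63703 F373983) (tt N50763 F373984) (tt N80953 F373985) (tt N50762 (iv6 D188564)) (tt N80712 F373986))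
theorem Q85798 : ∀ i, i < 85798 → P i := stepQ 85797 Q85797 (allL N85797 (tt N104027 (iv1 F443861)) (tt N68367 F373993) (tt N84706 F373989) (tt N78287 (iv3 F398984)) (tt N50766 (iv4 D188565)) (tt N70678 (iv5 F373992)) (tt N63417 F373990) (tt N70677 F373991))
theorem Q85799 : ∀ i, i < 85799 → P i := stepQ 85798 Q85798 (allL N85798 (tt N75611 (iv1 F373998)) (tt N100497 F429195) (tt N84765 F373994) (tt N75318 F373995) (tt N50767 (iv4 D188566)) (tt N102683 (iv5 F438191)) (tt N80166 F373996) (tt N75332 F373997))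
theorem Q85800 : ∀ i, i < 85800 → P i := stepQ 85799 Q85799 (allL N85799 (tt N94101 (iv1 F403206)) (tt N76618 (iv0 F374002)) (tt N61010 F373999) (tt N77177 F374000) (tt N50769 (iv4 D188567)) (tt N101825 (iv5 F434528)) (tt N73959 F374003) (tt N61013 F374001))
theorem Q85801 : ∀ i, i < 85801 → P i := stepQ 85800 Q85800 (allL N85800 (tt N56339 F374009) (tt N70466 F374010) (tt N61011 F374004) (tt N77628 F374005) (tt N73959 F374006) (tt N60184 F374007) (tt N50769 (iv6 D188568)) (tt N61728 F374008))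
theorem Q85802 : ∀ i, i < 85802 → P i := stepQ 85801 Q85801 (allL N85801 (tt N50770 (iv1 D188569)) (tt N61009 F374011) (tt N57381 F374015) (tt N110774 (iv3 F473136)) (tt N61699 F374013) (tt N114876 D218133) (tt N55910 (iv6 F374014)) (tt N61007 F374012))
theorem Q85803 : ∀ i, i < 85803 → P i := stepQ 85802 Q85802 (allL N85802 (tt N94087 F403144) (tt N101295 (iv0 F432573)) (tt N98457 (iv2 F420954)) (tt N50770 (iv3 D188570)) (tt N50785 F374016) (tt N94931 (iv5 F406389)) (tt N60997 F374017) (tt N110419 (iv7 F471489)))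
theorem Q85804 : ∀ i, i < 85804 → P i := stepQ 85803 Q85803 (allL N85803 (tt N107585 F458854) (tt N109850 (iv0 F468906)) (tt N61008 F374018) (tt N94931 F406390) (tt N114877 D218134) (tt N50770 (iv5 D188571)) (tt N77596 F374019) (tt N114878 D218135))
theorem Q85805 : ∀ i, i < 85805 → P i := stepQ 85804 Q85804 (allL N85804 (tt N57381 (iv1 F374023)) (tt N61007 F374024) (tt N61009 F374020) (tt N110419 (iv3 F471486)) (tt N50771 F374021) (tt N114878 (iv5 F492297)) (tt N79910 F374022) (tt N50770 (iv7 D188572)))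
theorem Q85806 : ∀ i, i < 85806 → P i := stepQ 85805 Q85805 (allL N85805 (tt N50772 (iv1 D188573)) (tt N74500 F374025) (tt N54859 (iv2 F374029)) (tt N79968 (iv3 F374030)) (tt N81310 F374028) (tt N54856 F374027) (tt N79925 (iv6 F374031)) (tt N84719 F374026))
theorem Q85807 : ∀ i, i < 85807 → P i := stepQ 85806 Q85806 (allL N85806 (tt N74470 F374035) (tt N69667 (iv0 F374036)) (tt N74502 F374032) (tt N81677 (iv3 F374037)) (tt N50772 (iv4 D188574)) (tt N76015 F374034) (tt N66760 F374038) (tt N74454 F374033))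
theorem Q85808 : ∀ i, i < 85808 → P i := stepQ 85807 Q85807 (allL N85807 (tt N70441 F374044) (tt N70463 (iv0 F374045)) (tt N74807 F374039) (tt N50775 F374040) (tt N66760 F374041) (tt N70116 F374042) (tt N50772 (iv6 D188575)) (tt N74493 F374043))
theorem Q85809 : ∀ i, i < 85809 → P i := stepQ 85808 Q85808 (allL N85808 (tt N99918 F426820) (tt N96292 (iv0 F411908)) (tt N109409 (iv2 F466816)) (tt N50774 (iv3 D188576)) (tt N81677 F374046) (tt N91129 (iv5 F392028)) (tt N108421 F462499) (tt N84720 F374047))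
theorem Q85810 : ∀ i, i < 85810 → P i := stepQ 85809 Q85809 (allL N85809 (tt N84174 F374050) (tt N99936 F426890) (tt N84715 F374048) (tt N108421 (iv3 F462500)) (tt N50775 F374049) (tt N88561 (iv5 F383497)) (tt N50774 (iv6 D188577)) (tt N98188 (iv7 F419904)))
theorem Q85811 : ∀ i, i < 85811 → P i := stepQ 85810 Q85810 (allL N85810 (tt N84718 (iv1 F374054)) (tt N50775 (iv0 D188578)) (tt N84716 (iv2 F374055)) (tt N56173 F374052) (tt N88567 (iv4 F383508)) (tt N56172 F374051) (tt N60983 F374053) (tt N84717 (iv7 F374056)))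
theorem Q85812 : ∀ i, i < 85812 → P i := stepQ 85811 Q85811 (allL N85811 (tt N50775 (iv1 D188579)) (tt N84718 F374057) (tt N84717 (iv2 F374060)) (tt N104961 (iv3 F448154)) (tt N114082 (iv4 F488510)) (tt N69221 F374059) (tt N112375 (iv6 F480793)) (tt N84716 F374058))
theorem Q85813 : ∀ i, i < 85813 → P i := stepQ 85812 Q85812 (allL N85812 (tt N51284 F374065) (tt N51280 (iv0 F374066)) (tt N84709 F374061) (tt N76993 F374062) (tt N50776 (iv4 D188580)) (tt N114734 (iv5 F491579)) (tt N77566 F374063) (tt N76988 F374064))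
theorem Q85814 : ∀ i, i < 85814 → P i := stepQ 85813 Q85813 (allL N85813 (tt N50782 F374071) (tt N74791 (iv0 F374073)) (tt N76266 F374067) (tt N63758 F374068) (tt N77636 F374072) (tt N50776 (iv5 D188581)) (tt N76264 F374069) (tt N63258 F374070))
theorem Q85815 : ∀ i, i < 85815 → P i := stepQ 85814 Q85814 (allL N85814 (tt N75621 F374077) (tt N84711 F374079) (tt N50778 F374074) (tt N74500 F374075) (tt N100193 (iv4 F427932)) (tt N50777 (iv5 D188582)) (tt N74498 (iv6 F374078)) (tt N84710 F374076))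
theorem Q85816 : ∀ i, i < 85816 → P i := stepQ 85815 Q85815 (allL N85815 (tt N84710 (iv1 F374083)) (tt N50778 (iv0 D188583)) (tt N75621 (iv2 F374084)) (tt N75624 F374081) (tt N111265 (iv4 F475521)) (tt N85433 F374082) (tt N64204 F374086) (tt N84711 (iv7 F374085)))
theorem Q85817 : ∀ i, i < 85817 → P i := stepQ 85816 Q85816 (allL N85816 (tt N50778 (iv1 D188584)) (tt N84710 F374087) (tt N84711 (iv2 F374093)) (tt N63057 (iv3 F374090)) (tt N75640 F374091) (tt N85434 F374089) (tt N109679 (iv6 F468066)) (tt N75621 F374088))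
theorem Q85818 : ∀ i, i < 85818 → P i := stepQ 85817 Q85817 (allL N85817 (tt N109721 F468287) (tt N113029 (iv0 F483617)) (tt N100193 (iv2 F427931)) (tt N69949 F374109) (tt N50778 (iv4 D188585)) (tt N78974 F419901) (tt N98187 (iv6 F419897)) (tt N84712 F374094))
theorem Q85819 : ∀ i, i < 85819 → P i := stepQ 85818 Q85818 (allL N85818 (tt N85345 (iv1 F374095)) (tt N50779 (iv0 D188586)) (tt N85344 (iv2 F374103)) (tt N114273 (iv3 F489334)) (tt N114879 D218136) (tt N53669 (iv5 F375288)) (tt N89863 (iv6 F387778)) (tt N83947 F374104))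
theorem Q85820 : ∀ i, i < 85820 → P i := stepQ 85819 Q85819 (allL N85819 (tt N50779 (iv1 D188587)) (tt N85345 F374096) (tt N83947 (iv2 F374101)) (tt N84393 F374099) (tt N84083 (iv4 F374098)) (tt N53670 F374097) (tt N51397 F374100) (tt N85344 (iv7 F374102)))
theorem Q85821 : ∀ i, i < 85821 → P i := stepQ 85820 Q85820 (allL N85820 (tt N59242 (iv1 F374111)) (tt N96275 F411837) (tt N79151 F374112) (tt N50780 (iv3 D188588)) (tt N69949 F374108) (tt N64815 F374105) (tt N63950 F374106) (tt N84714 F374107))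
theorem Q85822 : ∀ i, i < 85822 → P i := stepQ 85821 Q85821 (allL N85821 (tt N63258 (iv1 F374118)) (tt N76266 F374117) (tt N50782 (iv2 D188589)) (tt N74793 F374113) (tt N78965 F374114) (tt N84935 F374115) (tt N108794 (iv6 F463976)) (tt N74791 F374116))
theorem Q85823 : ∀ i, i < 85823 → P i := stepQ 85822 Q85822 (allL N85822 (tt N108793 (iv1 F463967)) (tt N76273 (iv0 F426348)) (tt N108794 (iv2 F463974)) (tt N50784 F374119) (tt N78111 F374120) (tt N84939 F374121) (tt N50782 (iv6 D188590)) (tt N107126 (iv7 F457099)))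
theorem Q85824 : ∀ i, i < 85824 → P i := stepQ 85823 Q85823 (allL N85823 (tt N68187 (iv1 F374126)) (tt N84725 F374127) (tt N74776 F374122) (tt N107126 (iv3 F457097)) (tt N58959 F374123) (tt N70460 F374124) (tt N74774 F374125) (tt N50784 (iv7 D188591)))
theorem Q85825 : ∀ i, i < 85825 → P i := stepQ 85824 Q85824 (allL N85824 (tt N114880 D218137) (tt N50785 (iv0 D188592)) (tt N75110 (iv2 F374132)) (tt N88036 F381546) (tt N109459 (iv4 F467070)) (tt N90850 F391049) (tt N75108 F374133) (tt N114881 D218138))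
theorem Q85826 : ∀ i, i < 85826 → P i := stepQ 85825 Q85825 (allL N85825 (tt N50785 (iv1 D188593)) (tt N114880 F492314) (tt N114881 (iv2 F492315)) (tt N75117 (iv3 F374128)) (tt N65350 F374129) (tt N90851 F411698) (tt N65349 F374130) (tt N75110 F374131))
theorem Q85827 : ∀ i, i < 85827 → P i := stepQ 85826 Q85826 (allL N85826 (tt N75110 F374136) (tt N114881 F492320) (tt N50785 (iv2 D188594)) (tt N64169 F374134) (tt N98457 (iv4 F420956)) (tt N91136 (iv5 F392051)) (tt N64168 F374135) (tt N114880 (iv7 F492313)))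
theorem Q85828 : ∀ i, i < 85828 → P i := stepQ 85827 Q85827 (allL N85827 (tt N114881 (iv1 F492321)) (tt N75110 (iv0 F374139)) (tt N114880 F492312) (tt N50786 F374137) (tt N110419 (iv4 F471485)) (tt N84742 F374138) (tt N114882 D218139) (tt N50785 (iv7 D188595)))
theorem Q85829 : ∀ i, i < 85829 → P i := stepQ 85828 Q85828 (allL N85828 (tt N61050 (iv1 F374143)) (tt N61049 (iv0 F374144)) (tt N61052 F374140) (tt N114882 (iv3 F492323)) (tt N50787 F374141) (tt N114883 D218140) (tt N50786 (iv6 D188596)) (tt N61037 F374142))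
theorem Q85830 : ∀ i, i < 85830 → P i := stepQ 85829 Q85829 (allL N85829 (tt N84493 (iv1 F374150)) (tt N50790 (iv0 D188597)) (tt N62937 (iv2 F374147)) (tt N76034 F374148) (tt N62936 F374145) (tt N98642 (iv5 F421707)) (tt N54906 F374146) (tt N76032 F374149))
theorem Q85831 : ∀ i, i < 85831 → P i := stepQ 85830 Q85830 (allL N85830 (tt N76032 (iv1 F374154)) (tt N62937 F374155) (tt N84493 F374151) (tt N62242 F374152) (tt N98166 F419803) (tt N86072 (iv5 F375053)) (tt N84737 F374153) (tt N50790 (iv7 D188598)))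
theorem Q85832 : ∀ i, i < 85832 → P i := stepQ 85831 Q85831 (allL N85831 (tt N85495 F374160) (tt N83705 (iv0 F374161)) (tt N84448 F374156) (tt N50939 F374157) (tt N50791 (iv4 D188599)) (tt N113678 (iv5 F486595)) (tt N50936 F374158) (tt N84750 F374159))
theorem Q85833 : ∀ i, i < 85833 → P i := stepQ 85832 Q85832 (allL N85832 (tt N87822 (iv1 F380670)) (tt N87821 F380665) (tt N51679 F374162) (tt N50796 F374163) (tt N54450 F374164) (tt N84397 (iv5 F374166)) (tt N50794 (iv6 D188600)) (tt N54798 F374165))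
theorem Q85834 : ∀ i, i < 85834 → P i := stepQ 85833 Q85833 (allL N85833 (tt N85437 (iv1 F374170)) (tt N85436 F374171) (tt N50798 F374167) (tt N83138 (iv3 F374169)) (tt N50797 (iv4 D188601)) (tt N107987 (iv5 F460608)) (tt N114884 D218141) (tt N53728 F374168))
theorem Q85835 : ∀ i, i < 85835 → P i := stepQ 85834 Q85834 (allL N85834 (tt N105574 F450800) (tt N108067 (iv0 F460972)) (tt N50799 F374172) (tt N84755 F374173) (tt N114884 (iv4 F492337)) (tt N89642 (iv5 F387050)) (tt N50797 (iv6 D188602)) (tt N105651 (iv7 F451119)))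
theorem Q85836 : ∀ i, i < 85836 → P i := stepQ 85835 Q85835 (allL N85835 (tt N53728 (iv1 F374174)) (tt N50798 (iv0 D188603)) (tt N85437 F379878) (tt N101486 F433110) (tt N113870 (iv4 F487552)) (tt N105082 (iv5 F448705)) (tt N101483 (iv6 F433111)) (tt N85436 F379876))
theorem Q85837 : ∀ i, i < 85837 → P i := stepQ 85836 Q85836 (allL N85836 (tt N50798 (iv1 D188604)) (tt N53728 F374175) (tt N85436 (iv2 F379875)) (tt N53804 (iv3 F374176)) (tt N85505 (iv4 F374177)) (tt N105078 F448681) (tt N107482 F458476) (tt N85437 (iv7 F379877)))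
theorem Q85838 : ∀ i, i < 85838 → P i := stepQ 85837 Q85837 (allL N85837 (tt N88893 (iv1 F384456)) (tt N88707 (iv0 F383928)) (tt N107987 F460610) (tt N114326 (iv3 F489621)) (tt N111328 (iv4 F475843)) (tt N50798 (iv5 D188605)) (tt N114885 D218142) (tt N83967 F374178))
theorem Q85839 : ∀ i, i < 85839 → P i := stepQ 85838 Q85838 (allL N85838 (tt N114886 D218143) (tt N114887 D218144) (tt N114884 (iv2 F492335)) (tt N114327 (iv3 F489627)) (tt N50799 F374179) (tt N113543 (iv5 F485956)) (tt N50798 (iv6 D188606)) (tt N53726 F374180))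
theorem Q85840 : ∀ i, i < 85840 → P i := stepQ 85839 Q85839 (allL N85839 (tt N105651 (iv1 F451121)) (tt N50799 (iv0 D188607)) (tt N105574 (iv2 F450797)) (tt N114888 D218145) (tt N107269 (iv4 F457724)) (tt N114889 D218146) (tt N105401 F450078) (tt N108067 (iv7 F460971)))
theorem Q85841 : ∀ i, i < 85841 → P i := stepQ 85840 Q85840 (allL N85840 (tt N50799 (iv1 D188608)) (tt N105651 (iv0 F451120)) (tt N108067 (iv2 F460968)) (tt N85703 (iv3 F374181)) (tt N109894 (iv4 F469112)) (tt N114890 D218147) (tt N72797 (iv6 F384426)) (tt N105574 (iv7 F450799)))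
theorem Q85842 : ∀ i, i < 85842 → P i := stepQ 85841 Q85841 (allL N85841 (tt N108067 (iv1 F460973)) (tt N105574 (iv0 F450801)) (tt N105651 (iv2 F451116)) (tt N50802 F374182) (tt N53726 F374183) (tt N91157 (iv5 F392111)) (tt N53724 F374184) (tt N50799 (iv7 D188609)))
theorem Q85843 : ∀ i, i < 85843 → P i := stepQ 85842 Q85842 (allL N85842 (tt N109202 (iv1 F465773)) (tt N109201 (iv0 F465772)) (tt N109204 (iv2 F465779)) (tt N50800 (iv3 D188610)) (tt N114891 D218148) (tt N114892 D218149) (tt N105595 F450907) (tt N84761 F374185))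
theorem Q85844 : ∀ i, i < 85844 → P i := stepQ 85843 Q85843 (allL N85843 (tt N114893 D218150) (tt N114894 D218151) (tt N84760 F374186) (tt N114892 (iv3 F492379)) (tt N114895 D218152) (tt N50800 (iv5 D188611)) (tt N105597 (iv6 F450911)) (tt N84762 F374187))
theorem Q85845 : ∀ i, i < 85845 → P i := stepQ 85844 Q85844 (allL N85844 (tt N110494 (iv1 F471836)) (tt N110493 (iv0 F471832)) (tt N109198 (iv2 F465758)) (tt N50801 (iv3 D188612)) (tt N85887 (iv4 F374324)) (tt N114896 D218153) (tt N109195 F465747) (tt N84759 F374188))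
theorem Q85846 : ∀ i, i < 85846 → P i := stepQ 85845 Q85845 (allL N85845 (tt N114894 (iv1 F492386)) (tt N114893 F492383) (tt N84762 F374189) (tt N114896 (iv3 F492402)) (tt N114897 D218154) (tt N50801 (iv5 D188613)) (tt N84371 (iv6 F374191)) (tt N84760 F374190))
theorem Q85847 : ∀ i, i < 85847 → P i := stepQ 85846 Q85846 (allL N85846 (tt N105650 (iv1 F451114)) (tt N105427 F450218) (tt N84763 F374192) (tt N109195 (iv3 F465744)) (tt N85446 F374193) (tt N99769 (iv5 F426146)) (tt N50801 (iv6 D188614)) (tt N105593 (iv7 F450894)))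
theorem Q85848 : ∀ i, i < 85848 → P i := stepQ 85847 Q85847 (allL N85847 (tt N102940 (iv1 F439355)) (tt N60831 (iv0 F374843)) (tt N56247 F374194) (tt N56050 F374195) (tt N113142 (iv4 F484161)) (tt N50803 (iv5 D188615)) (tt N56048 F374196) (tt N102939 (iv7 F439350)))
theorem Q85849 : ∀ i, i < 85849 → P i := stepQ 85848 Q85848 (allL N85848 (tt N102941 F439359) (tt N114352 (iv0 F489774)) (tt N84774 F374197) (tt N67263 F374198) (tt N50804 (iv4 D188616)) (tt N103276 (iv5 F440937)) (tt N92722 (iv6 F397974)) (tt N67261 F374199))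
theorem Q85850 : ∀ i, i < 85850 → P i := stepQ 85849 Q85849 (allL N85849 (tt N109034 F465026) (tt N85179 (iv0 F374202)) (tt N90182 (iv2 F388811)) (tt N50807 F374200) (tt N104138 (iv4 F444378)) (tt N50805 (iv5 D188617)) (tt N104026 (iv6 F443853)) (tt N84783 F374201))
theorem Q85851 : ∀ i, i < 85851 → P i := stepQ 85850 Q85850 (allL N85850 (tt N114310 F489533) (tt N86186 (iv0 F375314)) (tt N84782 F374203) (tt N76182 F374204) (tt N77400 (iv4 F374207)) (tt N50806 (iv5 D188618)) (tt N82880 F374206) (tt N84785 F374205))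
theorem Q85852 : ∀ i, i < 85852 → P i := stepQ 85851 Q85851 (allL N85851 (tt N50807 (iv1 D188619)) (tt N50809 F374210) (tt N53828 F374214) (tt N50816 (iv3 F374212)) (tt N110378 (iv4 F471305)) (tt N53201 (iv5 F374213)) (tt N114898 D218155) (tt N50987 F374211))
theorem Q85853 : ∀ i, i < 85853 → P i := stepQ 85852 Q85852 (allL N85852 (tt N114899 D218156) (tt N114578 (iv0 F490851)) (tt N82877 F374215) (tt N112540 (iv3 F481579)) (tt N50807 (iv4 D188620)) (tt N83069 F374218) (tt N82632 F374216) (tt N83554 F374217))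
theorem Q85854 : ∀ i, i < 85854 → P i := stepQ 85853 Q85853 (allL N85853 (tt N86186 (iv1 F375315)) (tt N114310 (iv0 F489531)) (tt N84785 F374219) (tt N86176 (iv3 F375274)) (tt N83380 F374221) (tt N50808 (iv5 D188621)) (tt N75954 (iv6 F374222)) (tt N84782 F374220))
theorem Q85855 : ∀ i, i < 85855 → P i := stepQ 85854 Q85854 (allL N85854 (tt N92808 (iv1 F398320)) (tt N92192 (iv0 F396179)) (tt N84786 F374223) (tt N54756 F374224) (tt N50810 F374225) (tt N63059 F374226) (tt N50808 (iv6 D188622)) (tt N75625 F374227))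
theorem Q85856 : ∀ i, i < 85856 → P i := stepQ 85855 Q85855 (allL N85855 (tt N114578 (iv1 F490852)) (tt N114899 F492420) (tt N83554 F374228) (tt N114900 D218157) (tt N50809 (iv4 D188623)) (tt N77399 F374229) (tt N114901 D218158) (tt N82877 F374230))
theorem Q85857 : ∀ i, i < 85857 → P i := stepQ 85856 Q85856 (allL N85856 (tt N103108 F440110) (tt N85190 (iv0 F374235)) (tt N84787 F374231) (tt N61452 F374232) (tt N114901 (iv4 F492429)) (tt N62556 F374233) (tt N50809 (iv6 D188624)) (tt N73979 (iv7 F374234)))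
theorem Q85858 : ∀ i, i < 85858 → P i := stepQ 85857 Q85857 (allL N85857 (tt N89485 F386914) (tt N74521 (iv0 F374238)) (tt N98391 F420751) (tt N50811 (iv3 D188625)) (tt N114403 (iv4 F489977)) (tt N89598 (iv5 F386906)) (tt N105825 (iv6 F451900)) (tt N84790 F374237))
theorem Q85859 : ∀ i, i < 85859 → P i := stepQ 85858 Q85858 (allL N85858 (tt N85209 F376613) (tt N114902 D218159) (tt N84789 F374239) (tt N105825 F451902) (tt N107647 (iv4 F459062)) (tt N109130 (iv5 F465471)) (tt N50811 (iv6 D188626)) (tt N114903 D218160))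
theorem Q85860 : ∀ i, i < 85860 → P i := stepQ 85859 Q85859 (allL N85859 (tt N85010 F374242) (tt N89788 (iv0 F387579)) (tt N89330 (iv2 F386139)) (tt N50812 (iv3 D188627)) (tt N84984 F374241) (tt N86759 (iv5 F377082)) (tt N114904 D218161) (tt N84788 F374240))
theorem Q85861 : ∀ i, i < 85861 → P i := stepQ 85860 Q85860 (allL N85860 (tt N114905 D218162) (tt N70280 (iv0 F374244)) (tt N84791 F374243) (tt N114904 (iv3 F492447)) (tt N113035 (iv4 F483653)) (tt N86763 (iv5 F377098)) (tt N50812 (iv6 D188628)) (tt N114906 D218163))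
theorem Q85862 : ∀ i, i < 85862 → P i := stepQ 85861 Q85861 (allL N85861 (tt N109359 (iv1 F466562)) (tt N110491 (iv0 F471821)) (tt N110496 F471843) (tt N50813 (iv3 D188629)) (tt N50832 F374245) (tt N83379 F374246) (tt N114455 (iv6 F490260)) (tt N85530 F374247))
theorem Q85863 : ∀ i, i < 85863 → P i := stepQ 85862 Q85862 (allL N85862 (tt N51001 (iv1 F374250)) (tt N50815 (iv0 D188630)) (tt N51004 (iv2 F374253)) (tt N83241 F374249) (tt N85290 (iv4 F374251)) (tt N79042 F374248) (tt N109566 (iv6 F467559)) (tt N51003 (iv7 F374254)))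
theorem Q85864 : ∀ i, i < 85864 → P i := stepQ 85863 Q85863 (allL N85863 (tt N50815 (iv1 D188631)) (tt N51001 F374255) (tt N51003 (iv2 F374257)) (tt N84811 (iv3 F374258)) (tt N85291 F374259) (tt N86132 F375194) (tt N61643 (iv6 F375199)) (tt N51004 F374256))
theorem Q85865 : ∀ i, i < 85865 → P i := stepQ 85864 Q85864 (allL N85864 (tt N111168 (iv1 F475049)) (tt N111167 F475045) (tt N61635 F374260) (tt N111162 (iv3 F475005)) (tt N50815 (iv4 D188632)) (tt N98644 (iv5 F421715)) (tt N114907 D218164) (tt N51005 F374261))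
theorem Q85866 : ∀ i, i < 85866 → P i := stepQ 85865 Q85865 (allL N85865 (tt N92270 F396529) (tt N92953 (iv0 F398900)) (tt N98530 (iv2 F421222)) (tt N50818 F374262) (tt N114907 (iv4 F492466)) (tt N51557 F374263) (tt N50815 (iv6 D188633)) (tt N61614 F374264))
theorem Q85867 : ∀ i, i < 85867 → P i := stepQ 85866 Q85866 (allL N85866 (tt N50974 F374267) (tt N113588 (iv0 F486174)) (tt N50991 F374265) (tt N114898 (iv3 F492411)) (tt N91443 (iv4 F393140)) (tt N50949 F374266) (tt N50816 (iv6 D188634)) (tt N114457 (iv7 F490272)))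
theorem Q85868 : ∀ i, i < 85868 → P i := stepQ 85867 Q85867 (allL N85867 (tt N77513 F374270) (tt N114908 D218165) (tt N111158 (iv2 F474987)) (tt N50817 (iv3 D188635)) (tt N111162 (iv4 F475006)) (tt N53972 F374268) (tt N114909 D218166) (tt N51007 F374269))
theorem Q85869 : ∀ i, i < 85869 → P i := stepQ 85868 Q85868 (allL N85868 (tt N86208 (iv1 F375379)) (tt N64849 F374384) (tt N50995 F374271) (tt N114909 (iv3 F492477)) (tt N50818 F374272) (tt N106280 F453874) (tt N50817 (iv6 D188636)) (tt N114910 D218167))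
theorem Q85870 : ∀ i, i < 85870 → P i := stepQ 85869 Q85869 (allL N85869 (tt N50998 (iv1 F374278)) (tt N50818 (iv0 D188637)) (tt N50996 F376956) (tt N84806 F376991) (tt N101419 F432917) (tt N86794 (iv5 F377227)) (tt N86566 (iv6 F376489)) (tt N50997 F376957))
theorem Q85871 : ∀ i, i < 85871 → P i := stepQ 85870 Q85870 (allL N85870 (tt N50997 (iv1 F374279)) (tt N50996 F374280) (tt N50998 F374274) (tt N61614 F374275) (tt N114910 (iv4 F492484)) (tt N51562 F374276) (tt N51012 F374277) (tt N50818 (iv7 D188639)))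
theorem Q85872 : ∀ i, i < 85872 → P i := stepQ 85871 Q85871 (allL N85871 (tt N50827 F374284) (tt N51014 F374285) (tt N50983 F374281) (tt N89485 (iv3 F386625)) (tt N56100 F374282) (tt N50819 (iv5 D188640)) (tt N114331 (iv6 F489650)) (tt N50931 F374283))
theorem Q85873 : ∀ i, i < 85873 → P i := stepQ 85872 Q85872 (allL N85872 (tt N86221 (iv1 F375436)) (tt N86225 (iv0 F375450)) (tt N51008 F374286) (tt N114456 (iv3 F490264)) (tt N50823 F374287) (tt N112645 (iv5 F481970)) (tt N50822 (iv6 D188641)) (tt N114911 D218168))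
theorem Q85874 : ∀ i, i < 85874 → P i := stepQ 85873 Q85873 (allL N85873 (tt N51012 (iv1 F374291)) (tt N50823 (iv0 D188642)) (tt N51009 (iv2 F374289)) (tt N103108 (iv3 F440108)) (tt N96623 (iv4 F413219)) (tt N61270 F374288) (tt N96622 F413217) (tt N51010 F374290))
theorem Q85875 : ∀ i, i < 85875 → P i := stepQ 85874 Q85874 (allL N85874 (tt N51010 (iv1 F374295)) (tt N51009 F374296) (tt N51012 F374292) (tt N76185 F374293) (tt N114911 (iv4 F492489)) (tt N109717 (iv5 F468263)) (tt N50998 F374294) (tt N50823 (iv7 D188643)))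
theorem Q85876 : ∀ i, i < 85876 → P i := stepQ 85875 Q85875 (allL N85875 (tt N98631 (iv1 F421654)) (tt N85939 (iv0 F374523)) (tt N78773 F374297) (tt N98644 (iv3 F421713)) (tt N50824 (iv4 D188644)) (tt N111162 (iv5 F475007)) (tt N98044 (iv6 F419284)) (tt N51025 F374298))
theorem Q85877 : ∀ i, i < 85877 → P i := stepQ 85876 Q85876 (allL N85876 (tt N103066 (iv1 F439934)) (tt N110500 F471866) (tt N98639 (iv2 F421685)) (tt N50825 (iv3 D188645)) (tt N98644 (iv4 F421714)) (tt N89583 (iv5 F386822)) (tt N114912 D218169) (tt N51028 F374300))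
theorem Q85878 : ∀ i, i < 85878 → P i := stepQ 85877 Q85877 (allL N85877 (tt N96508 F413473) (tt N96948 (iv0 F414740)) (tt N51019 F374301) (tt N114912 (iv3 F492494)) (tt N50826 F374302) (tt N96497 (iv5 F412766)) (tt N50825 (iv6 D188646)) (tt N114913 D218170))
theorem Q85879 : ∀ i, i < 85879 → P i := stepQ 85878 Q85878 (allL N85878 (tt N51023 (iv1 F374306)) (tt N50826 (iv0 D188647)) (tt N51020 F392319) (tt N84820 (iv3 F412185)) (tt N96350 F412183) (tt N114914 D218171) (tt N91221 (iv6 F392318)) (tt N51021 F392321))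
theorem Q85880 : ∀ i, i < 85880 → P i := stepQ 85879 Q85879 (allL N85879 (tt N50826 (iv1 D188648)) (tt N51023 F374303) (tt N51021 F392322) (tt N114902 F492437) (tt N96352 F412194) (tt N114440 (iv5 F490182)) (tt N114915 D218172) (tt N51020 F392323))
theorem Q85881 : ∀ i, i < 85881 → P i := stepQ 85880 Q85880 (allL N85880 (tt N51021 (iv1 F374307)) (tt N51020 F374308) (tt N51023 F374304) (tt N92188 (iv3 F396157)) (tt N114913 (iv4 F492498)) (tt N91787 (iv5 F394419)) (tt N51034 F374305) (tt N50826 (iv7 D188649)))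
theorem Q85882 : ∀ i, i < 85882 → P i := stepQ 85881 Q85881 (allL N85881 (tt N109064 F465178) (tt N99813 (iv0 F426352)) (tt N77671 F374309) (tt N50829 F374310) (tt N76284 F374311) (tt N51330 F374312) (tt N50827 (iv6 D188650)) (tt N109063 (iv7 F465169)))
theorem Q85883 : ∀ i, i < 85883 → P i := stepQ 85882 Q85882 (allL N85882 (tt N114473 (iv1 F490365)) (tt N109787 F468613) (tt N51030 F374313) (tt N114458 (iv3 F490274)) (tt N50829 F374314) (tt N85159 (iv5 F375380)) (tt N50828 (iv6 D188651)) (tt N114599 (iv7 F490948)))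
theorem Q85884 : ∀ i, i < 85884 → P i := stepQ 85883 Q85883 (allL N85883 (tt N51034 (iv1 F374319)) (tt N50829 (iv0 D188652)) (tt N51031 F413496) (tt N114905 (iv3 F492454)) (tt N96693 F413502) (tt N114916 D218173) (tt N98608 F421562) (tt N51032 F413497))
theorem Q85885 : ∀ i, i < 85885 → P i := stepQ 85884 Q85884 (allL N85884 (tt N50829 (iv1 D188653)) (tt N51034 F374315) (tt N51032 F413491) (tt N84829 F413492) (tt N96692 (iv4 F413490)) (tt N114917 D218174) (tt N98305 (iv6 F420429)) (tt N51031 F413493))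
theorem Q85886 : ∀ i, i < 85886 → P i := stepQ 85885 Q85885 (allL N85885 (tt N51032 (iv1 F374320)) (tt N51031 F374321) (tt N51034 F374316) (tt N109063 (iv3 F465172)) (tt N114599 (iv4 F490949)) (tt N51342 F374317) (tt N51023 F374318) (tt N50829 (iv7 D188654)))
theorem Q85887 : ∀ i, i < 85887 → P i := stepQ 85886 Q85886 (allL N85886 (tt N96693 (iv1 F413499)) (tt N96692 F413494) (tt N51040 F374322) (tt N110435 (iv3 F471580)) (tt N51419 F374323) (tt N114285 (iv5 F489397)) (tt N50831 (iv6 D188655)) (tt N96687 (iv7 F413453)))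
theorem Q85888 : ∀ i, i < 85888 → P i := stepQ 85887 Q85887 (allL N85887 (tt N114918 D218175) (tt N50832 (iv0 D188656)) (tt N110545 (iv2 F472070)) (tt N110442 (iv3 F471602)) (tt N85844 F374324) (tt N89600 F396880) (tt N114919 D218176) (tt N110547 (iv7 F472082)))
theorem Q85889 : ∀ i, i < 85889 → P i := stepQ 85888 Q85888 (allL N85888 (tt N50832 (iv1 D188657)) (tt N114918 F492529) (tt N110547 (iv2 F472080)) (tt N114573 (iv3 F490826)) (tt N114262 (iv4 F489286)) (tt N89601 F386923) (tt N114920 D218177) (tt N110545 (iv7 F472072)))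
theorem Q85890 : ∀ i, i < 85890 → P i := stepQ 85889 Q85889 (allL N85889 (tt N110545 (iv1 F472074)) (tt N110547 (iv0 F472083)) (tt N50832 (iv2 D188658)) (tt N51043 F374325) (tt N110496 (iv4 F471842)) (tt N109605 F467698) (tt N77128 F374326) (tt N114918 (iv7 F492530)))
theorem Q85891 : ∀ i, i < 85891 → P i := stepQ 85890 Q85890 (allL N85890 (tt N102721 (iv1 F438355)) (tt N114921 D218178) (tt N109605 (iv2 F467692)) (tt N50833 F374327) (tt N63799 (iv4 F374328)) (tt N50832 (iv5 D188659)) (tt N79612 F374330) (tt N51119 (iv7 F374329)))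
theorem Q85892 : ∀ i, i < 85892 → P i := stepQ 85891 Q85891 (allL N85891 (tt N110547 (iv1 F472084)) (tt N110545 (iv0 F472073)) (tt N114918 F492528) (tt N50834 F374331) (tt N85530 F374332) (tt N51119 F374333) (tt N85529 (iv6 F374334)) (tt N50832 (iv7 D188660)))
theorem Q85893 : ∀ i, i < 85893 → P i := stepQ 85892 Q85892 (allL N85892 (tt N114922 D218179) (tt N110436 (iv0 F471590)) (tt N51047 F374338) (tt N79612 F374339) (tt N51124 F374340) (tt N110432 (iv5 F471561)) (tt N50833 (iv6 D188661)) (tt N106753 (iv7 F455545)))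
theorem Q85894 : ∀ i, i < 85894 → P i := stepQ 85893 Q85893 (allL N85893 (tt N105232 (iv1 F449321)) (tt N114923 D218180) (tt N51048 F374341) (tt N85529 F374342) (tt N50835 F374343) (tt N114924 D218181) (tt N50834 (iv6 D188662)) (tt N98198 (iv7 F419941)))
theorem Q85895 : ∀ i, i < 85895 → P i := stepQ 85894 Q85894 (allL N85894 (tt N50981 (iv1 F374345)) (tt N50835 (iv0 D188663)) (tt N51049 F375263) (tt N98339 (iv3 F420551)) (tt N114925 D218182) (tt N80585 F374344) (tt N114451 (iv6 F490236)) (tt N51050 F375264))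
theorem Q85896 : ∀ i, i < 85896 → P i := stepQ 85895 Q85895 (allL N85895 (tt N50835 (iv1 D188664)) (tt N50981 F374346) (tt N51050 (iv2 F375265)) (tt N114926 D218183) (tt N114927 D218184) (tt N88459 F383137) (tt N98293 (iv6 F420365)) (tt N51049 (iv7 F375266)))
theorem Q85897 : ∀ i, i < 85897 → P i := stepQ 85896 Q85896 (allL N85896 (tt N98196 (iv1 F419932)) (tt N98195 F419931) (tt N51058 F374347) (tt N85349 F374348) (tt N86117 (iv4 F375164)) (tt N84838 F374349) (tt N50836 (iv6 D188665)) (tt N98172 (iv7 F419838)))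
theorem Q85898 : ∀ i, i < 85898 → P i := stepQ 85897 Q85897 (allL N85897 (tt N51077 (iv1 F374353)) (tt N50839 (iv0 D188666)) (tt N51080 (iv2 F374352)) (tt N74896 F374351) (tt N89053 (iv4 F384981)) (tt N53832 F374350) (tt N76568 (iv6 F374355)) (tt N51079 F374354))
theorem Q85899 : ∀ i, i < 85899 → P i := stepQ 85898 Q85898 (allL N85898 (tt N114928 D218185) (tt N85316 (iv0 F432923)) (tt N114795 (iv2 F491908)) (tt N50841 F374356) (tt N101409 (iv4 F432877)) (tt N83709 F374357) (tt N50839 (iv6 D188667)) (tt N114929 D218186))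
theorem Q85900 : ∀ i, i < 85900 → P i := stepQ 85899 Q85899 (allL N85899 (tt N101419 F432922) (tt N113328 (iv0 F485052)) (tt N51072 F374358) (tt N58342 F374359) (tt N50841 F374360) (tt N58341 F374361) (tt N50840 (iv6 D188668)) (tt N114930 D218187))
theorem Q85901 : ∀ i, i < 85901 → P i := stepQ 85900 Q85900 (allL N85900 (tt N51075 (iv1 F374368)) (tt N50841 (iv0 D188669)) (tt N51073 F374379) (tt N68146 (iv3 F374363)) (tt N86078 (iv4 F375375)) (tt N68145 F374362) (tt N86703 F376833) (tt N51074 (iv7 F374378)))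
theorem Q85902 : ∀ i, i < 85902 → P i := stepQ 85901 Q85901 (allL N85901 (tt N50841 (iv1 D188670)) (tt N51075 F374364) (tt N51074 (iv2 F374380)) (tt N105415 (iv3 F450158)) (tt N86079 (iv4 F375064)) (tt N86893 (iv5 F377600)) (tt N114337 (iv6 F489684)) (tt N51073 F374381))
theorem Q85903 : ∀ i, i < 85903 → P i := stepQ 85902 Q85902 (allL N85902 (tt N51074 (iv1 F374369)) (tt N51073 F374382) (tt N51075 F374365) (tt N114929 (iv3 F492588)) (tt N114930 (iv4 F492596)) (tt N83711 F374366) (tt N51090 F374367) (tt N50841 (iv7 D188671)))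
theorem Q85904 : ∀ i, i < 85904 → P i := stepQ 85903 Q85903 (allL N85903 (tt N51060 (iv1 F374388)) (tt N50844 (iv0 D188672)) (tt N51062 (iv2 F374387)) (tt N84846 (iv3 F374390)) (tt N65921 F374386) (tt N74193 F374385) (tt N60748 (iv6 F374391)) (tt N51061 F374389))
theorem Q85905 : ∀ i, i < 85905 → P i := stepQ 85904 Q85904 (allL N85904 (tt N96623 F413221) (tt N111230 (iv0 F475336)) (tt N51086 F374392) (tt N93749 (iv3 F401755)) (tt N50846 F374393) (tt N114931 D218188) (tt N50845 (iv6 D188673)) (tt N114932 D218189))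
theorem Q85906 : ∀ i, i < 85906 → P i := stepQ 85905 Q85905 (allL N85905 (tt N51090 (iv1 F374405)) (tt N50846 (iv0 D188674)) (tt N51087 F374398) (tt N74958 (iv3 F374396)) (tt N86103 (iv4 F375131)) (tt N74957 F374394) (tt N96624 (iv6 F413225)) (tt N51088 (iv7 F374397)))
theorem Q85907 : ∀ i, i < 85907 → P i := stepQ 85906 Q85906 (allL N85906 (tt N50846 (iv1 D188675)) (tt N51090 F374399) (tt N51088 F374404) (tt N61001 (iv3 F374401)) (tt N86104 F375427) (tt N60998 (iv5 F374403)) (tt N61089 (iv6 F374402)) (tt N51087 F374400))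
theorem Q85908 : ∀ i, i < 85908 → P i := stepQ 85907 Q85907 (allL N85907 (tt N51088 (iv1 F374409)) (tt N51087 F374410) (tt N51090 F374406) (tt N61196 F374407) (tt N114932 (iv4 F492610)) (tt N82035 F375439) (tt N51075 F374408) (tt N50846 (iv7 D188676)))
theorem Q85909 : ∀ i, i < 85909 → P i := stepQ 85908 Q85908 (allL N85908 (tt N50848 (iv1 D188677)) (tt N51103 (iv0 F374416)) (tt N51101 F374415) (tt N107499 (iv3 F458541)) (tt N81537 (iv4 F374413)) (tt N53881 F374412) (tt N54454 (iv6 F374414)) (tt N51102 F374411))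
theorem Q85910 : ∀ i, i < 85910 → P i := stepQ 85909 Q85909 (allL N85909 (tt N51102 (iv1 F374423)) (tt N51101 F374422) (tt N50848 (iv2 D188678)) (tt N51108 F374417) (tt N85668 F374418) (tt N55290 F374419) (tt N84181 F374420) (tt N51103 F374421))
theorem Q85911 : ∀ i, i < 85911 → P i := stepQ 85910 Q85910 (allL N85910 (tt N107499 (iv1 F458545)) (tt N88445 F383080) (tt N76296 F374424) (tt N50849 (iv3 D188679)) (tt N51918 F374427) (tt N76295 F374425) (tt N51916 F374426) (tt N88275 (iv7 F382429)))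
theorem Q85912 : ∀ i, i < 85912 → P i := stepQ 85911 Q85911 (allL N85911 (tt N106905 F456225) (tt N72598 (iv0 F374431)) (tt N83842 F374428) (tt N82892 F374430) (tt N50849 (iv4 D188680)) (tt N107174 (iv5 F457337)) (tt N82843 F374429) (tt N113124 (iv7 F484083)))
theorem Q85913 : ∀ i, i < 85913 → P i := stepQ 85912 Q85912 (allL N85912 (tt N56108 (iv1 F374437)) (tt N76179 (iv0 F374438)) (tt N74874 (iv2 F374436)) (tt N50850 (iv3 D188681)) (tt N51332 F374435) (tt N62793 F374433) (tt N113162 (iv6 F484269)) (tt N63275 F374434))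
theorem Q85914 : ∀ i, i < 85914 → P i := stepQ 85913 Q85913 (allL N85913 (tt N72598 F374440) (tt N106905 F456226) (tt N113124 (iv2 F484080)) (tt N86229 (iv3 F375471)) (tt N50850 (iv4 D188682)) (tt N108014 (iv5 F460733)) (tt N113163 (iv6 F484275)) (tt N83842 F374439))
theorem Q85915 : ∀ i, i < 85915 → P i := stepQ 85914 Q85914 (allL N85914 (tt N114933 D218190) (tt N110430 (iv0 F471550)) (tt N91738 (iv2 F394259)) (tt N50853 (iv3 D188683)) (tt N88031 (iv4 F381531)) (tt N51045 F374441) (tt N54204 F374446) (tt N51044 F374442))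
theorem Q85916 : ∀ i, i < 85916 → P i := stepQ 85915 Q85915 (allL N85915 (tt N110451 F471656) (tt N57732 (iv0 F374447)) (tt N51120 F374443) (tt N54204 (iv3 F374445)) (tt N50854 F374444) (tt N87439 (iv5 F379333)) (tt N50853 (iv6 D188684)) (tt N91707 (iv7 F394118)))
theorem Q85917 : ∀ i, i < 85917 → P i := stepQ 85916 Q85916 (allL N85916 (tt N51123 (iv1 F374461)) (tt N50854 (iv0 D188685)) (tt N51121 F378697) (tt N106776 F455631) (tt N89569 (iv4 F386782)) (tt N90455 (iv5 F389706)) (tt N114934 D218191) (tt N51122 F378698))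
theorem Q85918 : ∀ i, i < 85918 → P i := stepQ 85917 Q85917 (allL N85917 (tt N50854 (iv1 D188686)) (tt N51123 F374454) (tt N51122 F378694) (tt N107108 (iv3 F457010)) (tt N89570 (iv4 F386776)) (tt N85603 (iv5 F374455)) (tt N107107 (iv6 F457007)) (tt N51121 F378695))
theorem Q85919 : ∀ i, i < 85919 → P i := stepQ 85918 Q85918 (allL N85918 (tt N51122 (iv1 F374462)) (tt N51121 F374463) (tt N51123 F374457) (tt N85014 F374458) (tt N91707 (iv4 F394115)) (tt N50863 F374459) (tt N53964 F374460) (tt N50854 (iv7 D188687)))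
theorem Q85920 : ∀ i, i < 85920 → P i := stepQ 85919 Q85919 (allL N85919 (tt N82862 F374467) (tt N86273 (iv0 F375639)) (tt N88985 (iv2 F384663)) (tt N82887 F374464) (tt N85541 F374466) (tt N50856 (iv5 D188688)) (tt N105412 (iv6 F450140)) (tt N83825 F374465))
theorem Q85921 : ∀ i, i < 85921 → P i := stepQ 85920 Q85920 (allL N85920 (tt N86273 F375640) (tt N82862 F374475) (tt N83825 F374472) (tt N52848 F374473) (tt N85542 F374476) (tt N50858 (iv5 D188689)) (tt N57470 F374474) (tt N88985 (iv7 F384665)))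
theorem Q85922 : ∀ i, i < 85922 → P i := stepQ 85921 Q85921 (allL N85921 (tt N86310 (iv1 F375790)) (tt N50859 (iv0 D188690)) (tt N86309 (iv2 F375780)) (tt N98694 (iv3 F421877)) (tt N84882 F374477) (tt N92593 (iv5 F397542)) (tt N78813 F375781) (tt N86308 F375782))
theorem Q85923 : ∀ i, i < 85923 → P i := stepQ 85922 Q85922 (allL N85922 (tt N50859 (iv1 D188691)) (tt N86310 F375791) (tt N86308 F375779) (tt N51058 F374807) (tt N84888 F374478) (tt N85275 (iv5 F374806)) (tt N51056 F374808) (tt N86309 (iv7 F375778)))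
theorem Q85924 : ∀ i, i < 85924 → P i := stepQ 85923 Q85923 (allL N85923 (tt N70627 (iv1 F374483)) (tt N91036 (iv0 F391705)) (tt N85027 F374479) (tt N51456 F374480) (tt N50860 F374481) (tt N62809 F374482) (tt N50859 (iv6 D188692)) (tt N109088 (iv7 F465273)))
theorem Q85925 : ∀ i, i < 85925 → P i := stepQ 85924 Q85924 (allL N85924 (tt N89640 (iv1 F387047)) (tt N50860 (iv0 D188693)) (tt N108366 (iv2 F462273)) (tt N104718 F446975) (tt N114935 D218192) (tt N91055 F391781) (tt N114936 D218193) (tt N113123 (iv7 F484075)))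
theorem Q85926 : ∀ i, i < 85926 → P i := stepQ 85925 Q85925 (allL N85925 (tt N50860 (iv1 D188694)) (tt N89640 F387046) (tt N113123 F484079) (tt N108371 (iv3 F462299)) (tt N114937 D218194) (tt N91054 (iv5 F391775)) (tt N114938 D218195) (tt N108366 (iv7 F462276)))
theorem Q85927 : ∀ i, i < 85927 → P i := stepQ 85926 Q85926 (allL N85926 (tt N113123 (iv1 F484074)) (tt N108366 (iv0 F462278)) (tt N89640 (iv2 F387043)) (tt N50863 F374484) (tt N109088 (iv4 F465271)) (tt N85014 F374485) (tt N86324 (iv6 F375830)) (tt N50860 (iv7 D188695)))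
theorem Q85928 : ∀ i, i < 85928 → P i := stepQ 85927 Q85927 (allL N85927 (tt N106262 (iv1 F453790)) (tt N114321 (iv0 F489591)) (tt N96146 (iv2 F411239)) (tt N50861 (iv3 D188697)) (tt N95260 (iv4 F407615)) (tt N96125 (iv5 F411165)) (tt N95259 F407614) (tt N51180 F380060))
theorem Q85929 : ∀ i, i < 85929 → P i := stepQ 85928 Q85928 (allL N85928 (tt N89073 (iv1 F385048)) (tt N89971 F388146) (tt N51178 F380062) (tt N96125 (iv3 F411163)) (tt N93330 (iv4 F400431)) (tt N50861 (iv5 D188699)) (tt N93328 (iv6 F400426)) (tt N51182 F380063))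
theorem Q85930 : ∀ i, i < 85930 → P i := stepQ 85929 Q85929 (allL N85929 (tt N84057 F380067) (tt N114712 F491480) (tt N114711 (iv2 F491475)) (tt N50862 (iv3 D188701)) (tt N114939 D218196) (tt N105038 (iv5 F448507)) (tt N94588 (iv6 F405088)) (tt N51176 F380068))
theorem Q85931 : ∀ i, i < 85931 → P i := stepQ 85930 Q85930 (allL N85930 (tt N89971 (iv1 F388147)) (tt N89073 (iv0 F385047)) (tt N51182 F380070) (tt N105038 (iv3 F448505)) (tt N114940 D218197) (tt N50862 (iv5 D188703)) (tt N55102 F374488) (tt N51178 F380071))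
theorem Q85932 : ∀ i, i < 85932 → P i := stepQ 85931 Q85931 (allL N85931 (tt N54286 F380072) (tt N54289 F380073) (tt N51183 F380074) (tt N94588 F405085) (tt N53115 F380075) (tt N105463 (iv5 F450356)) (tt N50862 (iv6 D188704)) (tt N112282 (iv7 F480341)))
theorem Q85933 : ∀ i, i < 85933 → P i := stepQ 85932 Q85932 (allL N85932 (tt N54741 (iv1 F374494)) (tt N51421 (iv0 F374493)) (tt N54747 F374489) (tt N52746 F374490) (tt N82766 F374491) (tt N86659 (iv5 F376704)) (tt N50867 (iv6 D188705)) (tt N54746 F374492))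
theorem Q85934 : ∀ i, i < 85934 → P i := stepQ 85933 Q85933 (allL N85933 (tt N50869 (iv1 D188706)) (tt N85274 F374495) (tt N76177 (iv2 F374499)) (tt N53670 F374500) (tt N56102 F374498) (tt N84393 F374497) (tt N109072 (iv6 F465222)) (tt N56101 F374496))
theorem Q85935 : ∀ i, i < 85935 → P i := stepQ 85934 Q85934 (allL N85934 (tt N114941 D218198) (tt N114276 (iv0 F489346)) (tt N84992 F374501) (tt N89315 (iv3 F386055)) (tt N50870 (iv4 D188707)) (tt N112623 (iv5 F481879)) (tt N61391 F374502) (tt N85348 F374503))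
theorem Q85936 : ∀ i, i < 85936 → P i := stepQ 85935 Q85935 (allL N85935 (tt N96689 (iv1 F413469)) (tt N96688 F413465) (tt N53674 F374504) (tt N98245 (iv3 F420124)) (tt N51037 F374505) (tt N84428 F374506) (tt N50871 (iv6 D188708)) (tt N96686 (iv7 F413447)))
theorem Q85937 : ∀ i, i < 85937 → P i := stepQ 85936 Q85936 (allL N85936 (tt N114942 D218199) (tt N76509 (iv0 F394208)) (tt N51419 F374507) (tt N80610 F374508) (tt N51040 F374509) (tt N51272 F374510) (tt N50872 (iv6 D188709)) (tt N96691 (iv7 F413484)))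
theorem Q85938 : ∀ i, i < 85938 → P i := stepQ 85937 Q85937 (allL N85937 (tt N114943 D218200) (tt N76893 (iv0 F374513)) (tt N99338 (iv2 F424162)) (tt N50873 (iv3 D188710)) (tt N89315 (iv4 F386056)) (tt N53627 F374511) (tt N59485 F374512) (tt N86116 (iv7 F375163)))
theorem Q85939 : ∀ i, i < 85939 → P i := stepQ 85938 Q85938 (allL N85938 (tt N79049 (iv1 F374515)) (tt N50874 (iv0 D188711)) (tt N79046 (iv2 F374514)) (tt N84991 (iv3 F374518)) (tt N111316 (iv4 F475781)) (tt N85378 F374517) (tt N92792 (iv6 F398254)) (tt N79047 F374516))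
theorem Q85940 : ∀ i, i < 85940 → P i := stepQ 85939 Q85939 (allL N85939 (tt N85875 F374523) (tt N61622 F374524) (tt N79048 F374520) (tt N113232 (iv3 F484620)) (tt N50874 (iv4 D188712)) (tt N111151 (iv5 F474944)) (tt N61023 F374521) (tt N85282 F374522))
theorem Q85941 : ∀ i, i < 85941 → P i := stepQ 85940 Q85940 (allL N85940 (tt N50881 (iv1 F374526)) (tt N50877 (iv0 D188713)) (tt N54750 (iv2 F374527)) (tt N84942 (iv3 F374528)) (tt N97562 (iv4 F417389)) (tt N84440 F374525) (tt N97275 (iv6 F416165)) (tt N92793 F398258))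
theorem Q85942 : ∀ i, i < 85942 → P i := stepQ 85941 Q85941 (allL N85941 (tt N50877 (iv1 D188714)) (tt N50881 F374529) (tt N92793 (iv2 F398255)) (tt N50886 (iv3 F374532)) (tt N92109 (iv4 F395759)) (tt N82744 F374531) (tt N56177 (iv6 F374533)) (tt N54750 F374530))
theorem Q85943 : ∀ i, i < 85943 → P i := stepQ 85942 Q85942 (allL N85942 (tt N86575 (iv1 F376528)) (tt N92710 F397932) (tt N102390 F437023) (tt N102251 (iv3 F436373)) (tt N50877 (iv4 D188715)) (tt N102340 (iv5 F436800)) (tt N102250 (iv6 F436369)) (tt N97862 F418562))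
theorem Q85944 : ∀ i, i < 85944 → P i := stepQ 85943 Q85943 (allL N85943 (tt N56171 F374537) (tt N69219 (iv0 F374538)) (tt N92784 (iv2 F398214)) (tt N61019 F374534) (tt N102250 (iv4 F436367)) (tt N61017 F374535) (tt N50877 (iv6 D188716)) (tt N66624 F374536))
theorem Q85945 : ∀ i, i < 85945 → P i := stepQ 85944 Q85944 (allL N85944 (tt N114944 D218201) (tt N114945 D218202) (tt N84915 F374539) (tt N50881 F374540) (tt N93207 (iv4 F399969)) (tt N50879 (iv5 D188717)) (tt N66620 (iv6 F374541)) (tt N93204 (iv7 F399960)))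
theorem Q85946 : ∀ i, i < 85946 → P i := stepQ 85945 Q85945 (allL N85945 (tt N52748 F374548) (tt N52746 (iv0 F374547)) (tt N83728 F374543) (tt N50882 F374544) (tt N83728 F374545) (tt N114946 D218203) (tt N50879 (iv6 D188718)) (tt N83735 (iv7 F374546)))
theorem Q85947 : ∀ i, i < 85947 → P i := stepQ 85946 Q85946 (allL N85946 (tt N80129 F374553) (tt N84570 F374552) (tt N51640 F374549) (tt N55419 F374550) (tt N80739 (iv4 F374554)) (tt N50880 (iv5 D188719)) (tt N103239 (iv6 F440722)) (tt N51637 F374551))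
theorem Q85948 : ∀ i, i < 85948 → P i := stepQ 85947 Q85947 (allL N85947 (tt N51273 F374559) (tt N51402 F374560) (tt N51403 F374556) (tt N114946 (iv3 F492697)) (tt N88301 (iv4 F382505)) (tt N50882 (iv5 D188720)) (tt N66621 F374557) (tt N51404 F374558))
theorem Q85949 : ∀ i, i < 85949 → P i := stepQ 85948 Q85948 (allL N85948 (tt N53354 F374565) (tt N53313 (iv0 F374566)) (tt N53353 F374561) (tt N54076 F374562) (tt N50883 (iv4 D188721)) (tt N114947 D218204) (tt N83018 F374563) (tt N53293 F374564))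
theorem Q85950 : ∀ i, i < 85950 → P i := stepQ 85949 Q85949 (allL N85949 (tt N54740 (iv1 F374569)) (tt N50885 (iv0 D188722)) (tt N54743 (iv2 F374570)) (tt N114945 F492693) (tt N60914 F374567) (tt N84394 F374568) (tt N70761 F374571) (tt N54742 (iv7 F374572)))
theorem Q85951 : ∀ i, i < 85951 → P i := stepQ 85950 Q85950 (allL N85950 (tt N50885 (iv1 D188723)) (tt N54740 F374573) (tt N54742 F374578) (tt N84937 (iv3 F374575)) (tt N60909 F374579) (tt N84395 (iv5 F374577)) (tt N60908 (iv6 F374576)) (tt N54743 F374574))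
theorem Q85952 : ∀ i, i < 85952 → P i := stepQ 85951 Q85951 (allL N85951 (tt N85002 F374584) (tt N97859 F418549) (tt N54749 F374580) (tt N56177 F374581) (tt N83671 F374582) (tt N84910 F374583) (tt N50886 (iv6 D188724)) (tt N92788 (iv7 F398232)))
theorem Q85953 : ∀ i, i < 85953 → P i := stepQ 85952 Q85952 (allL N85952 (tt N104825 (iv1 F447481)) (tt N104826 (iv0 F447488)) (tt N51412 F374586) (tt N70472 F374587) (tt N86552 (iv4 F376479)) (tt N50889 (iv5 D188725)) (tt N50890 F374588) (tt N69223 F374589))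
theorem Q85954 : ∀ i, i < 85954 → P i := stepQ 85953 Q85953 (allL N85953 (tt N54739 (iv1 F374593)) (tt N53661 F374592) (tt N50891 (iv2 D188726)) (tt N50899 F374590) (tt N99810 (iv4 F426325)) (tt N86713 (iv5 F376876)) (tt N99810 (iv6 F426326)) (tt N85005 F374591))
theorem Q85955 : ∀ i, i < 85955 → P i := stepQ 85954 Q85954 (allL N85954 (tt N50892 (iv1 D188727)) (tt N85004 F374594) (tt N85003 (iv2 F374596)) (tt N97907 F418752) (tt N82505 (iv4 F374597)) (tt N114948 D218205) (tt N68318 (iv6 F374598)) (tt N68193 F374595))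
theorem Q85956 : ∀ i, i < 85956 → P i := stepQ 85955 Q85955 (allL N85955 (tt N85003 (iv1 F374603)) (tt N68193 F374604) (tt N85004 F374599) (tt N85006 F374600) (tt N68241 F374601) (tt N114468 (iv5 F490333)) (tt N85009 F374602) (tt N50892 (iv7 D188728)))
theorem Q85957 : ∀ i, i < 85957 → P i := stepQ 85956 Q85956 (allL N85956 (tt N50894 (iv1 D188729)) (tt N85009 F374605) (tt N56204 F374608) (tt N92849 (iv3 F398499)) (tt N111824 (iv4 F478156)) (tt N56202 (iv5 F374607)) (tt N68198 F374609) (tt N85008 F374606))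
theorem Q85958 : ∀ i, i < 85958 → P i := stepQ 85957 Q85957 (allL N85957 (tt N67008 F374613) (tt N77343 F374614) (tt N77341 F374610) (tt N50895 (iv3 D188730)) (tt N86924 F377715) (tt N82748 F374611) (tt N101691 (iv6 F433886)) (tt N77340 F374612))
theorem Q85959 : ∀ i, i < 85959 → P i := stepQ 85958 Q85958 (allL N85958 (tt N68960 F374619) (tt N82505 F374620) (tt N82504 F374615) (tt N101691 (iv3 F433884)) (tt N50949 F374616) (tt N80330 F374617) (tt N50895 (iv6 D188731)) (tt N82503 F374618))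
theorem Q85960 : ∀ i, i < 85960 → P i := stepQ 85959 Q85959 (allL N85959 (tt N101691 (iv1 F433889)) (tt N101687 (iv0 F433872)) (tt N50897 (iv2 D188732)) (tt N69051 F374623) (tt N81743 F374624) (tt N74990 F374625) (tt N97656 (iv6 F417801)) (tt N69047 F374626))
theorem Q85961 : ∀ i, i < 85961 → P i := stepQ 85960 Q85960 (allL N85960 (tt N96690 F413479) (tt N84428 (iv0 F374629)) (tt N84931 F374627) (tt N92563 (iv3 F397395)) (tt N72029 F374628) (tt N98171 (iv5 F419829)) (tt N50901 (iv6 D188733)) (tt N112349 (iv7 F480695)))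
theorem Q85962 : ∀ i, i < 85962 → P i := stepQ 85961 Q85961 (allL N85961 (tt N50903 (iv1 D188734)) (tt N83645 F374630) (tt N54748 F374633) (tt N92793 (iv3 F398256)) (tt N114949 D218206) (tt N84767 (iv5 F374632)) (tt N92791 F398249) (tt N84942 F374631))
theorem Q85963 : ∀ i, i < 85963 → P i := stepQ 85962 Q85962 (allL N85962 (tt N104636 F446633) (tt N104707 (iv0 F465482)) (tt N84993 F374634) (tt N114950 D218207) (tt N50903 (iv4 D188735)) (tt N90113 (iv5 F388581)) (tt N67857 (iv6 F374636)) (tt N84943 F374635))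
theorem Q85964 : ∀ i, i < 85964 → P i := stepQ 85963 Q85963 (allL N85963 (tt N69220 F374641) (tt N66135 (iv0 F374642)) (tt N84994 F374637) (tt N50908 F374638) (tt N67857 F374639) (tt N74781 F374640) (tt N50903 (iv6 D188736)) (tt N74780 F374643))
theorem Q85965 : ∀ i, i < 85965 → P i := stepQ 85964 Q85964 (allL N85964 (tt N83734 (iv1 F374647)) (tt N84912 F374648) (tt N84913 F374644) (tt N50905 (iv3 D188737)) (tt N102496 (iv4 F437436)) (tt N51274 F374645) (tt N93197 (iv6 F399925)) (tt N84427 F374646))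
theorem Q85966 : ∀ i, i < 85966 → P i := stepQ 85965 Q85965 (allL N85965 (tt N102427 F437200) (tt N104824 F447473) (tt N51437 F374650) (tt N93197 (iv3 F399924)) (tt N86294 (iv4 F375729)) (tt N51276 F374651) (tt N50905 (iv6 D188738)) (tt N104822 (iv7 F447464)))
theorem Q85967 : ∀ i, i < 85967 → P i := stepQ 85966 Q85966 (allL N85966 (tt N84931 F374654) (tt N112349 (iv0 F480696)) (tt N84428 F374652) (tt N98730 (iv3 F422054)) (tt N91789 (iv4 F394425)) (tt N53674 F374653) (tt N50906 (iv6 D188739)) (tt N96690 (iv7 F413477)))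
theorem Q85968 : ∀ i, i < 85968 → P i := stepQ 85967 Q85967 (allL N85967 (tt N53013 F383999) (tt N114951 D218208) (tt N114952 D218209) (tt N50907 (iv3 D188740)) (tt N114950 (iv4 F492722)) (tt N83906 F374655) (tt N111128 F474824) (tt N84944 F374656))
theorem Q85969 : ∀ i, i < 85969 → P i := stepQ 85968 Q85968 (allL N85968 (tt N112342 F480664) (tt N69915 (iv0 F374659)) (tt N69756 F374657) (tt N111128 (iv3 F474820)) (tt N50908 F374658) (tt N98174 (iv5 F419851)) (tt N50907 (iv6 D188741)) (tt N105317 (iv7 F449680)))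
theorem Q85970 : ∀ i, i < 85970 → P i := stepQ 85969 Q85969 (allL N85969 (tt N50937 F374664) (tt N50934 (iv0 F374665)) (tt N83018 F374660) (tt N52730 F374661) (tt N50909 (iv4 D188742)) (tt N112578 (iv5 F481700)) (tt N53353 F374662) (tt N53227 F374663))
theorem Q85971 : ∀ i, i < 85971 → P i := stepQ 85970 Q85970 (allL N85970 (tt N50915 F374670) (tt N84948 F374671) (tt N84933 F374666) (tt N54739 F374667) (tt N101089 (iv4 F431622)) (tt N50909 (iv5 D188743)) (tt N70587 F374668) (tt N53662 F374669))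
theorem Q85972 : ∀ i, i < 85972 → P i := stepQ 85971 Q85971 (allL N85971 (tt N84937 F374676) (tt N84936 F374675) (tt N50911 F374672) (tt N83645 F374673) (tt N113583 (iv4 F486145)) (tt N50910 (iv5 D188744)) (tt N108787 (iv6 F463930)) (tt N84934 F374674))
theorem Q85973 : ∀ i, i < 85973 → P i := stepQ 85972 Q85972 (allL N85972 (tt N84934 (iv1 F374678)) (tt N50911 (iv0 D188745)) (tt N84937 (iv2 F374679)) (tt N114944 (iv3 F492684)) (tt N82974 F374677) (tt N89863 (iv5 F387777)) (tt N109091 F465293) (tt N84936 (iv7 F374680)))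
theorem Q85974 : ∀ i, i < 85974 → P i := stepQ 85973 Q85973 (allL N85973 (tt N50911 (iv1 D188746)) (tt N84934 F374681) (tt N84936 F374684) (tt N54743 F374685) (tt N88897 F384470) (tt N83949 (iv5 F374683)) (tt N88896 (iv6 F384473)) (tt N84937 F374682))
theorem Q85975 : ∀ i, i < 85975 → P i := stepQ 85974 Q85974 (allL N85974 (tt N111988 F478976) (tt N83624 F374688) (tt N113583 (iv2 F486148)) (tt N81367 (iv3 F374690)) (tt N50911 (iv4 D188747)) (tt N77246 (iv5 F374689)) (tt N83828 F374691) (tt N84938 F374687))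
theorem Q85976 : ∀ i, i < 85976 → P i := stepQ 85975 Q85975 (allL N85975 (tt N82998 F374695) (tt N94130 (iv0 F403356)) (tt N108787 F463933) (tt N50913 F374692) (tt N83828 F374693) (tt N83724 F374694) (tt N50911 (iv6 D188748)) (tt N108788 (iv7 F463937)))
theorem Q85977 : ∀ i, i < 85977 → P i := stepQ 85976 Q85976 (allL N85976 (tt N72047 F374701) (tt N69876 (iv0 F374698)) (tt N72051 F374700) (tt N50912 (iv3 D188749)) (tt N81367 F374696) (tt N88577 (iv5 F383519)) (tt N72017 (iv6 F374699)) (tt N69758 F374697))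
theorem Q85978 : ∀ i, i < 85978 → P i := stepQ 85977 Q85977 (allL N85977 (tt N86288 F375703) (tt N60928 (iv0 F374707)) (tt N84945 F374703) (tt N72017 F374704) (tt N50913 F374705) (tt N85471 F374706) (tt N50912 (iv6 D188750)) (tt N72052 (iv7 F374708)))
theorem Q85979 : ∀ i, i < 85979 → P i := stepQ 85978 Q85978 (allL N85978 (tt N84947 (iv1 F374713)) (tt N50913 (iv0 D188751)) (tt N84946 F374718) (tt N61730 (iv3 F374716)) (tt N94913 (iv4 F406306)) (tt N105783 (iv5 F451697)) (tt N70446 (iv6 F374717)) (tt N70467 F374715))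
theorem Q85980 : ∀ i, i < 85980 → P i := stepQ 85979 Q85979 (allL N85979 (tt N70467 (iv1 F374714)) (tt N84946 F374721) (tt N84947 F374709) (tt N108788 F463940) (tt N72052 F374710) (tt N83725 F374711) (tt N70460 F374712) (tt N50913 (iv7 D188752)))
theorem Q85981 : ∀ i, i < 85981 → P i := stepQ 85980 Q85980 (allL N85980 (tt N84954 (iv1 F374737)) (tt N50914 (iv0 D188753)) (tt N64674 (iv2 F374725)) (tt N78899 (iv3 F374726)) (tt N54249 F374727) (tt N98558 (iv5 F421325)) (tt N68186 F374724) (tt N84953 (iv7 F374728)))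
theorem Q85982 : ∀ i, i < 85982 → P i := stepQ 85981 Q85981 (allL N85981 (tt N50914 (iv1 D188754)) (tt N84954 F374729) (tt N84953 (iv2 F374731)) (tt N68189 (iv3 F374732)) (tt N54245 (iv4 F374733)) (tt N105803 (iv5 F451796)) (tt N68324 (iv6 F374734)) (tt N64674 F374730))
theorem Q85983 : ∀ i, i < 85983 → P i := stepQ 85982 Q85982 (allL N85982 (tt N84953 (iv1 F374741)) (tt N64674 F374742) (tt N84954 F374738) (tt N109185 (iv3 F465697)) (tt N110260 (iv4 F470688)) (tt N85307 F374739) (tt N81405 F374740) (tt N50914 (iv7 D188755)))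
theorem Q85984 : ∀ i, i < 85984 → P i := stepQ 85983 Q85983 (allL N85983 (tt N85997 (iv1 F374823)) (tt N77454 F374744) (tt N86004 F374847) (tt N90411 (iv3 F389551)) (tt N50915 (iv4 D188756)) (tt N114953 D218210) (tt N114954 D218211) (tt N84949 F374743))
theorem Q85985 : ∀ i, i < 85985 → P i := stepQ 85984 Q85984 (allL N85984 (tt N92812 (iv1 F398343)) (tt N109367 F466606) (tt N109186 (iv2 F465701)) (tt N50916 F374745) (tt N114954 (iv4 F492742)) (tt N72282 F374746) (tt N50915 (iv6 D188757)) (tt N99994 (iv7 F427100)))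
theorem Q85986 : ∀ i, i < 85986 → P i := stepQ 85985 Q85985 (allL N85985 (tt N81405 (iv1 F374756)) (tt N50916 (iv0 D188758)) (tt N84959 F374759) (tt N70606 (iv3 F374748)) (tt N105489 (iv4 F450445)) (tt N98119 (iv5 F419533)) (tt N70605 F374747) (tt N84960 F374758))
theorem Q85987 : ∀ i, i < 85987 → P i := stepQ 85986 Q85986 (allL N85986 (tt N50916 (iv1 D188759)) (tt N81405 F374749) (tt N84960 (iv2 F374751)) (tt N56192 (iv3 F374752)) (tt N112065 (iv4 F479324)) (tt N56191 F374750) (tt N109153 (iv6 F465595)) (tt N84959 (iv7 F374761)))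
theorem Q85988 : ∀ i, i < 85988 → P i := stepQ 85987 Q85987 (allL N85987 (tt N84960 (iv1 F374757)) (tt N84959 F374763) (tt N81405 F374753) (tt N99994 (iv3 F427099)) (tt N90628 (iv4 F390320)) (tt N80883 F374754) (tt N84954 F374755) (tt N50916 (iv7 D188760)))
theorem Q85989 : ∀ i, i < 85989 → P i := stepQ 85988 Q85988 (allL N85988 (tt N54249 F374766) (tt N54245 F374767) (tt N64673 F374764) (tt N100076 (iv3 F427448)) (tt N50959 F374765) (tt N100073 (iv5 F427443)) (tt N50917 (iv6 D188761)) (tt N64672 F374921))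
theorem Q85990 : ∀ i, i < 85990 → P i := stepQ 85989 Q85989 (allL N85989 (tt N71845 (iv1 F389557)) (tt N105470 (iv0 F450385)) (tt N106556 (iv2 F454844)) (tt N50918 (iv3 D188762)) (tt N87684 F380140) (tt N91800 (iv5 F394477)) (tt N52171 (iv6 F374928)) (tt N84961 F374768))
theorem Q85991 : ∀ i, i < 85991 → P i := stepQ 85990 Q85990 (allL N85990 (tt N105489 F450448) (tt N112065 (iv0 F479325)) (tt N84963 F374769) (tt N52171 F374930) (tt N50961 F374770) (tt N54438 (iv5 F374771)) (tt N50918 (iv6 D188763)) (tt N98576 (iv7 F421416)))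
theorem Q85992 : ∀ i, i < 85992 → P i := stepQ 85991 Q85991 (allL N85991 (tt N60494 (iv1 F374774)) (tt N104394 F445575) (tt N83650 F374772) (tt N88747 F384003) (tt N50922 (iv4 D188764)) (tt N114955 D218212) (tt N111936 F478757) (tt N84969 F374773))
theorem Q85993 : ∀ i, i < 85993 → P i := stepQ 85992 Q85992 (allL N85992 (tt N98768 (iv1 F422229)) (tt N97947 (iv0 F418920)) (tt N83651 F374775) (tt N50924 F374776) (tt N111936 (iv4 F478755)) (tt N81653 F374777) (tt N50922 (iv6 D188765)) (tt N98002 (iv7 F419130)))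
theorem Q85994 : ∀ i, i < 85994 → P i := stepQ 85993 Q85993 (allL N85993 (tt N94913 F406311) (tt N105226 F449295) (tt N55414 F374780) (tt N90149 (iv3 F388693)) (tt N50924 F374781) (tt N84056 (iv5 F374782)) (tt N50923 (iv6 D188767)) (tt N95905 (iv7 F410183)))
theorem Q85995 : ∀ i, i < 85995 → P i := stepQ 85994 Q85994 (allL N85994 (tt N54019 (iv1 F387112)) (tt N83249 F387113) (tt N53297 F374783) (tt N91284 (iv3 F392543)) (tt N88860 (iv4 F384365)) (tt N50926 (iv5 D188768)) (tt N88859 F384362) (tt N85122 F374784))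
theorem Q85996 : ∀ i, i < 85996 → P i := stepQ 85995 Q85995 (allL N85995 (tt N114332 (iv1 F489654)) (tt N76462 (iv0 F374788)) (tt N85011 F374785) (tt N114956 D218213) (tt N50927 (iv4 D188769)) (tt N114957 D218214) (tt N63318 F374786) (tt N85123 F374787))
theorem Q85997 : ∀ i, i < 85997 → P i := stepQ 85996 Q85996 (allL N85996 (tt N100844 F430734) (tt N75829 (iv0 F374818)) (tt N76986 F374814) (tt N52718 F374815) (tt N75979 F374816) (tt N77676 F374817) (tt N50929 (iv6 D188770)) (tt N107604 (iv7 F458908)))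
theorem Q85998 : ∀ i, i < 85998 → P i := stepQ 85997 Q85997 (allL N85997 (tt N110425 (iv1 F471520)) (tt N85983 F374823) (tt N50942 F374820) (tt N80546 (iv3 F374824)) (tt N50932 (iv4 D188771)) (tt N80545 F374822) (tt N74408 F374821) (tt N110424 (iv7 F471517)))
theorem Q85999 : ∀ i, i < 85999 → P i := stepQ 85998 Q85998 (allL N85998 (tt N51354 F374834) (tt N91784 F394406) (tt N50956 F374830) (tt N50935 F374831) (tt N97746 (iv4 F418131)) (tt N50933 (iv5 D188772)) (tt N61697 F374832) (tt N50958 F374833))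
theorem Q86000 : ∀ i, i < 86000 → P i := stepQ 85999 Q85999 (allL N85999 (tt N83325 (iv1 F382977)) (tt N112564 F481665) (tt N110426 (iv2 F471526)) (tt N52725 F374835) (tt N110251 (iv4 F470638)) (tt N50937 (iv5 D188773)) (tt N114958 D218215) (tt N83019 F374836))
theorem Q86001 : ∀ i, i < 86001 → P i := stepQ 86000 Q86000 (allL N86000 (tt N51259 F374839) (tt N51325 (iv0 F374840)) (tt N51327 F374837) (tt N113678 (iv3 F486598)) (tt N114959 D218216) (tt N50939 (iv5 D188774)) (tt N109736 (iv6 F468353)) (tt N51328 F374838))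
theorem Q86002 : ∀ i, i < 86002 → P i := stepQ 86001 Q86001 (allL N86001 (tt N101089 (iv1 F431623)) (tt N82971 (iv0 F374842)) (tt N101006 (iv2 F431228)) (tt N52956 F374841) (tt N50940 (iv4 D188775)) (tt N77047 F374844) (tt N114439 (iv6 F490174)) (tt N97937 (iv7 F418867)))
theorem Q86003 : ∀ i, i < 86003 → P i := stepQ 86002 Q86002 (allL N86002 (tt N111259 F475492) (tt N106543 (iv0 F454826)) (tt N104058 (iv2 F443961)) (tt N92135 (iv3 F395902)) (tt N114439 (iv4 F490172)) (tt N100164 F427782) (tt N50940 (iv6 D188776)) (tt N98566 (iv7 F421349)))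
theorem Q86004 : ∀ i, i < 86004 → P i := stepQ 86003 Q86003 (allL N86003 (tt N92215 (iv1 F396358)) (tt N92217 F396359) (tt N92226 F396365) (tt N74803 F374845) (tt N101138 (iv4 F431879)) (tt N98406 (iv5 F420830)) (tt N50941 (iv6 D188777)) (tt N92225 (iv7 F396357)))
theorem Q86005 : ∀ i, i < 86005 → P i := stepQ 86004 Q86004 (allL N86004 (tt N50942 (iv1 D188778)) (tt N110424 (iv0 F471519)) (tt N85983 (iv2 F374847)) (tt N114960 D218217) (tt N75099 F374846) (tt N114961 D218218) (tt N114962 D218219) (tt N110425 (iv7 F471521)))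
theorem Q86006 : ∀ i, i < 86006 → P i := stepQ 86005 Q86005 (allL N86005 (tt N104121 (iv1 F444285)) (tt N104120 (iv0 F444277)) (tt N85061 F374848) (tt N97939 (iv3 F418882)) (tt N78634 F374849) (tt N51544 F374850) (tt N50945 (iv6 D188779)) (tt N78631 F374851))
theorem Q86007 : ∀ i, i < 86007 → P i := stepQ 86006 Q86006 (allL N86006 (tt N114963 D218220) (tt N103570 (iv0 F442079)) (tt N102778 (iv2 F438603)) (tt N50946 (iv3 D188780)) (tt N92136 (iv4 F395904)) (tt N71464 F374852) (tt N50951 F374853) (tt N69396 F374854))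
theorem Q86008 : ∀ i, i < 86008 → P i := stepQ 86007 Q86007 (allL N86007 (tt N101757 (iv1 F434210)) (tt N92723 (iv0 F397982)) (tt N85034 F374855) (tt N86924 (iv3 F377716)) (tt N50948 (iv4 D188781)) (tt N86921 F377717) (tt N101690 (iv6 F433880)) (tt N85065 F374856))
theorem Q86009 : ∀ i, i < 86009 → P i := stepQ 86008 Q86008 (allL N86008 (tt N69516 F374859) (tt N114964 D218221) (tt N85035 F374857) (tt N50949 F374858) (tt N101690 (iv4 F433882)) (tt N114898 (iv5 F492413)) (tt N50948 (iv6 D188782)) (tt N114965 D218222))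
theorem Q86010 : ∀ i, i < 86010 → P i := stepQ 86009 Q86009 (allL N86009 (tt N50949 (iv1 D188783)) (tt N85064 F374860) (tt N85063 (iv2 F374862)) (tt N106543 (iv3 F454823)) (tt N69553 (iv4 F374863)) (tt N86173 (iv5 F375267)) (tt N102780 (iv6 F438612)) (tt N69551 F374861))
theorem Q86011 : ∀ i, i < 86011 → P i := stepQ 86010 Q86010 (allL N86010 (tt N85063 (iv1 F374868)) (tt N69551 F374869) (tt N85064 F374865) (tt N114965 (iv3 F492799)) (tt N82503 F374866) (tt N114457 (iv5 F490268)) (tt N85069 F374867) (tt N50949 (iv7 D188784)))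
theorem Q86012 : ∀ i, i < 86012 → P i := stepQ 86011 Q86011 (allL N86011 (tt N85069 (iv1 F374878)) (tt N50950 (iv0 D188785)) (tt N85067 F374883) (tt N92215 (iv3 F396300)) (tt N69407 F374881) (tt N92214 (iv5 F396298)) (tt N69405 (iv6 F374882)) (tt N85068 F374880))
theorem Q86013 : ∀ i, i < 86013 → P i := stepQ 86012 Q86012 (allL N86012 (tt N50950 (iv1 D188786)) (tt N85069 F374870) (tt N85068 (iv2 F374872)) (tt N109563 (iv3 F467540)) (tt N78603 F374871) (tt N92229 (iv5 F396372)) (tt N104121 (iv6 F444282)) (tt N85067 (iv7 F374885)))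
theorem Q86014 : ∀ i, i < 86014 → P i := stepQ 86013 Q86013 (allL N86013 (tt N85068 (iv1 F374879)) (tt N85067 F374886) (tt N85069 F374873) (tt N85039 F374874) (tt N76761 F374875) (tt N84490 F374876) (tt N85064 F374877) (tt N50950 (iv7 D188787)))
theorem Q86015 : ∀ i, i < 86015 → P i := stepQ 86014 Q86014 (allL N86014 (tt N79909 (iv1 F374888)) (tt N50951 (iv0 D188788)) (tt N79916 (iv2 F374887)) (tt N104115 F444252) (tt N92607 (iv4 F397617)) (tt N94580 (iv5 F405042)) (tt N102781 (iv6 F438617)) (tt N79915 F374889))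
theorem Q86016 : ∀ i, i < 86016 → P i := stepQ 86015 Q86015 (allL N86015 (tt N79916 (iv1 F374895)) (tt N79915 F374894) (tt N50951 (iv2 D188789)) (tt N85072 F374890) (tt N75862 F374891) (tt N79910 F374892) (tt N102778 (iv6 F438605)) (tt N79909 F374893))
theorem Q86017 : ∀ i, i < 86017 → P i := stepQ 86016 Q86016 (allL N86016 (tt N84784 (iv1 F374901)) (tt N111286 F475642) (tt N89337 (iv2 F386171)) (tt N50957 F374897) (tt N85339 F374898) (tt N61699 F374899) (tt N50955 (iv6 D188790)) (tt N85180 F374900))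
theorem Q86018 : ∀ i, i < 86018 → P i := stepQ 86017 Q86017 (allL N86017 (tt N50958 (iv1 F374904)) (tt N50956 (iv0 D188791)) (tt N51354 (iv2 F374903)) (tt N85015 F374906) (tt N114966 D218223) (tt N51346 F374902) (tt N68161 (iv6 F374905)) (tt N91784 (iv7 F394404)))
theorem Q86019 : ∀ i, i < 86019 → P i := stepQ 86018 Q86018 (allL N86018 (tt N85037 (iv1 F374916)) (tt N50959 (iv0 D188792)) (tt N77215 (iv2 F374908)) (tt N91029 F391659) (tt N77204 F374907) (tt N114543 (iv5 F490693)) (tt N97932 (iv6 F418850)) (tt N85036 (iv7 F374925)))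
theorem Q86020 : ∀ i, i < 86020 → P i := stepQ 86019 Q86019 (allL N86019 (tt N50959 (iv1 D188793)) (tt N85037 F374909) (tt N85036 F374924) (tt N97936 F418863) (tt N77216 (iv4 F374911)) (tt N114301 (iv5 F489483)) (tt N114967 D218224) (tt N77215 F374910))
theorem Q86021 : ∀ i, i < 86021 → P i := stepQ 86020 Q86020 (allL N86020 (tt N85036 (iv1 F374917)) (tt N77215 (iv0 F374922)) (tt N85037 F374912) (tt N85064 F374913) (tt N64672 (iv4 F374920)) (tt N85101 (iv5 F374918)) (tt N85039 F374915) (tt N50959 (iv7 D188794)))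
theorem Q86022 : ∀ i, i < 86022 → P i := stepQ 86021 Q86021 (allL N86021 (tt N92723 F397981) (tt N101757 (iv0 F434209)) (tt N85065 F374931) (tt N87684 (iv3 F380139)) (tt N50960 (iv4 D188795)) (tt N87681 F380137) (tt N113148 (iv6 F484195)) (tt N85034 F374932))
theorem Q86023 : ∀ i, i < 86023 → P i := stepQ 86022 Q86022 (allL N86022 (tt N77244 (iv1 F374936)) (tt N73787 (iv0 F374937)) (tt N85066 F374933) (tt N50961 F374934) (tt N113148 (iv4 F484194)) (tt N85794 F374935) (tt N50960 (iv6 D188796)) (tt N98409 F420849))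
theorem Q86024 : ∀ i, i < 86024 → P i := stepQ 86023 Q86023 (allL N86023 (tt N114968 D218225) (tt N50962 (iv0 D188797)) (tt N77232 (iv2 F374940)) (tt N114969 D218226) (tt N110313 (iv4 F470992)) (tt N110071 (iv5 F469841)) (tt N65205 F374939) (tt N113012 (iv7 F483549)))
theorem Q86025 : ∀ i, i < 86025 → P i := stepQ 86024 Q86024 (allL N86024 (tt N50962 (iv1 D188798)) (tt N114968 F492821) (tt N113012 (iv2 F483547)) (tt N71925 F397627) (tt N112491 (iv4 F481327)) (tt N110164 (iv5 F470247)) (tt N87042 F378157) (tt N77232 F374941))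
theorem Q86026 : ∀ i, i < 86026 → P i := stepQ 86025 Q86025 (allL N86025 (tt N77232 F406418) (tt N113012 (iv0 F483552)) (tt N50962 (iv2 D188799)) (tt N85045 F374942) (tt N97585 (iv4 F417474)) (tt N114970 D218227) (tt N70990 F374943) (tt N114968 (iv7 F492822)))
theorem Q86027 : ∀ i, i < 86027 → P i := stepQ 86026 Q86026 (allL N86026 (tt N110155 F470208) (tt N107083 (iv0 F456899)) (tt N114970 (iv2 F492829)) (tt N50963 F374944) (tt N90355 F389408) (tt N50962 (iv5 D188800)) (tt N110169 (iv6 F470270)) (tt N84304 (iv7 F374945)))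
theorem Q86028 : ∀ i, i < 86028 → P i := stepQ 86027 Q86027 (allL N86027 (tt N113012 (iv1 F483551)) (tt N77232 (iv0 F399446)) (tt N114968 F492820) (tt N50964 F374946) (tt N93092 (iv4 F399449)) (tt N84304 F374947) (tt N93091 F399445) (tt N50962 (iv7 D188801)))
theorem Q86029 : ∀ i, i < 86029 → P i := stepQ 86028 Q86028 (allL N86028 (tt N108426 F478590) (tt N114971 D218228) (tt N84312 F374948) (tt N110169 (iv3 F470269)) (tt N54600 F374949) (tt N97935 (iv5 F418859)) (tt N50963 (iv6 D188802)) (tt N114972 D218229))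
theorem Q86030 : ∀ i, i < 86030 → P i := stepQ 86029 Q86029 (allL N86029 (tt N104159 (iv1 F444476)) (tt N67945 (iv0 F374952)) (tt N85047 F374950) (tt N93091 (iv3 F399442)) (tt N50965 F374951) (tt N113119 (iv5 F484052)) (tt N50964 (iv6 D188803)) (tt N92132 (iv7 F395890)))
theorem Q86031 : ∀ i, i < 86031 → P i := stepQ 86030 Q86030 (allL N86030 (tt N69397 (iv1 F374956)) (tt N50965 (iv0 D188804)) (tt N85048 (iv2 F374955)) (tt N69390 F374954) (tt N103585 (iv4 F442132)) (tt N67931 F374953) (tt N86125 F375171) (tt N70501 F374957))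
theorem Q86032 : ∀ i, i < 86032 → P i := stepQ 86031 Q86031 (allL N86031 (tt N79982 F374960) (tt N51371 (iv0 F374961)) (tt N78882 F374958) (tt N75976 F374959) (tt N92194 (iv4 F396188)) (tt N86489 (iv5 F376374)) (tt N50966 (iv6 D188805)) (tt N114081 (iv7 F488501)))
theorem Q86033 : ∀ i, i < 86033 → P i := stepQ 86032 Q86032 (allL N86032 (tt N86896 F377625) (tt N86892 F377627) (tt N92858 (iv2 F398540)) (tt N98137 (iv3 F419637)) (tt N94515 (iv4 F404792)) (tt N104914 (iv5 F447917)) (tt N50967 (iv6 D188806)) (tt N113692 (iv7 F486663)))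
theorem Q86034 : ∀ i, i < 86034 → P i := stepQ 86033 Q86033 (allL N86033 (tt N76222 (iv1 F374966)) (tt N61458 (iv0 F374965)) (tt N61294 F374962) (tt N50968 (iv3 D188807)) (tt N114973 D218230) (tt N56293 F374963) (tt N114974 D218231) (tt N61266 F374964))
theorem Q86035 : ∀ i, i < 86035 → P i := stepQ 86034 Q86034 (allL N86034 (tt N110431 (iv1 F471557)) (tt N92984 (iv0 F399019)) (tt N77488 F374967) (tt N114975 D218232) (tt N50968 (iv4 D188808)) (tt N77487 (iv5 F374969)) (tt N96357 (iv6 F412216)) (tt N61271 F374968))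
theorem Q86036 : ∀ i, i < 86036 → P i := stepQ 86035 Q86035 (allL N86035 (tt N111178 (iv1 F475110)) (tt N114976 D218233) (tt N96620 (iv2 F413209)) (tt N114974 (iv3 F492854)) (tt N96357 F412215) (tt N60848 F374970) (tt N50968 (iv6 D188809)) (tt N96622 (iv7 F413215)))
theorem Q86037 : ∀ i, i < 86037 → P i := stepQ 86036 Q86036 (allL N86036 (tt N92984 (iv1 F399020)) (tt N110431 (iv0 F471556)) (tt N61271 F374971) (tt N75514 F374972) (tt N50969 (iv4 D188810)) (tt N75513 (iv5 F374974)) (tt N111230 (iv6 F475334)) (tt N77488 F374973))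
theorem Q86038 : ∀ i, i < 86038 → P i := stepQ 86037 Q86037 (allL N86037 (tt N62209 F374978) (tt N89628 (iv0 F387013)) (tt N72925 F374975) (tt N50994 F374976) (tt N108839 (iv4 F464205)) (tt N50970 (iv5 D188811)) (tt N62170 (iv6 F374979)) (tt N53249 F374977))
theorem Q86039 : ∀ i, i < 86039 → P i := stepQ 86038 Q86038 (allL N86038 (tt N114283 (iv1 F489387)) (tt N114508 F490515) (tt N111159 (iv2 F474994)) (tt N50995 F374980) (tt N50971 F374981) (tt N114472 (iv5 F490359)) (tt N50970 (iv6 D188812)) (tt N114507 F490512))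
theorem Q86040 : ∀ i, i < 86040 → P i := stepQ 86039 Q86039 (allL N86039 (tt N111160 (iv1 F475004)) (tt N50971 (iv0 D188813)) (tt N86566 F376953) (tt N105537 F450637) (tt N85311 (iv4 F376996)) (tt N86150 F375219) (tt N50996 F375071) (tt N86564 (iv7 F376952)))
theorem Q86041 : ∀ i, i < 86041 → P i := stepQ 86040 Q86040 (allL N86040 (tt N50971 (iv1 D188814)) (tt N111160 F475003) (tt N86564 (iv2 F376954)) (tt N85093 (iv3 F377000)) (tt N101072 (iv4 F431542)) (tt N86149 (iv5 F375217)) (tt N114513 (iv6 F490529)) (tt N86566 (iv7 F376949)))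
theorem Q86042 : ∀ i, i < 86042 → P i := stepQ 86041 Q86041 (allL N86041 (tt N114916 (iv1 F492517)) (tt N114917 (iv0 F492522)) (tt N51316 F374982) (tt N57267 F374983) (tt N114977 D218234) (tt N50971 (iv5 D188815)) (tt N50972 F374984) (tt N113587 (iv7 F486166)))
theorem Q86043 : ∀ i, i < 86043 → P i := stepQ 86042 Q86042 (allL N86042 (tt N86564 (iv1 F376487)) (tt N86566 F376955) (tt N111160 (iv2 F474999)) (tt N109715 (iv3 F468250)) (tt N114507 (iv4 F490510)) (tt N113587 F486169) (tt N113588 (iv6 F486172)) (tt N50971 (iv7 D188816)))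
theorem Q86044 : ∀ i, i < 86044 → P i := stepQ 86043 Q86043 (allL N86043 (tt N84929 F374987) (tt N93122 (iv0 F399581)) (tt N51315 F374985) (tt N86613 F376603) (tt N50972 (iv4 D188817)) (tt N86611 (iv5 F376604)) (tt N114977 (iv6 F492873)) (tt N51313 F374986))
theorem Q86045 : ∀ i, i < 86045 → P i := stepQ 86044 Q86044 (allL N86044 (tt N114908 (iv1 F492470)) (tt N77513 (iv0 F374990)) (tt N51007 F374988) (tt N50973 (iv3 D188818)) (tt N61640 F374989) (tt N53971 F374991) (tt N96028 (iv6 F410710)) (tt N111158 (iv7 F474990)))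
theorem Q86046 : ∀ i, i < 86046 → P i := stepQ 86045 Q86045 (allL N86045 (tt N89628 (iv1 F387014)) (tt N62209 (iv0 F374997)) (tt N53249 F374993) (tt N53971 F374994) (tt N55256 F374996) (tt N50973 (iv5 D188819)) (tt N73059 (iv6 F374998)) (tt N72925 F374995))
theorem Q86047 : ∀ i, i < 86047 → P i := stepQ 86046 Q86046 (allL N86046 (tt N114978 D218235) (tt N86201 (iv0 F387015)) (tt N114456 (iv2 F490263)) (tt N96028 (iv3 F410709)) (tt N50974 F374999) (tt N96027 F410707) (tt N50973 (iv6 D188820)) (tt N114979 D218236))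
theorem Q86048 : ∀ i, i < 86048 → P i := stepQ 86047 Q86047 (allL N86047 (tt N113588 (iv1 F486175)) (tt N50974 (iv0 D188821)) (tt N114457 F490270) (tt N85101 (iv3 F375001)) (tt N112483 (iv4 F481283)) (tt N85064 F375000) (tt N91453 (iv6 F393193)) (tt N50991 (iv7 F375002)))
theorem Q86049 : ∀ i, i < 86049 → P i := stepQ 86048 Q86048 (allL N86048 (tt N50991 (iv1 F375005)) (tt N114457 F490271) (tt N113588 (iv2 F486170)) (tt N61644 F375003) (tt N114979 (iv4 F492882)) (tt N69200 F375004) (tt N111160 (iv6 F475002)) (tt N50974 (iv7 D188822)))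
theorem Q86050 : ∀ i, i < 86050 → P i := stepQ 86049 Q86049 (allL N86049 (tt N50977 (iv1 F375010)) (tt N50975 (iv0 D188823)) (tt N61162 (iv2 F375009)) (tt N62210 F375008) (tt N61133 F375007) (tt N62209 F375006) (tt N114980 D218237) (tt N61165 F375011))
theorem Q86051 : ∀ i, i < 86051 → P i := stepQ 86050 Q86050 (allL N86050 (tt N94606 F405169) (tt N107225 F457538) (tt N98640 (iv2 F421691)) (tt N51018 F375012) (tt N109631 (iv4 F467841)) (tt N50975 (iv5 D188824)) (tt N114981 D218238) (tt N57770 F375013))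
theorem Q86052 : ∀ i, i < 86052 → P i := stepQ 86051 Q86051 (allL N86051 (tt N69687 F387851) (tt N96473 (iv0 F412669)) (tt N96421 (iv2 F412451)) (tt N51019 F375014) (tt N50976 F375015) (tt N95778 F409600) (tt N50975 (iv6 D188825)) (tt N96423 (iv7 F412460)))
theorem Q86053 : ∀ i, i < 86053 → P i := stepQ 86052 Q86052 (allL N86052 (tt N98642 (iv1 F421710)) (tt N50976 (iv0 D188826)) (tt N98305 (iv2 F420428)) (tt N73138 F375016) (tt N96667 (iv4 F413370)) (tt N73137 (iv5 F375017)) (tt N51032 F376560) (tt N98641 (iv7 F421703)))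
theorem Q86054 : ∀ i, i < 86054 → P i := stepQ 86053 Q86053 (allL N86053 (tt N50976 (iv1 D188827)) (tt N98642 F421709) (tt N98641 (iv2 F421701)) (tt N85108 (iv3 F413278)) (tt N96637 (iv4 F413276)) (tt N98465 (iv5 F420996)) (tt N98607 F421556) (tt N98305 (iv7 F420430)))
theorem Q86055 : ∀ i, i < 86055 → P i := stepQ 86054 Q86054 (allL N86054 (tt N98641 (iv1 F421698)) (tt N98305 (iv0 F420436)) (tt N98642 (iv2 F421705)) (tt N74862 F375018) (tt N96423 (iv4 F412462)) (tt N62937 F375019) (tt N114459 (iv6 F490284)) (tt N50976 (iv7 D188828)))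
theorem Q86056 : ∀ i, i < 86056 → P i := stepQ 86055 Q86055 (allL N86055 (tt N110500 (iv1 F471865)) (tt N103066 (iv0 F439933)) (tt N51028 F375020) (tt N50977 (iv3 D188829)) (tt N78768 F375021) (tt N55276 (iv5 F375022)) (tt N106143 (iv6 F453333)) (tt N98639 (iv7 F421687)))
theorem Q86057 : ∀ i, i < 86057 → P i := stepQ 86056 Q86056 (allL N86056 (tt N107225 (iv1 F457537)) (tt N94606 (iv0 F405168)) (tt N57770 F375025) (tt N55276 F375026) (tt N55283 F375027) (tt N50977 (iv5 D188830)) (tt N57767 F375028) (tt N98640 (iv7 F421695)))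
theorem Q86058 : ∀ i, i < 86058 → P i := stepQ 86057 Q86057 (allL N86057 (tt N106281 (iv1 F453881)) (tt N64825 (iv0 F390618)) (tt N114458 (iv2 F490273)) (tt N106143 (iv3 F453332)) (tt N50978 F375029) (tt N90715 (iv5 F390613)) (tt N50977 (iv6 D188831)) (tt N114982 D218239))
theorem Q86059 : ∀ i, i < 86059 → P i := stepQ 86058 Q86058 (allL N86058 (tt N114459 (iv1 F490286)) (tt N50978 (iv0 D188832)) (tt N91219 (iv2 F392306)) (tt N85113 (iv3 F379478)) (tt N96704 (iv4 F416302)) (tt N51560 F375030) (tt N114983 D218240) (tt N91221 (iv7 F392315)))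
theorem Q86060 : ∀ i, i < 86060 → P i := stepQ 86059 Q86059 (allL N86059 (tt N50978 (iv1 D188833)) (tt N114459 F490285) (tt N91221 (iv2 F392314)) (tt N100594 (iv3 F429612)) (tt N96611 (iv4 F413169)) (tt N51561 F375031) (tt N51020 (iv6 F375032)) (tt N91219 (iv7 F392307)))
theorem Q86061 : ∀ i, i < 86061 → P i := stepQ 86060 Q86060 (allL N86060 (tt N91221 (iv1 F392317)) (tt N91219 (iv0 F392308)) (tt N114459 (iv2 F490280)) (tt N78772 F375033) (tt N114982 (iv4 F492899)) (tt N54907 F375034) (tt N98642 (iv6 F421708)) (tt N50978 (iv7 D188834)))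
theorem Q86062 : ∀ i, i < 86062 → P i := stepQ 86061 Q86061 (allL N86061 (tt N114923 (iv1 F492554)) (tt N105232 (iv0 F449320)) (tt N98198 (iv2 F419938)) (tt N77042 F375035) (tt N50981 F375036) (tt N114984 D218241) (tt N50980 (iv6 D188837)) (tt N51048 F375037))
theorem Q86063 : ∀ i, i < 86063 → P i := stepQ 86062 Q86062 (allL N86062 (tt N114985 D218242) (tt N114926 F492573) (tt N114331 (iv2 F489648)) (tt N78391 F375038) (tt N111190 (iv4 F475157)) (tt N85124 F375039) (tt N50983 (iv6 D188838)) (tt N74520 F375040))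
theorem Q86064 : ∀ i, i < 86064 → P i := stepQ 86063 Q86063 (allL N86063 (tt N114986 D218243) (tt N114987 D218244) (tt N50986 F375041) (tt N98530 (iv3 F421223)) (tt N61634 F375042) (tt N91212 (iv5 F392282)) (tt N50984 (iv6 D188839)) (tt N98527 (iv7 F421214)))
theorem Q86065 : ∀ i, i < 86065 → P i := stepQ 86064 Q86064 (allL N86064 (tt N98527 (iv1 F421216)) (tt N50986 (iv0 D188840)) (tt N114986 F492925) (tt N104926 (iv3 F447975)) (tt N109681 (iv4 F468075)) (tt N92949 F398875) (tt N109713 (iv6 F468238)) (tt N114987 (iv7 F492928)))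
theorem Q86066 : ∀ i, i < 86066 → P i := stepQ 86065 Q86065 (allL N86065 (tt N50986 (iv1 D188841)) (tt N98527 F421215) (tt N114987 (iv2 F492933)) (tt N98069 (iv3 F419339)) (tt N109682 F468081) (tt N92948 (iv5 F398873)) (tt N114765 (iv6 F491745)) (tt N114986 F492926))
theorem Q86067 : ∀ i, i < 86067 → P i := stepQ 86066 Q86066 (allL N86066 (tt N114987 (iv1 F492927)) (tt N114986 F492924) (tt N98527 (iv2 F421212)) (tt N50998 F375043) (tt N109715 (iv4 F468251)) (tt N91218 (iv5 F392304)) (tt N76185 F375044) (tt N50986 (iv7 D188842)))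
theorem Q86068 : ∀ i, i < 86068 → P i := stepQ 86067 Q86067 (allL N86067 (tt N110379 (iv1 F471313)) (tt N88456 F383128) (tt N85145 F375045) (tt N109867 (iv3 F468994)) (tt N50987 (iv4 D188843)) (tt N109897 (iv5 F469124)) (tt N85537 F375046) (tt N110378 (iv7 F471304)))
theorem Q86069 : ∀ i, i < 86069 → P i := stepQ 86068 Q86068 (allL N86068 (tt N114988 D218245) (tt N114989 D218246) (tt N77739 (iv2 F375049)) (tt N50988 (iv3 D188844)) (tt N109867 (iv4 F468995)) (tt N53654 F375047) (tt N109866 F468993) (tt N77745 F375048))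
theorem Q86070 : ∀ i, i < 86070 → P i := stepQ 86069 Q86069 (allL N86069 (tt N95716 F409282) (tt N96614 (iv0 F413181)) (tt N91450 (iv2 F393179)) (tt N109866 (iv3 F468990)) (tt N50989 F375050) (tt N82423 F386929) (tt N50988 (iv6 D188845)) (tt N96626 (iv7 F413232)))
theorem Q86071 : ∀ i, i < 86071 → P i := stepQ 86070 Q86070 (allL N86070 (tt N91453 (iv1 F393195)) (tt N50989 (iv0 D188846)) (tt N91451 F393183) (tt N114990 D218247) (tt N96522 (iv4 F412841)) (tt N90642 (iv5 F390377)) (tt N85262 F375051) (tt N91452 (iv7 F393187)))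
theorem Q86072 : ∀ i, i < 86072 → P i := stepQ 86071 Q86071 (allL N86071 (tt N50989 (iv1 D188847)) (tt N91453 F393194) (tt N91452 F393188) (tt N99795 F426252) (tt N96525 (iv4 F412850)) (tt N71790 (iv5 F377186)) (tt N114976 F492869) (tt N91451 F393185))
theorem Q86073 : ∀ i, i < 86073 → P i := stepQ 86072 Q86072 (allL N86072 (tt N91452 (iv1 F393186)) (tt N91451 F393189) (tt N91453 (iv2 F393190)) (tt N85549 F375052) (tt N96626 F413233) (tt N85830 F375053) (tt N114457 (iv6 F490269)) (tt N50989 (iv7 D188848)))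
theorem Q86074 : ∀ i, i < 86074 → P i := stepQ 86073 Q86073 (allL N86073 (tt N101427 (iv1 F432948)) (tt N114466 (iv0 F490326)) (tt N114991 D218248) (tt N50990 (iv3 D188849)) (tt N85149 F375054) (tt N53647 F375055) (tt N91577 (iv6 F393687)) (tt N91449 (iv7 F393177)))
theorem Q86075 : ∀ i, i < 86075 → P i := stepQ 86074 Q86074 (allL N86074 (tt N114467 F490332) (tt N101055 (iv0 F471950)) (tt N91443 (iv2 F393139)) (tt N91577 (iv3 F393686)) (tt N50991 F375056) (tt N108977 (iv5 F464737)) (tt N50990 (iv6 D188850)) (tt N112483 (iv7 F481284)))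
theorem Q86076 : ∀ i, i < 86076 → P i := stepQ 86075 Q86075 (allL N86075 (tt N114992 D218249) (tt N114993 D218250) (tt N114994 D218251) (tt N50993 (iv3 D188851)) (tt N114995 D218252) (tt N89015 (iv5 F384825)) (tt N114996 D218253) (tt N86193 (iv7 F375339)))
theorem Q86077 : ∀ i, i < 86077 → P i := stepQ 86076 Q86076 (allL N86076 (tt N114456 F490267) (tt N114979 F492884) (tt N86201 (iv2 F375357)) (tt N114996 (iv3 F492972)) (tt N85347 F375057) (tt N111547 (iv5 F476855)) (tt N50993 (iv6 D188852)) (tt N114978 (iv7 F492880)))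
theorem Q86078 : ∀ i, i < 86078 → P i := stepQ 86077 Q86077 (allL N86077 (tt N72443 F375063) (tt N72447 (iv0 F375061)) (tt N53973 F375058) (tt N62170 F375059) (tt N51118 F375060) (tt N90163 F388733) (tt N50994 (iv6 D188853)) (tt N72926 (iv7 F375062)))
theorem Q86079 : ∀ i, i < 86079 → P i := stepQ 86078 Q86078 (allL N86078 (tt N114910 (iv1 F492487)) (tt N50995 (iv0 D188854)) (tt N86208 (iv2 F375374)) (tt N64506 (iv3 F375376)) (tt N85900 F375375) (tt N54524 (iv5 F375378)) (tt N114283 (iv6 F489385)) (tt N64849 (iv7 F375377)))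
theorem Q86080 : ∀ i, i < 86080 → P i := stepQ 86079 Q86079 (allL N86079 (tt N50995 (iv1 D188855)) (tt N114910 F492486) (tt N64849 (iv2 F375065)) (tt N114997 D218254) (tt N85901 F375064) (tt N71138 F375066) (tt N114998 D218255) (tt N86208 (iv7 F375370)))
theorem Q86081 : ∀ i, i < 86081 → P i := stepQ 86080 Q86080 (allL N86080 (tt N106277 (iv1 F453858)) (tt N105949 (iv0 F452466)) (tt N106280 F453873) (tt N114472 (iv3 F490358)) (tt N107313 (iv4 F457921)) (tt N50995 (iv5 D188856)) (tt N90163 (iv6 F388732)) (tt N106279 F453868))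
theorem Q86082 : ∀ i, i < 86082 → P i := stepQ 86081 Q86081 (allL N86081 (tt N64849 (iv1 F375068)) (tt N86208 (iv0 F375372)) (tt N114910 (iv2 F492482)) (tt N114507 (iv3 F490511)) (tt N50998 F375067) (tt N106279 (iv5 F453865)) (tt N114911 (iv6 F492491)) (tt N50995 (iv7 D188857)))
theorem Q86083 : ∀ i, i < 86083 → P i := stepQ 86082 Q86082 (allL N86082 (tt N114930 (iv1 F492600)) (tt N51072 F376993) (tt N101419 (iv2 F432918)) (tt N112738 (iv3 F482448)) (tt N50996 (iv4 D188860)) (tt N85249 F376994) (tt N85311 F376995) (tt N113328 (iv7 F485051)))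
theorem Q86084 : ∀ i, i < 86084 → P i := stepQ 86083 Q86083 (allL N86083 (tt N56596 F375070) (tt N86795 F377233) (tt N86794 F377228) (tt N87503 F379590) (tt N90747 (iv4 F390720)) (tt N50996 (iv5 D188861)) (tt N87546 (iv6 F379720)) (tt N86793 F377220))
theorem Q86085 : ∀ i, i < 86085 → P i := stepQ 86084 Q86084 (allL N86084 (tt N51072 F385132) (tt N114930 F492599) (tt N113328 (iv2 F485048)) (tt N101416 F432926) (tt N50997 (iv4 D188864)) (tt N114999 D218256) (tt N115000 D218257) (tt N101419 (iv7 F432919)))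
theorem Q86086 : ∀ i, i < 86086 → P i := stepQ 86085 Q86085 (allL N86085 (tt N86795 (iv1 F377234)) (tt N56596 F375073) (tt N86793 F377218) (tt N85167 F376989) (tt N89254 (iv4 F385806)) (tt N50997 (iv5 D188865)) (tt N84461 F375074) (tt N86794 (iv7 F377226)))
theorem Q86087 : ∀ i, i < 86087 → P i := stepQ 86086 Q86086 (allL N86086 (tt N85260 F375075) (tt N85262 F376998) (tt N84112 (iv2 F376997)) (tt N85168 F376990) (tt N115000 (iv4 F492993)) (tt N112016 (iv5 F479091)) (tt N50997 (iv6 D188866)) (tt N114513 (iv7 F490530)))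
theorem Q86088 : ∀ i, i < 86088 → P i := stepQ 86087 Q86087 (allL N86087 (tt N86890 F377598) (tt N111316 F475783) (tt N90094 F388548) (tt N115001 D218258) (tt N50999 (iv4 D188867)) (tt N115002 D218259) (tt N115003 D218260) (tt N85049 F375076))
theorem Q86089 : ∀ i, i < 86089 → P i := stepQ 86088 Q86088 (allL N86088 (tt N98339 (iv1 F420548)) (tt N61528 (iv0 F375080)) (tt N98341 (iv2 F420553)) (tt N85124 F375077) (tt N115003 (iv4 F493007)) (tt N78391 F375078) (tt N50999 (iv6 D188868)) (tt N78390 F375079))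
theorem Q86090 : ∀ i, i < 86090 → P i := stepQ 86089 Q86089 (allL N86089 (tt N55275 F375084) (tt N55274 F375085) (tt N51002 F375081) (tt N53891 F375082) (tt N89583 (iv4 F386821)) (tt N51000 (iv5 D188869)) (tt N97154 (iv6 F415695)) (tt N55273 F375083))
theorem Q86091 : ∀ i, i < 86091 → P i := stepQ 86090 Q86090 (allL N86090 (tt N55273 (iv1 F375090)) (tt N51002 (iv0 D188870)) (tt N55275 F375092) (tt N56938 F375088) (tt N72301 F375087) (tt N85621 F375086) (tt N92533 (iv6 F397282)) (tt N55274 (iv7 F375091)))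
theorem Q86092 : ∀ i, i < 86092 → P i := stepQ 86091 Q86091 (allL N86091 (tt N51002 (iv1 D188871)) (tt N55273 F375093) (tt N55274 (iv2 F375096)) (tt N115004 D218261) (tt N114572 (iv4 F490818)) (tt N52411 F375095) (tt N115005 D218262) (tt N55275 F375094))
theorem Q86093 : ∀ i, i < 86093 → P i := stepQ 86092 Q86092 (allL N86092 (tt N97135 (iv1 F415658)) (tt N97152 F415696) (tt N97154 (iv2 F415693)) (tt N55144 F375097) (tt N110476 (iv4 F471764)) (tt N91920 (iv5 F394965)) (tt N51002 (iv6 D188872)) (tt N97141 (iv7 F415645)))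
theorem Q86094 : ∀ i, i < 86094 → P i := stepQ 86093 Q86093 (allL N86093 (tt N84780 F383918) (tt N90078 (iv0 F388508)) (tt N83247 F375098) (tt N51003 (iv3 D188873)) (tt N54015 F375100) (tt N88700 (iv5 F383911)) (tt N111172 (iv6 F475073)) (tt N83241 F375099))
theorem Q86095 : ∀ i, i < 86095 → P i := stepQ 86094 Q86094 (allL N86094 (tt N85284 F375104) (tt N84848 F375105) (tt N85291 F375101) (tt N54017 F375102) (tt N51003 (iv4 D188874)) (tt N110478 (iv5 F471772)) (tt N111173 (iv6 F475080)) (tt N85290 F375103))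
theorem Q86096 : ∀ i, i < 86096 → P i := stepQ 86095 Q86095 (allL N86095 (tt N79036 F375109) (tt N53652 F375108) (tt N86132 (iv2 F375196)) (tt N88700 (iv3 F383912)) (tt N86389 (iv4 F376038)) (tt N51003 (iv5 D188875)) (tt N51540 F375106) (tt N79042 F375107))
theorem Q86097 : ∀ i, i < 86097 → P i := stepQ 86096 Q86096 (allL N86096 (tt N84848 F375112) (tt N85284 F375113) (tt N85290 F375110) (tt N75093 (iv3 F375118)) (tt N51004 (iv4 D188876)) (tt N115006 D218263) (tt N75091 F375117) (tt N85291 F375111))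
theorem Q86098 : ∀ i, i < 86098 → P i := stepQ 86097 Q86097 (allL N86097 (tt N114990 F492950) (tt N102956 (iv0 F439432)) (tt N109566 (iv2 F467556)) (tt N85131 F375114) (tt N75091 (iv4 F375116)) (tt N80024 F375115) (tt N51004 (iv6 D188877)) (tt N100202 (iv7 F427971)))
theorem Q86099 : ∀ i, i < 86099 → P i := stepQ 86098 Q86098 (allL N86098 (tt N111161 (iv1 F475011)) (tt N103727 (iv0 F442600)) (tt N61640 F375119) (tt N51005 (iv3 D188878)) (tt N51007 F375120) (tt N51025 (iv5 F375121)) (tt N98525 (iv6 F421204)) (tt N111162 (iv7 F475009)))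
theorem Q86100 : ∀ i, i < 86100 → P i := stepQ 86099 Q86099 (allL N86099 (tt N98643 F421712) (tt N90102 (iv0 F388565)) (tt N78768 F375122) (tt N51025 F375123) (tt N51028 F375124) (tt N51005 (iv5 D188879)) (tt N103694 (iv6 F442503)) (tt N98644 (iv7 F421716)))
theorem Q86101 : ∀ i, i < 86101 → P i := stepQ 86100 Q86100 (allL N86100 (tt N111158 F474992) (tt N51007 (iv0 D188880)) (tt N114908 (iv2 F492474)) (tt N75520 F375126) (tt N114579 (iv4 F490856)) (tt N75519 F375125) (tt N74567 F401029) (tt N77513 (iv7 F375127)))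
theorem Q86102 : ∀ i, i < 86102 → P i := stepQ 86101 Q86101 (allL N86101 (tt N51007 (iv1 D188881)) (tt N111158 (iv0 F474991)) (tt N77513 (iv2 F375129)) (tt N115007 D218264) (tt N114580 (iv4 F490859)) (tt N77512 F375128) (tt N115008 D218265) (tt N114908 (iv7 F492471)))
theorem Q86103 : ∀ i, i < 86103 → P i := stepQ 86102 Q86102 (allL N86102 (tt N74260 F375139) (tt N74567 F375142) (tt N96028 (iv2 F410708)) (tt N51008 F375130) (tt N98525 (iv4 F421203)) (tt N56838 (iv5 F375140)) (tt N51007 (iv6 D188882)) (tt N96026 (iv7 F410701)))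
theorem Q86104 : ∀ i, i < 86104 → P i := stepQ 86103 Q86103 (allL N86103 (tt N114911 (iv1 F492493)) (tt N51008 (iv0 D188883)) (tt N86221 (iv2 F375424)) (tt N96571 (iv3 F413040)) (tt N85905 F375131) (tt N74585 (iv5 F428096)) (tt N96570 F413038) (tt N86225 (iv7 F375449)))
theorem Q86105 : ∀ i, i < 86105 → P i := stepQ 86104 Q86104 (allL N86104 (tt N51008 (iv1 D188884)) (tt N114911 F492492) (tt N86225 (iv2 F375447)) (tt N64796 F375428) (tt N85906 (iv4 F375427)) (tt N74586 F424808) (tt N98136 (iv6 F419631)) (tt N86221 F375426))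
theorem Q86106 : ∀ i, i < 86106 → P i := stepQ 86105 Q86105 (allL N86105 (tt N56867 F400785) (tt N112646 F481978) (tt N112645 (iv2 F481972)) (tt N56838 F375141) (tt N94519 (iv4 F404807)) (tt N51008 (iv5 D188885)) (tt N53958 F375132) (tt N96025 (iv7 F410693)))
theorem Q86107 : ∀ i, i < 86107 → P i := stepQ 86106 Q86106 (allL N86106 (tt N86225 (iv1 F375451)) (tt N86221 (iv0 F375425)) (tt N114911 (iv2 F492488)) (tt N96026 (iv3 F410700)) (tt N51012 F375133) (tt N96025 F410694) (tt N114910 (iv6 F492485)) (tt N51008 (iv7 D188886)))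
theorem Q86108 : ∀ i, i < 86108 → P i := stepQ 86107 Q86107 (allL N86107 (tt N114932 (iv1 F492614)) (tt N51086 F412224) (tt N96623 (iv2 F413218)) (tt N101340 F432703) (tt N51009 (iv4 D188887)) (tt N115009 D218266) (tt N96356 F412225) (tt N111230 (iv7 F475335)))
theorem Q86109 : ∀ i, i < 86109 → P i := stepQ 86108 Q86108 (allL N86108 (tt N114976 (iv1 F492865)) (tt N111178 (iv0 F475109)) (tt N96622 (iv2 F413214)) (tt N85189 F375134) (tt N96356 F412222) (tt N86127 F375181) (tt N51009 (iv6 D188888)) (tt N96620 (iv7 F413212)))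
theorem Q86110 : ∀ i, i < 86110 → P i := stepQ 86109 Q86109 (allL N86109 (tt N51086 F413222) (tt N114932 F492613) (tt N111230 (iv2 F475332)) (tt N115010 D218267) (tt N51010 (iv4 D188889)) (tt N115011 D218268) (tt N61271 F375135) (tt N96623 (iv7 F413220)))
theorem Q86111 : ∀ i, i < 86111 → P i := stepQ 86110 Q86110 (allL N86110 (tt N109717 F468266) (tt N51011 (iv0 D188890)) (tt N109550 (iv2 F467467)) (tt N84188 (iv3 F420993)) (tt N112377 (iv4 F480805)) (tt N98607 (iv5 F421554)) (tt N98464 F420992) (tt N109690 (iv7 F468128)))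
theorem Q86112 : ∀ i, i < 86112 → P i := stepQ 86111 Q86111 (allL N86111 (tt N51011 (iv1 D188891)) (tt N109717 (iv0 F468265)) (tt N109690 (iv2 F468125)) (tt N73961 (iv3 F375136)) (tt N75361 F375137) (tt N98608 F421561) (tt N55784 F375138) (tt N109550 (iv7 F467471)))
theorem Q86113 : ∀ i, i < 86113 → P i := stepQ 86112 Q86112 (allL N86112 (tt N94580 (iv1 F405039)) (tt N94579 (iv0 F405038)) (tt N94581 (iv2 F405043)) (tt N51013 (iv3 D188892)) (tt N98148 (iv4 F419704)) (tt N69242 F375143) (tt N109852 (iv6 F468916)) (tt N60355 F375144))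
theorem Q86114 : ∀ i, i < 86114 → P i := stepQ 86113 Q86113 (allL N86113 (tt N74906 (iv1 F375149)) (tt N74904 (iv0 F375148)) (tt N51016 F375145) (tt N92189 (iv3 F396161)) (tt N63767 F375146) (tt N74858 F375147) (tt N51014 (iv6 D188893)) (tt N98038 (iv7 F419266)))
theorem Q86115 : ∀ i, i < 86115 → P i := stepQ 86114 Q86114 (allL N86114 (tt N51326 (iv1 F375155)) (tt N51015 (iv0 D188894)) (tt N51332 (iv2 F375154)) (tt N85219 F375152) (tt N74874 F375151) (tt N63270 F375150) (tt N85743 F375153) (tt N51331 F375156))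
theorem Q86116 : ∀ i, i < 86116 → P i := stepQ 86115 Q86115 (allL N86115 (tt N74904 (iv1 F375160)) (tt N74906 F375161) (tt N98038 (iv2 F419263)) (tt N51023 F375157) (tt N74862 F375158) (tt N74856 F375159) (tt N109063 F465170) (tt N51016 (iv7 D188895)))
theorem Q86117 : ∀ i, i < 86117 → P i := stepQ 86116 Q86116 (allL N86116 (tt N110039 F469673) (tt N95698 (iv0 F409192)) (tt N110040 (iv2 F469679)) (tt N51017 (iv3 D188896)) (tt N114622 (iv4 F491049)) (tt N53967 F375162) (tt N105261 F449447) (tt N85937 F375163))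
theorem Q86118 : ∀ i, i < 86118 → P i := stepQ 86117 Q86117 (allL N86117 (tt N114925 (iv1 F492566)) (tt N114927 (iv0 F492578)) (tt N86182 (iv2 F375308)) (tt N105261 (iv3 F449448)) (tt N85896 F375164) (tt N115012 D218269) (tt N51017 (iv6 D188897)) (tt N114980 (iv7 F492889)))
theorem Q86119 : ∀ i, i < 86119 → P i := stepQ 86118 Q86118 (allL N86118 (tt N81953 F394592) (tt N115013 D218270) (tt N89584 (iv2 F386827)) (tt N114981 (iv3 F492893)) (tt N51112 F375165) (tt N81966 (iv5 F375166)) (tt N51018 (iv6 D188898)) (tt N115014 D218271))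
theorem Q86120 : ∀ i, i < 86120 → P i := stepQ 86119 Q86119 (allL N86119 (tt N114913 (iv1 F492502)) (tt N51019 (iv0 D188899)) (tt N96508 (iv2 F412795)) (tt N64826 (iv3 F412281)) (tt N89629 (iv4 F412282)) (tt N95611 F412280) (tt N64825 F412283) (tt N96948 (iv7 F414737)))
theorem Q86121 : ∀ i, i < 86121 → P i := stepQ 86120 Q86120 (allL N86120 (tt N51019 (iv1 D188900)) (tt N114913 F492501) (tt N96948 (iv2 F414735)) (tt N96310 (iv3 F412799)) (tt N89630 F412801) (tt N96322 (iv5 F412800)) (tt N115015 D218272) (tt N96508 F412798))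
theorem Q86122 : ∀ i, i < 86122 → P i := stepQ 86121 Q86121 (allL N86121 (tt N82425 F380622) (tt N96308 (iv0 F411956)) (tt N96497 (iv2 F412763)) (tt N95778 (iv3 F409601)) (tt N87812 (iv4 F380621)) (tt N51019 (iv5 D188901)) (tt N81966 F375167) (tt N96422 (iv7 F412456)))
theorem Q86123 : ∀ i, i < 86123 → P i := stepQ 86122 Q86122 (allL N86122 (tt N96948 (iv1 F414738)) (tt N96508 (iv0 F412797)) (tt N114913 (iv2 F492497)) (tt N96423 (iv3 F412459)) (tt N51023 F375168) (tt N96422 F412457) (tt N114599 (iv6 F490947)) (tt N51019 (iv7 D188902)))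
theorem Q86124 : ∀ i, i < 86124 → P i := stepQ 86123 Q86123 (allL N86123 (tt N114903 (iv1 F492446)) (tt N84789 (iv0 F429613)) (tt N85209 (iv2 F375176)) (tt N51020 (iv3 D188904)) (tt N77293 F375177) (tt N97634 (iv5 F417707)) (tt N100594 (iv6 F429608)) (tt N114902 (iv7 F492435)))
theorem Q86125 : ∀ i, i < 86125 → P i := stepQ 86124 Q86124 (allL N86124 (tt N115016 D218273) (tt N102953 (iv0 F439415)) (tt N114914 (iv2 F492503)) (tt N97634 F417709) (tt N105110 F448837) (tt N51020 (iv5 D188905)) (tt N114076 F488476) (tt N114440 (iv7 F490181)))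
theorem Q86126 : ∀ i, i < 86126 → P i := stepQ 86125 Q86125 (allL N86125 (tt N102953 F439416) (tt N115016 F493068) (tt N114440 (iv2 F490178)) (tt N85213 F375172) (tt N105109 (iv4 F448831)) (tt N51021 (iv5 D188909)) (tt N86030 (iv6 F375171)) (tt N114914 (iv7 F492506)))
theorem Q86127 : ∀ i, i < 86127 → P i := stepQ 86126 Q86126 (allL N86126 (tt N104969 (iv1 F448198)) (tt N114451 (iv0 F490238)) (tt N114915 (iv2 F492508)) (tt N85214 F375178) (tt N96606 (iv4 F413155)) (tt N103891 (iv5 F443238)) (tt N51021 (iv6 D188910)) (tt N114983 (iv7 F492906)))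
theorem Q86128 : ∀ i, i < 86128 → P i := stepQ 86127 Q86127 (allL N86127 (tt N51022 (iv1 D188911)) (tt N91787 F394421) (tt N91786 (iv2 F394415)) (tt N83665 F375182) (tt N106038 (iv4 F452838)) (tt N86108 (iv5 F375181)) (tt N81409 (iv6 F375180)) (tt N85030 F375179))
theorem Q86129 : ∀ i, i < 86129 → P i := stepQ 86128 Q86128 (allL N86128 (tt N97998 F419109) (tt N107010 (iv0 F456636)) (tt N91785 (iv2 F394407)) (tt N55725 F375183) (tt N51022 (iv4 D188912)) (tt N73267 (iv5 F375185)) (tt N55410 F375184) (tt N107031 (iv7 F456714)))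
theorem Q86130 : ∀ i, i < 86130 → P i := stepQ 86129 Q86129 (allL N86129 (tt N91786 (iv1 F394412)) (tt N85030 (iv0 F375188)) (tt N91787 (iv2 F394416)) (tt N74856 F375186) (tt N107031 (iv4 F456710)) (tt N51023 F375187) (tt N91783 (iv6 F394399)) (tt N51022 (iv7 D188913)))
theorem Q86131 : ∀ i, i < 86131 → P i := stepQ 86130 Q86130 (allL N86130 (tt N98600 F421517) (tt N98649 F421733) (tt N51027 F375189) (tt N77671 F375190) (tt N98632 (iv4 F421660)) (tt N111317 (iv5 F475788)) (tt N51024 (iv6 D188914)) (tt N98043 (iv7 F419281)))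
theorem Q86132 : ∀ i, i < 86132 → P i := stepQ 86131 Q86131 (allL N86131 (tt N115017 D218274) (tt N115018 D218275) (tt N98632 (iv2 F421658)) (tt N103694 F442501) (tt N51027 F375191) (tt N103393 F441420) (tt N51025 (iv6 D188915)) (tt N106144 (iv7 F453335)))
theorem Q86133 : ∀ i, i < 86133 → P i := stepQ 86132 Q86132 (allL N86132 (tt N51026 (iv1 D188916)) (tt N89597 F386905) (tt N86095 F375196) (tt N85200 (iv3 F375195)) (tt N84641 F375193) (tt N85863 (iv5 F375194)) (tt N86829 (iv6 F377337)) (tt N51295 F375192))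
theorem Q86134 : ∀ i, i < 86134 → P i := stepQ 86133 Q86133 (allL N86133 (tt N98043 F419283) (tt N51027 (iv0 D188917)) (tt N98600 (iv2 F421513)) (tt N101040 F431416) (tt N106126 (iv4 F453246)) (tt N61249 (iv5 F375198)) (tt N61251 F375197) (tt N98649 (iv7 F421730)))
theorem Q86135 : ∀ i, i < 86135 → P i := stepQ 86134 Q86134 (allL N86134 (tt N51027 (iv1 D188918)) (tt N98043 (iv0 F419282)) (tt N98649 (iv2 F421729)) (tt N94003 (iv3 F402781)) (tt N103750 (iv4 F442670)) (tt N68382 (iv5 F383191)) (tt N78775 (iv6 F383192)) (tt N98600 (iv7 F421515)))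
theorem Q86136 : ∀ i, i < 86136 → P i := stepQ 86135 Q86135 (allL N86135 (tt N98663 F421789) (tt N98661 (iv0 F421777)) (tt N111317 (iv2 F475785)) (tt N51033 F375204) (tt N111738 F477740) (tt N51027 (iv5 D188919)) (tt N51256 F375205) (tt N68164 (iv7 F375206)))
theorem Q86137 : ∀ i, i < 86137 → P i := stepQ 86136 Q86136 (allL N86136 (tt N98649 F421732) (tt N98600 (iv0 F421516)) (tt N98043 (iv2 F419279)) (tt N51034 F375207) (tt N106144 (iv4 F453336)) (tt N68164 F375208) (tt N92188 (iv6 F396158)) (tt N51027 (iv7 D188920)))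
theorem Q86138 : ∀ i, i < 86138 → P i := stepQ 86137 Q86137 (allL N86137 (tt N51028 (iv1 D188921)) (tt N98639 (iv0 F421688)) (tt N103066 (iv2 F439930)) (tt N90386 (iv3 F389474)) (tt N115002 (iv4 F493002)) (tt N53970 F379914) (tt N115019 D218276) (tt N110500 (iv7 F471864)))
theorem Q86139 : ∀ i, i < 86139 → P i := stepQ 86138 Q86138 (allL N86138 (tt N108905 F464446) (tt N115020 D218277) (tt N106143 (iv2 F453331)) (tt N51030 F375209) (tt N103694 F442502) (tt N114595 (iv5 F490931)) (tt N51028 (iv6 D188922)) (tt N106148 (iv7 F453350)))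
theorem Q86140 : ∀ i, i < 86140 → P i := stepQ 86139 Q86139 (allL N86139 (tt N94617 F405237) (tt N96192 (iv0 F411425)) (tt N57768 F375210) (tt N97147 (iv3 F415670)) (tt N51105 F375211) (tt N113697 (iv5 F486686)) (tt N51029 (iv6 D188923)) (tt N97144 (iv7 F415663)))
theorem Q86141 : ∀ i, i < 86141 → P i := stepQ 86140 Q86140 (allL N86140 (tt N114599 (iv1 F490951)) (tt N51030 (iv0 D188924)) (tt N114473 (iv2 F490360)) (tt N70541 F413489) (tt N86705 (iv4 F413488)) (tt N114279 (iv5 F489359)) (tt N108904 F464443) (tt N109787 (iv7 F468611)))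
theorem Q86142 : ∀ i, i < 86142 → P i := stepQ 86141 Q86141 (allL N86141 (tt N51030 (iv1 D188925)) (tt N114599 (iv0 F490950)) (tt N109787 (iv2 F468607)) (tt N69688 (iv3 F394206)) (tt N86706 F413487) (tt N105432 (iv5 F450245)) (tt N69687 F394207) (tt N114473 (iv7 F490363)))
theorem Q86143 : ∀ i, i < 86143 → P i := stepQ 86142 Q86142 (allL N86142 (tt N109787 F468612) (tt N114473 (iv0 F490364)) (tt N114599 (iv2 F490945)) (tt N106148 (iv3 F453349)) (tt N51034 F375212) (tt N85160 F375383) (tt N114913 (iv6 F492500)) (tt N51030 (iv7 D188927)))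
theorem Q86144 : ∀ i, i < 86144 → P i := stepQ 86143 Q86143 (allL N86143 (tt N96687 (iv1 F413459)) (tt N51040 F394203) (tt N96693 F413501) (tt N91727 F394204) (tt N51031 (iv4 D188930)) (tt N85120 F394205) (tt N115021 D218278) (tt N96692 F413495))
theorem Q86145 : ∀ i, i < 86145 → P i := stepQ 86144 Q86144 (allL N86144 (tt N113587 F486168) (tt N51316 (iv0 F376218)) (tt N114916 (iv2 F492513)) (tt N85229 F376567) (tt N115022 D218279) (tt N51031 (iv5 D188931)) (tt N98579 (iv6 F421436)) (tt N114917 (iv7 F492521)))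
theorem Q86146 : ∀ i, i < 86146 → P i := stepQ 86145 Q86145 (allL N86145 (tt N98293 F420366) (tt N61515 F420367) (tt N98608 (iv2 F421563)) (tt N85230 F376568) (tt N115021 (iv4 F493079)) (tt N109690 (iv5 F468127)) (tt N51031 (iv6 D188932)) (tt N98607 (iv7 F421557)))
theorem Q86147 : ∀ i, i < 86147 → P i := stepQ 86146 Q86146 (allL N86146 (tt N84791 (iv1 F412727)) (tt N114906 F492462) (tt N70280 (iv2 F376563)) (tt N51032 (iv3 D188934)) (tt N70276 (iv4 F376564)) (tt N115023 D218280) (tt N73138 F376561) (tt N114905 (iv7 F492457)))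
theorem Q86148 : ∀ i, i < 86148 → P i := stepQ 86147 Q86147 (allL N86147 (tt N51040 F413456) (tt N96687 (iv0 F413454)) (tt N96692 (iv2 F413498)) (tt N115024 D218281) (tt N51032 (iv4 D188935)) (tt N100629 (iv5 F429762)) (tt N96667 F413372) (tt N96693 (iv7 F413500)))
theorem Q86149 : ∀ i, i < 86149 → P i := stepQ 86148 Q86148 (allL N86148 (tt N51316 F376562) (tt N113587 (iv0 F486167)) (tt N114917 (iv2 F492519)) (tt N115023 (iv3 F493084)) (tt N115025 D218282) (tt N51032 (iv5 D188936)) (tt N51369 (iv6 F375215)) (tt N114916 (iv7 F492516)))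
theorem Q86150 : ∀ i, i < 86150 → P i := stepQ 86149 Q86149 (allL N86149 (tt N51342 (iv1 F375226)) (tt N51033 (iv0 D188938)) (tt N51340 F376945) (tt N84461 F376999) (tt N114604 (iv4 F490975)) (tt N86040 F375217) (tt N85167 F375216) (tt N51341 F376946))
theorem Q86151 : ∀ i, i < 86151 → P i := stepQ 86150 Q86150 (allL N86150 (tt N51033 (iv1 D188939)) (tt N51342 F375218) (tt N51341 F376950) (tt N87545 (iv3 F379715)) (tt N115026 D218283) (tt N86039 (iv5 F375219)) (tt N87544 F379712) (tt N51340 F376951))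
theorem Q86152 : ∀ i, i < 86152 → P i := stepQ 86151 Q86151 (allL N86151 (tt N86613 F376930) (tt N86702 F376931) (tt N51339 F375220) (tt N111739 (iv3 F477744)) (tt N51033 (iv4 D188940)) (tt N114600 (iv5 F490954)) (tt N51257 F375221) (tt N115027 D218284))
theorem Q86153 : ∀ i, i < 86153 → P i := stepQ 86152 Q86152 (allL N86152 (tt N51341 (iv1 F375227)) (tt N51340 F375228) (tt N51342 F375222) (tt N68164 F375223) (tt N115027 (iv4 F493104)) (tt N51034 F375224) (tt N51361 F375225) (tt N51033 (iv7 D188941)))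
theorem Q86154 : ∀ i, i < 86154 → P i := stepQ 86153 Q86153 (allL N86153 (tt N89973 F388156) (tt N94518 F404804) (tt N89499 (iv2 F386654)) (tt N66891 F375229) (tt N51099 F375230) (tt N91930 (iv5 F395001)) (tt N51036 (iv6 D188942)) (tt N94514 (iv7 F404789)))
theorem Q86155 : ∀ i, i < 86155 → P i := stepQ 86154 Q86154 (allL N86154 (tt N51042 (iv1 F375235)) (tt N51041 (iv0 D188945)) (tt N51045 (iv2 F375233)) (tt N114918 (iv3 F492527)) (tt N77130 F375232) (tt N91738 F394263) (tt N95198 (iv6 F407373)) (tt N51043 F375234))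
theorem Q86156 : ∀ i, i < 86156 → P i := stepQ 86155 Q86155 (allL N86155 (tt N89589 F386856) (tt N89028 F386857) (tt N89588 F386848) (tt N96679 (iv3 F413417)) (tt N83458 F375236) (tt N51041 (iv5 D188947)) (tt N101510 (iv6 F433209)) (tt N89587 F386845))
theorem Q86157 : ∀ i, i < 86157 → P i := stepQ 86156 Q86156 (allL N86156 (tt N51043 (iv1 F375238)) (tt N51045 F375239) (tt N51042 F375237) (tt N96399 (iv3 F412341)) (tt N98246 (iv4 F420136)) (tt N89587 (iv5 F386842)) (tt N96397 F412333) (tt N51041 (iv7 D188949)))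
theorem Q86158 : ∀ i, i < 86158 → P i := stepQ 86157 Q86157 (allL N86157 (tt N89028 (iv1 F386859)) (tt N89589 F386858) (tt N89587 F386844) (tt N98202 (iv3 F419970)) (tt N83455 F375240) (tt N51042 (iv5 D188950)) (tt N106297 (iv6 F453929)) (tt N89588 (iv7 F386846)))
theorem Q86159 : ∀ i, i < 86159 → P i := stepQ 86158 Q86158 (allL N86158 (tt N91727 F394202) (tt N72216 (iv0 F375243)) (tt N96397 (iv2 F412330)) (tt N96705 (iv3 F413535)) (tt N65275 F375241) (tt N64738 (iv5 F375242)) (tt N51042 (iv6 D188951)) (tt N96714 (iv7 F413583)))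
theorem Q86160 : ∀ i, i < 86160 → P i := stepQ 86159 Q86159 (allL N86159 (tt N110430 F471551) (tt N114933 F492617) (tt N51044 F375244) (tt N109605 (iv3 F467693)) (tt N77436 (iv4 F375246)) (tt N51043 (iv5 D188952)) (tt N77438 F375245) (tt N91738 (iv7 F394262)))
theorem Q86161 : ∀ i, i < 86161 → P i := stepQ 86160 Q86160 (allL N86160 (tt N91738 (iv1 F394266)) (tt N51044 (iv0 D188953)) (tt N110430 (iv2 F471545)) (tt N99313 (iv3 F424060)) (tt N54234 F375247) (tt N101427 F432947) (tt N99311 F424053) (tt N114933 (iv7 F492618)))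
theorem Q86162 : ∀ i, i < 86162 → P i := stepQ 86161 Q86161 (allL N86161 (tt N51044 (iv1 D188954)) (tt N91738 F394264) (tt N114933 F492616) (tt N77039 (iv3 F375249)) (tt N54233 F375248) (tt N114466 (iv5 F490324)) (tt N115028 D218285) (tt N110430 (iv7 F471549)))
theorem Q86163 : ∀ i, i < 86163 → P i := stepQ 86162 Q86162 (allL N86162 (tt N66275 F375254) (tt N91739 F394268) (tt N77436 F375250) (tt N53961 F375251) (tt N51044 (iv4 D188955)) (tt N77175 F375253) (tt N77176 F375252) (tt N88031 (iv7 F381533)))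
theorem Q86164 : ∀ i, i < 86164 → P i := stepQ 86163 Q86163 (allL N86163 (tt N110449 (iv1 F471630)) (tt N110448 F471629) (tt N95198 (iv2 F407372)) (tt N51048 F375255) (tt N85247 F375256) (tt N87440 (iv5 F379340)) (tt N51045 (iv6 D188956)) (tt N77042 F375257))
theorem Q86165 : ∀ i, i < 86165 → P i := stepQ 86164 Q86164 (allL N86164 (tt N106753 F455548) (tt N51047 (iv0 D188957)) (tt N114922 F492551) (tt N109345 F466496) (tt N53629 F455478) (tt N115029 D218286) (tt N97714 F455479) (tt N110436 (iv7 F471589)))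
theorem Q86166 : ∀ i, i < 86166 → P i := stepQ 86165 Q86165 (allL N86165 (tt N51047 (iv1 D188958)) (tt N106753 (iv0 F455547)) (tt N110436 (iv2 F471586)) (tt N72853 F424173) (tt N53630 F424174) (tt N108129 (iv5 F461230)) (tt N99301 F424175) (tt N114922 (iv7 F492553)))
theorem Q86167 : ∀ i, i < 86167 → P i := stepQ 86166 Q86166 (allL N86166 (tt N110436 F471591) (tt N114922 F492552) (tt N106753 (iv2 F455542)) (tt N91706 (iv3 F394109)) (tt N53964 F375258) (tt N110434 (iv5 F471575)) (tt N91707 (iv6 F394117)) (tt N51047 (iv7 D188959)))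
theorem Q86168 : ∀ i, i < 86168 → P i := stepQ 86167 Q86167 (allL N86167 (tt N98198 (iv1 F419944)) (tt N51048 (iv0 D188960)) (tt N105232 F449319) (tt N110448 (iv3 F471636)) (tt N98196 (iv4 F471639)) (tt N111562 (iv5 F476934)) (tt N111551 F476879) (tt N114923 (iv7 F492555)))
theorem Q86169 : ∀ i, i < 86169 → P i := stepQ 86168 Q86168 (allL N86168 (tt N51048 (iv1 D188961)) (tt N98198 F419942) (tt N114923 F492557) (tt N94902 (iv3 F449323)) (tt N98195 (iv4 F471643)) (tt N94901 F449324) (tt N115030 D218287) (tt N105232 F449322))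
theorem Q86170 : ∀ i, i < 86170 → P i := stepQ 86169 Q86169 (allL N86169 (tt N115031 D218288) (tt N101558 (iv0 F476935)) (tt N114924 (iv2 F492559)) (tt N87440 (iv3 F379338)) (tt N115032 D218289) (tt N51048 (iv5 D188962)) (tt N87439 F379336) (tt N114984 (iv7 F492913)))
theorem Q86171 : ∀ i, i < 86171 → P i := stepQ 86170 Q86170 (allL N86170 (tt N74520 F428040) (tt N114331 (iv0 F489652)) (tt N114985 F492916) (tt N51049 (iv3 D188964)) (tt N114926 (iv4 F492571)) (tt N113083 F483903) (tt N115033 D218290) (tt N114926 (iv7 F492570)))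
theorem Q86172 : ∀ i, i < 86172 → P i := stepQ 86171 Q86171 (allL N86171 (tt N114980 F492891) (tt N86182 (iv0 F419943)) (tt N114925 (iv2 F492563)) (tt N114927 (iv3 F492575)) (tt N51049 (iv4 D188965)) (tt N112223 F480127) (tt N112228 (iv6 F480151)) (tt N114927 (iv7 F492576)))
theorem Q86173 : ∀ i, i < 86173 → P i := stepQ 86172 Q86172 (allL N86172 (tt N85539 F377003) (tt N85168 (iv0 F375261)) (tt N80585 (iv2 F375262)) (tt N113083 (iv3 F483900)) (tt N80582 F375260) (tt N51049 (iv5 D188966)) (tt N107760 (iv6 F459603)) (tt N88459 (iv7 F383136)))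
theorem Q86174 : ∀ i, i < 86174 → P i := stepQ 86173 Q86173 (allL N86173 (tt N114915 F492511) (tt N114983 (iv0 F492907)) (tt N114451 (iv2 F490234)) (tt N115033 (iv3 F493129)) (tt N112228 (iv4 F480150)) (tt N86009 F375267) (tt N51049 (iv6 D188967)) (tt N104969 (iv7 F448197)))
theorem Q86175 : ∀ i, i < 86175 → P i := stepQ 86174 Q86174 (allL N86174 (tt N86182 F375310) (tt N114980 (iv0 F492890)) (tt N114927 (iv2 F492574)) (tt N108906 (iv3 F464447)) (tt N51050 (iv4 D188968)) (tt N115034 D218291) (tt N98609 (iv6 F421565)) (tt N114925 (iv7 F492564)))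
theorem Q86176 : ∀ i, i < 86176 → P i := stepQ 86175 Q86175 (allL N86175 (tt N85168 (iv1 F375271)) (tt N85539 F375272) (tt N88459 (iv2 F383138)) (tt N98611 (iv3 F421572)) (tt N78427 F375270) (tt N51050 (iv5 D188969)) (tt N85147 F375268) (tt N80585 F375269))
theorem Q86177 : ∀ i, i < 86177 → P i := stepQ 86176 Q86176 (allL N86176 (tt N85351 F375276) (tt N51065 (iv0 F375277)) (tt N53667 F375273) (tt N85853 F375274) (tt N115035 D218292) (tt N51053 (iv5 D188970)) (tt N100019 (iv6 F427228)) (tt N53666 F375275))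
theorem Q86178 : ∀ i, i < 86178 → P i := stepQ 86177 Q86177 (allL N86177 (tt N51065 F375281) (tt N85351 F375282) (tt N53666 F375278) (tt N76350 F375279) (tt N115036 D218293) (tt N51054 (iv5 D188971)) (tt N115037 D218294) (tt N53667 F375280))
theorem Q86179 : ∀ i, i < 86179 → P i := stepQ 86178 Q86178 (allL N86178 (tt N53670 F375286) (tt N53669 F375287) (tt N51056 F375283) (tt N84839 F375284) (tt N114293 (iv4 F489434)) (tt N51055 (iv5 D188972)) (tt N86308 (iv6 F375784)) (tt N53663 F375285))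
theorem Q86180 : ∀ i, i < 86180 → P i := stepQ 86179 Q86179 (allL N86179 (tt N53663 (iv1 F375291)) (tt N51056 (iv0 D188973)) (tt N53670 (iv2 F375292)) (tt N98244 F420122) (tt N76462 F375289) (tt N83947 F375290) (tt N76435 (iv6 F375294)) (tt N53669 (iv7 F375293)))
theorem Q86181 : ∀ i, i < 86181 → P i := stepQ 86180 Q86180 (allL N86180 (tt N51056 (iv1 D188974)) (tt N53663 F375300) (tt N53669 (iv2 F375304)) (tt N56101 (iv3 F375303)) (tt N114332 (iv4 F489656)) (tt N85344 F375302) (tt N99995 (iv6 F427102)) (tt N53670 F375301))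
theorem Q86182 : ∀ i, i < 86182 → P i := stepQ 86181 Q86181 (allL N86181 (tt N114556 F490764) (tt N59480 (iv0 F375307)) (tt N115038 D218295) (tt N51057 (iv3 D188975)) (tt N88953 (iv4 F384593)) (tt N53635 F375305) (tt N88952 F384591) (tt N53675 F375306))
theorem Q86183 : ∀ i, i < 86183 → P i := stepQ 86182 Q86182 (allL N86182 (tt N86171 F419943) (tt N86174 (iv0 F375310)) (tt N86117 F375308) (tt N88952 (iv3 F384590)) (tt N51058 F375309) (tt N115039 D218296) (tt N51057 (iv6 D188976)) (tt N98194 (iv7 F419930)))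
theorem Q86184 : ∀ i, i < 86184 → P i := stepQ 86183 Q86183 (allL N86183 (tt N98172 (iv1 F419840)) (tt N51058 (iv0 D188977)) (tt N98196 (iv2 F471637)) (tt N105224 F449281) (tt N105232 (iv4 F449318)) (tt N115040 D218297) (tt N104766 F447171) (tt N98195 (iv7 F471644)))
theorem Q86185 : ∀ i, i < 86185 → P i := stepQ 86184 Q86184 (allL N86184 (tt N51058 (iv1 D188978)) (tt N98172 F419839) (tt N98195 (iv2 F471641)) (tt N66804 (iv3 F428038)) (tt N114923 (iv4 F492556)) (tt N115041 D218298) (tt N111210 (iv6 F475238)) (tt N98196 (iv7 F471640)))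
theorem Q86186 : ∀ i, i < 86186 → P i := stepQ 86185 Q86185 (allL N86185 (tt N97285 F416217) (tt N97284 (iv0 F416208)) (tt N51064 F375311) (tt N114795 (iv3 F491909)) (tt N96066 (iv4 F410881)) (tt N83740 F375312) (tt N51060 (iv6 D188979)) (tt N103044 (iv7 F439815)))
theorem Q86187 : ∀ i, i < 86187 → P i := stepQ 86186 Q86186 (allL N86186 (tt N85850 F375314) (tt N85853 F375315) (tt N85288 F375313) (tt N51062 (iv3 D188980)) (tt N113093 (iv4 F483947)) (tt N86682 (iv5 F376783)) (tt N115042 D218299) (tt N103018 (iv7 F439695)))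
theorem Q86188 : ∀ i, i < 86188 → P i := stepQ 86187 Q86187 (allL N86187 (tt N55702 F375319) (tt N60750 F375320) (tt N60748 F375316) (tt N115042 (iv3 F493181)) (tt N93560 (iv4 F401134)) (tt N66633 F375317) (tt N51062 (iv6 D188981)) (tt N60747 F375318))
theorem Q86189 : ∀ i, i < 86189 → P i := stepQ 86188 Q86188 (allL N86188 (tt N97155 (iv1 F415700)) (tt N97145 (iv0 F415665)) (tt N96066 (iv2 F410879)) (tt N72225 F375322) (tt N51064 F375323) (tt N72224 F375324) (tt N51063 (iv6 D188982)) (tt N93752 (iv7 F401774)))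
theorem Q86190 : ∀ i, i < 86190 → P i := stepQ 86189 Q86189 (allL N86189 (tt N103044 (iv1 F439817)) (tt N51064 (iv0 D188983)) (tt N97285 (iv2 F416211)) (tt N85295 (iv3 F375326)) (tt N105441 (iv4 F450278)) (tt N60206 F375325) (tt N92987 (iv6 F399027)) (tt N97284 (iv7 F416206)))
theorem Q86191 : ∀ i, i < 86191 → P i := stepQ 86190 Q86190 (allL N86190 (tt N97284 F416209) (tt N97285 (iv0 F416216)) (tt N103044 (iv2 F439813)) (tt N51075 F375327) (tt N93752 (iv4 F401772)) (tt N83745 F375328) (tt N61196 F375329) (tt N51064 (iv7 D188984)))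
theorem Q86192 : ∀ i, i < 86192 → P i := stepQ 86191 Q86191 (allL N86191 (tt N53667 (iv1 F375334)) (tt N53666 F375333) (tt N51065 (iv2 D188985)) (tt N53841 F375330) (tt N114290 (iv4 F489418)) (tt N53839 F375331) (tt N108812 (iv6 F464073)) (tt N85351 F375332))
theorem Q86193 : ∀ i, i < 86193 → P i := stepQ 86192 Q86192 (allL N86192 (tt N85544 F375337) (tt N99802 F426290) (tt N108812 (iv2 F464071)) (tt N51067 F375335) (tt N114490 (iv4 F490441)) (tt N61149 F375336) (tt N51065 (iv6 D188986)) (tt N109047 (iv7 F465095)))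
theorem Q86194 : ∀ i, i < 86194 → P i := stepQ 86193 Q86193 (allL N86193 (tt N115043 D218300) (tt N94806 (iv0 F406028)) (tt N96440 (iv2 F412527)) (tt N51066 (iv3 D188987)) (tt N114488 (iv4 F490436)) (tt N53617 F375338) (tt N96436 (iv6 F412511)) (tt N86075 F375339))
theorem Q86195 : ∀ i, i < 86195 → P i := stepQ 86194 Q86194 (allL N86194 (tt N96427 (iv1 F412475)) (tt N96426 F412474) (tt N59513 F375340) (tt N96436 (iv3 F412509)) (tt N51067 F375341) (tt N82433 (iv5 F375342)) (tt N51066 (iv6 D188988)) (tt N96424 (iv7 F412465)))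
theorem Q86196 : ∀ i, i < 86196 → P i := stepQ 86195 Q86195 (allL N86195 (tt N61152 (iv1 F375346)) (tt N51067 (iv0 D188989)) (tt N103019 (iv2 F439696)) (tt N76658 F419457) (tt N95716 (iv4 F409281)) (tt N98098 (iv5 F419456)) (tt N115044 D218301) (tt N96625 F413229))
theorem Q86197 : ∀ i, i < 86197 → P i := stepQ 86196 Q86196 (allL N86196 (tt N51067 (iv1 D188990)) (tt N61152 F375343) (tt N96625 (iv2 F413227)) (tt N61176 (iv3 F413183)) (tt N96614 F413182) (tt N98111 (iv5 F419497)) (tt N96613 F413184) (tt N103019 (iv7 F439698)))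
theorem Q86198 : ∀ i, i < 86198 → P i := stepQ 86197 Q86197 (allL N86197 (tt N96625 F413230) (tt N103019 F439699) (tt N61152 F375344) (tt N109047 (iv3 F465093)) (tt N96424 (iv4 F412464)) (tt N61129 F375345) (tt N114468 (iv6 F490334)) (tt N51067 (iv7 D188991)))
theorem Q86199 : ∀ i, i < 86199 → P i := stepQ 86198 Q86198 (allL N86198 (tt N101359 (iv1 F432774)) (tt N77664 (iv0 F375349)) (tt N85352 F375347) (tt N95022 (iv3 F406686)) (tt N51068 (iv4 D188992)) (tt N115045 D218302) (tt N107368 (iv6 F458124)) (tt N85354 F375348))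
theorem Q86200 : ∀ i, i < 86200 → P i := stepQ 86199 Q86199 (allL N86199 (tt N70636 F375353) (tt N70634 (iv0 F375354)) (tt N85353 F375350) (tt N51070 F375351) (tt N107368 (iv4 F458123)) (tt N68176 F375352) (tt N51068 (iv6 D188993)) (tt N104844 (iv7 F447569)))
theorem Q86201 : ∀ i, i < 86201 → P i := stepQ 86200 Q86200 (allL N86200 (tt N96443 (iv1 F412538)) (tt N96442 (iv0 F412536)) (tt N96445 (iv2 F412551)) (tt N51069 (iv3 D188994)) (tt N95022 (iv4 F406687)) (tt N53601 F375355) (tt N96433 (iv6 F412497)) (tt N59514 F375356))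
theorem Q86202 : ∀ i, i < 86202 → P i := stepQ 86201 Q86201 (allL N86201 (tt N86046 F387015) (tt N115046 D218303) (tt N86076 F375357) (tt N96433 (iv3 F412495)) (tt N51070 F375358) (tt N93518 (iv5 F401007)) (tt N51069 (iv6 D188995)) (tt N96428 (iv7 F412480)))
theorem Q86203 : ∀ i, i < 86203 → P i := stepQ 86202 Q86202 (allL N86202 (tt N51070 (iv1 D188996)) (tt N114468 F490336) (tt N104764 (iv2 F447159)) (tt N101034 (iv3 F431383)) (tt N101055 (iv4 F431475)) (tt N91046 (iv5 F391742)) (tt N101048 (iv6 F431442)) (tt N104765 (iv7 F447167)))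
theorem Q86204 : ∀ i, i < 86204 → P i := stepQ 86203 Q86203 (allL N86203 (tt N104764 F447163) (tt N104765 (iv0 F447168)) (tt N114468 F490335) (tt N104844 (iv3 F447567)) (tt N96428 (iv4 F412479)) (tt N85004 F375359) (tt N61152 F375360) (tt N51070 (iv7 D188997)))
theorem Q86205 : ∀ i, i < 86205 → P i := stepQ 86204 Q86204 (allL N86204 (tt N101422 F432934) (tt N78137 (iv0 F375364)) (tt N76207 F375361) (tt N51072 F375362) (tt N72225 F375363) (tt N89318 (iv5 F386070)) (tt N51071 (iv6 D188998)) (tt N101253 (iv7 F432409)))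
theorem Q86206 : ∀ i, i < 86206 → P i := stepQ 86205 Q86205 (allL N86205 (tt N115047 D218304) (tt N115048 D218305) (tt N58341 F375367) (tt N89318 (iv3 F386068)) (tt N71206 F375368) (tt N51072 (iv5 D189001)) (tt N93260 (iv6 F400169)) (tt N90711 (iv7 F390605)))
theorem Q86207 : ∀ i, i < 86207 → P i := stepQ 86206 Q86206 (allL N86206 (tt N113328 F485053) (tt N101419 (iv0 F432921)) (tt N114930 (iv2 F492594)) (tt N101253 (iv3 F432407)) (tt N51075 F375369) (tt N90711 (iv5 F390604)) (tt N114932 (iv6 F492612)) (tt N51072 (iv7 D189002)))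
theorem Q86208 : ∀ i, i < 86208 → P i := stepQ 86207 Q86207 (allL N86207 (tt N111268 (iv1 F475542)) (tt N115037 (iv0 F493155)) (tt N104972 (iv2 F448209)) (tt N51073 (iv3 D189003)) (tt N104207 (iv4 F444693)) (tt N115049 D218306) (tt N104206 (iv6 F444690)) (tt N105415 (iv7 F450156)))
theorem Q86209 : ∀ i, i < 86209 → P i := stepQ 86208 Q86208 (allL N86208 (tt N86081 F375372) (tt N85868 F375379) (tt N86078 F375374) (tt N101403 (iv3 F432858)) (tt N51073 (iv4 D189004)) (tt N85158 F375371) (tt N85161 (iv6 F375373)) (tt N86079 F375370))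
theorem Q86210 : ∀ i, i < 86210 → P i := stepQ 86209 Q86209 (allL N86209 (tt N86486 (iv1 F377605)) (tt N97274 F416161) (tt N68145 F375384) (tt N115049 (iv3 F493220)) (tt N68153 F375385) (tt N51073 (iv5 D189005)) (tt N113700 (iv6 F486702)) (tt N86893 F377603))
theorem Q86211 : ∀ i, i < 86211 → P i := stepQ 86210 Q86210 (allL N86210 (tt N101048 F444691) (tt N92982 (iv0 F399014)) (tt N86703 (iv2 F376834)) (tt N104206 F444689) (tt N85161 F375386) (tt N86457 F376272) (tt N51073 (iv6 D189006)) (tt N86700 (iv7 F376839)))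
theorem Q86212 : ∀ i, i < 86212 → P i := stepQ 86211 Q86211 (allL N86211 (tt N113115 F486351) (tt N115044 (iv0 F493195)) (tt N114337 (iv2 F489682)) (tt N101392 (iv3 F432836)) (tt N101396 (iv4 F432844)) (tt N113694 (iv5 F486675)) (tt N51074 (iv6 D189007)) (tt N114602 (iv7 F490961)))
theorem Q86213 : ∀ i, i < 86213 → P i := stepQ 86212 Q86212 (allL N86212 (tt N76686 F375392) (tt N63394 (iv0 F375390)) (tt N51082 F375387) (tt N59160 F375388) (tt N85607 F375389) (tt N99741 (iv5 F426002)) (tt N51077 (iv6 D189008)) (tt N76685 (iv7 F375391)))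
theorem Q86214 : ∀ i, i < 86214 → P i := stepQ 86213 Q86213 (allL N86213 (tt N60736 F375397) (tt N101034 (iv0 F431386)) (tt N85304 F375393) (tt N76346 F375394) (tt N89790 (iv4 F387583)) (tt N84996 F375395) (tt N51079 (iv6 D189009)) (tt N76664 F375396))
theorem Q86215 : ∀ i, i < 86215 → P i := stepQ 86214 Q86214 (allL N86214 (tt N107632 F459024) (tt N61454 (iv0 F375400)) (tt N85607 F375398) (tt N99382 (iv3 F424354)) (tt N51082 F375399) (tt N115050 D218307) (tt N51081 (iv6 D189010)) (tt N107378 (iv7 F458148)))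
theorem Q86216 : ∀ i, i < 86216 → P i := stepQ 86215 Q86215 (allL N86215 (tt N76685 (iv1 F375406)) (tt N51082 (iv0 D189011)) (tt N76686 (iv2 F375403)) (tt N76279 (iv3 F375405)) (tt N115051 D218308) (tt N63395 F375401) (tt N76691 F375402) (tt N63394 F375404))
theorem Q86217 : ∀ i, i < 86217 → P i := stepQ 86216 Q86216 (allL N86216 (tt N63394 (iv1 F375410)) (tt N76686 F375411) (tt N76685 F375407) (tt N51090 F375408) (tt N107378 (iv4 F458146)) (tt N75496 F375409) (tt N114929 (iv6 F492591)) (tt N51082 (iv7 D189012)))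
theorem Q86218 : ∀ i, i < 86218 → P i := stepQ 86217 Q86217 (allL N86217 (tt N59402 F375414) (tt N73097 F375415) (tt N73096 F375412) (tt N51086 F375413) (tt N99382 (iv4 F424355)) (tt N101934 (iv5 F435002)) (tt N51085 (iv6 D189013)) (tt N73095 F405905))
theorem Q86219 : ∀ i, i < 86219 → P i := stepQ 86218 Q86218 (allL N86218 (tt N94537 (iv1 F419967)) (tt N115052 D218309) (tt N114931 (iv2 F492601)) (tt N101934 F435003) (tt N81982 F419966) (tt N51086 (iv5 D189016)) (tt N53589 F375416) (tt N115053 D218310))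
theorem Q86220 : ∀ i, i < 86220 → P i := stepQ 86219 Q86219 (allL N86219 (tt N111230 (iv1 F475337)) (tt N96623 (iv0 F413223)) (tt N114932 (iv2 F492608)) (tt N73095 (iv3 F405906)) (tt N51090 F375417) (tt N115053 (iv5 F493245)) (tt N114930 (iv6 F492598)) (tt N51086 (iv7 D189017)))
theorem Q86221 : ∀ i, i < 86221 → P i := stepQ 86220 Q86220 (allL N86220 (tt N76626 (iv1 F375423)) (tt N76625 F375422) (tt N76627 (iv2 F375421)) (tt N51087 (iv3 D189018)) (tt N75576 (iv4 F375419)) (tt N61002 F375420) (tt N115054 D218311) (tt N61001 F375418))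
theorem Q86222 : ∀ i, i < 86222 → P i := stepQ 86221 Q86221 (allL N86221 (tt N86106 F375425) (tt N85872 F375436) (tt N86103 F375424) (tt N101054 (iv3 F431471)) (tt N51087 (iv4 D189019)) (tt N108898 (iv5 F464407)) (tt N115055 D218312) (tt N86104 (iv7 F375426)))
theorem Q86223 : ∀ i, i < 86223 → P i := stepQ 86222 Q86222 (allL N86222 (tt N78844 F375435) (tt N81439 (iv0 F375437)) (tt N74957 F375429) (tt N61002 F375430) (tt N80881 (iv4 F375433)) (tt N51087 (iv5 D189020)) (tt N76617 F375432) (tt N60998 F375431))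
theorem Q86224 : ∀ i, i < 86224 → P i := stepQ 86223 Q86223 (allL N86223 (tt N96613 (iv1 F419834)) (tt N96358 F419833) (tt N96624 F413226) (tt N115054 (iv3 F493250)) (tt N115055 (iv4 F493258)) (tt N114054 (iv5 F488373)) (tt N51087 (iv6 D189021)) (tt N61160 F375442))
theorem Q86225 : ∀ i, i < 86225 → P i := stepQ 86224 Q86224 (allL N86224 (tt N100019 (iv1 F427229)) (tt N115056 D218313) (tt N63343 F375443) (tt N51088 (iv3 D189022)) (tt N106361 (iv4 F454143)) (tt N56085 F375444) (tt N56086 F375445) (tt N74958 F375446))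
theorem Q86226 : ∀ i, i < 86226 → P i := stepQ 86225 Q86225 (allL N86225 (tt N85872 F375450) (tt N86106 F375451) (tt N86104 F375447) (tt N110489 (iv3 F471814)) (tt N51088 (iv4 D189023)) (tt N108899 F464416) (tt N61158 F375448) (tt N86103 F375449))
theorem Q86227 : ∀ i, i < 86227 → P i := stepQ 86226 Q86226 (allL N86226 (tt N82035 (iv1 F375457)) (tt N51089 (iv0 D189024)) (tt N82037 (iv2 F375455)) (tt N77642 F375453) (tt N81469 F375452) (tt N98190 (iv5 F419916)) (tt N81467 F375454) (tt N82031 F375456))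
theorem Q86228 : ∀ i, i < 86228 → P i := stepQ 86227 Q86227 (allL N86227 (tt N112377 F480809) (tt N75361 F375461) (tt N80198 F375458) (tt N75178 F375459) (tt N51089 (iv4 D189025)) (tt N115057 D218314) (tt N51092 F375460) (tt N75497 (iv7 F375462)))
theorem Q86229 : ∀ i, i < 86229 → P i := stepQ 86228 Q86228 (allL N86228 (tt N82031 (iv1 F375468)) (tt N82037 F375469) (tt N82035 F375463) (tt N75496 F375464) (tt N75497 F375465) (tt N51090 F375466) (tt N81451 F375467) (tt N51089 (iv7 D189026)))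
theorem Q86230 : ∀ i, i < 86230 → P i := stepQ 86229 Q86229 (allL N86229 (tt N53678 (iv1 F375473)) (tt N51095 (iv0 D189027)) (tt N53677 (iv2 F375472)) (tt N85913 F375471) (tt N86542 (iv4 F376455)) (tt N85335 F375470) (tt N84001 (iv6 F375475)) (tt N53676 F375474))
theorem Q86231 : ∀ i, i < 86231 → P i := stepQ 86230 Q86230 (allL N86230 (tt N53677 (iv1 F375484)) (tt N53676 F375483) (tt N51095 (iv2 D189028)) (tt N83177 F375478) (tt N53838 F375479) (tt N53624 F375480) (tt N84382 F375481) (tt N53678 F375482))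
theorem Q86232 : ∀ i, i < 86232 → P i := stepQ 86231 Q86231 (allL N86231 (tt N83490 F375489) (tt N83876 (iv0 F375490)) (tt N51098 F375485) (tt N80628 F375486) (tt N86912 (iv4 F377683)) (tt N81886 F375487) (tt N51097 (iv6 D189029)) (tt N80623 F375488))
theorem Q86233 : ∀ i, i < 86233 → P i := stepQ 86232 Q86232 (allL N86232 (tt N80623 (iv1 F375494)) (tt N51098 (iv0 D189030)) (tt N83490 (iv2 F375493)) (tt N113019 (iv3 F483585)) (tt N113031 (iv4 F483627)) (tt N54820 F375492) (tt N53725 F375491) (tt N83876 F375495))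
theorem Q86234 : ∀ i, i < 86234 → P i := stepQ 86233 Q86233 (allL N86233 (tt N51099 (iv1 D189031)) (tt N59228 F375496) (tt N89466 (iv2 F386592)) (tt N112686 (iv3 F482176)) (tt N100914 (iv4 F430943)) (tt N90807 (iv5 F390933)) (tt N89443 (iv6 F386528)) (tt N89009 F384799))
theorem Q86235 : ∀ i, i < 86235 → P i := stepQ 86234 Q86234 (allL N86234 (tt N89466 (iv1 F386594)) (tt N89009 (iv0 F384797)) (tt N59228 F375497) (tt N72249 F375498) (tt N94514 (iv4 F404788)) (tt N89352 (iv5 F386226)) (tt N59226 F375499) (tt N51099 (iv7 D189032)))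
theorem Q86236 : ∀ i, i < 86236 → P i := stepQ 86235 Q86235 (allL N86235 (tt N74191 (iv1 F375504)) (tt N87369 F379144) (tt N81537 F375500) (tt N113934 (iv3 F487857)) (tt N51101 (iv4 D189033)) (tt N74188 F375503) (tt N80655 F375501) (tt N84055 F375502))
theorem Q86237 : ∀ i, i < 86237 → P i := stepQ 86236 Q86236 (allL N86236 (tt N76296 (iv1 F375508)) (tt N88275 (iv0 F382430)) (tt N88445 (iv2 F383075)) (tt N51102 (iv3 D189034)) (tt N87931 (iv4 F381201)) (tt N53921 F375506) (tt N51136 F375507) (tt N107499 (iv7 F458543)))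
theorem Q86238 : ∀ i, i < 86238 → P i := stepQ 86237 Q86237 (allL N86237 (tt N87369 F379145) (tt N74191 F375513) (tt N84055 F375509) (tt N52330 F375514) (tt N51102 (iv4 D189035)) (tt N74139 F375510) (tt N51137 F375511) (tt N81537 F375512))
theorem Q86239 : ∀ i, i < 86239 → P i := stepQ 86238 Q86238 (allL N86238 (tt N55289 F375520) (tt N55288 (iv0 F375521)) (tt N53890 F375515) (tt N55273 F375516) (tt N51104 (iv4 D189036)) (tt N52257 F375517) (tt N59260 F375518) (tt N53891 F375519))
theorem Q86240 : ∀ i, i < 86240 → P i := stepQ 86239 Q86239 (allL N86239 (tt N84245 (iv1 F375533)) (tt N51105 (iv0 D189037)) (tt N84243 (iv2 F375524)) (tt N96285 F411874) (tt N57811 F375522) (tt N111294 (iv5 F475675)) (tt N73428 F375523) (tt N84244 (iv7 F375525)))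
theorem Q86241 : ∀ i, i < 86241 → P i := stepQ 86240 Q86240 (allL N86240 (tt N51105 (iv1 D189038)) (tt N84245 F375526) (tt N84244 F375531) (tt N59237 F375532) (tt N57812 (iv4 F375530)) (tt N84264 (iv5 F375529)) (tt N71648 (iv6 F375528)) (tt N84243 F375527))
theorem Q86242 : ∀ i, i < 86242 → P i := stepQ 86241 Q86241 (allL N86241 (tt N84244 (iv1 F375537)) (tt N84243 F375538) (tt N84245 F375534) (tt N59254 F375535) (tt N97144 (iv4 F415660)) (tt N83866 F375536) (tt N89586 (iv6 F386839)) (tt N51105 (iv7 D189039)))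
theorem Q86243 : ∀ i, i < 86243 → P i := stepQ 86242 Q86242 (allL N86242 (tt N89868 (iv1 F387810)) (tt N51113 (iv0 F375541)) (tt N89867 F387800) (tt N51107 (iv3 D189040)) (tt N115058 D218315) (tt N54089 F375539) (tt N86753 (iv6 F377060)) (tt N84105 F375540))
theorem Q86244 : ∀ i, i < 86244 → P i := stepQ 86243 Q86243 (allL N86243 (tt N52164 F375546) (tt N84077 F375547) (tt N54021 F375542) (tt N55310 (iv3 F375548)) (tt N51107 (iv4 D189041)) (tt N53990 F375545) (tt N83853 F375543) (tt N54025 F375544))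
theorem Q86245 : ∀ i, i < 86245 → P i := stepQ 86244 Q86244 (allL N86244 (tt N55302 F375553) (tt N55301 F375554) (tt N51109 F375549) (tt N55306 F375550) (tt N51108 (iv4 D189042)) (tt N70881 F375552) (tt N71866 F375555) (tt N55303 F375551))
theorem Q86246 : ∀ i, i < 86246 → P i := stepQ 86245 Q86245 (allL N86245 (tt N84235 F375563) (tt N76187 F375564) (tt N51110 F375559) (tt N55290 F375560) (tt N55294 F375562) (tt N51108 (iv5 D189043)) (tt N115059 D218316) (tt N84225 F375561))
theorem Q86247 : ∀ i, i < 86247 → P i := stepQ 86246 Q86246 (allL N86246 (tt N83853 F375569) (tt N83852 (iv0 F375570)) (tt N51111 F375565) (tt N84181 F375566) (tt N71866 F375567) (tt N88410 (iv5 F382925)) (tt N51108 (iv6 D189044)) (tt N83848 F375568))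
theorem Q86248 : ∀ i, i < 86248 → P i := stepQ 86247 Q86247 (allL N86247 (tt N51109 (iv1 D189045)) (tt N55303 F375571) (tt N55301 F375579) (tt N115060 D218317) (tt N55072 (iv4 F375573)) (tt N83080 (iv5 F375574)) (tt N83478 (iv6 F375575)) (tt N55302 F375572))
theorem Q86249 : ∀ i, i < 86249 → P i := stepQ 86248 Q86248 (allL N86248 (tt N96043 (iv1 F410771)) (tt N74210 F375583) (tt N55294 F375580) (tt N109631 (iv3 F467842)) (tt N51110 (iv4 D189046)) (tt N83141 F375582) (tt N96041 (iv6 F410763)) (tt N84236 F375581))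
theorem Q86250 : ∀ i, i < 86250 → P i := stepQ 86249 Q86249 (allL N86249 (tt N109474 F467154) (tt N115061 D218318) (tt N115059 (iv2 F493281)) (tt N51112 F375584) (tt N96041 (iv4 F410762)) (tt N88411 (iv5 F382930)) (tt N51110 (iv6 D189047)) (tt N96035 (iv7 F410744)))
theorem Q86251 : ∀ i, i < 86251 → P i := stepQ 86250 Q86250 (allL N86250 (tt N51112 (iv1 D189048)) (tt N89586 F386840) (tt N89585 F386835) (tt N91060 (iv3 F391801)) (tt N94518 (iv4 F404803)) (tt N110384 (iv5 F471334)) (tt N89971 (iv6 F388145)) (tt N89076 F385059))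
theorem Q86252 : ∀ i, i < 86252 → P i := stepQ 86251 Q86251 (allL N86251 (tt N89585 (iv1 F386831)) (tt N89076 F385058) (tt N89586 (iv2 F386837)) (tt N96035 (iv3 F410742)) (tt N115014 (iv4 F493056)) (tt N88413 (iv5 F382937)) (tt N84245 F375585) (tt N51112 (iv7 D189049)))
theorem Q86253 : ∀ i, i < 86253 → P i := stepQ 86252 Q86252 (allL N86252 (tt N51113 (iv1 D189050)) (tt N89868 F387809) (tt N84105 F375588) (tt N56108 (iv3 F375587)) (tt N86408 (iv4 F376137)) (tt N54090 F375586) (tt N51160 F375589) (tt N89867 (iv7 F387802)))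
theorem Q86254 : ∀ i, i < 86254 → P i := stepQ 86253 Q86253 (allL N86253 (tt N83285 (iv1 F375593)) (tt N51116 (iv0 D189051)) (tt N83283 (iv2 F375591)) (tt N115062 D218319) (tt N63609 F375590) (tt N103107 (iv5 F440106)) (tt N107383 (iv6 F458164)) (tt N83284 F375592))
theorem Q86255 : ∀ i, i < 86255 → P i := stepQ 86254 Q86254 (allL N86254 (tt N83284 (iv1 F375599)) (tt N83283 F375600) (tt N83285 F375594) (tt N51123 F375595) (tt N77193 F375596) (tt N51168 F375597) (tt N83280 F375598) (tt N51116 (iv7 D189052)))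
theorem Q86256 : ∀ i, i < 86256 → P i := stepQ 86255 Q86255 (allL N86255 (tt N53238 (iv1 F375607)) (tt N53237 F375605) (tt N51117 (iv2 D189053)) (tt N53883 F375601) (tt N55258 F375602) (tt N53233 F375603) (tt N93857 (iv6 F402179)) (tt N53232 F375604))
theorem Q86257 : ∀ i, i < 86257 → P i := stepQ 86256 Q86256 (allL N86256 (tt N53975 (iv1 F375612)) (tt N53974 F375613) (tt N53960 F375608) (tt N93855 (iv3 F402164)) (tt N72926 F375609) (tt N54053 F375610) (tt N53248 F375611) (tt N51118 (iv7 D189054)))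
theorem Q86258 : ∀ i, i < 86258 → P i := stepQ 86257 Q86257 (allL N86257 (tt N109605 (iv1 F467697)) (tt N51119 (iv0 D189055)) (tt N114921 (iv2 F492545)) (tt N109342 F466476) (tt N102722 F438363) (tt N114988 (iv5 F492934)) (tt N115063 D218320) (tt N102721 (iv7 F438364)))
theorem Q86259 : ∀ i, i < 86259 → P i := stepQ 86258 Q86258 (allL N86258 (tt N51119 (iv1 D189056)) (tt N109605 (iv0 F467696)) (tt N102721 (iv2 F438353)) (tt N55037 (iv3 F375614)) (tt N55039 (iv4 F375615)) (tt N114989 (iv5 F492941)) (tt N99314 (iv6 F424065)) (tt N114921 (iv7 F492541)))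
theorem Q86260 : ∀ i, i < 86260 → P i := stepQ 86259 Q86259 (allL N86259 (tt N114921 (iv1 F492540)) (tt N102721 (iv0 F438354)) (tt N51119 (iv2 D189057)) (tt N91738 (iv3 F394260)) (tt N63797 F375616) (tt N114918 (iv5 F492525)) (tt N91737 F394258) (tt N109605 (iv7 F467695)))
theorem Q86261 : ∀ i, i < 86261 → P i := stepQ 86260 Q86260 (allL N86260 (tt N113220 F484549) (tt N113219 F484542) (tt N91737 (iv2 F394253)) (tt N51120 F375617) (tt N100432 (iv4 F428956)) (tt N108632 (iv5 F463289)) (tt N51119 (iv6 D189058)) (tt N113221 (iv7 F484553)))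
theorem Q86262 : ∀ i, i < 86262 → P i := stepQ 86261 Q86261 (allL N86261 (tt N91707 F394120) (tt N51120 (iv0 D189059)) (tt N110451 (iv2 F471651)) (tt N57737 F384865) (tt N53637 F384864) (tt N100555 (iv5 F429444)) (tt N64620 (iv6 F384866)) (tt N57732 (iv7 F384867)))
theorem Q86263 : ∀ i, i < 86263 → P i := stepQ 86262 Q86262 (allL N86262 (tt N51120 (iv1 D189060)) (tt N91707 (iv0 F394119)) (tt N57732 F375619) (tt N66887 F375620) (tt N53638 F375622) (tt N115064 D218321) (tt N57730 (iv6 F375618)) (tt N110451 (iv7 F471654)))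
theorem Q86264 : ∀ i, i < 86264 → P i := stepQ 86263 Q86263 (allL N86263 (tt N73440 F375621) (tt N112206 (iv0 F480052)) (tt N87439 F379335) (tt N108632 F463290) (tt N115065 D218322) (tt N51120 (iv5 D189061)) (tt N114924 (iv6 F492561)) (tt N115066 D218323))
theorem Q86265 : ∀ i, i < 86265 → P i := stepQ 86264 Q86264 (allL N86264 (tt N57732 (iv1 F375627)) (tt N110451 (iv0 F471655)) (tt N91707 F394121) (tt N113221 (iv3 F484550)) (tt N51123 F375626) (tt N115066 (iv5 F493319)) (tt N106753 (iv6 F455544)) (tt N51120 (iv7 D189062)))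
theorem Q86266 : ∀ i, i < 86266 → P i := stepQ 86265 Q86265 (allL N86265 (tt N90600 F390214) (tt N53923 F390215) (tt N107134 F457135) (tt N51121 (iv3 D189064)) (tt N115067 D218324) (tt N115068 D218325) (tt N99379 F473471) (tt N107108 F457014))
theorem Q86267 : ∀ i, i < 86267 → P i := stepQ 86266 Q86266 (allL N86266 (tt N89572 (iv1 F386787)) (tt N53968 F386784) (tt N89569 F386781) (tt N90372 (iv3 F389440)) (tt N51121 (iv4 D189065)) (tt N115069 D218326) (tt N115070 D218327) (tt N89570 F386779))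
theorem Q86268 : ∀ i, i < 86268 → P i := stepQ 86267 Q86267 (allL N86267 (tt N90456 (iv1 F389712)) (tt N84075 (iv0 F375629)) (tt N90455 F389707) (tt N115068 (iv3 F493328)) (tt N90962 (iv4 F391388)) (tt N51121 (iv5 D189066)) (tt N114768 (iv6 F491756)) (tt N85603 F378696))
theorem Q86269 : ∀ i, i < 86269 → P i := stepQ 86268 Q86268 (allL N86268 (tt N107694 F459267) (tt N115071 D218328) (tt N114934 (iv2 F492619)) (tt N99379 (iv3 F473472)) (tt N115070 (iv4 F493334)) (tt N113956 F487957) (tt N51121 (iv6 D189067)) (tt N115072 D218329))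
theorem Q86270 : ∀ i, i < 86270 → P i := stepQ 86269 Q86269 (allL N86269 (tt N106777 F455640) (tt N106053 F455641) (tt N106775 F455633) (tt N51122 (iv3 D189069)) (tt N115073 D218330) (tt N114766 (iv5 F491749)) (tt N107139 (iv6 F457158)) (tt N106776 (iv7 F455632)))
theorem Q86271 : ∀ i, i < 86271 → P i := stepQ 86270 Q86270 (allL N86270 (tt N53968 F375631) (tt N89572 F386786) (tt N89570 F386778) (tt N107507 (iv3 F458574)) (tt N51122 (iv4 D189070)) (tt N115074 D218331) (tt N107505 (iv6 F458564)) (tt N89569 (iv7 F386783)))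
theorem Q86272 : ∀ i, i < 86272 → P i := stepQ 86271 Q86271 (allL N86271 (tt N84242 (iv1 F388162)) (tt N53952 (iv0 F385621)) (tt N107107 F457008) (tt N107139 F457157) (tt N107505 F458563) (tt N109094 (iv5 F465307)) (tt N51122 (iv6 D189071)) (tt N113941 (iv7 F487888)))
theorem Q86273 : ∀ i, i < 86273 → P i := stepQ 86272 Q86272 (allL N86272 (tt N58694 (iv1 F375635)) (tt N58707 (iv0 F375634)) (tt N83913 F375632) (tt N99307 (iv3 F424031)) (tt N58255 F375633) (tt N89034 (iv5 F384898)) (tt N51128 (iv6 D189072)) (tt N94817 (iv7 F406058)))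
theorem Q86274 : ∀ i, i < 86274 → P i := stepQ 86273 Q86273 (allL N86273 (tt N85919 F375639) (tt N85920 (iv0 F375640)) (tt N113076 (iv2 F483864)) (tt N51129 (iv3 D189073)) (tt N113702 (iv4 F486711)) (tt N51229 F375637) (tt N100194 (iv6 F427934)) (tt N83912 F375638))
theorem Q86275 : ∀ i, i < 86275 → P i := stepQ 86274 Q86274 (allL N86274 (tt N88968 F384619) (tt N100985 (iv0 F431159)) (tt N72965 F375641) (tt N100194 (iv3 F427933)) (tt N72962 F375642) (tt N64376 F375643) (tt N51129 (iv6 D189074)) (tt N101113 (iv7 F431741)))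
theorem Q86276 : ∀ i, i < 86276 → P i := stepQ 86275 Q86275 (allL N86275 (tt N115075 D218332) (tt N88949 (iv0 F431518)) (tt N115076 D218333) (tt N51131 (iv3 D189075)) (tt N115077 D218334) (tt N103288 (iv5 F441000)) (tt N115078 D218335) (tt N85428 F375645))
theorem Q86277 : ∀ i, i < 86277 → P i := stepQ 86276 Q86276 (allL N86276 (tt N88969 F384623) (tt N114777 F491802) (tt N85427 F375646) (tt N115078 (iv3 F493375)) (tt N83926 F375647) (tt N85448 F375648) (tt N51131 (iv6 D189076)) (tt N114399 (iv7 F489962)))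
theorem Q86278 : ∀ i, i < 86278 → P i := stepQ 86277 Q86277 (allL N86277 (tt N86728 F377010) (tt N70385 (iv0 F375655)) (tt N115079 D218336) (tt N51132 (iv3 D189077)) (tt N103632 (iv4 F442319)) (tt N71948 F375653) (tt N115080 D218337) (tt N85425 F375654))
theorem Q86279 : ∀ i, i < 86279 → P i := stepQ 86278 Q86278 (allL N86278 (tt N115081 D218338) (tt N88979 (iv0 F387557)) (tt N85430 F375656) (tt N115080 (iv3 F493385)) (tt N83928 F375657) (tt N106697 (iv5 F455328)) (tt N51132 (iv6 D189078)) (tt N115082 D218339))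
theorem Q86280 : ∀ i, i < 86280 → P i := stepQ 86279 Q86279 (allL N86279 (tt N52533 F375663) (tt N87099 F378369) (tt N52331 F375658) (tt N51134 (iv3 D189079)) (tt N51147 F375659) (tt N80662 F375660) (tt N80653 F375661) (tt N80680 F375662))
theorem Q86281 : ∀ i, i < 86281 → P i := stepQ 86280 Q86280 (allL N86280 (tt N68390 F375667) (tt N83682 F375668) (tt N51142 F375664) (tt N88331 (iv3 F382618)) (tt N51512 F375666) (tt N51138 (iv5 D189080)) (tt N51511 (iv6 F375669)) (tt N51847 F375665))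
theorem Q86282 : ∀ i, i < 86282 → P i := stepQ 86281 Q86281 (allL N86281 (tt N84067 F375673) (tt N82905 F375674) (tt N51145 F375670) (tt N83102 (iv3 F375675)) (tt N51139 (iv4 D189081)) (tt N98001 (iv5 F419124)) (tt N83100 F375671) (tt N84043 F375672))
theorem Q86283 : ∀ i, i < 86283 → P i := stepQ 86282 Q86282 (allL N86282 (tt N51142 (iv1 D189082)) (tt N51847 F375676) (tt N83682 F375680) (tt N68391 (iv3 F375679)) (tt N103899 (iv4 F443271)) (tt N82593 F375678) (tt N103903 (iv6 F443286)) (tt N68390 F375677))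
theorem Q86284 : ∀ i, i < 86284 → P i := stepQ 86283 Q86283 (allL N86283 (tt N105227 (iv1 F449300)) (tt N103936 F443450) (tt N84065 F375681) (tt N85403 F375682) (tt N51143 (iv4 D189083)) (tt N88797 (iv5 F384176)) (tt N85400 (iv6 F375684)) (tt N84062 F375683))
theorem Q86285 : ∀ i, i < 86285 → P i := stepQ 86284 Q86284 (allL N86284 (tt N85578 F375687) (tt N84907 F375688) (tt N84066 F375685) (tt N88450 (iv3 F383097)) (tt N85400 F375686) (tt N89091 (iv5 F385133)) (tt N51143 (iv6 D189084)) (tt N85577 F409135))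
theorem Q86286 : ∀ i, i < 86286 → P i := stepQ 86285 Q86285 (allL N86285 (tt N103936 F443449) (tt N105227 (iv0 F449301)) (tt N84062 F375689) (tt N106197 (iv3 F453572)) (tt N51144 (iv4 D189085)) (tt N115083 D218340) (tt N69690 F375690) (tt N84065 F375691))
theorem Q86287 : ∀ i, i < 86287 → P i := stepQ 86286 Q86286 (allL N86286 (tt N84043 (iv1 F375693)) (tt N51145 (iv0 D189086)) (tt N84067 (iv2 F375694)) (tt N115084 D218341) (tt N82640 F375692) (tt N103897 (iv5 F443262)) (tt N115085 D218342) (tt N82905 (iv7 F375695)))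
theorem Q86288 : ∀ i, i < 86288 → P i := stepQ 86287 Q86287 (allL N86287 (tt N51145 (iv1 D189087)) (tt N84043 F375696) (tt N82905 F375699) (tt N106369 (iv3 F454177)) (tt N53103 (iv4 F375698)) (tt N108376 (iv5 F462322)) (tt N107401 (iv6 F458222)) (tt N84067 F375697))
theorem Q86289 : ∀ i, i < 86289 → P i := stepQ 86288 Q86288 (allL N86288 (tt N98000 (iv1 F419116)) (tt N85977 (iv0 F375703)) (tt N98001 (iv2 F419121)) (tt N53110 F375700) (tt N55415 (iv4 F375702)) (tt N51145 (iv5 D189088)) (tt N112281 F480335) (tt N84068 F375701))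
theorem Q86290 : ∀ i, i < 86290 → P i := stepQ 86289 Q86289 (allL N86289 (tt N103905 (iv1 F443298)) (tt N77201 (iv0 F375709)) (tt N83100 F375705) (tt N53095 F375706) (tt N51146 F375707) (tt N53706 (iv5 F375708)) (tt N51145 (iv6 D189089)) (tt N109794 (iv7 F468643)))
theorem Q86291 : ∀ i, i < 86291 → P i := stepQ 86290 Q86290 (allL N86290 (tt N51146 (iv1 D189090)) (tt N94585 (iv0 F405068)) (tt N70265 F375712) (tt N105543 (iv3 F450662)) (tt N64661 F375710) (tt N70264 (iv5 F375711)) (tt N71466 F375713) (tt N105548 (iv7 F450685)))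
theorem Q86292 : ∀ i, i < 86292 → P i := stepQ 86291 Q86291 (allL N86291 (tt N70265 (iv1 F375717)) (tt N105548 F450687) (tt N94585 (iv2 F405063)) (tt N51153 F375714) (tt N109794 (iv4 F468642)) (tt N70797 F375715) (tt N84054 F375716) (tt N51146 (iv7 D189091)))
theorem Q86293 : ∀ i, i < 86293 → P i := stepQ 86292 Q86292 (allL N86292 (tt N52151 F375720) (tt N87675 F380116) (tt N80681 F375718) (tt N105117 (iv3 F448875)) (tt N104082 (iv4 F444086)) (tt N51148 (iv5 D189092)) (tt N115086 D218343) (tt N80684 F375719))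
theorem Q86294 : ∀ i, i < 86294 → P i := stepQ 86293 Q86293 (allL N86293 (tt N52163 (iv1 F375724)) (tt N88800 F384193) (tt N80682 F375721) (tt N98392 (iv3 F420753)) (tt N87101 (iv4 F378374)) (tt N53267 F375723) (tt N51148 (iv6 D189093)) (tt N84194 F375722))
theorem Q86295 : ∀ i, i < 86295 → P i := stepQ 86294 Q86294 (allL N86294 (tt N51149 (iv1 D189094)) (tt N80679 F375725) (tt N80686 F375728) (tt N105571 (iv3 F450783)) (tt N85965 F375729) (tt N87674 (iv5 F380107)) (tt N55402 (iv6 F375727)) (tt N80687 F375726))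
theorem Q86296 : ∀ i, i < 86296 → P i := stepQ 86295 Q86295 (allL N86295 (tt N83004 F375734) (tt N55398 F375733) (tt N86587 F376541) (tt N70809 F375730) (tt N51149 (iv4 D189095)) (tt N115087 D218344) (tt N70799 F375731) (tt N80688 F375732))
theorem Q86297 : ∀ i, i < 86297 → P i := stepQ 86296 Q86296 (allL N86296 (tt N109770 (iv1 F468535)) (tt N84896 (iv0 F448745)) (tt N105540 (iv2 F450647)) (tt N51150 (iv3 D189096)) (tt N89618 (iv4 F386984)) (tt N103315 (iv5 F441105)) (tt N89617 F386982) (tt N85560 F375735))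
theorem Q86298 : ∀ i, i < 86298 → P i := stepQ 86297 Q86297 (allL N86297 (tt N85606 F429735) (tt N114768 F491757) (tt N85559 F375736) (tt N89617 (iv3 F386979)) (tt N54292 F375737) (tt N85523 F375738) (tt N51150 (iv6 D189097)) (tt N113978 (iv7 F488047)))
theorem Q86299 : ∀ i, i < 86299 → P i := stepQ 86298 Q86298 (allL N86298 (tt N85590 F375891) (tt N84906 (iv0 F375742)) (tt N71632 F375739) (tt N105539 (iv3 F450645)) (tt N54294 F375740) (tt N54398 F375741) (tt N51151 (iv6 D189098)) (tt N85589 (iv7 F375743)))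
theorem Q86300 : ∀ i, i < 86300 → P i := stepQ 86299 Q86299 (allL N86299 (tt N51499 F375747) (tt N83759 (iv0 F375748)) (tt N51472 F375744) (tt N79033 F375745) (tt N51155 (iv4 D189099)) (tt N87541 (iv5 F379704)) (tt N105322 (iv6 F449709)) (tt N84103 F375746))
theorem Q86301 : ∀ i, i < 86301 → P i := stepQ 86300 Q86300 (allL N86300 (tt N78435 F375752) (tt N82863 F375753) (tt N51159 F375749) (tt N115088 D218345) (tt N51156 (iv4 D189100)) (tt N78437 F375751) (tt N90432 (iv6 F389632)) (tt N85556 F375750))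
theorem Q86302 : ∀ i, i < 86302 → P i := stepQ 86301 Q86301 (allL N86301 (tt N84894 (iv1 F375757)) (tt N86776 (iv0 F377143)) (tt N88892 (iv2 F384446)) (tt N51157 (iv3 D189101)) (tt N85422 F375756) (tt N84861 F375754) (tt N99450 (iv6 F424640)) (tt N85490 F375755))
theorem Q86303 : ∀ i, i < 86303 → P i := stepQ 86302 Q86302 (allL N86302 (tt N84904 F388362) (tt N85592 F388363) (tt N85493 F375758) (tt N96568 (iv3 F413030)) (tt N113086 (iv4 F483918)) (tt N90034 (iv5 F388361)) (tt N51158 (iv6 D189102)) (tt N85591 (iv7 F375759)))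
theorem Q86304 : ∀ i, i < 86304 → P i := stepQ 86303 Q86303 (allL N86303 (tt N85556 (iv1 F375763)) (tt N51159 (iv0 D189103)) (tt N78435 (iv2 F375762)) (tt N111018 (iv3 F474279)) (tt N82849 F375761) (tt N78434 F375760) (tt N95065 (iv6 F406918)) (tt N82863 F375764))
theorem Q86305 : ∀ i, i < 86305 → P i := stepQ 86304 Q86304 (allL N86304 (tt N51161 (iv1 D189104)) (tt N84102 F375765) (tt N84109 (iv2 F375768)) (tt N88892 (iv3 F384450)) (tt N96574 (iv4 F413048)) (tt N85494 F375767) (tt N96956 (iv6 F414769)) (tt N84110 F375766))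
theorem Q86306 : ∀ i, i < 86306 → P i := stepQ 86305 Q86305 (allL N86305 (tt N53163 F375770) (tt N113761 (iv0 F487001)) (tt N105565 (iv2 F450747)) (tt N115089 D218346) (tt N51161 (iv4 D189105)) (tt N115090 D218347) (tt N105557 (iv6 F450725)) (tt N84111 F375769))
theorem Q86307 : ∀ i, i < 86307 → P i := stepQ 86306 Q86306 (allL N86306 (tt N85262 F376969) (tt N85260 (iv0 F376962)) (tt N114513 (iv2 F490527)) (tt N51162 (iv3 D189106)) (tt N115089 (iv4 F493432)) (tt N52775 F375771) (tt N86564 F376960) (tt N84112 F375772))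
theorem Q86308 : ∀ i, i < 86308 → P i := stepQ 86307 Q86307 (allL N86307 (tt N105542 (iv1 F450656)) (tt N105541 F450653) (tt N85540 F375773) (tt N86564 (iv3 F376963)) (tt N51163 F375774) (tt N86562 F377004) (tt N51162 (iv6 D189107)) (tt N105537 (iv7 F450635)))
theorem Q86309 : ∀ i, i < 86309 → P i := stepQ 86308 Q86308 (allL N86308 (tt N82927 (iv1 F375775)) (tt N51164 (iv0 D189108)) (tt N85922 (iv2 F375779)) (tt N114305 (iv3 F489501)) (tt N113743 (iv4 F486911)) (tt N113125 (iv5 F484087)) (tt N86178 F375784) (tt N85921 (iv7 F375782)))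
theorem Q86310 : ∀ i, i < 86310 → P i := stepQ 86309 Q86309 (allL N86309 (tt N51164 (iv1 D189109)) (tt N82927 F375783) (tt N85921 F375780) (tt N61163 F375777) (tt N113646 (iv4 F486473)) (tt N111190 (iv5 F475158)) (tt N61161 (iv6 F375776)) (tt N85922 F375778))
theorem Q86311 : ∀ i, i < 86311 → P i := stepQ 86310 Q86310 (allL N86310 (tt N85922 (iv1 F375791)) (tt N85921 F375790) (tt N51164 (iv2 D189110)) (tt N113126 (iv3 F484094)) (tt N51171 F375786) (tt N74888 F375787) (tt N74890 F375788) (tt N82927 F375789))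
theorem Q86312 : ∀ i, i < 86312 → P i := stepQ 86311 Q86311 (allL N86311 (tt N103104 (iv1 F440093)) (tt N51165 (iv0 D189111)) (tt N98559 (iv2 F421326)) (tt N61188 (iv3 F375794)) (tt N112905 (iv4 F483213)) (tt N73975 F375792) (tt N61186 F375793) (tt N109558 (iv7 F467514)))
theorem Q86313 : ∀ i, i < 86313 → P i := stepQ 86312 Q86312 (allL N86312 (tt N51165 (iv1 D189112)) (tt N103104 (iv0 F440092)) (tt N109558 F467512) (tt N78847 (iv3 F375796)) (tt N112906 (iv4 F483222)) (tt N73735 F375795) (tt N115091 D218348) (tt N98559 (iv7 F421329)))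
theorem Q86314 : ∀ i, i < 86314 → P i := stepQ 86313 Q86313 (allL N86313 (tt N105514 (iv1 F450530)) (tt N105513 F450528) (tt N95948 (iv2 F410381)) (tt N51166 (iv3 D189113)) (tt N96040 (iv4 F410760)) (tt N95943 F410375) (tt N115092 D218349) (tt N105504 F450495))
theorem Q86315 : ∀ i, i < 86315 → P i := stepQ 86314 Q86314 (allL N86314 (tt N103106 (iv1 F440104)) (tt N82895 (iv0 F375799)) (tt N107908 (iv2 F460218)) (tt N98504 F421164) (tt N51166 (iv4 D189114)) (tt N75952 F375797) (tt N73592 (iv6 F375798)) (tt N108444 (iv7 F462600)))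
theorem Q86316 : ∀ i, i < 86316 → P i := stepQ 86315 Q86315 (allL N86315 (tt N75950 (iv1 F375803)) (tt N109327 (iv0 F466404)) (tt N66413 F375800) (tt N95943 (iv3 F410374)) (tt N66420 F375801) (tt N51166 (iv5 D189115)) (tt N66411 F375802) (tt N86372 (iv7 F375987)))
theorem Q86317 : ∀ i, i < 86317 → P i := stepQ 86316 Q86316 (allL N86316 (tt N99360 F424273) (tt N88453 (iv0 F383110)) (tt N85620 F375804) (tt N115092 (iv3 F493444)) (tt N73592 F375805) (tt N73491 F375806) (tt N51166 (iv6 D189116)) (tt N85618 (iv7 F375807)))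
theorem Q86318 : ∀ i, i < 86318 → P i := stepQ 86317 Q86317 (allL N86317 (tt N82895 F375809) (tt N103106 (iv0 F440103)) (tt N108444 (iv2 F462597)) (tt N113907 (iv3 F487721)) (tt N51167 (iv4 D189117)) (tt N75953 F375808) (tt N105395 (iv6 F450044)) (tt N107908 (iv7 F460222)))
theorem Q86319 : ∀ i, i < 86319 → P i := stepQ 86318 Q86318 (allL N86318 (tt N109327 F466405) (tt N75950 (iv0 F375814)) (tt N86372 (iv2 F375985)) (tt N62421 F375810) (tt N66424 F375811) (tt N51167 (iv5 D189118)) (tt N73295 F375812) (tt N66413 F375813))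
theorem Q86320 : ∀ i, i < 86320 → P i := stepQ 86319 Q86319 (allL N86319 (tt N85467 F381198) (tt N113411 (iv0 F485372)) (tt N113843 F487403) (tt N51169 (iv3 D189119)) (tt N88938 F384567) (tt N83581 F375815) (tt N114477 (iv6 F490380)) (tt N84880 F375816))
theorem Q86321 : ∀ i, i < 86321 → P i := stepQ 86320 Q86320 (allL N86320 (tt N113870 (iv1 F487555)) (tt N85505 (iv0 F375819)) (tt N114498 (iv2 F490472)) (tt N51170 (iv3 D189120)) (tt N88870 (iv4 F384403)) (tt N84748 F375817) (tt N100216 (iv6 F428030)) (tt N84887 F375818))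
theorem Q86322 : ∀ i, i < 86322 → P i := stepQ 86321 Q86321 (allL N86321 (tt N115093 D218350) (tt N109756 (iv0 F468473)) (tt N51172 F375820) (tt N51449 F375821) (tt N74890 F375822) (tt N72369 F375823) (tt N51171 (iv6 D189121)) (tt N115094 D218351))
theorem Q86323 : ∀ i, i < 86323 → P i := stepQ 86322 Q86322 (allL N86322 (tt N115094 (iv1 F493459)) (tt N51172 (iv0 D189122)) (tt N115093 F493450) (tt N99975 (iv3 F427033)) (tt N98489 F421163) (tt N107911 F460243) (tt N99974 F427031) (tt N109756 (iv7 F468472)))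
theorem Q86324 : ∀ i, i < 86324 → P i := stepQ 86323 Q86323 (allL N86323 (tt N51172 (iv1 D189123)) (tt N115094 F493458) (tt N109756 (iv2 F468469)) (tt N115095 D218352) (tt N98488 (iv4 F421102)) (tt N107910 (iv5 F460232)) (tt N57461 (iv6 F375826)) (tt N115093 (iv7 F493451)))
theorem Q86325 : ∀ i, i < 86325 → P i := stepQ 86324 Q86324 (allL N86324 (tt N109756 (iv1 F468474)) (tt N115093 F493452) (tt N115094 (iv2 F493453)) (tt N51175 F375827) (tt N74962 F375828) (tt N72370 F375829) (tt N85926 F375830) (tt N51172 (iv7 D189124)))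
theorem Q86326 : ∀ i, i < 86326 → P i := stepQ 86325 Q86325 (allL N86325 (tt N71190 F390638) (tt N71188 F375834) (tt N71399 F375833) (tt N51173 (iv3 D189125)) (tt N115096 D218353) (tt N58528 (iv5 F375832)) (tt N99859 (iv6 F426582)) (tt N71397 F375831))
theorem Q86327 : ∀ i, i < 86327 → P i := stepQ 86326 Q86326 (allL N86326 (tt N54398 F375838) (tt N54397 F375840) (tt N54399 F375835) (tt N58528 F375836) (tt N95561 (iv4 F408656)) (tt N51173 (iv5 D189126)) (tt N54406 F375839) (tt N53386 F375837))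
theorem Q86328 : ∀ i, i < 86328 → P i := stepQ 86327 Q86327 (allL N86327 (tt N85484 F375843) (tt N90448 (iv0 F389681)) (tt N86348 (iv2 F375883)) (tt N99859 (iv3 F426581)) (tt N88904 F384497) (tt N84150 F375841) (tt N51173 (iv6 D189127)) (tt N84149 F375842))
theorem Q86329 : ∀ i, i < 86329 → P i := stepQ 86328 Q86328 (allL N86328 (tt N85466 (iv1 F375846)) (tt N113846 F487423) (tt N113845 (iv2 F487418)) (tt N51174 (iv3 D189128)) (tt N98099 (iv4 F419458)) (tt N54390 F375844) (tt N81431 F375845) (tt N86347 (iv7 F375882)))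
theorem Q86330 : ∀ i, i < 86330 → P i := stepQ 86329 Q86329 (allL N86329 (tt N114711 (iv1 F491470)) (tt N51176 (iv0 D189134)) (tt N114712 (iv2 F491477)) (tt N95952 F410405) (tt N101377 F451821) (tt N90600 F390211) (tt N106240 (iv6 F453717)) (tt N84057 (iv7 F390212)))
theorem Q86331 : ∀ i, i < 86331 → P i := stepQ 86330 Q86330 (allL N86330 (tt N114712 (iv1 F491481)) (tt N84057 (iv0 F375854)) (tt N51176 (iv2 D189135)) (tt N96146 (iv3 F411240)) (tt N115097 D218354) (tt N72417 F375853) (tt N112355 F480721) (tt N114711 (iv7 F491471)))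
theorem Q86332 : ∀ i, i < 86332 → P i := stepQ 86331 Q86331 (allL N86331 (tt N115098 D218355) (tt N114714 F491490) (tt N115097 (iv2 F493470)) (tt N115099 D218356) (tt N51176 (iv4 D189136)) (tt N115100 D218357) (tt N115101 D218358) (tt N114939 (iv7 F492651)))
theorem Q86333 : ∀ i, i < 86333 → P i := stepQ 86332 Q86332 (allL N86332 (tt N105484 F450898) (tt N106235 (iv0 F453707)) (tt N112355 F480720) (tt N51179 F375855) (tt N115101 (iv4 F493486)) (tt N105037 (iv5 F448501)) (tt N51176 (iv6 D189137)) (tt N112356 (iv7 F480722)))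
theorem Q86334 : ∀ i, i < 86334 → P i := stepQ 86333 Q86333 (allL N86333 (tt N112759 (iv1 F482519)) (tt N53102 F427121) (tt N105648 (iv2 F451098)) (tt N51177 (iv3 D189139)) (tt N115099 (iv4 F493479)) (tt N99999 F427122) (tt N100000 (iv6 F427125)) (tt N112758 (iv7 F482516)))
theorem Q86335 : ∀ i, i < 86335 → P i := stepQ 86334 Q86334 (allL N86334 (tt N106697 F455330) (tt N114039 (iv0 F488314)) (tt N106470 (iv2 F454587)) (tt N99999 (iv3 F427119)) (tt N95449 (iv4 F408228)) (tt N51177 (iv5 D189140)) (tt N95448 F408226) (tt N113747 (iv7 F486940)))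
theorem Q86336 : ∀ i, i < 86336 → P i := stepQ 86335 Q86335 (allL N86335 (tt N84763 (iv1 F378243)) (tt N105593 (iv0 F450895)) (tt N105427 (iv2 F450212)) (tt N100000 (iv3 F427124)) (tt N51179 F375858) (tt N75042 F375859) (tt N51177 (iv6 D189141)) (tt N105650 (iv7 F451113)))
theorem Q86337 : ∀ i, i < 86337 → P i := stepQ 86336 Q86336 (allL N86336 (tt N51178 (iv1 D189142)) (tt N51182 F375860) (tt N89971 (iv2 F388143)) (tt N109327 (iv3 F466401)) (tt N73439 (iv4 F375861)) (tt N113859 (iv5 F487499)) (tt N89585 F386836) (tt N89073 F385049))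
theorem Q86338 : ∀ i, i < 86338 → P i := stepQ 86337 Q86337 (allL N86337 (tt N115102 D218359) (tt N115103 D218360) (tt N93330 (iv2 F400429)) (tt N108227 (iv3 F461570)) (tt N51178 (iv4 D189143)) (tt N115104 D218361) (tt N93327 F400419) (tt N114940 (iv7 F492657)))
theorem Q86339 : ∀ i, i < 86339 → P i := stepQ 86338 Q86338 (allL N86338 (tt N51180 (iv1 D189149)) (tt N96146 F411243) (tt N106262 (iv2 F453786)) (tt N105514 F489593) (tt N115105 D218362) (tt N106053 (iv5 F452914)) (tt N105954 (iv6 F452488)) (tt N114321 (iv7 F489590)))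
theorem Q86340 : ∀ i, i < 86340 → P i := stepQ 86339 Q86339 (allL N86339 (tt N114321 F489592) (tt N106262 (iv0 F453789)) (tt N51180 (iv2 D189150)) (tt N114711 F491473) (tt N105631 (iv4 F451035)) (tt N96147 (iv5 F411246)) (tt N103586 F442143) (tt N96146 F411242))
theorem Q86341 : ∀ i, i < 86341 → P i := stepQ 86340 Q86340 (allL N86340 (tt N114728 F491561) (tt N115106 D218363) (tt N105631 (iv2 F451033)) (tt N101848 (iv3 F434648)) (tt N51180 (iv4 D189151)) (tt N108316 (iv5 F462034)) (tt N101847 F434646) (tt N95260 F407616))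
theorem Q86342 : ∀ i, i < 86342 → P i := stepQ 86341 Q86341 (allL N86341 (tt N96145 (iv1 F411236)) (tt N96144 (iv0 F411235)) (tt N96147 (iv2 F411244)) (tt N51182 F375868) (tt N93709 F401628) (tt N51180 (iv5 D189152)) (tt N89593 (iv6 F386872)) (tt N96125 (iv7 F411166)))
theorem Q86343 : ∀ i, i < 86343 → P i := stepQ 86342 Q86342 (allL N86342 (tt N103887 (iv1 F443219)) (tt N105509 (iv0 F450518)) (tt N103586 (iv2 F442138)) (tt N51183 F375869) (tt N101847 (iv4 F434641)) (tt N68225 F375875) (tt N51180 (iv6 D189153)) (tt N103584 (iv7 F442128)))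
theorem Q86344 : ∀ i, i < 86344 → P i := stepQ 86343 Q86343 (allL N86343 (tt N114039 F488315) (tt N106697 (iv0 F455329)) (tt N113747 (iv2 F486936)) (tt N101607 (iv3 F433523)) (tt N54409 (iv4 F375871)) (tt N51181 (iv5 D189154)) (tt N52945 F375870) (tt N106470 (iv7 F454590)))
theorem Q86345 : ∀ i, i < 86345 → P i := stepQ 86344 Q86344 (allL N86344 (tt N115103 (iv1 F493492)) (tt N115102 F493489) (tt N114940 (iv2 F492654)) (tt N93335 (iv3 F400457)) (tt N51182 (iv4 D189155)) (tt N115107 D218364) (tt N89594 (iv6 F386876)) (tt N93330 (iv7 F400432)))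
theorem Q86346 : ∀ i, i < 86346 → P i := stepQ 86345 Q86345 (allL N86345 (tt N67269 F375872) (tt N67265 F375873) (tt N105463 (iv2 F450354)) (tt N68225 (iv3 F375874)) (tt N103306 (iv4 F441065)) (tt N51183 (iv5 D189156)) (tt N89595 (iv6 F386881)) (tt N87670 (iv7 F380090)))
theorem Q86347 : ∀ i, i < 86347 → P i := stepQ 86346 Q86346 (allL N86346 (tt N54469 F375880) (tt N54468 (iv0 F375881)) (tt N54470 F375877) (tt N86752 (iv3 F377056)) (tt N115108 D218365) (tt N51184 (iv5 D189157)) (tt N54382 F375878) (tt N51187 F375879))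
theorem Q86348 : ∀ i, i < 86348 → P i := stepQ 86347 Q86347 (allL N86347 (tt N106240 (iv1 F453719)) (tt N84060 (iv0 F426721)) (tt N106484 (iv2 F454628)) (tt N51185 (iv3 D189158)) (tt N107481 (iv4 F458472)) (tt N90564 (iv5 F390123)) (tt N107480 (iv6 F458469)) (tt N86328 F375882))
theorem Q86349 : ∀ i, i < 86349 → P i := stepQ 86348 Q86348 (allL N86348 (tt N113884 (iv1 F487620)) (tt N113855 (iv0 F487478)) (tt N86327 F375883) (tt N107480 (iv3 F458465)) (tt N89786 (iv4 F387561)) (tt N85574 F375884) (tt N51185 (iv6 D189159)) (tt N90446 (iv7 F389677)))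
theorem Q86350 : ∀ i, i < 86350 → P i := stepQ 86349 Q86349 (allL N86349 (tt N54470 (iv1 F375886)) (tt N51187 (iv0 D189160)) (tt N54468 (iv2 F375885)) (tt N106232 (iv3 F453687)) (tt N55088 F375890) (tt N85590 (iv5 F375888)) (tt N55087 (iv6 F375889)) (tt N54469 F375887))
theorem Q86351 : ∀ i, i < 86351 → P i := stepQ 86350 Q86350 (allL N86350 (tt N115109 D218366) (tt N115110 D218367) (tt N54467 F375892) (tt N115111 D218368) (tt N51187 (iv4 D189161)) (tt N112241 F480189) (tt N51188 F375893) (tt N115108 (iv7 F493517)))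
theorem Q86352 : ∀ i, i < 86352 → P i := stepQ 86351 Q86351 (allL N86351 (tt N106110 (iv1 F453167)) (tt N54981 (iv0 F392712)) (tt N99575 (iv2 F425240)) (tt N51188 (iv3 D189162)) (tt N86755 (iv4 F377069)) (tt N84198 F375894) (tt N115111 (iv6 F493533)) (tt N54471 F375895))
theorem Q86353 : ∀ i, i < 86353 → P i := stepQ 86352 Q86352 (allL N86352 (tt N66875 F375898) (tt N106780 F455654) (tt N107429 (iv2 F458308)) (tt N74570 (iv3 F375899)) (tt N51190 (iv4 D189163)) (tt N115112 D218369) (tt N74568 F375896) (tt N53998 F375897))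
theorem Q86354 : ∀ i, i < 86354 → P i := stepQ 86353 Q86353 (allL N86353 (tt N55048 F375905) (tt N55050 (iv0 F375906)) (tt N55047 F375901) (tt N51191 (iv3 D189164)) (tt N74570 F375902) (tt N55045 F375903) (tt N74569 (iv6 F375910)) (tt N55046 F375904))
theorem Q86355 : ∀ i, i < 86355 → P i := stepQ 86354 Q86354 (allL N86354 (tt N71334 F375914) (tt N81067 (iv0 F375915)) (tt N83210 F375911) (tt N74569 F375912) (tt N51192 F375913) (tt N97724 (iv5 F418074)) (tt N51191 (iv6 D189165)) (tt N93771 (iv7 F401843)))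
theorem Q86356 : ∀ i, i < 86356 → P i := stepQ 86355 Q86355 (allL N86355 (tt N51194 (iv1 D189166)) (tt N53198 F375916) (tt N53641 F375919) (tt N109040 (iv3 F465051)) (tt N99915 (iv4 F426805)) (tt N82929 (iv5 F375918)) (tt N115113 D218370) (tt N53640 F375917))
theorem Q86357 : ∀ i, i < 86357 → P i := stepQ 86356 Q86356 (allL N86356 (tt N115114 D218371) (tt N115115 D218372) (tt N53642 F375920) (tt N103188 (iv3 F440484)) (tt N51194 (iv4 D189167)) (tt N115116 D218373) (tt N73863 F375926) (tt N83211 F375921))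
theorem Q86358 : ∀ i, i < 86358 → P i := stepQ 86357 Q86357 (allL N86357 (tt N99913 (iv1 F426796)) (tt N99914 (iv0 F426801)) (tt N53643 F375922) (tt N51196 F375923) (tt N73863 (iv4 F375925)) (tt N73827 F375924) (tt N51194 (iv6 D189168)) (tt N107000 (iv7 F456596)))
theorem Q86359 : ∀ i, i < 86359 → P i := stepQ 86358 Q86358 (allL N86358 (tt N77733 F375930) (tt N77732 (iv0 F375931)) (tt N75682 F375927) (tt N51195 (iv3 D189169)) (tt N103188 (iv4 F440482)) (tt N55050 F375928) (tt N71743 (iv6 F375932)) (tt N55049 F375929))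
theorem Q86360 : ∀ i, i < 86360 → P i := stepQ 86359 Q86359 (allL N86359 (tt N109549 F467464) (tt N97398 (iv0 F416721)) (tt N51210 F375933) (tt N71743 F375934) (tt N51196 F375935) (tt N102021 (iv5 F435386)) (tt N51195 (iv6 D189170)) (tt N112160 (iv7 F479820)))
theorem Q86361 : ∀ i, i < 86361 → P i := stepQ 86360 Q86360 (allL N86360 (tt N51196 (iv1 D189171)) (tt N51213 F375936) (tt N51212 (iv2 F375939)) (tt N98797 (iv3 F422360)) (tt N94029 (iv4 F402886)) (tt N82815 (iv5 F375938)) (tt N58998 F375940) (tt N51211 F375937))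
theorem Q86362 : ∀ i, i < 86362 → P i := stepQ 86361 Q86361 (allL N86361 (tt N51212 (iv1 F375944)) (tt N51211 F375945) (tt N51213 F375941) (tt N107000 F456597) (tt N112160 (iv4 F479818)) (tt N82755 F375942) (tt N83215 F375943) (tt N51196 (iv7 D189172)))
theorem Q86363 : ∀ i, i < 86363 → P i := stepQ 86362 Q86362 (allL N86362 (tt N86374 (iv1 F375997)) (tt N51203 (iv0 F375949)) (tt N54087 F375946) (tt N53236 F375947) (tt N100463 (iv4 F429077)) (tt N51197 (iv5 D189173)) (tt N115117 D218374) (tt N54084 F375948))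
theorem Q86364 : ∀ i, i < 86364 → P i := stepQ 86363 Q86363 (allL N86363 (tt N54077 (iv1 F375952)) (tt N51200 (iv0 D189174)) (tt N54090 (iv2 F375951)) (tt N53238 (iv3 F375954)) (tt N115118 D218375) (tt N84105 F375950) (tt N115119 D218376) (tt N54089 F375953))
theorem Q86365 : ∀ i, i < 86365 → P i := stepQ 86364 Q86364 (allL N86364 (tt N89022 F384846) (tt N89539 (iv0 F386735)) (tt N89541 F386740) (tt N102666 (iv3 F438134)) (tt N51200 (iv4 D189175)) (tt N113522 (iv5 F485893)) (tt N73410 F375955) (tt N54091 F375956))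
theorem Q86366 : ∀ i, i < 86366 → P i := stepQ 86365 Q86365 (allL N86365 (tt N51206 (iv1 D189176)) (tt N83406 F375957) (tt N75465 (iv2 F375961)) (tt N115120 D218377) (tt N75319 F375960) (tt N77162 F375959) (tt N80133 (iv6 F375962)) (tt N75485 F375958))
theorem Q86367 : ∀ i, i < 86367 → P i := stepQ 86366 Q86366 (allL N86366 (tt N94100 F403205) (tt N65342 (iv0 F375967)) (tt N82191 F375963) (tt N82199 F375964) (tt N55076 F375965) (tt N67000 F375966) (tt N51207 (iv6 D189177)) (tt N110420 (iv7 F471494)))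
theorem Q86368 : ∀ i, i < 86368 → P i := stepQ 86367 Q86367 (allL N86367 (tt N112847 (iv1 F482943)) (tt N108679 F463513) (tt N55051 F375968) (tt N58813 F375969) (tt N54929 F375970) (tt N115121 D218378) (tt N51209 (iv6 D189178)) (tt N112386 (iv7 F480859)))
theorem Q86369 : ∀ i, i < 86369 → P i := stepQ 86368 Q86368 (allL N86368 (tt N112160 F479822) (tt N51210 (iv0 D189179)) (tt N109549 (iv2 F467460)) (tt N97083 F415396) (tt N83193 (iv4 F415397)) (tt N97385 (iv5 F416641)) (tt N80132 F375971) (tt N97398 (iv7 F416719)))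
theorem Q86370 : ∀ i, i < 86370 → P i := stepQ 86369 Q86369 (allL N86369 (tt N51210 (iv1 D189180)) (tt N112160 (iv0 F479821)) (tt N97398 (iv2 F416717)) (tt N102654 (iv3 F438076)) (tt N83194 (iv4 F416723)) (tt N97396 (iv5 F416700)) (tt N102652 F438065) (tt N109549 (iv7 F467462)))
theorem Q86371 : ∀ i, i < 86371 → P i := stepQ 86370 Q86370 (allL N86370 (tt N97082 F415386) (tt N79873 (iv0 F375976)) (tt N102021 (iv2 F435384)) (tt N58762 F375972) (tt N60407 F375974) (tt N51210 (iv5 D189181)) (tt N115121 (iv6 F493593)) (tt N79789 F375973))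
theorem Q86372 : ∀ i, i < 86372 → P i := stepQ 86371 Q86371 (allL N86371 (tt N90238 (iv1 F389047)) (tt N105067 (iv0 F448642)) (tt N70161 F375980) (tt N70305 F375981) (tt N92941 (iv4 F398846)) (tt N51211 (iv5 D189182)) (tt N70159 F375983) (tt N82815 F375982))
theorem Q86373 : ∀ i, i < 86373 → P i := stepQ 86372 Q86372 (allL N86372 (tt N80133 (iv1 F375990)) (tt N83276 (iv0 F375989)) (tt N86318 F375985) (tt N99182 (iv3 F423612)) (tt N63622 F375986) (tt N82933 F375988) (tt N51211 (iv6 D189183)) (tt N86315 F375987))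
theorem Q86374 : ∀ i, i < 86374 → P i := stepQ 86373 Q86373 (allL N86373 (tt N105067 (iv1 F448643)) (tt N90238 (iv0 F389046)) (tt N82815 F375991) (tt N59001 F375992) (tt N92944 (iv4 F398854)) (tt N51212 (iv5 D189184)) (tt N70284 F375994) (tt N70161 F375993))
theorem Q86375 : ∀ i, i < 86375 → P i := stepQ 86374 Q86374 (allL N86374 (tt N76190 (iv1 F375998)) (tt N86362 F375997) (tt N51214 (iv2 D189185)) (tt N59252 F375995) (tt N110627 (iv4 F472487)) (tt N89868 (iv5 F387807)) (tt N96273 (iv6 F411826)) (tt N59249 F375996))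
theorem Q86376 : ∀ i, i < 86376 → P i := stepQ 86375 Q86375 (allL N86375 (tt N53595 F376000) (tt N110626 F472484) (tt N110627 (iv2 F472485)) (tt N98879 F422680) (tt N51214 (iv4 D189186)) (tt N115122 D218379) (tt N110758 (iv6 F473043)) (tt N77999 F375999))
theorem Q86377 : ∀ i, i < 86377 → P i := stepQ 86376 Q86376 (allL N86376 (tt N58775 F376003) (tt N78837 F376004) (tt N97077 (iv2 F415362)) (tt N51215 (iv3 D189187)) (tt N98879 F422681) (tt N85271 F376001) (tt N100418 F428882) (tt N77698 F376002))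
theorem Q86378 : ∀ i, i < 86378 → P i := stepQ 86377 Q86377 (allL N86377 (tt N77751 F376008) (tt N80803 (iv0 F376009)) (tt N81124 F376005) (tt N51217 (iv3 D189188)) (tt N108656 (iv4 F463388)) (tt N77733 F376006) (tt N104773 (iv6 F447197)) (tt N81125 F376007))
theorem Q86379 : ∀ i, i < 86379 → P i := stepQ 86378 Q86378 (allL N86378 (tt N80337 (iv1 F376015)) (tt N105348 (iv0 F449818)) (tt N81069 F376012) (tt N82053 F376013) (tt N104239 (iv4 F444873)) (tt N51219 (iv5 D189189)) (tt N91270 (iv6 F392476)) (tt N81070 F376014))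
theorem Q86380 : ∀ i, i < 86380 → P i := stepQ 86379 Q86379 (allL N86379 (tt N115123 D218380) (tt N90186 (iv0 F403437)) (tt N115124 D218381) (tt N51220 (iv3 D189190)) (tt N107538 (iv4 F458693)) (tt N115125 D218382) (tt N115126 D218383) (tt N113304 (iv7 F484933)))
theorem Q86381 : ∀ i, i < 86381 → P i := stepQ 86380 Q86380 (allL N86380 (tt N77703 (iv1 F376018)) (tt N77699 (iv0 F376020)) (tt N77700 F376016) (tt N97072 F415330) (tt N51220 (iv4 D189191)) (tt N103889 (iv5 F443226)) (tt N79568 (iv6 F376019)) (tt N77701 F376017))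
theorem Q86382 : ∀ i, i < 86382 → P i := stepQ 86381 Q86381 (allL N86381 (tt N77058 F376023) (tt N112995 (iv0 F483477)) (tt N107388 (iv2 F458180)) (tt N115125 (iv3 F493610)) (tt N77334 F376022) (tt N51220 (iv5 D189192)) (tt N115127 D218384) (tt N82653 F376021))
theorem Q86383 : ∀ i, i < 86383 → P i := stepQ 86382 Q86382 (allL N86382 (tt N96282 (iv1 F411866)) (tt N95938 (iv0 F410349)) (tt N72431 F376024) (tt N115126 (iv3 F493613)) (tt N79568 F376025) (tt N115128 D218385) (tt N51220 (iv6 D189193)) (tt N77278 F376026))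
theorem Q86384 : ∀ i, i < 86384 → P i := stepQ 86383 Q86383 (allL N86383 (tt N112995 F483478) (tt N77058 (iv0 F376030)) (tt N82653 F376027) (tt N81768 F376028) (tt N77333 (iv4 F432302)) (tt N51221 (iv5 D189194)) (tt N77276 F376029) (tt N107388 (iv7 F458178)))
theorem Q86385 : ∀ i, i < 86385 → P i := stepQ 86384 Q86384 (allL N86384 (tt N112944 (iv1 F483336)) (tt N51222 (iv0 D189195)) (tt N110328 (iv2 F471072)) (tt N115129 D218386) (tt N101224 (iv4 F469806)) (tt N110325 (iv5 F471061)) (tt N101224 F432280) (tt N110330 (iv7 F471083)))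
theorem Q86386 : ∀ i, i < 86386 → P i := stepQ 86385 Q86385 (allL N86385 (tt N51222 (iv1 D189196)) (tt N112944 F483335) (tt N110330 (iv2 F471081)) (tt N72518 F376032) (tt N101225 (iv4 F432506)) (tt N72517 (iv5 F376031)) (tt N115130 D218387) (tt N110328 (iv7 F471073)))
theorem Q86387 : ∀ i, i < 86387 → P i := stepQ 86386 Q86386 (allL N86386 (tt N110062 F469795) (tt N110064 F469805) (tt N110147 (iv2 F470176)) (tt N89965 (iv3 F388121)) (tt N51222 (iv4 D189197)) (tt N110272 (iv5 F470767)) (tt N51224 F376034) (tt N110146 (iv7 F470172)))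
theorem Q86388 : ∀ i, i < 86388 → P i := stepQ 86387 Q86387 (allL N86387 (tt N110330 (iv1 F471085)) (tt N110328 (iv0 F471075)) (tt N112944 (iv2 F483332)) (tt N89613 (iv3 F386947)) (tt N110146 (iv4 F470171)) (tt N51223 F376035) (tt N92029 (iv6 F395433)) (tt N51222 (iv7 D189198)))
theorem Q86389 : ∀ i, i < 86389 → P i := stepQ 86388 Q86388 (allL N86388 (tt N113208 (iv1 F484489)) (tt N88756 (iv0 F388126)) (tt N113894 (iv2 F487671)) (tt N51224 (iv3 D189199)) (tt N89614 (iv4 F386950)) (tt N83341 F376036) (tt N89965 (iv6 F388122)) (tt N92030 (iv7 F395438)))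
theorem Q86390 : ∀ i, i < 86390 → P i := stepQ 86389 Q86389 (allL N86389 (tt N84642 (iv1 F376042)) (tt N51225 (iv0 D189200)) (tt N84641 (iv2 F376041)) (tt N111842 (iv3 F478256)) (tt N86095 F376038) (tt N55014 F376037) (tt N52061 (iv6 F376044)) (tt N84595 F376043))
theorem Q86391 : ∀ i, i < 86391 → P i := stepQ 86390 Q86390 (allL N86390 (tt N84641 (iv1 F376054)) (tt N84595 F376053) (tt N51225 (iv2 D189201)) (tt N84640 F376049) (tt N85378 F376050) (tt N90781 (iv5 F390819)) (tt N84650 F376051) (tt N84642 F376052))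
theorem Q86392 : ∀ i, i < 86392 → P i := stepQ 86391 Q86391 (allL N86391 (tt N81125 F376058) (tt N81124 F376059) (tt N77751 F376055) (tt N51226 (iv3 D189202)) (tt N85669 F376056) (tt N90195 (iv5 F388845)) (tt N81131 F376060) (tt N80803 F376057))
theorem Q86393 : ∀ i, i < 86393 → P i := stepQ 86392 Q86392 (allL N86392 (tt N66460 (iv1 F376067)) (tt N66451 (iv0 F376065)) (tt N60092 F376061) (tt N81131 F376062) (tt N51227 F376063) (tt N60091 (iv5 F376066)) (tt N51226 (iv6 D189203)) (tt N66459 F376064))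
theorem Q86394 : ∀ i, i < 86394 → P i := stepQ 86393 Q86393 (allL N86393 (tt N51227 (iv1 D189204)) (tt N71043 F376068) (tt N55987 F376071) (tt N93653 F401449) (tt N77716 (iv4 F376072)) (tt N58370 (iv5 F376070)) (tt N108271 (iv6 F461807)) (tt N54983 F376069))
theorem Q86395 : ∀ i, i < 86395 → P i := stepQ 86394 Q86394 (allL N86394 (tt N55987 (iv1 F376078)) (tt N54983 F376079) (tt N71043 F376073) (tt N85672 F376074) (tt N66459 F376075) (tt N58404 F376076) (tt N81127 F376077) (tt N51227 (iv7 D189205)))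
theorem Q86396 : ∀ i, i < 86396 → P i := stepQ 86395 Q86395 (allL N86395 (tt N72008 F376085) (tt N87036 F378135) (tt N72045 F376080) (tt N51228 (iv3 D189206)) (tt N72045 F376081) (tt N52923 F376082) (tt N53515 F376083) (tt N84753 F376084))
theorem Q86397 : ∀ i, i < 86397 → P i := stepQ 86396 Q86396 (allL N86396 (tt N58220 F376092) (tt N58219 F376093) (tt N51232 F376087) (tt N83135 F376088) (tt N51231 (iv4 D189207)) (tt N57913 F376089) (tt N83134 F376090) (tt N57912 F376091))
theorem Q86398 : ∀ i, i < 86398 → P i := stepQ 86397 Q86397 (allL N86397 (tt N57912 (iv1 F376096)) (tt N51232 (iv0 D189208)) (tt N58220 (iv2 F376097)) (tt N115131 D218388) (tt N52761 F376095) (tt N59327 F376094) (tt N94547 (iv6 F404921)) (tt N58219 (iv7 F376098)))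
theorem Q86399 : ∀ i, i < 86399 → P i := stepQ 86398 Q86398 (allL N86398 (tt N51232 (iv1 D189209)) (tt N57912 F376099) (tt N58219 (iv2 F376103)) (tt N78469 (iv3 F376104)) (tt N52763 F376102) (tt N58824 F376101) (tt N112760 (iv6 F482524)) (tt N58220 F376100))
theorem Q86400 : ∀ i, i < 86400 → P i := stepQ 86399 Q86399 (allL N86399 (tt N89625 F387006) (tt N113648 (iv0 F486484)) (tt N109783 (iv2 F468592)) (tt N51233 (iv3 D189210)) (tt N110218 F470479) (tt N115132 D218389) (tt N53123 F376105) (tt N85444 F376106))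
theorem Q86401 : ∀ i, i < 86401 → P i := stepQ 86400 Q86400 (allL N86400 (tt N115133 D218390) (tt N112779 F491804) (tt N85443 F376107) (tt N115132 (iv3 F493641)) (tt N115134 D218391) (tt N51233 (iv5 D189211)) (tt N53130 F376108) (tt N85445 F376109))
theorem Q86402 : ∀ i, i < 86402 → P i := stepQ 86401 Q86401 (allL N86401 (tt N85709 F376111) (tt N112748 (iv0 F482487)) (tt N115135 D218392) (tt N51234 (iv3 D189212)) (tt N115136 D218393) (tt N115137 D218394) (tt N115138 D218395) (tt N85442 F376110))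
theorem Q86403 : ∀ i, i < 86403 → P i := stepQ 86402 Q86402 (allL N86402 (tt N112779 (iv1 F491805)) (tt N115133 F493647) (tt N85445 F376112) (tt N115137 (iv3 F493665)) (tt N115139 D218396) (tt N51234 (iv5 D189213)) (tt N84435 (iv6 F376114)) (tt N85443 F376113))
theorem Q86404 : ∀ i, i < 86404 → P i := stepQ 86403 Q86403 (allL N86403 (tt N89785 (iv1 F387555)) (tt N89786 F387565) (tt N85446 F376115) (tt N115138 (iv3 F493670)) (tt N84763 F376116) (tt N115140 D218397) (tt N51234 (iv6 D189214)) (tt N53117 F376117))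
theorem Q86405 : ∀ i, i < 86405 → P i := stepQ 86404 Q86404 (allL N86404 (tt N61342 F376122) (tt N61341 F376123) (tt N61343 F376118) (tt N58912 F376119) (tt N55578 F376120) (tt N51239 (iv5 D189215)) (tt N87128 (iv6 F378459)) (tt N56289 F376121))
theorem Q86406 : ∀ i, i < 86406 → P i := stepQ 86405 Q86405 (allL N86405 (tt N56624 F376127) (tt N56630 F376128) (tt N86483 (iv2 F376354)) (tt N100728 F430189) (tt N51240 (iv4 D189216)) (tt N87758 (iv5 F380399)) (tt N51252 F376126) (tt N87158 (iv7 F378573)))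
theorem Q86407 : ∀ i, i < 86407 → P i := stepQ 86406 Q86406 (allL N86406 (tt N56629 (iv1 F376133)) (tt N56622 F376134) (tt N61340 F376129) (tt N51255 F376130) (tt N87158 (iv4 F378571)) (tt N51241 F376131) (tt N52050 F376132) (tt N51240 (iv7 D189217)))
theorem Q86408 : ∀ i, i < 86408 → P i := stepQ 86407 Q86407 (allL N86407 (tt N113678 (iv1 F486596)) (tt N86831 F377352) (tt N113867 (iv2 F487539)) (tt N51244 F376135) (tt N97340 (iv4 F416418)) (tt N51242 (iv5 D189218)) (tt N97339 F416415) (tt N86764 (iv7 F377101)))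
theorem Q86409 : ∀ i, i < 86409 → P i := stepQ 86408 Q86408 (allL N86408 (tt N86780 F377353) (tt N89634 (iv0 F387026)) (tt N111305 F475734) (tt N51245 F376136) (tt N86252 F376137) (tt N84790 (iv5 F376138)) (tt N51242 (iv6 D189219)) (tt N89598 (iv7 F386907)))
theorem Q86410 : ∀ i, i < 86410 → P i := stepQ 86409 Q86409 (allL N86409 (tt N113626 F486364) (tt N86671 F376755) (tt N86760 (iv2 F377084)) (tt N53051 F376140) (tt N112447 (iv4 F481145)) (tt N51243 (iv5 D189220)) (tt N87598 (iv6 F379847)) (tt N86766 (iv7 F377108)))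
theorem Q86411 : ∀ i, i < 86411 → P i := stepQ 86410 Q86410 (allL N86410 (tt N85773 F376143) (tt N86682 (iv0 F376785)) (tt N86761 (iv2 F377091)) (tt N53052 F376141) (tt N51245 F376142) (tt N109616 (iv5 F467757)) (tt N51243 (iv6 D189221)) (tt N89599 (iv7 F386908)))
theorem Q86412 : ∀ i, i < 86412 → P i := stepQ 86411 Q86411 (allL N86411 (tt N87559 F476725) (tt N113629 (iv0 F486380)) (tt N86762 (iv2 F377095)) (tt N74130 (iv3 F376144)) (tt N51244 (iv4 D189222)) (tt N55503 F379210) (tt N87154 (iv6 F379211)) (tt N86768 (iv7 F377114)))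
theorem Q86413 : ∀ i, i < 86413 → P i := stepQ 86412 Q86412 (allL N86412 (tt N86824 F377313) (tt N87545 (iv0 F379718)) (tt N86763 (iv2 F377097)) (tt N97339 (iv3 F416414)) (tt N87154 F379212) (tt N84791 F376145) (tt N51244 (iv6 D189223)) (tt N87604 (iv7 F379863)))
theorem Q86414 : ∀ i, i < 86414 → P i := stepQ 86413 Q86413 (allL N86413 (tt N74485 F376148) (tt N109015 F464937) (tt N105911 (iv2 F452306)) (tt N51248 F376146) (tt N104839 (iv4 F447544)) (tt N51246 (iv5 D189224)) (tt N68148 (iv6 F376147)) (tt N86758 (iv7 F377079)))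
theorem Q86415 : ∀ i, i < 86415 → P i := stepQ 86414 Q86414 (allL N86414 (tt N104818 (iv1 F447441)) (tt N86787 (iv0 F377202)) (tt N70021 F376149) (tt N51249 F376150) (tt N82649 F376151) (tt N61692 F376152) (tt N51246 (iv6 D189225)) (tt N70024 (iv7 F376153)))
theorem Q86416 : ∀ i, i < 86416 → P i := stepQ 86415 Q86415 (allL N86415 (tt N86671 (iv1 F377088)) (tt N113626 (iv0 F486363)) (tt N86766 (iv2 F377106)) (tt N86657 (iv3 F376691)) (tt N111070 (iv4 F474520)) (tt N51247 (iv5 D189226)) (tt N97193 (iv6 F415826)) (tt N86760 (iv7 F377086)))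
theorem Q86417 : ∀ i, i < 86417 → P i := stepQ 86416 Q86416 (allL N86416 (tt N114052 F488364) (tt N97909 (iv0 F418757)) (tt N86767 (iv2 F377110)) (tt N85785 F376154) (tt N51249 F376155) (tt N114349 F489759) (tt N51247 (iv6 D189227)) (tt N114875 (iv7 F492283)))
theorem Q86418 : ∀ i, i < 86418 → P i := stepQ 86417 Q86417 (allL N86417 (tt N113629 (iv1 F486381)) (tt N87559 F476726) (tt N86768 (iv2 F377113)) (tt N96778 (iv3 F413885)) (tt N51248 (iv4 D189228)) (tt N55502 F376156) (tt N96775 (iv6 F413871)) (tt N86762 (iv7 F377096)))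
theorem Q86419 : ∀ i, i < 86419 → P i := stepQ 86418 Q86418 (allL N86418 (tt N115141 D218398) (tt N86838 (iv0 F379733)) (tt N86769 (iv2 F377115)) (tt N68148 F376157) (tt N96775 (iv4 F413872)) (tt N70043 F376158) (tt N51248 (iv6 D189229)) (tt N105908 (iv7 F452292)))
theorem Q86420 : ∀ i, i < 86420 → P i := stepQ 86419 Q86419 (allL N86419 (tt N109741 (iv1 F468387)) (tt N63226 (iv0 F376160)) (tt N100519 (iv2 F429288)) (tt N51250 (iv3 D189230)) (tt N114270 (iv4 F489314)) (tt N52747 F376159) (tt N98356 (iv6 F420627)) (tt N86772 (iv7 F377127)))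
theorem Q86421 : ∀ i, i < 86421 → P i := stepQ 86420 Q86420 (allL N86420 (tt N86851 F422246) (tt N104881 (iv0 F447785)) (tt N86771 (iv2 F377123)) (tt N98356 (iv3 F420626)) (tt N108638 (iv4 F463316)) (tt N98300 (iv5 F420405)) (tt N51250 (iv6 D189231)) (tt N100517 (iv7 F429282)))
theorem Q86422 : ∀ i, i < 86422 → P i := stepQ 86421 Q86421 (allL N86421 (tt N61356 (iv1 F376166)) (tt N68374 (iv0 F376165)) (tt N68373 F383013) (tt N51251 (iv3 D189232)) (tt N68144 F376163) (tt N52745 F376161) (tt N68143 (iv6 F376164)) (tt N68372 F376162))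
theorem Q86423 : ∀ i, i < 86423 → P i := stepQ 86422 Q86422 (allL N86422 (tt N114514 F490539) (tt N86866 (iv0 F377501)) (tt N52021 F376167) (tt N68143 F376168) (tt N51758 F376169) (tt N83292 F376170) (tt N51251 (iv6 D189233)) (tt N52010 (iv7 F376171)))
theorem Q86424 : ∀ i, i < 86424 → P i := stepQ 86423 Q86423 (allL N86423 (tt N51252 (iv1 D189234)) (tt N85707 F376172) (tt N86774 F377136) (tt N112415 (iv3 F481005)) (tt N88429 (iv4 F383017)) (tt N102985 (iv5 F439550)) (tt N86991 F377979) (tt N86773 F377132))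
theorem Q86425 : ∀ i, i < 86425 → P i := stepQ 86424 Q86424 (allL N86424 (tt N115142 D218399) (tt N115143 D218400) (tt N115144 D218401) (tt N51252 (iv3 D189235)) (tt N51267 F376173) (tt N112229 (iv5 F480155)) (tt N100728 (iv6 F430192)) (tt N86643 (iv7 F376647)))
theorem Q86426 : ∀ i, i < 86426 → P i := stepQ 86425 Q86425 (allL N86425 (tt N87244 (iv1 F378862)) (tt N79647 (iv0 F376177)) (tt N86775 (iv2 F377137)) (tt N112229 (iv3 F480153)) (tt N51838 F376175) (tt N51252 (iv5 D189236)) (tt N51837 (iv6 F376176)) (tt N52482 F376174))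
theorem Q86427 : ∀ i, i < 86427 → P i := stepQ 86426 Q86426 (allL N86426 (tt N51321 (iv1 F376181)) (tt N51254 (iv0 D189237)) (tt N51317 (iv2 F376179)) (tt N51384 (iv3 F376182)) (tt N56608 F376178) (tt N86519 (iv5 F376416)) (tt N51383 F376183) (tt N51318 F376180))
theorem Q86428 : ∀ i, i < 86428 → P i := stepQ 86427 Q86427 (allL N86427 (tt N111743 (iv1 F477758)) (tt N79867 (iv0 F430193)) (tt N115145 D218402) (tt N51254 (iv3 D189238)) (tt N100728 (iv4 F430191)) (tt N86634 (iv5 F430965)) (tt N51267 F376184) (tt N112390 (iv7 F480884)))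
theorem Q86429 : ∀ i, i < 86429 → P i := stepQ 86428 Q86428 (allL N86428 (tt N115146 D218403) (tt N93175 (iv0 F399811)) (tt N51320 F376185) (tt N86634 F430966) (tt N111732 (iv4 F477721)) (tt N51254 (iv5 D189239)) (tt N86631 (iv6 F430973)) (tt N111731 (iv7 F477719)))
theorem Q86430 : ∀ i, i < 86430 → P i := stepQ 86429 Q86429 (allL N86429 (tt N51318 (iv1 F376188)) (tt N51317 F376189) (tt N51321 F376186) (tt N112390 (iv3 F480882)) (tt N51255 F376187) (tt N111731 (iv5 F477715)) (tt N86647 (iv6 F376657)) (tt N51254 (iv7 D189240)))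
theorem Q86431 : ∀ i, i < 86431 → P i := stepQ 86430 Q86430 (allL N86430 (tt N51393 (iv1 F376194)) (tt N51392 F376195) (tt N51322 F376190) (tt N52050 F376191) (tt N86647 (iv4 F376656)) (tt N85741 F376192) (tt N51255 (iv6 D189241)) (tt N51268 F376193))
theorem Q86432 : ∀ i, i < 86432 → P i := stepQ 86431 Q86431 (allL N86431 (tt N51345 (iv1 F376198)) (tt N51256 (iv0 D189242)) (tt N51350 (iv2 F376197)) (tt N109015 (iv3 F464934)) (tt N86568 (iv4 F376494)) (tt N83658 F376196) (tt N88473 (iv6 F383189)) (tt N51349 F376199))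
theorem Q86433 : ∀ i, i < 86433 → P i := stepQ 86432 Q86432 (allL N86432 (tt N52705 (iv1 F376898)) (tt N112877 (iv0 F483102)) (tt N112879 F483111) (tt N51257 (iv3 D189243)) (tt N111740 (iv4 F477749)) (tt N85173 F376200) (tt N111739 F477746) (tt N51356 F376201))
theorem Q86434 : ∀ i, i < 86434 → P i := stepQ 86433 Q86433 (allL N86433 (tt N83809 F376203) (tt N113625 (iv0 F486359)) (tt N105771 (iv2 F451633)) (tt N115147 D218404) (tt N51259 (iv4 D189244)) (tt N105764 (iv5 F451594)) (tt N105767 (iv6 F451611)) (tt N51329 F376202))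
theorem Q86435 : ∀ i, i < 86435 → P i := stepQ 86434 Q86434 (allL N86434 (tt N112880 (iv1 F483118)) (tt N115148 D218405) (tt N115149 D218406) (tt N51261 (iv3 D189245)) (tt N115147 (iv4 F493713)) (tt N86440 (iv5 F376230)) (tt N115150 D218407) (tt N51338 F376204))
theorem Q86436 : ∀ i, i < 86436 → P i := stepQ 86435 Q86435 (allL N86435 (tt N86720 (iv1 F376901)) (tt N51367 (iv0 F376208)) (tt N51357 F376205) (tt N115150 (iv3 F493732)) (tt N51262 F376206) (tt N84657 (iv5 F376207)) (tt N51261 (iv6 D189246)) (tt N113557 (iv7 F486021)))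
theorem Q86437 : ∀ i, i < 86437 → P i := stepQ 86436 Q86436 (allL N86436 (tt N51361 (iv1 F376216)) (tt N51262 (iv0 D189247)) (tt N51358 F376220) (tt N115141 (iv3 F493688)) (tt N86636 F376632) (tt N87676 F380123) (tt N104937 F448028) (tt N51359 F376219))
theorem Q86438 : ∀ i, i < 86438 → P i := stepQ 86437 Q86437 (allL N86437 (tt N51262 (iv1 D189248)) (tt N51361 F376209) (tt N51359 F376212) (tt N84456 F376213) (tt N115151 D218408) (tt N60849 F376210) (tt N51308 (iv6 F376211)) (tt N51358 (iv7 F376221)))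
theorem Q86439 : ∀ i, i < 86439 → P i := stepQ 86438 Q86438 (allL N86438 (tt N51359 (iv1 F376217)) (tt N51358 F376223) (tt N51361 F376214) (tt N94009 F402809) (tt N113557 (iv4 F486020)) (tt N91783 (iv5 F394398)) (tt N51342 F376215) (tt N51262 (iv7 D189249)))
theorem Q86440 : ∀ i, i < 86440 → P i := stepQ 86439 Q86439 (allL N86439 (tt N104014 (iv1 F443795)) (tt N61244 (iv0 F376228)) (tt N68392 F376224) (tt N51265 F376225) (tt N79980 F376226) (tt N61087 F376227) (tt N51263 (iv6 D189250)) (tt N79983 (iv7 F376229)))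
theorem Q86441 : ∀ i, i < 86441 → P i := stepQ 86440 Q86440 (allL N86440 (tt N83575 (iv1 F381947)) (tt N86580 (iv0 F381946)) (tt N114228 F489098) (tt N51264 (iv3 D189251)) (tt N88153 (iv4 F381945)) (tt N86434 F376230) (tt N115152 D218409) (tt N51376 F376231))
theorem Q86442 : ∀ i, i < 86442 → P i := stepQ 86441 Q86441 (allL N86441 (tt N115153 D218410) (tt N115154 D218411) (tt N51368 F376232) (tt N115152 (iv3 F493743)) (tt N51265 F376233) (tt N114229 (iv5 F489105)) (tt N51264 (iv6 D189252)) (tt N115155 D218412))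
theorem Q86443 : ∀ i, i < 86443 → P i := stepQ 86442 Q86442 (allL N86442 (tt N51372 (iv1 F376239)) (tt N51265 (iv0 D189253)) (tt N51369 F377532) (tt N54882 F377533) (tt N115156 D218413) (tt N115157 D218414) (tt N114917 (iv6 F492524)) (tt N51370 F377534))
theorem Q86444 : ∀ i, i < 86444 → P i := stepQ 86443 Q86443 (allL N86443 (tt N51265 (iv1 D189254)) (tt N51372 F376234) (tt N51370 F377535) (tt N104881 (iv3 F447787)) (tt N115158 D218415) (tt N98472 (iv5 F421031)) (tt N98580 F421445) (tt N51369 F377536))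
theorem Q86445 : ∀ i, i < 86445 → P i := stepQ 86444 Q86444 (allL N86444 (tt N51370 (iv1 F376240)) (tt N51369 (iv0 F376241)) (tt N51372 F376235) (tt N79983 F376236) (tt N115155 (iv4 F493762)) (tt N79982 F376237) (tt N51380 F376238) (tt N51265 (iv7 D189255)))
theorem Q86446 : ∀ i, i < 86446 → P i := stepQ 86445 Q86445 (allL N86445 (tt N115159 D218416) (tt N115160 D218417) (tt N115161 D218418) (tt N51266 (iv3 D189256)) (tt N91045 (iv4 F391736)) (tt N86461 (iv5 F376289)) (tt N115162 D218419) (tt N51383 F376242))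
theorem Q86447 : ∀ i, i < 86447 → P i := stepQ 86446 Q86446 (allL N86446 (tt N115156 F493769) (tt N115158 (iv0 F493777)) (tt N51382 F376243) (tt N115162 (iv3 F493797)) (tt N55608 F376244) (tt N97306 (iv5 F416307)) (tt N51266 (iv6 D189257)) (tt N115163 D218420))
theorem Q86448 : ∀ i, i < 86448 → P i := stepQ 86447 Q86447 (allL N86447 (tt N86640 (iv1 F376643)) (tt N51267 (iv0 D189258)) (tt N86642 F479281) (tt N115164 D218421) (tt N97313 (iv4 F481108)) (tt N112056 (iv5 F479277)) (tt N97312 F481109) (tt N86641 F479283))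
theorem Q86449 : ∀ i, i < 86449 → P i := stepQ 86448 Q86448 (allL N86448 (tt N51267 (iv1 D189259)) (tt N86640 F376642) (tt N86641 (iv2 F479284)) (tt N112876 (iv3 F483095)) (tt N115165 D218422) (tt N112057 F479289) (tt N104345 F483096) (tt N86642 (iv7 F479285)))
theorem Q86450 : ∀ i, i < 86450 → P i := stepQ 86449 Q86449 (allL N86449 (tt N86642 (iv1 F376645)) (tt N86641 F376644) (tt N51267 (iv2 D189260)) (tt N51387 F376245) (tt N115144 (iv4 F493695)) (tt N86629 (iv5 F376627)) (tt N115145 (iv6 F493702)) (tt N86640 (iv7 F376641)))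
theorem Q86451 : ∀ i, i < 86451 → P i := stepQ 86450 Q86450 (allL N86450 (tt N51268 (iv1 D189262)) (tt N51322 F376247) (tt N51393 F376668) (tt N86683 (iv3 F376790)) (tt N86685 (iv4 F376793)) (tt N84466 (iv5 F376248)) (tt N115166 D218423) (tt N51392 F376669))
theorem Q86452 : ∀ i, i < 86452 → P i := stepQ 86451 Q86451 (allL N86451 (tt N108795 (iv1 F463984)) (tt N74777 (iv0 F376251)) (tt N93193 (iv2 F399888)) (tt N104826 (iv3 F447484)) (tt N51269 (iv4 D189263)) (tt N70765 F376250) (tt N76641 F376252) (tt N51429 F376249))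
theorem Q86453 : ∀ i, i < 86453 → P i := stepQ 86452 Q86452 (allL N86452 (tt N100661 (iv1 F429898)) (tt N86894 (iv0 F377622)) (tt N93192 (iv2 F399882)) (tt N51272 F376253) (tt N76641 F376254) (tt N80610 F376255) (tt N51269 (iv6 D189264)) (tt N104086 (iv7 F444103)))
theorem Q86454 : ∀ i, i < 86454 → P i := stepQ 86453 Q86453 (allL N86453 (tt N76473 (iv1 F376260)) (tt N83948 F376259) (tt N86905 (iv2 F377653)) (tt N51270 (iv3 D189265)) (tt N76417 (iv4 F376258)) (tt N51421 F376256) (tt N105017 F448398) (tt N51410 F376257))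
theorem Q86455 : ∀ i, i < 86455 → P i := stepQ 86454 Q86454 (allL N86454 (tt N83679 (iv1 F417921)) (tt N115167 D218424) (tt N115168 D218425) (tt N51271 (iv3 D189266)) (tt N104826 (iv4 F447485)) (tt N85324 F376265) (tt N115169 D218426) (tt N51433 F376266))
theorem Q86456 : ∀ i, i < 86456 → P i := stepQ 86455 Q86455 (allL N86455 (tt N114604 F490977) (tt N115026 (iv0 F493101)) (tt N51416 F376267) (tt N115169 (iv3 F493827)) (tt N51272 F376268) (tt N114512 (iv5 F490526)) (tt N51271 (iv6 D189267)) (tt N115170 D218427))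
theorem Q86457 : ∀ i, i < 86457 → P i := stepQ 86456 Q86456 (allL N86456 (tt N51420 (iv1 F376275)) (tt N51272 (iv0 D189268)) (tt N51417 F376840) (tt N113673 (iv3 F486569)) (tt N86559 (iv4 F376927)) (tt N115171 D218428) (tt N85318 F376269) (tt N51418 F376841))
theorem Q86458 : ∀ i, i < 86458 → P i := stepQ 86457 Q86457 (allL N86457 (tt N51272 (iv1 D189269)) (tt N51420 F376270) (tt N51418 F376835) (tt N76407 (iv3 F376271)) (tt N86503 (iv4 F376398)) (tt N86210 (iv5 F376272)) (tt N115172 D218429) (tt N51417 F376836))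
theorem Q86459 : ∀ i, i < 86459 → P i := stepQ 86458 Q86458 (allL N86458 (tt N51418 (iv1 F376276)) (tt N51417 F376277) (tt N51420 F376273) (tt N104086 (iv3 F444101)) (tt N115170 (iv4 F493830)) (tt N96691 (iv5 F413483)) (tt N51438 F376274) (tt N51272 (iv7 D189270)))
theorem Q86460 : ∀ i, i < 86460 → P i := stepQ 86459 Q86459 (allL N86459 (tt N51402 (iv1 F376281)) (tt N51273 (iv0 D189271)) (tt N51404 (iv2 F376280)) (tt N60203 F376279) (tt N79679 (iv4 F376283)) (tt N51422 F376278) (tt N56460 (iv6 F376284)) (tt N51403 F376282))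
theorem Q86461 : ∀ i, i < 86461 → P i := stepQ 86460 Q86460 (allL N86460 (tt N86832 (iv1 F377359)) (tt N86833 (iv0 F377365)) (tt N93215 (iv2 F399995)) (tt N88372 (iv3 F382776)) (tt N51273 (iv4 D189272)) (tt N81607 F376288) (tt N56725 F376286) (tt N51405 F376287))
theorem Q86462 : ∀ i, i < 86462 → P i := stepQ 86461 Q86461 (allL N86461 (tt N115173 D218430) (tt N115174 D218431) (tt N115175 D218432) (tt N51275 (iv3 D189273)) (tt N88372 (iv4 F382777)) (tt N86445 F376289) (tt N86619 F376616) (tt N51415 F376290))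
theorem Q86463 : ∀ i, i < 86463 → P i := stepQ 86462 Q86462 (allL N86462 (tt N86636 F465598) (tt N115151 (iv0 F493741)) (tt N51434 F376291) (tt N86619 (iv3 F376615)) (tt N51276 F376292) (tt N115176 D218433) (tt N51275 (iv6 D189274)) (tt N115177 D218434))
theorem Q86464 : ∀ i, i < 86464 → P i := stepQ 86463 Q86463 (allL N86463 (tt N51438 (iv1 F376301)) (tt N51276 (iv0 D189275)) (tt N51435 F376307) (tt N85144 (iv3 F376304)) (tt N85173 F376305) (tt N104069 (iv5 F444025)) (tt N93186 F399866) (tt N51436 F376303))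
theorem Q86465 : ∀ i, i < 86465 → P i := stepQ 86464 Q86464 (allL N86464 (tt N51276 (iv1 D189276)) (tt N51438 F376293) (tt N51436 F376296) (tt N60178 F376297) (tt N86579 (iv4 F376894)) (tt N75070 (iv5 F376294)) (tt N56442 (iv6 F376295)) (tt N51435 (iv7 F376308)))
theorem Q86466 : ∀ i, i < 86466 → P i := stepQ 86465 Q86465 (allL N86465 (tt N51436 (iv1 F376302)) (tt N51435 F376309) (tt N51438 F376298) (tt N56481 F376299) (tt N115177 (iv4 F493872)) (tt N104822 (iv5 F447460)) (tt N51420 F376300) (tt N51276 (iv7 D189277)))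
theorem Q86467 : ∀ i, i < 86467 → P i := stepQ 86466 Q86466 (allL N86466 (tt N77165 (iv1 F376314)) (tt N77453 (iv0 F376313)) (tt N77246 F376310) (tt N82540 F376311) (tt N77307 F376312) (tt N113583 (iv5 F486146)) (tt N51277 (iv6 D189278)) (tt N77452 (iv7 F376315)))
theorem Q86468 : ∀ i, i < 86468 → P i := stepQ 86467 Q86467 (allL N86467 (tt N84086 F376317) (tt N105566 F450756) (tt N83828 F376316) (tt N88075 (iv3 F381691)) (tt N108787 (iv4 F463929)) (tt N51278 (iv5 D189279)) (tt N113583 F486147) (tt N86817 (iv7 F377291)))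
theorem Q86469 : ∀ i, i < 86469 → P i := stepQ 86468 Q86468 (allL N86468 (tt N115178 D218435) (tt N112931 F483304) (tt N110144 F470164) (tt N88103 (iv3 F381801)) (tt N110177 (iv4 F470288)) (tt N51280 (iv5 D189280)) (tt N106552 (iv6 F454839)) (tt N111299 (iv7 F475699)))
theorem Q86470 : ∀ i, i < 86470 → P i := stepQ 86469 Q86469 (allL N86469 (tt N88810 (iv1 F384226)) (tt N106900 (iv0 F456208)) (tt N88988 F384680) (tt N88104 (iv3 F381802)) (tt N51282 F376318) (tt N89185 (iv5 F385488)) (tt N51280 (iv6 D189281)) (tt N106901 (iv7 F456209)))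
theorem Q86471 : ∀ i, i < 86471 → P i := stepQ 86470 Q86470 (allL N86470 (tt N51285 (iv1 F376322)) (tt N51281 (iv0 D189282)) (tt N82741 (iv2 F376321)) (tt N78380 (iv3 F376324)) (tt N114253 (iv4 F489236)) (tt N78983 F376319) (tt N76392 F376320) (tt N76364 F376323))
theorem Q86472 : ∀ i, i < 86472 → P i := stepQ 86471 Q86471 (allL N86471 (tt N79995 F376335) (tt N109397 (iv0 F466756)) (tt N98370 (iv2 F420672)) (tt N51285 F376325) (tt N109291 (iv4 F466222)) (tt N51283 (iv5 D189283)) (tt N63301 (iv6 F376326)) (tt N98753 (iv7 F422161)))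
theorem Q86473 : ∀ i, i < 86473 → P i := stepQ 86472 Q86472 (allL N86472 (tt N91678 (iv1 F394006)) (tt N86759 F377083) (tt N111320 (iv2 F475803)) (tt N51286 F376327) (tt N52989 F376328) (tt N113305 (iv5 F484936)) (tt N51283 (iv6 D189284)) (tt N86821 (iv7 F377301)))
theorem Q86474 : ∀ i, i < 86474 → P i := stepQ 86473 Q86473 (allL N86473 (tt N112931 F483303) (tt N115178 F493879) (tt N111299 (iv2 F475698)) (tt N83687 F376329) (tt N110179 (iv4 F470296)) (tt N51284 (iv5 D189285)) (tt N113778 (iv6 F487062)) (tt N110144 (iv7 F470163)))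
theorem Q86475 : ∀ i, i < 86475 → P i := stepQ 86474 Q86474 (allL N86474 (tt N114879 (iv1 F492307)) (tt N84083 (iv0 F376332)) (tt N86820 (iv2 F377298)) (tt N55146 F376330) (tt N51286 F376331) (tt N89838 (iv5 F387692)) (tt N51284 (iv6 D189286)) (tt N86822 (iv7 F377303)))
theorem Q86476 : ∀ i, i < 86476 → P i := stepQ 86475 Q86475 (allL N86475 (tt N111265 F475524) (tt N75640 F376334) (tt N111300 (iv2 F475700)) (tt N101246 (iv3 F432385)) (tt N51285 (iv4 D189287)) (tt N101245 (iv5 F432382)) (tt N63302 F376333) (tt N111298 (iv7 F475693)))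
theorem Q86477 : ∀ i, i < 86477 → P i := stepQ 86476 Q86476 (allL N86476 (tt N109397 F466757) (tt N79995 (iv0 F382256)) (tt N98753 (iv2 F422159)) (tt N51292 F376336) (tt N109851 (iv4 F468909)) (tt N51291 (iv5 D189288)) (tt N61762 F376337) (tt N98370 (iv7 F420675)))
theorem Q86478 : ∀ i, i < 86478 → P i := stepQ 86477 Q86477 (allL N86477 (tt N86765 F377105) (tt N115179 D218436) (tt N111297 (iv2 F475685)) (tt N51293 F376338) (tt N53155 F376339) (tt N104817 (iv5 F447428)) (tt N51291 (iv6 D189289)) (tt N86835 (iv7 F377373)))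
theorem Q86479 : ∀ i, i < 86479 → P i := stepQ 86478 Q86478 (allL N86478 (tt N88225 (iv1 F382255)) (tt N88220 F382232) (tt N88222 F382240) (tt N102326 (iv3 F436741)) (tt N51292 (iv4 D189290)) (tt N114871 (iv5 F492260)) (tt N113908 (iv6 F487729)) (tt N88223 (iv7 F382245)))
theorem Q86480 : ∀ i, i < 86480 → P i := stepQ 86479 Q86479 (allL N86479 (tt N76036 F376341) (tt N100769 (iv0 F430384)) (tt N111319 (iv2 F475796)) (tt N61762 F376340) (tt N113908 (iv4 F487727)) (tt N109438 (iv5 F466961)) (tt N51292 (iv6 D189291)) (tt N98749 (iv7 F422142)))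
theorem Q86481 : ∀ i, i < 86481 → P i := stepQ 86480 Q86480 (allL N86480 (tt N88220 F382231) (tt N88225 F382254) (tt N88223 F382247) (tt N113911 (iv3 F487743)) (tt N51294 (iv4 D189292)) (tt N114872 (iv5 F492267)) (tt N51978 F376342) (tt N88222 F382242))
theorem Q86482 : ∀ i, i < 86482 → P i := stepQ 86481 Q86481 (allL N86481 (tt N100777 F430423) (tt N91179 (iv0 F392183)) (tt N92936 (iv2 F398831)) (tt N98761 (iv3 F422196)) (tt N71732 F376343) (tt N56584 F376344) (tt N51296 (iv6 D189293)) (tt N92934 (iv7 F398824)))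
theorem Q86483 : ∀ i, i < 86483 → P i := stepQ 86482 Q86482 (allL N86482 (tt N55804 (iv1 F376349)) (tt N51302 (iv0 D189294)) (tt N61482 (iv2 F376348)) (tt N61469 F376346) (tt N61050 F376345) (tt N81464 F376347) (tt N86599 (iv6 F376570)) (tt N61475 F376350))
theorem Q86484 : ∀ i, i < 86484 → P i := stepQ 86483 Q86483 (allL N86483 (tt N93136 (iv1 F399638)) (tt N93143 F399658) (tt N86405 F376354) (tt N95300 (iv3 F407777)) (tt N51303 (iv4 D189295)) (tt N83524 F376357) (tt N51478 F376355) (tt N52119 F376356))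
theorem Q86485 : ∀ i, i < 86485 → P i := stepQ 86484 Q86484 (allL N86484 (tt N93112 (iv1 F399533)) (tt N93111 F399530) (tt N51509 F376358) (tt N99565 (iv3 F425190)) (tt N51304 (iv4 D189296)) (tt N115180 D218437) (tt N54902 F376359) (tt N51507 F376360))
theorem Q86486 : ∀ i, i < 86486 → P i := stepQ 86485 Q86485 (allL N86485 (tt N60267 F376363) (tt N60266 F376364) (tt N60269 F376361) (tt N110913 (iv3 F473757)) (tt N51306 (iv4 D189297)) (tt N111730 (iv5 F477707)) (tt N110911 (iv6 F473752)) (tt N60261 F376362))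
theorem Q86487 : ∀ i, i < 86487 → P i := stepQ 86486 Q86486 (allL N86486 (tt N69484 F376366) (tt N86209 F377605) (tt N60272 F376365) (tt N97178 (iv3 F415777)) (tt N110911 (iv4 F473749)) (tt N96706 F413542) (tt N51306 (iv6 D189298)) (tt N104028 (iv7 F443863)))
theorem Q86488 : ∀ i, i < 86488 → P i := stepQ 86487 Q86487 (allL N86487 (tt N56289 (iv1 F376371)) (tt N61343 (iv0 F376370)) (tt N61342 F376367) (tt N51307 (iv3 D189299)) (tt N93158 (iv4 F399715)) (tt N58905 F376368) (tt N87569 F379776) (tt N61341 F376369))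
theorem Q86489 : ∀ i, i < 86489 → P i := stepQ 86488 Q86488 (allL N86488 (tt N63404 F376372) (tt N56462 F376373) (tt N93174 F399805) (tt N111747 (iv3 F477771)) (tt N51307 (iv4 D189300)) (tt N115181 D218438) (tt N115182 D218439) (tt N93173 F399801))
theorem Q86490 : ∀ i, i < 86490 → P i := stepQ 86489 Q86489 (allL N86489 (tt N97253 F416087) (tt N94007 (iv0 F402800)) (tt N104918 (iv2 F447932)) (tt N87569 (iv3 F379777)) (tt N115182 (iv4 F493903)) (tt N86031 F376374) (tt N51307 (iv6 D189301)) (tt N104937 (iv7 F448025)))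
theorem Q86491 : ∀ i, i < 86491 → P i := stepQ 86490 Q86490 (allL N86490 (tt N56462 F376375) (tt N63404 F376376) (tt N93173 F399799) (tt N51320 F376410) (tt N51308 (iv4 D189302)) (tt N51319 (iv5 F376409)) (tt N115151 (iv6 F493739)) (tt N93174 (iv7 F399803)))
theorem Q86492 : ∀ i, i < 86492 → P i := stepQ 86491 Q86491 (allL N86491 (tt N51311 (iv1 F376378)) (tt N51309 (iv0 D189303)) (tt N61030 (iv2 F376379)) (tt N115183 D218440) (tt N55763 F376377) (tt N115184 D218441) (tt N98177 (iv6 F419865)) (tt N92977 (iv7 F398995)))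
theorem Q86493 : ∀ i, i < 86493 → P i := stepQ 86492 Q86492 (allL N86492 (tt N51309 (iv1 D189304)) (tt N51311 F376380) (tt N92977 (iv2 F398993)) (tt N51368 (iv3 F376383)) (tt N56607 F376382) (tt N115185 D218442) (tt N51367 (iv6 F376384)) (tt N61030 F376381))
theorem Q86494 : ∀ i, i < 86494 → P i := stepQ 86493 Q86493 (allL N86493 (tt N114977 F492875) (tt N115186 D218443) (tt N115187 D218444) (tt N51309 (iv3 D189305)) (tt N93998 (iv4 F402757)) (tt N104924 F447968) (tt N115153 (iv6 F493749)) (tt N109691 (iv7 F468132)))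
theorem Q86495 : ∀ i, i < 86495 → P i := stepQ 86494 Q86494 (allL N86494 (tt N115188 D218445) (tt N113770 (iv0 F487042)) (tt N104923 (iv2 F447959)) (tt N104924 (iv3 F447965)) (tt N60268 F376385) (tt N51309 (iv5 D189306)) (tt N60308 (iv6 F376386)) (tt N109692 (iv7 F468136)))
theorem Q86496 : ∀ i, i < 86496 → P i := stepQ 86495 Q86495 (allL N86495 (tt N114600 (iv1 F490956)) (tt N114596 (iv0 F490937)) (tt N104924 (iv2 F447964)) (tt N115153 F493750) (tt N51310 F376387) (tt N115187 (iv5 F493926)) (tt N51309 (iv6 D189307)) (tt N115189 D218446))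
theorem Q86497 : ∀ i, i < 86497 → P i := stepQ 86496 Q86496 (allL N86496 (tt N91243 (iv1 F392392)) (tt N51310 (iv0 D189308)) (tt N85167 (iv2 F376944)) (tt N87502 (iv3 F379581)) (tt N86698 (iv4 F376934)) (tt N84807 F376388) (tt N51340 (iv6 F376389)) (tt N85165 (iv7 F376940)))
theorem Q86498 : ∀ i, i < 86498 → P i := stepQ 86497 Q86497 (allL N86497 (tt N51310 (iv1 D189309)) (tt N91243 F392391) (tt N85165 (iv2 F376947)) (tt N86794 F377229) (tt N115190 D218447) (tt N84806 (iv5 F376390)) (tt N115191 D218448) (tt N85167 (iv7 F376943)))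
theorem Q86499 : ∀ i, i < 86499 → P i := stepQ 86498 Q86498 (allL N86498 (tt N85165 (iv1 F376391)) (tt N85167 F376948) (tt N91243 (iv2 F392387)) (tt N94001 (iv3 F402772)) (tt N115189 (iv4 F493936)) (tt N114281 (iv5 F489372)) (tt N91231 (iv6 F392366)) (tt N51310 (iv7 D189310)))
theorem Q86500 : ∀ i, i < 86500 → P i := stepQ 86499 Q86499 (allL N86499 (tt N115192 D218449) (tt N115193 D218450) (tt N115194 D218451) (tt N51311 (iv3 D189311)) (tt N55793 F376392) (tt N115154 F493759) (tt N115195 D218452) (tt N60308 F376393))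
theorem Q86501 : ∀ i, i < 86501 → P i := stepQ 86500 Q86500 (allL N86500 (tt N113770 (iv1 F487043)) (tt N115188 F493931) (tt N109692 (iv2 F468134)) (tt N115154 F493758) (tt N111730 (iv4 F477711)) (tt N51311 (iv5 D189312)) (tt N115196 D218453) (tt N104923 (iv7 F447961)))
theorem Q86502 : ∀ i, i < 86502 → P i := stepQ 86501 Q86501 (allL N86501 (tt N112359 (iv1 F480733)) (tt N86691 (iv0 F376812)) (tt N91241 (iv2 F392382)) (tt N115195 (iv3 F493967)) (tt N51312 F376394) (tt N115197 D218454) (tt N51311 (iv6 D189313)) (tt N91242 (iv7 F392384)))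
theorem Q86503 : ∀ i, i < 86503 → P i := stepQ 86502 Q86502 (allL N86502 (tt N51315 (iv1 F376396)) (tt N51313 (iv0 D189314)) (tt N93122 (iv2 F399579)) (tt N115198 D218455) (tt N56444 F376395) (tt N115188 (iv5 F493929)) (tt N115199 D218456) (tt N84929 F376397))
theorem Q86504 : ∀ i, i < 86504 → P i := stepQ 86503 Q86503 (allL N86503 (tt N51339 F376922) (tt N115027 F493106) (tt N86702 (iv2 F376858)) (tt N51313 (iv3 D189315)) (tt N86457 F376398) (tt N86614 F376600) (tt N113772 (iv6 F493783)) (tt N86613 (iv7 F376602)))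
theorem Q86505 : ∀ i, i < 86505 → P i := stepQ 86504 Q86504 (allL N86504 (tt N115200 D218457) (tt N98085 (iv0 F419392)) (tt N104015 (iv2 F443796)) (tt N86614 (iv3 F376601)) (tt N104915 (iv4 F447922)) (tt N51313 (iv5 D189316)) (tt N115201 D218458) (tt N86611 F376606))
theorem Q86506 : ∀ i, i < 86506 → P i := stepQ 86505 Q86505 (allL N86505 (tt N115202 D218459) (tt N115150 F493735) (tt N104016 (iv2 F443800)) (tt N113772 F493781) (tt N51314 F376399) (tt N115203 D218460) (tt N51313 (iv6 D189317)) (tt N113586 (iv7 F486162)))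
theorem Q86507 : ∀ i, i < 86507 → P i := stepQ 86506 Q86506 (allL N86506 (tt N104019 (iv1 F443811)) (tt N51314 (iv0 D189318)) (tt N104017 F447616) (tt N115204 D218461) (tt N115160 (iv4 F493788)) (tt N114541 (iv5 F490685)) (tt N51379 F413464) (tt N104018 F447614))
theorem Q86508 : ∀ i, i < 86508 → P i := stepQ 86507 Q86507 (allL N86507 (tt N51314 (iv1 D189319)) (tt N104019 F443809) (tt N104018 (iv2 F447613)) (tt N86801 F443810) (tt N115159 (iv4 F493780)) (tt N104184 (iv5 F444576)) (tt N115205 D218462) (tt N104017 (iv7 F447615)))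
theorem Q86509 : ∀ i, i < 86509 → P i := stepQ 86508 Q86508 (allL N86508 (tt N114229 F489106) (tt N115206 D218463) (tt N115207 D218464) (tt N51315 (iv3 D189320)) (tt N68380 F376400) (tt N115208 D218465) (tt N115209 D218466) (tt N103956 (iv7 F443520)))
theorem Q86510 : ∀ i, i < 86510 → P i := stepQ 86509 Q86509 (allL N86509 (tt N98085 (iv1 F419393)) (tt N115200 F493991) (tt N86611 F376605) (tt N115208 (iv3 F494022)) (tt N111728 (iv4 F477697)) (tt N51315 (iv5 D189321)) (tt N86610 (iv6 F376607)) (tt N104015 (iv7 F443799)))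
theorem Q86511 : ∀ i, i < 86511 → P i := stepQ 86510 Q86510 (allL N86510 (tt N109691 F468133) (tt N115187 (iv0 F493928)) (tt N114977 (iv2 F492871)) (tt N115209 (iv3 F494029)) (tt N51316 F376401) (tt N114517 (iv5 F490551)) (tt N51315 (iv6 D189322)) (tt N115186 (iv7 F493920)))
theorem Q86512 : ∀ i, i < 86512 → P i := stepQ 86511 Q86511 (allL N86511 (tt N114917 (iv1 F492523)) (tt N114916 (iv0 F492518)) (tt N113587 (iv2 F486164)) (tt N68383 F376402) (tt N115186 (iv4 F493922)) (tt N111160 (iv5 F475001)) (tt N104019 (iv6 F443807)) (tt N51316 (iv7 D189324)))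
theorem Q86513 : ∀ i, i < 86513 → P i := stepQ 86512 Q86512 (allL N86512 (tt N86697 F376850) (tt N115210 D218467) (tt N114603 (iv2 F490967)) (tt N51317 (iv3 D189325)) (tt N56526 F376403) (tt N115211 D218468) (tt N114608 (iv6 F490992)) (tt N68705 F376404))
theorem Q86514 : ∀ i, i < 86514 → P i := stepQ 86513 Q86513 (allL N86513 (tt N86520 (iv1 F376422)) (tt N86521 (iv0 F376420)) (tt N86519 F376417) (tt N115211 (iv3 F494039)) (tt N114465 (iv4 F490318)) (tt N51317 (iv5 D189326)) (tt N115212 D218469) (tt N86518 F376414))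
theorem Q86515 : ∀ i, i < 86515 → P i := stepQ 86514 Q86514 (allL N86514 (tt N115160 F493791) (tt N115159 F493782) (tt N51383 F376405) (tt N114608 (iv3 F490990)) (tt N56610 F376406) (tt N86696 (iv5 F376824)) (tt N51317 (iv6 D189327)) (tt N115161 (iv7 F493794)))
theorem Q86516 : ∀ i, i < 86516 → P i := stepQ 86515 Q86515 (allL N86515 (tt N114516 (iv1 F490550)) (tt N114515 (iv0 F490542)) (tt N114605 (iv2 F490979)) (tt N51318 (iv3 D189328)) (tt N86726 (iv4 F376917)) (tt N115026 (iv5 F493099)) (tt N115163 (iv6 F493804)) (tt N51384 F376407))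
theorem Q86517 : ∀ i, i < 86517 → P i := stepQ 86516 Q86516 (allL N86516 (tt N86521 (iv1 F376421)) (tt N86520 F376423) (tt N86518 F376413) (tt N115026 (iv3 F493098)) (tt N88359 F382732) (tt N51318 (iv5 D189329)) (tt N88358 (iv6 F382733)) (tt N86519 (iv7 F376415)))
theorem Q86518 : ∀ i, i < 86518 → P i := stepQ 86517 Q86517 (allL N86517 (tt N115022 (iv1 F493082)) (tt N115025 (iv0 F493096)) (tt N92980 (iv2 F399009)) (tt N115163 (iv3 F493802)) (tt N92978 (iv4 F399000)) (tt N86615 (iv5 F395359)) (tt N51318 (iv6 D189330)) (tt N115162 (iv7 F493800)))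
theorem Q86519 : ∀ i, i < 86519 → P i := stepQ 86518 Q86518 (allL N86518 (tt N115181 (iv1 F493901)) (tt N51319 (iv0 D189331)) (tt N86516 (iv2 F376413)) (tt N104345 (iv3 F445345)) (tt N86799 (iv4 F377241)) (tt N56445 F376408) (tt N112876 (iv6 F483092)) (tt N86513 (iv7 F376414)))
theorem Q86520 : ∀ i, i < 86520 → P i := stepQ 86519 Q86519 (allL N86519 (tt N51319 (iv1 D189332)) (tt N115181 (iv0 F493900)) (tt N86513 (iv2 F376417)) (tt N86563 (iv3 F376923)) (tt N86804 (iv4 F377254)) (tt N86426 F376416) (tt N115213 D218470) (tt N86516 F376415))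
theorem Q86521 : ∀ i, i < 86521 → P i := stepQ 86520 Q86520 (allL N86520 (tt N86516 (iv1 F376423)) (tt N86513 F376422) (tt N51319 (iv2 D189333)) (tt N115145 (iv3 F493700)) (tt N86813 (iv4 F377279)) (tt N93173 (iv5 F399796)) (tt N51387 F376418) (tt N115181 (iv7 F493899)))
theorem Q86522 : ∀ i, i < 86522 → P i := stepQ 86521 Q86521 (allL N86521 (tt N86513 F376420) (tt N86516 F376421) (tt N115181 (iv2 F493896)) (tt N51321 F376419) (tt N86814 (iv4 F377283)) (tt N93174 F399807) (tt N115214 D218471) (tt N51319 (iv7 D189334)))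
theorem Q86523 : ∀ i, i < 86523 → P i := stepQ 86522 Q86522 (allL N86522 (tt N111731 (iv1 F477718)) (tt N51320 (iv0 D189335)) (tt N115146 F493708) (tt N104298 (iv3 F445126)) (tt N115180 (iv4 F493891)) (tt N56462 F376424) (tt N115215 D218472) (tt N93175 (iv7 F399809)))
theorem Q86524 : ∀ i, i < 86524 → P i := stepQ 86523 Q86523 (allL N86523 (tt N51320 (iv1 D189336)) (tt N111731 (iv0 F477717)) (tt N93175 (iv2 F399808)) (tt N115216 D218473) (tt N93113 (iv4 F399543)) (tt N63404 F376425) (tt N106703 (iv6 F455338)) (tt N115146 (iv7 F493710)))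
theorem Q86525 : ∀ i, i < 86525 → P i := stepQ 86524 Q86524 (allL N86524 (tt N60268 F376427) (tt N111730 F477713) (tt N111732 (iv2 F477720)) (tt N86790 (iv3 F377212)) (tt N51320 (iv4 D189337)) (tt N51519 F376426) (tt N113664 (iv6 F486537)) (tt N51518 F376428))
theorem Q86526 : ∀ i, i < 86526 → P i := stepQ 86525 Q86525 (allL N86525 (tt N115217 D218474) (tt N115218 D218475) (tt N86631 (iv2 F430971)) (tt N115151 (iv3 F493737)) (tt N113664 F486540) (tt N51390 F376429) (tt N51320 (iv6 D189338)) (tt N115219 D218476))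
theorem Q86527 : ∀ i, i < 86527 → P i := stepQ 86526 Q86526 (allL N86526 (tt N93175 (iv1 F399812)) (tt N115146 F493709) (tt N111731 (iv2 F477714)) (tt N93174 F399806) (tt N51518 F376430) (tt N51321 F376431) (tt N111716 (iv6 F477633)) (tt N51320 (iv7 D189339)))
theorem Q86528 : ∀ i, i < 86528 → P i := stepQ 86527 Q86527 (allL N86527 (tt N86646 (iv1 F376654)) (tt N86645 F376658) (tt N86647 (iv2 F376655)) (tt N115214 (iv3 F494052)) (tt N51322 F376432) (tt N115220 D218477) (tt N51321 (iv6 D189340)) (tt N51391 F376433))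
theorem Q86529 : ∀ i, i < 86529 → P i := stepQ 86528 Q86528 (allL N86528 (tt N85490 F376435) (tt N88892 F384451) (tt N84894 F376434) (tt N88258 (iv3 F382388)) (tt N106196 (iv4 F453565)) (tt N51323 (iv5 D189341)) (tt N106195 F453562) (tt N86776 (iv7 F377142)))
theorem Q86530 : ∀ i, i < 86530 → P i := stepQ 86529 Q86529 (allL N86529 (tt N88812 (iv1 F384229)) (tt N60166 F376439) (tt N84454 F376436) (tt N58938 F376437) (tt N51324 (iv4 D189342)) (tt N70673 F376440) (tt N84452 F376438) (tt N86777 (iv7 F377148)))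
theorem Q86531 : ∀ i, i < 86531 → P i := stepQ 86530 Q86530 (allL N86530 (tt N113625 (iv1 F486360)) (tt N83809 F376443) (tt N51329 F376442) (tt N87511 (iv3 F379612)) (tt N51325 (iv4 D189343)) (tt N105772 (iv5 F451643)) (tt N115221 D218478) (tt N105771 (iv7 F451637)))
theorem Q86532 : ∀ i, i < 86532 → P i := stepQ 86531 Q86531 (allL N86531 (tt N109749 F468435) (tt N115222 D218479) (tt N51330 F376444) (tt N111317 (iv3 F475786)) (tt N115221 (iv4 F494082)) (tt N77671 F376445) (tt N51325 (iv6 D189344)) (tt N109748 (iv7 F468427)))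
theorem Q86533 : ∀ i, i < 86533 → P i := stepQ 86532 Q86532 (allL N86532 (tt N70674 F376446) (tt N88807 (iv0 F384215)) (tt N114959 (iv2 F492762)) (tt N105002 (iv3 F448312)) (tt N51327 (iv4 D189345)) (tt N111263 (iv5 F475511)) (tt N68439 F392296) (tt N109737 (iv7 F468358)))
theorem Q86534 : ∀ i, i < 86534 → P i := stepQ 86533 Q86533 (allL N86533 (tt N113867 (iv1 F487542)) (tt N86764 (iv0 F377102)) (tt N86831 (iv2 F377348)) (tt N51328 (iv3 D189346)) (tt N86907 (iv4 F377663)) (tt N84750 F376447) (tt N73675 F376448) (tt N113678 (iv7 F486594)))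
theorem Q86535 : ∀ i, i < 86535 → P i := stepQ 86534 Q86534 (allL N86534 (tt N88807 (iv1 F384216)) (tt N70674 F376449) (tt N109737 (iv2 F468354)) (tt N104126 (iv3 F444312)) (tt N51328 (iv4 D189347)) (tt N92233 F396386) (tt N92234 (iv6 F396390)) (tt N114959 (iv7 F492765)))
theorem Q86536 : ∀ i, i < 86536 → P i := stepQ 86535 Q86535 (allL N86535 (tt N51329 (iv1 D189348)) (tt N105771 F451639) (tt N83809 (iv2 F376451)) (tt N105904 (iv3 F452277)) (tt N83808 F376450) (tt N111328 (iv5 F475842)) (tt N109012 (iv6 F464918)) (tt N113625 (iv7 F486358)))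
theorem Q86537 : ∀ i, i < 86537 → P i := stepQ 86536 Q86536 (allL N86536 (tt N104083 (iv1 F444091)) (tt N115223 D218480) (tt N115224 D218481) (tt N51329 (iv3 D189349)) (tt N51338 F376452) (tt N86723 F376909) (tt N85320 (iv6 F376911)) (tt N115147 (iv7 F493716)))
theorem Q86538 : ∀ i, i < 86538 → P i := stepQ 86537 Q86537 (allL N86537 (tt N105770 (iv1 F451627)) (tt N105769 (iv0 F451626)) (tt N105772 (iv2 F451640)) (tt N86723 (iv3 F376910)) (tt N106588 (iv4 F454966)) (tt N51329 (iv5 D189350)) (tt N115225 D218482) (tt N105764 F451595))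
theorem Q86539 : ∀ i, i < 86539 → P i := stepQ 86538 Q86538 (allL N86538 (tt N111330 F475854) (tt N113768 (iv0 F487034)) (tt N115221 (iv2 F494080)) (tt N85320 F376912) (tt N51330 F376453) (tt N75548 (iv5 F448372)) (tt N51329 (iv6 D189351)) (tt N115226 D218483))
theorem Q86540 : ∀ i, i < 86540 → P i := stepQ 86539 Q86539 (allL N86539 (tt N109748 (iv1 F468429)) (tt N51330 (iv0 D189352)) (tt N109749 (iv2 F468430)) (tt N92954 F421744) (tt N100521 (iv4 F429301)) (tt N98652 F421742) (tt N92951 (iv6 F421743)) (tt N115222 (iv7 F494088)))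
theorem Q86541 : ∀ i, i < 86541 → P i := stepQ 86540 Q86540 (allL N86540 (tt N51330 (iv1 D189353)) (tt N109748 F468428) (tt N115222 F494091) (tt N96932 (iv3 F414662)) (tt N54871 F392300) (tt N98651 (iv5 F421741)) (tt N54870 F392301) (tt N109749 (iv7 F468433)))
theorem Q86542 : ∀ i, i < 86542 → P i := stepQ 86541 Q86541 (allL N86541 (tt N115222 (iv1 F494087)) (tt N109749 (iv0 F468434)) (tt N109748 (iv2 F468424)) (tt N51342 F376454) (tt N115226 (iv4 F494112)) (tt N109063 F465171) (tt N94009 F402810) (tt N51330 (iv7 D189354)))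
theorem Q86543 : ∀ i, i < 86543 → P i := stepQ 86542 Q86542 (allL N86542 (tt N111305 (iv1 F475731)) (tt N89598 (iv0 F386913)) (tt N89634 (iv2 F387023)) (tt N51332 (iv3 D189355)) (tt N86229 F376455) (tt N76283 F376456) (tt N104818 (iv6 F447438)) (tt N86780 F377156))
theorem Q86544 : ∀ i, i < 86544 → P i := stepQ 86543 Q86543 (allL N86543 (tt N82745 F376460) (tt N85742 (iv0 F376462)) (tt N85743 F376458) (tt N104818 (iv3 F447436)) (tt N113162 (iv4 F484271)) (tt N83622 (iv5 F376461)) (tt N51332 (iv6 D189356)) (tt N85744 F376459))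
theorem Q86545 : ∀ i, i < 86545 → P i := stepQ 86544 Q86544 (allL N86544 (tt N88433 (iv1 F383030)) (tt N88432 F383028) (tt N81637 F376463) (tt N115227 D218484) (tt N51333 (iv4 D189357)) (tt N115228 D218485) (tt N87634 (iv6 F464052)) (tt N88431 (iv7 F383025)))
theorem Q86546 : ∀ i, i < 86546 → P i := stepQ 86545 Q86545 (allL N86545 (tt N87139 F378514) (tt N87553 F379747) (tt N81653 F376464) (tt N51335 F376465) (tt N87634 F464049) (tt N83651 F376466) (tt N51333 (iv6 D189358)) (tt N87551 F379740))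
theorem Q86547 : ∀ i, i < 86547 → P i := stepQ 86546 Q86546 (allL N86546 (tt N86633 (iv1 F430967)) (tt N86638 F377576) (tt N115229 D218486) (tt N51334 (iv3 D189359)) (tt N115227 (iv4 F494118)) (tt N80661 F376467) (tt N115230 D218487) (tt N91229 (iv7 F392358)))
theorem Q86548 : ∀ i, i < 86548 → P i := stepQ 86547 Q86547 (allL N86547 (tt N51433 F447612) (tt N115168 F493824) (tt N83679 F376468) (tt N115230 (iv3 F494131)) (tt N51335 F376469) (tt N115174 (iv5 F493852)) (tt N51334 (iv6 D189360)) (tt N115167 (iv7 F493814)))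
theorem Q86549 : ∀ i, i < 86549 → P i := stepQ 86548 Q86548 (allL N86548 (tt N83680 F376472) (tt N51335 (iv0 D189361)) (tt N83677 F413809) (tt N104941 (iv3 F448041)) (tt N115231 D218488) (tt N69403 F376470) (tt N85758 F376471) (tt N83678 F413807))
theorem Q86550 : ∀ i, i < 86550 → P i := stepQ 86549 Q86549 (allL N86549 (tt N51335 (iv1 D189362)) (tt N83680 F376473) (tt N83678 (iv2 F413805)) (tt N94008 F402804) (tt N115232 D218489) (tt N69405 (iv5 F376474)) (tt N94007 (iv6 F402805)) (tt N83677 (iv7 F413808)))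
theorem Q86551 : ∀ i, i < 86551 → P i := stepQ 86550 Q86550 (allL N86550 (tt N83678 (iv1 F376477)) (tt N83677 F376478) (tt N83680 F376475) (tt N87551 (iv3 F379741)) (tt N115167 (iv4 F493815)) (tt N83655 F376476) (tt N91232 (iv6 F392370)) (tt N51335 (iv7 D189363)))
theorem Q86552 : ∀ i, i < 86552 → P i := stepQ 86551 Q86551 (allL N86551 (tt N115233 D218490) (tt N115234 D218491) (tt N115235 D218492) (tt N51336 (iv3 D189364)) (tt N115236 D218493) (tt N86685 (iv5 F376794)) (tt N115237 D218494) (tt N86690 (iv7 F376809)))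
theorem Q86553 : ∀ i, i < 86553 → P i := stepQ 86552 Q86552 (allL N86552 (tt N115231 (iv1 F494138)) (tt N115232 (iv0 F494141)) (tt N86686 (iv2 F376797)) (tt N115237 (iv3 F494155)) (tt N85952 F376479) (tt N115238 D218495) (tt N51336 (iv6 D189365)) (tt N104776 (iv7 F447211)))
theorem Q86554 : ∀ i, i < 86554 → P i := stepQ 86553 Q86553 (allL N86553 (tt N115199 (iv1 F493987)) (tt N86664 (iv0 F445387)) (tt N104999 (iv2 F448306)) (tt N51337 (iv3 D189366)) (tt N51392 F376480) (tt N86690 (iv5 F376808)) (tt N115239 D218496) (tt N86685 (iv7 F376795)))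
theorem Q86555 : ∀ i, i < 86555 → P i := stepQ 86554 Q86554 (allL N86554 (tt N91241 (iv1 F392386)) (tt N91242 (iv0 F392385)) (tt N86691 (iv2 F376810)) (tt N115239 (iv3 F494163)) (tt N85789 F376481) (tt N97457 (iv5 F416963)) (tt N51337 (iv6 D189367)) (tt N112359 (iv7 F480732)))
theorem Q86556 : ∀ i, i < 86556 → P i := stepQ 86555 Q86555 (allL N86555 (tt N115149 (iv1 F493728)) (tt N51338 (iv0 D189368)) (tt N115148 F493722) (tt N86686 F376806) (tt N115166 (iv4 F493810)) (tt N52705 F376482) (tt N86685 (iv6 F376807)) (tt N112880 (iv7 F483117)))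
theorem Q86557 : ∀ i, i < 86557 → P i := stepQ 86556 Q86556 (allL N86556 (tt N51338 (iv1 D189369)) (tt N115149 F493729) (tt N112880 (iv2 F483116)) (tt N115240 D218497) (tt N98578 F421434) (tt N112877 (iv5 F483101)) (tt N98581 (iv6 F421446)) (tt N115148 (iv7 F493718)))
theorem Q86558 : ∀ i, i < 86558 → P i := stepQ 86557 Q86557 (allL N86557 (tt N115148 (iv1 F493723)) (tt N112880 F483119) (tt N51338 (iv2 D189370)) (tt N112879 (iv3 F483114)) (tt N115224 (iv4 F494099)) (tt N86610 (iv5 F376596)) (tt N114517 (iv6 F490553)) (tt N115149 (iv7 F493727)))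
theorem Q86559 : ∀ i, i < 86559 → P i := stepQ 86558 Q86558 (allL N86558 (tt N114520 (iv1 F490572)) (tt N51377 (iv0 F376585)) (tt N114517 F490554) (tt N51339 F376483) (tt N85320 F376913) (tt N114977 (iv5 F492874)) (tt N51338 (iv6 D189371)) (tt N114518 (iv7 F490559)))
theorem Q86560 : ∀ i, i < 86560 → P i := stepQ 86559 Q86559 (allL N86559 (tt N115027 (iv1 F493107)) (tt N51339 (iv0 D189372)) (tt N86613 (iv2 F376926)) (tt N115207 (iv3 F494016)) (tt N86456 F376927) (tt N85171 F376928) (tt N114600 (iv6 F490955)) (tt N86702 F376929))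
theorem Q86561 : ∀ i, i < 86561 → P i := stepQ 86560 Q86560 (allL N86560 (tt N115189 F493937) (tt N104924 F447967) (tt N114600 (iv2 F490952)) (tt N114977 (iv3 F492872)) (tt N86701 (iv4 F376849)) (tt N51339 (iv5 D189374)) (tt N86613 (iv6 F376598)) (tt N114596 (iv7 F490935)))
theorem Q86562 : ∀ i, i < 86562 → P i := stepQ 86561 Q86561 (allL N86561 (tt N86702 (iv1 F376932)) (tt N86613 F376933) (tt N115027 (iv2 F493103)) (tt N114518 F490561) (tt N51342 F376484) (tt N114596 (iv5 F490936)) (tt N113557 F486028) (tt N51339 (iv7 D189375)))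
theorem Q86563 : ∀ i, i < 86563 → P i := stepQ 86562 Q86562 (allL N86562 (tt N87604 (iv1 F379897)) (tt N86763 F377099) (tt N86824 (iv2 F377310)) (tt N51340 (iv3 D189377)) (tt N115241 D218498) (tt N86307 (iv5 F377004)) (tt N87502 F379583) (tt N87545 (iv7 F379717)))
theorem Q86564 : ∀ i, i < 86564 → P i := stepQ 86563 Q86563 (allL N86563 (tt N115170 (iv1 F493833)) (tt N51416 F395358) (tt N114604 (iv2 F490973)) (tt N86519 F376923) (tt N51340 (iv4 D189378)) (tt N51384 F376924) (tt N86698 F376925) (tt N115026 (iv7 F493100)))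
theorem Q86565 : ∀ i, i < 86565 → P i := stepQ 86564 Q86564 (allL N86564 (tt N78779 F376486) (tt N86042 F376487) (tt N86040 F376954) (tt N86307 F376963) (tt N114593 (iv4 F490921)) (tt N51340 (iv5 D189379)) (tt N86306 (iv6 F376960)) (tt N86039 F376952))
theorem Q86566 : ∀ i, i < 86566 → P i := stepQ 86565 Q86565 (allL N86565 (tt N51416 F410146) (tt N115170 F493832) (tt N115026 (iv2 F493097)) (tt N115242 D218499) (tt N51341 (iv4 D189382)) (tt N114605 (iv5 F490982)) (tt N115243 D218500) (tt N114604 F490978))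
theorem Q86567 : ∀ i, i < 86567 → P i := stepQ 86566 Q86566 (allL N86566 (tt N86042 (iv1 F376955)) (tt N78779 (iv0 F376490)) (tt N86039 (iv2 F376953)) (tt N86826 (iv3 F377322)) (tt N114306 (iv4 F489510)) (tt N51341 (iv5 D189383)) (tt N85869 F376489) (tt N86040 F376949))
theorem Q86568 : ∀ i, i < 86568 → P i := stepQ 86567 Q86567 (allL N86567 (tt N85754 F376491) (tt N85758 F379714) (tt N87544 (iv2 F379713)) (tt N86827 (iv3 F377327)) (tt N115243 (iv4 F494180)) (tt N114077 (iv5 F488481)) (tt N51341 (iv6 D189384)) (tt N115191 (iv7 F493949)))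
theorem Q86569 : ∀ i, i < 86569 → P i := stepQ 86568 Q86568 (allL N86568 (tt N52111 F376497) (tt N51573 F376498) (tt N51348 F376492) (tt N52139 F376493) (tt N86431 F376494) (tt N51344 (iv5 D189385)) (tt N52787 F376495) (tt N52109 F376496))
theorem Q86570 : ∀ i, i < 86570 → P i := stepQ 86569 Q86569 (allL N86569 (tt N52332 F376503) (tt N52328 (iv0 F376504)) (tt N84671 F376499) (tt N51347 (iv3 D189386)) (tt N84671 F376500) (tt N113630 (iv5 F486383)) (tt N84671 F376501) (tt N51788 F376502))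
theorem Q86571 : ∀ i, i < 86571 → P i := stepQ 86570 Q86570 (allL N86570 (tt N106718 (iv1 F455391)) (tt N103993 F443690) (tt N52787 F376505) (tt N51784 F376506) (tt N86571 (iv4 F376508)) (tt N52786 F376507) (tt N51348 (iv6 D189387)) (tt N97199 (iv7 F415853)))
theorem Q86572 : ∀ i, i < 86572 → P i := stepQ 86571 Q86571 (allL N86571 (tt N104941 (iv1 F448045)) (tt N97256 F416101) (tt N88473 (iv2 F383187)) (tt N86818 (iv3 F377292)) (tt N86570 F376508) (tt N78919 F376509) (tt N51350 (iv6 D189388)) (tt N61254 F376510))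
theorem Q86573 : ∀ i, i < 86573 → P i := stepQ 86572 Q86572 (allL N86572 (tt N87100 F380117) (tt N80662 (iv0 F376514)) (tt N87513 (iv2 F379615)) (tt N51351 (iv3 D189389)) (tt N51356 F376511) (tt N83587 F376512) (tt N115244 D218501) (tt N111740 (iv7 F477752)))
theorem Q86574 : ∀ i, i < 86574 → P i := stepQ 86573 Q86573 (allL N86573 (tt N78267 F382228) (tt N60220 (iv0 F376517)) (tt N68160 F376515) (tt N115244 (iv3 F494184)) (tt N51352 F376516) (tt N87414 (iv5 F379263)) (tt N51351 (iv6 D189390)) (tt N68162 (iv7 F376518)))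
theorem Q86575 : ∀ i, i < 86575 → P i := stepQ 86574 Q86574 (allL N86574 (tt N70024 F376523) (tt N70021 (iv0 F376524)) (tt N104818 (iv2 F447435)) (tt N51353 (iv3 D189391)) (tt N89635 (iv4 F387030)) (tt N60854 F376522) (tt N89634 F387027) (tt N86787 F377203))
theorem Q86576 : ∀ i, i < 86576 → P i := stepQ 86575 Q86575 (allL N86575 (tt N67421 F376527) (tt N85942 F376528) (tt N114966 (iv2 F492804)) (tt N80423 F376525) (tt N51354 (iv4 D189392)) (tt N115245 D218502) (tt N80422 F376526) (tt N66014 F377843))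
theorem Q86577 : ∀ i, i < 86577 → P i := stepQ 86576 Q86576 (allL N86576 (tt N51356 (iv1 D189393)) (tt N112879 F483112) (tt N52705 (iv2 F376530)) (tt N115246 D218503) (tt N52701 F376529) (tt N115148 (iv5 F493719)) (tt N115246 F494202) (tt N112877 (iv7 F483100)))
theorem Q86578 : ∀ i, i < 86578 → P i := stepQ 86577 Q86577 (allL N86577 (tt N112877 (iv1 F483103)) (tt N52705 F376897) (tt N51356 (iv2 D189394)) (tt N115149 (iv3 F493724)) (tt N87513 F379616) (tt N86579 (iv5 F376895)) (tt N115247 D218504) (tt N112879 (iv7 F483113)))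
theorem Q86579 : ∀ i, i < 86579 → P i := stepQ 86578 Q86578 (allL N86578 (tt N115248 D218505) (tt N115249 D218506) (tt N115247 (iv2 F494203)) (tt N51357 F376531) (tt N115244 (iv4 F494185)) (tt N115250 D218507) (tt N51356 (iv6 D189395)) (tt N115251 D218508))
theorem Q86580 : ∀ i, i < 86580 → P i := stepQ 86579 Q86579 (allL N86579 (tt N51357 (iv1 D189396)) (tt N113557 (iv0 F486022)) (tt N51367 F376893) (tt N114228 F489101) (tt N86464 F376894) (tt N86577 F376895) (tt N92977 (iv6 F398994)) (tt N86720 F376896))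
theorem Q86581 : ∀ i, i < 86581 → P i := stepQ 86580 Q86580 (allL N86580 (tt N86440 F381946) (tt N86610 F381949) (tt N84657 F376532) (tt N115250 (iv3 F494210)) (tt N84656 F376533) (tt N51357 (iv5 D189397)) (tt N86593 (iv6 F376552)) (tt N86609 (iv7 F376592)))
theorem Q86582 : ∀ i, i < 86582 → P i := stepQ 86581 Q86581 (allL N86581 (tt N51367 (iv1 F376535)) (tt N86720 (iv0 F376892)) (tt N113557 (iv2 F486019)) (tt N115251 (iv3 F494214)) (tt N51361 F376534) (tt N86609 F376595) (tt N115027 (iv6 F493105)) (tt N51357 (iv7 D189398)))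
theorem Q86583 : ∀ i, i < 86583 → P i := stepQ 86582 Q86582 (allL N86582 (tt N115177 (iv1 F493875)) (tt N51434 (iv0 F376536)) (tt N86636 (iv2 F376633)) (tt N115219 (iv3 F494069)) (tt N51358 (iv4 D189399)) (tt N88364 (iv5 F382756)) (tt N115252 D218509) (tt N115151 (iv7 F493740)))
theorem Q86584 : ∀ i, i < 86584 → P i := stepQ 86583 Q86583 (allL N86583 (tt N108781 (iv1 F463901)) (tt N61584 (iv0 F380119)) (tt N87676 (iv2 F380120)) (tt N86836 (iv3 F377376)) (tt N87675 F380118) (tt N51358 (iv5 D189400)) (tt N104966 (iv6 F448182)) (tt N60849 F376537))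
theorem Q86585 : ∀ i, i < 86585 → P i := stepQ 86584 Q86584 (allL N86584 (tt N94007 (iv1 F416090)) (tt N97253 (iv0 F416089)) (tt N104937 (iv2 F448027)) (tt N86837 (iv3 F377383)) (tt N115252 (iv4 F494217)) (tt N86601 F376574) (tt N51358 (iv6 D189401)) (tt N104918 (iv7 F447935)))
theorem Q86586 : ∀ i, i < 86586 → P i := stepQ 86585 Q86585 (allL N86585 (tt N86769 F377117) (tt N105908 F452293) (tt N86838 (iv2 F377385)) (tt N51359 (iv3 D189402)) (tt N88819 (iv4 F384247)) (tt N114431 (iv5 F490124)) (tt N61341 F376538) (tt N115141 (iv7 F493691)))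
theorem Q86587 : ∀ i, i < 86587 → P i := stepQ 86586 Q86586 (allL N86586 (tt N51434 (iv1 F376636)) (tt N115177 F493874) (tt N115151 (iv2 F493736)) (tt N86630 F376635) (tt N51359 (iv4 D189403)) (tt N88362 (iv5 F382747)) (tt N93173 F399800) (tt N86636 (iv7 F376634)))
theorem Q86588 : ∀ i, i < 86588 → P i := stepQ 86587 Q86587 (allL N86587 (tt N91783 (iv1 F394401)) (tt N51360 (iv0 D189404)) (tt N86295 (iv2 F376541)) (tt N70502 F376542) (tt N70510 F376539) (tt N115205 (iv5 F494009)) (tt N70500 F376540) (tt N91782 (iv7 F394390)))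
theorem Q86589 : ∀ i, i < 86589 → P i := stepQ 86588 Q86588 (allL N86588 (tt N113685 (iv1 F486624)) (tt N113781 (iv0 F487081)) (tt N79085 F376543) (tt N84932 F376544) (tt N107005 (iv4 F456619)) (tt N51364 (iv5 D189405)) (tt N64213 F376545) (tt N114499 (iv7 F490481)))
theorem Q86590 : ∀ i, i < 86590 → P i := stepQ 86589 Q86589 (allL N86589 (tt N115253 D218510) (tt N115254 D218511) (tt N115255 D218512) (tt N51366 (iv3 D189406)) (tt N91249 (iv4 F392404)) (tt N83954 F376546) (tt N91248 (iv6 F392400)) (tt N85760 F376547))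
theorem Q86591 : ∀ i, i < 86591 → P i := stepQ 86590 Q86590 (allL N86590 (tt N104999 F448308) (tt N86685 (iv0 F376899)) (tt N86664 (iv2 F376721)) (tt N91248 F392398) (tt N83750 F376548) (tt N114864 (iv5 F492234)) (tt N51366 (iv6 D189407)) (tt N115199 (iv7 F493985)))
theorem Q86592 : ∀ i, i < 86592 → P i := stepQ 86591 Q86591 (allL N86591 (tt N115155 (iv1 F493765)) (tt N51368 (iv0 D189409)) (tt N115153 (iv2 F493751)) (tt N104923 (iv3 F447960)) (tt N92032 (iv4 F395458)) (tt N60308 F376551) (tt N115187 (iv6 F493927)) (tt N115154 (iv7 F493755)))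
theorem Q86593 : ∀ i, i < 86593 → P i := stepQ 86592 Q86592 (allL N86592 (tt N51368 (iv1 D189410)) (tt N115155 F493764) (tt N115154 F493757) (tt N115189 (iv3 F493935)) (tt N92033 F395448) (tt N115194 (iv5 F493961)) (tt N115256 D218513) (tt N115153 F493752))
theorem Q86594 : ∀ i, i < 86594 → P i := stepQ 86593 Q86593 (allL N86593 (tt N103956 (iv1 F443522)) (tt N115207 F494020) (tt N114229 (iv2 F489102)) (tt N115185 (iv3 F493915)) (tt N96224 (iv4 F411580)) (tt N51368 (iv5 D189411)) (tt N86580 F376552) (tt N115206 (iv7 F494012)))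
theorem Q86595 : ∀ i, i < 86595 → P i := stepQ 86594 Q86594 (allL N86594 (tt N115154 (iv1 F493754)) (tt N115153 F493753) (tt N115155 (iv2 F493761)) (tt N61030 F376553) (tt N51372 F376554) (tt N115206 (iv5 F494014)) (tt N114520 (iv6 F490570)) (tt N51368 (iv7 D189412)))
theorem Q86596 : ∀ i, i < 86596 → P i := stepQ 86595 Q86595 (allL N86595 (tt N100517 (iv1 F429284)) (tt N86771 F377125) (tt N86851 (iv2 F377435)) (tt N51369 (iv3 D189414)) (tt N68104 F376556) (tt N73139 (iv5 F376557)) (tt N115023 (iv6 F493085)) (tt N104881 (iv7 F447784)))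
theorem Q86597 : ∀ i, i < 86597 → P i := stepQ 86596 Q86596 (allL N86596 (tt N115163 (iv1 F493806)) (tt N51382 F429285) (tt N115156 (iv2 F493766)) (tt N115257 D218514) (tt N51369 (iv4 D189415)) (tt N115257 F494242) (tt N115025 (iv6 F493095)) (tt N115158 (iv7 F493776)))
theorem Q86598 : ∀ i, i < 86598 → P i := stepQ 86597 Q86597 (allL N86597 (tt N96230 F413803) (tt N96227 (iv0 F411598)) (tt N115157 (iv2 F493770)) (tt N73139 F376558) (tt N108078 (iv4 F461018)) (tt N51369 (iv5 D189416)) (tt N73137 (iv6 F376559)) (tt N98472 (iv7 F421030)))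
theorem Q86599 : ∀ i, i < 86599 → P i := stepQ 86598 Q86598 (allL N86598 (tt N51382 F400101) (tt N115163 F493805) (tt N115158 (iv2 F493775)) (tt N115258 D218515) (tt N51370 (iv4 D189419)) (tt N115259 D218516) (tt N115260 D218517) (tt N115156 (iv7 F493767)))
theorem Q86600 : ∀ i, i < 86600 → P i := stepQ 86599 Q86599 (allL N86599 (tt N96227 (iv1 F411599)) (tt N96230 (iv0 F411614)) (tt N98472 (iv2 F421028)) (tt N86855 (iv3 F377452)) (tt N98101 (iv4 F419459)) (tt N51370 (iv5 D189420)) (tt N86482 F376570) (tt N115157 (iv7 F493773)))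
theorem Q86601 : ∀ i, i < 86601 → P i := stepQ 86600 Q86600 (allL N86600 (tt N98575 (iv1 F421411)) (tt N98582 F421451) (tt N98580 (iv2 F421444)) (tt N86856 (iv3 F377455)) (tt N115260 (iv4 F494249)) (tt N55783 F376571) (tt N51370 (iv6 D189421)) (tt N98579 F421439))
theorem Q86602 : ∀ i, i < 86602 → P i := stepQ 86601 Q86601 (allL N86601 (tt N51371 (iv1 D189422)) (tt N79982 F376572) (tt N114081 (iv2 F488506)) (tt N79890 (iv3 F376575)) (tt N98181 (iv4 F419879)) (tt N86584 (iv5 F376574)) (tt N80901 (iv6 F376576)) (tt N78882 F376573))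
theorem Q86603 : ∀ i, i < 86603 → P i := stepQ 86602 Q86602 (allL N86602 (tt N114081 (iv1 F488500)) (tt N78882 F376580) (tt N79982 F376577) (tt N75789 F376578) (tt N96222 (iv4 F411571)) (tt N51372 F376579) (tt N113711 (iv6 F486772)) (tt N51371 (iv7 D189423)))
theorem Q86604 : ∀ i, i < 86604 → P i := stepQ 86603 Q86603 (allL N86603 (tt N111005 (iv1 F474202)) (tt N104021 F443820) (tt N51375 F376581) (tt N109746 (iv3 F468412)) (tt N88293 (iv4 F382483)) (tt N107220 (iv5 F457506)) (tt N51373 (iv6 D189424)) (tt N115261 D218518))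
theorem Q86605 : ∀ i, i < 86605 → P i := stepQ 86604 Q86604 (allL N86604 (tt N87880 F380947) (tt N114705 (iv0 F491438)) (tt N115262 D218519) (tt N51374 (iv3 D189425)) (tt N51376 F376582) (tt N82987 F376583) (tt N86808 F377267) (tt N88153 (iv7 F381943)))
theorem Q86606 : ∀ i, i < 86606 → P i := stepQ 86605 Q86605 (allL N86605 (tt N108641 (iv1 F463332)) (tt N85695 (iv0 F377270)) (tt N88293 (iv2 F382481)) (tt N86808 F377266) (tt N51375 F376586) (tt N86807 (iv5 F377268)) (tt N51374 (iv6 D189426)) (tt N115263 D218520))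
theorem Q86607 : ∀ i, i < 86607 → P i := stepQ 86606 Q86606 (allL N86606 (tt N115261 (iv1 F494257)) (tt N51375 (iv0 D189427)) (tt N111005 (iv2 F474196)) (tt N63418 (iv3 F387426)) (tt N97259 (iv4 F416111)) (tt N61327 F376587) (tt N97993 (iv6 F419092)) (tt N104021 (iv7 F443817)))
theorem Q86608 : ∀ i, i < 86608 → P i := stepQ 86607 Q86607 (allL N86607 (tt N51375 (iv1 D189428)) (tt N115261 F494256) (tt N104021 (iv2 F443814)) (tt N110526 (iv3 F471989)) (tt N103209 (iv4 F440578)) (tt N61328 (iv5 F376588)) (tt N68377 (iv6 F376589)) (tt N111005 (iv7 F474200)))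
theorem Q86609 : ∀ i, i < 86609 → P i := stepQ 86608 Q86608 (allL N86608 (tt N104021 F443819) (tt N111005 (iv0 F474201)) (tt N115261 (iv2 F494251)) (tt N51380 F376590) (tt N115263 (iv4 F494267)) (tt N98260 (iv5 F420223)) (tt N79983 F376591) (tt N51375 (iv7 D189429)))
theorem Q86610 : ∀ i, i < 86610 → P i := stepQ 86609 Q86609 (allL N86609 (tt N51376 (iv1 D189430)) (tt N114228 F489099) (tt N83575 (iv2 F376594)) (tt N115264 D218521) (tt N83574 F376593) (tt N86581 (iv5 F376595)) (tt N115233 (iv6 F494148)) (tt N86580 F376592))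
theorem Q86611 : ∀ i, i < 86611 → P i := stepQ 86610 Q86610 (allL N86610 (tt N86580 (iv1 F381949)) (tt N83575 F381948) (tt N51376 (iv2 D189431)) (tt N86720 F376900) (tt N115262 (iv4 F494259)) (tt N86557 F376596) (tt N86509 F376607) (tt N114228 (iv7 F489100)))
theorem Q86612 : ∀ i, i < 86612 → P i := stepQ 86611 Q86611 (allL N86611 (tt N115184 (iv1 F493914)) (tt N115185 (iv0 F493918)) (tt N86509 (iv2 F376605)) (tt N51377 F376597) (tt N86808 (iv4 F377264)) (tt N86043 F376604) (tt N51376 (iv6 D189432)) (tt N86504 (iv7 F376606)))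
theorem Q86613 : ∀ i, i < 86613 → P i := stepQ 86612 Q86612 (allL N86612 (tt N51377 (iv1 D189433)) (tt N114520 F490571) (tt N114518 F490562) (tt N111736 (iv3 F477730)) (tt N85321 (iv4 F387427)) (tt N115186 (iv5 F493921)) (tt N115202 (iv6 F493998)) (tt N114517 (iv7 F490557)))
theorem Q86614 : ∀ i, i < 86614 → P i := stepQ 86613 Q86613 (allL N86613 (tt N86561 (iv1 F376933)) (tt N86151 (iv0 F376930)) (tt N86559 F376926) (tt N86043 (iv3 F376603)) (tt N51417 F376838) (tt N51377 (iv5 D189434)) (tt N86560 F376598) (tt N86503 F376602))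
theorem Q86615 : ∀ i, i < 86615 → P i := stepQ 86614 Q86614 (allL N86614 (tt N114518 (iv1 F490558)) (tt N114517 (iv0 F490556)) (tt N114520 (iv2 F490566)) (tt N86504 F376601) (tt N51380 F376599) (tt N86503 (iv5 F376600)) (tt N115155 (iv6 F493763)) (tt N51377 (iv7 D189435)))
theorem Q86616 : ∀ i, i < 86616 → P i := stepQ 86615 Q86615 (allL N86615 (tt N114605 (iv1 F490985)) (tt N51384 F379477) (tt N114515 (iv2 F490540)) (tt N115265 D218522) (tt N51378 (iv4 D189438)) (tt N86517 F395359) (tt N115266 D218523) (tt N114516 (iv7 F490548)))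
theorem Q86617 : ∀ i, i < 86617 → P i := stepQ 86616 Q86616 (allL N86616 (tt N115166 F493813) (tt N98578 (iv0 F421433)) (tt N112067 (iv2 F479332)) (tt N86865 F379479) (tt N115266 (iv4 F494282)) (tt N91782 F394393) (tt N51378 (iv6 D189439)) (tt N115205 (iv7 F494010)))
theorem Q86618 : ∀ i, i < 86618 → P i := stepQ 86617 Q86617 (allL N86617 (tt N52021 (iv1 F376612)) (tt N52010 (iv0 F376611)) (tt N86866 (iv2 F379474)) (tt N51379 (iv3 D189441)) (tt N87973 (iv4 F381337)) (tt N63945 F376610) (tt N115204 (iv6 F494004)) (tt N114514 (iv7 F490536)))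
theorem Q86619 : ∀ i, i < 86619 → P i := stepQ 86618 Q86618 (allL N86618 (tt N51384 F376614) (tt N114605 F490984) (tt N114516 (iv2 F490545)) (tt N115267 D218524) (tt N51379 (iv4 D189442)) (tt N115268 D218525) (tt N115160 F493790) (tt N114515 (iv7 F490541)))
theorem Q86620 : ∀ i, i < 86620 → P i := stepQ 86619 Q86619 (allL N86619 (tt N114608 (iv1 F490994)) (tt N51381 (iv0 D189444)) (tt N114607 F490996) (tt N86462 F376615) (tt N93248 (iv4 F400109)) (tt N86626 (iv5 F400112)) (tt N86461 (iv6 F376616)) (tt N114606 F490988))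
theorem Q86621 : ∀ i, i < 86621 → P i := stepQ 86620 Q86620 (allL N86620 (tt N51381 (iv1 D189445)) (tt N114608 F490999) (tt N114606 (iv2 F490998)) (tt N115269 D218526) (tt N115270 D218527) (tt N86627 (iv5 F491000)) (tt N115210 F494037) (tt N114607 F490997))
theorem Q86622 : ∀ i, i < 86622 → P i := stepQ 86621 Q86621 (allL N86621 (tt N114607 (iv1 F490995)) (tt N114606 F490987) (tt N51381 (iv2 D189446)) (tt N115161 (iv3 F493792)) (tt N97691 F417919) (tt N86715 (iv5 F376883)) (tt N115271 D218528) (tt N114608 (iv7 F490993)))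
theorem Q86623 : ∀ i, i < 86623 → P i := stepQ 86622 Q86622 (allL N86622 (tt N97707 (iv1 F417999)) (tt N52670 (iv0 F376867)) (tt N97691 (iv2 F417918)) (tt N86708 (iv3 F376864)) (tt N51381 (iv4 D189447)) (tt N83566 (iv5 F376617)) (tt N115272 D218529) (tt N97705 F417991))
theorem Q86624 : ∀ i, i < 86624 → P i := stepQ 86623 Q86623 (allL N86623 (tt N68639 F493760) (tt N115273 D218530) (tt N115271 (iv2 F494302)) (tt N51382 F376618) (tt N115272 (iv4 F494311)) (tt N115274 D218531) (tt N51381 (iv6 D189448)) (tt N115275 D218532))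
theorem Q86625 : ∀ i, i < 86625 → P i := stepQ 86624 Q86624 (allL N86624 (tt N86639 F447753) (tt N111742 (iv0 F477755)) (tt N97306 (iv2 F416306)) (tt N115274 (iv3 F494322)) (tt N97303 (iv4 F416293)) (tt N51382 (iv5 D189451)) (tt N86717 (iv6 F376885)) (tt N97301 F416290))
theorem Q86626 : ∀ i, i < 86626 → P i := stepQ 86625 Q86625 (allL N86625 (tt N115158 (iv1 F493778)) (tt N115156 (iv0 F493768)) (tt N115163 (iv2 F493801)) (tt N115275 (iv3 F494325)) (tt N78924 F376619) (tt N97301 (iv5 F416289)) (tt N114605 (iv6 F490983)) (tt N51382 (iv7 D189452)))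
theorem Q86627 : ∀ i, i < 86627 → P i := stepQ 86626 Q86626 (allL N86626 (tt N115161 (iv1 F493795)) (tt N51383 (iv0 D189453)) (tt N115160 F493789) (tt N115176 (iv3 F493865)) (tt N104017 F447619) (tt N86619 F400112) (tt N114516 (iv6 F490547)) (tt N115159 F493785))
theorem Q86628 : ∀ i, i < 86628 → P i := stepQ 86627 Q86627 (allL N86627 (tt N51383 (iv1 D189454)) (tt N115161 F493796) (tt N115159 F493784) (tt N115276 D218533) (tt N104018 (iv4 F443803)) (tt N86620 F491000) (tt N115277 D218534) (tt N115160 (iv7 F493786)))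
theorem Q86629 : ∀ i, i < 86629 → P i := stepQ 86628 Q86628 (allL N86628 (tt N104828 (iv1 F447496)) (tt N104820 (iv0 F447451)) (tt N56610 F376620) (tt N69564 F376621) (tt N51383 (iv4 D189455)) (tt N60777 (iv5 F376623)) (tt N56608 F376622) (tt N91045 (iv7 F391735)))
theorem Q86630 : ∀ i, i < 86630 → P i := stepQ 86629 Q86629 (allL N86629 (tt N51386 (iv1 F376629)) (tt N51385 (iv0 D189458)) (tt N51389 (iv2 F376625)) (tt N86640 (iv3 F376640)) (tt N85747 F376626) (tt N86449 F376627) (tt N115278 D218535) (tt N51387 F376628))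
theorem Q86631 : ∀ i, i < 86631 → P i := stepQ 86630 Q86630 (allL N86630 (tt N51389 F486024) (tt N51387 F486025) (tt N51385 (iv2 D189459)) (tt N86586 (iv3 F376635)) (tt N115279 D218536) (tt N115278 (iv5 F494343)) (tt N115280 D218537) (tt N51386 (iv7 F376630)))
theorem Q86632 : ∀ i, i < 86632 → P i := stepQ 86631 Q86631 (allL N86631 (tt N115276 (iv1 F494334)) (tt N115281 D218538) (tt N86525 F430971) (tt N51385 (iv3 D189460)) (tt N115282 D218539) (tt N51391 F430972) (tt N86428 F430973) (tt N115220 (iv7 F494076)))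
theorem Q86633 : ∀ i, i < 86633 → P i := stepQ 86632 Q86632 (allL N86632 (tt N115283 D218540) (tt N111068 (iv0 F474510)) (tt N115279 (iv2 F494346)) (tt N115284 D218541) (tt N51385 (iv4 D189461)) (tt N100919 (iv5 F430960)) (tt N79872 F430963) (tt N115285 D218542))
theorem Q86634 : ∀ i, i < 86634 → P i := stepQ 86633 Q86633 (allL N86633 (tt N115286 D218543) (tt N86546 F430967) (tt N115278 (iv2 F494339)) (tt N51391 F430968) (tt N85748 F430969) (tt N51385 (iv5 D189462)) (tt N51389 F430970) (tt N115214 (iv7 F494054)))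
theorem Q86635 : ∀ i, i < 86635 → P i := stepQ 86634 Q86634 (allL N86634 (tt N115287 D218544) (tt N115258 (iv0 F494244)) (tt N115280 (iv2 F494352)) (tt N86428 (iv3 F430966)) (tt N79872 (iv4 F430964)) (tt N86427 F430965) (tt N51385 (iv6 D189463)) (tt N115288 D218545))
theorem Q86636 : ∀ i, i < 86636 → P i := stepQ 86635 Q86635 (allL N86635 (tt N51387 F486026) (tt N51389 F486027) (tt N51386 F376631) (tt N115220 (iv3 F494074)) (tt N115285 (iv4 F494380)) (tt N115214 F494055) (tt N115289 D218546) (tt N51385 (iv7 D189464)))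
theorem Q86637 : ∀ i, i < 86637 → P i := stepQ 86636 Q86636 (allL N86636 (tt N86718 F376887) (tt N86462 (iv0 F465598)) (tt N86582 F376633) (tt N51386 (iv3 D189465)) (tt N86436 (iv4 F376632)) (tt N112878 (iv5 F483107)) (tt N115290 D218547) (tt N86586 F376634))
theorem Q86638 : ∀ i, i < 86638 → P i := stepQ 86637 Q86637 (allL N86637 (tt N111068 F474730) (tt N115283 (iv0 F494371)) (tt N115285 (iv2 F494378)) (tt N104877 (iv3 F447762)) (tt N51386 (iv4 D189466)) (tt N100922 (iv5 F430977)) (tt N104874 (iv6 F447751)) (tt N115279 (iv7 F494348)))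
theorem Q86639 : ∀ i, i < 86639 → P i := stepQ 86638 Q86638 (allL N86638 (tt N86546 (iv1 F377576)) (tt N115286 F494388) (tt N115214 (iv2 F494051)) (tt N112878 (iv3 F483108)) (tt N115291 D218548) (tt N51386 (iv5 D189467)) (tt N115181 F493902) (tt N115278 (iv7 F494342)))
theorem Q86640 : ∀ i, i < 86640 → P i := stepQ 86639 Q86639 (allL N86639 (tt N115265 (iv1 F494281)) (tt N86624 (iv0 F447753)) (tt N115289 (iv2 F494400)) (tt N115290 (iv3 F494407)) (tt N104874 F447752) (tt N115182 (iv5 F493904)) (tt N51386 (iv6 D189468)) (tt N115292 D218549))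
theorem Q86641 : ∀ i, i < 86641 → P i := stepQ 86640 Q86640 (allL N86640 (tt N86448 (iv1 F376642)) (tt N86447 F376643) (tt N51388 F376639) (tt N86629 F376640) (tt N88363 (iv4 F382750)) (tt N51387 (iv5 D189471)) (tt N88362 F382748) (tt N86449 F376641))
theorem Q86642 : ∀ i, i < 86642 → P i := stepQ 86641 Q86641 (allL N86641 (tt N86449 (iv1 F376644)) (tt N51388 (iv0 D189472)) (tt N86448 F479284) (tt N115243 (iv3 F494179)) (tt N115293 D218550) (tt N91233 (iv5 F413685)) (tt N115242 (iv6 F494178)) (tt N86447 (iv7 F479283)))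
theorem Q86643 : ∀ i, i < 86643 → P i := stepQ 86642 Q86642 (allL N86642 (tt N51388 (iv1 D189473)) (tt N86449 F376645) (tt N86447 (iv2 F479281)) (tt N88033 (iv3 F381537)) (tt N115294 D218551) (tt N91234 F474468) (tt N115295 D218552) (tt N86448 F479285))
theorem Q86644 : ∀ i, i < 86644 → P i := stepQ 86643 Q86643 (allL N86643 (tt N115296 D218553) (tt N115297 D218554) (tt N88363 (iv2 F382749)) (tt N52122 F376646) (tt N51388 (iv4 D189474)) (tt N88067 (iv5 F381661)) (tt N52120 (iv6 F376648)) (tt N86424 F376647))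
theorem Q86645 : ∀ i, i < 86645 → P i := stepQ 86644 Q86644 (allL N86644 (tt N115298 D218555) (tt N115299 D218556) (tt N88362 (iv2 F382746)) (tt N51390 F376649) (tt N52120 F376650) (tt N115151 (iv5 F493738)) (tt N51388 (iv6 D189475)) (tt N88364 (iv7 F382757)))
theorem Q86646 : ∀ i, i < 86646 → P i := stepQ 86645 Q86645 (allL N86645 (tt N86527 (iv1 F376658)) (tt N51390 (iv0 D189477)) (tt N86648 (iv2 F486424)) (tt N115300 D218557) (tt N86665 (iv4 F376724)) (tt N115301 D218558) (tt N109244 (iv6 F465960)) (tt N86649 F486428))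
theorem Q86647 : ∀ i, i < 86647 → P i := stepQ 86646 Q86646 (allL N86646 (tt N51390 (iv1 D189478)) (tt N86527 F376654) (tt N86649 F486427) (tt N115174 F493853) (tt N86666 F399007) (tt N115230 (iv5 F494133)) (tt N115302 D218559) (tt N86648 (iv7 F486426)))
theorem Q86648 : ∀ i, i < 86648 → P i := stepQ 86647 Q86647 (allL N86647 (tt N86649 (iv1 F376660)) (tt N86648 F376659) (tt N86527 F376655) (tt N88364 (iv3 F382755)) (tt N86430 F376656) (tt N115219 (iv5 F494071)) (tt N86429 F376657) (tt N51390 (iv7 D189479)))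
theorem Q86649 : ∀ i, i < 86649 → P i := stepQ 86648 Q86648 (allL N86648 (tt N86647 (iv1 F376659)) (tt N51391 (iv0 D189480)) (tt N86645 F486424) (tt N86695 F486419) (tt N113637 (iv4 F486418)) (tt N115303 D218560) (tt N115304 D218561) (tt N86646 F486426))
theorem Q86650 : ∀ i, i < 86650 → P i := stepQ 86649 Q86649 (allL N86649 (tt N51391 (iv1 D189481)) (tt N86647 F376660) (tt N86646 (iv2 F486427)) (tt N115305 D218562) (tt N113638 F486431) (tt N115306 D218563) (tt N115305 F494485) (tt N86645 (iv7 F486428)))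
theorem Q86651 : ∀ i, i < 86651 → P i := stepQ 86650 Q86650 (allL N86650 (tt N87546 (iv1 F379722)) (tt N86827 (iv0 F377328)) (tt N94016 (iv2 F402828)) (tt N109723 (iv3 F468294)) (tt N104035 F443891) (tt N51392 (iv5 D189484)) (tt N94014 (iv6 F402826)) (tt N84466 F376670))
theorem Q86652 : ∀ i, i < 86652 → P i := stepQ 86651 Q86651 (allL N86651 (tt N98580 (iv1 F421440)) (tt N98579 (iv0 F421437)) (tt N98582 (iv2 F421447)) (tt N107004 (iv3 F456611)) (tt N115239 (iv4 F494164)) (tt N81444 F376664) (tt N51392 (iv6 D189485)) (tt N98575 (iv7 F421409)))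
theorem Q86653 : ∀ i, i < 86653 → P i := stepQ 86652 Q86652 (allL N86652 (tt N86664 F376723) (tt N115199 (iv0 F493986)) (tt N86685 F376796) (tt N115235 (iv3 F494150)) (tt N51393 (iv4 D189488)) (tt N115235 (iv5 F494151)) (tt N115148 F493721) (tt N104999 (iv7 F448307)))
theorem Q86654 : ∀ i, i < 86654 → P i := stepQ 86653 Q86653 (allL N86653 (tt N86827 (iv1 F379888)) (tt N87546 (iv0 F379721)) (tt N84466 (iv2 F376667)) (tt N94018 (iv3 F402837)) (tt N88348 (iv4 F382682)) (tt N51393 (iv5 D189489)) (tt N81654 F376666) (tt N94016 (iv7 F402830)))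
theorem Q86655 : ∀ i, i < 86655 → P i := stepQ 86654 Q86654 (allL N86654 (tt N115205 F494011) (tt N112067 (iv0 F479334)) (tt N115166 (iv2 F493808)) (tt N74384 (iv3 F376674)) (tt N115148 (iv4 F493720)) (tt N74382 F376673) (tt N51393 (iv6 D189490)) (tt N98578 (iv7 F421432)))
theorem Q86656 : ∀ i, i < 86656 → P i := stepQ 86655 Q86655 (allL N86655 (tt N52082 F376684) (tt N51768 F376685) (tt N52057 F376682) (tt N86809 (iv3 F377271)) (tt N103970 (iv4 F443577)) (tt N51394 (iv5 D189491)) (tt N86807 F377269) (tt N51936 F376683))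
theorem Q86657 : ∀ i, i < 86657 → P i := stepQ 86656 Q86656 (allL N86656 (tt N59735 F376689) (tt N104982 F448261) (tt N104981 (iv2 F448250)) (tt N51395 (iv3 D189492)) (tt N59930 F376686) (tt N87145 (iv5 F378537)) (tt N62656 F376687) (tt N52064 F376688))
theorem Q86658 : ∀ i, i < 86658 → P i := stepQ 86657 Q86657 (allL N86657 (tt N86905 F377658) (tt N51410 (iv0 F376695)) (tt N83948 F376690) (tt N86415 F376691) (tt N76476 F376694) (tt N51396 (iv5 D189493)) (tt N85408 (iv6 F376693)) (tt N76473 F376692))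
theorem Q86659 : ∀ i, i < 86659 → P i := stepQ 86658 Q86658 (allL N86658 (tt N51410 F376701) (tt N86905 F377659) (tt N76473 F376698) (tt N83722 F376699) (tt N76329 F376702) (tt N51397 (iv5 D189494)) (tt N76328 (iv6 F376703)) (tt N83948 F376700))
theorem Q86660 : ∀ i, i < 86660 → P i := stepQ 86659 Q86659 (allL N86659 (tt N83946 (iv1 F376705)) (tt N51398 (iv0 D189495)) (tt N83951 (iv2 F376706)) (tt N88429 (iv3 F383015)) (tt N105019 (iv4 F448409)) (tt N85932 F376704) (tt N113696 (iv6 F486682)) (tt N83950 (iv7 F376707)))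
theorem Q86661 : ∀ i, i < 86661 → P i := stepQ 86660 Q86660 (allL N86660 (tt N51398 (iv1 D189496)) (tt N83946 F376708) (tt N83950 (iv2 F376711)) (tt N76456 (iv3 F376712)) (tt N105018 (iv4 F448401)) (tt N85431 F376710) (tt N79088 (iv6 F376713)) (tt N83951 F376709))
theorem Q86662 : ∀ i, i < 86662 → P i := stepQ 86661 Q86661 (allL N86661 (tt N91211 (iv1 F392279)) (tt N51547 F376715) (tt N91214 F392293) (tt N113591 (iv3 F486188)) (tt N51398 (iv4 D189497)) (tt N104210 (iv5 F444706)) (tt N113589 F486180) (tt N83952 F376714))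
theorem Q86663 : ∀ i, i < 86663 → P i := stepQ 86662 Q86662 (allL N86662 (tt N87159 F378576) (tt N87648 F397525) (tt N87647 F379987) (tt N51400 F376716) (tt N113589 (iv4 F486179)) (tt N76476 F376717) (tt N51398 (iv6 D189498)) (tt N76469 F376718))
theorem Q86664 : ∀ i, i < 86664 → P i := stepQ 86663 Q86663 (allL N86663 (tt N115307 D218564) (tt N115308 D218565) (tt N114862 (iv2 F492224)) (tt N51399 (iv3 D189499)) (tt N113591 (iv4 F486189)) (tt N85760 F376719) (tt N113590 F486186) (tt N83954 F376720))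
theorem Q86665 : ∀ i, i < 86665 → P i := stepQ 86664 Q86664 (allL N86664 (tt N86553 F445387) (tt N86652 (iv0 F376723)) (tt N86590 F376721) (tt N113590 (iv3 F486183)) (tt N51400 F376722) (tt N115254 (iv5 F494226)) (tt N51399 (iv6 D189500)) (tt N115309 D218566))
theorem Q86666 : ∀ i, i < 86666 → P i := stepQ 86665 Q86665 (allL N86665 (tt N92979 F399005) (tt N51400 (iv0 D189501)) (tt N113637 F486423) (tt N75236 (iv3 F376726)) (tt N86645 F376724) (tt N113698 (iv5 F486690)) (tt N75234 F376725) (tt N113638 (iv7 F486430)))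
theorem Q86667 : ∀ i, i < 86667 → P i := stepQ 86666 Q86666 (allL N86666 (tt N51400 (iv1 D189502)) (tt N92979 F399006) (tt N113638 (iv2 F486435)) (tt N92012 F399008) (tt N86646 (iv4 F399007)) (tt N113684 (iv5 F486616)) (tt N115310 D218567) (tt N113637 F486425))
theorem Q86668 : ∀ i, i < 86668 → P i := stepQ 86667 Q86667 (allL N86667 (tt N113638 (iv1 F486429)) (tt N113637 F486422) (tt N92979 (iv2 F399002)) (tt N76469 F376727) (tt N115309 (iv4 F494506)) (tt N76471 F376728) (tt N56609 F376729) (tt N51400 (iv7 D189503)))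
theorem Q86669 : ∀ i, i < 86669 → P i := stepQ 86668 Q86668 (allL N86668 (tt N92013 (iv1 F395352)) (tt N92012 F395351) (tt N83596 F376730) (tt N57212 F376731) (tt N83603 F376732) (tt N57212 F376733) (tt N51401 (iv6 D189504)) (tt N56410 F376734))
theorem Q86670 : ∀ i, i < 86670 → P i := stepQ 86669 Q86669 (allL N86669 (tt N86833 (iv1 F377366)) (tt N86832 (iv0 F377358)) (tt N51405 F376748) (tt N65607 (iv3 F376750)) (tt N51402 (iv4 D189505)) (tt N81605 F376749) (tt N93194 (iv6 F399908)) (tt N93215 (iv7 F399999)))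
theorem Q86671 : ∀ i, i < 86671 → P i := stepQ 86670 Q86670 (allL N86670 (tt N93177 F399822) (tt N104793 (iv0 F447301)) (tt N51406 F376751) (tt N93192 (iv3 F399887)) (tt N93194 (iv4 F399906)) (tt N98216 (iv5 F420023)) (tt N51402 (iv6 D189506)) (tt N93198 (iv7 F399930)))
theorem Q86672 : ∀ i, i < 86672 → P i := stepQ 86671 Q86671 (allL N86671 (tt N86409 (iv1 F376755)) (tt N86415 F377088) (tt N83736 F376752) (tt N51404 (iv3 D189507)) (tt N108483 (iv4 F462783)) (tt N83735 F376753) (tt N73779 F376754) (tt N114946 (iv7 F492699)))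
theorem Q86673 : ∀ i, i < 86673 → P i := stepQ 86672 Q86672 (allL N86672 (tt N88300 F382504) (tt N51538 F376758) (tt N79679 F376756) (tt N88281 (iv3 F382450)) (tt N51404 (iv4 D189508)) (tt N79678 F376757) (tt N93085 F399416) (tt N88301 (iv7 F382507)))
theorem Q86674 : ∀ i, i < 86674 → P i := stepQ 86673 Q86673 (allL N86673 (tt N93215 (iv1 F400001)) (tt N51405 (iv0 D189509)) (tt N86833 (iv2 F377363)) (tt N79691 F376761) (tt N84449 F376759) (tt N79690 (iv5 F376762)) (tt N65610 (iv6 F376760)) (tt N86832 (iv7 F377357)))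
theorem Q86675 : ∀ i, i < 86675 → P i := stepQ 86674 Q86674 (allL N86674 (tt N51405 (iv1 D189510)) (tt N93215 (iv0 F400000)) (tt N86832 (iv2 F377354)) (tt N67486 (iv3 F376768)) (tt N84450 F376766) (tt N67484 F376767) (tt N92935 (iv6 F398827)) (tt N86833 (iv7 F377364)))
theorem Q86676 : ∀ i, i < 86676 → P i := stepQ 86675 Q86675 (allL N86675 (tt N88374 (iv1 F382786)) (tt N79683 (iv0 F376770)) (tt N88373 (iv2 F382782)) (tt N51405 (iv3 D189511)) (tt N51415 F376769) (tt N80214 (iv5 F376771)) (tt N104404 (iv6 F445624)) (tt N88372 F382779))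
theorem Q86677 : ∀ i, i < 86677 → P i := stepQ 86676 Q86676 (allL N86676 (tt N80220 F376776) (tt N92096 F395719) (tt N81605 F376772) (tt N80214 F376773) (tt N78661 F376775) (tt N51405 (iv5 D189512)) (tt N87528 (iv6 F379665)) (tt N81607 F376774))
theorem Q86678 : ∀ i, i < 86678 → P i := stepQ 86677 Q86677 (allL N86677 (tt N93062 F399341) (tt N115311 D218568) (tt N93194 F399910) (tt N104404 (iv3 F445622)) (tt N51406 F376777) (tt N115312 D218569) (tt N51405 (iv6 D189513)) (tt N93217 (iv7 F400004)))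
theorem Q86679 : ∀ i, i < 86679 → P i := stepQ 86678 Q86678 (allL N86678 (tt N93198 F399933) (tt N51406 (iv0 D189514)) (tt N93177 (iv2 F399818)) (tt N86885 (iv3 F399075)) (tt N56715 (iv4 F399076)) (tt N93132 (iv5 F399622)) (tt N56464 F399073) (tt N104793 (iv7 F447299)))
theorem Q86680 : ∀ i, i < 86680 → P i := stepQ 86679 Q86679 (allL N86679 (tt N51406 (iv1 D189515)) (tt N93198 F399931) (tt N104793 (iv2 F447297)) (tt N52100 F395355) (tt N56719 F395356) (tt N93131 (iv5 F399614)) (tt N52098 F395357) (tt N93177 (iv7 F399821)))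
theorem Q86681 : ∀ i, i < 86681 → P i := stepQ 86680 Q86680 (allL N86680 (tt N92985 (iv1 F399026)) (tt N66782 (iv0 F376780)) (tt N98216 F420026) (tt N51419 F376778) (tt N108659 (iv4 F463402)) (tt N51406 (iv5 D189516)) (tt N51409 F376779) (tt N98217 (iv7 F420029)))
theorem Q86682 : ∀ i, i < 86682 → P i := stepQ 86681 Q86681 (allL N86681 (tt N104793 (iv1 F447302)) (tt N93177 F399932) (tt N93198 (iv2 F399927)) (tt N51420 F376781) (tt N93217 (iv4 F400003)) (tt N98217 (iv5 F420030)) (tt N56481 F376782) (tt N51406 (iv7 D189517)))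
theorem Q86683 : ∀ i, i < 86683 → P i := stepQ 86682 Q86682 (allL N86682 (tt N86410 F376785) (tt N114273 (iv0 F489332)) (tt N86889 (iv2 F377592)) (tt N51408 (iv3 D189518)) (tt N86889 (iv4 F377593)) (tt N86186 F376783) (tt N102942 F439363) (tt N84708 F376784))
theorem Q86684 : ∀ i, i < 86684 → P i := stepQ 86683 Q86683 (allL N86683 (tt N76418 F376788) (tt N51526 F376789) (tt N69600 F376786) (tt N86450 F376790) (tt N51410 (iv4 D189519)) (tt N114075 (iv5 F488467)) (tt N109055 (iv6 F465133)) (tt N76417 F376787))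
theorem Q86685 : ∀ i, i < 86685 → P i := stepQ 86684 Q86684 (allL N86684 (tt N115313 D218570) (tt N111331 (iv0 F475859)) (tt N113675 (iv2 F486579)) (tt N51412 F376791) (tt N109055 (iv4 F465132)) (tt N54745 F376792) (tt N51410 (iv6 D189520)) (tt N109385 (iv7 F466697)))
theorem Q86686 : ∀ i, i < 86686 → P i := stepQ 86685 Q86685 (allL N86685 (tt N86590 F376899) (tt N115309 F494509) (tt N86652 (iv2 F376796)) (tt N51411 (iv3 D189521)) (tt N86450 F376793) (tt N86551 F376794) (tt N86555 F376807) (tt N86553 F376795))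
theorem Q86687 : ∀ i, i < 86687 → P i := stepQ 86686 Q86686 (allL N86686 (tt N113590 (iv1 F486185)) (tt N113592 (iv0 F486195)) (tt N86552 F376797) (tt N86555 (iv3 F376806)) (tt N51412 F376798) (tt N88365 (iv5 F382759)) (tt N51411 (iv6 D189522)) (tt N115314 D218571))
theorem Q86688 : ∀ i, i < 86688 → P i := stepQ 86687 Q86687 (allL N86687 (tt N69223 (iv1 F376803)) (tt N51412 (iv0 D189523)) (tt N104825 (iv2 F447475)) (tt N51429 (iv3 F376804)) (tt N51433 F376805) (tt N103609 (iv5 F442229)) (tt N113636 (iv6 F486415)) (tt N104826 (iv7 F447487)))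
theorem Q86689 : ∀ i, i < 86689 → P i := stepQ 86688 Q86688 (allL N86688 (tt N51412 (iv1 D189524)) (tt N69223 F376799) (tt N104826 (iv2 F447483)) (tt N56478 F398459) (tt N115168 (iv4 F493820)) (tt N92840 (iv5 F398456)) (tt N56476 (iv6 F398457)) (tt N104825 (iv7 F447478)))
theorem Q86690 : ∀ i, i < 86690 → P i := stepQ 86689 Q86689 (allL N86689 (tt N104826 (iv1 F447489)) (tt N104825 (iv0 F447480)) (tt N69223 F376800) (tt N109385 (iv3 F466695)) (tt N115314 (iv4 F494539)) (tt N54755 F376801) (tt N81443 F376802) (tt N51412 (iv7 D189525)))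
theorem Q86691 : ∀ i, i < 86691 → P i := stepQ 86690 Q86690 (allL N86690 (tt N115315 D218572) (tt N113558 F486032) (tt N115316 D218573) (tt N51413 (iv3 D189526)) (tt N108274 (iv4 F461824)) (tt N86553 F376808) (tt N106874 (iv6 F456095)) (tt N86551 F376809))
theorem Q86692 : ∀ i, i < 86692 → P i := stepQ 86691 Q86691 (allL N86691 (tt N86501 F376812) (tt N115317 D218574) (tt N86554 F376810) (tt N106874 F456094) (tt N51414 F376811) (tt N115318 D218575) (tt N51413 (iv6 D189527)) (tt N115319 D218576))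
theorem Q86693 : ∀ i, i < 86693 → P i := stepQ 86692 Q86692 (allL N86692 (tt N51414 (iv1 D189528)) (tt N81443 F376813) (tt N93176 (iv2 F399813)) (tt N63414 (iv3 F376815)) (tt N91238 (iv4 F392379)) (tt N63402 (iv5 F376816)) (tt N63423 F376817) (tt N63401 F376814))
theorem Q86694 : ∀ i, i < 86694 → P i := stepQ 86693 Q86693 (allL N86693 (tt N93176 (iv1 F399817)) (tt N63401 (iv0 F376822)) (tt N81443 F376818) (tt N60183 F376819) (tt N115319 (iv4 F494568)) (tt N69222 F376820) (tt N69223 F376821) (tt N51414 (iv7 D189529)))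
theorem Q86695 : ∀ i, i < 86695 → P i := stepQ 86694 Q86694 (allL N86694 (tt N115175 (iv1 F493862)) (tt N51415 (iv0 D189530)) (tt N115174 F493856) (tt N115302 (iv3 F494471)) (tt N115320 D218577) (tt N83679 F376823) (tt N115174 F493854) (tt N115173 F493850))
theorem Q86696 : ∀ i, i < 86696 → P i := stepQ 86695 Q86695 (allL N86695 (tt N51415 (iv1 D189531)) (tt N115175 F493863) (tt N115173 F493849) (tt N86648 (iv3 F486419)) (tt N115321 D218578) (tt N115167 (iv5 F493818)) (tt N115322 D218579) (tt N115174 (iv7 F493851)))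
theorem Q86697 : ∀ i, i < 86697 → P i := stepQ 86696 Q86696 (allL N86696 (tt N115174 F493855) (tt N115173 F493848) (tt N51415 (iv2 D189532)) (tt N115168 (iv3 F493819)) (tt N88373 F382783) (tt N86514 F376824) (tt N104344 (iv6 F445343)) (tt N115175 (iv7 F493861)))
theorem Q86698 : ∀ i, i < 86698 → P i := stepQ 86697 Q86697 (allL N86697 (tt N104337 (iv1 F445320)) (tt N86512 (iv0 F376850)) (tt N104344 F445344) (tt N51416 F376825) (tt N104404 (iv4 F445621)) (tt N115213 (iv5 F494048)) (tt N51415 (iv6 D189533)) (tt N104343 F445340))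
theorem Q86699 : ∀ i, i < 86699 → P i := stepQ 86698 Q86698 (allL N86698 (tt N100294 F428294) (tt N92996 (iv0 F399060)) (tt N114512 (iv2 F490525)) (tt N115213 (iv3 F494047)) (tt N86496 F376934) (tt N51416 (iv5 D189536)) (tt N86563 (iv6 F376925)) (tt N114509 (iv7 F490516)))
theorem Q86700 : ∀ i, i < 86700 → P i := stepQ 86699 Q86699 (allL N86699 (tt N115026 F493102) (tt N114604 (iv0 F490976)) (tt N115170 (iv2 F493829)) (tt N104343 (iv3 F445339)) (tt N51420 F376827) (tt N114509 (iv5 F490517)) (tt N115177 (iv6 F493873)) (tt N51416 (iv7 D189537)))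
theorem Q86701 : ∀ i, i < 86701 → P i := stepQ 86700 Q86700 (allL N86700 (tt N85086 (iv1 F376848)) (tt N115323 D218580) (tt N115171 (iv2 F493834)) (tt N93994 (iv3 F402744)) (tt N114508 (iv4 F490513)) (tt N51417 (iv5 D189541)) (tt N114752 (iv6 F491669)) (tt N86210 F376839))
theorem Q86702 : ∀ i, i < 86702 → P i := stepQ 86701 Q86701 (allL N86701 (tt N63423 (iv1 F399065)) (tt N56463 (iv0 F376830)) (tt N85318 F376842) (tt N93995 (iv3 F402749)) (tt N86560 F376849) (tt N84844 F376829) (tt N51417 (iv6 D189542)) (tt N85315 (iv7 F376845)))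
theorem Q86703 : ∀ i, i < 86703 → P i := stepQ 86702 Q86702 (allL N86702 (tt N86151 (iv1 F376931)) (tt N86561 F376932) (tt N86503 F376858) (tt N115324 D218581) (tt N51418 (iv4 D189545)) (tt N114520 (iv5 F490569)) (tt N115307 (iv6 F494496)) (tt N86559 (iv7 F376929)))
theorem Q86704 : ∀ i, i < 86704 → P i := stepQ 86703 Q86703 (allL N86703 (tt N115323 (iv1 F494582)) (tt N85086 (iv0 F376832)) (tt N86210 F376834) (tt N104030 (iv3 F443871)) (tt N114283 (iv4 F489386)) (tt N51418 (iv5 D189546)) (tt N85900 (iv6 F376833)) (tt N115171 (iv7 F493837)))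
theorem Q86705 : ∀ i, i < 86705 → P i := stepQ 86704 Q86704 (allL N86704 (tt N93189 F399875) (tt N113636 (iv0 F486416)) (tt N115172 (iv2 F493840)) (tt N104031 (iv3 F443876)) (tt N115307 (iv4 F494491)) (tt N104029 (iv5 F443869)) (tt N51418 (iv6 D189547)) (tt N115325 D218582))
theorem Q86706 : ∀ i, i < 86706 → P i := stepQ 86705 Q86705 (allL N86705 (tt N96691 (iv1 F413486)) (tt N51419 (iv0 D189548)) (tt N114942 F492670) (tt N76324 (iv3 F376860)) (tt N86140 F413488) (tt N76323 F376861) (tt N82036 F376859) (tt N76509 F376862))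
theorem Q86707 : ∀ i, i < 86707 → P i := stepQ 86706 Q86706 (allL N86706 (tt N51419 (iv1 D189549)) (tt N96691 F413485) (tt N76509 F411628) (tt N89871 (iv3 F416444)) (tt N86141 (iv4 F413487)) (tt N92981 (iv5 F411627)) (tt N98169 (iv6 F419815)) (tt N114942 (iv7 F492672)))
theorem Q86708 : ∀ i, i < 86708 → P i := stepQ 86707 Q86707 (allL N86707 (tt N76509 (iv1 F394209)) (tt N114942 F492671) (tt N96691 (iv2 F413481)) (tt N98217 F420031) (tt N96687 (iv4 F413452)) (tt N51420 F376863) (tt N96686 (iv6 F413450)) (tt N51419 (iv7 D189550)))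
theorem Q86709 : ∀ i, i < 86709 → P i := stepQ 86708 Q86708 (allL N86708 (tt N91224 (iv1 F392339)) (tt N68629 F376866) (tt N104350 F445372) (tt N86622 F376864) (tt N51424 (iv4 D189551)) (tt N91193 (iv5 F392225)) (tt N93056 F399313) (tt N85299 F376865))
theorem Q86710 : ∀ i, i < 86710 → P i := stepQ 86709 Q86709 (allL N86709 (tt N92034 (iv1 F395459)) (tt N51425 (iv0 D189552)) (tt N92032 (iv2 F395456)) (tt N93999 (iv3 F402764)) (tt N115153 (iv4 F493748)) (tt N96234 (iv5 F411635)) (tt N93998 F402762) (tt N92033 F395457))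
theorem Q86711 : ∀ i, i < 86711 → P i := stepQ 86710 Q86710 (allL N86710 (tt N51425 (iv1 D189553)) (tt N92034 F395454) (tt N92033 (iv2 F395446)) (tt N91201 (iv3 F392245)) (tt N115154 (iv4 F493756)) (tt N61060 (iv5 F376868)) (tt N98145 (iv6 F419689)) (tt N92032 (iv7 F395455)))
theorem Q86712 : ∀ i, i < 86712 → P i := stepQ 86711 Q86711 (allL N86711 (tt N74777 F376870) (tt N108795 F463983) (tt N51429 F376869) (tt N93195 (iv3 F399912)) (tt N51426 (iv4 D189554)) (tt N70764 (iv5 F376871)) (tt N104087 (iv6 F444108)) (tt N93193 F399892))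
theorem Q86713 : ∀ i, i < 86713 → P i := stepQ 86712 Q86712 (allL N86712 (tt N115326 D218583) (tt N68147 (iv0 F376873)) (tt N104087 (iv2 F444105)) (tt N113636 (iv3 F486414)) (tt N51430 F376872) (tt N111080 (iv5 F474568)) (tt N51429 (iv6 D189555)) (tt N104085 (iv7 F444095)))
theorem Q86714 : ∀ i, i < 86714 → P i := stepQ 86713 Q86713 (allL N86713 (tt N84395 (iv1 F376879)) (tt N84394 (iv0 F376880)) (tt N83874 F376874) (tt N51431 (iv3 D189556)) (tt N83884 F376875) (tt N85953 F376876) (tt N85345 F376877) (tt N84396 F376878))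
theorem Q86715 : ∀ i, i < 86715 → P i := stepQ 86714 Q86714 (allL N86714 (tt N115168 (iv1 F493823)) (tt N51433 (iv0 D189557)) (tt N115167 F493816) (tt N115298 F494456) (tt N83680 F376881) (tt N115173 (iv5 F493847)) (tt N91240 (iv6 F392381)) (tt N83679 (iv7 F376882)))
theorem Q86716 : ∀ i, i < 86716 → P i := stepQ 86715 Q86715 (allL N86715 (tt N115167 F493817) (tt N83679 (iv0 F417920)) (tt N51433 (iv2 D189559)) (tt N115175 (iv3 F493857)) (tt N104825 (iv4 F447479)) (tt N86621 F376883) (tt N115327 D218584) (tt N115168 (iv7 F493822)))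
theorem Q86717 : ∀ i, i < 86717 → P i := stepQ 86716 Q86716 (allL N86716 (tt N115243 F494182) (tt N115328 D218585) (tt N115327 (iv2 F494607)) (tt N51434 F376884) (tt N113636 (iv4 F486417)) (tt N115281 F494361) (tt N51433 (iv6 D189560)) (tt N115329 D218586))
theorem Q86718 : ∀ i, i < 86718 → P i := stepQ 86717 Q86717 (allL N86717 (tt N87168 F380949) (tt N112876 (iv0 F483094)) (tt N115176 (iv2 F493864)) (tt N115281 F494359) (tt N87880 F380946) (tt N51434 (iv5 D189561)) (tt N86624 F376885) (tt N115330 D218587))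
theorem Q86719 : ∀ i, i < 86719 → P i := stepQ 86718 Q86718 (allL N86718 (tt N115151 (iv1 F493742)) (tt N86636 (iv0 F376887)) (tt N115177 (iv2 F493870)) (tt N115329 (iv3 F494619)) (tt N51438 F376886) (tt N115330 (iv5 F494625)) (tt N115170 (iv6 F493831)) (tt N51434 (iv7 D189562)))
theorem Q86720 : ∀ i, i < 86720 → P i := stepQ 86719 Q86719 (allL N86719 (tt N86911 F377678) (tt N86904 (iv0 F377652)) (tt N86910 F377674) (tt N51435 (iv3 D189563)) (tt N87132 F378481) (tt N75077 (iv5 F376889)) (tt N111764 (iv6 F477854)) (tt N60178 F376888))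
theorem Q86721 : ∀ i, i < 86721 → P i := stepQ 86720 Q86720 (allL N86720 (tt N86581 F376892) (tt N86435 F376901) (tt N85173 F376890) (tt N86610 (iv3 F376900)) (tt N51435 (iv4 D189564)) (tt N112879 (iv5 F483109)) (tt N115208 (iv6 F494026)) (tt N86579 (iv7 F376896)))
theorem Q86722 : ∀ i, i < 86722 → P i := stepQ 86721 Q86721 (allL N86721 (tt N104082 (iv1 F444088)) (tt N98725 (iv0 F422026)) (tt N104069 (iv2 F444023)) (tt N75077 F376902) (tt N87035 (iv4 F378128)) (tt N51435 (iv5 D189565)) (tt N69522 F376904) (tt N75070 F376903))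
theorem Q86723 : ∀ i, i < 86723 → P i := stepQ 86722 Q86722 (allL N86722 (tt N56476 (iv1 F376907)) (tt N93187 F399870) (tt N93186 F399862) (tt N111764 (iv3 F477852)) (tt N115208 (iv4 F494024)) (tt N61142 F376905) (tt N51435 (iv6 D189566)) (tt N61141 F376906))
theorem Q86724 : ∀ i, i < 86724 → P i := stepQ 86723 Q86723 (allL N86723 (tt N51437 (iv1 D189567)) (tt N104822 F447465) (tt N104824 (iv2 F447469)) (tt N86537 F376910) (tt N82822 F376908) (tt N86536 (iv5 F376909)) (tt N105802 F451795) (tt N102427 F437201))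
theorem Q86725 : ∀ i, i < 86725 → P i := stepQ 86724 Q86724 (allL N86724 (tt N85323 (iv1 F376919)) (tt N51444 (iv0 D189568)) (tt N85320 (iv2 F447501)) (tt N109902 (iv3 F469134)) (tt N114517 (iv4 F490552)) (tt N109901 F469133) (tt N115224 (iv6 F494101)) (tt N85321 F447500))
theorem Q86726 : ∀ i, i < 86726 → P i := stepQ 86725 Q86725 (allL N86725 (tt N51444 (iv1 D189569)) (tt N85323 F376914) (tt N85321 F447498) (tt N115226 (iv3 F494111)) (tt N114518 (iv4 F490560)) (tt N115331 D218588) (tt N93123 (iv6 F447482)) (tt N85320 (iv7 F447499)))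
theorem Q86727 : ∀ i, i < 86727 → P i := stepQ 86726 Q86726 (allL N86726 (tt N85321 (iv1 F376920)) (tt N85320 F376921) (tt N85323 F376915) (tt N68269 F376916) (tt N86515 F376917) (tt N84845 F376918) (tt N92034 (iv6 F395452)) (tt N51444 (iv7 D189570)))
theorem Q86728 : ∀ i, i < 86728 → P i := stepQ 86727 Q86727 (allL N86727 (tt N113849 (iv1 F487442)) (tt N115332 D218589) (tt N113755 (iv2 F486974)) (tt N113118 (iv3 F484047)) (tt N51445 (iv4 D189571)) (tt N115333 D218590) (tt N115334 D218591) (tt N82631 F377007))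
theorem Q86729 : ∀ i, i < 86729 → P i := stepQ 86728 Q86728 (allL N86728 (tt N105601 (iv1 F450930)) (tt N86277 (iv0 F377010)) (tt N105602 (iv2 F450933)) (tt N51446 F377008) (tt N115334 (iv4 F494642)) (tt N82760 F377009) (tt N51445 (iv6 D189572)) (tt N105600 (iv7 F450926)))
theorem Q86730 : ∀ i, i < 86730 → P i := stepQ 86729 Q86729 (allL N86729 (tt N82885 (iv1 F377015)) (tt N51446 (iv0 D189573)) (tt N82925 (iv2 F398842)) (tt N105402 F450082) (tt N105542 (iv4 F450657)) (tt N92939 (iv5 F398844)) (tt N92826 F398399) (tt N82926 F398841))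
theorem Q86731 : ∀ i, i < 86731 → P i := stepQ 86730 Q86730 (allL N86730 (tt N51446 (iv1 D189574)) (tt N82885 F377011) (tt N82926 F398839) (tt N101398 F432851) (tt N105541 (iv4 F450652)) (tt N92937 (iv5 F398838)) (tt N106303 F453951) (tt N82925 (iv7 F398840)))
theorem Q86732 : ∀ i, i < 86732 → P i := stepQ 86731 Q86731 (allL N86731 (tt N82926 (iv1 F377016)) (tt N82925 F377017) (tt N82885 F377012) (tt N105600 (iv3 F450924)) (tt N87507 (iv4 F379604)) (tt N82763 F377013) (tt N82635 F377014) (tt N51446 (iv7 D189575)))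
theorem Q86733 : ∀ i, i < 86733 → P i := stepQ 86732 Q86732 (allL N86732 (tt N115335 D218592) (tt N115336 D218593) (tt N51456 F377018) (tt N114338 (iv3 F489686)) (tt N51449 F377019) (tt N115337 D218594) (tt N51448 (iv6 D189576)) (tt N115338 D218595))
theorem Q86734 : ∀ i, i < 86734 → P i := stepQ 86733 Q86733 (allL N86733 (tt N51460 (iv1 F377026)) (tt N51449 (iv0 D189577)) (tt N51457 F377029) (tt N100608 (iv3 F429685)) (tt N70807 F448078) (tt N110994 (iv5 F474139)) (tt N100598 (iv6 F429633)) (tt N51458 F377028))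
theorem Q86735 : ∀ i, i < 86735 → P i := stepQ 86734 Q86734 (allL N86734 (tt N51449 (iv1 D189578)) (tt N51460 F377020) (tt N51458 F377023) (tt N115339 D218596) (tt N113100 (iv4 F483970)) (tt N54163 (iv5 F377022)) (tt N83287 (iv6 F377021)) (tt N51457 (iv7 F377030)))
theorem Q86736 : ∀ i, i < 86736 → P i := stepQ 86735 Q86735 (allL N86735 (tt N51458 (iv1 F377027)) (tt N51457 F377031) (tt N51460 F377024) (tt N115094 (iv3 F493454)) (tt N115338 (iv4 F494667)) (tt N90296 (iv5 F389261)) (tt N82934 F377025) (tt N51449 (iv7 D189579)))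
theorem Q86737 : ∀ i, i < 86737 → P i := stepQ 86736 Q86736 (allL N86736 (tt N85528 (iv1 F377036)) (tt N85508 F377035) (tt N51452 (iv2 D189580)) (tt N85532 F377032) (tt N88956 (iv4 F384595)) (tt N54854 F377033) (tt N110443 (iv6 F471617)) (tt N85527 F377034))
theorem Q86738 : ∀ i, i < 86738 → P i := stepQ 86737 Q86737 (allL N86737 (tt N83765 F377038) (tt N88950 (iv0 F384588)) (tt N88956 F384596) (tt N98198 (iv3 F419939)) (tt N51452 (iv4 D189581)) (tt N115340 D218597) (tt N98197 F419937) (tt N85529 F377037))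
theorem Q86739 : ∀ i, i < 86739 → P i := stepQ 86738 Q86738 (allL N86738 (tt N115341 D218598) (tt N96515 (iv0 F412815)) (tt N110443 (iv2 F471615)) (tt N51454 F377039) (tt N98197 (iv4 F419934)) (tt N82688 F377040) (tt N51452 (iv6 D189582)) (tt N114455 (iv7 F490261)))
theorem Q86740 : ∀ i, i < 86740 → P i := stepQ 86739 Q86739 (allL N86739 (tt N84777 (iv1 F377044)) (tt N51454 (iv0 D189583)) (tt N83289 (iv2 F377043)) (tt N89623 (iv3 F386994)) (tt N66789 F377041) (tt N110028 (iv5 F469628)) (tt N52769 F377042) (tt N85535 F377046))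
theorem Q86741 : ∀ i, i < 86741 → P i := stepQ 86740 Q86740 (allL N86740 (tt N115338 (iv1 F494670)) (tt N51456 (iv0 D189584)) (tt N115335 (iv2 F494653)) (tt N60741 F444488) (tt N82901 F444489) (tt N60739 F444490) (tt N115342 D218599) (tt N115336 (iv7 F494655)))
theorem Q86742 : ∀ i, i < 86742 → P i := stepQ 86741 Q86741 (allL N86741 (tt N51456 (iv1 D189585)) (tt N115338 F494669) (tt N115336 F494658) (tt N98700 (iv3 F429822)) (tt N82902 (iv4 F405231)) (tt N111323 (iv5 F475819)) (tt N98697 F429821) (tt N115335 F494650))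
theorem Q86743 : ∀ i, i < 86743 → P i := stepQ 86742 Q86742 (allL N86742 (tt N102943 F470826) (tt N115343 D218600) (tt N115337 (iv2 F494661)) (tt N62809 F377047) (tt N65955 (iv4 F377049)) (tt N51456 (iv5 D189586)) (tt N62807 F377048) (tt N115344 D218601))
theorem Q86744 : ∀ i, i < 86744 → P i := stepQ 86743 Q86743 (allL N86743 (tt N115336 (iv1 F494654)) (tt N115335 (iv0 F494651)) (tt N115338 (iv2 F494665)) (tt N109088 (iv3 F465270)) (tt N51460 F377050) (tt N115344 (iv5 F494699)) (tt N75970 F377051) (tt N51456 (iv7 D189587)))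
theorem Q86745 : ∀ i, i < 86745 → P i := stepQ 86744 Q86744 (allL N86744 (tt N115345 D218602) (tt N113873 (iv0 F487567)) (tt N115346 D218603) (tt N51457 (iv3 D189588)) (tt N101948 F464330) (tt N71430 (iv5 F389175)) (tt N115347 D218604) (tt N115339 (iv7 F494674)))
theorem Q86746 : ∀ i, i < 86746 → P i := stepQ 86745 Q86745 (allL N86745 (tt N104947 (iv1 F448081)) (tt N87641 F448085) (tt N70807 (iv2 F448079)) (tt N114915 (iv3 F492509)) (tt N51457 (iv4 D189589)) (tt N70795 F448080) (tt N114902 F492439) (tt N113100 (iv7 F483968)))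
theorem Q86747 : ∀ i, i < 86747 → P i := stepQ 86746 Q86746 (allL N86746 (tt N107909 (iv1 F460231)) (tt N110996 F474149) (tt N110994 (iv2 F474137)) (tt N71430 F389174) (tt N115348 D218605) (tt N51457 (iv5 D189590)) (tt N110049 (iv6 F469730)) (tt N54163 F377052))
theorem Q86748 : ∀ i, i < 86748 → P i := stepQ 86747 Q86747 (allL N86747 (tt N100597 (iv1 F429625)) (tt N100596 (iv0 F429624)) (tt N100598 (iv2 F429630)) (tt N115347 (iv3 F494710)) (tt N114902 (iv4 F492436)) (tt N77294 F377054) (tt N51457 (iv6 D189591)) (tt N77293 F377053))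
theorem Q86749 : ∀ i, i < 86749 → P i := stepQ 86748 Q86748 (allL N86748 (tt N87641 (iv1 F448084)) (tt N104947 (iv0 F448074)) (tt N113100 F483971) (tt N90408 (iv3 F448076)) (tt N51458 (iv4 D189592)) (tt N70808 F448075) (tt N100600 F429644) (tt N70807 (iv7 F448077)))
theorem Q86750 : ∀ i, i < 86750 → P i := stepQ 86749 Q86749 (allL N86749 (tt N90296 (iv1 F389263)) (tt N51459 (iv0 D189593)) (tt N90294 (iv2 F470343)) (tt N115349 D218606) (tt N115350 D218607) (tt N114760 (iv5 F491715)) (tt N110361 (iv6 F471237)) (tt N90295 F470344))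
theorem Q86751 : ∀ i, i < 86751 → P i := stepQ 86750 Q86750 (allL N86750 (tt N51459 (iv1 D189594)) (tt N90296 F389262) (tt N90295 F470342) (tt N110634 (iv3 F472521)) (tt N81861 F470339) (tt N114751 (iv5 F491666)) (tt N110633 F472520) (tt N90294 (iv7 F470341)))
theorem Q86752 : ∀ i, i < 86752 → P i := stepQ 86751 Q86751 (allL N86751 (tt N94616 F405226) (tt N94611 (iv0 F405205)) (tt N90293 (iv2 F389252)) (tt N115351 D218608) (tt N51459 (iv4 D189595)) (tt N115352 D218609) (tt N51462 F377055) (tt N94614 (iv7 F405216)))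
theorem Q86753 : ∀ i, i < 86753 → P i := stepQ 86752 Q86752 (allL N86752 (tt N90295 (iv1 F389258)) (tt N90294 (iv0 F389257)) (tt N90296 (iv2 F389260)) (tt N86346 F377056) (tt N94614 F405217) (tt N51460 F377057) (tt N90263 (iv6 F389145)) (tt N51459 (iv7 D189596)))
theorem Q86754 : ∀ i, i < 86754 → P i := stepQ 86753 Q86753 (allL N86753 (tt N82662 (iv1 F377062)) (tt N51461 (iv0 D189597)) (tt N82667 (iv2 F377061)) (tt N54529 F377059) (tt N115179 (iv4 F493884)) (tt N70970 F377058) (tt N86242 F377060) (tt N71862 F377063))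
theorem Q86755 : ∀ i, i < 86755 → P i := stepQ 86754 Q86754 (allL N86754 (tt N82667 (iv1 F377068)) (tt N71862 F377067) (tt N51461 (iv2 D189598)) (tt N91681 (iv3 F394018)) (tt N51590 F377064) (tt N54201 F377065) (tt N91500 (iv6 F393395)) (tt N82662 F377066))
theorem Q86756 : ∀ i, i < 86756 → P i := stepQ 86755 Q86755 (allL N86755 (tt N108227 (iv1 F461574)) (tt N93674 (iv0 F401525)) (tt N108229 (iv2 F461581)) (tt N51462 (iv3 D189599)) (tt N86351 F377069) (tt N88025 (iv5 F381505)) (tt N115351 (iv6 F494733)) (tt N90297 (iv7 F389267)))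
theorem Q86757 : ∀ i, i < 86757 → P i := stepQ 86756 Q86756 (allL N86756 (tt N53505 F377073) (tt N53431 F377074) (tt N53508 F377070) (tt N51466 F377071) (tt N115353 D218610) (tt N51465 (iv5 D189600)) (tt N106502 (iv6 F454677)) (tt N53507 F377072))
theorem Q86758 : ∀ i, i < 86758 → P i := stepQ 86757 Q86757 (allL N86757 (tt N102672 F438153) (tt N106498 F454669) (tt N82727 F377075) (tt N106502 (iv3 F454676)) (tt N54225 F377076) (tt N82626 F377077) (tt N51466 (iv6 D189601)) (tt N106499 (iv7 F454672)))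
theorem Q86759 : ∀ i, i < 86759 → P i := stepQ 86758 Q86758 (allL N86758 (tt N108809 (iv1 F464057)) (tt N74800 F383005) (tt N108808 F464050) (tt N51470 F377078) (tt N104922 (iv4 F447954)) (tt N51468 (iv5 D189602)) (tt N104921 (iv6 F447952)) (tt N86413 F377079))
theorem Q86760 : ∀ i, i < 86760 → P i := stepQ 86759 Q86759 (allL N86759 (tt N86472 (iv1 F377083)) (tt N88700 (iv0 F383910)) (tt N112914 (iv2 F483257)) (tt N51471 F377080) (tt N55311 F377081) (tt N85859 F377082) (tt N51468 (iv6 D189603)) (tt N105325 (iv7 F449725)))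
theorem Q86761 : ∀ i, i < 86761 → P i := stepQ 86760 Q86760 (allL N86760 (tt N114946 (iv1 F492702)) (tt N83736 F377087) (tt N86409 F377084) (tt N76473 F377085) (tt N88432 (iv4 F383027)) (tt N51469 (iv5 D189604)) (tt N76472 (iv6 F377089)) (tt N86415 F377086))
theorem Q86762 : ∀ i, i < 86762 → P i := stepQ 86761 Q86761 (allL N86761 (tt N84708 F377094) (tt N86889 (iv0 F377596)) (tt N86410 F377091) (tt N83947 F377092) (tt N51471 F377093) (tt N98244 F420123) (tt N51469 (iv6 D189605)) (tt N114273 (iv7 F489331)))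
theorem Q86763 : ∀ i, i < 86763 → P i := stepQ 86762 Q86762 (allL N86762 (tt N115354 D218611) (tt N108483 (iv0 F462785)) (tt N86411 F377095) (tt N105689 F451265) (tt N51470 (iv4 D189606)) (tt N87391 F379216) (tt N52101 (iv6 F379217)) (tt N86417 F377096))
theorem Q86764 : ∀ i, i < 86764 → P i := stepQ 86763 Q86763 (allL N86763 (tt N86562 (iv1 F377099)) (tt N87615 (iv0 F379895)) (tt N86412 F377097) (tt N104921 (iv3 F447949)) (tt N52101 F379219) (tt N85860 F377098) (tt N51470 (iv6 D189607)) (tt N115355 D218612))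
theorem Q86765 : ∀ i, i < 86765 → P i := stepQ 86764 Q86764 (allL N86764 (tt N86533 F377102) (tt N114071 (iv0 F488444)) (tt N87541 (iv2 F379702)) (tt N51474 F377100) (tt N87539 (iv4 F379695)) (tt N51472 (iv5 D189608)) (tt N87538 (iv6 F379692)) (tt N86407 F377101))
theorem Q86766 : ∀ i, i < 86766 → P i := stepQ 86765 Q86765 (allL N86765 (tt N88963 (iv1 F384611)) (tt N86477 (iv0 F377105)) (tt N105322 (iv2 F449707)) (tt N51475 F377103) (tt N84108 F377104) (tt N98741 (iv5 F422101)) (tt N51472 (iv6 D189609)) (tt N112941 (iv7 F483319)))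
theorem Q86767 : ∀ i, i < 86767 → P i := stepQ 86766 Q86766 (allL N86766 (tt N83736 F377109) (tt N114946 (iv0 F492701)) (tt N86415 F377106) (tt N83721 F377107) (tt N88433 F383032) (tt N51473 (iv5 D189610)) (tt N93170 (iv6 F399785)) (tt N86409 F377108))
theorem Q86768 : ∀ i, i < 86768 → P i := stepQ 86767 Q86767 (allL N86767 (tt N102942 (iv1 F439362)) (tt N114353 (iv0 F489782)) (tt N86416 F377110) (tt N84394 F377111) (tt N51475 F377112) (tt N114945 (iv5 F492691)) (tt N51473 (iv6 D189611)) (tt N114256 (iv7 F489256)))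
theorem Q86769 : ∀ i, i < 86769 → P i := stepQ 86768 Q86768 (allL N86768 (tt N108483 (iv1 F462786)) (tt N115354 F494753) (tt N86417 F377113) (tt N99692 (iv3 F425768)) (tt N51474 (iv4 D189612)) (tt N87390 (iv5 F379206)) (tt N112431 (iv6 F481070)) (tt N86411 F377114))
theorem Q86770 : ∀ i, i < 86770 → P i := stepQ 86769 Q86769 (allL N86769 (tt N114072 F488452) (tt N86585 (iv0 F377117)) (tt N86418 F377115) (tt N87538 F379693) (tt N112431 (iv4 F481068)) (tt N70815 F377116) (tt N51474 (iv6 D189613)) (tt N115356 D218613))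
theorem Q86771 : ∀ i, i < 86771 → P i := stepQ 86770 Q86770 (allL N86770 (tt N83595 F377120) (tt N83600 F377122) (tt N83599 F377118) (tt N97348 (iv3 F416448)) (tt N51476 (iv4 D189614)) (tt N84635 (iv5 F377121)) (tt N87485 (iv6 F379521)) (tt N83598 F377119))
theorem Q86772 : ∀ i, i < 86772 → P i := stepQ 86771 Q86771 (allL N86771 (tt N86595 (iv1 F377125)) (tt N91227 (iv0 F392353)) (tt N86420 F377123) (tt N100657 (iv3 F429877)) (tt N87485 (iv4 F379519)) (tt N75263 F377124) (tt N51476 (iv6 D189615)) (tt N87481 (iv7 F379487)))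
theorem Q86773 : ∀ i, i < 86773 → P i := stepQ 86772 Q86772 (allL N86772 (tt N76406 (iv1 F377128)) (tt N88947 (iv0 F384585)) (tt N100141 (iv2 F427658)) (tt N51477 (iv3 D189616)) (tt N113666 (iv4 F486544)) (tt N83705 F377126) (tt N87496 (iv6 F379555)) (tt N86419 F377127))
theorem Q86774 : ∀ i, i < 86774 → P i := stepQ 86773 Q86773 (allL N86773 (tt N52122 (iv1 F377129)) (tt N51478 (iv0 D189617)) (tt N69452 F377131) (tt N104034 (iv3 F443888)) (tt N97176 (iv4 F415764)) (tt N115357 D218614) (tt N69448 (iv6 F377130)) (tt N86423 (iv7 F377132)))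
theorem Q86775 : ∀ i, i < 86775 → P i := stepQ 86774 Q86774 (allL N86774 (tt N51478 (iv1 D189618)) (tt N52122 F377133) (tt N86423 (iv2 F377136)) (tt N69459 (iv3 F377135)) (tt N97177 (iv4 F415773)) (tt N114222 (iv5 F489067)) (tt N87739 F380300) (tt N69452 F377134))
theorem Q86776 : ∀ i, i < 86776 → P i := stepQ 86775 Q86775 (allL N86775 (tt N88069 (iv1 F381669)) (tt N88068 F381663) (tt N86425 F377137) (tt N111693 (iv3 F477521)) (tt N52482 F377140) (tt N51478 (iv5 D189619)) (tt N51933 F377138) (tt N51838 F377139))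
theorem Q86777 : ∀ i, i < 86777 → P i := stepQ 86776 Q86776 (allL N86776 (tt N86301 F377143) (tt N73265 F377144) (tt N85564 F377141) (tt N87345 (iv3 F379084)) (tt N88883 (iv4 F384421)) (tt N51479 (iv5 D189620)) (tt N110289 (iv6 F470865)) (tt N86528 F377142))
theorem Q86778 : ∀ i, i < 86778 → P i := stepQ 86777 Q86777 (allL N86777 (tt N78283 F377149) (tt N97173 F415754) (tt N76412 F377145) (tt N57286 F377146) (tt N51480 (iv4 D189621)) (tt N105834 (iv5 F451936)) (tt N69647 F377147) (tt N86529 F377148))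
theorem Q86779 : ∀ i, i < 86779 → P i := stepQ 86778 Q86778 (allL N86778 (tt N87575 (iv1 F379793)) (tt N87574 F379789) (tt N69634 F377150) (tt N87582 (iv3 F379805)) (tt N51482 (iv4 D189622)) (tt N109738 (iv5 F468364)) (tt N69627 F377151) (tt N87576 (iv7 F379792)))
theorem Q86780 : ∀ i, i < 86780 → P i := stepQ 86779 Q86779 (allL N86779 (tt N113703 F486725) (tt N113348 (iv0 F485137)) (tt N110504 (iv2 F471882)) (tt N87366 (iv3 F379135)) (tt N51487 F377152) (tt N110429 (iv5 F471543)) (tt N51486 (iv6 D189623)) (tt N109042 (iv7 F465067)))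
theorem Q86781 : ∀ i, i < 86781 → P i := stepQ 86780 Q86780 (allL N86780 (tt N115058 (iv1 F493280)) (tt N86408 (iv0 F377353)) (tt N79013 F377153) (tt N51489 F377154) (tt N53676 F377155) (tt N109034 (iv5 F465023)) (tt N51488 (iv6 D189624)) (tt N86542 (iv7 F377156)))
theorem Q86782 : ∀ i, i < 86782 → P i := stepQ 86781 Q86781 (allL N86781 (tt N54840 (iv1 F377172)) (tt N51493 (iv0 D189625)) (tt N54838 (iv2 F377169)) (tt N109564 (iv3 F467545)) (tt N99774 (iv4 F426173)) (tt N115358 D218615) (tt N92229 (iv6 F396373)) (tt N54839 (iv7 F377170)))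
theorem Q86783 : ∀ i, i < 86783 → P i := stepQ 86782 Q86782 (allL N86782 (tt N51493 (iv1 D189626)) (tt N54840 F377157) (tt N54839 F377171) (tt N74794 F377167) (tt N96228 (iv4 F411602)) (tt N85755 (iv5 F377158)) (tt N96227 F411600) (tt N54838 (iv7 F377168)))
theorem Q86784 : ∀ i, i < 86784 → P i := stepQ 86783 Q86783 (allL N86783 (tt N54839 (iv1 F377178)) (tt N54838 F377179) (tt N54840 F377173) (tt N62458 F377174) (tt N72768 F377175) (tt N52753 F377176) (tt N81531 F377177) (tt N51493 (iv7 D189627)))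
theorem Q86785 : ∀ i, i < 86785 → P i := stepQ 86784 Q86784 (allL N86784 (tt N81531 (iv1 F377183)) (tt N51494 (iv0 D189628)) (tt N81530 (iv2 F377182)) (tt N99812 (iv3 F426342)) (tt N71780 F377181) (tt N105879 (iv5 F452149)) (tt N71790 (iv6 F377185)) (tt N81529 F377184))
theorem Q86786 : ∀ i, i < 86786 → P i := stepQ 86785 Q86785 (allL N86785 (tt N89931 (iv1 F388032)) (tt N64885 F390225) (tt N54425 F377187) (tt N75851 F377188) (tt N52733 F377189) (tt N53859 F377190) (tt N51496 (iv6 D189629)) (tt N75906 (iv7 F377191)))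
theorem Q86787 : ∀ i, i < 86787 → P i := stepQ 86786 Q86786 (allL N86786 (tt N61058 (iv1 F377196)) (tt N61054 F377197) (tt N64791 F377192) (tt N74387 F377193) (tt N51498 F377194) (tt N115359 D218616) (tt N51497 (iv6 D189630)) (tt N64660 F377195))
theorem Q86788 : ∀ i, i < 86788 → P i := stepQ 86787 Q86787 (allL N86787 (tt N86414 F377202) (tt N98733 (iv0 F422073)) (tt N88522 (iv2 F383384)) (tt N51502 F377199) (tt N84002 F377200) (tt N69357 F377201) (tt N51500 (iv6 D189631)) (tt N86574 (iv7 F377203)))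
theorem Q86789 : ∀ i, i < 86789 → P i := stepQ 86788 Q86788 (allL N86788 (tt N93174 (iv1 F399802)) (tt N93173 F399798) (tt N56462 F377204) (tt N115360 D218617) (tt N51505 (iv4 D189632)) (tt N115146 (iv5 F493706)) (tt N115360 F494792) (tt N63404 F377205))
theorem Q86790 : ∀ i, i < 86790 → P i := stepQ 86789 Q86789 (allL N86789 (tt N85318 F377209) (tt N85315 F377210) (tt N56463 F377206) (tt N63425 F377207) (tt N115360 (iv4 F494788)) (tt N111182 (iv5 F475117)) (tt N51505 (iv6 D189633)) (tt N63423 F377208))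
theorem Q86791 : ∀ i, i < 86791 → P i := stepQ 86790 Q86790 (allL N86790 (tt N60269 F377215) (tt N60261 F377216) (tt N60266 F377211) (tt N86524 F377212) (tt N51506 (iv4 D189634)) (tt N86814 (iv5 F377284)) (tt N83783 F377213) (tt N60267 F377214))
theorem Q86792 : ∀ i, i < 86792 → P i := stepQ 86791 Q86791 (allL N86791 (tt N108258 (iv1 F461738)) (tt N91199 (iv0 F426036)) (tt N108259 (iv2 F461740)) (tt N51507 (iv3 D189635)) (tt N99747 F426035) (tt N115361 D218618) (tt N104928 (iv6 F447985)) (tt N99565 F425193))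
theorem Q86793 : ∀ i, i < 86793 → P i := stepQ 86792 Q86792 (allL N86792 (tt N97260 (iv1 F416116)) (tt N88818 (iv0 F384245)) (tt N93113 (iv2 F399539)) (tt N115361 (iv3 F494795)) (tt N93175 (iv4 F399810)) (tt N51507 (iv5 D189636)) (tt N91098 (iv6 F391910)) (tt N115180 (iv7 F493893)))
theorem Q86794 : ∀ i, i < 86794 → P i := stepQ 86793 Q86793 (allL N86793 (tt N54907 (iv1 F377221)) (tt N51508 (iv0 D189637)) (tt N86085 (iv2 F377218)) (tt N83295 (iv3 F377219)) (tt N54549 F377223) (tt N83294 F377217) (tt N51530 (iv6 F377222)) (tt N86083 (iv7 F377220)))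
theorem Q86795 : ∀ i, i < 86795 → P i := stepQ 86794 Q86794 (allL N86794 (tt N51508 (iv1 D189638)) (tt N54907 F377225) (tt N86083 (iv2 F377228)) (tt N86497 (iv3 F377229)) (tt N97311 F416318) (tt N85869 F377227) (tt N114077 F488479) (tt N86085 F377226))
theorem Q86796 : ∀ i, i < 86796 → P i := stepQ 86795 Q86795 (allL N86795 (tt N86083 (iv1 F377233)) (tt N86085 F377234) (tt N54907 F377230) (tt N104212 (iv3 F444718)) (tt N68152 F377231) (tt N114459 (iv5 F490283)) (tt N52752 F377232) (tt N51508 (iv7 D189639)))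
theorem Q86797 : ∀ i, i < 86797 → P i := stepQ 86796 Q86796 (allL N86796 (tt N88818 (iv1 F384246)) (tt N97260 (iv0 F416115)) (tt N115180 (iv2 F493889)) (tt N103986 (iv3 F443657)) (tt N115146 (iv4 F493707)) (tt N51509 (iv5 D189640)) (tt N103985 F443656) (tt N93113 (iv7 F399542)))
theorem Q86798 : ∀ i, i < 86798 → P i := stepQ 86797 Q86797 (allL N86797 (tt N87157 (iv1 F378568)) (tt N78537 (iv0 F377239)) (tt N54902 F377235) (tt N52697 F377236) (tt N51510 F377237) (tt N99563 (iv5 F425178)) (tt N51509 (iv6 D189641)) (tt N54905 F377238))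
theorem Q86799 : ∀ i, i < 86799 → P i := stepQ 86798 Q86798 (allL N86798 (tt N95885 (iv1 F410090)) (tt N95884 F410089) (tt N88332 (iv2 F382623)) (tt N51511 (iv3 D189642)) (tt N95877 (iv4 F410058)) (tt N115362 D218619) (tt N88331 F382622) (tt N95875 (iv7 F410050)))
theorem Q86800 : ∀ i, i < 86800 → P i := stepQ 86799 Q86799 (allL N86799 (tt N115363 D218620) (tt N115364 D218621) (tt N88359 (iv2 F382728)) (tt N115362 (iv3 F494802)) (tt N86518 F377241) (tt N51511 (iv5 D189643)) (tt N82603 F377240) (tt N114465 (iv7 F490320)))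
theorem Q86801 : ∀ i, i < 86801 → P i := stepQ 86800 Q86800 (allL N86800 (tt N84047 F377244) (tt N51512 (iv0 D189644)) (tt N91222 (iv2 F392324)) (tt N115365 D218622) (tt N85458 F377242) (tt N114076 (iv5 F488471)) (tt N51561 F377243) (tt N92958 (iv7 F398919)))
theorem Q86802 : ∀ i, i < 86802 → P i := stepQ 86801 Q86801 (allL N86801 (tt N51512 (iv1 D189645)) (tt N84047 F377245) (tt N92958 F398921) (tt N86507 (iv3 F443810)) (tt N85455 (iv4 F377246)) (tt N105709 (iv5 F451359)) (tt N105710 (iv6 F451362)) (tt N91222 F392327))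
theorem Q86803 : ∀ i, i < 86803 → P i := stepQ 86802 Q86802 (allL N86802 (tt N92958 (iv1 F398918)) (tt N91222 (iv0 F392325)) (tt N84047 F377247) (tt N76422 F377248) (tt N51847 F377249) (tt N55415 F377250) (tt N76421 F377251) (tt N51512 (iv7 D189646)))
theorem Q86804 : ∀ i, i < 86804 → P i := stepQ 86803 Q86803 (allL N86803 (tt N88334 (iv1 F382630)) (tt N88333 F382629) (tt N88335 (iv2 F382633)) (tt N51513 (iv3 D189647)) (tt N56536 F377252) (tt N115241 (iv5 F494170)) (tt N87748 (iv6 F380349)) (tt N68771 F377253))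
theorem Q86805 : ∀ i, i < 86805 → P i := stepQ 86804 Q86804 (allL N86804 (tt N115364 (iv1 F494813)) (tt N115363 F494808) (tt N114465 (iv2 F490317)) (tt N115241 (iv3 F494169)) (tt N86519 F377254) (tt N51513 (iv5 D189648)) (tt N115366 D218623) (tt N88359 F382731))
theorem Q86806 : ∀ i, i < 86806 → P i := stepQ 86805 Q86805 (allL N86805 (tt N115367 D218624) (tt N115368 D218625) (tt N95873 (iv2 F410036)) (tt N87748 (iv3 F380346)) (tt N51514 F377255) (tt N84046 (iv5 F377257)) (tt N51513 (iv6 D189649)) (tt N84045 F377256))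
theorem Q86807 : ∀ i, i < 86807 → P i := stepQ 86806 Q86806 (allL N86806 (tt N91226 F392347) (tt N114296 (iv0 F489456)) (tt N76421 F377258) (tt N56606 F377259) (tt N84045 F377260) (tt N109645 (iv5 F467904)) (tt N84047 F377261) (tt N51514 (iv7 D189650)))
theorem Q86808 : ∀ i, i < 86808 → P i := stepQ 86807 Q86807 (allL N86807 (tt N97356 (iv1 F416472)) (tt N87603 (iv0 F392222)) (tt N87526 (iv2 F379658)) (tt N51515 (iv3 D189651)) (tt N68087 F377263) (tt N86605 F377268) (tt N86655 (iv6 F377269)) (tt N102866 (iv7 F439006)))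
theorem Q86809 : ∀ i, i < 86809 → P i := stepQ 86808 Q86808 (allL N86808 (tt N97271 (iv1 F416151)) (tt N51517 F377265) (tt N111728 (iv2 F477696)) (tt N86605 (iv3 F377266)) (tt N86611 F377264) (tt N51515 (iv5 D189652)) (tt N86604 (iv6 F377267)) (tt N104915 (iv7 F447921)))
theorem Q86810 : ∀ i, i < 86810 → P i := stepQ 86809 Q86809 (allL N86809 (tt N85458 (iv1 F377275)) (tt N85455 (iv0 F377274)) (tt N111729 (iv2 F477701)) (tt N86655 F377271) (tt N68126 F377272) (tt N81559 F377273) (tt N51515 (iv6 D189653)) (tt N87395 (iv7 F379228)))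
theorem Q86811 : ∀ i, i < 86811 → P i := stepQ 86810 Q86810 (allL N86810 (tt N114814 F492015) (tt N114817 F492036) (tt N114816 F492026) (tt N51516 (iv3 D189654)) (tt N97240 (iv4 F416033)) (tt N111763 (iv5 F477849)) (tt N97239 (iv6 F416031)) (tt N111727 (iv7 F477693)))
theorem Q86812 : ∀ i, i < 86812 → P i := stepQ 86811 Q86811 (allL N86811 (tt N51517 F377277) (tt N97271 (iv0 F416150)) (tt N104915 (iv2 F447920)) (tt N111763 (iv3 F477847)) (tt N104015 (iv4 F443798)) (tt N51516 (iv5 D189655)) (tt N111765 (iv6 F477858)) (tt N111728 (iv7 F477698)))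
theorem Q86813 : ∀ i, i < 86813 → P i := stepQ 86812 Q86812 (allL N86812 (tt N113932 (iv1 F487854)) (tt N114548 (iv0 F490721)) (tt N102864 (iv2 F438997)) (tt N97239 F416030) (tt N104914 (iv4 F447916)) (tt N84241 (iv5 F377278)) (tt N51516 (iv6 D189656)) (tt N115369 D218626))
theorem Q86814 : ∀ i, i < 86814 → P i := stepQ 86813 Q86813 (allL N86813 (tt N111728 (iv1 F477700)) (tt N104915 (iv0 F447923)) (tt N51517 (iv2 D189657)) (tt N95737 F409375) (tt N86520 F377279) (tt N78883 F377280) (tt N51569 F377281) (tt N97271 (iv7 F416149)))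
theorem Q86815 : ∀ i, i < 86815 → P i := stepQ 86814 Q86814 (allL N86814 (tt N104915 (iv1 F447924)) (tt N111728 (iv0 F477699)) (tt N97271 (iv2 F416147)) (tt N51519 F377282) (tt N86521 F377283) (tt N86790 F377284) (tt N114853 (iv6 F492184)) (tt N51517 (iv7 D189658)))
theorem Q86816 : ∀ i, i < 86816 → P i := stepQ 86815 Q86815 (allL N86815 (tt N111732 (iv1 F477724)) (tt N51518 (iv0 D189659)) (tt N111730 F477709) (tt N60312 (iv3 F377286)) (tt N109692 (iv4 F468135)) (tt N60269 F377285) (tt N71837 (iv6 F390719)) (tt N60268 (iv7 F377287)))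
theorem Q86817 : ∀ i, i < 86817 → P i := stepQ 86816 Q86816 (allL N86816 (tt N51518 (iv1 D189660)) (tt N111732 F477723) (tt N60268 (iv2 F377289)) (tt N97347 (iv3 F416446)) (tt N104923 (iv4 F447962)) (tt N60261 F377288) (tt N60305 (iv6 F377290)) (tt N111730 (iv7 F477712)))
theorem Q86818 : ∀ i, i < 86818 → P i := stepQ 86817 Q86817 (allL N86817 (tt N92145 (iv1 F395954)) (tt N113046 (iv0 F483710)) (tt N107052 (iv2 F456783)) (tt N87509 (iv3 F379611)) (tt N102922 (iv4 F439278)) (tt N51520 (iv5 D189661)) (tt N94488 (iv6 F404696)) (tt N86467 F377291))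
theorem Q86819 : ∀ i, i < 86819 → P i := stepQ 86818 Q86818 (allL N86818 (tt N114074 (iv1 F488461)) (tt N111267 (iv0 F475533)) (tt N114070 (iv2 F488434)) (tt N86571 F377292) (tt N105905 (iv4 F452281)) (tt N109052 (iv5 F465114)) (tt N51524 (iv6 D189662)) (tt N98281 (iv7 F420307)))
theorem Q86820 : ∀ i, i < 86820 → P i := stepQ 86819 Q86819 (allL N86819 (tt N51526 (iv1 D189663)) (tt N76418 F377293) (tt N76417 (iv2 F377295)) (tt N58746 (iv3 F377296)) (tt N86905 (iv4 F377657)) (tt N95891 (iv5 F410112)) (tt N76385 F377297) (tt N69600 F377294))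
theorem Q86821 : ∀ i, i < 86821 → P i := stepQ 86820 Q86820 (allL N86820 (tt N90085 (iv1 F388525)) (tt N91679 (iv0 F394011)) (tt N86474 F377298) (tt N87516 (iv3 F379626)) (tt N51528 (iv4 D189664)) (tt N109638 (iv5 F467869)) (tt N78998 F377299) (tt N113864 (iv7 F487519)))
theorem Q86822 : ∀ i, i < 86822 → P i := stepQ 86821 Q86821 (allL N86821 (tt N112914 F483263) (tt N105325 (iv0 F449726)) (tt N88700 (iv2 F383908)) (tt N51529 (iv3 D189665)) (tt N85325 F377302) (tt N83247 F377300) (tt N88963 (iv6 F384609)) (tt N86472 F377301))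
theorem Q86823 : ∀ i, i < 86823 → P i := stepQ 86822 Q86822 (allL N86822 (tt N91679 (iv1 F394012)) (tt N90085 (iv0 F388526)) (tt N113864 (iv2 F487524)) (tt N53040 F377304) (tt N51529 (iv4 D189666)) (tt N114315 (iv5 F489549)) (tt N114027 (iv6 F488262)) (tt N86474 F377303))
theorem Q86824 : ∀ i, i < 86824 → P i := stepQ 86823 Q86823 (allL N86823 (tt N84404 F377307) (tt N84403 (iv0 F377309)) (tt N85019 F377305) (tt N88963 (iv3 F384610)) (tt N114027 (iv4 F488260)) (tt N62810 (iv5 F377308)) (tt N51529 (iv6 D189667)) (tt N78997 F377306))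
theorem Q86825 : ∀ i, i < 86825 → P i := stepQ 86824 Q86824 (allL N86824 (tt N115355 (iv1 F494762)) (tt N86412 (iv0 F377313)) (tt N86562 F377310) (tt N51530 (iv3 D189668)) (tt N87618 (iv4 F379900)) (tt N85540 (iv5 F377312)) (tt N83295 F377311) (tt N87615 (iv7 F379894)))
theorem Q86826 : ∀ i, i < 86826 → P i := stepQ 86825 Q86825 (allL N86825 (tt N76230 F377319) (tt N85095 F377320) (tt N85093 F377314) (tt N85540 F377315) (tt N57744 F377318) (tt N51530 (iv5 D189669)) (tt N85539 F377316) (tt N85092 F377317))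
theorem Q86827 : ∀ i, i < 86827 → P i := stepQ 86826 Q86826 (allL N86826 (tt N85095 (iv1 F377326)) (tt N76230 (iv0 F377325)) (tt N85092 F377321) (tt N86566 F377322) (tt N94601 (iv4 F405140)) (tt N51531 (iv5 D189670)) (tt N84806 F377324) (tt N85093 F377323))
theorem Q86828 : ∀ i, i < 86828 → P i := stepQ 86827 Q86827 (allL N86827 (tt N86650 F377328) (tt N86653 F379888) (tt N87614 (iv2 F379884)) (tt N86567 F377327) (tt N112466 (iv4 F481203)) (tt N115191 (iv5 F493948)) (tt N51531 (iv6 D189671)) (tt N114077 (iv7 F488478)))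
theorem Q86829 : ∀ i, i < 86829 → P i := stepQ 86828 Q86828 (allL N86828 (tt N69607 (iv1 F377333)) (tt N69606 (iv0 F377334)) (tt N69608 F377329) (tt N76418 F377330) (tt N104355 (iv4 F445400)) (tt N58747 F377331) (tt N51533 (iv6 D189672)) (tt N56411 F377332))
theorem Q86830 : ∀ i, i < 86830 → P i := stepQ 86829 Q86829 (allL N86829 (tt N51542 (iv1 F377341)) (tt N51535 (iv0 D189673)) (tt N51540 (iv2 F377338)) (tt N85019 (iv3 F377340)) (tt N84560 F377336) (tt N75719 F377335) (tt N86132 F377337) (tt N51541 F377339))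
theorem Q86831 : ∀ i, i < 86831 → P i := stepQ 86830 Q86830 (allL N86830 (tt N51541 (iv1 F377346)) (tt N51540 F377347) (tt N51542 F377342) (tt N113031 (iv3 F483626)) (tt N84562 F377343) (tt N83628 F377344) (tt N79016 F377345) (tt N51535 (iv7 D189674)))
theorem Q86832 : ∀ i, i < 86832 → P i := stepQ 86831 Q86831 (allL N86831 (tt N86407 (iv1 F377352)) (tt N87541 F379705) (tt N86533 F377348) (tt N51536 (iv3 D189675)) (tt N74347 F377351) (tt N54875 F377349) (tt N74346 F377350) (tt N114071 (iv7 F488443)))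
theorem Q86833 : ∀ i, i < 86833 → P i := stepQ 86832 Q86832 (allL N86832 (tt N86669 F377358) (tt N86460 F377359) (tt N86674 F377354) (tt N79737 F377355) (tt N51536 (iv4 D189676)) (tt N85676 (iv5 F377360)) (tt N68665 F377356) (tt N86673 F377357))
theorem Q86834 : ∀ i, i < 86834 → P i := stepQ 86833 Q86833 (allL N86833 (tt N86460 F377365) (tt N86669 F377366) (tt N86673 F377363) (tt N103285 (iv3 F440986)) (tt N51537 (iv4 D189677)) (tt N102076 (iv5 F435611)) (tt N97007 (iv6 F415004)) (tt N86674 F377364))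
theorem Q86835 : ∀ i, i < 86835 → P i := stepQ 86834 Q86834 (allL N86834 (tt N95894 (iv1 F410131)) (tt N57284 (iv0 F377371)) (tt N60931 F377367) (tt N83974 F377368) (tt N97007 (iv4 F415000)) (tt N55743 F377369) (tt N51537 (iv6 D189678)) (tt N60934 F377370))
theorem Q86836 : ∀ i, i < 86836 → P i := stepQ 86835 Q86835 (allL N86835 (tt N112941 (iv1 F483322)) (tt N105322 F449711) (tt N88963 (iv2 F384608)) (tt N51540 (iv3 D189679)) (tt N84381 F377374) (tt N85052 F377372) (tt N88700 (iv6 F383909)) (tt N86477 F377373))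
theorem Q86837 : ∀ i, i < 86837 → P i := stepQ 86836 Q86836 (allL N86836 (tt N104120 (iv1 F444278)) (tt N104121 (iv0 F444284)) (tt N78631 F377375) (tt N86583 F377376) (tt N78550 (iv4 F377379)) (tt N51543 (iv5 D189680)) (tt N69543 F377378) (tt N85061 F377377))
theorem Q86838 : ∀ i, i < 86838 → P i := stepQ 86837 Q86837 (allL N86837 (tt N95893 (iv1 F410123)) (tt N57281 F396411) (tt N81461 F377382) (tt N86584 F377383) (tt N112460 (iv4 F481187)) (tt N79890 F377384) (tt N51543 (iv6 D189681)) (tt N92202 (iv7 F396226)))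
theorem Q86839 : ∀ i, i < 86839 → P i := stepQ 86838 Q86838 (allL N86838 (tt N86418 F379733) (tt N115356 F494768) (tt N86585 F377385) (tt N51544 (iv3 D189682)) (tt N111062 (iv4 F474476)) (tt N97939 (iv5 F418883)) (tt N92799 (iv6 F398287)) (tt N114072 (iv7 F488450)))
theorem Q86840 : ∀ i, i < 86840 → P i := stepQ 86839 Q86839 (allL N86839 (tt N91214 (iv1 F392290)) (tt N83952 F377388) (tt N51547 F377386) (tt N93118 (iv3 F399570)) (tt N51546 (iv4 D189683)) (tt N109744 (iv5 F468403)) (tt N76439 F377387) (tt N91211 (iv7 F392277)))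
theorem Q86841 : ∀ i, i < 86841 → P i := stepQ 86840 Q86840 (allL N86840 (tt N51547 (iv1 D189684)) (tt N91211 (iv0 F392278)) (tt N83952 (iv2 F377390)) (tt N69503 F377392) (tt N83946 F377389) (tt N104211 (iv5 F444713)) (tt N57276 (iv6 F377391)) (tt N91214 (iv7 F392291)))
theorem Q86842 : ∀ i, i < 86842 → P i := stepQ 86841 Q86841 (allL N86841 (tt N96777 (iv1 F413883)) (tt N52085 (iv0 F377395)) (tt N104089 (iv2 F444116)) (tt N51547 (iv3 D189685)) (tt N51549 F377393) (tt N87547 (iv5 F379723)) (tt N95878 F410064) (tt N59924 F377394))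
theorem Q86843 : ∀ i, i < 86843 → P i := stepQ 86842 Q86842 (allL N86842 (tt N109723 F468297) (tt N104995 (iv0 F448299)) (tt N109744 (iv2 F468401)) (tt N87547 F379726) (tt N57435 F403347) (tt N51547 (iv5 D189686)) (tt N57434 (iv6 F403346)) (tt N91215 (iv7 F392297)))
theorem Q86844 : ∀ i, i < 86844 → P i := stepQ 86843 Q86843 (allL N86843 (tt N57271 (iv1 F398891)) (tt N76404 (iv0 F398890)) (tt N76439 F377396) (tt N95878 (iv3 F410065)) (tt N51548 F377397) (tt N114479 (iv5 F490388)) (tt N51547 (iv6 D189687)) (tt N76438 F392242))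
theorem Q86845 : ∀ i, i < 86845 → P i := stepQ 86844 Q86844 (allL N86844 (tt N63814 (iv1 F377398)) (tt N51548 (iv0 D189688)) (tt N109720 (iv2 F468283)) (tt N98273 (iv3 F420278)) (tt N87505 (iv4 F398888)) (tt N61554 F420252) (tt N57273 F398889) (tt N98267 (iv7 F420249)))
theorem Q86846 : ∀ i, i < 86846 → P i := stepQ 86845 Q86845 (allL N86845 (tt N51548 (iv1 D189689)) (tt N63814 F377399) (tt N98267 (iv2 F420246)) (tt N98358 (iv3 F420634)) (tt N109751 (iv4 F468442)) (tt N61553 (iv5 F377400)) (tt N75566 (iv6 F377401)) (tt N109720 (iv7 F468279)))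
theorem Q86847 : ∀ i, i < 86847 → P i := stepQ 86846 Q86846 (allL N86846 (tt N59923 (iv1 F377411)) (tt N59922 F377410) (tt N51549 (iv2 D189690)) (tt N78509 F377407) (tt N104089 (iv4 F444118)) (tt N59898 F377408) (tt N115370 D218627) (tt N59897 F377409))
theorem Q86848 : ∀ i, i < 86848 → P i := stepQ 86847 Q86847 (allL N86847 (tt N95881 F410075) (tt N108245 (iv0 F461666)) (tt N115370 (iv2 F494850)) (tt N51550 F377412) (tt N95878 F410063) (tt N65492 F377413) (tt N51549 (iv6 D189691)) (tt N115371 D218628))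
theorem Q86849 : ∀ i, i < 86849 → P i := stepQ 86848 Q86848 (allL N86848 (tt N78520 (iv1 F377423)) (tt N51550 (iv0 D189692)) (tt N78518 (iv2 F377420)) (tt N103978 F443629) (tt N54860 F377424) (tt N95142 F407215) (tt N115368 F494843) (tt N78519 (iv7 F377421)))
theorem Q86850 : ∀ i, i < 86850 → P i := stepQ 86849 Q86849 (allL N86849 (tt N51550 (iv1 D189693)) (tt N78520 F377414) (tt N78519 F377422) (tt N56292 (iv3 F377416)) (tt N54861 F377415) (tt N113509 (iv5 F485835)) (tt N105030 (iv6 F448469)) (tt N78518 F377418))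
theorem Q86851 : ∀ i, i < 86851 → P i := stepQ 86850 Q86850 (allL N86850 (tt N78519 (iv1 F377431)) (tt N78518 F377432) (tt N78520 F377428) (tt N115371 (iv3 F494855)) (tt N51554 F377429) (tt N92883 (iv5 F398637)) (tt N68388 F377430) (tt N51550 (iv7 D189694)))
theorem Q86852 : ∀ i, i < 86852 → P i := stepQ 86851 Q86851 (allL N86851 (tt N87481 F379490) (tt N86420 (iv0 F422246)) (tt N86595 F377435) (tt N51551 (iv3 D189696)) (tt N69449 (iv4 F377434)) (tt N73588 F377436) (tt N105483 (iv6 F450430)) (tt N91227 (iv7 F392350)))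
theorem Q86853 : ∀ i, i < 86853 → P i := stepQ 86852 Q86852 (allL N86852 (tt N81602 F377541) (tt N51564 F377542) (tt N81599 (iv2 F377537)) (tt N82176 F377439) (tt N51551 (iv4 D189697)) (tt N110594 F472298) (tt N114548 (iv6 F490719)) (tt N81600 F377540))
theorem Q86854 : ∀ i, i < 86854 → P i := stepQ 86853 Q86853 (allL N86853 (tt N55823 F377442) (tt N112360 (iv0 F480739)) (tt N91225 (iv2 F392341)) (tt N73588 F377440) (tt N108288 (iv4 F461899)) (tt N51551 (iv5 D189698)) (tt N73586 F377441) (tt N61481 (iv7 F377443)))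
theorem Q86855 : ∀ i, i < 86855 → P i := stepQ 86854 Q86854 (allL N86854 (tt N51564 F377449) (tt N81602 (iv0 F377450)) (tt N81600 F377539) (tt N96944 (iv3 F414713)) (tt N51552 (iv4 D189699)) (tt N96617 (iv5 F413198)) (tt N74144 (iv6 F386897)) (tt N81599 (iv7 F377538)))
theorem Q86856 : ∀ i, i < 86856 → P i := stepQ 86855 Q86855 (allL N86855 (tt N112360 F480740) (tt N55823 F377453) (tt N61481 F377451) (tt N86599 F377452) (tt N103120 (iv4 F440165)) (tt N51552 (iv5 D189700)) (tt N61469 F377454) (tt N91225 (iv7 F392342)))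
theorem Q86857 : ∀ i, i < 86857 → P i := stepQ 86856 Q86856 (allL N86856 (tt N91178 (iv1 F392182)) (tt N91180 (iv0 F392185)) (tt N91228 (iv2 F392354)) (tt N86600 F377455) (tt N74144 F386898) (tt N92203 (iv5 F396229)) (tt N51552 (iv6 D189701)) (tt N114547 (iv7 F490714)))
theorem Q86858 : ∀ i, i < 86858 → P i := stepQ 86857 Q86857 (allL N86857 (tt N52663 F377458) (tt N83604 F377459) (tt N51556 F377456) (tt N115372 D218629) (tt N51555 (iv4 D189702)) (tt N82568 F377457) (tt N97644 (iv6 F417746)) (tt N91223 (iv7 F392330)))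
theorem Q86859 : ∀ i, i < 86859 → P i := stepQ 86858 Q86858 (allL N86858 (tt N98638 F421684) (tt N92960 F398929) (tt N51557 F377460) (tt N91212 (iv3 F392281)) (tt N97644 F417748) (tt N98530 (iv5 F421224)) (tt N51555 (iv6 D189703)) (tt N63817 F377461))
theorem Q86860 : ∀ i, i < 86860 → P i := stepQ 86859 Q86859 (allL N86859 (tt N65975 F377464) (tt N111681 (iv0 F477452)) (tt N115373 D218630) (tt N51556 (iv3 D189704)) (tt N51558 F377462) (tt N101542 (iv5 F433317)) (tt N56557 (iv6 F377465)) (tt N78512 F377463))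
theorem Q86861 : ∀ i, i < 86861 → P i := stepQ 86860 Q86860 (allL N86860 (tt N97646 F417756) (tt N65977 (iv0 F377471)) (tt N97644 F417747) (tt N56557 F377466) (tt N51557 F377467) (tt N56555 (iv5 F377468)) (tt N51556 (iv6 D189705)) (tt N97645 (iv7 F417749)))
theorem Q86862 : ∀ i, i < 86862 → P i := stepQ 86861 Q86861 (allL N86861 (tt N63817 (iv1 F377474)) (tt N51557 (iv0 D189706)) (tt N98638 (iv2 F421679)) (tt N115374 D218631) (tt N68657 F377472) (tt N78770 F377473) (tt N115375 D218632) (tt N92960 F398930))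
theorem Q86863 : ∀ i, i < 86863 → P i := stepQ 86862 Q86862 (allL N86862 (tt N51557 (iv1 D189707)) (tt N63817 F377477) (tt N92960 (iv2 F398925)) (tt N95890 (iv3 F410106)) (tt N60620 (iv4 F377478)) (tt N78771 F377480) (tt N56600 F377479) (tt N98638 (iv7 F421682)))
theorem Q86864 : ∀ i, i < 86864 → P i := stepQ 86863 Q86863 (allL N86863 (tt N78511 (iv1 F377485)) (tt N78510 F377484) (tt N51558 (iv2 D189708)) (tt N59897 F377481) (tt N115373 (iv4 F494866)) (tt N59894 F377482) (tt N82599 (iv6 F377486)) (tt N78509 F377483))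
theorem Q86865 : ∀ i, i < 86865 → P i := stepQ 86864 Q86864 (allL N86864 (tt N81614 F377494) (tt N51566 F377559) (tt N81611 F379481) (tt N97292 (iv3 F416250)) (tt N51560 (iv4 D189711)) (tt N97290 F416241) (tt N115376 D218633) (tt N81612 (iv7 F379485)))
theorem Q86866 : ∀ i, i < 86866 → P i := stepQ 86865 Q86865 (allL N86865 (tt N114846 F492162) (tt N114863 F492232) (tt N91220 (iv2 F392310)) (tt N86616 (iv3 F379479)) (tt N115376 (iv4 F494884)) (tt N83626 F377495) (tt N51560 (iv6 D189712)) (tt N105710 (iv7 F451363)))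
theorem Q86867 : ∀ i, i < 86867 → P i := stepQ 86866 Q86866 (allL N86866 (tt N86422 F377501) (tt N87120 F378418) (tt N86617 F379474) (tt N51561 (iv3 D189714)) (tt N87288 (iv4 F378989)) (tt N100594 (iv5 F429609)) (tt N115365 (iv6 F494822)) (tt N87480 (iv7 F379472)))
theorem Q86868 : ∀ i, i < 86868 → P i := stepQ 86867 Q86867 (allL N86867 (tt N51566 F377498) (tt N81614 F377499) (tt N81612 F379483) (tt N87111 (iv3 F378380)) (tt N51561 (iv4 D189715)) (tt N97305 (iv5 F416300)) (tt N85458 F377497) (tt N81611 F379482))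
theorem Q86869 : ∀ i, i < 86869 → P i := stepQ 86868 Q86868 (allL N86868 (tt N81608 (iv1 F377504)) (tt N51563 (iv0 D189716)) (tt N81609 (iv2 F377506)) (tt N96737 (iv3 F413690)) (tt N51768 F377503) (tt N54848 F377502) (tt N74131 F377507) (tt N52083 (iv7 F377505)))
theorem Q86870 : ∀ i, i < 86870 → P i := stepQ 86869 Q86869 (allL N86869 (tt N51563 (iv1 D189717)) (tt N81608 (iv0 F377513)) (tt N52083 (iv2 F377511)) (tt N87606 F392217) (tt N52082 F377510) (tt N54849 (iv5 F377512)) (tt N87603 (iv6 F392218)) (tt N81609 F377509))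
theorem Q86871 : ∀ i, i < 86871 → P i := stepQ 86870 Q86870 (allL N86870 (tt N81609 (iv1 F377519)) (tt N52083 F377518) (tt N51563 (iv2 D189718)) (tt N81592 F377514) (tt N52400 F377515) (tt N78662 F377516) (tt N92525 (iv6 F397238)) (tt N81608 F377517))
theorem Q86872 : ∀ i, i < 86872 → P i := stepQ 86871 Q86871 (allL N86871 (tt N92528 F397257) (tt N59121 (iv0 F377522)) (tt N92525 F397239) (tt N51564 F377520) (tt N78891 F377521) (tt N115377 D218634) (tt N51563 (iv6 D189719)) (tt N92526 (iv7 F397241)))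
theorem Q86873 : ∀ i, i < 86873 → P i := stepQ 86872 Q86872 (allL N86872 (tt N111713 F477621) (tt N111446 (iv0 F476406)) (tt N81601 F377523) (tt N115377 (iv3 F494889)) (tt N112293 (iv4 F480400)) (tt N51564 (iv5 D189721)) (tt N78664 F377524) (tt N111714 (iv7 F477625)))
theorem Q86874 : ∀ i, i < 86874 → P i := stepQ 86873 Q86873 (allL N86873 (tt N81600 (iv1 F377529)) (tt N81599 F377530) (tt N81602 F377525) (tt N92526 F397242) (tt N83756 F377526) (tt N111714 (iv5 F477622)) (tt N81614 F377527) (tt N51564 (iv7 D189722)))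
theorem Q86875 : ∀ i, i < 86875 → P i := stepQ 86874 Q86874 (allL N86874 (tt N81592 (iv1 F377544)) (tt N51565 (iv0 D189723)) (tt N81595 (iv2 F443763)) (tt N114815 (iv3 F492018)) (tt N115378 D218635) (tt N54843 F443829) (tt N114814 (iv6 F492016)) (tt N81594 (iv7 F443765)))
theorem Q86876 : ∀ i, i < 86876 → P i := stepQ 86875 Q86875 (allL N86875 (tt N51565 (iv1 D189724)) (tt N81592 F377550) (tt N81594 F443764) (tt N104007 (iv3 F443761)) (tt N81632 (iv4 F463124)) (tt N54844 F443835) (tt N81631 F463123) (tt N81595 F443762))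
theorem Q86877 : ∀ i, i < 86877 → P i := stepQ 86876 Q86876 (allL N86876 (tt N81595 (iv1 F377551)) (tt N81594 F377549) (tt N51565 (iv2 D189725)) (tt N81608 F377545) (tt N115379 D218636) (tt N78660 F377546) (tt N72322 F377547) (tt N81592 F377548))
theorem Q86878 : ∀ i, i < 86878 → P i := stepQ 86877 Q86877 (allL N86877 (tt N115380 D218637) (tt N111754 (iv0 F477804)) (tt N115379 (iv2 F494904)) (tt N83708 F377552) (tt N51565 (iv4 D189726)) (tt N115381 D218638) (tt N110914 (iv6 F473762)) (tt N81596 F377553))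
theorem Q86879 : ∀ i, i < 86879 → P i := stepQ 86878 Q86878 (allL N86878 (tt N81612 (iv1 F377560)) (tt N81611 F377561) (tt N81614 F377554) (tt N72321 F377555) (tt N83711 F377556) (tt N78255 F377557) (tt N81602 F377558) (tt N51566 (iv7 D189728)))
theorem Q86880 : ∀ i, i < 86880 → P i := stepQ 86879 Q86879 (allL N86879 (tt N104007 (iv1 F443766)) (tt N104004 (iv0 F443749)) (tt N104191 (iv2 F444611)) (tt N51567 (iv3 D189730)) (tt N68139 F377563) (tt N80656 F377574) (tt N104195 (iv6 F444638)) (tt N68071 (iv7 F377564)))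
theorem Q86881 : ∀ i, i < 86881 → P i := stepQ 86880 Q86880 (allL N86880 (tt N115382 D218639) (tt N115250 F494213) (tt N114848 (iv2 F492168)) (tt N115383 D218640) (tt N51567 (iv4 D189731)) (tt N115384 D218641) (tt N111734 (iv6 F477725)) (tt N114847 (iv7 F492167)))
theorem Q86882 : ∀ i, i < 86882 → P i := stepQ 86881 Q86881 (allL N86881 (tt N115250 (iv1 F494212)) (tt N115382 F494917) (tt N114847 (iv2 F492164)) (tt N115307 (iv3 F494492)) (tt N51568 (iv4 D189735)) (tt N115385 D218642) (tt N115324 (iv6 F494592)) (tt N114848 (iv7 F492169)))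
theorem Q86883 : ∀ i, i < 86883 → P i := stepQ 86882 Q86882 (allL N86882 (tt N97292 F416253) (tt N97303 F416295) (tt N68069 F377577) (tt N104190 (iv3 F444604)) (tt N115324 (iv4 F494590)) (tt N68068 F377578) (tt N51568 (iv6 D189736)) (tt N97300 (iv7 F416286)))
theorem Q86884 : ∀ i, i < 86884 → P i := stepQ 86883 Q86883 (allL N86883 (tt N97203 F415881) (tt N114251 (iv0 F489226)) (tt N51574 F377580) (tt N83791 F377581) (tt N113628 (iv4 F486373)) (tt N103405 (iv5 F441470)) (tt N51571 (iv6 D189737)) (tt N97196 (iv7 F415842)))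
theorem Q86885 : ∀ i, i < 86885 → P i := stepQ 86884 Q86884 (allL N86884 (tt N97166 (iv1 F416074)) (tt N93140 (iv0 F399649)) (tt N113628 (iv2 F486371)) (tt N88337 (iv3 F382641)) (tt N51574 F377582) (tt N91806 (iv5 F394500)) (tt N51573 (iv6 D189738)) (tt N103410 (iv7 F441494)))
theorem Q86886 : ∀ i, i < 86886 → P i := stepQ 86885 Q86885 (allL N86885 (tt N97196 (iv1 F415844)) (tt N51574 (iv0 D189739)) (tt N97203 (iv2 F415877)) (tt N86678 F399075) (tt N97355 (iv4 F416465)) (tt N78864 F377583) (tt N60288 (iv6 F377584)) (tt N114251 (iv7 F489225)))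
theorem Q86887 : ∀ i, i < 86887 → P i := stepQ 86886 Q86886 (allL N86886 (tt N51574 (iv1 D189740)) (tt N97196 F415843) (tt N114251 (iv2 F489222)) (tt N52099 F377586) (tt N114250 (iv4 F489219)) (tt N78863 (iv5 F377589)) (tt N52097 (iv6 F377585)) (tt N97203 (iv7 F415880)))
theorem Q86888 : ∀ i, i < 86888 → P i := stepQ 86887 Q86887 (allL N86887 (tt N98160 F419777) (tt N103194 (iv0 F440510)) (tt N103405 (iv2 F441467)) (tt N51580 F377587) (tt N103398 (iv4 F441438)) (tt N51574 (iv5 D189741)) (tt N51577 F377588) (tt N115386 D218643))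
theorem Q86889 : ∀ i, i < 86889 → P i := stepQ 86888 Q86888 (allL N86888 (tt N114251 (iv1 F489227)) (tt N97203 F415882) (tt N97196 (iv2 F415841)) (tt N51581 F377590) (tt N103410 F441496) (tt N115386 (iv5 F494929)) (tt N60274 F377591) (tt N51574 (iv7 D189742)))
theorem Q86890 : ∀ i, i < 86890 → P i := stepQ 86889 Q86889 (allL N86889 (tt N86761 F377596) (tt N89599 (iv0 F386909)) (tt N86682 F377592) (tt N51576 (iv3 D189743)) (tt N86682 F377593) (tt N85288 F377594) (tt N114052 (iv6 F488363)) (tt N85773 F377595))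
theorem Q86891 : ∀ i, i < 86891 → P i := stepQ 86890 Q86890 (allL N86890 (tt N79030 F377597) (tt N86087 (iv0 F377598)) (tt N103406 (iv2 F441472)) (tt N114297 (iv3 F489457)) (tt N51577 (iv4 D189744)) (tt N115387 D218644) (tt N103398 (iv6 F441439)) (tt N111322 (iv7 F475815)))
theorem Q86892 : ∀ i, i < 86892 → P i := stepQ 86891 Q86891 (allL N86891 (tt N109753 (iv1 F468455)) (tt N109700 (iv0 F468183)) (tt N109752 (iv2 F468448)) (tt N51578 (iv3 D189746)) (tt N111330 (iv4 F475851)) (tt N109085 (iv5 F468087)) (tt N109750 (iv6 F468439)) (tt N83820 (iv7 F377612)))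
theorem Q86893 : ∀ i, i < 86893 → P i := stepQ 86892 Q86892 (allL N86892 (tt N86032 (iv1 F377627)) (tt N115388 D218645) (tt N83819 F377611) (tt N109085 F468086) (tt N112014 (iv4 F479081)) (tt N51578 (iv5 D189748)) (tt N109083 (iv6 F468088)) (tt N83821 (iv7 F377613)))
theorem Q86894 : ∀ i, i < 86894 → P i := stepQ 86893 Q86893 (allL N86893 (tt N104028 (iv1 F443862)) (tt N60272 (iv0 F377604)) (tt N69484 (iv2 F377601)) (tt N109750 (iv3 F468438)) (tt N54515 (iv4 F377602)) (tt N85901 F377600) (tt N51578 (iv6 D189749)) (tt N86209 (iv7 F377603)))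
theorem Q86895 : ∀ i, i < 86895 → P i := stepQ 86894 Q86894 (allL N86894 (tt N86452 F377622) (tt N93005 (iv0 F399099)) (tt N115389 D218646) (tt N51579 (iv3 D189750)) (tt N69488 (iv4 F377615)) (tt N89741 (iv5 F387380)) (tt N104032 (iv6 F443883)) (tt N69485 F377614))
theorem Q86896 : ∀ i, i < 86896 → P i := stepQ 86895 Q86895 (allL N86895 (tt N78658 (iv1 F377620)) (tt N81585 F377621) (tt N81584 F377616) (tt N69500 F377617) (tt N51579 (iv4 D189751)) (tt N84044 F377619) (tt N104037 (iv6 F443899)) (tt N69496 F377618))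
theorem Q86897 : ∀ i, i < 86897 → P i := stepQ 86896 Q86896 (allL N86896 (tt N115388 (iv1 F494936)) (tt N86032 (iv0 F377625)) (tt N83821 F377623) (tt N89741 F387382) (tt N89748 (iv4 F387411)) (tt N51579 (iv5 D189752)) (tt N84843 (iv6 F377626)) (tt N83819 F377624))
theorem Q86898 : ∀ i, i < 86898 → P i := stepQ 86897 Q86897 (allL N86897 (tt N115390 D218647) (tt N112469 (iv0 F481217)) (tt N83822 F377628) (tt N104032 (iv3 F443881)) (tt N104037 (iv4 F443898)) (tt N115325 (iv5 F494598)) (tt N51579 (iv6 D189753)) (tt N104029 (iv7 F443870)))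
theorem Q86899 : ∀ i, i < 86899 → P i := stepQ 86898 Q86898 (allL N86898 (tt N53850 (iv1 F377636)) (tt N51580 (iv0 D189754)) (tt N53848 F387763) (tt N109373 (iv3 F466637)) (tt N85224 (iv4 F377638)) (tt N104916 (iv5 F447925)) (tt N98555 F421319) (tt N53849 F387761))
theorem Q86900 : ∀ i, i < 86900 → P i := stepQ 86899 Q86899 (allL N86899 (tt N51580 (iv1 D189755)) (tt N53850 F377629) (tt N53849 (iv2 F387759)) (tt N76670 (iv3 F387473)) (tt N85225 (iv4 F377630)) (tt N91205 (iv5 F392253)) (tt N76668 F387475) (tt N53848 (iv7 F387762)))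
theorem Q86901 : ∀ i, i < 86901 → P i := stepQ 86900 Q86900 (allL N86900 (tt N53849 (iv1 F377637)) (tt N53848 F377639) (tt N53850 F377634) (tt N115386 (iv3 F494928)) (tt N94596 F405122) (tt N51581 F377635) (tt N114347 (iv6 F489748)) (tt N51580 (iv7 D189756)))
theorem Q86902 : ∀ i, i < 86902 → P i := stepQ 86901 Q86901 (allL N86901 (tt N114271 (iv1 F489320)) (tt N114270 F489315) (tt N83787 F377640) (tt N91249 (iv3 F392403)) (tt N51583 (iv4 D189757)) (tt N115391 D218648) (tt N91247 F392401) (tt N83789 F377641))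
theorem Q86903 : ∀ i, i < 86903 → P i := stepQ 86902 Q86902 (allL N86902 (tt N96771 (iv1 F413853)) (tt N93904 (iv0 F402360)) (tt N83788 F377642) (tt N83750 F377643) (tt N91247 (iv4 F392399)) (tt N70793 F377644) (tt N51583 (iv6 D189758)) (tt N97180 (iv7 F415783)))
theorem Q86904 : ∀ i, i < 86904 → P i := stepQ 86903 Q86903 (allL N86903 (tt N74347 F377647) (tt N83795 F377648) (tt N51588 F377645) (tt N115392 D218649) (tt N51584 (iv4 D189759)) (tt N112266 (iv5 F480280)) (tt N87766 (iv6 F380438)) (tt N83790 F377646))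
theorem Q86905 : ∀ i, i < 86905 → P i := stepQ 86904 Q86904 (allL N86904 (tt N86719 F377652) (tt N88077 (iv0 F381706)) (tt N51589 F377649) (tt N60273 F377650) (tt N87766 F380437) (tt N69369 F377651) (tt N51584 (iv6 D189760)) (tt N97183 (iv7 F415793)))
theorem Q86906 : ∀ i, i < 86906 → P i := stepQ 86905 Q86905 (allL N86905 (tt N86658 (iv1 F377659)) (tt N86657 (iv0 F377658)) (tt N86453 F377653) (tt N51586 (iv3 D189761)) (tt N86819 F377657) (tt N54853 F377654) (tt N75557 F377655) (tt N83792 F377656))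
theorem Q86907 : ∀ i, i < 86907 → P i := stepQ 86906 Q86906 (allL N86906 (tt N52073 (iv1 F377662)) (tt N97340 F416420) (tt N83793 F377660) (tt N115236 (iv3 F494152)) (tt N51587 (iv4 D189762)) (tt N115393 D218650) (tt N105693 (iv6 F451287)) (tt N73671 F377661))
theorem Q86908 : ∀ i, i < 86908 → P i := stepQ 86907 Q86907 (allL N86907 (tt N83790 (iv1 F377664)) (tt N51588 (iv0 D189763)) (tt N74347 (iv2 F377665)) (tt N104985 F448269) (tt N86533 F377663) (tt N115394 D218651) (tt N62677 (iv6 F377666)) (tt N83795 (iv7 F377667)))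
theorem Q86909 : ∀ i, i < 86909 → P i := stepQ 86908 Q86908 (allL N86908 (tt N51588 (iv1 D189764)) (tt N83790 F377668) (tt N83795 (iv2 F377670)) (tt N83578 (iv3 F377671)) (tt N114071 (iv4 F488446)) (tt N115395 D218652) (tt N115396 D218653) (tt N74347 F377669))
theorem Q86910 : ∀ i, i < 86910 → P i := stepQ 86909 Q86909 (allL N86909 (tt N112267 F480286) (tt N112256 (iv0 F480245)) (tt N112266 F480282) (tt N112455 (iv3 F481170)) (tt N115397 D218654) (tt N51588 (iv5 D189765)) (tt N88062 F394961) (tt N83797 F377672))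
theorem Q86911 : ∀ i, i < 86911 → P i := stepQ 86910 Q86910 (allL N86910 (tt N97183 (iv1 F415792)) (tt N51589 (iv0 D189766)) (tt N86719 (iv2 F377674)) (tt N109745 (iv3 F468406)) (tt N52041 F377673) (tt N97871 (iv5 F418607)) (tt N97186 (iv6 F415810)) (tt N88077 (iv7 F381705)))
theorem Q86912 : ∀ i, i < 86912 → P i := stepQ 86911 Q86911 (allL N86911 (tt N88077 (iv1 F381707)) (tt N86719 (iv0 F377678)) (tt N97183 (iv2 F415800)) (tt N51595 F377675) (tt N87765 (iv4 F380430)) (tt N69368 F377676) (tt N83801 F377677) (tt N51589 (iv7 D189767)))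
theorem Q86913 : ∀ i, i < 86913 → P i := stepQ 86912 Q86912 (allL N86912 (tt N85786 (iv1 F377684)) (tt N85785 (iv0 F377685)) (tt N53836 F377679) (tt N51590 (iv3 D189768)) (tt N86231 F377683) (tt N84948 F377680) (tt N53835 F377681) (tt N85784 F377682))
theorem Q86914 : ∀ i, i < 86914 → P i := stepQ 86913 Q86913 (allL N86913 (tt N114425 (iv1 F490089)) (tt N98740 (iv0 F422100)) (tt N114368 (iv2 F489833)) (tt N69125 F377686) (tt N51591 (iv4 D189769)) (tt N115398 D218655) (tt N102513 (iv6 F437484)) (tt N91040 (iv7 F391719)))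
theorem Q86915 : ∀ i, i < 86915 → P i := stepQ 86914 Q86914 (allL N86914 (tt N105903 (iv1 F452276)) (tt N105901 (iv0 F452266)) (tt N100300 (iv2 F428324)) (tt N51593 (iv3 D189770)) (tt N105776 F451656) (tt N92559 (iv5 F397375)) (tt N57431 F377687) (tt N104215 (iv7 F444746)))
theorem Q86916 : ∀ i, i < 86916 → P i := stepQ 86915 Q86915 (allL N86915 (tt N51594 (iv1 D189771)) (tt N67947 F377688) (tt N67949 (iv2 F377692)) (tt N91037 (iv3 F391707)) (tt N67941 F377690) (tt N83753 (iv5 F377691)) (tt N91035 F391689) (tt N67938 F377689))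
theorem Q86917 : ∀ i, i < 86917 → P i := stepQ 86916 Q86916 (allL N86916 (tt N67949 (iv1 F377697)) (tt N67938 F377698) (tt N67947 F377693) (tt N69368 F377694) (tt N69168 F377695) (tt N51595 F377696) (tt N91041 (iv6 F391721)) (tt N51594 (iv7 D189772)))
theorem Q86918 : ∀ i, i < 86918 → P i := stepQ 86917 Q86917 (allL N86917 (tt N52987 F377702) (tt N113793 (iv0 F487141)) (tt N95107 F407076) (tt N106128 (iv3 F453256)) (tt N51597 (iv4 D189773)) (tt N115399 D218656) (tt N98711 (iv6 F421958)) (tt N82770 F377701))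
theorem Q86919 : ∀ i, i < 86919 → P i := stepQ 86918 Q86918 (allL N86918 (tt N82806 (iv1 F377703)) (tt N51598 (iv0 D189774)) (tt N82805 (iv2 F380714)) (tt N115400 D218657) (tt N93096 (iv4 F399467)) (tt N78394 (iv5 F380715)) (tt N104268 (iv6 F445035)) (tt N82804 F380713))
theorem Q86920 : ∀ i, i < 86920 → P i := stepQ 86919 Q86919 (allL N86919 (tt N51598 (iv1 D189775)) (tt N82806 F377708) (tt N82804 F380708) (tt N97685 (iv3 F417896)) (tt N104307 (iv4 F445159)) (tt N78395 F380133) (tt N97683 F417895) (tt N82805 (iv7 F380712)))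
theorem Q86921 : ∀ i, i < 86921 → P i := stepQ 86920 Q86920 (allL N86920 (tt N82805 (iv1 F377709)) (tt N82804 F377707) (tt N51598 (iv2 D189776)) (tt N67278 F377704) (tt N87680 (iv4 F380129)) (tt N80418 F377705) (tt N114433 (iv6 F490138)) (tt N82806 F377706))
theorem Q86922 : ∀ i, i < 86922 → P i := stepQ 86921 Q86921 (allL N86921 (tt N115401 D218658) (tt N115402 D218659) (tt N114433 (iv2 F490134)) (tt N51599 F377710) (tt N87681 (iv4 F380136)) (tt N86007 (iv5 F377717)) (tt N51598 (iv6 D189777)) (tt N114452 (iv7 F490242)))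
theorem Q86923 : ∀ i, i < 86923 → P i := stepQ 86922 Q86922 (allL N86922 (tt N82391 (iv1 F377725)) (tt N51599 (iv0 D189778)) (tt N82389 (iv2 F377723)) (tt N102374 (iv3 F436965)) (tt N87042 (iv4 F378155)) (tt N102371 F436955) (tt N112491 (iv6 F481328)) (tt N82390 (iv7 F377724)))
theorem Q86924 : ∀ i, i < 86924 → P i := stepQ 86923 Q86923 (allL N86923 (tt N51599 (iv1 D189779)) (tt N82391 F377711) (tt N82390 F377718) (tt N67839 F377719) (tt N77230 F377721) (tt N67838 (iv5 F377714)) (tt N77228 (iv6 F377722)) (tt N82389 F377720))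
theorem Q86925 : ∀ i, i < 86925 → P i := stepQ 86924 Q86924 (allL N86924 (tt N104558 F446256) (tt N104320 (iv0 F445229)) (tt N65135 F377712) (tt N86007 F377716) (tt N85957 (iv4 F377715)) (tt N51599 (iv5 D189780)) (tt N65095 F377713) (tt N104559 (iv7 F446262)))
theorem Q86926 : ∀ i, i < 86926 → P i := stepQ 86925 Q86925 (allL N86925 (tt N82390 (iv1 F377729)) (tt N82389 F377730) (tt N82391 F377726) (tt N114452 (iv3 F490240)) (tt N51603 F377727) (tt N104559 (iv5 F446259)) (tt N82811 F377728) (tt N51599 (iv7 D189781)))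
theorem Q86927 : ∀ i, i < 86927 → P i := stepQ 86926 Q86926 (allL N86926 (tt N115403 D218660) (tt N112917 (iv0 F483273)) (tt N105669 (iv2 F451173)) (tt N51600 (iv3 D189782)) (tt N115404 D218661) (tt N83418 F377731) (tt N106849 F455979) (tt N110312 (iv7 F470989)))
theorem Q86928 : ∀ i, i < 86928 → P i := stepQ 86927 Q86927 (allL N86927 (tt N115405 D218662) (tt N61591 (iv0 F377735)) (tt N113164 (iv2 F484280)) (tt N66599 (iv3 F377733)) (tt N51600 (iv4 D189783)) (tt N66594 F377732) (tt N66596 (iv6 F377734)) (tt N110279 (iv7 F470807)))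
theorem Q86929 : ∀ i, i < 86929 → P i := stepQ 86928 Q86928 (allL N86928 (tt N108344 F462175) (tt N70271 (iv0 F377740)) (tt N104107 F444210) (tt N106849 F455976) (tt N66596 F377738) (tt N82674 F377739) (tt N51600 (iv6 D189784)) (tt N101215 (iv7 F432239)))
theorem Q86930 : ∀ i, i < 86930 → P i := stepQ 86929 Q86929 (allL N86929 (tt N61591 F377746) (tt N115405 F495028) (tt N110279 (iv2 F470803)) (tt N93250 (iv3 F400121)) (tt N51601 (iv4 D189785)) (tt N69258 F394695) (tt N101205 (iv6 F432189)) (tt N113164 (iv7 F484284)))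
theorem Q86931 : ∀ i, i < 86931 → P i := stepQ 86930 Q86930 (allL N86930 (tt N100436 F428970) (tt N101739 (iv0 F434117)) (tt N83342 F377747) (tt N111340 (iv3 F475905)) (tt N51602 (iv4 D189786)) (tt N84475 F377749) (tt N51604 F377748) (tt N110061 (iv7 F469790)))
theorem Q86932 : ∀ i, i < 86932 → P i := stepQ 86931 Q86931 (allL N86931 (tt N115406 D218663) (tt N111345 (iv0 F475924)) (tt N115407 D218664) (tt N51604 (iv3 D189787)) (tt N87694 (iv4 F380153)) (tt N100968 (iv5 F431102)) (tt N111340 (iv6 F475906)) (tt N83345 F377750))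
theorem Q86933 : ∀ i, i < 86933 → P i := stepQ 86932 Q86932 (allL N86932 (tt N80735 F377753) (tt N97531 F430532) (tt N111841 (iv2 F478248)) (tt N51606 (iv3 D189788)) (tt N64942 F377751) (tt N100800 (iv5 F430531)) (tt N102212 (iv6 F436212)) (tt N80094 F377752))
theorem Q86934 : ∀ i, i < 86934 → P i := stepQ 86933 Q86933 (allL N86933 (tt N82547 F377756) (tt N80500 F377757) (tt N80093 F377754) (tt N100800 (iv3 F430534)) (tt N107906 (iv4 F460209)) (tt N51606 (iv5 D189789)) (tt N105869 (iv6 F452095)) (tt N67987 F377755))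
theorem Q86935 : ∀ i, i < 86935 → P i := stepQ 86934 Q86934 (allL N86934 (tt N58845 F377761) (tt N91875 (iv0 F394790)) (tt N97118 F415524) (tt N51608 (iv3 D189790)) (tt N79469 F377758) (tt N60689 (iv5 F377762)) (tt N81552 F377759) (tt N80092 F377760))
theorem Q86936 : ∀ i, i < 86936 → P i := stepQ 86935 Q86935 (allL N86935 (tt N80500 F377767) (tt N82547 F377768) (tt N67987 F377763) (tt N60689 F377764) (tt N96727 (iv4 F413633)) (tt N51608 (iv5 D189791)) (tt N60688 F377765) (tt N80093 F377766))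
theorem Q86937 : ∀ i, i < 86937 → P i := stepQ 86936 Q86936 (allL N86936 (tt N108958 F464669) (tt N51609 (iv0 D189792)) (tt N91948 (iv2 F395085)) (tt N65831 F377771) (tt N54955 F377769) (tt N67399 F377770) (tt N65829 (iv6 F377772)) (tt N67398 F377773))
theorem Q86938 : ∀ i, i < 86938 → P i := stepQ 86937 Q86937 (allL N86937 (tt N51609 (iv1 D189793)) (tt N108958 (iv0 F464668)) (tt N67398 F377776) (tt N111833 (iv3 F478207)) (tt N54953 F377774) (tt N67192 F377777) (tt N67193 (iv6 F377775)) (tt N91948 (iv7 F395086)))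
theorem Q86939 : ∀ i, i < 86939 → P i := stepQ 86938 Q86938 (allL N86938 (tt N91948 (iv1 F395088)) (tt N67398 F377781) (tt N51609 (iv2 D189794)) (tt N80098 F377778) (tt N84570 F377779) (tt N97776 (iv5 F418269)) (tt N51621 F377780) (tt N108958 (iv7 F464667)))
theorem Q86940 : ∀ i, i < 86940 → P i := stepQ 86939 Q86939 (allL N86939 (tt N65642 F377783) (tt N67490 (iv0 F377784)) (tt N97776 (iv2 F418267)) (tt N51610 F377782) (tt N102045 (iv4 F435490)) (tt N51609 (iv5 D189795)) (tt N97773 F418255) (tt N112809 (iv7 F482713)))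
theorem Q86941 : ∀ i, i < 86941 → P i := stepQ 86940 Q86940 (allL N86940 (tt N94689 F405538) (tt N94693 F405558) (tt N59433 F377785) (tt N102046 (iv3 F435494)) (tt N51610 (iv4 D189796)) (tt N64236 F377786) (tt N59330 (iv6 F377788)) (tt N80091 F377787))
theorem Q86942 : ∀ i, i < 86942 → P i := stepQ 86941 Q86941 (allL N86941 (tt N87828 F380722) (tt N97479 (iv0 F417021)) (tt N59431 F377789) (tt N97773 (iv3 F418250)) (tt N59330 F377790) (tt N51623 F377791) (tt N51610 (iv6 D189797)) (tt N59427 (iv7 F377792)))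
theorem Q86943 : ∀ i, i < 86943 → P i := stepQ 86942 Q86942 (allL N86942 (tt N87778 (iv1 F380466)) (tt N51611 (iv0 D189798)) (tt N87777 F380468) (tt N65422 F377794) (tt N111700 (iv4 F477564)) (tt N111936 (iv5 F478754)) (tt N112318 (iv6 F480524)) (tt N82399 (iv7 F377795)))
theorem Q86944 : ∀ i, i < 86944 → P i := stepQ 86943 Q86943 (allL N86943 (tt N51611 (iv1 D189799)) (tt N87778 F380472) (tt N82399 (iv2 F380470)) (tt N92050 (iv3 F395549)) (tt N101545 (iv4 F433333)) (tt N98767 (iv5 F422227)) (tt N79359 F380471) (tt N87777 F380469))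
theorem Q86945 : ∀ i, i < 86945 → P i := stepQ 86944 Q86944 (allL N86944 (tt N87777 (iv1 F380467)) (tt N82399 F377798) (tt N51611 (iv2 D189800)) (tt N87776 (iv3 F380456)) (tt N79802 F377796) (tt N108779 (iv5 F463890)) (tt N81764 F377797) (tt N87778 (iv7 F380465)))
theorem Q86946 : ∀ i, i < 86946 → P i := stepQ 86945 Q86945 (allL N86945 (tt N105932 F452409) (tt N97530 (iv0 F417339)) (tt N108779 (iv2 F463888)) (tt N51612 F377799) (tt N92816 (iv4 F398358)) (tt N51611 (iv5 D189801)) (tt N92815 F398356) (tt N80428 F377800))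
theorem Q86947 : ∀ i, i < 86947 → P i := stepQ 86946 Q86946 (allL N86946 (tt N113164 (iv1 F484286)) (tt N110279 (iv0 F470808)) (tt N61591 F377801) (tt N92815 (iv3 F398354)) (tt N51694 F377802) (tt N110277 (iv5 F470794)) (tt N51612 (iv6 D189802)) (tt N115405 (iv7 F495029)))
theorem Q86948 : ∀ i, i < 86948 → P i := stepQ 86947 Q86947 (allL N86947 (tt N87776 (iv1 F380461)) (tt N51613 (iv0 D189803)) (tt N87775 F399479) (tt N93076 (iv3 F399374)) (tt N115408 D218665) (tt N93073 (iv5 F399366)) (tt N79676 F377809) (tt N87774 F399473))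
theorem Q86949 : ∀ i, i < 86949 → P i := stepQ 86948 Q86948 (allL N86948 (tt N51613 (iv1 D189804)) (tt N87776 F380463) (tt N87774 (iv2 F399478)) (tt N115409 D218666) (tt N112399 (iv4 F480937)) (tt N97822 (iv5 F418422)) (tt N115410 D218667) (tt N87775 (iv7 F399481)))
theorem Q86950 : ∀ i, i < 86950 → P i := stepQ 86949 Q86949 (allL N86949 (tt N87775 (iv1 F380462)) (tt N87774 F380455) (tt N51613 (iv2 D189805)) (tt N87778 (iv3 F380464)) (tt N79633 F377803) (tt N97055 F415241) (tt N95349 (iv6 F407952)) (tt N87776 (iv7 F380460)))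
theorem Q86951 : ∀ i, i < 86951 → P i := stepQ 86950 Q86950 (allL N86950 (tt N67290 (iv1 F377807)) (tt N96097 (iv0 F411037)) (tt N95349 (iv2 F407951)) (tt N51615 F377804) (tt N59787 F377805) (tt N65992 (iv5 F377808)) (tt N51613 (iv6 D189806)) (tt N74659 (iv7 F377806)))
theorem Q86952 : ∀ i, i < 86952 → P i := stepQ 86951 Q86951 (allL N86951 (tt N82813 F398789) (tt N56579 (iv0 F377813)) (tt N80429 F377810) (tt N92926 (iv3 F398788)) (tt N51693 F377811) (tt N65994 F377812) (tt N51614 (iv6 D189807)) (tt N103390 (iv7 F441403)))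
theorem Q86953 : ∀ i, i < 86953 → P i := stepQ 86952 Q86952 (allL N86952 (tt N80425 (iv1 F377815)) (tt N51617 (iv0 D189808)) (tt N80424 F377825) (tt N65430 F377814) (tt N96646 F413310) (tt N105932 (iv5 F452407)) (tt N81735 (iv6 F377816)) (tt N78418 (iv7 F377817)))
theorem Q86954 : ∀ i, i < 86954 → P i := stepQ 86953 Q86953 (allL N86953 (tt N51617 (iv1 D189809)) (tt N80425 F377822) (tt N78418 (iv2 F377823)) (tt N97440 (iv3 F416921)) (tt N96645 (iv4 F413304)) (tt N97530 F417276) (tt N97531 (iv6 F417277)) (tt N80424 (iv7 F377824)))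
theorem Q86955 : ∀ i, i < 86955 → P i := stepQ 86954 Q86954 (allL N86954 (tt N80424 (iv1 F377827)) (tt N78418 F377821) (tt N51617 (iv2 D189810)) (tt N80421 F377818) (tt N64974 F377819) (tt N113153 (iv5 F484227)) (tt N112488 (iv6 F481312)) (tt N80425 F377820))
theorem Q86956 : ∀ i, i < 86956 → P i := stepQ 86955 Q86955 (allL N86955 (tt N80421 (iv1 F377830)) (tt N51618 (iv0 D189811)) (tt N80420 (iv2 F383829)) (tt N102171 F436023) (tt N115411 D218668) (tt N57261 F383828) (tt N58845 (iv6 F383830)) (tt N80419 (iv7 F383832)))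
theorem Q86957 : ∀ i, i < 86957 → P i := stepQ 86956 Q86956 (allL N86956 (tt N51618 (iv1 D189812)) (tt N80421 F377835) (tt N80419 F383833) (tt N112857 F482993) (tt N111053 (iv4 F474435)) (tt N97490 (iv5 F417072)) (tt N82535 (iv6 F417076)) (tt N80420 F383831))
theorem Q86958 : ∀ i, i < 86958 → P i := stepQ 86957 Q86957 (allL N86957 (tt N80420 (iv1 F377836)) (tt N80419 F377834) (tt N51618 (iv2 D189813)) (tt N80425 F377831) (tt N80250 F377832) (tt N66011 (iv5 F377837)) (tt N95451 (iv6 F408236)) (tt N80421 F377833))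
theorem Q86959 : ∀ i, i < 86959 → P i := stepQ 86958 Q86958 (allL N86958 (tt N91982 (iv1 F395239)) (tt N81589 F377871) (tt N80656 F377853) (tt N59927 F377854) (tt N51619 (iv4 D189814)) (tt N104191 (iv5 F444614)) (tt N95598 (iv6 F408835)) (tt N65696 F377855))
theorem Q86960 : ∀ i, i < 86960 → P i := stepQ 86959 Q86959 (allL N86959 (tt N81747 (iv1 F377859)) (tt N80206 (iv0 F377858)) (tt N81746 F377860) (tt N57241 F377856) (tt N95598 (iv4 F408834)) (tt N91818 (iv5 F394543)) (tt N51619 (iv6 D189815)) (tt N65518 F377857))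
theorem Q86961 : ∀ i, i < 86961 → P i := stepQ 86960 Q86960 (allL N86960 (tt N111392 F476146) (tt N97661 (iv0 F417827)) (tt N59607 F377862) (tt N51620 (iv3 D189816)) (tt N59603 (iv4 F377864)) (tt N113156 (iv5 F484244)) (tt N59601 F377863) (tt N111008 (iv7 F474221)))
theorem Q86962 : ∀ i, i < 86962 → P i := stepQ 86961 Q86961 (allL N86961 (tt N81589 F377870) (tt N91982 F395238) (tt N65696 F377865) (tt N78485 F377868) (tt N51620 (iv4 D189817)) (tt N68071 (iv5 F377869)) (tt N65695 F377866) (tt N80656 F377867))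
theorem Q86963 : ∀ i, i < 86963 → P i := stepQ 86962 Q86962 (allL N86962 (tt N87851 (iv1 F380846)) (tt N87850 F380840) (tt N51622 F377872) (tt N87786 (iv3 F380490)) (tt N102503 (iv4 F437455)) (tt N51621 (iv5 D189818)) (tt N97775 (iv6 F418266)) (tt N87852 (iv7 F380850)))
theorem Q86964 : ∀ i, i < 86964 → P i := stepQ 86963 Q86963 (allL N86963 (tt N51622 (iv1 D189819)) (tt N87852 F380852) (tt N87850 F380841) (tt N97780 (iv3 F418283)) (tt N103549 (iv4 F442007)) (tt N82757 (iv5 F377947)) (tt N115412 D218669) (tt N87851 (iv7 F380843)))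
theorem Q86965 : ∀ i, i < 86965 → P i := stepQ 86964 Q86964 (allL N86964 (tt N115413 D218670) (tt N104549 (iv0 F446223)) (tt N102503 (iv2 F437454)) (tt N82793 F377873) (tt N51622 (iv4 D189820)) (tt N102498 F437442) (tt N105752 (iv6 F451536)) (tt N87846 (iv7 F380818)))
theorem Q86966 : ∀ i, i < 86966 → P i := stepQ 86965 Q86965 (allL N86965 (tt N68628 F377875) (tt N101997 F435290) (tt N97775 (iv2 F418262)) (tt N51623 F377874) (tt N105752 (iv4 F451537)) (tt N97773 F418254) (tt N51622 (iv6 D189821)) (tt N102393 (iv7 F437037)))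
theorem Q86967 : ∀ i, i < 86967 → P i := stepQ 86966 Q86966 (allL N86966 (tt N108653 F463377) (tt N54393 F390103) (tt N55057 F377876) (tt N89924 (iv3 F388010)) (tt N79557 F377877) (tt N87631 (iv5 F379947)) (tt N51627 (iv6 D189822)) (tt N103989 (iv7 F443677)))
theorem Q86968 : ∀ i, i < 86968 → P i := stepQ 86967 Q86967 (allL N86967 (tt N51636 (iv1 F377883)) (tt N51630 (iv0 D189823)) (tt N51633 (iv2 F377879)) (tt N66739 (iv3 F377882)) (tt N61172 F377878) (tt N96864 (iv5 F414329)) (tt N85775 F377880) (tt N51634 F377881))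
theorem Q86969 : ∀ i, i < 86969 → P i := stepQ 86968 Q86968 (allL N86968 (tt N51634 (iv1 F377888)) (tt N51633 F377889) (tt N51636 F377884) (tt N58643 F377885) (tt N76034 F377886) (tt N59715 F377887) (tt N87710 (iv6 F380223)) (tt N51630 (iv7 D189824)))
theorem Q86970 : ∀ i, i < 86970 → P i := stepQ 86969 Q86969 (allL N86969 (tt N51644 (iv1 F377891)) (tt N51631 (iv0 D189825)) (tt N51641 (iv2 F377892)) (tt N95379 (iv3 F408048)) (tt N91301 (iv4 F392618)) (tt N84478 F377890) (tt N95377 F408041) (tt N51642 (iv7 F377893)))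
theorem Q86971 : ∀ i, i < 86971 → P i := stepQ 86970 Q86970 (allL N86970 (tt N51631 (iv1 D189826)) (tt N51644 F377894) (tt N51642 (iv2 F377897)) (tt N55424 (iv3 F377898)) (tt N91302 (iv4 F392627)) (tt N51795 F377896) (tt N100714 (iv6 F430153)) (tt N51641 F377895))
theorem Q86972 : ∀ i, i < 86972 → P i := stepQ 86971 Q86971 (allL N86971 (tt N58640 F377900) (tt N66671 F377899) (tt N96864 (iv2 F414328)) (tt N87716 (iv3 F380247)) (tt N56225 F377901) (tt N51633 (iv5 D189827)) (tt N80241 F397886) (tt N96866 (iv7 F414347)))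
theorem Q86973 : ∀ i, i < 86973 → P i := stepQ 86972 Q86972 (allL N86972 (tt N66671 F377905) (tt N58640 F377904) (tt N96866 (iv2 F414351)) (tt N58636 F377903) (tt N97388 (iv4 F416659)) (tt N51634 (iv5 D189828)) (tt N102134 (iv6 F435890)) (tt N96864 (iv7 F414330)))
theorem Q86974 : ∀ i, i < 86974 → P i := stepQ 86973 Q86973 (allL N86973 (tt N111767 F477871) (tt N111231 (iv0 F475341)) (tt N102872 (iv2 F439032)) (tt N108331 (iv3 F462099)) (tt N92642 (iv4 F397728)) (tt N102871 F439031) (tt N51634 (iv6 D189829)) (tt N109528 (iv7 F467383)))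
theorem Q86975 : ∀ i, i < 86975 → P i := stepQ 86974 Q86974 (allL N86974 (tt N59715 (iv1 F377914)) (tt N51635 (iv0 D189830)) (tt N95464 (iv2 F408283)) (tt N87718 F413732) (tt N93975 (iv4 F402674)) (tt N102946 (iv5 F439374)) (tt N81567 F383186) (tt N95468 (iv7 F408293)))
theorem Q86976 : ∀ i, i < 86976 → P i := stepQ 86975 Q86975 (allL N86975 (tt N51635 (iv1 D189831)) (tt N59715 F377906) (tt N95468 F408295) (tt N59712 (iv3 F377907)) (tt N115414 D218671) (tt N79952 (iv5 F377908)) (tt N81164 (iv6 F395701)) (tt N95464 (iv7 F408280)))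
theorem Q86977 : ∀ i, i < 86977 → P i := stepQ 86976 Q86976 (allL N86976 (tt N95468 (iv1 F408292)) (tt N95464 (iv0 F408281)) (tt N59715 F377910) (tt N51658 F377911) (tt N55690 F377912) (tt N51636 F377913) (tt N115415 D218672) (tt N51635 (iv7 D189832)))
theorem Q86978 : ∀ i, i < 86978 → P i := stepQ 86977 Q86977 (allL N86977 (tt N55559 F377917) (tt N80738 F377918) (tt N67339 F377915) (tt N103240 (iv3 F440728)) (tt N51637 (iv4 D189833)) (tt N67180 F377919) (tt N67183 (iv6 F377920)) (tt N80739 F377916))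
theorem Q86979 : ∀ i, i < 86979 → P i := stepQ 86978 Q86978 (allL N86978 (tt N79437 F377926) (tt N110971 (iv0 F474022)) (tt N67348 F377924) (tt N87724 (iv3 F380263)) (tt N67183 F377925) (tt N104896 (iv5 F447841)) (tt N51637 (iv6 D189834)) (tt N103383 (iv7 F441384)))
theorem Q86980 : ∀ i, i < 86980 → P i := stepQ 86979 Q86979 (allL N86979 (tt N52401 F377930) (tt N52415 F377931) (tt N52413 F377927) (tt N79022 F377928) (tt N88160 (iv4 F381955)) (tt N51638 (iv5 D189835)) (tt N104896 (iv6 F447842)) (tt N52412 F377929))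
theorem Q86981 : ∀ i, i < 86981 → P i := stepQ 86980 Q86980 (allL N86980 (tt N103219 F440635) (tt N96867 (iv0 F414356)) (tt N103239 (iv2 F440720)) (tt N77590 F377932) (tt N80724 F377933) (tt N114237 (iv5 F489155)) (tt N51640 (iv6 D189836)) (tt N103380 (iv7 F441370)))
theorem Q86982 : ∀ i, i < 86982 → P i := stepQ 86981 Q86981 (allL N86981 (tt N55535 F377934) (tt N87906 F381076) (tt N91301 F392623) (tt N112382 (iv3 F480833)) (tt N51641 (iv4 D189837)) (tt N112382 (iv5 F480835)) (tt N102130 F435878) (tt N91302 (iv7 F392626)))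
theorem Q86983 : ∀ i, i < 86983 → P i := stepQ 86982 Q86982 (allL N86982 (tt N59809 F377936) (tt N95393 F408098) (tt N95377 (iv2 F408036)) (tt N87728 (iv3 F380269)) (tt N102130 (iv4 F435873)) (tt N56006 F377935) (tt N51641 (iv6 D189838)) (tt N95392 (iv7 F408087)))
theorem Q86984 : ∀ i, i < 86984 → P i := stepQ 86983 Q86983 (allL N86983 (tt N59714 (iv1 F377939)) (tt N91829 (iv0 F394579)) (tt N87729 (iv2 F380272)) (tt N51642 (iv3 D189839)) (tt N70082 F377937) (tt N111308 (iv5 F475745)) (tt N70084 (iv6 F377938)) (tt N95379 (iv7 F408050)))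
theorem Q86985 : ∀ i, i < 86985 → P i := stepQ 86984 Q86984 (allL N86984 (tt N87906 (iv1 F381073)) (tt N55535 F377942) (tt N91302 F392628) (tt N80525 F377941) (tt N51642 (iv4 D189840)) (tt N105878 (iv5 F452146)) (tt N111618 (iv6 F477179)) (tt N91301 F392624))
theorem Q86986 : ∀ i, i < 86986 → P i := stepQ 86985 Q86985 (allL N86985 (tt N67192 F377945) (tt N67399 F377946) (tt N67397 F377943) (tt N111848 (iv3 F478289)) (tt N102341 (iv4 F436807)) (tt N51643 (iv5 D189841)) (tt N115416 D218673) (tt N67396 F377944))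
theorem Q86987 : ∀ i, i < 86987 → P i := stepQ 86986 Q86986 (allL N86986 (tt N115417 D218674) (tt N112850 (iv0 F482959)) (tt N83718 F377949) (tt N51673 F377950) (tt N102102 (iv4 F435731)) (tt N55427 F377951) (tt N51644 (iv6 D189842)) (tt N115415 (iv7 F495082)))
theorem Q86988 : ∀ i, i < 86988 → P i := stepQ 86987 Q86987 (allL N86987 (tt N68687 (iv1 F377963)) (tt N69939 (iv0 F383864)) (tt N69941 F377956) (tt N75589 F377952) (tt N51646 F377953) (tt N52970 F377954) (tt N51645 (iv6 D189843)) (tt N69942 F377955))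
theorem Q86989 : ∀ i, i < 86989 → P i := stepQ 86988 Q86988 (allL N86988 (tt N51646 (iv1 D189844)) (tt N87792 F380520) (tt N87744 (iv2 F380328)) (tt N76038 (iv3 F377971)) (tt N101201 (iv4 F432166)) (tt N115418 D218675) (tt N111768 (iv6 F477873)) (tt N87790 (iv7 F380514)))
theorem Q86990 : ∀ i, i < 86990 → P i := stepQ 86989 Q86989 (allL N86989 (tt N113130 F484116) (tt N71823 F377974) (tt N87791 (iv2 F380516)) (tt N51649 F377972) (tt N115419 D218676) (tt N51646 (iv5 D189845)) (tt N51785 F377973) (tt N115366 (iv7 F494829)))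
theorem Q86991 : ∀ i, i < 86991 → P i := stepQ 86990 Q86990 (allL N86990 (tt N87744 F380332) (tt N87790 F380515) (tt N87792 (iv2 F380518)) (tt N51650 F377975) (tt N69942 F377976) (tt N115366 (iv5 F494828)) (tt N84046 F377977) (tt N51646 (iv7 D189846)))
theorem Q86992 : ∀ i, i < 86992 → P i := stepQ 86991 Q86991 (allL N86991 (tt N100642 (iv1 F429808)) (tt N87288 (iv0 F378987)) (tt N87739 (iv2 F380296)) (tt N81584 F377978) (tt N113095 (iv4 F483956)) (tt N51648 (iv5 D189847)) (tt N86423 (iv6 F377979)) (tt N87738 (iv7 F380294)))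
theorem Q86993 : ∀ i, i < 86993 → P i := stepQ 86992 Q86992 (allL N86992 (tt N87742 (iv1 F380317)) (tt N51649 (iv0 D189848)) (tt N87740 F380305) (tt N111788 F477978) (tt N52034 F377981) (tt N64008 F377980) (tt N93153 (iv6 F399688)) (tt N87741 (iv7 F380308)))
theorem Q86994 : ∀ i, i < 86994 → P i := stepQ 86993 Q86993 (allL N86993 (tt N51649 (iv1 D189849)) (tt N87742 F380316) (tt N87741 F380310) (tt N115367 (iv3 F494834)) (tt N52035 (iv4 F377983)) (tt N64007 F377982) (tt N96137 (iv6 F411198)) (tt N87740 F380306))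
theorem Q86995 : ∀ i, i < 86995 → P i := stepQ 86994 Q86994 (allL N86994 (tt N87128 (iv1 F378462)) (tt N73966 F377986) (tt N87503 (iv2 F379588)) (tt N85165 F377987) (tt N51649 (iv4 D189850)) (tt N85163 F377985) (tt N51786 F377984) (tt N87502 F379580))
theorem Q86996 : ∀ i, i < 86996 → P i := stepQ 86995 Q86995 (allL N86995 (tt N87741 (iv1 F380307)) (tt N87740 (iv0 F380304)) (tt N87742 (iv2 F380312)) (tt N115366 (iv3 F494826)) (tt N87502 (iv4 F379578)) (tt N51650 F377988) (tt N115241 (iv6 F494171)) (tt N51649 (iv7 D189851)))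
theorem Q86997 : ∀ i, i < 86997 → P i := stepQ 86996 Q86996 (allL N86996 (tt N58646 (iv1 F377993)) (tt N66743 F377992) (tt N51651 (iv2 D189852)) (tt N51712 F377989) (tt N74756 F377990) (tt N58633 F377991) (tt N115420 D218677) (tt N87795 (iv7 F380535)))
theorem Q86998 : ∀ i, i < 86998 → P i := stepQ 86997 Q86997 (allL N86997 (tt N115421 D218678) (tt N96876 (iv0 F414395)) (tt N115420 (iv2 F495103)) (tt N51653 F377994) (tt N74757 F377995) (tt N88055 (iv5 F381608)) (tt N51651 (iv6 D189853)) (tt N115422 D218679))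
theorem Q86999 : ∀ i, i < 86999 → P i := stepQ 86998 Q86998 (allL N86998 (tt N66681 (iv1 F378000)) (tt N66679 F378001) (tt N66713 F377996) (tt N115422 (iv3 F495114)) (tt N74845 F377997) (tt N51821 F377998) (tt N78188 F377999) (tt N51653 (iv7 D189854)))
theorem Q87000 : ∀ i, i < 87000 → P i := stepQ 86999 Q86999 (allL N86999 (tt N51654 (iv1 D189855)) (tt N51712 F378002) (tt N51714 F378006) (tt N87710 (iv3 F380221)) (tt N85574 (iv4 F378004)) (tt N81033 F378007) (tt N58643 (iv6 F378005)) (tt N51708 F378003))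
theorem Q87001 : ∀ i, i < 87001 → P i := stepQ 87000 Q87000 (allL N87000 (tt N94740 (iv1 F405770)) (tt N94737 (iv0 F405759)) (tt N95139 F407204) (tt N51655 F378009) (tt N95034 (iv4 F406740)) (tt N51654 (iv5 D189856)) (tt N90673 (iv6 F390475)) (tt N87793 (iv7 F380524)))
theorem Q87002 : ∀ i, i < 87002 → P i := stepQ 87001 Q87001 (allL N87001 (tt N78188 (iv1 F378012)) (tt N51656 (iv0 D189857)) (tt N66729 (iv2 F378011)) (tt N111767 (iv3 F477866)) (tt N66635 F378010) (tt N87198 (iv5 F378726)) (tt N87750 F380361) (tt N66731 F378013))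
theorem Q87003 : ∀ i, i < 87003 → P i := stepQ 87002 Q87002 (allL N87002 (tt N51713 F378015) (tt N81033 F378233) (tt N95459 (iv2 F408252)) (tt N51657 (iv3 D189858)) (tt N107734 (iv4 F459456)) (tt N75189 F378014) (tt N91844 (iv6 F394651)) (tt N87798 (iv7 F380548)))
theorem Q87004 : ∀ i, i < 87004 → P i := stepQ 87003 Q87003 (allL N87003 (tt N81171 (iv1 F378020)) (tt N80812 (iv0 F378019)) (tt N81170 F378016) (tt N91844 F394649) (tt N75206 F378017) (tt N87281 (iv5 F378965)) (tt N51657 (iv6 D189859)) (tt N81169 (iv7 F378018)))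
theorem Q87005 : ∀ i, i < 87005 → P i := stepQ 87004 Q87004 (allL N87004 (tt N81029 F378026) (tt N81031 F378027) (tt N66685 F378022) (tt N115415 (iv3 F495079)) (tt N75284 F378023) (tt N55432 F378024) (tt N51658 (iv6 D189860)) (tt N51673 F378025))
theorem Q87006 : ∀ i, i < 87006 → P i := stepQ 87005 Q87005 (allL N87005 (tt N87816 (iv1 F380640)) (tt N51668 (iv0 F378030)) (tt N59821 F378028) (tt N91829 (iv3 F394575)) (tt N94974 (iv4 F406554)) (tt N51659 (iv5 D189861)) (tt N58599 F378029) (tt N87703 (iv7 F380195)))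
theorem Q87007 : ∀ i, i < 87007 → P i := stepQ 87006 Q87006 (allL N87006 (tt N87806 (iv1 F380588)) (tt N87805 F380584) (tt N51661 F378031) (tt N51715 F378032) (tt N91865 F394758) (tt N51660 (iv5 D189862)) (tt N115423 D218680) (tt N87804 (iv7 F380579)))
theorem Q87008 : ∀ i, i < 87008 → P i := stepQ 87007 Q87007 (allL N87007 (tt N87704 (iv1 F381190)) (tt N87762 F380412) (tt N51662 F378033) (tt N51716 F378034) (tt N54729 F378035) (tt N87328 (iv5 F379050)) (tt N51660 (iv6 D189863)) (tt N87763 (iv7 F380418)))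
theorem Q87009 : ∀ i, i < 87009 → P i := stepQ 87008 Q87008 (allL N87008 (tt N87804 (iv1 F380580)) (tt N51661 (iv0 D189864)) (tt N87806 F380590) (tt N80703 F378036) (tt N112862 (iv4 F483017)) (tt N87230 F378822) (tt N96935 (iv6 F414672)) (tt N87805 F380585))
theorem Q87010 : ∀ i, i < 87010 → P i := stepQ 87009 Q87009 (allL N87009 (tt N51661 (iv1 D189865)) (tt N87804 F380582) (tt N87805 (iv2 F380586)) (tt N87757 F380587) (tt N96559 (iv4 F412985)) (tt N87231 F381219) (tt N95577 (iv6 F408726)) (tt N87806 (iv7 F380589)))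
theorem Q87011 : ∀ i, i < 87011 → P i := stepQ 87010 Q87010 (allL N87010 (tt N91864 (iv1 F394756)) (tt N55551 F378038) (tt N91865 (iv2 F394759)) (tt N82003 F378037) (tt N51661 (iv4 D189866)) (tt N106972 (iv5 F456483)) (tt N115424 D218681) (tt N87807 (iv7 F380594)))
theorem Q87012 : ∀ i, i < 87012 → P i := stepQ 87011 Q87011 (allL N87011 (tt N115425 D218682) (tt N95588 (iv0 F408788)) (tt N115423 (iv2 F495121)) (tt N51664 F378039) (tt N115424 (iv4 F495125)) (tt N87330 (iv5 F379054)) (tt N51661 (iv6 D189867)) (tt N115426 D218683))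
theorem Q87013 : ∀ i, i < 87013 → P i := stepQ 87012 Q87012 (allL N87012 (tt N87763 (iv1 F380419)) (tt N51662 (iv0 D189868)) (tt N87704 (iv2 F381187)) (tt N91259 (iv3 F392435)) (tt N89092 (iv4 F385135)) (tt N87984 (iv5 F381378)) (tt N55054 F381192) (tt N87762 (iv7 F381188)))
theorem Q87014 : ∀ i, i < 87014 → P i := stepQ 87013 Q87013 (allL N87013 (tt N51662 (iv1 D189869)) (tt N87763 F380422) (tt N87762 F381184) (tt N83528 F381185) (tt N89176 (iv4 F385452)) (tt N87985 (iv5 F381384)) (tt N85705 (iv6 F381183)) (tt N87704 F381186))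
theorem Q87015 : ∀ i, i < 87015 → P i := stepQ 87014 Q87014 (allL N87014 (tt N51664 (iv1 D189870)) (tt N79473 F378040) (tt N79476 F378047) (tt N110971 (iv3 F474019)) (tt N66883 F378042) (tt N110970 F474016) (tt N81018 (iv6 F378044)) (tt N79474 F378041))
theorem Q87016 : ∀ i, i < 87016 → P i := stepQ 87015 Q87015 (allL N87015 (tt N79476 (iv1 F378050)) (tt N79474 F378051) (tt N79473 F378048) (tt N115426 (iv3 F495131)) (tt N65410 F378049) (tt N87334 (iv5 F379062)) (tt N87811 (iv6 F380616)) (tt N51664 (iv7 D189871)))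
theorem Q87017 : ∀ i, i < 87017 → P i := stepQ 87016 Q87016 (allL N87016 (tt N51665 (iv1 D189872)) (tt N51715 F378052) (tt N52708 (iv2 F378054)) (tt N87722 (iv3 F380260)) (tt N115427 D218684) (tt N52702 F378053) (tt N111066 (iv6 F474500)) (tt N87799 (iv7 F380554)))
theorem Q87018 : ∀ i, i < 87018 → P i := stepQ 87017 Q87017 (allL N87017 (tt N113509 F485838) (tt N95142 (iv0 F407216)) (tt N91926 (iv2 F394979)) (tt N51667 F378055) (tt N108671 (iv4 F463478)) (tt N85464 F378056) (tt N51665 (iv6 D189873)) (tt N115428 D218685))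
theorem Q87019 : ∀ i, i < 87019 → P i := stepQ 87018 Q87018 (allL N87018 (tt N100705 F430102) (tt N115057 (iv0 F493273)) (tt N82005 F378057) (tt N51666 (iv3 D189874)) (tt N112626 (iv4 F481892)) (tt N98502 (iv5 F421150)) (tt N80960 F378058) (tt N87802 (iv7 F380570)))
theorem Q87020 : ∀ i, i < 87020 → P i := stepQ 87019 Q87019 (allL N87019 (tt N87811 (iv1 F380618)) (tt N51667 (iv0 D189875)) (tt N87810 F380607) (tt N103219 (iv3 F440630)) (tt N68540 F378059) (tt N93178 (iv5 F399826)) (tt N96918 (iv6 F414610)) (tt N66673 (iv7 F378060)))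
theorem Q87021 : ∀ i, i < 87021 → P i := stepQ 87020 Q87020 (allL N87020 (tt N51667 (iv1 D189876)) (tt N87811 F380617) (tt N66673 F378063) (tt N58642 F378064) (tt N68537 F378061) (tt N93181 (iv5 F399834)) (tt N58641 (iv6 F378062)) (tt N87810 (iv7 F380608)))
theorem Q87022 : ∀ i, i < 87022 → P i := stepQ 87021 Q87021 (allL N87021 (tt N66673 (iv1 F378066)) (tt N87810 F380611) (tt N87811 (iv2 F380614)) (tt N115428 (iv3 F495141)) (tt N102277 (iv4 F436510)) (tt N104786 (iv5 F447264)) (tt N79473 F378065) (tt N51667 (iv7 D189877)))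
theorem Q87023 : ∀ i, i < 87023 → P i := stepQ 87022 Q87022 (allL N87022 (tt N59821 (iv1 F380198)) (tt N87703 F380197) (tt N51668 (iv2 D189878)) (tt N51717 F378067) (tt N91840 (iv4 F394641)) (tt N88370 (iv5 F382771)) (tt N59799 F378068) (tt N87816 (iv7 F380639)))
theorem Q87024 : ∀ i, i < 87024 → P i := stepQ 87023 Q87023 (allL N87023 (tt N91838 (iv1 F394632)) (tt N55157 F378069) (tt N91840 F394642) (tt N100802 (iv3 F430541)) (tt N51668 (iv4 D189879)) (tt N115429 D218686) (tt N95360 (iv6 F407989)) (tt N87817 (iv7 F380643)))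
theorem Q87025 : ∀ i, i < 87025 → P i := stepQ 87024 Q87024 (allL N87024 (tt N51670 (iv1 D189880)) (tt N87815 F380635) (tt N59810 (iv2 F378071)) (tt N95393 (iv3 F408092)) (tt N82434 F378070) (tt N99264 (iv5 F423869)) (tt N100695 (iv6 F430060)) (tt N87814 (iv7 F380630)))
theorem Q87026 : ∀ i, i < 87026 → P i := stepQ 87025 Q87025 (allL N87025 (tt N81853 F378075) (tt N81967 F378275) (tt N81965 F378076) (tt N82024 F378072) (tt N51671 (iv4 D189881)) (tt N115014 (iv5 F493057)) (tt N82403 F378073) (tt N81966 F378074))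
theorem Q87027 : ∀ i, i < 87027 → P i := stepQ 87026 Q87026 (allL N87026 (tt N66685 (iv1 F378081)) (tt N51673 (iv0 D189882)) (tt N81031 (iv2 F378080)) (tt N58562 F378083) (tt N95842 (iv4 F409898)) (tt N58558 F378079) (tt N100694 (iv6 F430049)) (tt N81029 F378082))
theorem Q87028 : ∀ i, i < 87028 → P i := stepQ 87027 Q87027 (allL N87027 (tt N91941 (iv1 F395046)) (tt N82362 F378089) (tt N55436 F378084) (tt N76878 F378085) (tt N51674 (iv4 D189883)) (tt N76539 F378088) (tt N76541 F378086) (tt N78589 F378087))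
theorem Q87029 : ∀ i, i < 87029 → P i := stepQ 87028 Q87028 (allL N87028 (tt N55463 F378094) (tt N51676 (iv0 D189884)) (tt N55461 (iv2 F378093)) (tt N97483 (iv3 F417038)) (tt N77027 F378091) (tt N84628 F378090) (tt N66702 F378092) (tt N55462 (iv7 F378096)))
theorem Q87030 : ∀ i, i < 87030 → P i := stepQ 87029 Q87029 (allL N87029 (tt N51676 (iv1 D189885)) (tt N55463 F378100) (tt N55462 F378105) (tt N95503 (iv3 F408385)) (tt N77028 F378102) (tt N84627 (iv5 F378103)) (tt N95541 (iv6 F408562)) (tt N55461 F378101))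
theorem Q87031 : ∀ i, i < 87031 → P i := stepQ 87030 Q87030 (allL N87030 (tt N55462 (iv1 F378109)) (tt N55461 F378110) (tt N55463 F378106) (tt N55567 F378107) (tt N66884 F378108) (tt N87438 (iv5 F379332)) (tt N87820 (iv6 F380661)) (tt N51676 (iv7 D189886)))
theorem Q87032 : ∀ i, i < 87032 → P i := stepQ 87031 Q87031 (allL N87031 (tt N83829 F378114) (tt N83831 (iv0 F378115)) (tt N54722 F378111) (tt N51678 F378112) (tt N98545 (iv4 F421273)) (tt N51677 (iv5 D189887)) (tt N99972 F427019) (tt N83838 F378113))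
theorem Q87033 : ∀ i, i < 87033 → P i := stepQ 87032 Q87032 (allL N87032 (tt N51679 (iv1 D189888)) (tt N54798 F378116) (tt N87821 (iv2 F380667)) (tt N54725 F378132) (tt N90643 (iv4 F390379)) (tt N98543 (iv5 F421261)) (tt N51686 (iv6 F378131)) (tt N87822 (iv7 F380671)))
theorem Q87034 : ∀ i, i < 87034 → P i := stepQ 87033 Q87033 (allL N87033 (tt N87253 F378890) (tt N87255 (iv0 F378906)) (tt N84397 F378117) (tt N51680 F378118) (tt N113712 (iv4 F486778)) (tt N51679 (iv5 D189889)) (tt N92195 (iv6 F396195)) (tt N84470 F378119))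
theorem Q87035 : ∀ i, i < 87035 → P i := stepQ 87034 Q87034 (allL N87034 (tt N76100 F378124) (tt N75664 F378123) (tt N84469 F378120) (tt N54733 F378121) (tt N111941 (iv4 F478785)) (tt N51681 (iv5 D189890)) (tt N99854 (iv6 F426555)) (tt N84347 F378122))
theorem Q87036 : ∀ i, i < 87036 → P i := stepQ 87035 Q87035 (allL N87035 (tt N51692 F378129) (tt N82989 F378130) (tt N82991 F378125) (tt N52986 F378126) (tt N86721 F378128) (tt N51686 (iv5 D189891)) (tt N104950 (iv6 F448100)) (tt N82992 F378127))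
theorem Q87037 : ∀ i, i < 87037 → P i := stepQ 87036 Q87036 (allL N87036 (tt N86395 (iv1 F378135)) (tt N51689 (iv0 D189892)) (tt N82751 (iv2 F378134)) (tt N87841 F380800) (tt N52297 F378133) (tt N105107 (iv5 F448824)) (tt N89795 (iv6 F387592)) (tt N53356 F378136))
theorem Q87038 : ∀ i, i < 87038 → P i := stepQ 87037 Q87037 (allL N87037 (tt N81814 (iv1 F378142)) (tt N79768 (iv0 F378141)) (tt N95102 (iv2 F407046)) (tt N64264 F378137) (tt N78433 F378140) (tt N51691 (iv5 D189893)) (tt N80239 F378138) (tt N80055 F378139))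
theorem Q87039 : ∀ i, i < 87039 → P i := stepQ 87038 Q87038 (allL N87038 (tt N108376 F462323) (tt N103897 F443263) (tt N85472 F378144) (tt N51693 F378145) (tt N108782 (iv4 F463906)) (tt N85460 F378146) (tt N51692 (iv6 D189894)) (tt N114078 (iv7 F488484)))
theorem Q87040 : ∀ i, i < 87040 → P i := stepQ 87039 Q87039 (allL N87039 (tt N82986 (iv1 F378150)) (tt N51693 (iv0 D189895)) (tt N82984 F417194) (tt N113790 (iv3 F487120)) (tt N88791 (iv4 F417182)) (tt N106413 (iv5 F454336)) (tt N110284 (iv6 F470835)) (tt N82985 (iv7 F417193)))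
theorem Q87041 : ∀ i, i < 87041 → P i := stepQ 87040 Q87040 (allL N87040 (tt N51693 (iv1 D189896)) (tt N82986 F378147) (tt N82985 (iv2 F417195)) (tt N104095 F444154) (tt N88792 F417196) (tt N105992 (iv5 F452654)) (tt N104094 (iv6 F444155)) (tt N82984 F417197))
theorem Q87042 : ∀ i, i < 87042 → P i := stepQ 87041 Q87041 (allL N87041 (tt N82985 (iv1 F378151)) (tt N82984 F378152) (tt N82986 F378148) (tt N114078 (iv3 F488482)) (tt N103390 (iv4 F441404)) (tt N91734 (iv5 F394242)) (tt N82997 F378149) (tt N51693 (iv7 D189897)))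
theorem Q87043 : ∀ i, i < 87043 → P i := stepQ 87042 Q87042 (allL N87042 (tt N82997 (iv1 F378158)) (tt N51694 (iv0 D189898)) (tt N82995 (iv2 F378154)) (tt N106954 (iv3 F456422)) (tt N86922 F378155) (tt N83056 F378153) (tt N86024 (iv6 F378157)) (tt N82996 F378156))
theorem Q87044 : ∀ i, i < 87044 → P i := stepQ 87043 Q87043 (allL N87043 (tt N82996 (iv1 F378161)) (tt N82995 F378162) (tt N82997 F378159) (tt N113783 (iv3 F487091)) (tt N115405 (iv4 F495025)) (tt N110243 (iv5 F470601)) (tt N82986 F378160) (tt N51694 (iv7 D189899)))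
theorem Q87045 : ∀ i, i < 87045 → P i := stepQ 87044 Q87044 (allL N87044 (tt N87786 (iv1 F380494)) (tt N51695 (iv0 D189900)) (tt N87788 F380504) (tt N103456 (iv3 F441715)) (tt N80083 F378164) (tt N80065 F378163) (tt N115430 D218687) (tt N87787 F380499))
theorem Q87046 : ∀ i, i < 87046 → P i := stepQ 87045 Q87045 (allL N87045 (tt N51695 (iv1 D189901)) (tt N87786 F380495) (tt N87787 (iv2 F380500)) (tt N92670 (iv3 F397826)) (tt N104595 (iv4 F446458)) (tt N80066 F378165) (tt N92669 F397827) (tt N87788 (iv7 F380502)))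
theorem Q87047 : ∀ i, i < 87047 → P i := stepQ 87046 Q87046 (allL N87046 (tt N87788 (iv1 F380501)) (tt N87787 F380498) (tt N51695 (iv2 D189902)) (tt N87852 (iv3 F380847)) (tt N68946 F378166) (tt N80052 F378167) (tt N68945 F378168) (tt N87786 (iv7 F380492)))
theorem Q87048 : ∀ i, i < 87048 → P i := stepQ 87047 Q87047 (allL N87047 (tt N51696 (iv1 D189903)) (tt N87854 F380863) (tt N69794 F378173) (tt N102417 (iv3 F437148)) (tt N69731 (iv4 F378170)) (tt N65720 (iv5 F378171)) (tt N102416 F437146) (tt N69792 F378169))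
theorem Q87049 : ∀ i, i < 87049 → P i := stepQ 87048 Q87048 (allL N87048 (tt N91088 F391877) (tt N58952 (iv0 F378176)) (tt N92567 (iv2 F397405)) (tt N51697 (iv3 D189904)) (tt N70591 F378175) (tt N69920 F378174) (tt N73269 (iv6 F378177)) (tt N87855 (iv7 F380867)))
theorem Q87050 : ∀ i, i < 87050 → P i := stepQ 87049 Q87049 (allL N87049 (tt N110285 (iv1 F470838)) (tt N110284 F470836) (tt N87857 (iv2 F380874)) (tt N73269 F378178) (tt N92717 (iv4 F397956)) (tt N101802 (iv5 F434406)) (tt N51697 (iv6 D189905)) (tt N82973 F378179))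
theorem Q87051 : ∀ i, i < 87051 → P i := stepQ 87050 Q87050 (allL N87050 (tt N53723 F378182) (tt N55360 (iv0 F378183)) (tt N83071 F378180) (tt N88377 (iv3 F382802)) (tt N114888 (iv4 F492358)) (tt N51698 (iv5 D189906)) (tt N101471 (iv6 F433063)) (tt N83113 F378181))
theorem Q87052 : ∀ i, i < 87052 → P i := stepQ 87051 Q87051 (allL N87051 (tt N55346 F378187) (tt N76199 F378188) (tt N83070 F378184) (tt N53485 F378185) (tt N91262 (iv4 F392440)) (tt N51699 (iv5 D189907)) (tt N101743 F434135) (tt N83196 F378186))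
theorem Q87053 : ∀ i, i < 87053 → P i := stepQ 87052 Q87052 (allL N87052 (tt N83466 (iv1 F378193)) (tt N83465 F378195) (tt N51703 F378189) (tt N53176 F378190) (tt N77461 F378192) (tt N51700 (iv5 D189908)) (tt N89644 (iv6 F387061)) (tt N83464 F378191))
theorem Q87054 : ∀ i, i < 87054 → P i := stepQ 87053 Q87053 (allL N87053 (tt N53858 F378199) (tt N53254 (iv0 F378200)) (tt N53855 F378196) (tt N54940 F378197) (tt N51701 (iv4 D189909)) (tt N80651 F378201) (tt N113496 (iv6 F485771)) (tt N53856 F378198))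
theorem Q87055 : ∀ i, i < 87055 → P i := stepQ 87054 Q87054 (allL N87054 (tt N83485 F378204) (tt N83064 F378205) (tt N83463 F378202) (tt N88385 (iv3 F382843)) (tt N115431 D218688) (tt N51701 (iv5 D189910)) (tt N115432 D218689) (tt N83462 F378203))
theorem Q87056 : ∀ i, i < 87056 → P i := stepQ 87055 Q87055 (allL N87055 (tt N83064 F378209) (tt N83485 (iv0 F378210)) (tt N83462 F378206) (tt N53494 F378207) (tt N107337 (iv4 F458005)) (tt N51702 (iv5 D189911)) (tt N115433 D218690) (tt N83463 F378208))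
theorem Q87057 : ∀ i, i < 87057 → P i := stepQ 87056 Q87056 (allL N87056 (tt N83464 (iv1 F378215)) (tt N51703 (iv0 D189912)) (tt N83466 F378901) (tt N100277 F428217) (tt N89352 (iv4 F386225)) (tt N82993 F378216) (tt N90861 (iv6 F391069)) (tt N83465 F378899))
theorem Q87058 : ∀ i, i < 87058 → P i := stepQ 87057 Q87057 (allL N87057 (tt N77930 F378222) (tt N53174 (iv0 F378223)) (tt N83166 F378217) (tt N51704 (iv3 D189913)) (tt N72665 F378221) (tt N53001 F378218) (tt N83312 F378219) (tt N72664 F378220))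
theorem Q87059 : ∀ i, i < 87059 → P i := stepQ 87058 Q87058 (allL N87058 (tt N54582 (iv1 F378227)) (tt N54579 F378228) (tt N55082 F378224) (tt N89506 (iv3 F386667)) (tt N88634 (iv4 F383658)) (tt N51707 F378225) (tt N54391 F378226) (tt N51706 (iv7 D189914)))
theorem Q87060 : ∀ i, i < 87060 → P i := stepQ 87059 Q87059 (allL N87059 (tt N87798 (iv1 F380550)) (tt N95459 F408256) (tt N51713 F378229) (tt N87709 (iv3 F380218)) (tt N72854 F378232) (tt N51708 (iv5 D189915)) (tt N51709 F378230) (tt N81033 F378231))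
theorem Q87061 : ∀ i, i < 87061 → P i := stepQ 87060 Q87060 (allL N87060 (tt N91930 (iv1 F394996)) (tt N91929 F394991) (tt N51718 F378234) (tt N101508 F433195) (tt N51709 (iv4 D189916)) (tt N93257 (iv5 F400158)) (tt N72854 F378235) (tt N91927 (iv7 F394982)))
theorem Q87062 : ∀ i, i < 87062 → P i := stepQ 87061 Q87061 (allL N87061 (tt N115368 (iv1 F494839)) (tt N115367 F494836) (tt N84045 F378236) (tt N76419 F378237) (tt N76421 (iv4 F378239)) (tt N51711 (iv5 D189917)) (tt N51847 F378238) (tt N95873 (iv7 F410038)))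
theorem Q87063 : ∀ i, i < 87063 → P i := stepQ 87062 Q87062 (allL N87062 (tt N75042 F378242) (tt N64374 (iv0 F378244)) (tt N62742 F378240) (tt N75028 (iv3 F378250)) (tt N51712 (iv4 D189918)) (tt N83939 F378245) (tt N84358 (iv6 F378249)) (tt N54728 F378241))
theorem Q87064 : ∀ i, i < 87064 → P i := stepQ 87063 Q87063 (allL N87063 (tt N94737 (iv1 F405760)) (tt N94740 (iv0 F405769)) (tt N87793 (iv2 F380522)) (tt N58633 F378251) (tt N89782 (iv4 F387536)) (tt N51712 (iv5 D189919)) (tt N111016 (iv6 F474268)) (tt N95139 (iv7 F407202)))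
theorem Q87065 : ∀ i, i < 87065 → P i := stepQ 87064 Q87064 (allL N87064 (tt N111768 (iv1 F477875)) (tt N113913 (iv0 F487756)) (tt N87794 (iv2 F380529)) (tt N115420 (iv3 F495104)) (tt N84358 F378252) (tt N115434 D218691) (tt N51712 (iv6 D189920)) (tt N84356 F378253))
theorem Q87066 : ∀ i, i < 87066 → P i := stepQ 87065 Q87065 (allL N87065 (tt N81033 (iv1 F378269)) (tt N51713 (iv0 D189921)) (tt N87798 (iv2 F380551)) (tt N59708 F380552) (tt N115435 D218692) (tt N102951 (iv5 F439404)) (tt N115436 D218693) (tt N95459 (iv7 F408253)))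
theorem Q87067 : ∀ i, i < 87067 → P i := stepQ 87066 Q87066 (allL N87066 (tt N56731 F378256) (tt N72856 (iv0 F378257)) (tt N72854 F378254) (tt N115437 D218694) (tt N51713 (iv4 D189922)) (tt N85399 (iv5 F378261)) (tt N51718 F378255) (tt N72855 (iv7 F378258)))
theorem Q87068 : ∀ i, i < 87068 → P i := stepQ 87067 Q87067 (allL N87067 (tt N95459 F408257) (tt N87798 (iv0 F380549)) (tt N81033 F378264) (tt N51727 F378265) (tt N72855 F378266) (tt N51714 F378267) (tt N80790 F378268) (tt N51713 (iv7 D189923)))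
theorem Q87069 : ∀ i, i < 87069 → P i := stepQ 87068 Q87068 (allL N87068 (tt N91870 (iv1 F394771)) (tt N55553 (iv0 F378270)) (tt N87801 (iv2 F380562)) (tt N115423 (iv3 F495122)) (tt N101142 F431903) (tt N114153 (iv5 F488770)) (tt N51715 (iv6 D189925)) (tt N91869 (iv7 F394767)))
theorem Q87070 : ∀ i, i < 87070 → P i := stepQ 87069 Q87069 (allL N87069 (tt N81967 (iv1 F378274)) (tt N81853 F378273) (tt N81966 F378271) (tt N115438 D218695) (tt N51717 (iv4 D189926)) (tt N89584 F386830) (tt N96497 F412765) (tt N81965 F378272))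
theorem Q87071 : ∀ i, i < 87071 → P i := stepQ 87070 Q87070 (allL N87070 (tt N107894 F460152) (tt N95302 (iv0 F412767)) (tt N87812 (iv2 F380619)) (tt N59799 F378276) (tt N96497 (iv4 F412764)) (tt N73705 F378277) (tt N51717 (iv6 D189927)) (tt N95361 (iv7 F407990)))
theorem Q87072 : ∀ i, i < 87072 → P i := stepQ 87071 Q87071 (allL N87071 (tt N51718 (iv1 D189929)) (tt N91927 F394986) (tt N91929 (iv2 F394995)) (tt N107819 F459840) (tt N91952 (iv4 F395105)) (tt N94514 (iv5 F404790)) (tt N115439 D218696) (tt N91930 (iv7 F394997)))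
theorem Q87073 : ∀ i, i < 87073 → P i := stepQ 87072 Q87072 (allL N87072 (tt N115440 D218697) (tt N112638 (iv0 F481948)) (tt N112532 (iv2 F481539)) (tt N51718 (iv3 D189930)) (tt N51734 F378278) (tt N107696 F459272) (tt N115437 (iv6 F495196)) (tt N91931 (iv7 F395007)))
theorem Q87074 : ∀ i, i < 87074 → P i := stepQ 87073 Q87073 (allL N87073 (tt N52607 F378285) (tt N75491 F378286) (tt N75326 F378280) (tt N63008 F378281) (tt N51722 F378282) (tt N78308 F378283) (tt N51720 (iv6 D189931)) (tt N75227 F378284))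
theorem Q87075 : ∀ i, i < 87075 → P i := stepQ 87074 Q87074 (allL N87074 (tt N51722 (iv1 D189932)) (tt N87751 F380368) (tt N87750 (iv2 F380362)) (tt N113913 (iv3 F487755)) (tt N66730 F378288) (tt N87279 F378961) (tt N66729 (iv6 F378289)) (tt N87746 (iv7 F380337)))
theorem Q87076 : ∀ i, i < 87076 → P i := stepQ 87075 Q87075 (allL N87075 (tt N87750 (iv1 F380358)) (tt N87746 F380339) (tt N87751 (iv2 F380364)) (tt N84368 F378290) (tt N75227 F378291) (tt N51867 F378292) (tt N75226 F378293) (tt N51722 (iv7 D189933)))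
theorem Q87077 : ∀ i, i < 87077 → P i := stepQ 87076 Q87076 (allL N87076 (tt N87203 (iv1 F378747)) (tt N87197 F378711) (tt N58886 F378294) (tt N59717 F378295) (tt N75246 F378297) (tt N51725 (iv5 D189934)) (tt N75245 F378298) (tt N52465 F378296))
theorem Q87078 : ∀ i, i < 87078 → P i := stepQ 87077 Q87077 (allL N87077 (tt N84566 (iv1 F378302)) (tt N51726 (iv0 D189935)) (tt N84567 (iv2 F378300)) (tt N95444 F408204) (tt N51987 F378299) (tt N96073 (iv5 F410916)) (tt N91305 (iv6 F392642)) (tt N55159 F378301))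
theorem Q87079 : ∀ i, i < 87079 → P i := stepQ 87078 Q87078 (allL N87078 (tt N73688 F378304) (tt N73686 (iv0 F378305)) (tt N109386 (iv2 F466700)) (tt N51726 (iv3 D189936)) (tt N115437 (iv4 F495194)) (tt N82132 F378306) (tt N51734 F378303) (tt N111482 (iv7 F476550)))
theorem Q87080 : ∀ i, i < 87080 → P i := stepQ 87079 Q87079 (allL N87079 (tt N97217 F415942) (tt N91609 F393773) (tt N87755 (iv2 F380382)) (tt N82132 F378308) (tt N77521 F378309) (tt N51726 (iv5 D189937)) (tt N114085 (iv6 F488527)) (tt N91619 F393790))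
theorem Q87081 : ∀ i, i < 87081 → P i := stepQ 87080 Q87080 (allL N87080 (tt N55159 (iv1 F378312)) (tt N84567 F378313) (tt N84566 F378310) (tt N111482 (iv3 F476547)) (tt N51727 F378311) (tt N91619 (iv5 F393789)) (tt N91936 (iv6 F395023)) (tt N51726 (iv7 D189938)))
theorem Q87082 : ∀ i, i < 87082 → P i := stepQ 87081 Q87081 (allL N87081 (tt N91190 (iv1 F392206)) (tt N51734 (iv0 D189939)) (tt N79463 (iv2 F378314)) (tt N71733 F378315) (tt N96435 (iv4 F412503)) (tt N114141 (iv5 F488721)) (tt N71730 (iv6 F378316)) (tt N91189 (iv7 F392202)))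
theorem Q87083 : ∀ i, i < 87083 → P i := stepQ 87082 Q87082 (allL N87082 (tt N79463 (iv1 F392205)) (tt N91189 F392204) (tt N51734 (iv2 D189940)) (tt N87761 (iv3 F380410)) (tt N112532 (iv4 F481540)) (tt N87364 F379125) (tt N109386 (iv6 F466702)) (tt N91190 (iv7 F392207)))
theorem Q87084 : ∀ i, i < 87084 → P i := stepQ 87083 Q87083 (allL N87083 (tt N115441 D218698) (tt N87185 F394506) (tt N87859 (iv2 F380878)) (tt N82937 F378317) (tt N115442 D218699) (tt N51735 (iv5 D189941)) (tt N104225 (iv6 F444795)) (tt N114089 (iv7 F488541)))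
theorem Q87085 : ∀ i, i < 87085 → P i := stepQ 87084 Q87084 (allL N87084 (tt N88130 (iv1 F381870)) (tt N66699 F378320) (tt N75946 F378318) (tt N113830 (iv3 F487333)) (tt N115443 D218700) (tt N51736 (iv5 D189942)) (tt N51737 F378319) (tt N115444 D218701))
theorem Q87086 : ∀ i, i < 87086 → P i := stepQ 87085 Q87085 (allL N87085 (tt N51957 (iv1 F378324)) (tt N51922 F378325) (tt N75947 F378321) (tt N113831 (iv3 F487335)) (tt N79106 F378322) (tt N115444 (iv5 F495225)) (tt N75947 F378323) (tt N51736 (iv7 D189943)))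
theorem Q87087 : ∀ i, i < 87087 → P i := stepQ 87086 Q87086 (allL N87086 (tt N115445 D218702) (tt N115446 D218703) (tt N87860 (iv2 F380880)) (tt N115447 D218704) (tt N51737 (iv4 D189944)) (tt N115448 D218705) (tt N115443 (iv6 F495221)) (tt N114090 (iv7 F488544)))
theorem Q87088 : ∀ i, i < 87088 → P i := stepQ 87087 Q87087 (allL N87087 (tt N77793 (iv1 F378331)) (tt N85575 (iv0 F378330)) (tt N53854 F378326) (tt N51739 F378327) (tt N81198 F378328) (tt N94952 F406479) (tt N51738 (iv6 D189945)) (tt N66691 F378329))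
theorem Q87089 : ∀ i, i < 87089 → P i := stepQ 87088 Q87088 (allL N87088 (tt N85713 F378336) (tt N73400 F378337) (tt N58538 F378332) (tt N94952 (iv3 F406475)) (tt N85731 F378333) (tt N51739 (iv5 D189946)) (tt N54909 F378334) (tt N66692 F378335))
theorem Q87090 : ∀ i, i < 87090 → P i := stepQ 87089 Q87089 (allL N87089 (tt N105253 (iv1 F449399)) (tt N79979 (iv0 F445254)) (tt N104326 (iv2 F445262)) (tt N51740 (iv3 D189947)) (tt N104324 F445253) (tt N97310 F416315) (tt N113723 (iv6 F486843)) (tt N87862 (iv7 F380886)))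
theorem Q87091 : ∀ i, i < 87091 → P i := stepQ 87090 Q87090 (allL N87090 (tt N75243 F378345) (tt N75231 F378343) (tt N75241 F378339) (tt N62830 (iv3 F378344)) (tt N51740 (iv4 D189948)) (tt N63805 F378342) (tt N73898 F378340) (tt N63804 F378341))
theorem Q87092 : ∀ i, i < 87092 → P i := stepQ 87091 Q87091 (allL N87091 (tt N88209 F382191) (tt N107597 (iv0 F458885)) (tt N87861 (iv2 F380881)) (tt N97310 (iv3 F416313)) (tt N115449 D218706) (tt N51740 (iv5 D189949)) (tt N97308 F416312) (tt N87863 (iv7 F380888)))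
theorem Q87093 : ∀ i, i < 87093 → P i := stepQ 87092 Q87092 (allL N87092 (tt N75231 (iv1 F378351)) (tt N75243 F378350) (tt N63804 F378346) (tt N63034 F378347) (tt N51741 (iv4 D189950)) (tt N61346 F378349) (tt N63032 (iv6 F378352)) (tt N75241 F378348))
theorem Q87094 : ∀ i, i < 87094 → P i := stepQ 87093 Q87093 (allL N87093 (tt N107597 (iv1 F458886)) (tt N88209 F382192) (tt N87863 (iv2 F380887)) (tt N83816 F378353) (tt N87613 (iv4 F379883)) (tt N51741 (iv5 D189951)) (tt N87612 (iv6 F379881)) (tt N87861 (iv7 F380883)))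
theorem Q87095 : ∀ i, i < 87095 → P i := stepQ 87094 Q87094 (allL N87094 (tt N66700 F378359) (tt N66694 (iv0 F378358)) (tt N66697 F378356) (tt N113717 (iv3 F486802)) (tt N63032 F378354) (tt N115450 D218707) (tt N51741 (iv6 D189952)) (tt N66698 F378355))
theorem Q87096 : ∀ i, i < 87096 → P i := stepQ 87095 Q87095 (allL N87095 (tt N87867 F380901) (tt N51742 (iv0 D189953)) (tt N87864 F393210) (tt N115451 D218708) (tt N110910 (iv4 F473744)) (tt N73815 F378360) (tt N110909 (iv6 F473742)) (tt N87865 (iv7 F393209)))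
theorem Q87097 : ∀ i, i < 87097 → P i := stepQ 87096 Q87096 (allL N87096 (tt N51742 (iv1 D189954)) (tt N87867 F380900) (tt N87865 (iv2 F393208)) (tt N108606 (iv3 F463223)) (tt N112717 (iv4 F482329)) (tt N75930 F378361) (tt N108604 F463217) (tt N87864 F393211))
theorem Q87098 : ∀ i, i < 87098 → P i := stepQ 87097 Q87097 (allL N87097 (tt N110913 F473760) (tt N97330 (iv0 F416377)) (tt N87866 (iv2 F380892)) (tt N60346 F378362) (tt N51742 (iv4 D189955)) (tt N98412 (iv5 F420859)) (tt N51751 F378363) (tt N97316 (iv7 F416325)))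
theorem Q87099 : ∀ i, i < 87099 → P i := stepQ 87098 Q87098 (allL N87098 (tt N87865 (iv1 F380891)) (tt N87864 F380899) (tt N87867 (iv2 F380896)) (tt N51762 F378364) (tt N97316 (iv4 F416323)) (tt N51743 F378365) (tt N115452 D218709) (tt N51742 (iv7 D189956)))
theorem Q87100 : ∀ i, i < 87100 → P i := stepQ 87099 Q87099 (allL N87099 (tt N86279 (iv1 F378369)) (tt N51744 (iv0 D189957)) (tt N82987 (iv2 F378368)) (tt N51763 F378367) (tt N82602 F378366) (tt N115262 (iv5 F494260)) (tt N82886 (iv6 F378371)) (tt N51898 F378370))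
theorem Q87101 : ∀ i, i < 87101 → P i := stepQ 87100 Q87100 (allL N87100 (tt N108635 (iv1 F463305)) (tt N86572 (iv0 F380117)) (tt N112059 (iv2 F479295)) (tt N51746 F378372) (tt N115453 D218710) (tt N51744 (iv5 D189958)) (tt N106734 (iv6 F455469)) (tt N87872 (iv7 F380917)))
theorem Q87102 : ∀ i, i < 87102 → P i := stepQ 87101 Q87101 (allL N87101 (tt N88109 F387242) (tt N111842 (iv0 F478259)) (tt N90786 (iv2 F390860)) (tt N51747 F378373) (tt N86293 F378374) (tt N84272 F378375) (tt N51744 (iv6 D189959)) (tt N90783 (iv7 F390847)))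
theorem Q87103 : ∀ i, i < 87103 → P i := stepQ 87102 Q87102 (allL N87102 (tt N114236 F489150) (tt N87620 (iv0 F393039)) (tt N87868 (iv2 F380902)) (tt N82944 F378376) (tt N114234 (iv4 F489134)) (tt N51745 (iv5 D189960)) (tt N99638 F425539) (tt N87874 (iv7 F380928)))
theorem Q87104 : ∀ i, i < 87104 → P i := stepQ 87103 Q87103 (allL N87103 (tt N87183 F381267) (tt N87621 (iv0 F379908)) (tt N87869 (iv2 F380904)) (tt N77711 F378377) (tt N51747 F378378) (tt N99653 (iv5 F425602)) (tt N51745 (iv6 D189961)) (tt N100347 (iv7 F428526)))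
theorem Q87105 : ∀ i, i < 87105 → P i := stepQ 87104 Q87104 (allL N87104 (tt N112452 (iv1 F481162)) (tt N112451 F481161) (tt N87870 (iv2 F380908)) (tt N106872 (iv3 F456086)) (tt N51746 (iv4 D189962)) (tt N115454 D218711) (tt N103221 F440645) (tt N87876 (iv7 F380936)))
theorem Q87106 : ∀ i, i < 87106 → P i := stepQ 87105 Q87105 (allL N87105 (tt N88287 (iv1 F423572)) (tt N108488 (iv0 F462801)) (tt N87871 (iv2 F380911)) (tt N106734 (iv3 F455468)) (tt N103221 (iv4 F440643)) (tt N91266 (iv5 F392455)) (tt N51746 (iv6 D189963)) (tt N111119 (iv7 F474767)))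
theorem Q87107 : ∀ i, i < 87107 → P i := stepQ 87106 Q87106 (allL N87106 (tt N87620 (iv1 F393040)) (tt N114236 (iv0 F489149)) (tt N87874 (iv2 F380927)) (tt N87607 (iv3 F379866)) (tt N114233 (iv4 F489126)) (tt N51748 (iv5 D189964)) (tt N111138 (iv6 F474878)) (tt N87868 (iv7 F380903)))
theorem Q87108 : ∀ i, i < 87108 → P i := stepQ 87107 Q87107 (allL N87107 (tt N115262 (iv1 F494263)) (tt N88153 (iv0 F381944)) (tt N114705 (iv2 F491435)) (tt N51749 (iv3 D189965)) (tt N115330 (iv4 F494624)) (tt N82817 F378379) (tt N115455 D218712) (tt N87880 (iv7 F380945)))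
theorem Q87109 : ∀ i, i < 87109 → P i := stepQ 87108 Q87108 (allL N87108 (tt N115456 D218713) (tt N115457 D218714) (tt N87878 (iv2 F380941)) (tt N115458 D218715) (tt N51749 (iv4 D189966)) (tt N115459 D218716) (tt N115460 D218717) (tt N87881 (iv7 F380951)))
theorem Q87110 : ∀ i, i < 87110 → P i := stepQ 87109 Q87109 (allL N87109 (tt N88314 (iv1 F494903)) (tt N112419 (iv0 F494902)) (tt N87879 (iv2 F380943)) (tt N115455 (iv3 F495274)) (tt N115460 (iv4 F495297)) (tt N114096 (iv5 F488551)) (tt N51749 (iv6 D189967)) (tt N115461 D218718))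
theorem Q87111 : ∀ i, i < 87111 → P i := stepQ 87110 Q87110 (allL N87110 (tt N115457 (iv1 F495284)) (tt N115456 F495278) (tt N87881 (iv2 F380950)) (tt N115462 D218719) (tt N51750 (iv4 D189968)) (tt N115463 D218720) (tt N82217 (iv6 F378991)) (tt N87878 (iv7 F380942)))
theorem Q87112 : ∀ i, i < 87112 → P i := stepQ 87111 Q87111 (allL N87111 (tt N111117 F474750) (tt N88205 (iv0 F382166)) (tt N87882 (iv2 F380952)) (tt N86867 F378380) (tt N82217 F378990) (tt N91459 (iv5 F393227)) (tt N51750 (iv6 D189969)) (tt N112433 (iv7 F481084)))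
theorem Q87113 : ∀ i, i < 87113 → P i := stepQ 87112 Q87112 (allL N87112 (tt N51751 (iv1 D189971)) (tt N85681 F378381) (tt N87884 (iv2 F445707)) (tt N115464 D218721) (tt N97238 F416022) (tt N114203 (iv5 F488967)) (tt N88204 (iv6 F416024)) (tt N87883 F445706))
theorem Q87114 : ∀ i, i < 87114 → P i := stepQ 87113 Q87113 (allL N87113 (tt N113668 F486552) (tt N115465 D218722) (tt N97320 (iv2 F416339)) (tt N51751 (iv3 D189972)) (tt N51776 F378382) (tt N115466 D218723) (tt N60346 F378383) (tt N87595 (iv7 F379839)))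
theorem Q87115 : ∀ i, i < 87115 → P i := stepQ 87114 Q87114 (allL N87114 (tt N115467 D218724) (tt N115468 D218725) (tt N87885 (iv2 F380960)) (tt N115466 (iv3 F495323)) (tt N114812 (iv4 F492005)) (tt N51751 (iv5 D189973)) (tt N95656 F414789) (tt N95438 F414786))
theorem Q87116 : ∀ i, i < 87116 → P i := stepQ 87115 Q87115 (allL N87115 (tt N87884 (iv1 F380955)) (tt N87883 F380954) (tt N85681 F378384) (tt N87595 (iv3 F379838)) (tt N51752 F378385) (tt N95438 (iv5 F414783)) (tt N95439 F414782) (tt N51751 (iv7 D189974)))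
theorem Q87117 : ∀ i, i < 87117 → P i := stepQ 87116 Q87116 (allL N87116 (tt N96959 (iv1 F414791)) (tt N79854 (iv0 F378390)) (tt N85682 F378387) (tt N51777 F378388) (tt N95439 (iv4 F414781)) (tt N85682 F378389) (tt N51752 (iv6 D189975)) (tt N115452 (iv7 F495264)))
theorem Q87118 : ∀ i, i < 87118 → P i := stepQ 87117 Q87117 (allL N87117 (tt N112465 (iv1 F481202)) (tt N99707 (iv0 F425840)) (tt N108640 (iv2 F463325)) (tt N51755 F378391) (tt N115469 D218726) (tt N51753 (iv5 D189976)) (tt N99705 F425826) (tt N52018 F378392))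
theorem Q87119 : ∀ i, i < 87119 → P i := stepQ 87118 Q87118 (allL N87118 (tt N90660 F390448) (tt N113908 F487732) (tt N54561 F378393) (tt N51756 F378394) (tt N78894 F378395) (tt N54558 (iv5 F378399)) (tt N51753 (iv6 D189977)) (tt N54566 (iv7 F378401)))
theorem Q87120 : ∀ i, i < 87120 → P i := stepQ 87119 Q87119 (allL N87119 (tt N51758 (iv1 F378413)) (tt N51755 (iv0 D189978)) (tt N52008 (iv2 F378412)) (tt N87381 (iv3 F379174)) (tt N115470 D218727) (tt N52521 F378411) (tt N115471 D218728) (tt N52009 F378414))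
theorem Q87121 : ∀ i, i < 87121 → P i := stepQ 87120 Q87120 (allL N87120 (tt N86866 (iv1 F378418)) (tt N114514 F490538) (tt N52010 F378415) (tt N100518 (iv3 F429286)) (tt N51755 (iv4 D189979)) (tt N83293 F378416) (tt N100517 (iv6 F429281)) (tt N52021 F378417))
theorem Q87122 : ∀ i, i < 87122 → P i := stepQ 87121 Q87121 (allL N87121 (tt N91360 (iv1 F392868)) (tt N91359 (iv0 F392863)) (tt N52011 F378419) (tt N99705 (iv3 F425827)) (tt N100517 (iv4 F429280)) (tt N54988 F378420) (tt N51755 (iv6 D189980)) (tt N108638 (iv7 F463318)))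
theorem Q87123 : ∀ i, i < 87123 → P i := stepQ 87122 Q87122 (allL N87122 (tt N51756 (iv1 D189981)) (tt N52014 F378421) (tt N52012 F378425) (tt N80103 (iv3 F378424)) (tt N66727 F378423) (tt N90988 (iv5 F391483)) (tt N87893 (iv6 F380999)) (tt N51986 F378422))
theorem Q87124 : ∀ i, i < 87124 → P i := stepQ 87123 Q87123 (allL N87123 (tt N52012 (iv1 F378431)) (tt N51986 F378432) (tt N52014 F378426) (tt N54566 F378427) (tt N75490 F378428) (tt N54564 F378429) (tt N52025 F378430) (tt N51756 (iv7 D189982)))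
theorem Q87125 : ∀ i, i < 87125 → P i := stepQ 87124 Q87124 (allL N87124 (tt N51757 (iv1 D189983)) (tt N52002 (iv0 F378439)) (tt N52001 (iv2 F378437)) (tt N105253 F449402) (tt N68502 F378436) (tt N79928 (iv5 F378438)) (tt N87888 F380978) (tt N51900 F378435))
theorem Q87126 : ∀ i, i < 87126 → P i := stepQ 87125 Q87125 (allL N87125 (tt N51900 (iv1 F378444)) (tt N52001 F378443) (tt N51757 (iv2 D189984)) (tt N52016 F378440) (tt N63838 F378441) (tt N58907 (iv5 F378445)) (tt N102257 (iv6 F436408)) (tt N52002 F378442))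
theorem Q87127 : ∀ i, i < 87127 → P i := stepQ 87126 Q87126 (allL N87126 (tt N60173 F378450) (tt N60171 (iv0 F378452)) (tt N58907 F378446) (tt N51758 F378447) (tt N57701 F378449) (tt N51757 (iv5 D189985)) (tt N97965 (iv6 F418992)) (tt N52004 F378448))
theorem Q87128 : ∀ i, i < 87128 → P i := stepQ 87127 Q87127 (allL N87127 (tt N66528 (iv1 F378455)) (tt N66527 F378457) (tt N66530 (iv2 F378454)) (tt N51759 (iv3 D189986)) (tt N92528 (iv4 F397253)) (tt N100647 (iv5 F429831)) (tt N92003 F395330) (tt N52030 F378453))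
theorem Q87129 : ∀ i, i < 87129 → P i := stepQ 87128 Q87128 (allL N87128 (tt N83295 F378461) (tt N86994 F378462) (tt N52027 F378458) (tt N95871 (iv3 F410026)) (tt N51759 (iv4 D189987)) (tt N98433 (iv5 F420910)) (tt N86404 F378459) (tt N52031 F378460))
theorem Q87130 : ∀ i, i < 87130 → P i := stepQ 87129 Q87129 (allL N87129 (tt N88076 (iv1 F381699)) (tt N79928 (iv0 F378468)) (tt N58915 F378463) (tt N51760 (iv3 D189988)) (tt N58911 F378464) (tt N55199 F378465) (tt N62484 F378466) (tt N52026 F378467))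
theorem Q87131 : ∀ i, i < 87131 → P i := stepQ 87130 Q87130 (allL N87130 (tt N51761 (iv1 D189989)) (tt N52038 F378469) (tt N52035 (iv2 F378471)) (tt N115472 D218729) (tt N87741 F380311) (tt N88452 (iv5 F383102)) (tt N93161 (iv6 F399732)) (tt N52034 F378470))
theorem Q87132 : ∀ i, i < 87132 → P i := stepQ 87131 Q87131 (allL N87131 (tt N52102 (iv1 F378475)) (tt N52101 F378476) (tt N52039 F378472) (tt N115452 (iv3 F495261)) (tt N87597 (iv4 F379844)) (tt N85685 F378473) (tt N51762 (iv6 D189990)) (tt N51777 F378474))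
theorem Q87133 : ∀ i, i < 87133 → P i := stepQ 87132 Q87132 (allL N87132 (tt N51771 F378479) (tt N52071 (iv0 F378480)) (tt N52041 F378477) (tt N115262 (iv3 F494258)) (tt N86719 (iv4 F378481)) (tt N51763 (iv5 D189991)) (tt N115473 D218730) (tt N51901 F378478))
theorem Q87134 : ∀ i, i < 87134 → P i := stepQ 87133 Q87133 (allL N87133 (tt N70698 F378484) (tt N105848 F452016) (tt N87530 (iv2 F379669)) (tt N68212 F378482) (tt N51765 (iv4 D189992)) (tt N68211 (iv5 F378485)) (tt N87529 (iv6 F379668)) (tt N52044 F378483))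
theorem Q87135 : ∀ i, i < 87135 → P i := stepQ 87134 Q87134 (allL N87134 (tt N87652 (iv1 F379998)) (tt N87655 F380004) (tt N52065 F378486) (tt N70680 F378487) (tt N51767 F378488) (tt N96782 (iv5 F413908)) (tt N51766 (iv6 D189993)) (tt N73784 F378489))
theorem Q87136 : ∀ i, i < 87136 → P i := stepQ 87135 Q87135 (allL N87135 (tt N51767 (iv1 D189994)) (tt N52069 F378490) (tt N52067 F378493) (tt N84691 F378494) (tt N115474 D218731) (tt N88190 (iv5 F382100)) (tt N52009 (iv6 F378492)) (tt N52066 F378491))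
theorem Q87137 : ∀ i, i < 87137 → P i := stepQ 87136 Q87136 (allL N87136 (tt N52067 (iv1 F378499)) (tt N52066 F378500) (tt N52069 F378496) (tt N96890 (iv3 F414462)) (tt N73784 F378497) (tt N91853 (iv5 F394700)) (tt N52056 F378498) (tt N51767 (iv7 D189995)))
theorem Q87138 : ∀ i, i < 87138 → P i := stepQ 87137 Q87137 (allL N87137 (tt N52057 (iv1 F378506)) (tt N51936 F378505) (tt N51768 (iv2 D189996)) (tt N52071 F378501) (tt N81609 F378502) (tt N83593 F378503) (tt N99679 F425705) (tt N52082 F378504))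
theorem Q87139 : ∀ i, i < 87139 → P i := stepQ 87138 Q87138 (allL N87138 (tt N59924 F378509) (tt N104089 (iv0 F444120)) (tt N96777 (iv2 F413879)) (tt N51769 (iv3 D189997)) (tt N96737 (iv4 F413692)) (tt N69588 F378507) (tt N70612 (iv6 F378510)) (tt N52085 F378508))
theorem Q87140 : ∀ i, i < 87140 → P i := stepQ 87139 Q87139 (allL N87139 (tt N108445 F462607) (tt N86545 (iv0 F378514)) (tt N52077 F378511) (tt N70612 F378512) (tt N51770 F378513) (tt N70611 (iv5 F378515)) (tt N51769 (iv6 D189998)) (tt N104842 (iv7 F447558)))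
theorem Q87141 : ∀ i, i < 87141 → P i := stepQ 87140 Q87140 (allL N87140 (tt N52081 (iv1 F378519)) (tt N51770 (iv0 D189999)) (tt N52078 F402370) (tt N83590 (iv3 F418571)) (tt N97863 (iv4 F418567)) (tt N115475 D218732) (tt N93906 (iv6 F402369)) (tt N52079 F402372))
theorem Q87142 : ∀ i, i < 87142 → P i := stepQ 87141 Q87141 (allL N87141 (tt N51770 (iv1 D190000)) (tt N52081 F378516) (tt N52079 F402373) (tt N112419 (iv3 F481019)) (tt N115476 D218733) (tt N115477 D218734) (tt N115354 F494755) (tt N52078 F402374))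
theorem Q87143 : ∀ i, i < 87143 → P i := stepQ 87142 Q87142 (allL N87142 (tt N52079 (iv1 F378520)) (tt N52078 F378521) (tt N52081 F378517) (tt N99678 (iv3 F425711)) (tt N104842 F447561) (tt N114122 (iv5 F488641)) (tt N52089 F378518) (tt N51770 (iv7 D190001)))
theorem Q87144 : ∀ i, i < 87144 → P i := stepQ 87143 Q87143 (allL N87143 (tt N51901 (iv1 F378526)) (tt N52041 F378525) (tt N51771 (iv2 D190002)) (tt N52082 F378522) (tt N105851 (iv4 F452028)) (tt N52310 F378523) (tt N97341 (iv6 F416426)) (tt N52071 F378524))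
theorem Q87145 : ∀ i, i < 87145 → P i := stepQ 87144 Q87144 (allL N87144 (tt N58927 F378528) (tt N109747 F468422) (tt N105851 (iv2 F452027)) (tt N68149 F378529) (tt N51771 (iv4 D190003)) (tt N70041 (iv5 F378530)) (tt N97345 (iv6 F416437)) (tt N52072 F378527))
theorem Q87146 : ∀ i, i < 87146 → P i := stepQ 87145 Q87145 (allL N87145 (tt N96942 (iv1 F414706)) (tt N68208 (iv0 F378539)) (tt N105909 (iv2 F452294)) (tt N51772 (iv3 D190004)) (tt N68149 F378536) (tt N86656 F378537) (tt N69486 (iv6 F378540)) (tt N52076 F378538))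
theorem Q87147 : ∀ i, i < 87147 → P i := stepQ 87146 Q87146 (allL N87146 (tt N104876 (iv1 F447760)) (tt N98301 (iv0 F420412)) (tt N52086 F378541) (tt N69486 F378542) (tt N51773 F378543) (tt N99554 (iv5 F425131)) (tt N51772 (iv6 D190005)) (tt N109255 (iv7 F466022)))
theorem Q87148 : ∀ i, i < 87148 → P i := stepQ 87147 Q87147 (allL N87147 (tt N52089 (iv1 F378546)) (tt N51773 (iv0 D190006)) (tt N52087 (iv2 F378544)) (tt N111117 (iv3 F474747)) (tt N93156 (iv4 F399704)) (tt N103951 (iv5 F443500)) (tt N111116 (iv6 F474741)) (tt N52088 F378545))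
theorem Q87149 : ∀ i, i < 87149 → P i := stepQ 87148 Q87148 (allL N87148 (tt N52088 (iv1 F378550)) (tt N52087 F378551) (tt N52089 F378547) (tt N97331 (iv3 F416379)) (tt N109255 (iv4 F466020)) (tt N55010 F378548) (tt N52081 F378549) (tt N51773 (iv7 D190007)))
theorem Q87150 : ∀ i, i < 87150 → P i := stepQ 87149 Q87149 (allL N87149 (tt N93991 (iv1 F402737)) (tt N115478 D218735) (tt N115479 D218736) (tt N51774 (iv3 D190008)) (tt N115480 D218737) (tt N76474 F378552) (tt N115313 (iv6 F494532)) (tt N52092 F378553))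
theorem Q87151 : ∀ i, i < 87151 → P i := stepQ 87150 Q87150 (allL N87150 (tt N97863 F418569) (tt N115476 (iv0 F495378)) (tt N52091 F378554) (tt N115313 (iv3 F494530)) (tt N83683 F378555) (tt N115481 D218738) (tt N51774 (iv6 D190009)) (tt N93168 (iv7 F399779)))
theorem Q87152 : ∀ i, i < 87152 → P i := stepQ 87151 Q87151 (allL N87151 (tt N87592 (iv1 F379835)) (tt N51776 (iv0 D190010)) (tt N87594 F398813) (tt N113684 (iv3 F486614)) (tt N115482 D218739) (tt N92012 (iv5 F395350)) (tt N97283 F416202) (tt N87593 F398811))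
theorem Q87153 : ∀ i, i < 87153 → P i := stepQ 87152 Q87152 (allL N87152 (tt N51776 (iv1 D190011)) (tt N87592 F379834) (tt N87593 (iv2 F398809)) (tt N96937 (iv3 F414679)) (tt N104931 (iv4 F448000)) (tt N92013 F395353) (tt N56454 F395354) (tt N87594 (iv7 F398812)))
theorem Q87154 : ∀ i, i < 87154 → P i := stepQ 87153 Q87153 (allL N87153 (tt N87594 (iv1 F379837)) (tt N87593 F379836) (tt N51776 (iv2 D190012)) (tt N52096 F378556) (tt N97320 (iv4 F416340)) (tt N87585 (iv5 F379812)) (tt N60206 F378557) (tt N87592 (iv7 F379833)))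
theorem Q87155 : ∀ i, i < 87155 → P i := stepQ 87154 Q87154 (allL N87154 (tt N52039 (iv1 F378558)) (tt N51777 (iv0 D190013)) (tt N52101 F379218) (tt N97319 (iv3 F416335)) (tt N86412 (iv4 F379212)) (tt N97318 F416334) (tt N86411 F379211) (tt N52102 (iv7 F379220)))
theorem Q87156 : ∀ i, i < 87156 → P i := stepQ 87155 Q87155 (allL N87155 (tt N51777 (iv1 D190014)) (tt N52039 F378559) (tt N52102 (iv2 F379222)) (tt N115483 D218740) (tt N115355 (iv4 F494758)) (tt N84700 (iv5 F378560)) (tt N112435 (iv6 F481100)) (tt N52101 F379221))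
theorem Q87157 : ∀ i, i < 87157 → P i := stepQ 87156 Q87156 (allL N87156 (tt N115484 D218741) (tt N88817 (iv0 F384242)) (tt N52108 F378561) (tt N88359 (iv3 F382729)) (tt N87545 (iv4 F379716)) (tt N68771 F378562) (tt N51778 (iv6 D190015)) (tt N115241 (iv7 F494172)))
theorem Q87158 : ∀ i, i < 87158 → P i := stepQ 87157 Q87157 (allL N87157 (tt N73627 F378567) (tt N86797 F378568) (tt N91252 F392411) (tt N51782 F378563) (tt N60270 F378564) (tt N74324 F378565) (tt N51779 (iv6 D190016)) (tt N78501 F378566))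
theorem Q87159 : ∀ i, i < 87159 → P i := stepQ 87158 Q87158 (allL N87158 (tt N93143 (iv1 F399659)) (tt N93136 (iv0 F399637)) (tt N52119 F378569) (tt N81546 F378570) (tt N86406 F378571) (tt N52235 F378572) (tt N51780 (iv6 D190017)) (tt N86405 F378573))
theorem Q87160 : ∀ i, i < 87160 → P i := stepQ 87159 Q87159 (allL N87159 (tt N92589 F397524) (tt N86662 (iv0 F378576)) (tt N109738 (iv2 F468361)) (tt N51781 (iv3 D190018)) (tt N104217 (iv4 F444752)) (tt N69634 F378574) (tt N109695 (iv6 F468151)) (tt N52143 F378575))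
theorem Q87161 : ∀ i, i < 87161 → P i := stepQ 87160 Q87160 (allL N87160 (tt N73749 (iv1 F378581)) (tt N73734 (iv0 F378580)) (tt N52124 F378577) (tt N109695 F468155) (tt N51782 F378578) (tt N73771 F378579) (tt N51781 (iv6 D190019)) (tt N98152 (iv7 F419730)))
theorem Q87162 : ∀ i, i < 87162 → P i := stepQ 87161 Q87161 (allL N87161 (tt N52128 (iv1 F378590)) (tt N51782 (iv0 D190020)) (tt N52125 (iv2 F378584)) (tt N91104 (iv3 F391947)) (tt N87520 (iv4 F379640)) (tt N57085 F378582) (tt N69450 F378583) (tt N52126 (iv7 F378585)))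
theorem Q87163 : ∀ i, i < 87163 → P i := stepQ 87162 Q87162 (allL N87162 (tt N51782 (iv1 D190021)) (tt N52128 F378586) (tt N52126 (iv2 F378589)) (tt N115485 D218742) (tt N87521 F379647) (tt N57083 F378588) (tt N115486 D218743) (tt N52125 F378587))
theorem Q87164 : ∀ i, i < 87164 → P i := stepQ 87163 Q87163 (allL N87163 (tt N52126 (iv1 F378594)) (tt N52125 F378595) (tt N52128 F378591) (tt N78501 F378592) (tt N98152 (iv4 F419726)) (tt N96048 (iv5 F410790)) (tt N52147 F378593) (tt N51782 (iv7 D190022)))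
theorem Q87165 : ∀ i, i < 87165 → P i := stepQ 87164 Q87164 (allL N87164 (tt N112438 (iv1 F481115)) (tt N115474 (iv0 F495367)) (tt N52144 F378596) (tt N105905 F452279) (tt N51784 F378597) (tt N93984 F402708) (tt N51783 (iv6 D190023)) (tt N115487 D218744))
theorem Q87166 : ∀ i, i < 87166 → P i := stepQ 87165 Q87165 (allL N87165 (tt N52147 (iv1 F378604)) (tt N51784 (iv0 D190024)) (tt N52145 F378609) (tt N115488 D218745) (tt N70816 (iv4 F378608)) (tt N81563 F378607) (tt N115489 D218746) (tt N52146 F378606))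
theorem Q87167 : ∀ i, i < 87167 → P i := stepQ 87166 Q87166 (allL N87166 (tt N51784 (iv1 D190025)) (tt N52147 F378598) (tt N52146 (iv2 F378600)) (tt N88368 F382762) (tt N87531 F379678) (tt N81562 F378599) (tt N100642 (iv6 F429805)) (tt N52145 (iv7 F378611)))
theorem Q87168 : ∀ i, i < 87168 → P i := stepQ 87167 Q87167 (allL N87167 (tt N52146 (iv1 F378605)) (tt N52145 F378612) (tt N52147 F378601) (tt N97199 (iv3 F415851)) (tt N115487 (iv4 F495445)) (tt N78500 F378602) (tt N52128 F378603) (tt N51784 (iv7 D190026)))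
theorem Q87169 : ∀ i, i < 87169 → P i := stepQ 87168 Q87168 (allL N87168 (tt N115490 D218747) (tt N86717 (iv0 F380949)) (tt N88033 (iv2 F381536)) (tt N115328 F494615) (tt N51785 (iv4 D190027)) (tt N115491 D218748) (tt N115419 (iv6 F495100)) (tt N88358 (iv7 F382727)))
theorem Q87170 : ∀ i, i < 87170 → P i := stepQ 87169 Q87169 (allL N87169 (tt N85758 F378614) (tt N85754 (iv0 F379788)) (tt N115191 (iv2 F493945)) (tt N51786 (iv3 D190028)) (tt N115328 (iv4 F494614)) (tt N87614 (iv5 F379885)) (tt N85165 F378613) (tt N87544 (iv7 F379711)))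
theorem Q87171 : ∀ i, i < 87171 → P i := stepQ 87170 Q87170 (allL N87170 (tt N112456 F481173) (tt N97238 (iv0 F416023)) (tt N87937 (iv2 F381233)) (tt N51789 F378615) (tt N115492 D218749) (tt N51788 (iv5 D190029)) (tt N109249 (iv6 F465988)) (tt N113630 (iv7 F486384)))
theorem Q87172 : ∀ i, i < 87172 → P i := stepQ 87171 Q87171 (allL N87171 (tt N115493 D218750) (tt N102991 (iv0 F439582)) (tt N111318 (iv2 F475792)) (tt N87940 (iv3 F381245)) (tt N108529 (iv4 F462961)) (tt N51790 (iv5 D190030)) (tt N102110 (iv6 F435777)) (tt N98080 (iv7 F419375)))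
theorem Q87173 : ∀ i, i < 87173 → P i := stepQ 87172 Q87172 (allL N87172 (tt N111790 F477990) (tt N115494 D218751) (tt N108320 (iv2 F462045)) (tt N66668 F378616) (tt N85776 F378617) (tt N102031 (iv5 F435449)) (tt N51790 (iv6 D190031)) (tt N115495 D218752))
theorem Q87174 : ∀ i, i < 87174 → P i := stepQ 87173 Q87173 (allL N87173 (tt N68474 F378621) (tt N75944 F378622) (tt N75942 F378618) (tt N51791 (iv3 D190032)) (tt N80489 F378619) (tt N115496 D218753) (tt N108335 (iv6 F462124)) (tt N75941 F378620))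
theorem Q87175 : ∀ i, i < 87175 → P i := stepQ 87174 Q87174 (allL N87174 (tt N102991 (iv1 F439583)) (tt N115493 F495483) (tt N98080 (iv2 F419373)) (tt N115496 (iv3 F495499)) (tt N115497 D218754) (tt N51791 (iv5 D190033)) (tt N115498 D218755) (tt N111318 (iv7 F475794)))
theorem Q87176 : ∀ i, i < 87176 → P i := stepQ 87175 Q87175 (allL N87175 (tt N66672 F418294) (tt N71826 F419245) (tt N98081 (iv2 F419376)) (tt N108335 (iv3 F462123)) (tt N85778 F378623) (tt N115499 D218756) (tt N51791 (iv6 D190034)) (tt N115500 D218757))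
theorem Q87177 : ∀ i, i < 87177 → P i := stepQ 87176 Q87176 (allL N87176 (tt N111315 (iv1 F475780)) (tt N51792 (iv0 D190035)) (tt N111313 F475766) (tt N87417 F379274) (tt N115501 D218758) (tt N85770 F378624) (tt N115502 D218759) (tt N111314 (iv7 F475770)))
theorem Q87178 : ∀ i, i < 87178 → P i := stepQ 87177 Q87177 (allL N87177 (tt N51792 (iv1 D190036)) (tt N111315 F475779) (tt N111314 F475773) (tt N115503 D218760) (tt N115504 D218761) (tt N85775 F378625) (tt N111464 (iv6 F476462)) (tt N111313 F475768))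
theorem Q87179 : ∀ i, i < 87179 → P i := stepQ 87178 Q87178 (allL N87178 (tt N114189 (iv1 F488909)) (tt N114188 F488908) (tt N111312 (iv2 F475761)) (tt N115505 D218762) (tt N51792 (iv4 D190037)) (tt N87959 (iv5 F381289)) (tt N51801 F378626) (tt N87958 F381287))
theorem Q87180 : ∀ i, i < 87180 → P i := stepQ 87179 Q87179 (allL N87179 (tt N111314 (iv1 F475769)) (tt N111313 F475774) (tt N111315 (iv2 F475775)) (tt N51824 F378627) (tt N87958 (iv4 F381286)) (tt N51793 F378628) (tt N114083 (iv6 F488515)) (tt N51792 (iv7 D190038)))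
theorem Q87181 : ∀ i, i < 87181 → P i := stepQ 87180 Q87180 (allL N87180 (tt N51797 (iv1 F378631)) (tt N51794 (iv0 D190039)) (tt N55507 (iv2 F378630)) (tt N87992 F381416) (tt N111782 (iv4 F477947)) (tt N55506 F378629) (tt N108506 F462887) (tt N91910 (iv7 F394926)))
theorem Q87182 : ∀ i, i < 87182 → P i := stepQ 87181 Q87181 (allL N87181 (tt N79268 F415602) (tt N111504 F476639) (tt N111309 (iv2 F475748)) (tt N87945 (iv3 F381260)) (tt N104992 (iv4 F448288)) (tt N100714 (iv5 F430152)) (tt N51794 (iv6 D190040)) (tt N104899 (iv7 F447850)))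
theorem Q87183 : ∀ i, i < 87183 → P i := stepQ 87182 Q87182 (allL N87182 (tt N115506 D218763) (tt N115507 D218764) (tt N87946 (iv2 F381261)) (tt N51797 F378632) (tt N115508 D218765) (tt N51796 (iv5 D190041)) (tt N104900 (iv6 F447852)) (tt N111307 (iv7 F475743)))
theorem Q87184 : ∀ i, i < 87184 → P i := stepQ 87183 Q87183 (allL N87183 (tt N114178 (iv1 F488861)) (tt N87103 (iv0 F381267)) (tt N87947 (iv2 F381263)) (tt N51798 F378633) (tt N87947 (iv4 F381265)) (tt N93568 (iv5 F401169)) (tt N51796 (iv6 D190042)) (tt N88342 (iv7 F382659)))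
theorem Q87185 : ∀ i, i < 87185 → P i := stepQ 87184 Q87184 (allL N87184 (tt N111622 F477192) (tt N115509 D218766) (tt N104039 (iv2 F443904)) (tt N87951 (iv3 F381272)) (tt N111776 (iv4 F477918)) (tt N69456 F378634) (tt N51799 (iv6 D190044)) (tt N104041 (iv7 F443909)))
theorem Q87186 : ∀ i, i < 87186 → P i := stepQ 87185 Q87185 (allL N87185 (tt N87083 (iv1 F394506)) (tt N114164 (iv0 F488813)) (tt N87952 (iv2 F381273)) (tt N51800 (iv3 D190045)) (tt N115510 D218767) (tt N91807 F394503) (tt N115511 D218768) (tt N111310 (iv7 F475753)))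
theorem Q87187 : ∀ i, i < 87187 → P i := stepQ 87186 Q87186 (allL N87186 (tt N51934 F395612) (tt N108531 (iv0 F462971)) (tt N111311 (iv2 F475754)) (tt N115511 (iv3 F495563)) (tt N97133 F415611) (tt N91809 (iv5 F394511)) (tt N51800 (iv6 D190046)) (tt N114110 (iv7 F488589)))
theorem Q87188 : ∀ i, i < 87188 → P i := stepQ 87187 Q87187 (allL N87187 (tt N87363 (iv1 F379120)) (tt N87362 F379133) (tt N87365 (iv2 F379129)) (tt N51801 (iv3 D190047)) (tt N51842 F378636) (tt N87353 (iv5 F379108)) (tt N115505 (iv6 F495540)) (tt N87352 F379105))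
theorem Q87189 : ∀ i, i < 87189 → P i := stepQ 87188 Q87188 (allL N87188 (tt N96760 F413823) (tt N75925 (iv0 F378641)) (tt N51804 F378637) (tt N51851 F378638) (tt N80186 F378639) (tt N63445 F378640) (tt N51802 (iv6 D190048)) (tt N114005 (iv7 F488161)))
theorem Q87190 : ∀ i, i < 87190 → P i := stepQ 87189 Q87189 (allL N87189 (tt N114005 F488164) (tt N51804 (iv0 D190049)) (tt N96760 (iv2 F413819)) (tt N75856 F378642) (tt N84134 F378643) (tt N96878 (iv5 F414407)) (tt N95846 F409927) (tt N75925 (iv7 F378644)))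
theorem Q87191 : ∀ i, i < 87191 → P i := stepQ 87190 Q87190 (allL N87190 (tt N51804 (iv1 D190050)) (tt N114005 (iv0 F488162)) (tt N75925 F378648) (tt N58509 (iv3 F378645)) (tt N84135 (iv4 F378646)) (tt N96838 (iv5 F414195)) (tt N58508 (iv6 F378647)) (tt N96760 (iv7 F413822)))
theorem Q87192 : ∀ i, i < 87192 → P i := stepQ 87191 Q87191 (allL N87191 (tt N75925 (iv1 F378653)) (tt N96760 F413824) (tt N114005 (iv2 F488158)) (tt N51808 F378649) (tt N74826 F378650) (tt N63492 F378651) (tt N83153 F378652) (tt N51804 (iv7 D190051)))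
theorem Q87193 : ∀ i, i < 87193 → P i := stepQ 87192 Q87192 (allL N87192 (tt N51820 (iv1 F378658)) (tt N66674 F378659) (tt N66676 F378654) (tt N83867 F378655) (tt N62732 F378656) (tt N87747 (iv5 F380342)) (tt N51805 (iv6 D190052)) (tt N66654 F378657))
theorem Q87194 : ∀ i, i < 87194 → P i := stepQ 87193 Q87193 (allL N87193 (tt N87797 (iv1 F380545)) (tt N54688 F378704) (tt N81703 F378660) (tt N67141 F378661) (tt N96136 (iv4 F411193)) (tt N51809 (iv5 D190053)) (tt N67139 F378663) (tt N81705 F378662))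
theorem Q87195 : ∀ i, i < 87195 → P i := stepQ 87194 Q87194 (allL N87194 (tt N51866 (iv1 F378668)) (tt N63996 (iv0 F378667)) (tt N64007 F378664) (tt N111773 F477901) (tt N55188 F378665) (tt N87741 (iv5 F380309)) (tt N51809 (iv6 D190054)) (tt N64008 (iv7 F378666)))
theorem Q87196 : ∀ i, i < 87196 → P i := stepQ 87195 Q87195 (allL N87195 (tt N51851 F378671) (tt N53889 (iv0 F378673)) (tt N53887 F378669) (tt N51810 (iv3 D190055)) (tt N83872 (iv4 F378672)) (tt N115512 D218769) (tt N95146 (iv6 F407230)) (tt N53886 F378670))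
theorem Q87197 : ∀ i, i < 87197 → P i := stepQ 87196 Q87196 (allL N87196 (tt N54688 F378703) (tt N87797 (iv0 F380544)) (tt N81705 F378701) (tt N115512 (iv3 F495570)) (tt N96141 (iv4 F411225)) (tt N51810 (iv5 D190056)) (tt N96797 (iv6 F413993)) (tt N81703 F378702))
theorem Q87198 : ∀ i, i < 87198 → P i := stepQ 87197 Q87197 (allL N87197 (tt N87076 (iv1 F378711)) (tt N51816 (iv0 F378708)) (tt N81706 F378705) (tt N95146 (iv3 F407227)) (tt N55191 F378706) (tt N58624 F378707) (tt N51810 (iv6 D190057)) (tt N88048 (iv7 F381577)))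
theorem Q87199 : ∀ i, i < 87199 → P i := stepQ 87198 Q87198 (allL N87198 (tt N83161 (iv1 F378727)) (tt N51811 (iv0 D190058)) (tt N83158 (iv2 F378728)) (tt N90374 F389446) (tt N55223 (iv4 F378730)) (tt N87001 F378726) (tt N115513 D218770) (tt N83159 (iv7 F378729)))
theorem Q87200 : ∀ i, i < 87200 → P i := stepQ 87199 Q87199 (allL N87199 (tt N51811 (iv1 D190059)) (tt N83161 F378731) (tt N83159 (iv2 F378734)) (tt N115514 D218771) (tt N55224 (iv4 F378735)) (tt N80470 F378733) (tt N115515 D218772) (tt N83158 F378732))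
theorem Q87201 : ∀ i, i < 87201 → P i := stepQ 87200 Q87200 (allL N87200 (tt N91475 (iv1 F393290)) (tt N77086 F378739) (tt N83160 F378736) (tt N54655 F378737) (tt N51811 (iv4 D190060)) (tt N93748 (iv5 F401753)) (tt N52191 F378738) (tt N90706 (iv7 F390576)))
theorem Q87202 : ∀ i, i < 87202 → P i := stepQ 87201 Q87201 (allL N87201 (tt N58516 (iv1 F378742)) (tt N51813 (iv0 D190061)) (tt N58513 (iv2 F378741)) (tt N75944 F378740) (tt N110339 (iv4 F471117)) (tt N115516 D218773) (tt N87961 (iv6 F381294)) (tt N58514 F378743))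
theorem Q87203 : ∀ i, i < 87203 → P i := stepQ 87202 Q87202 (allL N87202 (tt N115517 D218774) (tt N115518 D218775) (tt N58515 F378744) (tt N51815 F378745) (tt N115519 D218776) (tt N51813 (iv5 D190062)) (tt N58492 F378746) (tt N88049 (iv7 F381583)))
theorem Q87204 : ∀ i, i < 87204 → P i := stepQ 87203 Q87203 (allL N87203 (tt N51816 (iv1 D190063)) (tt N87076 F378747) (tt N88048 (iv2 F381581)) (tt N115494 F495490) (tt N72232 F378749) (tt N58625 (iv5 F378751)) (tt N64008 (iv6 F378750)) (tt N81706 F378748))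
theorem Q87205 : ∀ i, i < 87205 → P i := stepQ 87204 Q87204 (allL N87204 (tt N51817 (iv1 D190064)) (tt N51853 (iv0 F378756)) (tt N51855 F378754) (tt N61499 (iv3 F378753)) (tt N84153 F378755) (tt N87418 (iv5 F379277)) (tt N87967 (iv6 F381319)) (tt N51848 F378752))
theorem Q87206 : ∀ i, i < 87206 → P i := stepQ 87205 Q87205 (allL N87205 (tt N51848 (iv1 F378760)) (tt N51855 F378759) (tt N51817 (iv2 D190065)) (tt N58516 F378757) (tt N111339 (iv4 F475900)) (tt N112278 (iv5 F480323)) (tt N96759 (iv6 F413817)) (tt N51853 F378758))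
theorem Q87207 : ∀ i, i < 87207 → P i := stepQ 87206 Q87206 (allL N87206 (tt N79390 F378764) (tt N89799 F387600) (tt N111339 (iv2 F475903)) (tt N63752 F378761) (tt N51817 (iv4 D190066)) (tt N107315 (iv5 F457935)) (tt N75153 (iv6 F378763)) (tt N77651 F378762))
theorem Q87208 : ∀ i, i < 87208 → P i := stepQ 87207 Q87207 (allL N87207 (tt N112280 (iv1 F480328)) (tt N112279 F480326) (tt N112278 (iv2 F480320)) (tt N51819 F378766) (tt N112226 (iv4 F480139)) (tt N51817 (iv5 D190067)) (tt N112096 (iv6 F479475)) (tt N88047 (iv7 F381574)))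
theorem Q87209 : ∀ i, i < 87209 → P i := stepQ 87208 Q87208 (allL N87208 (tt N96758 (iv1 F413810)) (tt N96757 F413799) (tt N96759 (iv2 F413813)) (tt N51820 F378767) (tt N75153 F378768) (tt N104929 (iv5 F447989)) (tt N51817 (iv6 D190068)) (tt N96756 (iv7 F413794)))
theorem Q87210 : ∀ i, i < 87210 → P i := stepQ 87209 Q87209 (allL N87209 (tt N87239 (iv1 F378852)) (tt N69455 F378770) (tt N87240 (iv2 F378855)) (tt N108290 (iv3 F461911)) (tt N51819 (iv4 D190069)) (tt N91416 (iv5 F393043)) (tt N79643 (iv6 F378771)) (tt N52480 F378769))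
theorem Q87211 : ∀ i, i < 87211 → P i := stepQ 87210 Q87210 (allL N87210 (tt N91913 (iv1 F394940)) (tt N55511 (iv0 F378773)) (tt N88051 (iv2 F381591)) (tt N112096 (iv3 F479473)) (tt N79643 F378772) (tt N104426 (iv5 F445702)) (tt N51819 (iv6 D190070)) (tt N87232 (iv7 F378827)))
theorem Q87212 : ∀ i, i < 87212 → P i := stepQ 87211 Q87211 (allL N87211 (tt N80472 F378774) (tt N80469 F378775) (tt N88052 (iv2 F381595)) (tt N104929 (iv3 F447991)) (tt N88213 (iv4 F382200)) (tt N51820 (iv5 D190071)) (tt N104426 (iv6 F445700)) (tt N109251 (iv7 F465998)))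
theorem Q87213 : ∀ i, i < 87213 → P i := stepQ 87212 Q87212 (allL N87212 (tt N115516 F495597) (tt N113128 (iv0 F495120)) (tt N115520 D218777) (tt N51821 (iv3 D190072)) (tt N115521 D218778) (tt N115422 (iv5 F495116)) (tt N115522 D218779) (tt N88055 (iv7 F381609)))
theorem Q87214 : ∀ i, i < 87214 → P i := stepQ 87213 Q87213 (allL N87213 (tt N87387 (iv1 F379204)) (tt N52549 F378776) (tt N87384 F379185) (tt N115523 D218780) (tt N51821 (iv4 D190073)) (tt N103135 (iv5 F440234)) (tt N84498 (iv6 F393941)) (tt N87385 (iv7 F379189)))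
theorem Q87215 : ∀ i, i < 87215 → P i := stepQ 87214 Q87214 (allL N87214 (tt N84603 F378777) (tt N114111 F488597) (tt N88054 (iv2 F381605)) (tt N115522 (iv3 F495619)) (tt N84498 (iv4 F393940)) (tt N55297 F378778) (tt N51821 (iv6 D190074)) (tt N111499 (iv7 F476613)))
theorem Q87216 : ∀ i, i < 87216 → P i := stepQ 87215 Q87215 (allL N87215 (tt N51854 F379280) (tt N87418 (iv0 F379279)) (tt N115434 (iv2 F495176)) (tt N51822 (iv3 D190075)) (tt N115524 D218781) (tt N87794 (iv5 F380532)) (tt N111494 (iv6 F476595)) (tt N88053 (iv7 F381601)))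
theorem Q87217 : ∀ i, i < 87217 → P i := stepQ 87216 Q87216 (allL N87216 (tt N52549 F378780) (tt N87387 F379203) (tt N87385 (iv2 F379195)) (tt N74350 (iv3 F378781)) (tt N51822 (iv4 D190076)) (tt N74345 F378779) (tt N111495 (iv6 F476596)) (tt N87384 F379186))
theorem Q87218 : ∀ i, i < 87218 → P i := stepQ 87217 Q87217 (allL N87217 (tt N88057 (iv1 F381614)) (tt N51823 (iv0 D190077)) (tt N67030 (iv2 F378784)) (tt N115525 D218782) (tt N51927 F378783) (tt N66920 F378782) (tt N84605 (iv6 F378786)) (tt N66708 (iv7 F378785)))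
theorem Q87219 : ∀ i, i < 87219 → P i := stepQ 87218 Q87218 (allL N87218 (tt N51823 (iv1 D190078)) (tt N88057 F381613) (tt N66708 (iv2 F378793)) (tt N115526 D218783) (tt N51928 F378792) (tt N67031 (iv5 F378794)) (tt N111515 (iv6 F476671)) (tt N67030 F378791))
theorem Q87220 : ∀ i, i < 87220 → P i := stepQ 87219 Q87219 (allL N87219 (tt N110964 F473991) (tt N115527 D218784) (tt N115528 D218785) (tt N51823 (iv3 D190079)) (tt N115505 (iv4 F495539)) (tt N106113 (iv5 F453188)) (tt N51842 F378795) (tt N115529 D218786))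
theorem Q87221 : ∀ i, i < 87221 → P i := stepQ 87220 Q87220 (allL N87220 (tt N55004 F378798) (tt N81127 F378799) (tt N67056 F378796) (tt N106113 F453186) (tt N66923 F378797) (tt N51823 (iv5 D190080)) (tt N91935 (iv6 F395017)) (tt N67048 (iv7 F378800)))
theorem Q87222 : ∀ i, i < 87222 → P i := stepQ 87221 Q87221 (allL N87221 (tt N66708 (iv1 F378803)) (tt N67030 F378804) (tt N88057 (iv2 F381611)) (tt N115529 (iv3 F495650)) (tt N51824 F378801) (tt N67048 F378802) (tt N114086 (iv6 F488536)) (tt N51823 (iv7 D190081)))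
theorem Q87223 : ∀ i, i < 87223 → P i := stepQ 87222 Q87222 (allL N87222 (tt N88086 F381748) (tt N83684 (iv0 F378809)) (tt N84324 F378805) (tt N80678 F378806) (tt N51825 (iv4 D190082)) (tt N115530 D218787) (tt N83833 F378807) (tt N80675 F378808))
theorem Q87224 : ∀ i, i < 87224 → P i := stepQ 87223 Q87223 (allL N87223 (tt N88070 (iv1 F381677)) (tt N51836 F381205) (tt N88059 (iv2 F381621)) (tt N114164 (iv3 F488811)) (tt N115531 D218788) (tt N51825 (iv5 D190083)) (tt N115532 D218789) (tt N87927 (iv7 F381170)))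
theorem Q87225 : ∀ i, i < 87225 → P i := stepQ 87224 Q87224 (allL N87224 (tt N88063 (iv1 F381640)) (tt N88062 F381639) (tt N51827 F378810) (tt N51856 F378811) (tt N115533 D218790) (tt N51826 (iv5 D190084)) (tt N115534 D218791) (tt N88060 (iv7 F381628)))
theorem Q87226 : ∀ i, i < 87226 → P i := stepQ 87225 Q87225 (allL N87225 (tt N87933 (iv1 F381216)) (tt N110539 F472057) (tt N51828 F378812) (tt N51857 F378813) (tt N83932 F378814) (tt N87816 (iv5 F380638)) (tt N51826 (iv6 D190085)) (tt N88370 (iv7 F382773)))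
theorem Q87227 : ∀ i, i < 87227 → P i := stepQ 87226 Q87226 (allL N87226 (tt N88060 (iv1 F381629)) (tt N51827 (iv0 D190086)) (tt N88063 (iv2 F381642)) (tt N115507 F495549) (tt N74541 F400067) (tt N83527 F378815) (tt N115535 D218792) (tt N88062 F381647))
theorem Q87228 : ∀ i, i < 87228 → P i := stepQ 87227 Q87227 (allL N87227 (tt N51827 (iv1 D190087)) (tt N88060 (iv0 F381630)) (tt N88062 F381646) (tt N87985 F381386) (tt N115536 D218793) (tt N83528 (iv5 F380581)) (tt N112266 (iv6 F480281)) (tt N88063 (iv7 F381644)))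
theorem Q87229 : ∀ i, i < 87229 → P i := stepQ 87228 Q87228 (allL N87228 (tt N115537 D218794) (tt N91768 (iv0 F394358)) (tt N115533 (iv2 F495663)) (tt N80817 F378816) (tt N51827 (iv4 D190088)) (tt N81139 (iv5 F378818)) (tt N111398 (iv6 F476173)) (tt N81138 F378817))
theorem Q87230 : ∀ i, i < 87230 → P i := stepQ 87229 Q87229 (allL N87229 (tt N112262 F480264) (tt N95422 (iv0 F409001)) (tt N115534 (iv2 F495670)) (tt N51830 F378819) (tt N111398 (iv4 F476175)) (tt N87818 (iv5 F380648)) (tt N51827 (iv6 D190089)) (tt N111634 (iv7 F477234)))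
theorem Q87231 : ∀ i, i < 87231 → P i := stepQ 87230 Q87230 (allL N87230 (tt N88370 F382774) (tt N51828 (iv0 D190090)) (tt N87933 (iv2 F381212)) (tt N81555 F378821) (tt N81558 F378820) (tt N87008 (iv5 F378822)) (tt N52103 (iv6 F378823)) (tt N110539 (iv7 F472058)))
theorem Q87232 : ∀ i, i < 87232 → P i := stepQ 87231 Q87231 (allL N87231 (tt N51828 (iv1 D190091)) (tt N88370 F382775) (tt N110539 F472056) (tt N59822 (iv3 F381218)) (tt N107500 (iv4 F458548)) (tt N87009 (iv5 F381219)) (tt N91430 F393099) (tt N87933 F381217))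
theorem Q87233 : ∀ i, i < 87233 → P i := stepQ 87232 Q87232 (allL N87232 (tt N55497 F378828) (tt N84557 F378829) (tt N88058 (iv2 F381617)) (tt N80818 F378824) (tt N51830 F378825) (tt N81580 F378826) (tt N51829 (iv6 D190092)) (tt N87210 F378827))
theorem Q87234 : ∀ i, i < 87234 → P i := stepQ 87233 Q87233 (allL N87233 (tt N51839 F378832) (tt N51858 (iv0 F378833)) (tt N51860 F378830) (tt N87939 (iv3 F381240)) (tt N115538 D218795) (tt N51831 (iv5 D190093)) (tt N115539 D218796) (tt N51849 F378831))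
theorem Q87235 : ∀ i, i < 87235 → P i := stepQ 87234 Q87234 (allL N87234 (tt N84182 F378838) (tt N55090 F378837) (tt N51833 F378834) (tt N88060 (iv3 F381627)) (tt N85186 F378836) (tt N51832 (iv5 D190094)) (tt N115540 D218797) (tt N51856 F378835))
theorem Q87236 : ∀ i, i < 87236 → P i := stepQ 87235 Q87235 (allL N87235 (tt N51856 (iv1 F378841)) (tt N51833 (iv0 D190095)) (tt N84182 (iv2 F378842)) (tt N51874 F378839) (tt N101553 (iv4 F433373)) (tt N55091 F378840) (tt N101552 F433370) (tt N55090 (iv7 F378843)))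
theorem Q87237 : ∀ i, i < 87237 → P i := stepQ 87236 Q87236 (allL N87236 (tt N51833 (iv1 D190096)) (tt N51856 F378844) (tt N55090 (iv2 F378847)) (tt N87943 (iv3 F381257)) (tt N115541 D218798) (tt N55084 F378846) (tt N108526 (iv6 F462949)) (tt N84182 F378845))
theorem Q87238 : ∀ i, i < 87238 → P i := stepQ 87237 Q87237 (allL N87237 (tt N115542 D218799) (tt N115543 D218800) (tt N85186 F378848) (tt N95456 (iv3 F408247)) (tt N51833 (iv4 D190097)) (tt N84816 F378850) (tt N115544 D218801) (tt N84183 F378849))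
theorem Q87239 : ∀ i, i < 87239 → P i := stepQ 87238 Q87238 (allL N87238 (tt N115545 D218802) (tt N115546 D218803) (tt N115540 (iv2 F495698)) (tt N51835 F378851) (tt N115544 (iv4 F495718)) (tt N91651 (iv5 F393900)) (tt N51833 (iv6 D190098)) (tt N115547 D218804))
theorem Q87240 : ∀ i, i < 87240 → P i := stepQ 87239 Q87239 (allL N87239 (tt N51835 (iv1 D190099)) (tt N87209 F378852) (tt N88065 (iv2 F381655)) (tt N89246 (iv3 F385768)) (tt N84631 F378853) (tt N89243 (iv5 F385756)) (tt N84637 (iv6 F378854)) (tt N87498 (iv7 F379558)))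
theorem Q87241 : ∀ i, i < 87241 → P i := stepQ 87240 Q87240 (allL N87240 (tt N88065 (iv1 F381650)) (tt N87498 (iv0 F379560)) (tt N87209 F378855) (tt N115547 (iv3 F495720)) (tt N52467 F378856) (tt N103147 (iv5 F440293)) (tt N79323 F378857) (tt N51835 (iv7 D190100)))

end Cfsg.Agent.Helper17.ONTC
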